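import Mathlib
import Cfsg.Prelude.Def_Local

set_option autoImplicit false

namespace Cfsg.Agent.Helper21.PSolv

open Subgroup

theorem relIndex_subgroupOf_dvd {G : Type*} [Group G] (X Y B : Subgroup G) [X.Normal] :
    (X.subgroupOf B).relIndex (Y.subgroupOf B) ∣ X.relIndex Y := by
  have h1 : (X.subgroupOf B).relIndex (Y.subgroupOf B) = X.relIndex (Y ⊓ B) := by
    rw [← Subgroup.inf_subgroupOf_right Y B, Subgroup.relIndex_subgroupOf inf_le_right]
  rw [h1]
  have h2 : X.relIndex (Y ⊓ B) = (X.subgroupOf Y).relIndex ((Y ⊓ B).subgroupOf Y) := by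
    rw [Subgroup.relIndex_subgroupOf inf_le_left]
  rw [h2]
  exact Subgroup.relIndex_dvd_index_of_normal _ _

/-- Subgroups of `p`-soluble groups are `p`-soluble. -/
theorem isPSolvable_subgroup {G : Type*} [Group G] {p : ℕ} (hp : p.Prime)
    (hG : Cfsg.IsPSolvable p G) (B : Subgroup G) : Cfsg.IsPSolvable p B := by
  obtain ⟨n, H, h0, hlast, hmono, hnorm, hstep⟩ := hG
  refine ⟨n, fun i => (H i).subgroupOf B, ?_, ?_, ?_, ?_, ?_⟩
  · simp only [h0, Subgroup.bot_subgroupOf]
  · simp only [hlast, Subgroup.top_subgroupOf]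
  · intro i j hij
    exact Subgroup.comap_mono (hmono hij)
  · intro i
    have := hnorm i
    exact Subgroup.Normal.subgroupOf (hnorm i) B
  · intro i
    have := hnorm i.castSucc
    have hdvd := relIndex_subgroupOf_dvd (H i.castSucc) (H i.succ) B
    rcases hstep i with ⟨m, hm⟩ | hc
    · left
      rw [hm] at hdvd
      obtain ⟨m', -, hm'⟩ := (Nat.dvd_prime_pow hp).mp hdvd
      exact ⟨m', hm'⟩
    · right
      exact Nat.Coprime.coprime_dvd_left hdvd hc

end Cfsg.Agent.Helper21.PSolv
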