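import Mathlib
import Cfsg.Prelude.Def_Transfer
import Cfsg.Prelude.Def_Solvable
import Cfsg.Prelude.Def_SolvableStructure
import Cfsg.Agent.S0132
import Cfsg.Agent.Helper29.Schmidt
import Cfsg.Agent.Helper29.Schmidt2
import Cfsg.Agent.Helper29.NilpHall
import Cfsg.Agent.Helper9.NPCSub
import Cfsg.Agent.Helper23.Basic
import Cfsg.Agent.Helper23.PSeries
import Cfsg.Agent.Helper7.PPrimeCore
import Cfsg.Agent.Helper1.FrobeniusCompl
import Cfsg.Agent.Lead.Compl

set_option autoImplicit false
set_option linter.style.haveILetI false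

/-! # Normal `p`-complements and sections -/

namespace Cfsg.Agent.Helper21.NPCSections

open Subgroup

/-- `HasNormalPComplement` passes to homomorphic images. -/
theorem npc_of_surjective {A B : Type*} [Group A] [Group B] [Finite A] {p : ℕ} [Fact p.Prime]
    (f : A →* B) (hf : Function.Surjective f) (h : Cfsg.HasNormalPComplement p A) :
    Cfsg.HasNormalPComplement p B := by
  obtain ⟨P, N, hN, hc⟩ := h
  refine ⟨P.mapSurjective hf, N.map f, hN.map _ hf, ?_⟩
  rw [Sylow.coe_mapSurjective]
  apply Cfsg.Agent.Lead.isComplement'_map_of_coprime hc _ f hf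
  have h1 : (P : Subgroup A).index = Nat.card N := hc.index_eq_card
  rw [← h1]
  exact (P.card_coprime_index).symm

/-- A normal subgroup of order prime to `p` and `p`-power index is a normal `p`-complement. -/
theorem npc_of_normal_coprime {X : Type*} [Group X] [Finite X] {p : ℕ} [Fact p.Prime]
    (K : Subgroup X) (hK : K.Normal) (hc : (Nat.card K).Coprime p) (n : ℕ) (hn : K.index = p ^ n) :
    Cfsg.HasNormalPComplement p X := by
  have hp : p.Prime := Fact.out
  obtain ⟨P⟩ : Nonempty (Sylow p X) := inferInstance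
  refine ⟨P, K, hK, ?_⟩
  have hcard : Nat.card K * p ^ n = Nat.card X := by
    rw [← hn]; exact K.card_mul_index
  have hK0 : Nat.card K ≠ 0 := Nat.card_pos.ne'
  have hfac : (Nat.card X).factorization p = n := by
    rw [← hcard, Nat.factorization_mul hK0 (pow_pos hp.pos n).ne', Finsupp.add_apply,
      Nat.factorization_eq_zero_of_not_dvd ((Nat.Prime.coprime_iff_not_dvd hp).mp hc.symm),
      hp.factorization_pow, Finsupp.single_eq_same, zero_add]
  have hP : Nat.card P = p ^ n := by rw [P.card_eq_multiplicity, hfac]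
  apply isComplement'_of_coprime
  · rw [hP, hcard]
  · rw [hP]; exact hc.pow_right n

/-- If `X` has no normal `p`-complement but every proper quotient has one, then `O_{p'}(X) = 1`. -/
theorem pPrimeCore_eq_bot_of_min {X : Type*} [Group X] [Finite X] {p : ℕ} [Fact p.Prime]
    (F1 : ¬ Cfsg.HasNormalPComplement p X)
    (F3 : ∀ (N : Subgroup X) [N.Normal], N ≠ ⊥ → Cfsg.HasNormalPComplement p (X ⧸ N)) :
    Cfsg.pPrimeCore p X = ⊥ := by
  have hp : p.Prime := Fact.out
  by_contra hO
  have hOn : (Cfsg.pPrimeCore p X).Normal := inferInstance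
  obtain ⟨P, K, hKn, hc⟩ := F3 _ hO
  apply F1
  have hOc : (Nat.card (Cfsg.pPrimeCore p X)).Coprime p :=
    Cfsg.Agent.Helper23.pPrimeCore_card_coprime p X
  have hK'n : (K.comap (QuotientGroup.mk' (Cfsg.pPrimeCore p X))).Normal := hKn.comap _
  have hcard := Cfsg.Agent.Helper23.card_comap_mk' (Cfsg.pPrimeCore p X) K
  have hKc : (Nat.card K).Coprime p := by
    have h1 : (P : Subgroup (X ⧸ Cfsg.pPrimeCore p X)).index = Nat.card K := hc.index_eq_card
    rw [← h1]
    exact ((Nat.Prime.coprime_iff_not_dvd hp).mpr P.not_dvd_index).symm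
  obtain ⟨n, hn⟩ := IsPGroup.iff_card.mp P.2
  have hidx : (K.comap (QuotientGroup.mk' (Cfsg.pPrimeCore p X))).index = p ^ n := by
    rw [Subgroup.index_comap_of_surjective _ (QuotientGroup.mk'_surjective _), ← hn]
    exact hc.symm.index_eq_card
  exact npc_of_normal_coprime _ hK'n (by rw [hcard]; exact Nat.Coprime.mul_left hOc hKc) n hidx

/-- A group without normal `p`-complement all of whose proper subgroups and proper quotients
have one contains no element whose order is the exponent. -/
theorem no_exponent_elt {X : Type*} [Group X] [Finite X] {p : ℕ} [Fact p.Prime]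
    (F1 : ¬ Cfsg.HasNormalPComplement p X)
    (F2 : ∀ H : Subgroup X, H ≠ ⊤ → Cfsg.HasNormalPComplement p H)
    (F3 : ∀ (N : Subgroup X) [N.Normal], N ≠ ⊥ → Cfsg.HasNormalPComplement p (X ⧸ N))
    (k : X) (hk : orderOf k = Monoid.exponent X) : False := by
  have hp : p.Prime := Fact.out
  obtain ⟨hnil, hnn, hSyl⟩ := Cfsg.Agent.S0132.result F1 F2
  obtain ⟨r, q, hr, hq, hrq, R, Q, hRc, hQn, hRQ⟩ :=
    Cfsg.Agent.Helper29.schmidt_structure ⟨hnn, hnil⟩
  haveI : Fact r.Prime := ⟨hr⟩
  haveI : Fact q.Prime := ⟨hq⟩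
  have hdisj : Disjoint (R : Subgroup X) (Q : Subgroup X) :=
    IsPGroup.disjoint_of_ne r q hrq _ _ R.2 Q.2
  have hcompl : IsComplement' (R : Subgroup X) (Q : Subgroup X) := by
    apply isComplement'_of_disjoint_and_mul_eq_univ hdisj
    rw [← Subgroup.mul_normal, hRQ, Subgroup.coe_top]
  have hcard : Nat.card R * Nat.card Q = Nat.card X := hcompl.card_mul_card
  obtain ⟨a, ha⟩ := IsPGroup.iff_card.mp R.2
  obtain ⟨b, hb⟩ := IsPGroup.iff_card.mp Q.2
  have hqp : q = p := by
    by_contra hne
    by_cases hrp : r = p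
    · subst hrp
      exact hnn (Cfsg.Agent.Helper29.isNilpotent_of_normal_pgroups_sup hrq R.2 Q.2 (hSyl R) hQn hRQ)
    · apply F1
      refine npc_of_normal_coprime ⊤ inferInstance ?_ 0 (by simp)
      rw [Subgroup.card_top, ← hcard, ha, hb]
      apply Nat.Coprime.mul_left
      · exact Nat.Coprime.pow_left a ((Nat.coprime_primes hr hp).mpr hrp)
      · exact Nat.Coprime.pow_left b ((Nat.coprime_primes hq hp).mpr hne)
  subst hqp
  have hrq' : (r ^ a).Coprime q := Nat.Coprime.pow_left a ((Nat.coprime_primes hr hq).mpr hrq)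
  -- generator of R
  obtain ⟨g₀, hg₀⟩ := hRc.exists_generator
  have hg₀ord : orderOf (g₀ : X) = r ^ a := by
    rw [Subgroup.orderOf_coe, orderOf_eq_card_of_forall_mem_zpowers hg₀, ha]
  have hra_dvd : r ^ a ∣ orderOf k := by
    rw [hk, ← hg₀ord]; exact Monoid.order_dvd_exponent _
  have hQne : (Q : Subgroup X) ≠ ⊥ := by
    intro hbot
    apply hnn
    have hRtop : (R : Subgroup X) = ⊤ := by rw [← hRQ, hbot, sup_bot_eq]
    have : IsPGroup r X := by
      intro g
      obtain ⟨n, hn⟩ := R.2 ⟨g, hRtop ▸ Subgroup.mem_top g⟩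
      exact ⟨n, by simpa using congrArg Subtype.val hn⟩
    exact this.isNilpotent
  have hb1 : b ≠ 0 := by
    rintro rfl
    rw [pow_zero] at hb
    exact hQne (Subgroup.card_eq_one.mp hb)
  have hpdvd : q ∣ Nat.card X := by
    rw [← hcard, hb]
    exact Dvd.dvd.mul_left (dvd_pow_self q hb1) _
  obtain ⟨u₀, hu₀⟩ := exists_prime_orderOf_dvd_card' q hpdvd
  have hq_dvd : q ∣ orderOf k := by
    rw [hk, ← hu₀]; exact Monoid.order_dvd_exponent _
  have hkpos : 0 < orderOf k := orderOf_pos k
  obtain ⟨m, hm⟩ := hra_dvd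
  obtain ⟨m', hm'⟩ := hq_dvd
  have hm0 : m ≠ 0 := by rintro rfl; rw [mul_zero] at hm; omega
  have hm'0 : m' ≠ 0 := by rintro rfl; rw [mul_zero] at hm'; omega
  have hvord : orderOf (k ^ m) = r ^ a := by
    rw [orderOf_pow_of_dvd hm0 (Dvd.intro_left _ hm.symm), hm,
      Nat.mul_div_cancel _ (Nat.pos_of_ne_zero hm0)]
  have huord : orderOf (k ^ m') = q := by
    rw [orderOf_pow_of_dvd hm'0 (Dvd.intro_left _ hm'.symm), hm',
      Nat.mul_div_cancel _ (Nat.pos_of_ne_zero hm'0)]
  have huv : Commute (k ^ m') (k ^ m) := (Commute.refl k).pow_pow m' m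
  generalize k ^ m = v at hvord huv
  generalize k ^ m' = u at huord huv
  have hu1 : u ≠ 1 := by
    rintro rfl
    rw [orderOf_one] at huord
    exact hq.one_lt.ne huord
  have huQ : u ∈ (Q : Subgroup X) := by
    have h1 : IsPGroup q (Subgroup.zpowers u) :=
      IsPGroup.of_card (n := 1) (by rw [Nat.card_zpowers, huord, pow_one])
    obtain ⟨Q', hQ'⟩ := h1.exists_le_sylow
    have : Q' = Q := by
      haveI := Sylow.unique_of_normal Q hQn
      exact Subsingleton.elim _ _
    rw [← this]; exact hQ' (Subgroup.mem_zpowers u)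
  have hVcard : Nat.card (Subgroup.zpowers v) = r ^ a := by rw [Nat.card_zpowers, hvord]
  have hVQ : IsComplement' (Subgroup.zpowers v) (Q : Subgroup X) := by
    apply isComplement'_of_coprime
    · rw [hVcard, ← ha, hcard]
    · rw [hVcard, hb]; exact Nat.Coprime.pow_right b hrq'
  have hVQtop : Subgroup.zpowers v ⊔ Q = ⊤ := hVQ.sup_eq_top
  have hVr : IsPGroup r (Subgroup.zpowers v) := IsPGroup.of_card hVcard
  have hcentral : ∀ z : X, Commute z v → (∀ g ∈ (Q : Subgroup X), Commute z g) →
      z ∈ Subgroup.center X := by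
    intro z hzv hzQ
    have h1 : Subgroup.zpowers v ⊔ Q ≤ Subgroup.centralizer {z} := by
      apply sup_le
      · rw [Subgroup.zpowers_le, Subgroup.mem_centralizer_singleton_iff]
        exact hzv.eq.symm
      · intro g hg
        rw [Subgroup.mem_centralizer_singleton_iff]
        exact (hzQ g hg).eq.symm
    rw [hVQtop] at h1
    rw [Subgroup.mem_center_iff]
    intro g
    have := h1 (Subgroup.mem_top g)
    rw [Subgroup.mem_centralizer_singleton_iff] at this
    exact this
  have hnormal : ∀ N : Subgroup X, N ≤ Subgroup.center X → N.Normal := by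
    intro N hN
    refine ⟨fun n hn g => ?_⟩
    have := Subgroup.mem_center_iff.mp (hN hn) g
    rw [this, mul_inv_cancel_right]; exact hn
  -- Case A excluded
  have hcenQ : ∀ z ∈ (Q : Subgroup X), z ∈ Subgroup.center X → z = 1 := by
    intro z hzQ hzc
    by_contra hz1
    have hNc : Subgroup.zpowers z ≤ Subgroup.center X := by
      rw [Subgroup.zpowers_le]; exact hzc
    have hNn : (Subgroup.zpowers z).Normal := hnormal _ hNc
    have hNne : Subgroup.zpowers z ≠ ⊥ := by
      rw [Ne, Subgroup.zpowers_eq_bot]; exact hz1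
    have hNQ : Subgroup.zpowers z ≤ Q := by rw [Subgroup.zpowers_le]; exact hzQ
    haveI := hNn
    have hnpc := F3 _ hNne
    have hD : IsPGroup q ((Q : Subgroup X).map (QuotientGroup.mk' (Subgroup.zpowers z))) :=
      Q.2.map _
    haveI hDn : ((Q : Subgroup X).map (QuotientGroup.mk' (Subgroup.zpowers z))).Normal :=
      hQn.map _ (QuotientGroup.mk'_surjective _)
    have hvQ : ∀ y ∈ (Q : Subgroup X), Commute y v := by
      intro y hy
      have hvbar : Nat.Coprime (orderOf (QuotientGroup.mk' (Subgroup.zpowers z) v)) q := by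
        have h1 : orderOf (QuotientGroup.mk' (Subgroup.zpowers z) v) ∣ r ^ a :=
          hvord ▸ orderOf_map_dvd _ v
        exact Nat.Coprime.coprime_dvd_left h1 hrq'
      have h2 := Cfsg.Agent.Helper9.commute_of_hasNormalPComplement hnpc _ hD
        (QuotientGroup.mk' (Subgroup.zpowers z) v) hvbar
        (QuotientGroup.mk' (Subgroup.zpowers z) y) (Subgroup.mem_map_of_mem _ hy)
      have h3 : y * v * y⁻¹ * v⁻¹ ∈ Subgroup.zpowers z := by
        rw [← QuotientGroup.eq_one_iff (N := Subgroup.zpowers z)]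
        have : (QuotientGroup.mk' (Subgroup.zpowers z)) (y * v * y⁻¹ * v⁻¹) = 1 := by
          rw [map_mul, map_mul, map_mul, map_inv, map_inv, ← h2]; group
        exact this
      have h4 : y * v * y⁻¹ * v⁻¹ = 1 := by
        apply Cfsg.Agent.Helper23.comm_eq_one_of_coprime y v
        · exact (Subgroup.mem_center_iff.mp (hNc h3) v).symm
        · obtain ⟨n, hn⟩ := Q.2 ⟨_, hNQ h3⟩
          have h5 : orderOf (y * v * y⁻¹ * v⁻¹) ∣ q ^ n := by
            apply orderOf_dvd_of_pow_eq_one
            exact congrArg Subtype.val hn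
          rw [hvord]
          exact Nat.Coprime.coprime_dvd_right h5 (Nat.Coprime.pow_right n hrq')
      have h6 : y * v * y⁻¹ = v := mul_inv_eq_one.mp h4
      exact mul_inv_eq_iff_eq_mul.mp h6
    have hvc : v ∈ Subgroup.center X :=
      hcentral v (Commute.refl v) (fun g hg => (hvQ g hg).symm)
    have hVn : (Subgroup.zpowers v).Normal :=
      hnormal _ (by rw [Subgroup.zpowers_le]; exact hvc)
    exact hnn (Cfsg.Agent.Helper29.isNilpotent_of_normal_pgroups_sup hrq hVr Q.2 hVn hQn hVQtop)
  -- Case B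
  have hZ0 : Cfsg.Agent.Helper1.centerIn (Q : Subgroup X) ≠ ⊥ :=
    Cfsg.Agent.Helper1.centerIn_ne_bot Q.2 hQne
  have hZ0Q : Cfsg.Agent.Helper1.centerIn (Q : Subgroup X) ≤ Q := inf_le_left
  have hZ0c : ∀ z ∈ Cfsg.Agent.Helper1.centerIn (Q : Subgroup X), ∀ g ∈ (Q : Subgroup X),
      Commute z g := by
    intro z hz g hg
    have := (Subgroup.mem_inf.mp hz).2
    rw [Subgroup.mem_centralizer_iff] at this
    exact (this g hg).symm
  by_cases hY : Subgroup.zpowers v ⊔ Cfsg.Agent.Helper1.centerIn (Q : Subgroup X) = ⊤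
  · -- Q abelian
    haveI : (Cfsg.Agent.Helper1.centerIn (Q : Subgroup X)).Normal := by
      unfold Cfsg.Agent.Helper1.centerIn
      infer_instance
    have hQZ : ∀ g ∈ (Q : Subgroup X), g ∈ Cfsg.Agent.Helper1.centerIn (Q : Subgroup X) := by
      intro g hg
      have hg' : g ∈ Subgroup.zpowers v ⊔ Cfsg.Agent.Helper1.centerIn (Q : Subgroup X) := by
        rw [hY]; exact Subgroup.mem_top g
      obtain ⟨y, hy, z, hz, rfl⟩ := Subgroup.mem_sup_of_normal_right.mp hg'
      have hyQ : y ∈ (Q : Subgroup X) := by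
        have : y = (y * z) * z⁻¹ := by group
        rw [this]; exact Subgroup.mul_mem _ hg (Subgroup.inv_mem _ (hZ0Q hz))
      have hy1 : y = 1 := by
        have : y ∈ Subgroup.zpowers v ⊓ (Q : Subgroup X) := ⟨hy, hyQ⟩
        rw [hVQ.disjoint.eq_bot] at this
        exact this
      rw [hy1, one_mul]; exact hz
    have huc : u ∈ Subgroup.center X :=
      hcentral u huv (fun g hg => hZ0c u (hQZ u huQ) g hg)
    exact hu1 (hcenQ u huQ huc)
  · have hYnil := hnil _ hY
    have hcomm := Cfsg.Agent.Helper29.commute_of_le_nilpotent_of_coprime hYnil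
      (le_sup_right : Cfsg.Agent.Helper1.centerIn (Q : Subgroup X) ≤ _)
      (le_sup_left : Subgroup.zpowers v ≤ _) (Q.2.to_le hZ0Q)
      (by rw [hVcard]; exact hrq')
    apply hZ0
    rw [eq_bot_iff]
    intro z hz
    rw [Subgroup.mem_bot]
    apply hcenQ z (hZ0Q hz)
    exact hcentral z (hcomm z hz v (Subgroup.mem_zpowers v)) (hZ0c z hz)

end Cfsg.Agent.Helper21.NPCSections
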