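import Mathlib
import Cfsg.Agent.S4207

/-!
Automorphisms acting trivially on the Frattini quotient (helper21).
-/

set_option autoImplicit false

namespace Cfsg.Agent.Helper21.FrattiniAut

variable (P : Type*) [Group P]

/-- The action of `Aut P` on the Frattini quotient `P ⧸ Φ(P)`. -/
def frattiniQuotHom : MulAut P →* MulAut (P ⧸ frattini P) where
  toFun α := QuotientGroup.congr (frattini P) (frattini P) α
    (Subgroup.characteristic_iff_map_eq.mp frattini_characteristic α)
  map_one' := by
    apply MulEquiv.ext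
    intro x
    induction x using QuotientGroup.induction_on with
    | H x => rfl
  map_mul' α β := by
    apply MulEquiv.ext
    intro x
    induction x using QuotientGroup.induction_on with
    | H x => rfl

theorem frattiniQuotHom_apply (α : MulAut P) (x : P) :
    frattiniQuotHom P α (x : P ⧸ frattini P) = ((α x : P) : P ⧸ frattini P) := rfl

theorem mem_ker_frattiniQuotHom_iff (α : MulAut P) :
    α ∈ (frattiniQuotHom P).ker ↔ ∀ x : P, α x * x⁻¹ ∈ frattini P := by
  rw [MonoidHom.mem_ker]
  constructor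
  · intro hα x
    have h1 : frattiniQuotHom P α (x : P ⧸ frattini P) = (x : P ⧸ frattini P) := by rw [hα]; rfl
    rw [frattiniQuotHom_apply, QuotientGroup.eq] at h1
    have h2 : α x * x⁻¹ = (α x) * ((α x)⁻¹ * x)⁻¹ * (α x)⁻¹ := by group
    rw [h2]
    exact (inferInstance : (frattini P).Normal).conj_mem _ ((frattini P).inv_mem h1) _
  · intro h
    apply MulEquiv.ext
    intro x
    induction x using QuotientGroup.induction_on with
    | H x =>
      rw [frattiniQuotHom_apply]
      show ((α x : P) : P ⧸ frattini P) = (x : P ⧸ frattini P)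
      rw [QuotientGroup.eq]
      have h2 : (α x)⁻¹ * x = (α x)⁻¹ * (α x * x⁻¹)⁻¹ * (α x)⁻¹⁻¹ := by group
      rw [h2]
      exact (inferInstance : (frattini P).Normal).conj_mem _ ((frattini P).inv_mem (h x)) _

/-- For a finite `p`-group, automorphisms trivial on the Frattini quotient have `p`-power order. -/
theorem exists_pow_eq_one_of_mem_ker [Finite P] {p : ℕ} [Fact p.Prime] (hP : IsPGroup p P)
    (α : MulAut P) (hα : ∀ x : P, α x * x⁻¹ ∈ frattini P) : ∃ k : ℕ, α ^ p ^ k = 1 := by
  have hp : p.Prime := Fact.out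
  obtain ⟨n, hn⟩ := IsPGroup.iff_card.mp hP
  have hidx : (frattini P).index ∣ p ^ n := by rw [← hn]; exact Subgroup.index_dvd_card _
  obtain ⟨r, -, hr⟩ := (Nat.dvd_prime_pow hp).mp hidx
  have hdvd := Cfsg.Agent.S4207.result hn hr (frattiniQuotHom P).ker
    (fun β hβ => (mem_ker_frattiniQuotHom_iff P β).mp hβ)
  have hmem : α ∈ (frattiniQuotHom P).ker := (mem_ker_frattiniQuotHom_iff P α).mpr hα
  obtain ⟨k, -, hk⟩ := (Nat.dvd_prime_pow hp).mp hdvd
  refine ⟨k, ?_⟩
  have h1 : (⟨α, hmem⟩ : (frattiniQuotHom P).ker) ^ p ^ k = 1 := by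
    rw [← hk]; exact pow_card_eq_one'
  exact congrArg Subtype.val h1

end Cfsg.Agent.Helper21.FrattiniAut
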