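import Mathlib
import Cfsg.Prelude.Def_OddOrderLocal
import Cfsg.Agent.Helper19.Cores
import Cfsg.Agent.S1450
import Cfsg.Agent.S1451
import Cfsg.Agent.Helper7.Fitting
import Cfsg.Agent.Helper7.RankSylow

/-!
# B&G section 10, part (a): generic lemmas behind Theorem 10.2

* `sylow_le_commutator_of_control`: focal subgroup theorem + control of fusion in a perfect group.
* `hall_of_sylow_le_commutator`: a solvable group `M` of odd order, `π` a set of primes containing
  all primes of rank `≥ 3`, such that the Sylow `p`-subgroups for `p ∈ π` lie in `M'`: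
  `O_π(M)` is a Hall `π`-subgroup, `M/O_π(M)` has rank `≤ 2` and nilpotent derived subgroup.
-/

set_option autoImplicit false
set_option linter.unusedSectionVars false

namespace Cfsg.Agent.Helper21.BG10

open Subgroup
open scoped commutatorElement

theorem sylow_le_commutator_of_control {G : Type*} [Group G] [Finite G] {p : ℕ} [Fact p.Prime]
    (hperf : commutator G = ⊤) (M : Subgroup G) (Q : Sylow p G)
    (hQM : (Q : Subgroup G) ≤ M)
    (hctl : ∀ x ∈ (Q : Subgroup G), ∀ u : G, u * x * u⁻¹ ∈ (Q : Subgroup G) →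
      ∃ m ∈ M, u * x * u⁻¹ = m * x * m⁻¹) :
    (Q : Subgroup G) ≤ ⁅M, M⁆ := by
  have h1 : (Q : Subgroup G) = (Q : Subgroup G).focalSubgroup := by
    rw [← Subgroup.commutator_inf_eq_focalSubgroup Q, hperf, top_inf_eq]
  rw [h1, Subgroup.focalSubgroup_def, Subgroup.closure_le]
  rintro g ⟨hgQ, x, hxQ, u, rfl⟩
  have h2 : u * x * u⁻¹ ∈ (Q : Subgroup G) := by
    have e : u * x * u⁻¹ = (⁅x, u⁆ : G)⁻¹ * x := by
      rw [commutatorElement_def]; group
    rw [e]
    exact Subgroup.mul_mem _ (Subgroup.inv_mem _ hgQ) hxQ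
  obtain ⟨m, hm, hmx⟩ := hctl x hxQ u h2
  have e2 : (⁅x, u⁆ : G) = ⁅x, m⁆ := by
    have e3 : (⁅x, u⁆ : G) = x * (u * x * u⁻¹)⁻¹ := by
      rw [commutatorElement_def]; group
    rw [e3, hmx, commutatorElement_def]; group
  show ⁅x, u⁆ ∈ ⁅M, M⁆
  rw [e2]
  exact Subgroup.commutator_mem_commutator (hQM hxQ) hm


/-- A `q`-subgroup of a nilpotent normal subgroup lies in `O_q`. -/
theorem pGroup_le_pCore_of_le_nilpotent_normal {X : Type*} [Group X] [Finite X] {q : ℕ}
    [Fact q.Prime] (F : Subgroup X) [hFn : F.Normal] (hF : Group.IsNilpotent F)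
    (A : Subgroup X) (hA : IsPGroup q A) (hAF : A ≤ F) : A ≤ Cfsg.pCore q X := by
  have hA' : IsPGroup q (A.subgroupOf F) := hA.comap_subtype
  obtain ⟨R, hR⟩ := hA'.exists_le_sylow
  have hRn : (R : Subgroup F).Normal := inferInstance
  have h1 : ((R : Subgroup F).map F.subtype) ≤ Cfsg.pCore q X := by
    apply Cfsg.Agent.Helper7.subnormal_pGroup_le_pCore
    · exact Subgroup.IsSubnormal.trans' (Subgroup.Normal.isSubnormal hRn)
        (Subgroup.Normal.isSubnormal hFn)
    · exact R.isPGroup'.map _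
  calc A = (A.subgroupOf F).map F.subtype := (Subgroup.map_subgroupOf_eq_of_le hAF).symm
    _ ≤ (R : Subgroup F).map F.subtype := Subgroup.map_mono hR
    _ ≤ Cfsg.pCore q X := h1

/-- `O_q(M/O_π(M)) = 1` for `q ∈ π`. -/
theorem pCore_quotient_piCore_eq_bot {M : Type*} [Group M] [Finite M] (π : Set ℕ) (q : ℕ)
    [hq : Fact q.Prime] (hqπ : q ∈ π) : Cfsg.pCore q (M ⧸ Cfsg.piCore π M) = ⊥ := by
  set N := Cfsg.piCore π M with hN
  set K := (Cfsg.pCore q (M ⧸ N)).comap (QuotientGroup.mk' N) with hK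
  have hKn : K.Normal := by
    have : (Cfsg.pCore q (M ⧸ N)).Normal := Cfsg.pCore_normal q _
    exact Subgroup.Normal.comap inferInstance _
  have hKπ : Cfsg.Agent.Helper19.IsPiNum π (Nat.card K) := by
    intro r hr hrd
    have : Fact r.Prime := ⟨hr⟩
    obtain ⟨x, hx⟩ := exists_prime_orderOf_dvd_card' (G := K) r hrd
    by_contra hrπ
    have hrq : r ≠ q := fun h => hrπ (h ▸ hqπ)
    -- the image of x is a q-element of order dividing r
    have hxK : (QuotientGroup.mk' N (x : M)) ∈ Cfsg.pCore q (M ⧸ N) := x.2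
    have hqg : IsPGroup q (Cfsg.pCore q (M ⧸ N)) := Cfsg.Agent.Helper19.pCore_isPGroup q
    obtain ⟨k, hk⟩ := hqg ⟨_, hxK⟩
    have hk' : (QuotientGroup.mk' N (x : M)) ^ q ^ k = 1 := by
      have := congrArg Subtype.val hk
      simpa using this
    have hr' : (QuotientGroup.mk' N (x : M)) ^ r = 1 := by
      rw [← map_pow]
      have : (x : M) ^ r = 1 := by
        have h2 : x ^ r = 1 := by rw [← hx]; exact pow_orderOf_eq_one x
        have := congrArg Subtype.val h2
        simpa using this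
      rw [this, map_one]
    have hcop : Nat.Coprime r (q ^ k) := by
      apply Nat.Coprime.pow_right
      exact (Nat.coprime_primes hr hq.out).2 hrq
    have h1 : orderOf (QuotientGroup.mk' N (x : M)) ∣ 1 := by
      have ha := orderOf_dvd_of_pow_eq_one hr'
      have hb := orderOf_dvd_of_pow_eq_one hk'
      have := Nat.dvd_gcd ha hb
      rwa [hcop] at this
    have h2 : QuotientGroup.mk' N (x : M) = 1 := by
      rw [← orderOf_eq_one_iff]; exact Nat.dvd_one.mp h1
    have hxN : (x : M) ∈ N := by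
      rwa [QuotientGroup.mk'_apply, QuotientGroup.eq_one_iff] at h2
    -- so r divides card N
    have hrN : r ∣ Nat.card N := by
      have h3 : orderOf (⟨(x : M), hxN⟩ : N) = r := by
        rw [← hx]
        rw [← Subgroup.orderOf_coe (⟨(x : M), hxN⟩ : N), ← Subgroup.orderOf_coe x]
      rw [← h3]
      exact orderOf_dvd_natCard _
    exact hrπ (Cfsg.Agent.Helper19.piCore_isPiNum π r hr hrN)
  have hKN : K ≤ N := Cfsg.Agent.Helper19.le_piCore hKn hKπ
  have h3 : Cfsg.pCore q (M ⧸ N) = K.map (QuotientGroup.mk' N) := by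
    rw [hK, Subgroup.map_comap_eq_self_of_surjective (QuotientGroup.mk'_surjective N)]
  rw [h3, eq_bot_iff]
  calc K.map (QuotientGroup.mk' N) ≤ N.map (QuotientGroup.mk' N) := Subgroup.map_mono hKN
    _ = ⊥ := by
      exact QuotientGroup.map_mk'_self N


/-- If `q ∤ |X|` then `X` has `q`-rank `0`. -/
theorem pRankLE_of_not_dvd {X : Type*} [Group X] [Finite X] {q : ℕ} [hq : Fact q.Prime] (k : ℕ)
    (h : ¬ q ∣ Nat.card X) : Cfsg.PRankLE q k X := by
  intro A _ hAq
  have hA : IsPGroup q A := fun a => ⟨1, by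
    rw [pow_one]; apply Subtype.ext; rw [Subgroup.coe_pow]; exact hAq a a.2⟩
  obtain ⟨j, hj⟩ := IsPGroup.iff_card.mp hA
  have hj0 : j = 0 := by
    by_contra hne
    apply h
    have h1 : q ∣ Nat.card A := by rw [hj]; exact dvd_pow_self q hne
    exact h1.trans (Subgroup.card_subgroup_dvd_card A)
  rw [hj, hj0, pow_zero]
  exact Nat.one_le_pow _ _ hq.out.pos

/-- **Generic form of B&G Theorem 10.2(a),(d).** -/
theorem hall_of_sylow_le_commutator {M : Type*} [Group M] [Finite M] [hsol : Group.IsSolvable M]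
    (hodd : Odd (Nat.card M)) (π : Set ℕ)
    (hrank : ∀ q : ℕ, q.Prime → q ∉ π → Cfsg.PRankLE q 2 M)
    (hsyl : ∀ (p : ℕ) [Fact p.Prime], p ∈ π → ∃ P : Sylow p M, (P : Subgroup M) ≤ commutator M) :
    (∀ p : ℕ, p.Prime → p ∈ π → ¬ p ∣ (Cfsg.piCore π M).index) ∧
    Cfsg.RankLE 2 (M ⧸ Cfsg.piCore π M) ∧
    Group.IsNilpotent ↥((commutator M).map (QuotientGroup.mk' (Cfsg.piCore π M))) := by
  set N := Cfsg.piCore π M with hN
  have hNπ : Cfsg.Agent.Helper19.IsPiNum π (Nat.card N) := Cfsg.Agent.Helper19.piCore_isPiNum π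
  have hoddQ : Odd (Nat.card (M ⧸ N)) := by
    have h1 : Nat.card (M ⧸ N) ∣ Nat.card M := Subgroup.card_quotient_dvd_card N
    exact Odd.of_dvd_nat hodd h1
  -- ranks of the quotient at primes outside π
  have hq2 : ∀ q : ℕ, q.Prime → q ∉ π → Cfsg.PRankLE q 2 (M ⧸ N) := by
    intro q hq hqπ
    have : Fact q.Prime := ⟨hq⟩
    have hcop : (Nat.card N).Coprime q := by
      apply Nat.Coprime.symm
      rw [Nat.Prime.coprime_iff_not_dvd hq]
      exact fun h => hqπ (hNπ q hq h)
    exact Cfsg.Agent.S1450.pRankLE_quotient q 2 N hcop (hrank q hq hqπ)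
  have hOq : ∀ (q : ℕ) [Fact q.Prime], q ∈ π → Cfsg.pCore q (M ⧸ N) = ⊥ :=
    fun q _ hqπ => pCore_quotient_piCore_eq_bot π q hqπ
  -- the Fitting subgroup of the quotient has rank ≤ 2
  have hFn : (Cfsg.fittingSubgroup (M ⧸ N)).Normal :=
    Subgroup.sSup_normal _ (fun _ h => h.1)
  have hFnil : Group.IsNilpotent (Cfsg.fittingSubgroup (M ⧸ N)) :=
    Cfsg.Agent.Helper7.fittingSubgroup_isNilpotent
  have hFrank : Cfsg.RankLE 2 (Cfsg.fittingSubgroup (M ⧸ N)) := by
    intro q hq
    have : Fact q.Prime := ⟨hq⟩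
    by_cases hqπ : q ∈ π
    · intro A hAc hAq
      have hA : IsPGroup q A := fun a => ⟨1, by
        rw [pow_one]; apply Subtype.ext; rw [Subgroup.coe_pow]; exact hAq a a.2⟩
      have h1 : A.map (Cfsg.fittingSubgroup (M ⧸ N)).subtype ≤ Cfsg.pCore q (M ⧸ N) :=
        pGroup_le_pCore_of_le_nilpotent_normal (Cfsg.fittingSubgroup (M ⧸ N)) hFnil _
          (hA.map _) (Subgroup.map_subtype_le A)
      rw [hOq q hqπ, le_bot_iff] at h1
      have h2 : A = ⊥ := by
        rw [eq_bot_iff]
        intro a ha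
        have : ((a : M ⧸ N)) ∈ A.map (Cfsg.fittingSubgroup (M ⧸ N)).subtype := ⟨a, ha, rfl⟩
        rw [h1, Subgroup.mem_bot] at this
        rw [Subgroup.mem_bot]
        exact Subtype.ext this
      rw [h2, Subgroup.card_bot]
      exact Nat.one_le_pow _ _ hq.pos
    · exact Cfsg.Agent.Helper7.PRankLE.of_injective (Cfsg.fittingSubgroup (M ⧸ N)).subtype
        (Subgroup.subtype_injective _) (hq2 q hq hqπ)
  have hDnil : Group.IsNilpotent ↥(commutator (M ⧸ N)) :=
    (Cfsg.Agent.S1451.result hoddQ (Or.inr hFrank)).1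
  have hmapD : (commutator M).map (QuotientGroup.mk' N) = commutator (M ⧸ N) := by
    rw [commutator_def, commutator_def, Subgroup.map_commutator, ← MonoidHom.range_eq_map,
      MonoidHom.range_eq_top.mpr (QuotientGroup.mk'_surjective N)]
  -- Hall property
  have hHall : ∀ p : ℕ, p.Prime → p ∈ π → ¬ p ∣ N.index := by
    intro p hp hpπ
    have : Fact p.Prime := ⟨hp⟩
    obtain ⟨P, hP⟩ := hsyl p hpπ
    have h1 : (P : Subgroup M).map (QuotientGroup.mk' N) ≤ Cfsg.pCore p (M ⧸ N) := by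
      apply pGroup_le_pCore_of_le_nilpotent_normal (commutator (M ⧸ N)) hDnil _
        (P.isPGroup'.map _)
      rw [← hmapD]
      exact Subgroup.map_mono hP
    rw [hOq p hpπ, le_bot_iff] at h1
    have hPN : (P : Subgroup M) ≤ N := by
      intro x hx
      have : QuotientGroup.mk' N x ∈ (P : Subgroup M).map (QuotientGroup.mk' N) := ⟨x, hx, rfl⟩
      rw [h1, Subgroup.mem_bot, QuotientGroup.mk'_apply, QuotientGroup.eq_one_iff] at this
      exact this
    intro hdvd
    have h2 : N.index ∣ (P : Subgroup M).index := Subgroup.index_dvd_of_le hPN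
    exact P.not_dvd_index (hdvd.trans h2)
  refine ⟨hHall, ?_, ?_⟩
  · intro q hq
    have : Fact q.Prime := ⟨hq⟩
    by_cases hqπ : q ∈ π
    · apply pRankLE_of_not_dvd
      rw [← Subgroup.index_eq_card]
      exact hHall q hq hqπ
    · exact hq2 q hq hqπ
  · rw [hmapD]; exact hDnil

end Cfsg.Agent.Helper21.BG10
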