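import Mathlib
import Cfsg.Prelude.Def_OddOrderLocal
import Cfsg.Agent.Helper21.BG10a
import Cfsg.Agent.Helper18.L2Max1
import Cfsg.Agent.Lead.BG9f

/-!
# B&G section 10, part (b): `α(M) ⊆ σ(M)`, Sylow `σ(M)`-subgroups lie in `M'`

Everything here is stated relative to the *statements* of the Uniqueness Theorem (B&G 9.6 = S1403)
and of Lemma 10.1(a) (= S1404), packaged as the hypotheses `Uniq96 G` and `Ctl101 G`.
-/

set_option autoImplicit false
set_option linter.unusedSectionVars false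

namespace Cfsg.Agent.Helper21.BG10

open Subgroup
open scoped commutatorElement

universe u

/-- The statement of the Uniqueness Theorem (B&G 9.6, S1403) for `G`. -/
def Uniq96 (G : Type u) [Group G] : Prop :=
  ∀ K : Subgroup G, K ≠ ⊤ → ¬ Cfsg.RankLE 1 K →
    (¬ Cfsg.RankLE 2 K ∨ ¬ Cfsg.RankLE 2 (Subgroup.centralizer (K : Set G))) →
    Cfsg.InUniqueMaximal K

/-- The statement of B&G Lemma 10.1(a) (first half of S1404) for `G`. -/
def Ctl101 (G : Type u) [Group G] : Prop :=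
  ∀ M : Subgroup G, IsCoatom M → ∀ (p : ℕ) [Fact p.Prime], p ∈ Cfsg.sigma M →
    ∀ X : Subgroup G, IsPGroup p X → X ≠ ⊥ → X ≤ M →
      ∀ g : G, X.map (MulAut.conj g).toMonoidHom ≤ M →
        ∃ m ∈ M, ∃ c ∈ Subgroup.centralizer (X : Set G), g = m * c

variable {G : Type u} [Group G] [Finite G]

theorem commutator_eq_top_of_minSimple (hG : Cfsg.IsMinSimpleOddOrder G) : commutator G = ⊤ := by
  have hS : IsSimpleGroup G := hG.2.1
  rcases (inferInstance : (commutator G).Normal).eq_bot_or_eq_top with h | h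
  · exfalso
    apply hG.2.2.1
    refine ⟨⟨fun a b => ?_⟩⟩
    have : a * b * a⁻¹ * b⁻¹ ∈ commutator G := by
      have h1 := Subgroup.commutator_mem_commutator (Subgroup.mem_top a) (Subgroup.mem_top b)
      rwa [commutatorElement_def] at h1
    rw [h, Subgroup.mem_bot] at this
    have h2 : a * b = (a * b * a⁻¹ * b⁻¹) * (b * a) := by group
    rw [h2, this, one_mul]
  · exact h

/-- A proper nontrivial subgroup of a simple group has a proper normalizer, contained in a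
maximal subgroup. -/
theorem exists_coatom_normalizer_le (hS : IsSimpleGroup G) {X : Subgroup G} (hX1 : X ≠ ⊥)
    (hXt : X ≠ ⊤) : ∃ L : Subgroup G, IsCoatom L ∧ Subgroup.normalizer (X : Set G) ≤ L := by
  have hN : Subgroup.normalizer (X : Set G) ≠ ⊤ := by
    intro h
    have hXn : X.Normal := Subgroup.normalizer_eq_top_iff.mp h
    rcases hXn.eq_bot_or_eq_top with h1 | h1
    · exact hX1 h1
    · exact hXt h1
  rcases eq_top_or_exists_le_coatom (Subgroup.normalizer (X : Set G)) with h | ⟨L, hL, hle⟩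
  · exact absurd h hN
  · exact ⟨L, hL, hle⟩

/-- A subgroup in a unique maximal subgroup `M`: its normalizer lies in `M`. -/
theorem normalizer_le_of_inUniqueMaximal (hS : IsSimpleGroup G) {X M : Subgroup G}
    (hM : IsCoatom M) (hXM : X ≤ M) (hX1 : X ≠ ⊥) (hU : Cfsg.InUniqueMaximal X) :
    Subgroup.normalizer (X : Set G) ≤ M := by
  have hXt : X ≠ ⊤ := fun h => hM.1 (top_le_iff.mp (h ▸ hXM))
  obtain ⟨L, hL, hle⟩ := exists_coatom_normalizer_le hS hX1 hXt
  have hLM : L = M := hU.unique ⟨hL, Subgroup.le_normalizer.trans hle⟩ ⟨hM, hXM⟩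
  exact hLM ▸ hle


theorem rankLE_one_imp_two {X : Type*} [Group X] (h : Cfsg.RankLE 1 X) : Cfsg.RankLE 2 X := by
  intro p hp
  have : Fact p.Prime := ⟨hp⟩
  exact Cfsg.Agent.Lead.BG8.pRankLE_mono (by norm_num) (h p hp)

/-- For `p ∈ α(M)` every Sylow `p`-subgroup of `M` containing a witness has rank `≥ 3`;
some Sylow `p`-subgroup `P` of `M` has `N_G(P) ≤ M`. -/
theorem alpha_subset_sigma (hG : Cfsg.IsMinSimpleOddOrder G) (h96 : Uniq96 G) {M : Subgroup G}
    (hM : IsCoatom M) : Cfsg.alpha M ⊆ Cfsg.sigma M := by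
  rintro p ⟨hp, hr⟩
  have : Fact p.Prime := ⟨hp⟩
  have hS : IsSimpleGroup G := hG.2.1
  unfold Cfsg.PRankLE at hr
  push Not at hr
  obtain ⟨A, hAc, hAp, hAcard⟩ := hr
  have hApg : IsPGroup p A := fun a => ⟨1, by
    rw [pow_one]; apply Subtype.ext; rw [Subgroup.coe_pow]; exact hAp a a.2⟩
  obtain ⟨P, hAP⟩ := hApg.exists_le_sylow
  set P' := (P : Subgroup M).map M.subtype with hP'
  have hP'M : P' ≤ M := Subgroup.map_subtype_le _
  have hPcard : p ^ 2 < Nat.card P' := by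
    rw [hP', Subgroup.card_map_of_injective (Subgroup.subtype_injective M)]
    exact lt_of_lt_of_le hAcard (Subgroup.card_le_of_le hAP)
  have hpM : p ∣ Nat.card M := by
    have h1 : Nat.card P' ∣ Nat.card M := Subgroup.card_dvd_of_le hP'M
    have hPp : IsPGroup p P' := P.isPGroup'.map _
    obtain ⟨j, hj⟩ := IsPGroup.iff_card.mp hPp
    have hj0 : j ≠ 0 := by
      rintro rfl
      rw [hj, pow_zero] at hPcard
      have := Nat.one_le_pow 2 p hp.pos
      omega
    exact (hj ▸ dvd_pow_self p hj0 : p ∣ Nat.card P').trans h1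
  -- rank of P'
  have hrP : ¬ Cfsg.PRankLE p 2 ↥P' := by
    have hAe : Cfsg.IsElementaryAbelian p ((A.map M.subtype)) := by
      refine ⟨⟨⟨?_⟩⟩, ?_⟩
      · rintro ⟨_, a, ha, rfl⟩ ⟨_, b, hb, rfl⟩
        apply Subtype.ext
        have := hAc.is_comm.comm ⟨a, ha⟩ ⟨b, hb⟩
        have h2 := congrArg (fun x : A => ((x : M) : G)) this
        simpa using h2
      · rintro _ ⟨a, ha, rfl⟩
        have := hAp a ha
        have h2 := congrArg (fun x : M => (x : G)) this
        simpa using h2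
    apply Cfsg.Agent.Lead.BG9.not_pRankLE_of_elementary (F := A.map M.subtype)
      (Subgroup.map_mono hAP) hAe
    rw [Subgroup.card_map_of_injective (Subgroup.subtype_injective M)]
    exact hAcard
  have hP'1 : P' ≠ ⊥ := by
    intro h
    rw [h, Subgroup.card_bot] at hPcard
    have := Nat.one_le_pow 2 p hp.pos
    omega
  have hP't : P' ≠ ⊤ := fun h => hM.1 (top_le_iff.mp (h ▸ hP'M))
  have hr2 : ¬ Cfsg.RankLE 2 ↥P' := fun h => hrP (h p hp)
  have hU : Cfsg.InUniqueMaximal P' :=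
    h96 P' hP't (fun h => hr2 (rankLE_one_imp_two h)) (Or.inl hr2)
  exact ⟨hp, hpM, P, normalizer_le_of_inUniqueMaximal hS hM hP'M hP'1 hU⟩


/-- For `p ∈ σ(M)`: a Sylow `p`-subgroup `P` of `M` with `N_G(P) ≤ M` is a Sylow `p`-subgroup of
`G`. -/
theorem exists_sylow_of_mem_sigma {M : Subgroup G} {p : ℕ} [Fact p.Prime]
    (hp : p ∈ Cfsg.sigma M) :
    ∃ (P : Sylow p M) (Q : Sylow p G), (Q : Subgroup G) = (P : Subgroup M).map M.subtype ∧
      Subgroup.normalizer ((Q : Subgroup G) : Set G) ≤ M := by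
  obtain ⟨-, -, P, hN⟩ := hp
  have hcard : Nat.card ((P : Subgroup M).map M.subtype) = p ^ (Nat.card M).factorization p := by
    rw [Subgroup.card_map_of_injective (Subgroup.subtype_injective M)]
    exact P.card_eq_multiplicity
  have h2 := Cfsg.Agent.Helper18.L2Max.card_eq_of_normalizer_le p hN hcard
  refine ⟨P, Sylow.ofCard ((P : Subgroup M).map M.subtype) h2, rfl, ?_⟩
  exact hN

/-- **Sylow `σ(M)`-subgroups lie in `M'`** (focal subgroup theorem + Lemma 10.1(a)). -/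
theorem sylow_le_commutator_of_mem_sigma (hG : Cfsg.IsMinSimpleOddOrder G) (h101 : Ctl101 G)
    {M : Subgroup G} (hM : IsCoatom M) {p : ℕ} [Fact p.Prime] (hp : p ∈ Cfsg.sigma M) :
    ∃ P : Sylow p M, (P : Subgroup M) ≤ commutator M ∧ ¬ p ∣ M.index := by
  obtain ⟨P, Q, hQP, hNQ⟩ := exists_sylow_of_mem_sigma hp
  have hQM : (Q : Subgroup G) ≤ M := by rw [hQP]; exact Subgroup.map_subtype_le _
  refine ⟨P, ?_, ?_⟩
  · have hctl : ∀ x ∈ (Q : Subgroup G), ∀ u : G, u * x * u⁻¹ ∈ (Q : Subgroup G) →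
        ∃ m ∈ M, u * x * u⁻¹ = m * x * m⁻¹ := by
      intro x hx u hux
      by_cases hx1 : x = 1
      · exact ⟨1, M.one_mem, by rw [hx1]; group⟩
      · have hXp : IsPGroup p (Subgroup.zpowers x) :=
          Q.isPGroup'.to_le (by rw [Subgroup.zpowers_le]; exact hx)
        have hX1 : Subgroup.zpowers x ≠ ⊥ := by
          rwa [Ne, Subgroup.zpowers_eq_bot]
        have hXM : Subgroup.zpowers x ≤ M := by
          rw [Subgroup.zpowers_le]; exact hQM hx
        have hXg : (Subgroup.zpowers x).map (MulAut.conj u).toMonoidHom ≤ M := by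
          rw [MonoidHom.map_zpowers, Subgroup.zpowers_le]
          exact hQM (by simpa [MulAut.conj_apply] using hux)
        obtain ⟨m, hm, c, hc, rfl⟩ := h101 M hM p hp _ hXp hX1 hXM u hXg
        refine ⟨m, hm, ?_⟩
        have hcx : c * x = x * c := by
          have := (Subgroup.mem_centralizer_iff.mp hc) x (Subgroup.mem_zpowers x)
          exact this.symm
        calc m * c * x * (m * c)⁻¹ = m * (c * x) * c⁻¹ * m⁻¹ := by group
          _ = m * (x * c) * c⁻¹ * m⁻¹ := by rw [hcx]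
          _ = m * x * m⁻¹ := by group
    have h1 := sylow_le_commutator_of_control (commutator_eq_top_of_minSimple hG) M Q hQM hctl
    intro x hx
    have h2 : (x : G) ∈ ⁅M, M⁆ := h1 (by rw [hQP]; exact ⟨x, hx, rfl⟩)
    rw [← Subgroup.map_subtype_commutator] at h2
    obtain ⟨y, hy, hyx⟩ := h2
    have : y = x := Subtype.ext hyx
    rw [← this]
    rw [commutator_def]
    exact hy
  · intro hdvd
    have h2 : M.index ∣ (Q : Subgroup G).index := Subgroup.index_dvd_of_le hQM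
    exact Q.not_dvd_index (hdvd.trans h2)


theorem piCore_mono {X : Type*} [Group X] {π π' : Set ℕ} (h : π ⊆ π') :
    Cfsg.piCore π X ≤ Cfsg.piCore π' X := by
  unfold Cfsg.piCore
  apply sSup_le_sSup
  rintro N ⟨hN, hNπ⟩
  exact ⟨hN, fun p hp hd => h (hNπ p hp hd)⟩

/-- **B&G Theorem 10.2 for any `α(M) ⊆ π ⊆ σ(M)`**: `O_π(M)` is a Hall `π`-subgroup of `M` and of
`G`, `M/O_π(M)` has rank `≤ 2` and nilpotent derived subgroup. -/
theorem hall_core (hG : Cfsg.IsMinSimpleOddOrder G) (h101 : Ctl101 G) {M : Subgroup G}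
    (hM : IsCoatom M) (π : Set ℕ) (hαπ : Cfsg.alpha M ⊆ π) (hπσ : π ⊆ Cfsg.sigma M) :
    (∀ p : ℕ, p.Prime → p ∈ π → ¬ p ∣ (Cfsg.piCore π M).index) ∧
    Cfsg.RankLE 2 (↥M ⧸ Cfsg.piCore π ↥M) ∧
    Group.IsNilpotent ↥((commutator ↥M).map (QuotientGroup.mk' (Cfsg.piCore π ↥M))) ∧
    Cfsg.IsPiHallOf π ((Cfsg.piCore π M).map M.subtype) M ∧
    Cfsg.IsPiHall π ((Cfsg.piCore π M).map M.subtype) := by
  have hsolv : Group.IsSolvable ↥M := hG.2.2.2 M hM.1
  have hodd : Odd (Nat.card M) := Odd.of_dvd_nat hG.1 (Subgroup.card_subgroup_dvd_card M)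
  have hrank : ∀ q : ℕ, q.Prime → q ∉ π → Cfsg.PRankLE q 2 ↥M := by
    intro q hq hqπ
    by_contra h
    exact hqπ (hαπ ⟨hq, h⟩)
  have hsyl : ∀ (p : ℕ) [Fact p.Prime], p ∈ π →
      ∃ P : Sylow p ↥M, (P : Subgroup ↥M) ≤ commutator ↥M := by
    intro p _ hpπ
    obtain ⟨P, hP, -⟩ := sylow_le_commutator_of_mem_sigma hG h101 hM (hπσ hpπ)
    exact ⟨P, hP⟩
  obtain ⟨h1, h2, h3⟩ := hall_of_sylow_le_commutator hodd π hrank hsyl
  have hNπ := Cfsg.Agent.Helper19.piCore_isPiNum (G := ↥M) π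
  have hcard : Nat.card ((Cfsg.piCore π M).map M.subtype) = Nat.card (Cfsg.piCore π M) :=
    Subgroup.card_map_of_injective (Subgroup.subtype_injective M)
  have hrel : ((Cfsg.piCore π M).map M.subtype).relIndex M = (Cfsg.piCore π M).index := by
    unfold Subgroup.relIndex Subgroup.subgroupOf
    rw [Subgroup.comap_map_eq_self_of_injective (Subgroup.subtype_injective M)]
  refine ⟨h1, h2, h3, ⟨Subgroup.map_subtype_le _, ?_, ?_⟩, ?_, ?_⟩
  · intro p hp hd
    rw [hcard] at hd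
    exact hNπ p hp hd
  · intro p hp hpπ
    rw [hrel]
    exact h1 p hp hpπ
  · intro p hp hd
    rw [hcard] at hd
    exact hNπ p hp hd
  · intro p hp hpπ hd
    have : Fact p.Prime := ⟨hp⟩
    obtain ⟨P, -, hPM⟩ := sylow_le_commutator_of_mem_sigma hG h101 hM (hπσ hpπ)
    rw [← Subgroup.relIndex_mul_index (Subgroup.map_subtype_le (Cfsg.piCore π M)), hrel] at hd
    rcases (Nat.Prime.dvd_mul hp).mp hd with h | h
    · exact h1 p hp hpπ h
    · exact hPM h

/-- **B&G Theorem 10.2(a),(c),(d)** (= S1405), relative to 9.6 and 10.1(a). -/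
theorem thm_10_2 (hG : Cfsg.IsMinSimpleOddOrder G) (h96 : Uniq96 G) (h101 : Ctl101 G)
    (M : Subgroup G) (hM : IsCoatom M) :
    Cfsg.IsPiHallOf (Cfsg.alpha M) (Cfsg.alphaCore M) M ∧
      Cfsg.IsPiHall (Cfsg.alpha M) (Cfsg.alphaCore M) ∧
      Cfsg.alphaCore M ≤ Cfsg.sigmaCore M ∧
      Cfsg.RankLE 2 (↥M ⧸ Cfsg.piCore (Cfsg.alpha M) ↥M) ∧
      Group.IsNilpotent
        ↥((commutator ↥M).map (QuotientGroup.mk' (Cfsg.piCore (Cfsg.alpha M) ↥M))) := by
  have hασ := alpha_subset_sigma hG h96 hM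
  obtain ⟨-, h2, h3, h4, h5⟩ := hall_core hG h101 hM (Cfsg.alpha M) (subset_refl _) hασ
  refine ⟨h4, h5, ?_, h2, h3⟩
  unfold Cfsg.alphaCore Cfsg.sigmaCore
  exact Subgroup.map_mono (piCore_mono hασ)

/-- **B&G Theorem 10.2(b)** (= S1350), relative to 9.6 and 10.1(a). -/
theorem thm_10_2_sigma (hG : Cfsg.IsMinSimpleOddOrder G) (h96 : Uniq96 G) (h101 : Ctl101 G)
    (M : Subgroup G) (hM : IsCoatom M) :
    Cfsg.IsPiHallOf (Cfsg.sigma M) (Cfsg.sigmaCore M) M ∧
      Cfsg.IsPiHall (Cfsg.sigma M) (Cfsg.sigmaCore M) ∧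
      ∀ N : Subgroup G, M ≤ Subgroup.normalizer (N : Set G) →
        Cfsg.IsPiHallOf (Cfsg.sigma M) N M → N = Cfsg.sigmaCore M := by
  have hασ := alpha_subset_sigma hG h96 hM
  obtain ⟨-, -, -, h4, h5⟩ := hall_core hG h101 hM (Cfsg.sigma M) hασ (subset_refl _)
  refine ⟨h4, h5, ?_⟩
  intro N hMN ⟨hNM, hNσ, hNrel⟩
  -- N ≤ sigmaCore M
  have hNn : (N.subgroupOf M).Normal := by
    rw [Subgroup.normal_subgroupOf_iff_le_normalizer hNM]
    exact hMN
  have hNcard : Nat.card (N.subgroupOf M) = Nat.card N :=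
    Nat.card_congr (Subgroup.subgroupOfEquivOfLe hNM).toEquiv
  have hle : N.subgroupOf M ≤ Cfsg.piCore (Cfsg.sigma M) M :=
    Cfsg.Agent.Helper19.le_piCore hNn (fun p hp hd => hNσ p hp (hNcard ▸ hd))
  have hle' : N ≤ Cfsg.sigmaCore M := by
    unfold Cfsg.sigmaCore
    calc N = (N.subgroupOf M).map M.subtype := (Subgroup.map_subgroupOf_eq_of_le hNM).symm
      _ ≤ _ := Subgroup.map_mono hle
  -- equal orders
  apply Subgroup.eq_of_le_of_card_ge hle'
  have hS := h4
  obtain ⟨hSM, hSσ, -⟩ := hS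
  -- relIndex N (sigmaCore M) = 1
  have h1 : N.relIndex (Cfsg.sigmaCore M) * (Cfsg.sigmaCore M).relIndex M = N.relIndex M :=
    Subgroup.relIndex_mul_relIndex N (Cfsg.sigmaCore M) M hle' hSM
  have h2 : N.relIndex (Cfsg.sigmaCore M) ∣ Nat.card (Cfsg.sigmaCore M) := by
    unfold Subgroup.relIndex
    have := Subgroup.index_dvd_card (N.subgroupOf (Cfsg.sigmaCore M))
    exact this
  have h3 : N.relIndex (Cfsg.sigmaCore M) = 1 := by
    by_contra hne
    obtain ⟨r, hr, hrd⟩ := Nat.exists_prime_and_dvd hne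
    have hrσ : r ∈ Cfsg.sigma M := hSσ r hr (hrd.trans h2)
    exact hNrel r hr hrσ (h1 ▸ Dvd.dvd.mul_right hrd _)
  have h6 : N.relIndex (Cfsg.sigmaCore M) * Nat.card N = Nat.card (Cfsg.sigmaCore M) := by
    have := Subgroup.relIndex_mul_relIndex ⊥ N (Cfsg.sigmaCore M) bot_le hle'
    rw [Subgroup.relIndex_bot_left, Subgroup.relIndex_bot_left] at this
    rw [mul_comm]; exact this
  rw [h3, one_mul] at h6
  exact h6.ge

end Cfsg.Agent.Helper21.BG10
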