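import Mathlib
import Cfsg.Prelude.Def_Local
import Cfsg.Agent.Helper23.HallHigman
import Cfsg.Agent.Helper23.PSeries
import Cfsg.Agent.Helper23.PLengthOne
import Cfsg.Agent.Helper24.Burnside
import Cfsg.Agent.Helper10.SolvPSolv
import Cfsg.Agent.Helper10.CoreBasic
import Cfsg.Agent.Helper7.PPrimeCore
import Cfsg.Agent.Lead.CoprimeSylow2
import Cfsg.Agent.Lead.GenCent

set_option autoImplicit false
set_option linter.style.haveILetI false
set_option linter.unusedSectionVars false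
set_option linter.unusedVariables false

/-! # Groups of exponent dividing 6 have `2`-length and `3`-length at most one -/

namespace Cfsg.Agent.Helper21.ExpSix

open Subgroup

/-- A criterion for `p`-length at most one: a normal series `K ≤ L` with `K` a `p'`-group,
`L / K` a `p`-group and `G / L` a `p'`-group. -/
theorem pLengthLE_one_of_series {G : Type*} [Group G] [Finite G] (p : ℕ) [hp : Fact p.Prime]
    (K L : Subgroup G) [hKn : K.Normal] [hLn : L.Normal]
    (hK : (Nat.card K).Coprime p) (hL : ∀ x ∈ L, ∃ m : ℕ, x ^ p ^ m ∈ K)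
    (hG : L.index.Coprime p) : Cfsg.PLengthLE p 1 G := by
  have hU1 : (Cfsg.upperPSeries p G 1).1 =
      (Cfsg.pPrimeCore p (G ⧸ (Cfsg.upperPSeries p G 0).1)).comap (QuotientGroup.mk' _) := by
    rw [Cfsg.upperPSeries]; simp
  have hU2 : (Cfsg.upperPSeries p G 2).1 =
      (Cfsg.pCore p (G ⧸ (Cfsg.upperPSeries p G 1).1)).comap (QuotientGroup.mk' _) := by
    rw [Cfsg.upperPSeries]; simp
  have hU3 : (Cfsg.upperPSeries p G 3).1 =
      (Cfsg.pPrimeCore p (G ⧸ (Cfsg.upperPSeries p G 2).1)).comap (QuotientGroup.mk' _) := by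
    rw [Cfsg.upperPSeries]; simp
  have hK1 : K ≤ (Cfsg.upperPSeries p G 1).1 := by
    rw [hU1, ← Subgroup.map_le_iff_le_comap]
    apply Cfsg.Agent.Helper7.le_pPrimeCore (hKn.map _ (QuotientGroup.mk'_surjective _))
    exact Nat.Coprime.coprime_dvd_left (Subgroup.card_map_dvd _ _) hK
  have hL2 : L ≤ (Cfsg.upperPSeries p G 2).1 := by
    rw [hU2, ← Subgroup.map_le_iff_le_comap]
    apply Cfsg.Agent.Helper10.le_pCore_of_normal_pGroup p
      (hLn.map _ (QuotientGroup.mk'_surjective _))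
    rintro ⟨y, hy⟩
    obtain ⟨x, hx, rfl⟩ := hy
    obtain ⟨m, hm⟩ := hL x hx
    refine ⟨m, Subtype.ext ?_⟩
    rw [Subgroup.coe_pow, Subgroup.coe_one, ← map_pow]
    exact (QuotientGroup.eq_one_iff _).mpr (hK1 hm)
  show (Cfsg.upperPSeries p G (2 * 1 + 1)).1 = ⊤
  rw [show 2 * 1 + 1 = 3 from rfl, hU3]
  have htop : Cfsg.pPrimeCore p (G ⧸ (Cfsg.upperPSeries p G 2).1) = ⊤ := by
    rw [eq_top_iff]
    apply Cfsg.Agent.Helper7.le_pPrimeCore inferInstance
    rw [Subgroup.card_top, ← Subgroup.index_eq_card]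
    exact Nat.Coprime.coprime_dvd_left (Subgroup.index_dvd_of_le hL2) hG
  rw [htop, Subgroup.comap_top]

/-- `p`-length one from: `O_p(G / O_{p'}(G))` has index prime to `p`. -/
theorem pLengthLE_one_of_index {G : Type*} [Group G] [Finite G] (p : ℕ) [hp : Fact p.Prime]
    (hidx : (Cfsg.pCore p (G ⧸ Cfsg.pPrimeCore p G)).index.Coprime p) :
    Cfsg.PLengthLE p 1 G := by
  haveI hLn : ((Cfsg.pCore p (G ⧸ Cfsg.pPrimeCore p G)).comap
      (QuotientGroup.mk' (Cfsg.pPrimeCore p G))).Normal :=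
    (inferInstance : (Cfsg.pCore p (G ⧸ Cfsg.pPrimeCore p G)).Normal).comap _
  apply pLengthLE_one_of_series p (Cfsg.pPrimeCore p G)
    ((Cfsg.pCore p (G ⧸ Cfsg.pPrimeCore p G)).comap (QuotientGroup.mk' (Cfsg.pPrimeCore p G)))
  · exact Cfsg.Agent.Helper23.pPrimeCore_card_coprime p G
  · intro x hx
    rw [Subgroup.mem_comap] at hx
    obtain ⟨m, hm⟩ := (Cfsg.Agent.Helper10.pCore_isPGroup (G := G ⧸ Cfsg.pPrimeCore p G) p) ⟨_, hx⟩
    refine ⟨m, ?_⟩
    have h1 := congrArg Subtype.val hm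
    rw [Subgroup.coe_pow, Subgroup.coe_one, ← map_pow] at h1
    exact (QuotientGroup.eq_one_iff _).mp h1
  · rw [Subgroup.index_comap_of_surjective _ (QuotientGroup.mk'_surjective _)]
    exact hidx

section exp6

variable {G : Type*} [Group G] [Finite G]

theorem card_eq_two_pow_mul_three_pow (h : ∀ x : G, x ^ 6 = 1) :
    ∃ a b : ℕ, Nat.card G = 2 ^ a * 3 ^ b := by
  have hprime : ∀ q : ℕ, q.Prime → q ∣ Nat.card G → q = 2 ∨ q = 3 := by
    intro q hq hdvd
    haveI : Fact q.Prime := ⟨hq⟩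
    obtain ⟨x, hx⟩ := exists_prime_orderOf_dvd_card' q hdvd
    have h6 : q ∣ 6 := by rw [← hx]; exact orderOf_dvd_of_pow_eq_one (h x)
    have hle : q ≤ 6 := Nat.le_of_dvd (by norm_num) h6
    have h2 := hq.two_le
    interval_cases q
    · exact Or.inl rfl
    · exact Or.inr rfl
    · exact absurd hq (by decide)
    · exact absurd h6 (by decide)
    · exact absurd hq (by decide)
  obtain ⟨a, m, hm, hcard⟩ :=
    Nat.exists_eq_pow_mul_and_not_dvd (Nat.card_pos (α := G)).ne' 2 (by norm_num)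
  have hm0 : m ≠ 0 := by
    rintro rfl
    rw [mul_zero] at hcard
    exact (Nat.card_pos (α := G)).ne' hcard
  obtain ⟨b, m', hm', hm2⟩ := Nat.exists_eq_pow_mul_and_not_dvd hm0 3 (by norm_num)
  refine ⟨a, b, ?_⟩
  have : m' = 1 := by
    by_contra hne
    obtain ⟨q, hq, hqm⟩ := Nat.exists_prime_and_dvd hne
    have hqG : q ∣ Nat.card G := by rw [hcard, hm2]; exact (hqm.mul_left _).mul_left _
    rcases hprime q hq hqG with rfl | rfl
    · exact hm (hm2 ▸ hqm.mul_left _)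
    · exact hm' hqm
  rw [hcard, hm2, this, mul_one]

theorem isSolvable_of_exp6 (h : ∀ x : G, x ^ 6 = 1) : Group.IsSolvable G := by
  obtain ⟨a, b, hab⟩ := card_eq_two_pow_mul_three_pow h
  exact Cfsg.Agent.Helper24.isSolvable_of_card_eq_prime_pow_mul 2 3 a b Nat.prime_two
    Nat.prime_three hab

theorem sq_eq_one_of_exp6 (h : ∀ x : G, x ^ 6 = 1) {x : G} {k : ℕ} (hx : x ^ 2 ^ k = 1) :
    x ^ 2 = 1 := by
  have h1 : orderOf x ∣ 2 ^ k := orderOf_dvd_of_pow_eq_one hx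
  have h2 : orderOf x ∣ 2 * 3 := orderOf_dvd_of_pow_eq_one (h x)
  obtain ⟨j, -, hj⟩ := (Nat.dvd_prime_pow Nat.prime_two).mp h1
  have h3 : orderOf x ∣ 2 := by
    rw [hj] at h2 ⊢
    exact (Nat.Coprime.pow_left j (by decide : Nat.Coprime 2 3)).dvd_of_dvd_mul_right h2
  exact orderOf_dvd_iff_pow_eq_one.mp h3

theorem cube_eq_one_of_exp6 (h : ∀ x : G, x ^ 6 = 1) {x : G} {k : ℕ} (hx : x ^ 3 ^ k = 1) :
    x ^ 3 = 1 := by
  have h1 : orderOf x ∣ 3 ^ k := orderOf_dvd_of_pow_eq_one hx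
  have h2 : orderOf x ∣ 3 * 2 := orderOf_dvd_of_pow_eq_one (h x)
  obtain ⟨j, -, hj⟩ := (Nat.dvd_prime_pow Nat.prime_three).mp h1
  have h3 : orderOf x ∣ 3 := by
    rw [hj] at h2 ⊢
    exact (Nat.Coprime.pow_left j (by decide : Nat.Coprime 3 2)).dvd_of_dvd_mul_right h2
  exact orderOf_dvd_iff_pow_eq_one.mp h3

/-- A group in which all squares are trivial is commutative. -/
theorem comm_of_sq_eq_one {a b : G} (ha : a ^ 2 = 1) (hb : b ^ 2 = 1) (hab : (a * b) ^ 2 = 1) :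
    a * b = b * a := by
  have ha' : a⁻¹ = a := by
    rw [inv_eq_iff_mul_eq_one, ← sq]; exact ha
  have hb' : b⁻¹ = b := by
    rw [inv_eq_iff_mul_eq_one, ← sq]; exact hb
  have h1 : (a * b)⁻¹ = a * b := by
    rw [inv_eq_iff_mul_eq_one, ← sq]; exact hab
  rw [mul_inv_rev, ha', hb'] at h1
  exact h1.symm

/-- The `2`-length of a group of exponent dividing `6` is at most one. -/
theorem pLength_two (h : ∀ x : G, x ^ 6 = 1) : Cfsg.PLengthLE 2 1 G := by
  haveI : Fact (Nat.Prime 2) := ⟨Nat.prime_two⟩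
  apply pLengthLE_one_of_index
  have hsolv : Group.IsSolvable G := isSolvable_of_exp6 h
  have hHH := Cfsg.Agent.Helper23.centralizer_pCore_quotient_le_of_isPSolvable
    (Cfsg.Agent.Helper10.isPSolvable_of_isSolvable 2 hsolv)
  have h6 : ∀ y : G ⧸ Cfsg.pPrimeCore 2 G, y ^ 6 = 1 := by
    intro y
    obtain ⟨x, rfl⟩ := QuotientGroup.mk_surjective y
    rw [← QuotientGroup.mk_pow, h x]; rfl
  obtain ⟨S⟩ : Nonempty (Sylow 2 (G ⧸ Cfsg.pPrimeCore 2 G)) := inferInstance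
  have hQS : Cfsg.pCore 2 (G ⧸ Cfsg.pPrimeCore 2 G) ≤ S :=
    Cfsg.Agent.Lead.le_sylow_of_normal_isPGroup S _
      (Cfsg.Agent.Helper10.pCore_isPGroup 2)
  have hS2 : ∀ s ∈ (S : Subgroup (G ⧸ Cfsg.pPrimeCore 2 G)), s ^ 2 = 1 := by
    intro s hs
    obtain ⟨k, hk⟩ := S.2 ⟨s, hs⟩
    have hk' : s ^ 2 ^ k = 1 := by
      have := congrArg Subtype.val hk
      simpa using this
    exact sq_eq_one_of_exp6 h6 hk'
  have hSC : (S : Subgroup (G ⧸ Cfsg.pPrimeCore 2 G)) ≤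
      centralizer (Cfsg.pCore 2 (G ⧸ Cfsg.pPrimeCore 2 G) : Set (G ⧸ Cfsg.pPrimeCore 2 G)) := by
    intro s hs
    rw [Subgroup.mem_centralizer_iff]
    intro q hq
    have hq' := hQS hq
    exact comm_of_sq_eq_one (hS2 q hq') (hS2 s hs) (hS2 _ (Subgroup.mul_mem _ hq' hs))
  have hSQ : (S : Subgroup (G ⧸ Cfsg.pPrimeCore 2 G)) ≤ Cfsg.pCore 2 (G ⧸ Cfsg.pPrimeCore 2 G) :=
    hSC.trans hHH
  have hdvd := Subgroup.index_dvd_of_le hSQ
  have hSidx : ((S : Subgroup (G ⧸ Cfsg.pPrimeCore 2 G)).index).Coprime 2 := by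
    rw [Nat.coprime_comm, Nat.Prime.coprime_iff_not_dvd Nat.prime_two]; exact S.not_dvd_index
  exact Nat.Coprime.coprime_dvd_left hdvd hSidx

end exp6

section three

variable {G : Type*} [Group G]

/-- The four-group generated by two commuting involutions. -/
def fourGroup (w w' : G) (hw : w * w = 1) (hw' : w' * w' = 1) (hc : w * w' = w' * w) :
    Subgroup G where
  carrier := {1, w, w', w * w'}
  one_mem' := by simp
  mul_mem' := by
    have e1 : ∀ x, w * (w * x) = x := fun x => by rw [← mul_assoc, hw, one_mul]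
    have e2 : ∀ x, w' * (w' * x) = x := fun x => by rw [← mul_assoc, hw', one_mul]
    have e3 : ∀ x, w' * (w * x) = w * (w' * x) := fun x => by
      rw [← mul_assoc, ← hc, mul_assoc]
    rintro a b (rfl | rfl | rfl | rfl) (rfl | rfl | rfl | rfl) <;>
      simp [mul_assoc, hw, hw', e1, e3, ← hc]
  inv_mem' := by
    have i1 : w⁻¹ = w := inv_eq_of_mul_eq_one_right hw
    have i2 : w'⁻¹ = w' := inv_eq_of_mul_eq_one_right hw'
    rintro a (rfl | rfl | rfl | rfl) <;> simp [i1, i2, hc]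

theorem mem_fourGroup {w w' : G} {hw : w * w = 1} {hw' : w' * w' = 1} {hc : w * w' = w' * w}
    {x : G} : x ∈ fourGroup w w' hw hw' hc ↔ x = 1 ∨ x = w ∨ x = w' ∨ x = w * w' := Iff.rfl

theorem eq_of_mul_self_eq {x z : G} {N : ℕ} (hN : Odd N) (hx : x ^ N = 1) (hz : z ^ N = 1)
    (h : x * x = z * z) : x = z := by
  obtain ⟨m, rfl⟩ := hN
  have h1 : ∀ y : G, y ^ (2 * m + 1) = 1 → y = (y * y) ^ (m + 1) := by
    intro y hy
    rw [← sq, ← pow_mul, show 2 * (m + 1) = (2 * m + 1) + 1 by ring, pow_succ, hy, one_mul]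
  rw [h1 x hx, h1 z hz, h]

/-- The key computation: an `A₄`-configuration acting on a normal subgroup `P` of odd exponent
forces `(g v)^3 ≠ 1` for suitable `v ∈ P`. -/
theorem final_contra (P : Subgroup G) [hPn : P.Normal] (N : ℕ) (hN : Odd N)
    (hPN : ∀ x ∈ P, x ^ N = 1) (g w v : G) (hg : g ^ 3 = 1) (hv : v ∈ P)
    (h1 : w * v = v * w)
    (h2 : (g * w * g⁻¹) * v * (g * w * g⁻¹)⁻¹ = v⁻¹)
    (h3 : (g⁻¹ * w * g) * v * (g⁻¹ * w * g)⁻¹ = v⁻¹)
    (h6 : (g * v) ^ 6 = 1) : v = 1 := by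
  have hg2 : g * g = g⁻¹ := by
    have : g * g * g = 1 := by rw [← hg, pow_succ, pow_succ, pow_one]
    exact eq_inv_of_mul_eq_one_left this
  have ha : g * v * g⁻¹ ∈ P := hPn.conj_mem v hv g
  have hb : g⁻¹ * v * g ∈ P := by
    have := hPn.conj_mem v hv g⁻¹
    rwa [inv_inv] at this
  have hy : (g * v) ^ 3 = (g * v * g⁻¹) * (g⁻¹ * v * g) * v := by
    have h' : (g * v) ^ 3 = (g * v * g⁻¹) * ((g * g) * v * (g * g)⁻¹) * ((g * g * g) * v) := by
      rw [pow_succ, pow_succ, pow_one]; group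
    have hg3 : g * g * g = 1 := by rw [← hg, pow_succ, pow_succ, pow_one]
    rw [h', hg3, hg2, one_mul, inv_inv]
  have hyP : (g * v * g⁻¹) * (g⁻¹ * v * g) * v ∈ P := P.mul_mem (P.mul_mem ha hb) hv
  have hy1 : (g * v * g⁻¹) * (g⁻¹ * v * g) * v = 1 := by
    have hsq : ((g * v * g⁻¹) * (g⁻¹ * v * g) * v) ^ 2 = 1 := by
      rw [← hy, ← pow_mul]; exact h6
    have hyN := hPN _ hyP
    obtain ⟨m, rfl⟩ := hN
    rw [pow_succ, pow_mul, hsq, one_pow, one_mul] at hyN
    exact hyN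
  -- conjugate by w
  have hwa : w * (g * v * g⁻¹) * w⁻¹ = (g * v * g⁻¹)⁻¹ := by
    have : w * (g * v * g⁻¹) * w⁻¹ = g * ((g⁻¹ * w * g) * v * (g⁻¹ * w * g)⁻¹) * g⁻¹ := by group
    rw [this, h3]; group
  have hwb : w * (g⁻¹ * v * g) * w⁻¹ = (g⁻¹ * v * g)⁻¹ := by
    have : w * (g⁻¹ * v * g) * w⁻¹ = g⁻¹ * ((g * w * g⁻¹) * v * (g * w * g⁻¹)⁻¹) * g := by group
    rw [this, h2]; group
  have hwv : w * v * w⁻¹ = v := by rw [h1, mul_inv_cancel_right]
  have hy2 : (g * v * g⁻¹)⁻¹ * (g⁻¹ * v * g)⁻¹ * v = 1 := by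
    have : w * ((g * v * g⁻¹) * (g⁻¹ * v * g) * v) * w⁻¹ =
        (w * (g * v * g⁻¹) * w⁻¹) * (w * (g⁻¹ * v * g) * w⁻¹) * (w * v * w⁻¹) := by group
    rw [hy1, hwa, hwb, hwv] at this
    rw [← this]; group
  set a := g * v * g⁻¹ with ha_def
  set b := g⁻¹ * v * g with hb_def
  have hab : a * b = a⁻¹ * b⁻¹ := by
    have e1 : a * b = v⁻¹ := eq_inv_of_mul_eq_one_left hy1
    have e2 : a⁻¹ * b⁻¹ = v⁻¹ := eq_inv_of_mul_eq_one_left hy2
    rw [e1, e2]
  have hbb : b * b = a⁻¹ * a⁻¹ := by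
    have : a * a * (b * b) = 1 := by
      calc a * a * (b * b) = a * (a * b) * b := by group
        _ = a * (a⁻¹ * b⁻¹) * b := by rw [hab]
        _ = 1 := by group
    calc b * b = (a * a)⁻¹ := eq_inv_of_mul_eq_one_right this
      _ = a⁻¹ * a⁻¹ := by group
  have hba : b = a⁻¹ :=
    eq_of_mul_self_eq hN (hPN b hb) (hPN _ (P.inv_mem ha)) hbb
  rw [hba, mul_inv_cancel, one_mul] at hy1
  exact hy1

/-- Symmetric form of `final_contra`. -/
theorem final_contra' (P : Subgroup G) [hPn : P.Normal] (N : ℕ) (hN : Odd N)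
    (hPN : ∀ x ∈ P, x ^ N = 1) (g w w' w'' v : G) (hg : g ^ 3 = 1) (hv : v ∈ P)
    (c1 : g * w * g⁻¹ = w') (c2 : g * w' * g⁻¹ = w'') (c3 : g * w'' * g⁻¹ = w)
    (h1 : w * v = v * w) (h2 : w' * v * w'⁻¹ = v⁻¹) (h3 : w'' * v * w''⁻¹ = v⁻¹)
    (h6 : (g * v) ^ 6 = 1) : v = 1 := by
  apply final_contra P N hN hPN g w v hg hv h1
  · rw [c1]; exact h2
  · have : g⁻¹ * w * g = w'' := by rw [← c3]; group
    rw [this]; exact h3
  · exact h6

theorem inverts_mul {x y s : G} (hx : x * s = s * x) (hy : y * s * y⁻¹ = s⁻¹) :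
    (y * x) * s * (y * x)⁻¹ = s⁻¹ := by
  have : (y * x) * s * (y * x)⁻¹ = y * (x * s * x⁻¹) * y⁻¹ := by group
  rw [this, hx, mul_inv_cancel_right, hy]

end three

section main3

variable {X : Type*} [Group X] [Finite X]

theorem pCore_quotient_pCore_eq_bot (p : ℕ) [Fact p.Prime] :
    Cfsg.pCore p (X ⧸ Cfsg.pCore p X) = ⊥ := by
  have hn : ((Cfsg.pCore p (X ⧸ Cfsg.pCore p X)).comap
      (QuotientGroup.mk' (Cfsg.pCore p X))).Normal :=
    (inferInstance : (Cfsg.pCore p (X ⧸ Cfsg.pCore p X)).Normal).comap _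
  have hp : IsPGroup p ((Cfsg.pCore p (X ⧸ Cfsg.pCore p X)).comap
      (QuotientGroup.mk' (Cfsg.pCore p X))) := by
    obtain ⟨a, ha⟩ := Cfsg.Agent.Helper23.pCore_card p X
    obtain ⟨b, hb⟩ := Cfsg.Agent.Helper23.pCore_card p (X ⧸ Cfsg.pCore p X)
    apply IsPGroup.of_card (n := a + b)
    rw [Cfsg.Agent.Helper23.card_comap_mk', ha, hb, pow_add]
  have hle := Cfsg.Agent.Helper10.le_pCore_of_normal_pGroup p hn hp
  rw [eq_bot_iff]
  intro y hy
  obtain ⟨x, rfl⟩ := QuotientGroup.mk_surjective y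
  rw [Subgroup.mem_bot]
  exact (QuotientGroup.eq_one_iff _).mpr (hle hy)

/-- The heart of the `3`-length bound: if `C_X(O_3(X)) ≤ O_3(X)` in a group of exponent dividing
`6`, then `O_3(X)` is a Sylow `3`-subgroup. -/
theorem index_pCore_three_coprime (h : ∀ x : X, x ^ 6 = 1)
    (hC : centralizer (Cfsg.pCore 3 X : Set X) ≤ Cfsg.pCore 3 X) :
    (Cfsg.pCore 3 X).index.Coprime 3 := by
  haveI : Fact (Nat.Prime 3) := ⟨Nat.prime_three⟩
  haveI : Fact (Nat.Prime 2) := ⟨Nat.prime_two⟩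
  by_contra hcop
  have h3dvd : 3 ∣ (Cfsg.pCore 3 X).index := by
    by_contra hnd
    exact hcop ((Nat.Prime.coprime_iff_not_dvd Nat.prime_three).mpr hnd).symm
  obtain ⟨P, hPdef⟩ : ∃ P, P = Cfsg.pCore 3 X := ⟨_, rfl⟩
  rw [← hPdef] at hC h3dvd
  haveI hPn : P.Normal := by rw [hPdef]; infer_instance
  have hP3 : IsPGroup 3 P := by rw [hPdef]; exact Cfsg.Agent.Helper10.pCore_isPGroup 3
  obtain ⟨e, he⟩ := IsPGroup.iff_card.mp hP3
  have hPN : ∀ x ∈ P, x ^ 3 ^ e = 1 := by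
    intro x hx
    have h1 : (⟨x, hx⟩ : P) ^ Nat.card P = 1 := pow_card_eq_one'
    rw [he] at h1
    have h2 := congrArg Subtype.val h1
    simpa using h2
  -- the quotient H = X / P
  have hH6 : ∀ y : X ⧸ P, y ^ 6 = 1 := by
    intro y
    obtain ⟨x, rfl⟩ := QuotientGroup.mk_surjective y
    rw [← QuotientGroup.mk_pow, h x]; rfl
  have hHsolv : Group.IsSolvable (X ⧸ P) := isSolvable_of_exp6 hH6
  have hO3 : Cfsg.pCore 3 (X ⧸ P) = ⊥ := by
    subst hPdef; exact pCore_quotient_pCore_eq_bot 3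
  obtain ⟨a, b, hab⟩ := card_eq_two_pow_mul_three_pow hH6
  have hO2' : Cfsg.pPrimeCore 2 (X ⧸ P) = ⊥ := by
    have hc := Cfsg.Agent.Helper23.pPrimeCore_card_coprime 2 (X ⧸ P)
    have hd : Nat.card (Cfsg.pPrimeCore 2 (X ⧸ P)) ∣ 2 ^ a * 3 ^ b := by
      rw [← hab]; exact Subgroup.card_subgroup_dvd_card _
    have hd' : Nat.card (Cfsg.pPrimeCore 2 (X ⧸ P)) ∣ 3 ^ b :=
      (Nat.Coprime.pow_right a hc).dvd_of_dvd_mul_left hd
    obtain ⟨j, -, hj⟩ := (Nat.dvd_prime_pow Nat.prime_three).mp hd'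
    have hle := Cfsg.Agent.Helper10.le_pCore_of_normal_pGroup 3
      (inferInstance : (Cfsg.pPrimeCore 2 (X ⧸ P)).Normal) (IsPGroup.of_card hj)
    rw [hO3] at hle
    exact eq_bot_iff.mpr hle
  have hHH : centralizer (Cfsg.pCore 2 (X ⧸ P) : Set (X ⧸ P)) ≤ Cfsg.pCore 2 (X ⧸ P) :=
    Cfsg.Agent.Helper23.centralizer_pCore_le_of_isPSolvable
      (Cfsg.Agent.Helper10.isPSolvable_of_isSolvable 2 hHsolv) hO2'
  obtain ⟨Q, hQdef⟩ : ∃ Q, Q = Cfsg.pCore 2 (X ⧸ P) := ⟨_, rfl⟩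
  rw [← hQdef] at hHH
  haveI hQn : Q.Normal := by rw [hQdef]; infer_instance
  have hQ2 : IsPGroup 2 Q := by rw [hQdef]; exact Cfsg.Agent.Helper10.pCore_isPGroup 2
  obtain ⟨c, hc⟩ := IsPGroup.iff_card.mp hQ2
  obtain ⟨L, hLdef⟩ : ∃ L, L = Q.comap (QuotientGroup.mk' P) := ⟨_, rfl⟩
  haveI hLn : L.Normal := by rw [hLdef]; exact hQn.comap _
  have hLcard : Nat.card L = 3 ^ e * 2 ^ c := by
    rw [hLdef, Cfsg.Agent.Helper23.card_comap_mk', he, hc]
  have hmemL : ∀ x : X, x ∈ L ↔ QuotientGroup.mk' P x ∈ Q := by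
    intro x; rw [hLdef, Subgroup.mem_comap]
  -- 3 divides the index of L
  have h3L : 3 ∣ L.index := by
    rw [hLdef, Subgroup.index_comap_of_surjective _ (QuotientGroup.mk'_surjective _)]
    have h1 : 3 ∣ Nat.card Q * Q.index := by
      rw [Subgroup.card_mul_index, ← Subgroup.index_eq_card]; exact h3dvd
    rw [hc] at h1
    exact (Nat.Coprime.pow_right c (by decide : Nat.Coprime 3 2)).dvd_of_dvd_mul_left h1
  rw [Subgroup.index_eq_card] at h3L
  obtain ⟨ybar, hybar⟩ := exists_prime_orderOf_dvd_card' 3 h3L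
  -- Sylow 2-subgroup of L and the Frattini argument
  obtain ⟨T₀⟩ : Nonempty (Sylow 2 L) := inferInstance
  have hfrat : normalizer (((T₀ : Subgroup L).map L.subtype : Subgroup X) : Set X) ⊔ L = ⊤ :=
    Sylow.normalizer_sup_eq_top T₀
  obtain ⟨T, hTdef⟩ : ∃ T, T = (T₀ : Subgroup L).map L.subtype := ⟨_, rfl⟩
  rw [← hTdef] at hfrat
  have hTL : T ≤ L := by rw [hTdef]; exact Subgroup.map_subtype_le _
  have hT2 : IsPGroup 2 T := by rw [hTdef]; exact T₀.2.map _
  have hTcard : Nat.card T = 2 ^ c := by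
    rw [hTdef, Subgroup.card_subtype, T₀.card_eq_multiplicity, hLcard]
    congr 1
    rw [Nat.factorization_mul (by positivity) (by positivity), Finsupp.add_apply,
      Nat.Prime.factorization_pow Nat.prime_three, Nat.Prime.factorization_pow Nat.prime_two]
    simp
  have hTsq : ∀ t ∈ T, t * t = 1 := by
    intro t ht
    obtain ⟨k, hk⟩ := hT2 ⟨t, ht⟩
    have hk' : t ^ 2 ^ k = 1 := by simpa using congrArg Subtype.val hk
    rw [← sq]; exact sq_eq_one_of_exp6 h hk'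
  have hTcomm : ∀ s ∈ T, ∀ t ∈ T, s * t = t * s := by
    intro s hs t ht
    apply comm_of_sq_eq_one
    · rw [sq]; exact hTsq s hs
    · rw [sq]; exact hTsq t ht
    · rw [sq]; exact hTsq _ (T.mul_mem hs ht)
  have hTP : Disjoint T P := by
    apply Subgroup.disjoint_of_coprime_natCard
    rw [hTcard, he]; exact Nat.Coprime.pow _ _ (by decide)
  -- the image of T in the quotient is Q
  have hTQ : T.map (QuotientGroup.mk' P) = Q := by
    have hinj : Function.Injective ((QuotientGroup.mk' P).comp T.subtype) := by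
      rw [injective_iff_map_eq_one]
      intro t ht
      have h1 : (t : X) ∈ P := (QuotientGroup.eq_one_iff _).mp ht
      have h2 : (t : X) ∈ T ⊓ P := ⟨t.2, h1⟩
      rw [hTP.eq_bot] at h2
      exact Subtype.ext h2
    have hcardmap : Nat.card (T.map (QuotientGroup.mk' P)) = Nat.card T := by
      have : T.map (QuotientGroup.mk' P) = ((QuotientGroup.mk' P).comp T.subtype).range := by
        rw [MonoidHom.range_comp, Subgroup.range_subtype]
      rw [this]
      exact (Nat.card_congr (MonoidHom.ofInjective hinj).toEquiv).symm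
    apply Subgroup.eq_of_le_of_card_ge
    · rw [Subgroup.map_le_iff_le_comap, ← hLdef]; exact hTL
    · rw [hc, hcardmap, hTcard]
  -- lift the element of order 3
  obtain ⟨n₀, rfl⟩ := QuotientGroup.mk_surjective ybar
  have hn₀ : n₀ ∈ normalizer (T : Set X) ⊔ L := by rw [hfrat]; exact Subgroup.mem_top _
  obtain ⟨n, hn, l, hl, rfl⟩ := Subgroup.mem_sup_of_normal_right.mp hn₀
  have hmk : (QuotientGroup.mk (n * l) : X ⧸ L) = QuotientGroup.mk n := by
    rw [QuotientGroup.mk_mul, (QuotientGroup.eq_one_iff l).mpr hl, mul_one]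
  rw [hmk] at hybar
  obtain ⟨g, hgdef⟩ : ∃ g, g = n ^ 4 := ⟨_, rfl⟩
  have hgN : g ∈ normalizer (T : Set X) := by rw [hgdef]; exact Subgroup.pow_mem _ hn 4
  have hg3 : g ^ 3 = 1 := by
    rw [hgdef, ← pow_mul, show 4 * 3 = 6 * 2 by norm_num, pow_mul, h n, one_pow]
  have hgL : g ∉ L := by
    intro hgL
    have h1 : (QuotientGroup.mk g : X ⧸ L) = 1 := (QuotientGroup.eq_one_iff g).mpr hgL
    rw [hgdef, QuotientGroup.mk_pow] at h1
    have h2 := orderOf_dvd_of_pow_eq_one h1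
    rw [hybar] at h2
    omega
  have hgT : ¬ ∀ t ∈ T, g * t = t * g := by
    intro hcen
    apply hgL
    have hmem : (QuotientGroup.mk' P g) ∈ centralizer (Q : Set (X ⧸ P)) := by
      rw [Subgroup.mem_centralizer_iff]
      intro q hq
      rw [← hTQ] at hq
      obtain ⟨t, ht, rfl⟩ := hq
      rw [← map_mul, ← map_mul, hcen t ht]
    exact (hmemL g).mpr (hHH hmem)
  push Not at hgT
  obtain ⟨u, hu, hgu⟩ := hgT
  have hconjT : ∀ t ∈ T, g * t * g⁻¹ ∈ T :=
    fun t ht => (Subgroup.mem_normalizer_iff.mp hgN t).mp ht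
  obtain ⟨u₁, hu₁⟩ : ∃ u₁, u₁ = g * u * g⁻¹ := ⟨_, rfl⟩
  obtain ⟨u₂, hu₂⟩ : ∃ u₂, u₂ = g * u₁ * g⁻¹ := ⟨_, rfl⟩
  have hu₁T : u₁ ∈ T := by rw [hu₁]; exact hconjT u hu
  have hu₂T : u₂ ∈ T := by rw [hu₂]; exact hconjT u₁ hu₁T
  have hu₃ : g * u₂ * g⁻¹ = u := by
    rw [hu₂, hu₁]
    have : g * (g * (g * u * g⁻¹) * g⁻¹) * g⁻¹ = (g * g * g) * u * (g * g * g)⁻¹ := by group
    have hg3' : g * g * g = 1 := by rw [← hg3, pow_succ, pow_succ, pow_one]
    rw [this, hg3', one_mul, inv_one, mul_one]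
  obtain ⟨w, hw⟩ : ∃ w, w = u * u₁ := ⟨_, rfl⟩
  obtain ⟨w', hw'⟩ : ∃ w', w' = u₁ * u₂ := ⟨_, rfl⟩
  have hwT : w ∈ T := by rw [hw]; exact T.mul_mem hu hu₁T
  have hw'T : w' ∈ T := by rw [hw']; exact T.mul_mem hu₁T hu₂T
  have hww : w * w = 1 := hTsq w hwT
  have hw'w' : w' * w' = 1 := hTsq w' hw'T
  have hwc : w * w' = w' * w := hTcomm w hwT w' hw'T
  have hgw : g * w * g⁻¹ = w' := by
    rw [hw, hw', hu₂, hu₁]; group
  have hw'' : w * w' = u₂ * u := by
    rw [hw, hw']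
    calc u * u₁ * (u₁ * u₂) = u * (u₁ * u₁) * u₂ := by group
      _ = u * u₂ := by rw [hTsq u₁ hu₁T, mul_one]
      _ = u₂ * u := hTcomm u hu u₂ hu₂T
  have hgw' : g * w' * g⁻¹ = w * w' := by
    rw [hw'', hw']
    calc g * (u₁ * u₂) * g⁻¹ = (g * u₁ * g⁻¹) * (g * u₂ * g⁻¹) := by group
      _ = u₂ * u := by rw [hu₃, ← hu₂]
  have hgw'' : g * (w * w') * g⁻¹ = w := by
    calc g * (w * w') * g⁻¹ = (g * w * g⁻¹) * (g * w' * g⁻¹) := by group
      _ = w' * (w * w') := by rw [hgw, hgw']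
      _ = w * (w' * w') := by rw [← mul_assoc, ← hwc, mul_assoc]
      _ = w := by rw [hw'w', mul_one]
  have hw1 : w ≠ 1 := by
    intro h1
    apply hgu
    have h2 : u₁ = u := by
      have h3 : u * u₁ = u * u := by rw [← hw, h1, hTsq u hu]
      exact mul_left_cancel h3
    rw [hu₁] at h2
    exact mul_inv_eq_iff_eq_mul.mp h2
  have hw'1 : w' ≠ 1 := by
    intro h1
    apply hw1
    rw [← hgw] at h1
    have : w = g⁻¹ * (g * w * g⁻¹) * g := by group
    rw [this, h1]; group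
  have hww'1 : w * w' ≠ 1 := by
    intro h1
    apply hw'1
    rw [← hgw'] at h1
    have : w' = g⁻¹ * (g * w' * g⁻¹) * g := by group
    rw [this, h1]; group
  -- the four-group W
  obtain ⟨W, hWdef⟩ : ∃ W, W = fourGroup w w' hww hw'w' hwc := ⟨_, rfl⟩
  have hmemW : ∀ x, x ∈ W ↔ x = 1 ∨ x = w ∨ x = w' ∨ x = w * w' := by
    intro x; rw [hWdef]; exact mem_fourGroup
  have hWT : W ≤ T := by
    intro x hx
    rcases (hmemW x).mp hx with rfl | rfl | rfl | rfl
    · exact T.one_mem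
    · exact hwT
    · exact hw'T
    · exact T.mul_mem hwT hw'T
  haveI hWcomm : IsMulCommutative W :=
    ⟨⟨fun a b => Subtype.ext (hTcomm a (hWT a.2) b (hWT b.2))⟩⟩
  have hWnc : ¬ IsCyclic W := by
    intro hcyc
    obtain ⟨z, hz⟩ := hcyc.exists_generator
    have hz2 : z * z = 1 := Subtype.ext (hTsq z (hWT z.2))
    have hall : ∀ x : W, x = 1 ∨ x = z := by
      intro x
      obtain ⟨k, rfl⟩ := Subgroup.mem_zpowers_iff.mp (hz x)
      rcases Int.even_or_odd' k with ⟨m, rfl | rfl⟩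
      · left; rw [zpow_mul, zpow_two, hz2, one_zpow]
      · right; rw [zpow_add, zpow_mul, zpow_two, hz2, one_zpow, one_mul, zpow_one]
    have e1 := hall ⟨w, (hmemW w).mpr (Or.inr (Or.inl rfl))⟩
    have e2 := hall ⟨w', (hmemW w').mpr (Or.inr (Or.inr (Or.inl rfl)))⟩
    have e1' : w = (z : X) := by
      rcases e1 with e | e
      · exact absurd (congrArg Subtype.val e) hw1
      · exact congrArg Subtype.val e
    have e2' : w' = (z : X) := by
      rcases e2 with e | e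
      · exact absurd (congrArg Subtype.val e) hw'1
      · exact congrArg Subtype.val e
    apply hww'1
    rw [e2', ← e1', hww]
  have hWcop : (Nat.card W).Coprime (Nat.card P) := by
    have h1 : Nat.card W ∣ 2 ^ c := by rw [← hTcard]; exact Subgroup.card_dvd_of_le hWT
    rw [he]
    exact Nat.Coprime.coprime_dvd_left h1 (Nat.Coprime.pow _ _ (by decide))
  have hWP : W ≤ normalizer (P : Set X) := by
    rw [Subgroup.normalizer_eq_top]; exact le_top
  have hgen := Cfsg.Agent.Lead.generated_by_centralizers W P hWnc hWP hWcop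
  -- w acts nontrivially on P
  have hwP : w ∉ P := by
    intro hwP
    have : w ∈ T ⊓ P := ⟨hwT, hwP⟩
    rw [hTP.eq_bot] at this
    exact hw1 this
  have hnotle : ¬ P ≤ centralizer ({w} : Set X) := by
    intro hle
    apply hwP
    apply hC
    rw [Subgroup.mem_centralizer_iff]
    intro t ht
    exact Subgroup.mem_centralizer_singleton_iff.mp (hle ht)
  have hex : ∃ a ∈ W, a ≠ 1 ∧ ¬ (P ⊓ centralizer ({a} : Set X) ≤ centralizer ({w} : Set X)) := by
    by_contra hcon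
    push Not at hcon
    apply hnotle
    rw [← hgen]
    apply iSup₂_le
    intro a ha
    exact hcon a ha.1 ha.2
  obtain ⟨a, haW, ha1, hane⟩ := hex
  obtain ⟨t, ht, htw⟩ := SetLike.not_le_iff_exists.mp hane
  have htP : t ∈ P := ht.1
  have htw' : ¬ t * w = w * t := fun h => htw (Subgroup.mem_centralizer_singleton_iff.mpr h)
  have hwinv : w⁻¹ = w := inv_eq_of_mul_eq_one_right hww
  obtain ⟨s, hs⟩ : ∃ s, s = t⁻¹ * (w * t * w⁻¹) := ⟨_, rfl⟩
  have hsP : s ∈ P := by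
    rw [hs]; exact P.mul_mem (P.inv_mem htP) (hPn.conj_mem t htP w)
  have hs1 : s ≠ 1 := by
    intro h1
    rw [hs, inv_mul_eq_one] at h1
    exact htw' (mul_inv_eq_iff_eq_mul.mp h1.symm).symm
  have hws : w * s * w⁻¹ = s⁻¹ := by
    rw [hs]
    have : w * (t⁻¹ * (w * t * w⁻¹)) * w⁻¹ =
        (w * t⁻¹ * w⁻¹) * ((w * w) * t * (w * w)⁻¹) := by group
    rw [this, hww]; group
  have has : a * s = s * a := by
    have ht' : t ∈ centralizer ({a} : Set X) := ht.2
    have hwa : w ∈ centralizer ({a} : Set X) :=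
      Subgroup.mem_centralizer_singleton_iff.mpr (hTcomm w hwT a (hWT haW))
    have : s ∈ centralizer ({a} : Set X) := by
      rw [hs]
      exact mul_mem (inv_mem ht') (mul_mem (mul_mem hwa ht') (inv_mem hwa))
    exact (Subgroup.mem_centralizer_singleton_iff.mp this).symm
  have h6 : (g * s) ^ 6 = 1 := h _
  have hodd : Odd (3 ^ e) := Odd.pow (by decide)
  rcases (hmemW a).mp haW with h' | h' | h' | h'
  · exact ha1 h'
  · rw [h'] at ht
    exact htw' (Subgroup.mem_centralizer_singleton_iff.mp ht.2)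
  · -- a = w' centralizes s; w and w * w' invert s
    rw [h'] at has
    have hinv := inverts_mul has hws
    exact hs1 (final_contra' P (3 ^ e) hodd hPN g w' (w * w') w s hg3 hsP hgw' hgw'' hgw
      has hinv hws h6)
  · -- a = w * w' centralizes s; w and w' invert s
    rw [h'] at has
    have hinv := inverts_mul has hws
    have hw'eq : w * (w * w') = w' := by rw [← mul_assoc, hww, one_mul]
    rw [hw'eq] at hinv
    exact hs1 (final_contra' P (3 ^ e) hodd hPN g (w * w') w w' s hg3 hsP hgw'' hgw hgw'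
      has hws hinv h6)

/-- The `3`-length of a group of exponent dividing `6` is at most one. -/
theorem pLength_three {G : Type*} [Group G] [Finite G] (h : ∀ x : G, x ^ 6 = 1) :
    Cfsg.PLengthLE 3 1 G := by
  haveI : Fact (Nat.Prime 3) := ⟨Nat.prime_three⟩
  apply pLengthLE_one_of_index
  have hsolv : Group.IsSolvable G := isSolvable_of_exp6 h
  have hHH := Cfsg.Agent.Helper23.centralizer_pCore_quotient_le_of_isPSolvable
    (Cfsg.Agent.Helper10.isPSolvable_of_isSolvable 3 hsolv)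
  have h6 : ∀ y : G ⧸ Cfsg.pPrimeCore 3 G, y ^ 6 = 1 := by
    intro y
    obtain ⟨x, rfl⟩ := QuotientGroup.mk_surjective y
    rw [← QuotientGroup.mk_pow, h x]; rfl
  exact index_pCore_three_coprime h6 hHH

end main3

end Cfsg.Agent.Helper21.ExpSix
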