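import Mathlib
import Cfsg.Prelude.Def_OddOrderLocal
import Cfsg.Agent.Helper26.Thompson
import Cfsg.Agent.S1452
import Cfsg.Agent.S1453
import Cfsg.Agent.Helper7.RankSylow

/-!
# B&G section 10, part (c): a `p'`-automorphism centralizing a maximal elementary abelian subgroup
of order `p²` of a `p`-group of rank `≥ 3` centralizes `Ω₁(Z₂)`.
-/

set_option autoImplicit false
set_option linter.unusedSectionVars false

namespace Cfsg.Agent.Helper21.BG10

open Subgroup Cfsg.Agent.Helper26

/-- `Ω₁(Z₂(R))` in the form used by S1453. -/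
def omZ2 (p : ℕ) (R : Type*) [Group R] : Subgroup R :=
  Subgroup.closure {x : R | x ∈ Subgroup.upperCentralSeries R 2 ∧ x ^ p = 1}

/-- `Ω₁(Z(R))` in the form used by S1453. -/
def omZ1 (p : ℕ) (R : Type*) [Group R] : Subgroup R :=
  Subgroup.closure {x : R | x ∈ Subgroup.center R ∧ x ^ p = 1}

theorem omZ1_le_center (p : ℕ) (R : Type*) [Group R] : omZ1 p R ≤ Subgroup.center R := by
  unfold omZ1
  rw [Subgroup.closure_le]
  rintro x ⟨hx, -⟩
  exact hx

theorem center_le_ucs2 (R : Type*) [Group R] :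
    Subgroup.center R ≤ Subgroup.upperCentralSeries R 2 := by
  rw [← Subgroup.upperCentralSeries_one]
  exact Subgroup.upperCentralSeries_mono R (by norm_num)

theorem omZ1_le_omZ2 (p : ℕ) (R : Type*) [Group R] : omZ1 p R ≤ omZ2 p R := by
  unfold omZ1 omZ2
  apply Subgroup.closure_mono
  rintro x ⟨hx, hxp⟩
  exact ⟨center_le_ucs2 R hx, hxp⟩

theorem omZ2_map_le (p : ℕ) {R : Type*} [Group R] (φ : R ≃* R) :
    (omZ2 p R).map φ.toMonoidHom ≤ omZ2 p R := by
  unfold omZ2
  rw [MonoidHom.map_closure]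
  apply Subgroup.closure_mono
  rintro _ ⟨x, ⟨hx, hxp⟩, rfl⟩
  refine ⟨?_, ?_⟩
  · have hc : (Subgroup.upperCentralSeries R 2).Characteristic := inferInstance
    have h1 : φ x ∈ (Subgroup.upperCentralSeries R 2).comap φ.symm.toMonoidHom := by
      rw [Subgroup.mem_comap]
      show φ.symm (φ x) ∈ _
      rw [MulEquiv.symm_apply_apply]
      exact hx
    rwa [hc.fixed φ.symm] at h1
  · show (φ x) ^ p = 1
    rw [← map_pow, hxp, map_one]

theorem omZ2_normal (p : ℕ) (R : Type*) [Group R] : (omZ2 p R).Normal := by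
  refine ⟨fun n hn g => ?_⟩
  have := omZ2_map_le p (MulAut.conj g) ⟨n, hn, rfl⟩
  simpa [MulAut.conj_apply] using this


/-- **Key lemma**: `R` a `p`-group of rank `≥ 3`, `E` a maximal elementary abelian subgroup of
order `p²`, `φ` an automorphism of order prime to `p` fixing `E` elementwise.  Then `φ` fixes
`Ω₁(Z₂(R))` elementwise. -/
theorem fixes_omZ2 {R : Type*} [Group R] [Finite R] (p : ℕ) [hpf : Fact p.Prime] (hp : p ≠ 2)
    (hR : IsPGroup p R) (hr : ¬ Cfsg.PRankLE p 2 R)
    (E : Subgroup R) (hE : Cfsg.IsElementaryAbelian p E) (hE2 : Nat.card E = p ^ 2)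
    (hEmax : ∀ B : Subgroup R, Cfsg.IsElementaryAbelian p B → E ≤ B → B = E)
    (φ : R ≃* R) (n : ℕ) (hn : n.Coprime p) (hφn : ∀ r : R, (φ ^ n) r = r)
    (hφE : ∀ e ∈ E, φ e = e) : ∀ z ∈ omZ2 p R, φ z = z := by
  obtain ⟨h1, h2, ⟨h3e, h3c⟩, -, -⟩ := Cfsg.Agent.S1453.result p hp hR hr E hE hE2 hEmax
  change ¬ E ≤ Subgroup.centralizer ((omZ2 p R : Subgroup R) : Set R) at h1
  change Nat.card ↥(omZ1 p R) = p at h2
  change Cfsg.IsElementaryAbelian p (omZ2 p R) at h3e
  change Nat.card ↥(omZ2 p R) = p ^ 2 at h3c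
  have hEiff := isElementaryAbelian_iff.mp hE
  have hZ0iff := isElementaryAbelian_iff.mp h3e
  -- Ω₁(Z(R)) ≤ E
  have hZ1E : omZ1 p R ≤ E := by
    unfold omZ1
    rw [Subgroup.closure_le]
    rintro s ⟨hs, hsp⟩
    have hEA : Cfsg.IsElementaryAbelian p (E ⊔ Subgroup.zpowers s) := by
      apply isElementaryAbelian_sup hE (isElementaryAbelian_zpowers_of_orderOf_eq hsp)
      rintro a _ _ ⟨i, rfl⟩
      have hcs : Commute a s := (Subgroup.mem_center_iff.mp hs a)
      exact (Commute.zpow_right hcs i).eq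
    have := hEmax _ hEA le_sup_left
    rw [← this]
    exact (le_sup_right : Subgroup.zpowers s ≤ _) (Subgroup.mem_zpowers s)
  -- b ∈ E not centralizing Ω₁(Z₂(R))
  obtain ⟨b, hbE, hbC⟩ := SetLike.not_le_iff_exists.mp h1
  have hbp : b ^ p = 1 := hEiff.2 b hbE
  -- D = C_{Z₀}(b) = Z₁
  have hD : omZ2 p R ⊓ Subgroup.centralizer ({b} : Set R) = omZ1 p R := by
    symm
    apply Subgroup.eq_of_le_of_card_ge
    · apply le_inf (omZ1_le_omZ2 p R)
      intro c hc
      rw [Subgroup.mem_centralizer_singleton_iff]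
      exact ((Subgroup.mem_center_iff.mp (omZ1_le_center p R hc)) b).symm
    · rw [h2]
      have hlt : omZ2 p R ⊓ Subgroup.centralizer ({b} : Set R) < omZ2 p R := by
        refine lt_of_le_of_ne inf_le_left ?_
        intro heq
        apply hbC
        rw [Subgroup.mem_centralizer_iff]
        intro z hz
        have hz' : z ∈ omZ2 p R ⊓ Subgroup.centralizer ({b} : Set R) := by rw [heq]; exact hz
        have := Subgroup.mem_centralizer_singleton_iff.mp hz'.2
        exact this
      have hdvd : Nat.card ↥(omZ2 p R ⊓ Subgroup.centralizer ({b} : Set R)) ∣ p ^ 2 := by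
        rw [← h3c]; exact Subgroup.card_dvd_of_le inf_le_left
      obtain ⟨j, hj, hcard⟩ := (Nat.dvd_prime_pow hpf.out).mp hdvd
      have hcardlt : Nat.card ↥(omZ2 p R ⊓ Subgroup.centralizer ({b} : Set R)) < p ^ 2 := by
        rw [← h3c]
        by_contra hge
        push Not at hge
        exact hlt.ne (Subgroup.eq_of_le_of_card_ge hlt.le hge)
      rw [hcard] at hcardlt ⊢
      have hj2 : j < 2 := (Nat.pow_lt_pow_iff_right hpf.out.one_lt).mp hcardlt
      calc p ^ j ≤ p ^ 1 := Nat.pow_le_pow_right hpf.out.pos (by omega)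
        _ = p := pow_one p
  -- the fixed points of φ form a subgroup containing the generators
  have hfix : omZ2 p R ≤ (MonoidHom.eqLocus φ.toMonoidHom (MonoidHom.id R)) := by
    unfold omZ2
    rw [Subgroup.closure_le]
    rintro z ⟨hz2, hzp⟩
    show φ z = z
    have hzZ0 : z ∈ omZ2 p R := Subgroup.subset_closure ⟨hz2, hzp⟩
    have hφzZ0 : φ z ∈ omZ2 p R := omZ2_map_le p φ ⟨z, hzZ0, rfl⟩
    -- k = [z, b] is central of order dividing p
    set k := z * b * z⁻¹ * b⁻¹ with hk
    have hkc : k ∈ Subgroup.center R := by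
      have := (Subgroup.mem_upperCentralSeries_succ_iff (n := 1)).mp hz2 b
      rwa [Subgroup.upperCentralSeries_one] at this
    have hkb : Commute k b := (Subgroup.mem_center_iff.mp hkc b).symm
    have hzb : z * b * z⁻¹ = k * b := by rw [hk]; group
    have hkp : k ^ p = 1 := by
      have h5 : (k * b) ^ p = 1 := by
        rw [← hzb]
        have : (z * b * z⁻¹) ^ p = z * b ^ p * z⁻¹ := by
          rw [conj_pow]
        rw [this, hbp]; group
      rw [hkb.mul_pow, hbp, mul_one] at h5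
      exact h5
    have hkZ1 : k ∈ omZ1 p R := Subgroup.subset_closure ⟨hkc, hkp⟩
    have hφk : φ k = k := hφE k (hZ1E hkZ1)
    have hφb : φ b = b := hφE b hbE
    -- c = φ z * z⁻¹ commutes with b
    set c := φ z * z⁻¹ with hc
    have hφzb : φ z * b * (φ z)⁻¹ = k * b := by
      have h6 : φ (z * b * z⁻¹) = φ (k * b) := by rw [hzb]
      rw [map_mul, map_mul, map_inv, map_mul, hφk, hφb] at h6
      exact h6
    have hzb' : z⁻¹ * b * z = k⁻¹ * b := by
      have h7 : b = z⁻¹ * (k * b) * z := by rw [← hzb]; group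
      have hkz : Commute k z := (Subgroup.mem_center_iff.mp hkc z).symm
      have hkz' : z⁻¹ * k = k * z⁻¹ := (hkz.inv_right).eq.symm
      calc z⁻¹ * b * z = k⁻¹ * (z⁻¹ * (k * b) * z) := by
            rw [show z⁻¹ * (k * b) * z = (z⁻¹ * k) * b * z by group, hkz']; group
        _ = k⁻¹ * b := by rw [← h7]
    have hcb : c * b = b * c := by
      have h8 : c * b * c⁻¹ = b := by
        calc c * b * c⁻¹ = φ z * (z⁻¹ * b * z) * (φ z)⁻¹ := by rw [hc]; group
          _ = φ z * (k⁻¹ * b) * (φ z)⁻¹ := by rw [hzb']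
          _ = k⁻¹ * (φ z * b * (φ z)⁻¹) := by
            have hkφ : Commute k (φ z) := (Subgroup.mem_center_iff.mp hkc (φ z)).symm
            have : φ z * k⁻¹ = k⁻¹ * φ z := (hkφ.inv_left).eq.symm
            calc φ z * (k⁻¹ * b) * (φ z)⁻¹ = (φ z * k⁻¹) * b * (φ z)⁻¹ := by group
              _ = (k⁻¹ * φ z) * b * (φ z)⁻¹ := by rw [this]
              _ = k⁻¹ * (φ z * b * (φ z)⁻¹) := by group
          _ = k⁻¹ * (k * b) := by rw [hφzb]
          _ = b := by group
      calc c * b = (c * b * c⁻¹) * c := by group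
        _ = b * c := by rw [h8]
    have hcZ0 : c ∈ omZ2 p R := Subgroup.mul_mem _ hφzZ0 (Subgroup.inv_mem _ hzZ0)
    have hcZ1 : c ∈ omZ1 p R := by
      rw [← hD]
      exact ⟨hcZ0, Subgroup.mem_centralizer_singleton_iff.mpr hcb⟩
    have hφc : φ c = c := hφE c (hZ1E hcZ1)
    have hcp : c ^ p = 1 := hZ0iff.2 c hcZ0
    have hφz : φ z = c * z := by rw [hc]; group
    -- iterate
    have hiter : ∀ j : ℕ, (φ ^ j) z = c ^ j * z := by
      intro j
      induction j with
      | zero => simp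
      | succ j ih =>
        rw [pow_succ', MulAut.mul_apply, ih, map_mul, map_pow, hφc, hφz, pow_succ]
        group
    have hcn : c ^ n = 1 := by
      have := hiter n
      rw [hφn z] at this
      have h9 : c ^ n * z = 1 * z := by rw [one_mul]; exact this.symm
      exact mul_right_cancel h9
    have hc1 : c = 1 := by
      have ha := orderOf_dvd_of_pow_eq_one hcn
      have hb := orderOf_dvd_of_pow_eq_one hcp
      have := Nat.dvd_gcd ha hb
      rw [hn] at this
      exact orderOf_eq_one_iff.mp (Nat.dvd_one.mp this)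
    rw [hφz, hc1, one_mul]
  intro z hz
  exact hfix hz


theorem exists_abelian_rank_three_ge_omZ2 {R : Type*} [Group R] [Finite R] (p : ℕ)
    [hpf : Fact p.Prime] (hp : p ≠ 2)
    (hR : IsPGroup p R) (hr : ¬ Cfsg.PRankLE p 2 R)
    (E : Subgroup R) (hE : Cfsg.IsElementaryAbelian p E) (hE2 : Nat.card E = p ^ 2)
    (hEmax : ∀ B : Subgroup R, Cfsg.IsElementaryAbelian p B → E ≤ B → B = E) :
    Cfsg.IsElementaryAbelian p (omZ2 p R) ∧ Nat.card ↥(omZ2 p R) = p ^ 2 ∧
      ∃ A : Subgroup R, omZ2 p R ≤ A ∧ (∀ a ∈ A, ∀ b ∈ A, a * b = b * a) ∧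
        ¬ Cfsg.PRankLE p 2 A := by
  obtain ⟨-, -, ⟨h3e, h3c⟩, -, -⟩ := Cfsg.Agent.S1453.result p hp hR hr E hE hE2 hEmax
  change Cfsg.IsElementaryAbelian p (omZ2 p R) at h3e
  change Nat.card ↥(omZ2 p R) = p ^ 2 at h3c
  refine ⟨h3e, h3c, ?_⟩
  have := omZ2_normal p R
  obtain ⟨A, hZA, -, hCA, hrA⟩ := Cfsg.Agent.S1452.result p hp hR hr (omZ2 p R) h3e h3c
  refine ⟨A, hZA, ?_, hrA⟩
  intro a ha b hb
  have hb' : b ∈ Subgroup.centralizer (A : Set R) := by rw [hCA]; exact hb
  exact (Subgroup.mem_centralizer_iff.mp hb' a ha)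

/-- Conjugation by a normalizing element as an automorphism of the subgroup. -/
def conjEquiv {G : Type*} [Group G] (P : Subgroup G) (x : G)
    (hx : x ∈ Subgroup.normalizer (P : Set G)) : ↥P ≃* ↥P where
  toFun r := ⟨x * r * x⁻¹, (Subgroup.mem_normalizer_iff.mp hx r).mp r.2⟩
  invFun r := ⟨x⁻¹ * r * x, by
    have := (Subgroup.mem_normalizer_iff.mp (Subgroup.inv_mem _ hx) r).mp r.2
    simpa using this⟩
  left_inv r := by
    apply Subtype.ext
    show x⁻¹ * (x * (r : G) * x⁻¹) * x = r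
    group
  right_inv r := by
    apply Subtype.ext
    show x * (x⁻¹ * (r : G) * x) * x⁻¹ = r
    group
  map_mul' a b := by
    apply Subtype.ext
    show x * ((a : G) * b) * x⁻¹ = (x * a * x⁻¹) * (x * b * x⁻¹)
    group

theorem conjEquiv_apply {G : Type*} [Group G] (P : Subgroup G) (x : G)
    (hx : x ∈ Subgroup.normalizer (P : Set G)) (r : ↥P) :
    ((conjEquiv P x hx r : ↥P) : G) = x * r * x⁻¹ := rfl

theorem conjEquiv_pow_apply {G : Type*} [Group G] (P : Subgroup G) (x : G)
    (hx : x ∈ Subgroup.normalizer (P : Set G)) (j : ℕ) (r : ↥P) :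
    ((((conjEquiv P x hx) ^ j) r : ↥P) : G) = x ^ j * r * (x ^ j)⁻¹ := by
  induction j generalizing r with
  | zero => simp
  | succ j ih =>
    rw [pow_succ', MulAut.mul_apply, conjEquiv_apply, ih, pow_succ']
    group

/-- **Ambient form.** `P` a `p`-subgroup of rank `≥ 3`, `B ≤ P` a maximal elementary abelian
subgroup of `P` of order `p²`, `X` a `p'`-group normalizing `P` and centralizing `B`.  Then there
is an elementary abelian `Z₀ ≤ P` of order `p²` centralized by `X` and contained in an abelian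
subgroup of `P` of rank `≥ 3`. -/
theorem exists_centralized_rank_three {G : Type*} [Group G] [Finite G] (p : ℕ)
    [hpf : Fact p.Prime] (hp : p ≠ 2) (P B X : Subgroup G) (hP : IsPGroup p P)
    (hr : ¬ Cfsg.PRankLE p 2 ↥P) (hBP : B ≤ P) (hB : Cfsg.IsElementaryAbelian p B)
    (hB2 : Nat.card B = p ^ 2)
    (hBmax : ∀ B' : Subgroup G, B' ≤ P → Cfsg.IsElementaryAbelian p B' → B ≤ B' → B' = B)
    (hXP : X ≤ Subgroup.normalizer (P : Set G)) (hXB : ∀ x ∈ X, ∀ b ∈ B, x * b = b * x)
    (hXp : (Nat.card X).Coprime p) :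
    ∃ Z₀ : Subgroup G, Z₀ ≤ P ∧ Cfsg.IsElementaryAbelian p Z₀ ∧ Nat.card Z₀ = p ^ 2 ∧
      (∀ x ∈ X, ∀ z ∈ Z₀, x * z = z * x) ∧
      ∃ A : Subgroup G, A ≤ P ∧ Z₀ ≤ A ∧ (∀ a ∈ A, ∀ b ∈ A, a * b = b * a) ∧
        ¬ Cfsg.PRankLE p 2 ↥A := by
  set E : Subgroup ↥P := B.subgroupOf P with hEdef
  have hE : Cfsg.IsElementaryAbelian p E := isElementaryAbelian_subgroupOf P hB
  have hE2 : Nat.card E = p ^ 2 := by rw [hEdef, card_subgroupOf_of_le hBP, hB2]
  have hEmax : ∀ B' : Subgroup ↥P, Cfsg.IsElementaryAbelian p B' → E ≤ B' → B' = E := by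
    intro B' hB' hEB'
    have h1 : B ≤ B'.map P.subtype := by
      intro b hb
      exact ⟨⟨b, hBP hb⟩, hEB' (Subgroup.mem_subgroupOf.mpr hb), rfl⟩
    have h2 := hBmax (B'.map P.subtype) (Subgroup.map_subtype_le _)
      (isElementaryAbelian_map _ hB') h1
    rw [hEdef, ← h2]
    ext r
    rw [Subgroup.mem_subgroupOf]
    constructor
    · intro hr; exact ⟨r, hr, rfl⟩
    · rintro ⟨r', hr', hrr'⟩
      have : r' = r := Subtype.ext hrr'
      rwa [← this]
  obtain ⟨hZe, hZc, A, hZA, hAc, hAr⟩ :=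
    exists_abelian_rank_three_ge_omZ2 p hp hP hr E hE hE2 hEmax
  refine ⟨(omZ2 p ↥P).map P.subtype, Subgroup.map_subtype_le _, isElementaryAbelian_map _ hZe,
    by rw [card_map_subtype, hZc], ?_, A.map P.subtype, Subgroup.map_subtype_le _,
    Subgroup.map_mono hZA, ?_, ?_⟩
  · rintro x hx _ ⟨z, hz, rfl⟩
    have hxN := hXP hx
    have hn : (orderOf x).Coprime p := by
      have h1 : orderOf x ∣ Nat.card X := by
        have := orderOf_dvd_natCard (⟨x, hx⟩ : X)
        rwa [← Subgroup.orderOf_coe] at this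
      exact Nat.Coprime.coprime_dvd_left h1 hXp
    have hfix := fixes_omZ2 p hp hP hr E hE hE2 hEmax (conjEquiv P x hxN) (orderOf x) hn
      (by
        intro r
        apply Subtype.ext
        rw [conjEquiv_pow_apply, pow_orderOf_eq_one]
        group)
      (by
        intro e he
        apply Subtype.ext
        rw [conjEquiv_apply]
        have := hXB x hx e (Subgroup.mem_subgroupOf.mp he)
        rw [this]; group)
      z hz
    have h3 := congrArg Subtype.val hfix
    rw [conjEquiv_apply] at h3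
    show x * (z : G) = (z : G) * x
    calc x * (z : G) = (x * (z : G) * x⁻¹) * x := by group
      _ = (z : G) * x := by rw [h3]
  · rintro _ ⟨a, ha, rfl⟩ _ ⟨b, hb, rfl⟩
    have := hAc a ha b hb
    have h3 := congrArg Subtype.val this
    simpa using h3
  · intro h
    apply hAr
    exact Cfsg.Agent.Helper7.PRankLE.of_injective
      (A.equivMapOfInjective P.subtype P.subtype_injective).toMonoidHom
      (A.equivMapOfInjective P.subtype P.subtype_injective).injective h

end Cfsg.Agent.Helper21.BG10
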