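import Mathlib
import Cfsg.Prelude.Def_OddOrderLocal
import Cfsg.Agent.Helper21.BG10b
import Cfsg.Agent.Helper21.BG10c
import Cfsg.Agent.Lead.PiHall2
import Cfsg.Agent.S1455

/-!
# B&G section 10, part (d): Lemma 10.3 (= S1406), relative to 9.6 and 10.1(a)
-/

set_option autoImplicit false
set_option linter.unusedSectionVars false

namespace Cfsg.Agent.Helper21.BG10

open Subgroup Cfsg.Agent.Helper26

universe u

variable {G : Type u} [Group G] [Finite G]

theorem inUniqueMaximal_of_le {M U Y : Subgroup G} (hM : IsCoatom M) (hUY : U ≤ Y) (hYM : Y ≤ M)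
    (hU : Cfsg.InUniqueMaximal U) : Cfsg.InUniqueMaximal Y :=
  ⟨M, ⟨hM, hYM⟩, fun _ ⟨hL, hYL⟩ => hU.unique ⟨hL, hUY.trans hYL⟩ ⟨hM, hUY.trans hYM⟩⟩

theorem alphaCore_le (M : Subgroup G) : Cfsg.alphaCore M ≤ M := Subgroup.map_subtype_le _

theorem le_normalizer_alphaCore (M : Subgroup G) :
    M ≤ Subgroup.normalizer (Cfsg.alphaCore M : Set G) := by
  have h1 : ((Cfsg.alphaCore M).subgroupOf M).Normal := by
    unfold Cfsg.alphaCore Subgroup.subgroupOf
    rw [Subgroup.comap_map_eq_self_of_injective (Subgroup.subtype_injective M)]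
    infer_instance
  exact (Subgroup.normal_subgroupOf_iff_le_normalizer (alphaCore_le M)).mp h1

theorem card_alphaCore_isPiNum (M : Subgroup G) :
    ∀ r : ℕ, r.Prime → r ∣ Nat.card (Cfsg.alphaCore M) → r ∈ Cfsg.alpha M := by
  intro r hr hd
  unfold Cfsg.alphaCore at hd
  rw [Subgroup.card_map_of_injective (Subgroup.subtype_injective M)] at hd
  exact Cfsg.Agent.Helper19.piCore_isPiNum (G := ↥M) (Cfsg.alpha M) r hr hd

theorem isPGroup_of_forall_prime_dvd {p : ℕ} [Fact p.Prime] {P : Subgroup G}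
    (h : ∀ r : ℕ, r.Prime → r ∣ Nat.card P → r = p) : IsPGroup p P := by
  apply IsPGroup.of_card (n := (Nat.card P).primeFactorsList.length)
  exact Nat.eq_prime_pow_of_unique_prime_dvd Nat.card_pos.ne' (fun {d} hd hdv => h d hd hdv)

/-- A `p`-subgroup of `M` of `p'`-index has the `p`-rank of `M`. -/
theorem not_pRankLE_of_relIndex {p k : ℕ} [Fact p.Prime] {M P : Subgroup G} (hPM : P ≤ M)
    (hP : IsPGroup p P) (hidx : ¬ p ∣ P.relIndex M) (hM : ¬ Cfsg.PRankLE p k ↥M) :
    ¬ Cfsg.PRankLE p k ↥P := by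
  intro h
  apply hM
  have hP' : IsPGroup p (P.subgroupOf M) := hP.comap_subtype
  have hidx' : ¬ p ∣ (P.subgroupOf M).index := hidx
  have hS := Cfsg.Agent.S1455.pRankLE_of_sylow (hP'.toSylow hidx') (k := k)
  apply hS
  show Cfsg.PRankLE p k ↥(P.subgroupOf M)
  exact Cfsg.Agent.Helper7.PRankLE.of_injective (Subgroup.subgroupOfEquivOfLe hPM).toMonoidHom
    (Subgroup.subgroupOfEquivOfLe hPM).injective h

/-- **B&G Lemma 10.3** (= S1406), relative to 9.6 and 10.1(a). -/
theorem lemma_10_3 (hG : Cfsg.IsMinSimpleOddOrder G) (h96 : Uniq96 G) (h101 : Ctl101 G)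
    (M : Subgroup G) (hM : IsCoatom M) (X : Subgroup G) (hXM : X ≤ M)
    (hXα : ∀ p : ℕ, p.Prime → p ∣ Nat.card X → p ∉ Cfsg.alpha M)
    (hr : ¬ Cfsg.RankLE 1 ↥(Cfsg.alphaCore M ⊓ Subgroup.centralizer (X : Set G))) :
    Cfsg.InUniqueMaximal (M ⊓ Subgroup.centralizer (X : Set G)) := by
  unfold Cfsg.RankLE at hr
  push Not at hr
  obtain ⟨p, hp, hrp⟩ := hr
  have : Fact p.Prime := ⟨hp⟩
  obtain ⟨B, hBC, hBe, hBcard⟩ := Cfsg.Agent.Lead.TT.exists_elementary_of_not_pRankLE' 1 _ hrp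
  have hBα : B ≤ Cfsg.alphaCore M := hBC.trans inf_le_left
  have hBX : B ≤ Subgroup.centralizer (X : Set G) := hBC.trans inf_le_right
  have hBM : B ≤ M := hBα.trans (alphaCore_le M)
  have hBp : IsPGroup p B := isPGroup_of_isElementaryAbelian hBe
  have hBiff := isElementaryAbelian_iff.mp hBe
  have hMt : M ≠ ⊤ := hM.1
  -- p ∈ α(M)
  have hpB : p ∣ Nat.card B := by
    obtain ⟨j, hj⟩ := IsPGroup.iff_card.mp hBp
    have hj0 : j ≠ 0 := by
      rintro rfl
      rw [hj, pow_zero] at hBcard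
      have := Nat.one_lt_pow (n := 1 + 1) (by norm_num) hp.one_lt
      omega
    rw [hj]; exact dvd_pow_self p hj0
  have hpα : p ∈ Cfsg.alpha M :=
    card_alphaCore_isPiNum M p hp (hpB.trans (Subgroup.card_dvd_of_le hBα))
  have hp2 : p ≠ 2 := by
    rintro rfl
    have h2 : 2 ∣ Nat.card G := (hpB.trans (Subgroup.card_subgroup_dvd_card B))
    exact (Nat.not_even_iff_odd.mpr hG.1) (even_iff_two_dvd.mpr h2)
  -- Hall property of M_α
  obtain ⟨-, -, -, hHall, -⟩ := hall_core hG h101 hM (Cfsg.alpha M) (subset_refl _)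
    (alpha_subset_sigma hG h96 hM)
  change Cfsg.IsPiHallOf (Cfsg.alpha M) (Cfsg.alphaCore M) M at hHall
  -- coprime action of X on M_α
  have hXN : X ≤ Subgroup.normalizer (Cfsg.alphaCore M : Set G) :=
    hXM.trans (le_normalizer_alphaCore M)
  have hcop : (Nat.card X).Coprime (Nat.card (Cfsg.alphaCore M)) := by
    by_contra hne
    obtain ⟨r, hr, hrd⟩ := Nat.exists_prime_and_dvd hne
    exact hXα r hr (hrd.trans (Nat.gcd_dvd_left _ _))
      (card_alphaCore_isPiNum M r hr (hrd.trans (Nat.gcd_dvd_right _ _)))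
  have hsolvα : Group.IsSolvable ↥(Cfsg.alphaCore M) :=
    hG.2.2.2 _ (fun h => hMt (top_le_iff.mp (h ▸ alphaCore_le M)))
  have hXB : X ≤ Subgroup.normalizer (B : Set G) := by
    intro x hx
    rw [Subgroup.mem_normalizer_iff]
    intro b
    constructor
    · intro hb
      have := Subgroup.mem_centralizer_iff.mp (hBX hb) x hx
      have e : x * b * x⁻¹ = b := by rw [this]; group
      rw [e]; exact hb
    · intro hb
      have := Subgroup.mem_centralizer_iff.mp (hBX hb) x hx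
      have e : b = x⁻¹ * (x * b * x⁻¹) * x := by group
      have e2 : x⁻¹ * (x * b * x⁻¹) * x = x * b * x⁻¹ := by
        calc x⁻¹ * (x * b * x⁻¹) * x = x⁻¹ * ((x * b * x⁻¹) * x) := by group
          _ = x⁻¹ * (x * (x * b * x⁻¹)) := by rw [this]
          _ = x * b * x⁻¹ := by group
      rw [e, e2]; exact hb
  obtain ⟨P, ⟨hPα, hPp', hPidx⟩, hXP, hBP⟩ :=
    Cfsg.Agent.Lead.coprime_invariant_pi_le_hall X (Cfsg.alphaCore M) B hXN hcop hsolvα
      ({q | q = p} : Set ℕ) hBα hXB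
      (fun r hr hd => by
        obtain ⟨j, hj⟩ := IsPGroup.iff_card.mp hBp
        rw [hj] at hd
        exact (Nat.prime_dvd_prime_iff_eq hr hp).mp (hr.dvd_of_dvd_pow hd))
  have hPp : IsPGroup p P := isPGroup_of_forall_prime_dvd (fun r hr hd => hPp' r hr hd)
  have hPM : P ≤ M := hPα.trans (alphaCore_le M)
  have hPrel : ¬ p ∣ P.relIndex M := by
    rw [← Subgroup.relIndex_mul_relIndex P (Cfsg.alphaCore M) M hPα (alphaCore_le M)]
    intro hd
    rcases (Nat.Prime.dvd_mul hp).mp hd with h | h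
    · exact hPidx p hp rfl h
    · exact hHall.2.2 p hp hpα h
  have hPr : ¬ Cfsg.PRankLE p 2 ↥P := not_pRankLE_of_relIndex hPM hPp hPrel hpα.2
  have hCXM : M ⊓ Subgroup.centralizer (X : Set G) ≤ M := inf_le_left
  have hBt : B ≠ ⊤ := fun h => hMt (top_le_iff.mp (h ▸ hBM))
  have hBr1 : ¬ Cfsg.RankLE 1 ↥B := fun h =>
    Cfsg.Agent.Lead.BG9.not_pRankLE_of_elementary (le_refl B) hBe
      (lt_of_lt_of_le (Nat.pow_lt_pow_right hp.one_lt (by norm_num)) hBcard) (h p hp)
  by_cases hCB : Cfsg.RankLE 2 ↥(Subgroup.centralizer (B : Set G))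
  · -- B is a maximal elementary abelian subgroup, of order p²
    have hBleC : B ≤ Subgroup.centralizer (B : Set G) := by
      intro b hb
      rw [Subgroup.mem_centralizer_iff]
      intro c hc
      exact hBiff.1 c hc b hb
    have hB2 : Nat.card B = p ^ 2 := by
      apply le_antisymm
      · by_contra hlt
        push Not at hlt
        exact Cfsg.Agent.Lead.BG9.not_pRankLE_of_elementary hBleC hBe hlt (hCB p hp)
      · simpa using hBcard
    have hBmax : ∀ B' : Subgroup G, B' ≤ P → Cfsg.IsElementaryAbelian p B' → B ≤ B' →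
        B' = B := by
      intro B' _ hB'e hBB'
      symm
      apply Subgroup.eq_of_le_of_card_ge hBB'
      rw [hB2]
      by_contra hlt
      push Not at hlt
      have hB'C : B' ≤ Subgroup.centralizer (B : Set G) := by
        intro b' hb'
        rw [Subgroup.mem_centralizer_iff]
        intro c hc
        exact (isElementaryAbelian_iff.mp hB'e).1 c (hBB' hc) b' hb'
      exact Cfsg.Agent.Lead.BG9.not_pRankLE_of_elementary hB'C hB'e hlt (hCB p hp)
    have hXp : (Nat.card X).Coprime p := by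
      apply Nat.Coprime.symm
      rw [Nat.Prime.coprime_iff_not_dvd hp]
      exact fun h => hXα p hp h hpα
    obtain ⟨Z₀, hZP, hZe, hZc, hXZ, A, hAP, hZA, hAc, hAr⟩ :=
      exists_centralized_rank_three p hp2 P B X hPp hPr hBP hBe hB2 hBmax hXP
        (fun x hx b hb => (Subgroup.mem_centralizer_iff.mp (hBX hb) x hx))
        hXp
    have hZM : Z₀ ≤ M := hZP.trans hPM
    have hZt : Z₀ ≠ ⊤ := fun h => hMt (top_le_iff.mp (h ▸ hZM))
    have hZr1 : ¬ Cfsg.RankLE 1 ↥Z₀ := fun h =>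
      Cfsg.Agent.Lead.BG9.not_pRankLE_of_elementary (le_refl Z₀) hZe
        (by rw [hZc]; exact Nat.pow_lt_pow_right hp.one_lt (by norm_num)) (h p hp)
    have hAC : A ≤ Subgroup.centralizer (Z₀ : Set G) := by
      intro a ha
      rw [Subgroup.mem_centralizer_iff]
      intro z hz
      exact hAc z (hZA hz) a ha
    have hZr2 : ¬ Cfsg.RankLE 2 ↥(Subgroup.centralizer (Z₀ : Set G)) := fun h =>
      Cfsg.Agent.Lead.BG9.not_pRankLE_of_le hAC hAr (h p hp)
    have hZU : Cfsg.InUniqueMaximal Z₀ := h96 Z₀ hZt hZr1 (Or.inr hZr2)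
    refine inUniqueMaximal_of_le hM (le_inf hZM ?_) hCXM hZU
    intro z hz
    rw [Subgroup.mem_centralizer_iff]
    intro x hx
    exact hXZ x hx z hz
  · have hBU : Cfsg.InUniqueMaximal B := h96 B hBt hBr1 (Or.inr hCB)
    exact inUniqueMaximal_of_le hM (le_inf hBM hBX) hCXM hBU

end Cfsg.Agent.Helper21.BG10
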