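import Mathlib
import Cfsg.Prelude.Def_OddOrderLocal
import Cfsg.Agent.Helper21.BG10d
import Cfsg.Agent.Helper1.RankOneQ
import Cfsg.Agent.Helper19.RankTwoStructC

/-!
# B&G section 13, part (a): Lemma 13.3-type statement (= S1429)

relative to the statements of 9.6 (S1403) and of the `τ₂`-structure theorem (S1417).
-/

set_option autoImplicit false
set_option linter.unusedSectionVars false

namespace Cfsg.Agent.Helper21.BG10

open Subgroup Cfsg.Agent.Helper26

universe u

/-- The part of the statement of S1417 (B&G 12.? `τ₂`-structure) used here. -/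
def Tau2Struct (G : Type u) [Group G] : Prop :=
  ∀ M : Subgroup G, IsCoatom M → ∀ (p : ℕ) [Fact p.Prime], p ∈ Cfsg.tau2 M →
    ∀ A : Subgroup G, (A ≤ M ∧ Cfsg.IsElementaryAbelian p A ∧ Nat.card A = p ^ 2) →
      Group.IsNilpotent (Cfsg.sigmaCore M) ∧
      (∀ P : Sylow p M, A ≤ (P : Subgroup M).map M.subtype →
        ∀ x ∈ (P : Subgroup M).map M.subtype, x ^ p = 1 ↔ x ∈ A) ∧
      Cfsg.sigmaCore M ⊓ Subgroup.centralizer (A : Set G) = ⊥

/-- In a finite group of `p`-rank `≤ 1` (`p` odd) a nontrivial Sylow `p`-subgroup `P` is cyclic and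
has a central element `z` of order `p` such that all elements of order dividing `p` of `P` are
powers of `z`. -/
theorem rank_one_sylow {X : Type*} [Group X] [Finite X] {p : ℕ} [hp : Fact p.Prime] (hp2 : p ≠ 2)
    (h1 : Cfsg.PRankLE p 1 X) (P : Sylow p X) (hP : (P : Subgroup X) ≠ ⊥) :
    ∃ z ∈ (P : Subgroup X), z ≠ 1 ∧ z ^ p = 1 ∧
      (∀ x ∈ (P : Subgroup X), x ^ p = 1 → x ∈ Subgroup.zpowers z) ∧
      IsCyclic ↥(P : Subgroup X) := by
  have : Nontrivial ↥(P : Subgroup X) := (Subgroup.nontrivial_iff_ne_bot _).mpr hP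
  have hPp : IsPGroup p ↥(P : Subgroup X) := P.isPGroup'
  have := hPp.center_nontrivial
  -- an element of order p in the centre of P
  have hcp : p ∣ Nat.card (Subgroup.center ↥(P : Subgroup X)) := by
    obtain ⟨k, hk⟩ := IsPGroup.iff_card.mp (hPp.to_subgroup (Subgroup.center _))
    have hk0 : k ≠ 0 := by
      rintro rfl
      rw [pow_zero] at hk
      have := (Subgroup.center ↥(P : Subgroup X)).eq_bot_of_card_eq hk
      exact (Subgroup.nontrivial_iff_ne_bot _).mp inferInstance this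
    rw [hk]; exact dvd_pow_self p hk0
  obtain ⟨z₀, hz₀⟩ := exists_prime_orderOf_dvd_card' (G := Subgroup.center ↥(P : Subgroup X)) p hcp
  set z : X := ((z₀ : ↥(P : Subgroup X)) : X) with hz
  have hzP : z ∈ (P : Subgroup X) := (z₀ : ↥(P : Subgroup X)).2
  have hzo : orderOf z = p := by
    rw [hz, Subgroup.orderOf_coe, Subgroup.orderOf_coe]; exact hz₀
  have hzp : z ^ p = 1 := by rw [← hzo]; exact pow_orderOf_eq_one z
  have hz1 : z ≠ 1 := by
    intro h
    rw [h, orderOf_one] at hzo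
    exact hp.out.one_lt.ne hzo
  have hzc : ∀ x ∈ (P : Subgroup X), x * z = z * x := by
    intro x hx
    have := Subgroup.mem_center_iff.mp z₀.2 ⟨x, hx⟩
    have h2 := congrArg Subtype.val this
    simpa using h2
  have hZcard : Nat.card (Subgroup.zpowers z) = p := by rw [Nat.card_zpowers, hzo]
  have hom : ∀ x ∈ (P : Subgroup X), x ^ p = 1 → x ∈ Subgroup.zpowers z := by
    intro x hx hxp
    have hEA : Cfsg.IsElementaryAbelian p (Subgroup.zpowers z ⊔ Subgroup.zpowers x) := by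
      apply isElementaryAbelian_sup (isElementaryAbelian_zpowers_of_orderOf_eq hzp)
        (isElementaryAbelian_zpowers_of_orderOf_eq hxp)
      rintro _ ⟨i, rfl⟩ _ ⟨j, rfl⟩
      have hc : Commute z x := (hzc x hx).symm
      exact ((hc.zpow_left i).zpow_right j).eq
    have hle := h1 _ hEA.1 hEA.2
    rw [pow_one] at hle
    have heq : Subgroup.zpowers z = Subgroup.zpowers z ⊔ Subgroup.zpowers x :=
      Subgroup.eq_of_le_of_card_ge le_sup_left (by rw [hZcard]; exact hle)
    rw [heq]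
    exact (le_sup_right : Subgroup.zpowers x ≤ _) (Subgroup.mem_zpowers x)
  refine ⟨z, hzP, hz1, hzp, hom, ?_⟩
  exact Cfsg.Agent.Helper19.RankTwoStruct.isCyclic_of_omega_le hp2 (P : Subgroup X)
    (Subgroup.zpowers z) hPp hZcard hom


variable {G : Type u} [Group G] [Finite G]

theorem sigmaCore_le (M : Subgroup G) : Cfsg.sigmaCore M ≤ M := Subgroup.map_subtype_le _

theorem le_normalizer_sigmaCore (M : Subgroup G) :
    M ≤ Subgroup.normalizer (Cfsg.sigmaCore M : Set G) := by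
  have h1 : ((Cfsg.sigmaCore M).subgroupOf M).Normal := by
    unfold Cfsg.sigmaCore Subgroup.subgroupOf
    rw [Subgroup.comap_map_eq_self_of_injective (Subgroup.subtype_injective M)]
    infer_instance
  exact (Subgroup.normal_subgroupOf_iff_le_normalizer (sigmaCore_le M)).mp h1

theorem conj_mem_sigmaCore {M : Subgroup G} {m y : G} (hm : m ∈ M) (hy : y ∈ Cfsg.sigmaCore M) :
    m * y * m⁻¹ ∈ Cfsg.sigmaCore M :=
  (Subgroup.mem_normalizer_iff.mp (le_normalizer_sigmaCore M hm) y).mp hy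

theorem relIndex_map_subtype {M : Subgroup G} (S : Subgroup M) :
    (S.map M.subtype).relIndex M = S.index := by
  unfold Subgroup.relIndex Subgroup.subgroupOf
  rw [Subgroup.comap_map_eq_self_of_injective (Subgroup.subtype_injective M)]

/-- **B&G Lemma 13.3-type statement** (= S1429), relative to 9.6 and the `τ₂`-structure. -/
theorem lemma_13_3 (hG : Cfsg.IsMinSimpleOddOrder G) (h96 : Uniq96 G) (h1417 : Tau2Struct G)
    (M : Subgroup G) (hM : IsCoatom M) (p : ℕ) [hpf : Fact p.Prime] (hpM : p ∣ Nat.card M)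
    (hp : p ∉ Cfsg.sigma M ∪ Cfsg.kappa M) (S : Sylow p M) :
    Nat.card ↥(Subgroup.closure {x : G | x ∈ (S : Subgroup M).map M.subtype ∧ x ^ p = 1}) ≤ p ^ 2 ∧
      Cfsg.sigmaCore M ⊓ Subgroup.centralizer ((Subgroup.closure
        {x : G | x ∈ (S : Subgroup M).map M.subtype ∧ x ^ p = 1} : Subgroup G) : Set G) = ⊥ ∧
      Group.IsNilpotent (Cfsg.sigmaCore M) := by
  have hpσ : p ∉ Cfsg.sigma M := fun h => hp (Or.inl h)
  have hpκ : p ∉ Cfsg.kappa M := fun h => hp (Or.inr h)
  have hpp : p.Prime := hpf.out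
  have hp2 : p ≠ 2 := by
    rintro rfl
    have h2 : 2 ∣ Nat.card G := hpM.trans (Subgroup.card_subgroup_dvd_card M)
    exact (Nat.not_even_iff_odd.mpr hG.1) (even_iff_two_dvd.mpr h2)
  have hr2 : Cfsg.PRankLE p 2 ↥M := by
    by_contra h
    exact hpσ (alpha_subset_sigma hG h96 hM ⟨hpp, h⟩)
  set S' : Subgroup G := (S : Subgroup M).map M.subtype with hS'
  have hS'M : S' ≤ M := Subgroup.map_subtype_le _
  have hS'p : IsPGroup p S' := S.isPGroup'.map _
  set W : Subgroup G := Subgroup.closure {x : G | x ∈ S' ∧ x ^ p = 1} with hW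
  by_cases h1 : Cfsg.PRankLE p 1 ↥M
  · -- rank one
    have hS1 : (S : Subgroup M) ≠ ⊥ := Sylow.ne_bot_of_dvd_card S hpM
    obtain ⟨z₀, hz₀S, hz₀1, hz₀p, hom, -⟩ := rank_one_sylow hp2 h1 S hS1
    set z : G := (z₀ : G) with hz
    have hzM : z ∈ M := z₀.2
    have hz1 : z ≠ 1 := fun h => hz₀1 (Subtype.ext h)
    have hzp : z ^ p = 1 := by
      have := congrArg Subtype.val hz₀p
      simpa using this
    have hzW : z ∈ W := Subgroup.subset_closure ⟨⟨z₀, hz₀S, rfl⟩, hzp⟩
    have hWz : W ≤ Subgroup.zpowers z := by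
      rw [hW, Subgroup.closure_le]
      rintro x ⟨⟨x₀, hx₀S, rfl⟩, hxp⟩
      have hx₀p : x₀ ^ p = 1 := Subtype.ext (by simpa using hxp)
      obtain ⟨i, hi⟩ := hom x₀ hx₀S hx₀p
      refine ⟨i, ?_⟩
      have := congrArg Subtype.val hi
      simpa using this
    -- fixed point freeness
    have hfpf : Cfsg.sigmaCore M ⊓ Subgroup.centralizer ({z} : Set G) = ⊥ := by
      rw [eq_bot_iff]
      intro y hy
      rw [Subgroup.mem_bot]
      by_contra hy1
      obtain ⟨hyσ, hyz⟩ := Subgroup.mem_inf.mp hy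
      rw [Subgroup.mem_centralizer_singleton_iff] at hyz
      -- negate κ
      have hκ : ¬ ∀ P : Sylow p M, IsCyclic P ∧
          ∃ x : M, x ∈ (P : Subgroup M) ∧ x ≠ 1 ∧ ∃ y ∈ Cfsg.sigmaCore M, y ≠ 1 ∧
            (x : G) * y = y * x := fun h => hpκ ⟨hpp, hpM, hpσ, h⟩
      push Not at hκ
      obtain ⟨P₁, hP₁⟩ := hκ
      have hP₁1 : (P₁ : Subgroup M) ≠ ⊥ := Sylow.ne_bot_of_dvd_card P₁ hpM
      obtain ⟨-, -, -, -, -, hP₁c⟩ := rank_one_sylow hp2 h1 P₁ hP₁1
      have hP₁' := hP₁ hP₁c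
      obtain ⟨m, hm⟩ := MulAction.exists_smul_eq M S P₁
      have hx₁ : m * z₀ * m⁻¹ ∈ (P₁ : Subgroup M) := by
        rw [← hm, Sylow.coe_subgroup_smul, Subgroup.mem_pointwise_smul_iff_inv_smul_mem]
        have h3 : (MulAut.conj m)⁻¹ • (m * z₀ * m⁻¹) = z₀ := by
          rw [MulAut.smul_def, MulAut.inv_apply, MulAut.conj_symm_apply]; group
        rw [h3]; exact hz₀S
      have hx₁1 : m * z₀ * m⁻¹ ≠ 1 := by
        intro h
        apply hz₀1
        have : z₀ = m⁻¹ * (m * z₀ * m⁻¹) * m := by group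
        rw [this, h]; group
      have hy₁ : (m : G) * y * (m : G)⁻¹ ∈ Cfsg.sigmaCore M := conj_mem_sigmaCore m.2 hyσ
      have hy₁1 : (m : G) * y * (m : G)⁻¹ ≠ 1 := by
        intro h
        apply hy1
        have : y = (m : G)⁻¹ * ((m : G) * y * (m : G)⁻¹) * (m : G) := by group
        rw [this, h]; group
      apply hP₁' (m * z₀ * m⁻¹) hx₁ hx₁1 _ hy₁ hy₁1
      push_cast
      calc (m : G) * z * (m : G)⁻¹ * ((m : G) * y * (m : G)⁻¹)
          = (m : G) * (z * y) * (m : G)⁻¹ := by group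
        _ = (m : G) * (y * z) * (m : G)⁻¹ := by rw [hyz]
        _ = (m : G) * y * (m : G)⁻¹ * ((m : G) * z * (m : G)⁻¹) := by group
    refine ⟨?_, ?_, ?_⟩
    · calc Nat.card W ≤ Nat.card (Subgroup.zpowers z) := Subgroup.card_le_of_le hWz
        _ ≤ p := by
          rw [Nat.card_zpowers]
          exact Nat.le_of_dvd hpp.pos (orderOf_dvd_of_pow_eq_one hzp)
        _ ≤ p ^ 2 := by nlinarith [hpp.one_lt]
    · rw [eq_bot_iff, ← hfpf]
      apply inf_le_inf_left
      apply Subgroup.centralizer_le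
      intro x hx
      rw [Set.mem_singleton_iff] at hx
      rw [hx]; exact hzW
    · exact Cfsg.Agent.Helper1.RankOneQ.nilpotent_of_fpf_conj (Cfsg.sigmaCore M) hpp
        (le_normalizer_sigmaCore M hzM) hzp hfpf
  · -- rank two: τ₂
    have hτ : p ∈ Cfsg.tau2 M := ⟨hpp, hpσ, hr2, h1⟩
    have hidx : ¬ p ∣ S'.relIndex M := by
      rw [hS', relIndex_map_subtype]; exact S.not_dvd_index
    have hrS : ¬ Cfsg.PRankLE p 1 ↥S' := not_pRankLE_of_relIndex hS'M hS'p hidx h1
    obtain ⟨A, hAS, hAe, hAc⟩ := Cfsg.Agent.Lead.TT.exists_elementary_of_not_pRankLE' 1 _ hrS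
    have hAM : A ≤ M := hAS.trans hS'M
    have hAcard : Nat.card A = p ^ 2 := by
      apply le_antisymm
      · by_contra hlt
        push Not at hlt
        exact Cfsg.Agent.Lead.BG9.not_pRankLE_of_elementary hAM hAe hlt hr2
      · simpa using hAc
    obtain ⟨hnil, hΩ, hC⟩ := h1417 M hM p hτ A ⟨hAM, hAe, hAcard⟩
    have hWA : W = A := by
      rw [hW]
      have hset : {x : G | x ∈ S' ∧ x ^ p = 1} = (A : Set G) := by
        ext x
        constructor
        · rintro ⟨hxS, hxp⟩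
          exact (hΩ S hAS x hxS).mp hxp
        · intro hxA
          exact ⟨hAS hxA, (hΩ S hAS x (hAS hxA)).mpr hxA⟩
      rw [hset, Subgroup.closure_eq]
    refine ⟨?_, ?_, hnil⟩
    · rw [hWA, hAcard]
    · rw [hWA]; exact hC

end Cfsg.Agent.Helper21.BG10
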