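import Mathlib
import Cfsg.Prelude.Def_OddOrderLocal
import Cfsg.Agent.Helper21.BG10b

/-!
# B&G section 10, part (e): `M_σ ≤ M'` (10.2(c)) and `O_π(M) = K` for a normal Hall `π`-subgroup
-/

set_option autoImplicit false
set_option linter.unusedSectionVars false

namespace Cfsg.Agent.Helper21.BG10

open Subgroup

universe u

/-- If no prime divisor of `|N|` divides the index of the normal subgroup `D`, then `N ≤ D`. -/
theorem le_of_coprime_index {X : Type*} [Group X] [Finite X] (N D : Subgroup X) [D.Normal]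
    (h : ∀ r : ℕ, r.Prime → r ∣ Nat.card N → ¬ r ∣ D.index) : N ≤ D := by
  intro x hx
  rw [← QuotientGroup.eq_one_iff, ← orderOf_eq_one_iff]
  by_contra hne
  obtain ⟨r, hr, hrd⟩ := Nat.exists_prime_and_dvd hne
  have h1 : orderOf (x : X ⧸ D) ∣ Nat.card (X ⧸ D) := orderOf_dvd_natCard _
  rw [← Subgroup.index_eq_card] at h1
  have h2 : orderOf (x : X ⧸ D) ∣ orderOf x := orderOf_map_dvd (QuotientGroup.mk' D) x
  have h3 : orderOf x ∣ Nat.card N := by
    have := orderOf_dvd_natCard (⟨x, hx⟩ : N)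
    rwa [← Subgroup.orderOf_coe] at this
  exact h r hr (hrd.trans (h2.trans h3)) (hrd.trans h1)

variable {G : Type u} [Group G] [Finite G]

/-- **B&G Theorem 10.2(c)**: `M_σ ≤ M'`. -/
theorem sigmaCore_le_commutator (hG : Cfsg.IsMinSimpleOddOrder G) (h101 : Ctl101 G)
    {M : Subgroup G} (hM : IsCoatom M) : Cfsg.sigmaCore M ≤ ⁅M, M⁆ := by
  have h1 : Cfsg.piCore (Cfsg.sigma M) ↥M ≤ commutator ↥M := by
    apply le_of_coprime_index
    intro r hr hrN hrD
    have hrσ : r ∈ Cfsg.sigma M :=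
      Cfsg.Agent.Helper19.piCore_isPiNum (G := ↥M) (Cfsg.sigma M) r hr hrN
    have : Fact r.Prime := ⟨hr⟩
    obtain ⟨P, hP, -⟩ := sylow_le_commutator_of_mem_sigma hG h101 hM hrσ
    exact P.not_dvd_index (hrD.trans (Subgroup.index_dvd_of_le hP))
  unfold Cfsg.sigmaCore
  rw [← Subgroup.map_subtype_commutator]
  exact Subgroup.map_mono h1

/-- `M_α ≤ M'`. -/
theorem alphaCore_le_commutator (hG : Cfsg.IsMinSimpleOddOrder G) (h96 : Uniq96 G)
    (h101 : Ctl101 G) {M : Subgroup G} (hM : IsCoatom M) : Cfsg.alphaCore M ≤ ⁅M, M⁆ := by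
  refine le_trans ?_ (sigmaCore_le_commutator hG h101 hM)
  unfold Cfsg.alphaCore Cfsg.sigmaCore
  exact Subgroup.map_mono (piCore_mono (alpha_subset_sigma hG h96 hM))

/-- `O_π(M) = K` for a normal Hall `π`-subgroup `K` of `M`. -/
theorem piCoreOf_eq_of_normal_hall {π : Set ℕ} {M K : Subgroup G} (hKM : K ≤ M)
    (hn : M ≤ Subgroup.normalizer (K : Set G))
    (hπ : ∀ p : ℕ, p.Prime → p ∣ Nat.card K → p ∈ π)
    (hidx : ∀ p : ℕ, p.Prime → p ∈ π → ¬ p ∣ K.relIndex M) : Cfsg.piCoreOf π M = K := by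
  have hKn : (K.subgroupOf M).Normal :=
    (Subgroup.normal_subgroupOf_iff_le_normalizer hKM).mpr hn
  have hKcard : Nat.card (K.subgroupOf M) = Nat.card K :=
    Nat.card_congr (Subgroup.subgroupOfEquivOfLe hKM).toEquiv
  have h1 : K.subgroupOf M ≤ Cfsg.piCore π M :=
    Cfsg.Agent.Helper19.le_piCore hKn (fun p hp hd => hπ p hp (hKcard ▸ hd))
  have h2 : Cfsg.piCore π M ≤ K.subgroupOf M := by
    apply le_of_coprime_index
    intro r hr hrN hrD
    exact hidx r hr (Cfsg.Agent.Helper19.piCore_isPiNum (G := ↥M) π r hr hrN) hrD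
  unfold Cfsg.piCoreOf
  rw [le_antisymm h2 h1]
  exact Subgroup.map_subgroupOf_eq_of_le hKM

/-- `M_σ` as `piCoreOf`. -/
theorem sigmaCore_eq_piCoreOf (M : Subgroup G) :
    Cfsg.sigmaCore M = Cfsg.piCoreOf (Cfsg.sigma M) M := rfl

theorem alphaCore_eq_piCoreOf (M : Subgroup G) :
    Cfsg.alphaCore M = Cfsg.piCoreOf (Cfsg.alpha M) M := rfl

end Cfsg.Agent.Helper21.BG10
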