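import Mathlib
import Cfsg.Prelude.Def_OddOrderLocal
import Cfsg.Agent.Helper9.BG12e
import Cfsg.Agent.Helper4.BG10g
import Cfsg.Agent.Helper21.BG13a
import Cfsg.Agent.Helper21.BG10e
import Cfsg.Agent.Lead.HallGen
import Cfsg.Agent.S1403
import Cfsg.Agent.S1404
import Cfsg.Agent.S1350

/-!
# B&G section 12: the rest of Proposition 12.15 (parts (d1), (e)), relative to the statements of
10.8 (S1414), 12.5 (S1417), 12.6 (S1418), 12.10 (S1420), 12.14 (S1423).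

Setting: `M`, `L` maximal, `q ∈ σ(M)`, `1 ≠ X ≤ M` a `q`-group, `N_G(X) ≤ L ≠ M`,
`S` a Sylow `q`-subgroup of `M ∩ L` containing `X`.
-/

set_option autoImplicit false
set_option linter.unusedSectionVars false
set_option linter.unusedVariables false

namespace Cfsg.Agent.Helper21.BG12

open Subgroup Cfsg
open Cfsg.Agent.Helper14 (IsSylowIn cj map_cj_le_iff map_cj_mul map_cj_one map_cj_normalizer
  mem_normalizer_iff_map_cj map_cj_eq_self_of_mem le_normalizer_of_map_cj_le mem_map_cj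
  exists_isSylowIn_ge exists_isSylowIn isSylowIn_of_sylow)
open Cfsg.Agent.Helper21.BG10 (Ctl101 Uniq96)
open Cfsg.Agent.H9.BG12 (St1350 St1404 St1420 St1423 NC1210)

universe u

/-- frozen statement S1414 (B&G 10.8), without the standing hypothesis -/
def St1414 (G : Type u) [Group G] : Prop :=
  ∀ M : Subgroup G, IsCoatom M →
    Cfsg.IsPiHallOf (Cfsg.beta M) (Cfsg.piCoreOf (Cfsg.beta M) M) M ∧ Cfsg.IsPiHall (Cfsg.beta M) (Cfsg.piCoreOf (Cfsg.beta M) M) ∧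
      (∃ H : Subgroup G, Cfsg.IsPiHallOf {q | q.Prime ∧ q ∉ Cfsg.beta M} H ⁅M, M⁆ ∧ Group.IsNilpotent H) ∧
      (∃ H : Subgroup G, Cfsg.IsPiHallOf {q | q.Prime ∧ q ∉ Cfsg.beta M} H (Cfsg.sigmaCore M) ∧ Group.IsNilpotent H) ∧
      ∀ p : ℕ, p.Prime → p ∣ Nat.card M → p ∉ Cfsg.beta M →
        Cfsg.HasNormalPComplement p ↥⁅M, M⁆ ∧ Cfsg.HasNormalPComplement p ↥(Cfsg.sigmaCore M) ∧
        ∀ q : ℕ, q.Prime → q ∣ (Cfsg.pPrimeCore p ↥M).index → q ≤ p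

/-- frozen statement S1417 (B&G 12.5) -/
def St1417 (G : Type u) [Group G] : Prop :=
  ∀ M : Subgroup G, IsCoatom M → ∀ (p : ℕ) [Fact p.Prime], p ∈ Cfsg.tau2 M →
    ∀ A : Subgroup G, (A ≤ M ∧ Cfsg.IsElementaryAbelian p A ∧ Nat.card A = p ^ 2) →
    Group.IsNilpotent (Cfsg.sigmaCore M) ∧
      (∀ P : Sylow p M, IsMulCommutative (P : Subgroup M) ∧
        (A ≤ (P : Subgroup M).map M.subtype →
          (∀ x ∈ (P : Subgroup M).map M.subtype, x ^ p = 1 ↔ x ∈ A) ∧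
          ¬ Subgroup.normalizer ((((P : Subgroup M).map M.subtype : Subgroup G)) : Set G) ≤ M)) ∧
      M ≤ Subgroup.normalizer ((Cfsg.sigmaCore M ⊔ A : Subgroup G) : Set G) ∧
      Cfsg.sigmaCore M ⊓ Subgroup.centralizer (A : Set G) = ⊥ ∧
      (∀ Mstar : Subgroup G, IsCoatom Mstar → Mstar ≠ M → A ≤ Mstar → Cfsg.sigmaCore M ⊓ Mstar = ⊥) ∧
      ∃ A₁ : Subgroup G, A₁ ≤ A ∧ Nat.card A₁ = p ∧ Cfsg.sigmaCore M ⊓ Subgroup.centralizer (A₁ : Set G) = ⊥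

/-- frozen statement S1418 (B&G 12.6) -/
def St1418 (G : Type u) [Group G] : Prop :=
  ∀ M : Subgroup G, IsCoatom M → ∀ E : Subgroup G, Cfsg.IsComplIn E (Cfsg.sigmaCore M) M →
    ∀ (p : ℕ) [Fact p.Prime], p ∈ Cfsg.tau2 M →
    ∀ A : Subgroup G, (A ≤ E ∧ Cfsg.IsElementaryAbelian p A ∧ Nat.card A = p ^ 2) →
    (E ≤ Subgroup.normalizer (A : Set G) ∧ ∀ X : Subgroup G, X ≤ E → Nat.card X = p → X ≤ A) ∧
      (Subgroup.centralizer (A : Set G) ≤ M ⊓ Subgroup.normalizer (A : Set G) ∧ M ⊓ Subgroup.normalizer (A : Set G) = E ∧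
        ¬ Subgroup.normalizer (A : Set G) ≤ M) ∧
      ∀ X : Subgroup G, X ≤ A → Nat.card X = p → Cfsg.sigmaCore M ⊓ Subgroup.centralizer (X : Set G) ≠ ⊥ → (Subgroup.centralizer (X : Set G) ≤ M ∧ ∀ L : Subgroup G, IsCoatom L → Subgroup.centralizer (X : Set G) ≤ L → L = M)

variable {G : Type u} [Group G] [Finite G]

theorem uniq (hG : Cfsg.IsMinSimpleOddOrder G) : Cfsg.Agent.Helper4.BG10.Uniq G :=
  fun K hK h2 h3 => Cfsg.Agent.S1403.result hG K hK h2 h3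

theorem uniq96 (hG : Cfsg.IsMinSimpleOddOrder G) : Uniq96 G :=
  fun K hK h2 h3 => Cfsg.Agent.S1403.result hG K hK h2 h3

theorem ctl (hG : Cfsg.IsMinSimpleOddOrder G) : Ctl101 G :=
  fun M hM p _ hp X h1 h2 h3 => (Cfsg.Agent.S1404.result hG M hM p hp X h1 h2 h3).1

theorem st1350 (hG : Cfsg.IsMinSimpleOddOrder G) : St1350 G :=
  fun M hM => Cfsg.Agent.S1350.result hG M hM


variable {q : ℕ} [hq : Fact q.Prime]

theorem dvd_card_of_isPGroup_ne_bot {X : Subgroup G} (hXq : IsPGroup q X) (hX1 : X ≠ ⊥) :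
    q ∣ Nat.card X := by
  rcases hXq.card_eq_or_dvd with h | h
  · exact absurd (Subgroup.eq_bot_of_card_eq X h) hX1
  · exact h

theorem isCyclic_of_toSylow {S L : Subgroup G} (hS : IsSylowIn q S L)
    (h : IsCyclic ↥((hS.toSylow : Sylow q ↥L) : Subgroup ↥L)) : IsCyclic ↥S := by
  have e := (((hS.toSylow : Sylow q ↥L) : Subgroup ↥L).equivMapOfInjective L.subtype
    L.subtype_injective)
  rw [hS.toSylow_map] at e
  exact isCyclic_of_surjective e e.surjective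

/-- **12.15 (e1)**: if `N_G(X) ≤ L` for a nontrivial `q`-subgroup `X` and `q ∉ σ(L)` then
`q ∈ τ₂(L)`. -/
theorem mem_tau2_of_normalizer_le (hG : Cfsg.IsMinSimpleOddOrder G) {L : Subgroup G}
    (hL : IsCoatom L) {X S : Subgroup G} (hXq : IsPGroup q X) (hX1 : X ≠ ⊥)
    (hNX : normalizer (X : Set G) ≤ L) (hS : IsSylowIn q S L) (hXS : X ≤ S)
    (hqL : q ∉ Cfsg.sigma L) : q ∈ Cfsg.tau2 L := by
  have hU := uniq hG
  have hr2 := Cfsg.Agent.Helper4.BG10.sigma'_pRankLE_two hG hU hL hqL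
  refine ⟨hq.out, hqL, hr2, ?_⟩
  intro h1
  have hdvd := dvd_card_of_isPGroup_ne_bot hXq hX1
  have hp2 : q ≠ 2 := Cfsg.Agent.Lead.BG8.ne_two_of_dvd_card_of_odd hG.1 (F := X) hdvd
  have hSne : ((hS.toSylow : Sylow q ↥L) : Subgroup ↥L) ≠ ⊥ := by
    intro h
    have h2 := hS.toSylow_map
    rw [h, Subgroup.map_bot] at h2
    rw [← h2, le_bot_iff] at hXS
    exact hX1 hXS
  obtain ⟨z, -, -, -, -, hcyc⟩ := Cfsg.Agent.Helper21.BG10.rank_one_sylow hp2 h1 hS.toSylow hSne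
  have hcS : IsCyclic ↥S := isCyclic_of_toSylow hS hcyc
  apply hqL
  refine ⟨hq.out, hdvd.trans (card_dvd_of_le (hXS.trans hS.1)), hS.toSylow, ?_⟩
  rw [hS.toSylow_map]
  exact (Cfsg.Agent.H9.BG12.normalizer_le_normalizer_of_isCyclic hcS hXS).trans hNX


theorem card_sigmaCore_eq (L : Subgroup G) :
    Nat.card (Cfsg.sigmaCore L) = Nat.card (Cfsg.piCore (Cfsg.sigma L) ↥L) := by
  unfold Cfsg.sigmaCore
  exact Subgroup.card_map_of_injective (Subgroup.subtype_injective L)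

theorem coprime_card_index_piCore_sigma (hG : Cfsg.IsMinSimpleOddOrder G) {L : Subgroup G}
    (hL : IsCoatom L) :
    (Nat.card (Cfsg.piCore (Cfsg.sigma L) ↥L)).Coprime (Cfsg.piCore (Cfsg.sigma L) ↥L).index := by
  obtain ⟨⟨hle, hπ, hidx⟩, -, -⟩ := st1350 hG L hL
  set N : Subgroup ↥L := Cfsg.piCore (Cfsg.sigma L) ↥L with hN
  have hrel : (Cfsg.sigmaCore L).relIndex L = N.index := by
    unfold Subgroup.relIndex Subgroup.subgroupOf Cfsg.sigmaCore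
    rw [Subgroup.comap_map_eq_self_of_injective (Subgroup.subtype_injective L)]
  apply Nat.Coprime.symm
  apply Nat.coprime_of_dvd
  intro k hk hk1 hk2
  have h1 : k ∈ Cfsg.sigma L := hπ k hk (card_sigmaCore_eq L ▸ hk2)
  exact hidx k hk h1 (hrel ▸ hk1)

/-- Schur–Zassenhaus with domination: a subgroup `K ≤ L` meeting `L_σ` trivially lies in a
complement of `L_σ` in `L`. -/
theorem exists_complIn_sigmaCore_ge (hG : Cfsg.IsMinSimpleOddOrder G) {L : Subgroup G}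
    (hL : IsCoatom L) {K : Subgroup G} (hKL : K ≤ L) (hK : K ⊓ Cfsg.sigmaCore L = ⊥) :
    ∃ E : Subgroup G, Cfsg.IsComplIn E (Cfsg.sigmaCore L) L ∧ K ≤ E := by
  have hle : Cfsg.sigmaCore L ≤ L := Cfsg.Agent.Helper21.BG10.sigmaCore_le L
  set N : Subgroup ↥L := Cfsg.piCore (Cfsg.sigma L) ↥L with hN
  have hcop := coprime_card_index_piCore_sigma hG hL
  have hsolvL : Group.IsSolvable ↥L := hG.2.2.2 L hL.1
  have hsolvN : Group.IsSolvable ↥N := inferInstance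
  set K' : Subgroup ↥L := K.subgroupOf L with hK'
  have hK'N : K' ⊓ N = ⊥ := by
    rw [eq_bot_iff]
    rintro x ⟨hx1, hx2⟩
    have h1 : (x : G) ∈ K ⊓ Cfsg.sigmaCore L := by
      refine ⟨hx1, ?_⟩
      unfold Cfsg.sigmaCore
      exact ⟨x, hx2, rfl⟩
    rw [hK, Subgroup.mem_bot] at h1
    rw [Subgroup.mem_bot]
    exact Subtype.ext h1
  have hdvd : Nat.card K' ∣ N.index := by
    have hinj : Function.Injective ((QuotientGroup.mk' N).comp K'.subtype) := by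
      rw [injective_iff_map_eq_one]
      intro x hx
      have h1 : (x : ↥L) ∈ N := by
        rw [← QuotientGroup.eq_one_iff]; exact hx
      have h2 : (x : ↥L) ∈ K' ⊓ N := ⟨x.2, h1⟩
      rw [hK'N, Subgroup.mem_bot] at h2
      exact Subtype.ext h2
    have := Subgroup.card_dvd_of_injective _ hinj
    rwa [← Subgroup.index_eq_card] at this
  have hcopK : (Nat.card N).Coprime (Nat.card K') := Nat.Coprime.coprime_dvd_right hdvd hcop
  obtain ⟨H, hH, hKH⟩ := Cfsg.Agent.Lead.sz_exists_complement_ge N hcop hsolvN K' hcopK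
  refine ⟨H.map L.subtype, ⟨Subgroup.map_subtype_le _, hle, ?_, ?_⟩, ?_⟩
  · rw [eq_bot_iff]
    rintro x ⟨⟨y, hy, rfl⟩, hx2⟩
    unfold Cfsg.sigmaCore at hx2
    obtain ⟨z, hz, hzy⟩ := hx2
    have hzy' : z = y := Subtype.ext hzy
    have h1 : y ∈ N ⊓ H := ⟨hzy' ▸ hz, hy⟩
    rw [hH.disjoint.eq_bot, Subgroup.mem_bot] at h1
    rw [Subgroup.mem_bot, h1]; rfl
  · intro m hm
    have hsymm : Subgroup.IsComplement' H N := hH.symm
    obtain ⟨⟨a, b⟩, hab, -⟩ := hsymm.existsUnique (⟨m, hm⟩ : ↥L)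
    refine ⟨((a : ↥L) : G), ⟨a, a.2, rfl⟩, ((b : ↥L) : G), ?_, ?_⟩
    · unfold Cfsg.sigmaCore
      exact ⟨b, b.2, rfl⟩
    · have := congrArg (fun x : ↥L => (x : G)) hab
      simpa using this.symm
  · intro x hx
    exact ⟨⟨x, hKL hx⟩, hKH (by rw [hK', Subgroup.mem_subgroupOf]; exact hx), rfl⟩


theorem card_map_cj (A : Subgroup G) (g : G) : Nat.card (A.map (cj g)) = Nat.card A :=
  Subgroup.card_map_of_injective (Cfsg.Agent.Helper14.cj_injective g)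

/-- an elementary abelian subgroup of order `q ^ 2` inside a given Sylow `q`-subgroup of `L`
(when `L` has `q`-rank exactly `2`) -/
theorem exists_elementary_sq_le_sylow {L S : Subgroup G} (hr2 : Cfsg.PRankLE q 2 L)
    (hr1 : ¬ Cfsg.PRankLE q 1 L) (hS : IsSylowIn q S L) :
    ∃ A : Subgroup G, A ≤ S ∧ Cfsg.IsElementaryAbelian q A ∧ Nat.card A = q ^ 2 := by
  obtain ⟨A₀, hA₀L, hA₀e, hA₀c⟩ := Cfsg.Agent.Helper4.BG10.exists_elementary_sq hr2 hr1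
  obtain ⟨U, hU, hA₀U⟩ := exists_isSylowIn_ge hA₀L (Cfsg.Agent.Helper4.BG10.isPGroup_of_elementary hA₀e)
  obtain ⟨g, hg, rfl⟩ := hS.exists_conj hU
  refine ⟨A₀.map (cj g⁻¹), ?_, Cfsg.Agent.Helper26.isElementaryAbelian_map _ hA₀e, ?_⟩
  · rw [map_cj_le_iff, inv_inv]; exact hA₀U
  · rw [card_map_cj]; exact hA₀c

/-- **12.15 (e1),(e3)**: if `q ∉ σ(L)` then `q ∈ τ₂(L)`, `M ∩ L` is a complement of `L_σ` in `L`
(and contains an elementary abelian subgroup `A ≤ S` of order `q ^ 2`). -/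
theorem lem_12_15_e13 (hG : Cfsg.IsMinSimpleOddOrder G) (h1417 : St1417 G) (h1418 : St1418 G)
    (hNC : NC1210 G) {M L : Subgroup G} (hM : IsCoatom M) (hL : IsCoatom L) (hne : L ≠ M)
    (hqM : q ∈ Cfsg.sigma M) {X S : Subgroup G} (hXq : IsPGroup q X) (hX1 : X ≠ ⊥) (hXM : X ≤ M)
    (hNX : normalizer (X : Set G) ≤ L) (hS : IsSylowIn q S (M ⊓ L)) (hXS : X ≤ S)
    (hqL : q ∉ Cfsg.sigma L) :
    q ∈ Cfsg.tau2 L ∧ Cfsg.IsComplIn (M ⊓ L) (Cfsg.sigmaCore L) L ∧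
      ∃ A : Subgroup G, A ≤ S ∧ Cfsg.IsElementaryAbelian q A ∧ Nat.card A = q ^ 2 := by
  obtain ⟨-, -, hSL⟩ := Cfsg.Agent.H9.BG12.lem_12_15 (ctl hG) hNC hM hqM hXq hX1 hXM hL hne hNX hS hXS
  have hτ := mem_tau2_of_normalizer_le hG hL hXq hX1 hNX hSL hXS hqL
  obtain ⟨A, hAS, hAe, hAc⟩ := exists_elementary_sq_le_sylow hτ.2.2.1 hτ.2.2.2 hSL
  have hAML : A ≤ M ⊓ L := hAS.trans hS.1
  have hAM : A ≤ M := hAML.trans inf_le_left
  have hAL : A ≤ L := hAML.trans inf_le_right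
  refine ⟨hτ, ?_, A, hAS, hAe, hAc⟩
  have h5 := (h1417 L hL q hτ A ⟨hAL, hAe, hAc⟩).2.2.2.2.1 M hM (Ne.symm hne) hAM
  have h6 : (M ⊓ L) ⊓ Cfsg.sigmaCore L = ⊥ := by
    rw [eq_bot_iff, ← h5]
    intro x hx
    exact ⟨hx.2, hx.1.1⟩
  obtain ⟨E, hE, hKE⟩ := exists_complIn_sigmaCore_ge hG hL (inf_le_right : M ⊓ L ≤ L) h6
  have hAE : A ≤ E := hAML.trans hKE
  have h7 := (h1418 L hL E hE q hτ A ⟨hAE, hAe, hAc⟩).1.1
  have hAnc : ¬ IsCyclic ↥A := Cfsg.Agent.Lead.BG9.not_isCyclic_of_sq_le hAe hAc.ge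
  have h8 := hNC M hM q A hqM (Cfsg.Agent.Helper4.BG10.isPGroup_of_elementary hAe) hAM hAnc
  have hEM : E ≤ M ⊓ L := le_inf (h7.trans h8) hE.1
  have : M ⊓ L = E := le_antisymm hKE hEM
  rw [this]; exact hE


/-- two subgroups normalizing each other and meeting trivially commute elementwise -/
theorem commute_of_normalizing {H K : Subgroup G} (hHK : H ≤ normalizer (K : Set G))
    (hKH : K ≤ normalizer (H : Set G)) (hdis : H ⊓ K = ⊥) :
    ∀ x ∈ H, ∀ y ∈ K, x * y = y * x := by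
  intro x hx y hy
  have h1 : x⁻¹ * y⁻¹ * x * y ∈ H := by
    have h2 : y⁻¹ * x * (y⁻¹)⁻¹ ∈ H := (mem_normalizer_iff.mp (hKH (inv_mem hy)) x).mp hx
    have h3 : x⁻¹ * y⁻¹ * x * y = x⁻¹ * (y⁻¹ * x * (y⁻¹)⁻¹) := by group
    rw [h3]; exact mul_mem (inv_mem hx) h2
  have h2 : x⁻¹ * y⁻¹ * x * y ∈ K := by
    have h3 : x⁻¹ * y⁻¹ * (x⁻¹)⁻¹ ∈ K :=
      (mem_normalizer_iff.mp (hHK (inv_mem hx)) y⁻¹).mp (inv_mem hy)
    have h4 : x⁻¹ * y⁻¹ * x * y = (x⁻¹ * y⁻¹ * (x⁻¹)⁻¹) * y := by group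
    rw [h4]; exact mul_mem h3 hy
  have h3 : x⁻¹ * y⁻¹ * x * y ∈ H ⊓ K := ⟨h1, h2⟩
  rw [hdis, Subgroup.mem_bot] at h3
  have h4 : x * y = y * x * (x⁻¹ * y⁻¹ * x * y) := by group
  rw [h4, h3, mul_one]

/-- a `σ(L)`-subgroup of `L` lies in `L_σ` -/
theorem le_sigmaCore_of_forall_mem (hG : Cfsg.IsMinSimpleOddOrder G) {L : Subgroup G}
    (hL : IsCoatom L) {K : Subgroup G} (hKL : K ≤ L)
    (hK : ∀ r : ℕ, r.Prime → r ∣ Nat.card K → r ∈ Cfsg.sigma L) : K ≤ Cfsg.sigmaCore L := by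
  obtain ⟨⟨hle, hπ, hidx⟩, -, -⟩ := st1350 hG L hL
  set N : Subgroup ↥L := Cfsg.piCore (Cfsg.sigma L) ↥L with hN
  have hrel : (Cfsg.sigmaCore L).relIndex L = N.index := by
    unfold Subgroup.relIndex Subgroup.subgroupOf Cfsg.sigmaCore
    rw [Subgroup.comap_map_eq_self_of_injective (Subgroup.subtype_injective L)]
  have h1 : K.subgroupOf L ≤ N := by
    apply Cfsg.Agent.Helper21.BG10.le_of_coprime_index
    intro r hr hrd
    rw [Cfsg.Agent.Helper26.card_subgroupOf_of_le hKL] at hrd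
    rw [← hrel]
    exact hidx r hr (hK r hr hrd)
  intro x hx
  unfold Cfsg.sigmaCore
  exact ⟨⟨x, hKL hx⟩, h1 (by rw [Subgroup.mem_subgroupOf]; exact hx), rfl⟩

/-- a subgroup of `L` whose order is coprime to the index of `O_{s'}(L)` lies in `O_{s'}(L)` -/
theorem le_map_pPrimeCore {L K : Subgroup G} (s : ℕ) (hKL : K ≤ L)
    (h : ∀ r : ℕ, r.Prime → r ∣ Nat.card K → ¬ r ∣ (Cfsg.pPrimeCore s ↥L).index) :
    K ≤ (Cfsg.pPrimeCore s ↥L).map L.subtype := by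
  have hn : (Cfsg.pPrimeCore s ↥L).Normal :=
    Subgroup.sSup_normal _ (fun _ h => h.1)
  have h1 : K.subgroupOf L ≤ Cfsg.pPrimeCore s ↥L := by
    apply Cfsg.Agent.Helper21.BG10.le_of_coprime_index
    intro r hr hrd
    rw [Cfsg.Agent.Helper26.card_subgroupOf_of_le hKL] at hrd
    exact h r hr hrd
  intro x hx
  exact ⟨⟨x, hKL hx⟩, h1 (by rw [Subgroup.mem_subgroupOf]; exact hx), rfl⟩

theorem le_normalizer_map_pPrimeCore (L : Subgroup G) (s : ℕ) :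
    L ≤ normalizer (((Cfsg.pPrimeCore s ↥L).map L.subtype : Subgroup G) : Set G) := by
  have hn : (Cfsg.pPrimeCore s ↥L).Normal :=
    Subgroup.sSup_normal _ (fun _ h => h.1)
  intro l hl
  rw [mem_normalizer_iff]
  intro x
  constructor
  · rintro ⟨y, hy, rfl⟩
    refine ⟨(⟨l, hl⟩ : ↥L) * y * (⟨l, hl⟩ : ↥L)⁻¹, hn.conj_mem y hy _, ?_⟩
    simp
  · rintro ⟨y, hy, hyx⟩
    have h1 := hn.conj_mem y hy (⟨l, hl⟩ : ↥L)⁻¹
    refine ⟨(⟨l, hl⟩ : ↥L)⁻¹ * y * (⟨l, hl⟩ : ↥L)⁻¹⁻¹, h1, ?_⟩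
    simp only [Subgroup.subtype_apply, Subgroup.coe_mul, Subgroup.coe_inv, inv_inv]
    have : (y : G) = l * x * l⁻¹ := hyx
    rw [this]; group


omit hq in
/-- if `L_σ` is nilpotent and `s ∈ σ(L)`, the Sylow `s`-subgroup of `L` is normal in `L`
(and lies in `L_σ`). -/
theorem exists_normal_sylow_of_nilpotent (hG : Cfsg.IsMinSimpleOddOrder G) {L : Subgroup G}
    (hL : IsCoatom L) (hnil : Group.IsNilpotent ↥(Cfsg.sigmaCore L)) {s : ℕ} [hs : Fact s.Prime]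
    (hsL : s ∈ Cfsg.sigma L) :
    ∃ T : Subgroup G, IsSylowIn s T L ∧ T ≤ Cfsg.sigmaCore L ∧ T ≠ ⊥ ∧
      L ≤ normalizer (T : Set G) := by
  obtain ⟨T, hT⟩ := exists_isSylowIn (p := s) L
  have hTσ : T ≤ Cfsg.sigmaCore L := by
    apply le_sigmaCore_of_forall_mem hG hL hT.1
    intro r hr hrd
    obtain ⟨k, hk⟩ := IsPGroup.iff_card.mp hT.2.1
    rw [hk] at hrd
    have := (Nat.prime_dvd_prime_iff_eq hr hs.out).mp (hr.dvd_of_dvd_pow hrd)
    rw [this]; exact hsL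
  refine ⟨T, hT, hTσ, Cfsg.Agent.Helper4.BG10.sigma_ne_bot hsL hT, ?_⟩
  set N := Cfsg.sigmaCore L with hN
  have hNL : N ≤ L := Cfsg.Agent.Helper21.BG10.sigmaCore_le L
  have hTN : IsSylowIn s T N := ⟨hTσ, hT.2.1, fun Q hQN hQ hTQ => hT.2.2 Q (hQN.trans hNL) hQ hTQ⟩
  -- `T` is normalized by `N`
  have hnorm : ∀ n ∈ N, T.map (cj n) = T := by
    intro n hn
    have h1 : ((hTN.toSylow : Sylow s ↥N) : Subgroup ↥N).Normal :=
      ((Group.isNilpotent_of_finite_tfae (G := ↥N)).out 0 3 rfl rfl).mp hnil s hs hTN.toSylow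
    ext x
    rw [mem_map_cj]
    have key : ∀ y : G, y ∈ T → ∀ m ∈ N, m * y * m⁻¹ ∈ T := by
      intro y hy m hm
      have h2 : (⟨y, hTσ hy⟩ : ↥N) ∈ ((hTN.toSylow : Sylow s ↥N) : Subgroup ↥N) := by
        show (⟨y, hTσ hy⟩ : ↥N) ∈ T.subgroupOf N
        rw [Subgroup.mem_subgroupOf]; exact hy
      have h3 := h1.conj_mem _ h2 ⟨m, hm⟩
      have h4 : (⟨m, hm⟩ : ↥N) * ⟨y, hTσ hy⟩ * (⟨m, hm⟩ : ↥N)⁻¹ ∈ T.subgroupOf N := h3
      rw [Subgroup.mem_subgroupOf] at h4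
      simpa using h4
    constructor
    · intro hx
      have := key _ hx n hn
      have h5 : n * (n⁻¹ * x * n) * n⁻¹ = x := by group
      rwa [h5] at this
    · intro hx
      have := key x hx n⁻¹ (inv_mem hn)
      simpa using this
  apply le_normalizer_of_map_cj_le
  intro l hl
  have hNl : N.map (cj l) = N := by
    rw [← mem_normalizer_iff_map_cj]
    exact Cfsg.Agent.Helper21.BG10.le_normalizer_sigmaCore L hl
  have h1 : IsSylowIn s (T.map (cj l)) (N.map (cj l)) := hTN.map_cj l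
  rw [hNl] at h1
  have : Finite ↥N := inferInstance
  obtain ⟨n, hn, hconj⟩ := hTN.exists_conj h1
  rw [hconj, hnorm n hn]

omit hq in
/-- **Lemma SD (2)**: if `L_σ` is nilpotent and `L` is not conjugate to `M` then
`σ(L) ∩ σ(M) = ∅`. -/
theorem sigma_disjoint_of_nilpotent (hG : Cfsg.IsMinSimpleOddOrder G) {M L : Subgroup G}
    (hM : IsCoatom M) (hL : IsCoatom L) (hnc : ∀ g : G, L ≠ M.map (cj g))
    (hnil : Group.IsNilpotent ↥(Cfsg.sigmaCore L)) {s : ℕ} [hs : Fact s.Prime]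
    (hsL : s ∈ Cfsg.sigma L) (hsM : s ∈ Cfsg.sigma M) : False := by
  obtain ⟨T, hT, -, -, hLT⟩ := exists_normal_sylow_of_nilpotent hG hL hnil hsL
  obtain ⟨S, hS⟩ := exists_isSylowIn (p := s) M
  have hT' := Cfsg.Agent.Helper4.BG10.sigma_isSylowIn_top hsL hT
  have hS' := Cfsg.Agent.Helper4.BG10.sigma_isSylowIn_top hsM hS
  have hNS := Cfsg.Agent.Helper4.BG10.sigma_normalizer_le hsM hS
  have : Finite ↥(⊤ : Subgroup G) := inferInstance
  obtain ⟨g, -, rfl⟩ := hT'.exists_conj hS'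
  have h1 : L.map (cj g) ≤ M := by
    calc L.map (cj g) ≤ (normalizer (T : Set G)).map (cj g) := Subgroup.map_mono hLT
      _ = normalizer ((T.map (cj g) : Subgroup G) : Set G) := map_cj_normalizer T g
      _ ≤ M := hNS
  have h2 : L.map (cj g) = M := by
    have hc := Cfsg.Agent.Lead.BG9.isCoatom_map_cj hL g
    rcases eq_or_lt_of_le h1 with h | h
    · exact h
    · exact absurd (hc.2 M h) hM.1
  apply hnc g⁻¹
  rw [← h2, Cfsg.Agent.Helper14.map_cj_map_cj_inv]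

end Cfsg.Agent.Helper21.BG12
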