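import Mathlib
import Cfsg.Agent.Helper21.ThreeSubgroups

/-!
Polynomial sequences in a filtered group (Lazard–Leibman), helper21.

For a filtration `Γ 0 ≥ Γ 1 ≥ ⋯` of subgroups of `G` with `⁅Γ i, Γ j⁆ ≤ Γ (i+j)`, the sequences
`g : ℕ → G` whose `i`-th forward differences take values in `Γ (k+i)` form a group
(`PolyAll.mul`, `PolyAll.inv`).  Consequence (`peel_final`): if `Γ p = ⊥` and the `p`-th powers of
`Γ 2` lie in a subgroup `N`, then a polynomial sequence with `g 0 = g 1 = 1` has `g p ∈ N`.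
Applied to the lower central series this gives `(xy)^p ≡ x^p y^p` modulo `℧₁(G')` in a group of
class `< p` (`exists_pow_mul_pow`).
-/

set_option autoImplicit false
set_option linter.style.haveILetI false

namespace Cfsg.Agent.Helper21.PolySeq

open scoped commutatorElement

variable {G : Type*} [Group G]

/-- A filtration. -/
structure Filt (Γ : ℕ → Subgroup G) : Prop where
  anti : Antitone Γ
  comm : ∀ i j, ⁅Γ i, Γ j⁆ ≤ Γ (i + j)

/-- The forward difference. -/
def D (g : ℕ → G) : ℕ → G := fun n => g (n + 1) * (g n)⁻¹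

/-- The shift. -/
def Sh (g : ℕ → G) : ℕ → G := fun n => g (n + 1)

/-- Polynomial up to order `r` with respect to the filtration shifted by `k`. -/
def PolyR (Γ : ℕ → Subgroup G) : ℕ → ℕ → (ℕ → G) → Prop
  | 0, k, g => ∀ n, g n ∈ Γ k
  | r + 1, k, g => (∀ n, g n ∈ Γ k) ∧ PolyR Γ r (k + 1) (D g)

variable {Γ : ℕ → Subgroup G}

theorem PolyR.mem : ∀ {r k : ℕ} {g : ℕ → G}, PolyR Γ r k g → ∀ n, g n ∈ Γ k
  | 0, _, _, h => h
  | _ + 1, _, _, h => h.1

theorem PolyR.of_succ : ∀ {r k : ℕ} {g : ℕ → G}, PolyR Γ (r + 1) k g → PolyR Γ r k g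
  | 0, _, _, h => h.1
  | _ + 1, _, _, h => ⟨h.1, PolyR.of_succ h.2⟩

theorem PolyR.mono_succ (hΓ : Filt Γ) :
    ∀ {r k : ℕ} {g : ℕ → G}, PolyR Γ r (k + 1) g → PolyR Γ r k g
  | 0, k, _, h => fun n => hΓ.anti (Nat.le_succ k) (h n)
  | _ + 1, k, _, h => ⟨fun n => hΓ.anti (Nat.le_succ k) (h.1 n), PolyR.mono_succ hΓ h.2⟩

theorem PolyR.mono (hΓ : Filt Γ) {r k m : ℕ} {g : ℕ → G} (hkm : k ≤ m) (h : PolyR Γ r m g) :
    PolyR Γ r k g := by
  induction m, hkm using Nat.le_induction with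
  | base => exact h
  | succ m _ ih => exact ih (PolyR.mono_succ hΓ h)

theorem PolyR.shift : ∀ {r k : ℕ} {g : ℕ → G}, PolyR Γ r k g → PolyR Γ r k (Sh g)
  | 0, _, _, h => fun n => h (n + 1)
  | _ + 1, _, _, h => ⟨fun n => h.1 (n + 1), PolyR.shift (g := D _) h.2⟩

theorem D_one : D (1 : ℕ → G) = 1 := by
  funext n; simp [D]

theorem D_const (c : G) : D (fun _ : ℕ => c) = 1 := by
  funext n; simp [D]

theorem PolyR.one : ∀ (r k : ℕ), PolyR Γ r k (1 : ℕ → G)
  | 0, k => fun _ => (Γ k).one_mem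
  | r + 1, k => ⟨fun _ => (Γ k).one_mem, by rw [D_one]; exact PolyR.one r (k + 1)⟩

theorem PolyR.const {c : G} : ∀ (r k : ℕ), c ∈ Γ k → PolyR Γ r k (fun _ : ℕ => c)
  | 0, _, hc => fun _ => hc
  | r + 1, k, hc => ⟨fun _ => hc, by rw [D_const]; exact PolyR.one r (k + 1)⟩

theorem D_mul (g h : ℕ → G) : D (g * h) = D g * ⁅g, D h⁆ * D h := by
  funext n
  simp only [D, commutatorElement_def, Pi.mul_apply, Pi.inv_apply]
  group

theorem D_inv (g : ℕ → G) : D g⁻¹ = (Sh g)⁻¹ * (D g)⁻¹ * (Sh g)⁻¹⁻¹ := by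
  funext n
  simp only [D, Sh, Pi.mul_apply, Pi.inv_apply]
  group

theorem D_comm (g h : ℕ → G) :
    D ⁅g, h⁆ = (D g * ⁅g, D h⁆ * (D g)⁻¹) * ⁅D g * D h, ⁅g, h⁆⁆ *
      ⁅⁅g, h⁆, ⁅D g, D h⁆ * (D h * ⁅D g, h⁆ * (D h)⁻¹)⁆ *
      (⁅D g, D h⁆ * (D h * ⁅D g, h⁆ * (D h)⁻¹)) := by
  funext n
  simp only [D, commutatorElement_def, Pi.mul_apply, Pi.inv_apply]
  group

theorem conj_eq (a b : ℕ → G) : a * b * a⁻¹ = ⁅a, b⁆ * b := by
  rw [commutatorElement_def]; group

/-- Lazard–Leibman, truncated at order `r`. -/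
theorem main (hΓ : Filt Γ) : ∀ r : ℕ,
    (∀ (k : ℕ) (g h : ℕ → G), PolyR Γ r k g → PolyR Γ r k h → PolyR Γ r k (g * h)) ∧
    (∀ (k : ℕ) (g : ℕ → G), PolyR Γ r k g → PolyR Γ r k g⁻¹) ∧
    (∀ (i j : ℕ) (g h : ℕ → G), PolyR Γ r i g → PolyR Γ r j h → PolyR Γ r (i + j) ⁅g, h⁆) := by
  intro r
  induction r with
  | zero =>
    refine ⟨fun k g h hg hh n => (Γ k).mul_mem (hg n) (hh n),
      fun k g hg n => (Γ k).inv_mem (hg n), fun i j g h hg hh n => ?_⟩
    exact hΓ.comm i j (Subgroup.commutator_mem_commutator (hg n) (hh n))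
  | succ r ih =>
    obtain ⟨Am, Ai, B⟩ := ih
    have conj : ∀ (k : ℕ) (a b : ℕ → G), PolyR Γ r 0 a → PolyR Γ r k b →
        PolyR Γ r k (a * b * a⁻¹) := by
      intro k a b ha hb
      rw [conj_eq]
      have := B 0 k a b ha hb
      rw [Nat.zero_add] at this
      exact Am k _ _ this hb
    refine ⟨?_, ?_, ?_⟩
    · intro k g h hg hh
      refine ⟨fun n => (Γ k).mul_mem (hg.1 n) (hh.1 n), ?_⟩
      rw [D_mul]
      refine Am _ _ _ (Am _ _ _ hg.2 ?_) hh.2
      exact PolyR.mono hΓ (by omega) (B k (k + 1) g (D h) hg.of_succ hh.2)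
    · intro k g hg
      refine ⟨fun n => (Γ k).inv_mem (hg.1 n), ?_⟩
      rw [D_inv]
      refine conj _ _ _ (Ai 0 _ (PolyR.mono hΓ (Nat.zero_le k) hg.of_succ.shift)) (Ai _ _ hg.2)
    · intro i j g h hg hh
      refine ⟨fun n => hΓ.comm i j (Subgroup.commutator_mem_commutator (hg.1 n) (hh.1 n)), ?_⟩
      rw [D_comm]
      have ha : PolyR Γ r (i + 1) (D g) := hg.2
      have hb : PolyR Γ r (j + 1) (D h) := hh.2
      have hg' : PolyR Γ r i g := hg.of_succ
      have hh' : PolyR Γ r j h := hh.of_succ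
      have hw : PolyR Γ r (i + j) ⁅g, h⁆ := B i j g h hg' hh'
      have ha0 : PolyR Γ r 0 (D g) := PolyR.mono hΓ (Nat.zero_le _) ha
      have hb0 : PolyR Γ r 0 (D h) := PolyR.mono hΓ (Nat.zero_le _) hb
      have ha1 : PolyR Γ r 1 (D g) := PolyR.mono hΓ (by omega) ha
      have hb1 : PolyR Γ r 1 (D h) := PolyR.mono hΓ (by omega) hb
      have hT1 : PolyR Γ r (i + j + 1) (D g * ⁅g, D h⁆ * (D g)⁻¹) :=
        conj _ _ _ ha0 (B i (j + 1) g (D h) hg' hb)
      have hT2 : PolyR Γ r (i + j + 1) ⁅D g * D h, ⁅g, h⁆⁆ :=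
        PolyR.mono hΓ (by omega) (B 1 (i + j) _ _ (Am 1 _ _ ha1 hb1) hw)
      have hU : PolyR Γ r (i + j + 1) (⁅D g, D h⁆ * (D h * ⁅D g, h⁆ * (D h)⁻¹)) := by
        refine Am _ _ _ (PolyR.mono hΓ (by omega) (B (i + 1) (j + 1) _ _ ha hb)) ?_
        exact conj _ _ _ hb0 (PolyR.mono hΓ (by omega) (B (i + 1) j _ _ ha hh'))
      have hT3 : PolyR Γ r (i + j + 1)
          ⁅⁅g, h⁆, ⁅D g, D h⁆ * (D h * ⁅D g, h⁆ * (D h)⁻¹)⁆ :=
        PolyR.mono hΓ (by omega) (B (i + j) (i + j + 1) _ _ hw hU)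
      exact Am _ _ _ (Am _ _ _ (Am _ _ _ hT1 hT2) hT3) hU

/-- Polynomial sequences (all orders). -/
def PolyAll (Γ : ℕ → Subgroup G) (k : ℕ) (g : ℕ → G) : Prop := ∀ r, PolyR Γ r k g

theorem PolyAll.mul (hΓ : Filt Γ) {k : ℕ} {g h : ℕ → G} (hg : PolyAll Γ k g) (hh : PolyAll Γ k h) :
    PolyAll Γ k (g * h) := fun r => (main hΓ r).1 k g h (hg r) (hh r)

theorem PolyAll.inv (hΓ : Filt Γ) {k : ℕ} {g : ℕ → G} (hg : PolyAll Γ k g) :
    PolyAll Γ k g⁻¹ := fun r => (main hΓ r).2.1 k g (hg r)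

/-- The power sequence `n ↦ x ^ n` is polynomial. -/
theorem polyAll_pow (hΓ : Filt Γ) {x : G} (hx : x ∈ Γ 1) : PolyAll Γ 0 (fun n => x ^ n) := by
  intro r
  cases r with
  | zero => exact fun n => (Γ 0).pow_mem (hΓ.anti (Nat.zero_le 1) hx) n
  | succ r =>
    refine ⟨fun n => (Γ 0).pow_mem (hΓ.anti (Nat.zero_le 1) hx) n, ?_⟩
    have : D (fun n => x ^ n) = fun _ => x := by
      funext n
      simp only [D]
      rw [pow_succ', mul_inv_cancel_right]
    rw [this]
    exact PolyR.const r 1 hx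

/-- If `g` is polynomial of order `m` and vanishes below `m` then `g m ∈ Γ (k + m)`. -/
theorem mem_of_vanish : ∀ (m k : ℕ) (g : ℕ → G), PolyR Γ m k g → (∀ n < m, g n = 1) →
    g m ∈ Γ (k + m)
  | 0, k, g, h, _ => h 0
  | m + 1, k, g, h, hv => by
    have hD : ∀ n < m, D g n = 1 := by
      intro n hn
      simp only [D]
      rw [hv (n + 1) (by omega), hv n (by omega)]
      simp
    have := mem_of_vanish m (k + 1) (D g) h.2 hD
    have h2 : D g m = g (m + 1) := by
      simp only [D]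
      rw [hv m (by omega)]
      simp
    rw [h2] at this
    have e : k + 1 + m = k + (m + 1) := by omega
    rwa [e] at this

/-- The binomial power sequence. -/
def E (m : ℕ) (a : G) : ℕ → G := fun n => a ^ (n.choose m)

theorem D_E_zero (a : G) : D (E 0 a) = 1 := by
  funext n; simp [D, E]

theorem D_E_succ (m : ℕ) (a : G) : D (E (m + 1) a) = E m a := by
  funext n
  simp only [D, E]
  rw [Nat.choose_succ_succ, pow_add, mul_inv_cancel_right]

theorem polyR_E (hΓ : Filt Γ) : ∀ (r m k : ℕ) (a : G), a ∈ Γ (k + m) → PolyR Γ r k (E m a)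
  | 0, m, k, a, ha => fun n => (Γ k).pow_mem (hΓ.anti (Nat.le_add_right k m) ha) _
  | r + 1, m, k, a, ha => by
    refine ⟨fun n => (Γ k).pow_mem (hΓ.anti (Nat.le_add_right k m) ha) _, ?_⟩
    cases m with
    | zero => rw [D_E_zero]; exact PolyR.one r (k + 1)
    | succ m =>
      rw [D_E_succ]
      refine polyR_E hΓ r m (k + 1) a ?_
      have e : k + 1 + m = k + (m + 1) := by omega
      rwa [e]

theorem peel (hΓ : Filt Γ) {p : ℕ} (hp : p.Prime) (hbot : Γ p = ⊥) (N : Subgroup G)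
    (hN : ∀ a ∈ Γ 2, a ^ p ∈ N) :
    ∀ d m : ℕ, m + d = p + 1 → 2 ≤ m → ∀ g : ℕ → G, PolyAll Γ 0 g → (∀ n < m, g n = 1) →
      g p ∈ N := by
  intro d
  induction d with
  | zero =>
    intro m hm _ g _ hv
    rw [hv p (by omega)]
    exact N.one_mem
  | succ d ih =>
    intro m hm h2 g hg hv
    have ha : g m ∈ Γ m := by
      have := mem_of_vanish m 0 g (hg m) hv
      rwa [Nat.zero_add] at this
    set a := g m with hadef
    have hg' : PolyAll Γ 0 (g * E m a⁻¹) := by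
      refine PolyAll.mul hΓ hg (fun r => polyR_E hΓ r m 0 a⁻¹ ?_)
      rw [Nat.zero_add]
      exact (Γ m).inv_mem ha
    have hv' : ∀ n < m + 1, (g * E m a⁻¹) n = 1 := by
      intro n hn
      simp only [Pi.mul_apply, E]
      rcases Nat.lt_succ_iff_lt_or_eq.mp hn with h | h
      · rw [hv n h, Nat.choose_eq_zero_of_lt h]; simp
      · rw [h, Nat.choose_self, pow_one, ← hadef, mul_inv_cancel]
    have hmem := ih (m + 1) (by omega) (by omega) _ hg' hv'
    simp only [Pi.mul_apply, E] at hmem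
    have hpow : a ^ (p.choose m) ∈ N := by
      rcases Nat.lt_or_ge m p with hlt | hge
      · obtain ⟨q, hq⟩ := hp.dvd_choose_self (by omega) hlt
        rw [hq, mul_comm, pow_mul]
        exact hN _ ((Γ 2).pow_mem (hΓ.anti h2 ha) q)
      · have hmp : m = p := by omega
        rw [hmp, hbot, Subgroup.mem_bot] at ha
        rw [ha, one_pow]
        exact N.one_mem
    have : g p = g p * a⁻¹ ^ p.choose m * a ^ (p.choose m) := by
      rw [inv_pow, inv_mul_cancel_right]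
    rw [this]
    exact N.mul_mem hmem hpow

theorem peel_final (hΓ : Filt Γ) {p : ℕ} (hp : p.Prime) (hbot : Γ p = ⊥) (N : Subgroup G)
    (hN : ∀ a ∈ Γ 2, a ^ p ∈ N) (g : ℕ → G) (hg : PolyAll Γ 0 g) (h0 : g 0 = 1) (h1 : g 1 = 1) :
    g p ∈ N := by
  have := hp.two_le
  refine peel hΓ hp hbot N hN (p - 1) 2 (by omega) le_rfl g hg ?_
  intro n hn
  interval_cases n
  · exact h0
  · exact h1

/-! ### The lower central filtration -/

theorem lcs_comm_le : ∀ (j i : ℕ),
    ⁅(⊤ : Subgroup G).lowerCentralSeries i, (⊤ : Subgroup G).lowerCentralSeries j⁆ ≤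
      (⊤ : Subgroup G).lowerCentralSeries (i + j + 1)
  | 0, i => le_rfl
  | j + 1, i => by
    have e : i + (j + 1) + 1 = i + j + 1 + 1 := by omega
    rw [e, Subgroup.commutator_comm, Subgroup.lowerCentralSeries_succ]
    apply three_subgroups_mod
    · rw [Subgroup.commutator_comm ⊤, ← Subgroup.lowerCentralSeries_succ]
      have := lcs_comm_le j (i + 1)
      have e2 : i + 1 + j + 1 = i + j + 1 + 1 := by omega
      rwa [e2] at this
    · rw [Subgroup.lowerCentralSeries_succ (⊤ : Subgroup G) (i + j + 1)]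
      exact Subgroup.commutator_mono (lcs_comm_le j i) le_rfl

/-- The lower central filtration `G, G, γ₂, γ₃, …`. -/
def lcsFilt (G : Type*) [Group G] : ℕ → Subgroup G
  | 0 => ⊤
  | i + 1 => (⊤ : Subgroup G).lowerCentralSeries i

theorem lcsFilt_filt (G : Type*) [Group G] : Filt (lcsFilt G) where
  anti := by
    refine antitone_nat_of_succ_le fun n => ?_
    cases n with
    | zero => exact le_top
    | succ n => exact (⊤ : Subgroup G).lowerCentralSeries_antitone (Nat.le_succ n)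
  comm := by
    intro i j
    cases i with
    | zero =>
      rw [Nat.zero_add]
      cases j with
      | zero => exact le_top
      | succ j =>
        change ⁅(⊤ : Subgroup G), (⊤ : Subgroup G).lowerCentralSeries j⁆ ≤
          (⊤ : Subgroup G).lowerCentralSeries j
        rw [Subgroup.commutator_comm]
        exact Subgroup.commutator_le_left _ _
    | succ i =>
      cases j with
      | zero =>
        change ⁅(⊤ : Subgroup G).lowerCentralSeries i, (⊤ : Subgroup G)⁆ ≤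
          (⊤ : Subgroup G).lowerCentralSeries i
        exact Subgroup.commutator_le_left _ _
      | succ j =>
        have e : i + 1 + (j + 1) = (i + j + 1) + 1 := by omega
        rw [e]
        exact lcs_comm_le j i

end Cfsg.Agent.Helper21.PolySeq
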