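import Mathlib
import Cfsg.Prelude.Def_PLocal

/-!
Regular `p`-groups (helper21): in a regular `p`-group (`Cfsg.IsRegularPGroup`),
`a ^ p ^ n = b ^ p ^ n ↔ (a * b⁻¹) ^ p ^ n = 1`, and the elements of order dividing `p ^ n`
are closed under multiplication.
-/

set_option autoImplicit false

namespace Cfsg.Agent.Helper21.RegularP

open Subgroup

variable {G : Type*} [Group G]

/-- If `closure {a, b}` normalizes `N` and the commutator of `a` and `b` lies in `N`, then all commutators
of elements of `closure {a, b}` lie in `N`. -/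
theorem comm_mem_of_closure_pair (N : Subgroup G) (a b : G)
    (hN : closure ({a, b} : Set G) ≤ normalizer (N : Set G)) (hab : a * b * a⁻¹ * b⁻¹ ∈ N)
    {x y : G} (hx : x ∈ closure ({a, b} : Set G)) (hy : y ∈ closure ({a, b} : Set G)) :
    x * y * x⁻¹ * y⁻¹ ∈ N := by
  have conj : ∀ g ∈ closure ({a, b} : Set G), ∀ t ∈ N, g * t * g⁻¹ ∈ N := by
    intro g hg t ht
    exact (mem_normalizer_iff.mp (hN hg) t).mp ht
  refine closure_induction₂ (p := fun x y _ _ => x * y * x⁻¹ * y⁻¹ ∈ N) ?_ ?_ ?_ ?_ ?_ ?_ ?_ hx hy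
  · intro x y hx hy
    rcases hx with rfl | rfl <;> rcases hy with rfl | rfl
    · simp
    · exact hab
    · have := N.inv_mem hab
      convert this using 1
      group
    · simp
  · intro x _; simp
  · intro x _; simp
  · intro x y z hx hy hz h1 h2
    have h3 := conj x hx _ h2
    have := N.mul_mem h3 h1
    convert this using 1
    group
  · intro y z x hy hz hx h1 h2
    have h3 := conj y hy _ h2
    have := N.mul_mem h1 h3
    convert this using 1
    group
  · intro x y hx hy h1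
    have h3 := conj x⁻¹ (inv_mem hx) _ (N.inv_mem h1)
    convert h3 using 1
    group
  · intro x y hx hy h1
    have h3 := conj y⁻¹ (inv_mem hy) _ (N.inv_mem h1)
    convert h3 using 1
    group

theorem commutator_closure_pair_le (N : Subgroup G) (a b : G)
    (hN : closure ({a, b} : Set G) ≤ normalizer (N : Set G)) (hab : a * b * a⁻¹ * b⁻¹ ∈ N) :
    ⁅closure ({a, b} : Set G), closure ({a, b} : Set G)⁆ ≤ N := by
  rw [commutator_le]
  intro x hx y hy
  rw [commutatorElement_def]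
  exact comm_mem_of_closure_pair N a b hN hab hx hy

theorem exists_proper_normal [Finite G] {p : ℕ} [Fact p.Prime] (H : Subgroup G)
    (hH : IsPGroup p H) (u : G) (hu : u ∈ H) (hne : zpowers u ≠ H) :
    ∃ M : Subgroup G, M < H ∧ u ∈ M ∧ H ≤ normalizer (M : Set G) := by
  have : Group.IsNilpotent H := hH.isNilpotent
  have hnc : NormalizerCondition H := Group.normalizerCondition_of_isNilpotent
  have hU : zpowers (⟨u, hu⟩ : H) ≠ ⊤ := by
    intro h
    apply hne
    have h2 : (zpowers (⟨u, hu⟩ : H)).map H.subtype = zpowers u := by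
      rw [MonoidHom.map_zpowers]
      rfl
    rw [← h2, h, ← MonoidHom.range_eq_map, Subgroup.range_subtype]
  obtain ⟨M₀, hM₀, hUM⟩ := (eq_top_or_exists_le_coatom (zpowers (⟨u, hu⟩ : H))).resolve_left hU
  have hnorm : M₀.Normal := NormalizerCondition.normal_of_coatom M₀ hnc hM₀
  refine ⟨M₀.map H.subtype, ?_, ?_, ?_⟩
  · refine lt_of_le_of_ne (map_subtype_le M₀) ?_
    intro h
    apply hM₀.1
    rw [eq_top_iff]
    intro x _
    have hx : (x : G) ∈ M₀.map H.subtype := by rw [h]; exact x.2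
    obtain ⟨y, hy, hyx⟩ := hx
    have : y = x := Subtype.ext hyx
    rwa [← this]
  · exact ⟨⟨u, hu⟩, hUM (mem_zpowers _), rfl⟩
  · intro g hg
    rw [mem_normalizer_iff]
    intro h
    constructor
    · rintro ⟨y, hy, rfl⟩
      exact ⟨⟨g, hg⟩ * y * ⟨g, hg⟩⁻¹, hnorm.conj_mem y hy ⟨g, hg⟩, rfl⟩
    · rintro ⟨y, hy, hyx⟩
      refine ⟨⟨g, hg⟩⁻¹ * y * ⟨g, hg⟩, ?_, ?_⟩
      · have := hnorm.conj_mem y hy ⟨g, hg⟩⁻¹
        simpa using this
      · simp only [Subgroup.subtype_apply] at hyx ⊢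
        simp [hyx]
        group

/-- `Good p H`: for `x, y ∈ H`, `x ^ p ^ n = y ^ p ^ n ↔ (x * y⁻¹) ^ p ^ n = 1`. -/
def Good (p : ℕ) (H : Subgroup G) : Prop :=
  ∀ x ∈ H, ∀ y ∈ H, ∀ n : ℕ, (x ^ p ^ n = y ^ p ^ n ↔ (x * y⁻¹) ^ p ^ n = 1)

theorem Good.mul_pow_eq_one {p : ℕ} {H : Subgroup G} (h : Good p H) {x y : G} (hx : x ∈ H) (hy : y ∈ H)
    {n : ℕ} (hx1 : x ^ p ^ n = 1) (hy1 : y ^ p ^ n = 1) : (x * y) ^ p ^ n = 1 := by
  have := (h x hx y⁻¹ (H.inv_mem hy) n).mp (by rw [hx1, inv_pow, hy1, inv_one])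
  simpa using this

/-- The subgroup of the elements of `M` of order dividing `p ^ n`, for a good `M`. -/
def Good.omega {p : ℕ} {M : Subgroup G} (h : Good p M) (n : ℕ) : Subgroup G where
  carrier := {x | x ∈ M ∧ x ^ p ^ n = 1}
  mul_mem' := fun {x y} hx hy => ⟨M.mul_mem hx.1 hy.1, h.mul_pow_eq_one hx.1 hy.1 hx.2 hy.2⟩
  one_mem' := ⟨M.one_mem, one_pow _⟩
  inv_mem' := fun {x} hx => ⟨M.inv_mem hx.1, by rw [inv_pow, hx.2, inv_one]⟩

theorem Good.mem_omega {p : ℕ} {M : Subgroup G} (h : Good p M) (n : ℕ) (x : G) :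
    x ∈ h.omega n ↔ x ∈ M ∧ x ^ p ^ n = 1 := Iff.rfl

theorem key_step {p : ℕ} (hG : IsRegularPGroup p G) (u v : G) (n : ℕ)
    (M : Subgroup G) (hM : Good p M) (huM : u ∈ M)
    (hK : closure ({u, v} : Set G) ≤ normalizer (M : Set G))
    (huv : (u * v * u⁻¹ * v⁻¹) ^ p ^ n = 1) :
    (u * v) ^ p ^ n = u ^ p ^ n * v ^ p ^ n := by
  have hu : u ∈ closure ({u, v} : Set G) := subset_closure (by simp)
  have hv : v ∈ closure ({u, v} : Set G) := subset_closure (by simp)
  have hnorm : closure ({u, v} : Set G) ≤ normalizer ((hM.omega n : Subgroup G) : Set G) := by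
    intro g hg
    have key : ∀ g ∈ closure ({u, v} : Set G), ∀ t ∈ hM.omega n, g * t * g⁻¹ ∈ hM.omega n := by
      intro g hg t ht
      refine ⟨(mem_normalizer_iff.mp (hK hg) t).mp ht.1, ?_⟩
      rw [conj_pow, ht.2]; simp
    rw [mem_normalizer_iff]
    intro t
    refine ⟨key g hg t, fun h => ?_⟩
    have := key g⁻¹ (inv_mem hg) _ h
    simpa [mul_assoc] using this
  have hmem : u * v * u⁻¹ * v⁻¹ ∈ hM.omega n := by
    refine ⟨?_, huv⟩
    have h1 : v * u⁻¹ * v⁻¹ ∈ M := (mem_normalizer_iff.mp (hK hv) _).mp (M.inv_mem huM)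
    have := M.mul_mem huM h1
    simpa [mul_assoc] using this
  have hle := commutator_closure_pair_le (hM.omega n) u v hnorm hmem
  obtain ⟨c, hc, hcc⟩ := hG.2 u v n
  have hc1 : c = 1 := by
    have : powerClosure p n ⁅closure ({u, v} : Set G), closure ({u, v} : Set G)⁆ ≤ ⊥ := by
      unfold powerClosure
      rw [closure_le]
      rintro y ⟨x, hx, rfl⟩
      exact (hle hx).2
    simpa using this hc
  rw [hcc, hc1, mul_one]


theorem closure_pair_inv_right (x y : G) : closure ({x, y⁻¹} : Set G) = closure ({x, y} : Set G) := by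
  apply le_antisymm
  · rw [closure_le]
    rintro z (rfl | rfl)
    · exact subset_closure (by simp)
    · exact inv_mem (subset_closure (by simp))
  · rw [closure_le]
    rintro z (rfl | rfl)
    · exact subset_closure (by simp)
    · have : z⁻¹ ∈ closure ({x, z⁻¹} : Set G) := subset_closure (by simp)
      simpa using inv_mem this

theorem good_all [Finite G] {p : ℕ} [Fact p.Prime] (hG : IsRegularPGroup p G) :
    ∀ H : Subgroup G, Good p H := by
  intro H
  induction H using WellFoundedLT.induction with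
  | ind H ih =>
  intro x hx y hy n
  have hKH : closure ({x, y} : Set G) ≤ H := by
    rw [closure_le]; rintro z (rfl | rfl) <;> assumption
  rcases lt_or_eq_of_le hKH with hlt | heq
  · exact ih _ hlt x (subset_closure (by simp)) y (subset_closure (by simp)) n
  by_cases hcomm : x * y = y * x
  · have hc : Commute x y⁻¹ := (Commute.inv_right (show Commute x y from hcomm))
    rw [hc.mul_pow, inv_pow, mul_inv_eq_one]
  have hHp : IsPGroup p H := hG.1.to_subgroup H
  have noncyc : ∀ w : G, x ∈ zpowers w → y ∈ zpowers w → False := by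
    intro w hxw hyw
    obtain ⟨i, rfl⟩ := hxw
    obtain ⟨j, rfl⟩ := hyw
    apply hcomm
    rw [← zpow_add, ← zpow_add, add_comm]
  constructor
  · intro hxy
    have hne : zpowers x ≠ H := by
      intro h
      exact noncyc x (mem_zpowers x) (h ▸ hy)
    obtain ⟨M, hMH, hxM, hHM⟩ := exists_proper_normal H hHp x hx hne
    have hM : Good p M := ih M hMH
    have hy'M : y⁻¹ * x * y ∈ M := by
      have := (mem_normalizer_iff.mp (hHM (H.inv_mem hy)) x).mp hxM
      simpa using this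
    have hpow : (y⁻¹ * x * y) ^ p ^ n = x ^ p ^ n := by
      have : y⁻¹ * x * y = y⁻¹ * x * y⁻¹⁻¹ := by simp
      rw [this, conj_pow, hxy, inv_inv, mul_assoc, ← pow_succ, pow_succ', inv_mul_cancel_left]
    have h1 := (hM x hxM _ hy'M n).mp hpow.symm
    have h2 : x * (y⁻¹ * x * y)⁻¹ = x * y⁻¹ * x⁻¹ * y⁻¹⁻¹ := by group
    rw [h2] at h1
    have hK : closure ({x, y⁻¹} : Set G) ≤ normalizer (M : Set G) := by
      rw [closure_pair_inv_right, heq]; exact hHM
    have := key_step hG x y⁻¹ n M hM hxM hK h1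
    rw [this, hxy, inv_pow, mul_inv_cancel]
  · intro hw
    set w := x * y⁻¹ with hwdef
    have hwH : w ∈ H := H.mul_mem hx (H.inv_mem hy)
    have hxw : x = w * y := by simp [hwdef]
    have hne : zpowers w ≠ H := by
      intro h
      exact noncyc w (h ▸ hx) (h ▸ hy)
    obtain ⟨M, hMH, hwM, hHM⟩ := exists_proper_normal H hHp w hwH hne
    have hM : Good p M := ih M hMH
    have hc1 : (y * w⁻¹ * y⁻¹) ^ p ^ n = 1 := by
      rw [conj_pow, inv_pow, hw]; simp
    have hcM : y * w⁻¹ * y⁻¹ ∈ M := (mem_normalizer_iff.mp (hHM hy) _).mp (M.inv_mem hwM)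
    have h1 := hM.mul_pow_eq_one hwM hcM hw hc1
    have h2 : w * (y * w⁻¹ * y⁻¹) = w * y * w⁻¹ * y⁻¹ := by group
    rw [h2] at h1
    have hK : closure ({w, y} : Set G) ≤ normalizer (M : Set G) := by
      refine le_trans ?_ hHM
      rw [closure_le]; rintro z (rfl | rfl) <;> assumption
    have := key_step hG w y n M hM hwM hK h1
    rw [hxw, this, hw, one_mul]


/-- In a regular `p`-group: `a ^ p ^ n = b ^ p ^ n ↔ (a * b⁻¹) ^ p ^ n = 1`. -/
theorem pow_eq_pow_iff [Finite G] {p : ℕ} [Fact p.Prime] (hG : IsRegularPGroup p G) (a b : G) (n : ℕ) :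
    a ^ p ^ n = b ^ p ^ n ↔ (a * b⁻¹) ^ p ^ n = 1 :=
  good_all hG ⊤ a (mem_top a) b (mem_top b) n

/-- In a regular `p`-group the elements of order dividing `p ^ n` are closed under multiplication. -/
theorem mul_pow_eq_one [Finite G] {p : ℕ} [Fact p.Prime] (hG : IsRegularPGroup p G) {a b : G} {n : ℕ}
    (ha : a ^ p ^ n = 1) (hb : b ^ p ^ n = 1) : (a * b) ^ p ^ n = 1 :=
  (good_all hG ⊤).mul_pow_eq_one (mem_top a) (mem_top b) ha hb

end Cfsg.Agent.Helper21.RegularP
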