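import Mathlib
import Cfsg.Prelude.Def_PLocal
import Cfsg.Agent.Helper21.RegularP

/-!
Regular `p`-groups, power structure (helper21).

`RegAt p n G` is the level-`n` regularity identity
`(ab)^(p^n) = a^(p^n) b^(p^n) c` with `c ∈ ℧_n(⟨a,b⟩')`.  From `RegAt p n G` alone (for a finite
`p`-group) we get: the `p^n`-th powers of the elements of any subgroup form a subgroup
(`coe_powerClosure_eq`), `[℧_n(H), ℧_n(H)] ≤ ℧_n(H')` (`commutator_powerClosure_le`), and
`RegAt p 1 G → RegAt p n G → RegAt p (n+1) G` (`regAt_succ`), hence the first power condition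
implies regularity (`isRegular_of_regAt_one`).
-/

set_option autoImplicit false
set_option linter.style.haveILetI false

namespace Cfsg.Agent.Helper21.RegularPow

open Subgroup Cfsg.Agent.Helper21.RegularP
open scoped commutatorElement

variable {G : Type*} [Group G]

/-- Level-`n` regularity. -/
def RegAt (p n : ℕ) (G : Type*) [Group G] : Prop :=
  ∀ a b : G, ∃ c ∈ powerClosure p n ⁅closure ({a, b} : Set G), closure ({a, b} : Set G)⁆,
    (a * b) ^ (p ^ n) = a ^ (p ^ n) * b ^ (p ^ n) * c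

theorem powerClosure_mono (p n : ℕ) {H K : Subgroup G} (h : H ≤ K) :
    powerClosure p n H ≤ powerClosure p n K := by
  unfold powerClosure
  apply Subgroup.closure_mono
  rintro y ⟨x, hx, rfl⟩
  exact ⟨x, h hx, rfl⟩

theorem pow_mem_powerClosure (p n : ℕ) {H : Subgroup G} {x : G} (hx : x ∈ H) :
    x ^ (p ^ n) ∈ powerClosure p n H :=
  subset_closure ⟨x, hx, rfl⟩

theorem powerClosure_le_self (p n : ℕ) (H : Subgroup G) : powerClosure p n H ≤ H := by
  unfold powerClosure
  rw [closure_le]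
  rintro y ⟨x, hx, rfl⟩
  exact H.pow_mem hx _

/-- If products of two `p^n`-th powers of elements of `D` are again such powers, then every element
of `℧_n(D)` is such a power. -/
theorem mem_powerClosure_of_closed (p n : ℕ) (D : Subgroup G)
    (hD : ∀ a ∈ D, ∀ b ∈ D, ∃ t ∈ D, a ^ (p ^ n) * b ^ (p ^ n) = t ^ (p ^ n))
    {c : G} (hc : c ∈ powerClosure p n D) : ∃ d ∈ D, c = d ^ (p ^ n) := by
  unfold powerClosure at hc
  induction hc using closure_induction with
  | mem y hy => exact hy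
  | one => exact ⟨1, D.one_mem, by simp⟩
  | mul x y _ _ hx hy =>
    obtain ⟨a, ha, rfl⟩ := hx
    obtain ⟨b, hb, rfl⟩ := hy
    obtain ⟨t, ht, h⟩ := hD a ha b hb
    exact ⟨t, ht, h⟩
  | inv x _ hx =>
    obtain ⟨a, ha, rfl⟩ := hx
    exact ⟨a⁻¹, D.inv_mem ha, by rw [inv_pow]⟩

/-- A proper normal subgroup of the `p`-group `H` containing `u` and the derived subgroup. -/
theorem exists_proper_normal' [Finite G] {p : ℕ} [Fact p.Prime] (H : Subgroup G)
    (hH : IsPGroup p H) (u : G) (hu : u ∈ H) (hne : zpowers u ≠ H) :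
    ∃ M : Subgroup G, M < H ∧ u ∈ M ∧ ⁅H, H⁆ ≤ M := by
  have : Group.IsNilpotent H := hH.isNilpotent
  have hnc : NormalizerCondition H := Group.normalizerCondition_of_isNilpotent
  have hU : zpowers (⟨u, hu⟩ : H) ≠ ⊤ := by
    intro h
    apply hne
    have h2 : (zpowers (⟨u, hu⟩ : H)).map H.subtype = zpowers u := by
      rw [MonoidHom.map_zpowers]
      rfl
    rw [← h2, h, ← MonoidHom.range_eq_map, Subgroup.range_subtype]
  obtain ⟨M₀, hM₀, hUM⟩ := (eq_top_or_exists_le_coatom (zpowers (⟨u, hu⟩ : H))).resolve_left hU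
  haveI hnorm : M₀.Normal := NormalizerCondition.normal_of_coatom M₀ hnc hM₀
  have hcomm : commutator H ≤ M₀ := by
    obtain ⟨h, hh⟩ : ∃ h : H, h ∉ M₀ := by
      by_contra hcon
      simp only [not_exists, not_not] at hcon
      exact hM₀.1 (eq_top_iff.mpr fun x _ => hcon x)
    have hsup : M₀ ⊔ zpowers h = ⊤ := by
      apply hM₀.2
      refine lt_of_le_of_ne le_sup_left ?_
      intro heq
      apply hh
      rw [heq]
      exact le_sup_right (a := M₀) (mem_zpowers h)
    exact Subgroup.Normal.commutator_le_of_self_sup_commutative_eq_top hsup inferInstance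
  refine ⟨M₀.map H.subtype, ?_, ?_, ?_⟩
  · refine lt_of_le_of_ne (map_subtype_le M₀) ?_
    intro h
    apply hM₀.1
    rw [eq_top_iff]
    intro x _
    have hx : (x : G) ∈ M₀.map H.subtype := by rw [h]; exact x.2
    obtain ⟨y, hy, hyx⟩ := hx
    have : y = x := Subtype.ext hyx
    rwa [← this]
  · exact ⟨⟨u, hu⟩, hUM (mem_zpowers _), rfl⟩
  · rw [← map_subtype_commutator]
    exact map_mono hcomm

/-- In a finite `p`-group with the level-`n` regularity identity, products of `p^n`-th powers of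
elements of a subgroup `H` are `p^n`-th powers of elements of `H`. -/
theorem pow_mul_pow_eq_pow [Finite G] {p : ℕ} [Fact p.Prime] (hp : IsPGroup p G) (n : ℕ)
    (hR : RegAt p n G) :
    ∀ H : Subgroup G, ∀ a ∈ H, ∀ b ∈ H, ∃ t ∈ H, a ^ (p ^ n) * b ^ (p ^ n) = t ^ (p ^ n) := by
  intro H
  induction H using WellFoundedLT.induction with
  | ind H ih =>
  intro a ha b hb
  have hKH : closure ({a, b} : Set G) ≤ H := by
    rw [closure_le]; rintro z (rfl | rfl) <;> assumption
  rcases lt_or_eq_of_le hKH with hlt | heq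
  · obtain ⟨t, ht, h⟩ := ih _ hlt a (subset_closure (by simp)) b (subset_closure (by simp))
    exact ⟨t, hKH ht, h⟩
  by_cases hcomm : a * b = b * a
  · exact ⟨a * b, H.mul_mem ha hb, ((show Commute a b from hcomm).mul_pow _).symm⟩
  have hHp : IsPGroup p H := hp.to_subgroup H
  have hne : zpowers (a * b) ≠ H := by
    intro h
    have hxw : a ∈ zpowers (a * b) := h ▸ ha
    have hyw : b ∈ zpowers (a * b) := h ▸ hb
    obtain ⟨i, hi⟩ := Subgroup.mem_zpowers_iff.mp hxw
    obtain ⟨j, hj⟩ := Subgroup.mem_zpowers_iff.mp hyw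
    have hc : Commute ((a * b) ^ i) ((a * b) ^ j) := (Commute.refl _).zpow_zpow i j
    rw [hi, hj] at hc
    exact hcomm hc
  obtain ⟨M, hMH, habM, hDM⟩ := exists_proper_normal' H hHp (a * b) (H.mul_mem ha hb) hne
  obtain ⟨c, hc, hcc⟩ := hR a b
  rw [heq] at hc
  have hDlt : ⁅H, H⁆ < H := lt_of_le_of_lt hDM hMH
  obtain ⟨d, hd, rfl⟩ := mem_powerClosure_of_closed p n ⁅H, H⁆ (ih _ hDlt) hc
  obtain ⟨t, ht, h⟩ := ih M hMH (a * b) habM d⁻¹ (M.inv_mem (hDM hd))
  refine ⟨t, hMH.le ht, ?_⟩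
  rw [← h, hcc, inv_pow, mul_inv_cancel_right]

theorem coe_powerClosure_eq [Finite G] {p : ℕ} [Fact p.Prime] (hp : IsPGroup p G) (n : ℕ)
    (hR : RegAt p n G) (H : Subgroup G) :
    {y : G | ∃ x ∈ H, y = x ^ (p ^ n)} = (powerClosure p n H : Set G) := by
  ext y
  constructor
  · rintro ⟨x, hx, rfl⟩
    exact pow_mem_powerClosure p n hx
  · intro hy
    exact mem_powerClosure_of_closed p n H (pow_mul_pow_eq_pow hp n hR H) hy

theorem commutator_powerClosure_le [Finite G] {p : ℕ} [Fact p.Prime] (hp : IsPGroup p G) (n : ℕ)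
    (hR : RegAt p n G) (H : Subgroup G) :
    ⁅powerClosure p n H, powerClosure p n H⁆ ≤ powerClosure p n ⁅H, H⁆ := by
  -- first: `[a^(p^n), y] ∈ ℧_n(H')` for `a, y ∈ H`
  have key : ∀ a ∈ H, ∀ y ∈ H, ⁅a ^ (p ^ n), y⁆ ∈ powerClosure p n ⁅H, H⁆ := by
    intro a ha y hy
    have hv : y * a⁻¹ * y⁻¹ ∈ H := H.mul_mem (H.mul_mem hy (H.inv_mem ha)) (H.inv_mem hy)
    obtain ⟨c, hc, hcc⟩ := hR a (y * a⁻¹ * y⁻¹)
    have hK : closure ({a, y * a⁻¹ * y⁻¹} : Set G) ≤ H := by
      rw [closure_le]; rintro z (rfl | rfl) <;> assumption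
    have hc' : c ∈ powerClosure p n ⁅H, H⁆ :=
      powerClosure_mono p n (commutator_mono hK hK) hc
    have huv : a * (y * a⁻¹ * y⁻¹) = ⁅a, y⁆ := by
      rw [commutatorElement_def]; group
    have h1 : (a * (y * a⁻¹ * y⁻¹)) ^ (p ^ n) ∈ powerClosure p n ⁅H, H⁆ := by
      rw [huv]
      exact pow_mem_powerClosure p n (commutator_mem_commutator ha hy)
    have h2 : ⁅a ^ (p ^ n), y⁆ = a ^ (p ^ n) * (y * a⁻¹ * y⁻¹) ^ (p ^ n) := by
      rw [commutatorElement_def, conj_pow, inv_pow]; group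
    rw [h2]
    have h3 : a ^ (p ^ n) * (y * a⁻¹ * y⁻¹) ^ (p ^ n) = (a * (y * a⁻¹ * y⁻¹)) ^ (p ^ n) * c⁻¹ := by
      rw [hcc, mul_inv_cancel_right]
    rw [h3]
    exact mul_mem h1 (inv_mem hc')
  rw [commutator_le]
  intro u hu v hv
  obtain ⟨a, ha, rfl⟩ := mem_powerClosure_of_closed p n H (pow_mul_pow_eq_pow hp n hR H) hu
  exact key a ha v (powerClosure_le_self p n H hv)

/-- `℧_1(℧_n(D)) ≤ ℧_(n+1)(D)`. -/
theorem powerClosure_one_powerClosure_le [Finite G] {p : ℕ} [Fact p.Prime] (hp : IsPGroup p G)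
    (n : ℕ) (hR : RegAt p n G) (D : Subgroup G) :
    powerClosure p 1 (powerClosure p n D) ≤ powerClosure p (n + 1) D := by
  conv_lhs => unfold powerClosure
  rw [closure_le]
  rintro y ⟨x, hx, rfl⟩
  obtain ⟨d, hd, rfl⟩ := mem_powerClosure_of_closed p n D (pow_mul_pow_eq_pow hp n hR D) hx
  rw [← pow_mul, pow_one, ← pow_succ]
  exact pow_mem_powerClosure p (n + 1) hd

theorem regAt_succ [Finite G] {p : ℕ} [Fact p.Prime] (hp : IsPGroup p G) (n : ℕ)
    (h1 : RegAt p 1 G) (hR : RegAt p n G) : RegAt p (n + 1) G := by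
  intro a b
  set K := closure ({a, b} : Set G) with hK
  set D := ⁅K, K⁆ with hD
  have haK : a ∈ K := subset_closure (by simp)
  have hbK : b ∈ K := subset_closure (by simp)
  obtain ⟨c, hc, hcc⟩ := hR a b
  obtain ⟨e, he, hee⟩ := h1 (a ^ (p ^ n) * b ^ (p ^ n)) c
  obtain ⟨f, hf, hff⟩ := h1 (a ^ (p ^ n)) (b ^ (p ^ n))
  have hAK : a ^ (p ^ n) ∈ powerClosure p n K := pow_mem_powerClosure p n haK
  have hBK : b ^ (p ^ n) ∈ powerClosure p n K := pow_mem_powerClosure p n hbK
  have hDK : D ≤ K := commutator_le_self K  -- placeholder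
  have hcK : c ∈ powerClosure p n K := powerClosure_mono p n hDK hc
  have hstep : ∀ L : Subgroup G, L ≤ powerClosure p n K →
      powerClosure p 1 ⁅L, L⁆ ≤ powerClosure p (n + 1) D := by
    intro L hL
    refine le_trans (powerClosure_mono p 1 ?_) (powerClosure_one_powerClosure_le hp n hR D)
    exact le_trans (commutator_mono hL hL) (commutator_powerClosure_le hp n hR K)
  have hf' : f ∈ powerClosure p (n + 1) D := by
    refine hstep _ ?_ hf
    rw [closure_le]; rintro z (rfl | rfl) <;> assumption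
  have he' : e ∈ powerClosure p (n + 1) D := by
    refine hstep _ ?_ he
    rw [closure_le]
    rintro z (rfl | rfl)
    · exact mul_mem hAK hBK
    · exact hcK
  have hcp : c ^ (p ^ 1) ∈ powerClosure p (n + 1) D :=
    powerClosure_one_powerClosure_le hp n hR D (pow_mem_powerClosure p 1 hc)
  refine ⟨f * c ^ (p ^ 1) * e, mul_mem (mul_mem hf' hcp) he', ?_⟩
  have e1 : (a * b) ^ (p ^ (n + 1)) = ((a * b) ^ (p ^ n)) ^ (p ^ 1) := by
    rw [← pow_mul, pow_one, ← pow_succ]
  rw [e1, hcc, hee, hff, ← pow_mul, ← pow_mul, pow_one, ← pow_succ]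
  simp only [mul_assoc]

theorem regAt_zero (p : ℕ) (G : Type*) [Group G] : RegAt p 0 G := by
  intro a b
  exact ⟨1, one_mem _, by simp⟩

theorem regAt_all [Finite G] {p : ℕ} [Fact p.Prime] (hp : IsPGroup p G)
    (h1 : RegAt p 1 G) : ∀ n, RegAt p n G := by
  intro n
  induction n with
  | zero => exact regAt_zero p G
  | succ n ih => exact regAt_succ hp n h1 ih

theorem isRegular_of_regAt_one [Finite G] {p : ℕ} [Fact p.Prime] (hp : IsPGroup p G)
    (h1 : RegAt p 1 G) : IsRegularPGroup p G :=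
  ⟨hp, fun a b n => regAt_all hp h1 n a b⟩

theorem regAt_of_isRegular {p : ℕ} (hG : IsRegularPGroup p G) (n : ℕ) : RegAt p n G :=
  fun a b => hG.2 a b n

end Cfsg.Agent.Helper21.RegularPow
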