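import Mathlib
import Cfsg.Prelude.Def_PLocal
import Cfsg.Agent.Helper21.PolySeq
import Cfsg.Agent.Helper21.RegularPow

/-!
Groups of class `< p` (helper21): `(xy)^p = x^p y^p c` with `c ∈ ℧₁(G')` (`exists_pow_mul_pow`),
hence finite `p`-groups of class `< p` are regular (`isRegular_of_class_lt`).
-/

set_option autoImplicit false
set_option linter.style.haveILetI false

namespace Cfsg.Agent.Helper21.ClassLtP

open Subgroup Cfsg.Agent.Helper21.PolySeq Cfsg.Agent.Helper21.RegularPow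
open scoped commutatorElement

/-- In a group `Q` with `γ_p(Q) = 1`, `(xy)^p = x^p y^p c` with `c ∈ ℧₁(Q')`. -/
theorem exists_pow_mul_pow {Q : Type*} [Group Q] {p : ℕ} (hp : p.Prime)
    (hcl : (⊤ : Subgroup Q).lowerCentralSeries (p - 1) = ⊥) (x y : Q) :
    ∃ c ∈ Cfsg.powerClosure p 1 ⁅(⊤ : Subgroup Q), ⊤⁆, (x * y) ^ p = x ^ p * y ^ p * c := by
  have hΓ := lcsFilt_filt Q
  obtain ⟨q, rfl⟩ : ∃ q, p = q + 1 := ⟨p - 1, by have := hp.two_le; omega⟩
  have hbot : lcsFilt Q (q + 1) = ⊥ := by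
    simpa [lcsFilt] using hcl
  have hN : ∀ a ∈ lcsFilt Q 2, a ^ (q + 1) ∈ Cfsg.powerClosure (q + 1) 1 ⁅(⊤ : Subgroup Q), ⊤⁆ := by
    intro a ha
    refine subset_closure ⟨a, ha, by rw [pow_one]⟩
  have hx : ∀ z : Q, PolyAll (lcsFilt Q) 0 (fun n => z ^ n) := fun z =>
    polyAll_pow hΓ (show z ∈ (⊤ : Subgroup Q) from mem_top z)
  have hg : PolyAll (lcsFilt Q) 0
      ((fun n => y ^ n)⁻¹ * (fun n => x ^ n)⁻¹ * (fun n => (x * y) ^ n)) :=
    ((hx y).inv hΓ |>.mul hΓ ((hx x).inv hΓ)).mul hΓ (hx (x * y))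
  have := peel_final hΓ hp hbot _ hN _ hg (by simp) (by simp)
  refine ⟨_, this, ?_⟩
  simp only [Pi.mul_apply, Pi.inv_apply]
  group

theorem map_powerClosure_le {G H : Type*} [Group G] [Group H] (f : G →* H) (p n : ℕ)
    (D : Subgroup G) : (Cfsg.powerClosure p n D).map f ≤ Cfsg.powerClosure p n (D.map f) := by
  rw [map_le_iff_le_comap]
  unfold Cfsg.powerClosure
  rw [closure_le]
  rintro y ⟨x, hx, rfl⟩
  simp only [coe_comap, Set.mem_preimage, SetLike.mem_coe, map_pow]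
  exact subset_closure ⟨f x, mem_map_of_mem f hx, rfl⟩

theorem regAt_one_of_class_lt {G : Type*} [Group G] {p : ℕ} (hp : p.Prime)
    (hcl : (⊤ : Subgroup G).lowerCentralSeries (p - 1) = ⊥) : RegAt p 1 G := by
  intro a b
  set K := closure ({a, b} : Set G) with hK
  have haK : a ∈ K := subset_closure (by simp)
  have hbK : b ∈ K := subset_closure (by simp)
  have hclK : (⊤ : Subgroup K).lowerCentralSeries (p - 1) = ⊥ := by
    have h1 : ((⊤ : Subgroup K).lowerCentralSeries (p - 1)).map K.subtype = ⊥ := by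
      rw [top_subtype_lowerCentralSeries, eq_bot_iff, ← hcl]
      exact lowerCentralSeries_mono (p - 1) le_top
    exact (map_eq_bot_iff_of_injective _ K.subtype_injective).mp h1
  obtain ⟨c, hc, hcc⟩ := exists_pow_mul_pow hp hclK ⟨a, haK⟩ ⟨b, hbK⟩
  refine ⟨(c : G), ?_, ?_⟩
  · have h1 : (c : G) ∈ (Cfsg.powerClosure p 1 ⁅(⊤ : Subgroup K), ⊤⁆).map K.subtype :=
      mem_map_of_mem _ hc
    have h2 := map_powerClosure_le K.subtype p 1 ⁅(⊤ : Subgroup K), ⊤⁆ h1
    rwa [map_commutator, ← MonoidHom.range_eq_map, range_subtype] at h2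
  · have := congrArg Subtype.val hcc
    simpa only [pow_one, Subgroup.coe_mul, Subgroup.coe_pow] using this

theorem isRegular_of_class_lt {G : Type*} [Group G] [Finite G] {p : ℕ} [Fact p.Prime]
    (hG : IsPGroup p G) (hcl : (⊤ : Subgroup G).lowerCentralSeries (p - 1) = ⊥) :
    Cfsg.IsRegularPGroup p G :=
  isRegular_of_regAt_one hG (regAt_one_of_class_lt (Fact.out) hcl)

end Cfsg.Agent.Helper21.ClassLtP
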