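import Mathlib

/-!
Frattini subgroup toolkit (helper21): `le_frattini_iff`, `map_frattini_le` (`Φ(N) ≤ Φ(G)` for
`N ⊴ G`), `commutator_le_frattini_of_nilpotent`, `exists_complement_of_inf_frattini_eq_bot`
(an abelian normal subgroup meeting `Φ(G)` trivially is complemented), `comap_frattini_le`
(`Φ` of a quotient by a subgroup of `Φ`).
-/

set_option autoImplicit false
set_option linter.style.haveILetI false

namespace Cfsg.Agent.Helper21.FrattiniLib

open Subgroup
open scoped commutatorElement

variable {G : Type*} [Group G]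

theorem le_frattini_iff (X : Subgroup G) : X ≤ frattini G ↔ ∀ M : Subgroup G, IsCoatom M → X ≤ M := by
  constructor
  · intro h M hM
    exact h.trans (frattini_le_coatom hM)
  · intro h
    unfold frattini Order.radical
    exact le_iInf₂ (fun M hM => h M hM)

/-- If `B` is normal, `B ≤ X` and `B ⊔ M = ⊤` then `X = B ⊔ (X ⊓ M)` (Dedekind), in the form:
every `x ∈ X` is `b * m` with `b ∈ B`, `m ∈ X ⊓ M`. -/
theorem dedekind_mem {B X M : Subgroup G} [B.Normal] (hBX : B ≤ X) (hBM : B ⊔ M = ⊤) {x : G}
    (hx : x ∈ X) : x ∈ B ⊔ (X ⊓ M) := by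
  have hx' : x ∈ B ⊔ M := by rw [hBM]; trivial
  rw [← SetLike.mem_coe, Subgroup.normal_mul, Set.mem_mul] at hx'
  obtain ⟨b, hb, m, hm, rfl⟩ := hx'
  have hmX : m ∈ X := by
    have : m = b⁻¹ * (b * m) := by group
    rw [this]
    exact X.mul_mem (X.inv_mem (hBX hb)) hx
  exact Subgroup.mul_mem_sup hb ⟨hmX, hm⟩

/-- `Φ(N) ≤ Φ(G)` for a normal subgroup `N` of a finite group. -/
theorem map_frattini_le [Finite G] (N : Subgroup G) [N.Normal] :
    (frattini N).map N.subtype ≤ frattini G := by
  rw [le_frattini_iff]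
  intro M hM
  by_contra hle
  haveI : ((frattini N).map N.subtype).Normal := ConjAct.normal_of_characteristic_of_normal
  have hsup : (frattini N).map N.subtype ⊔ M = ⊤ := by
    apply hM.2
    refine lt_of_le_of_ne le_sup_right ?_
    intro h
    apply hle
    rw [h]; exact le_sup_left
  have hΦN : (frattini N).map N.subtype ≤ N := map_subtype_le _
  have h1 : M.subgroupOf N ⊔ frattini N = ⊤ := by
    rw [eq_top_iff]
    intro x _
    have hx := dedekind_mem hΦN hsup x.2
    rw [sup_comm]
    rw [← SetLike.mem_coe, Subgroup.normal_mul, Set.mem_mul] at hx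
    obtain ⟨b, hb, m, hm, hbm⟩ := hx
    obtain ⟨b', hb', rfl⟩ := hb
    have hxeq : x = b' * ⟨m, hm.1⟩ := Subtype.ext (by simpa using hbm.symm)
    rw [hxeq]
    exact Subgroup.mul_mem_sup hb' (mem_subgroupOf.mpr hm.2)
  have h2 : M.subgroupOf N = ⊤ := frattini_nongenerating h1
  have hNM : N ≤ M := subgroupOf_eq_top.mp h2
  exact hle (hΦN.trans hNM)

/-- In a finite nilpotent group, `G' ≤ Φ(G)`. -/
theorem commutator_le_frattini_of_nilpotent [Finite G] [Group.IsNilpotent G] :
    commutator G ≤ frattini G := by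
  rw [le_frattini_iff]
  intro M hM
  have hnc : NormalizerCondition G := Group.normalizerCondition_of_isNilpotent
  haveI hnorm : M.Normal := NormalizerCondition.normal_of_coatom M hnc hM
  obtain ⟨h, hh⟩ : ∃ h : G, h ∉ M := by
    by_contra hcon
    simp only [not_exists, not_not] at hcon
    exact hM.1 (eq_top_iff.mpr fun x _ => hcon x)
  have hsup : M ⊔ zpowers h = ⊤ := by
    apply hM.2
    refine lt_of_le_of_ne le_sup_left ?_
    intro heq
    apply hh
    rw [heq]
    exact le_sup_right (a := M) (mem_zpowers h)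
  exact Subgroup.Normal.commutator_le_of_self_sup_commutative_eq_top hsup inferInstance

theorem comm_of_nilpotent_of_frattini_eq_bot [Finite G] [Group.IsNilpotent G]
    (h : frattini G = ⊥) (a b : G) : a * b = b * a := by
  have h1 : ⁅a, b⁆ ∈ commutator G := Subgroup.commutator_mem_commutator (mem_top a) (mem_top b)
  have h2 := commutator_le_frattini_of_nilpotent h1
  rw [h, mem_bot, commutatorElement_eq_one_iff_mul_comm] at h2
  exact h2

/-- An abelian normal subgroup meeting the Frattini subgroup trivially has a complement. -/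
theorem exists_complement_of_inf_frattini_eq_bot [Finite G] (A : Subgroup G) [A.Normal]
    (hA : ∀ a ∈ A, ∀ b ∈ A, a * b = b * a) (hAΦ : A ⊓ frattini G = ⊥) :
    ∃ X : Subgroup G, IsComplement' A X := by
  -- a minimal supplement
  have hwf : WellFoundedLT (Subgroup G) := inferInstance
  obtain ⟨X, hX, hXmin⟩ := hwf.wf.has_min {X : Subgroup G | A ⊔ X = ⊤} ⟨⊤, sup_top_eq _⟩
  have hXsup : A ⊔ X = ⊤ := hX
  set B := A ⊓ X with hB
  -- `B` is normal
  haveI hBn : B.Normal := by
    refine ⟨fun b hb g => ?_⟩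
    have hg : g ∈ A ⊔ X := by rw [hXsup]; trivial
    rw [← SetLike.mem_coe, Subgroup.normal_mul, Set.mem_mul] at hg
    obtain ⟨a, ha, x, hx, rfl⟩ := hg
    have h1 : x * b * x⁻¹ ∈ B :=
      ⟨‹A.Normal›.conj_mem b hb.1 x, X.mul_mem (X.mul_mem hx hb.2) (X.inv_mem hx)⟩
    have h2 : a * x * b * (a * x)⁻¹ = a * (x * b * x⁻¹) * a⁻¹ := by group
    rw [h2, hA a ha _ h1.1, mul_inv_cancel_right]
    exact h1
  have hBΦ : B ≤ frattini G := by
    rw [le_frattini_iff]
    intro M hM
    by_contra hle
    have hsup : B ⊔ M = ⊤ := by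
      apply hM.2
      refine lt_of_le_of_ne le_sup_right ?_
      intro h
      apply hle
      rw [h]; exact le_sup_left
    have hX1 : A ⊔ (X ⊓ M) = ⊤ := by
      rw [eq_top_iff, ← hXsup]
      apply sup_le le_sup_left
      intro x hx
      have := dedekind_mem (inf_le_right : B ≤ X) hsup hx
      exact (sup_le (inf_le_left.trans le_sup_left) le_sup_right : B ⊔ (X ⊓ M) ≤ A ⊔ (X ⊓ M)) this
    have hmin := hXmin (X ⊓ M) hX1
    have hXM : X ≤ M := by
      by_contra hnot
      apply hmin
      refine lt_of_le_of_ne inf_le_left ?_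
      intro h
      apply hnot
      rw [← h]; exact inf_le_right
    exact hle ((inf_le_right : B ≤ X).trans hXM)
  have hBbot : B = ⊥ := by
    rw [eq_bot_iff, ← hAΦ]
    exact le_inf inf_le_left hBΦ
  refine ⟨X, isComplement'_of_disjoint_and_mul_eq_univ (disjoint_iff.mpr hBbot) ?_⟩
  rw [← Subgroup.normal_mul, hXsup, coe_top]

/-- Image of a coatom containing the kernel under a surjection. -/
theorem isCoatom_map_of_surjective {H : Type*} [Group H] {φ : G →* H} (hφ : Function.Surjective φ)
    {M : Subgroup G} (hker : φ.ker ≤ M) (hM : IsCoatom M) : IsCoatom (M.map φ) := by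
  have hcm : (M.map φ).comap φ = M := by
    rw [comap_map_eq, sup_eq_left.mpr hker]
  constructor
  · intro h
    apply hM.1
    rw [← hcm, h, comap_top]
  · intro X hX
    have h1 : M ≤ X.comap φ := by
      rw [← hcm]; exact comap_mono hX.le
    rcases eq_or_lt_of_le h1 with h | h
    · exfalso
      apply hX.ne
      rw [← map_comap_eq_self_of_surjective hφ X, ← h]
    · have := hM.2 _ h
      rw [← map_comap_eq_self_of_surjective hφ X, this, ← MonoidHom.range_eq_map,
        MonoidHom.range_eq_top.mpr hφ]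

/-- If `ker φ ≤ Φ(G)` for a surjection `φ : G → H` then `φ⁻¹(Φ(H)) ≤ Φ(G)`. -/
theorem comap_frattini_le {H : Type*} [Group H] {φ : G →* H} (hφ : Function.Surjective φ)
    (hker : φ.ker ≤ frattini G) : (frattini H).comap φ ≤ frattini G := by
  rw [le_frattini_iff]
  intro M hM
  have hkM : φ.ker ≤ M := hker.trans (frattini_le_coatom hM)
  have hM' := isCoatom_map_of_surjective hφ hkM hM
  have hcm : (M.map φ).comap φ = M := by
    rw [comap_map_eq, sup_eq_left.mpr hkM]
  rw [← hcm]
  exact comap_mono (frattini_le_coatom hM')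

end Cfsg.Agent.Helper21.FrattiniLib
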