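import Mathlib
import Cfsg.Prelude.Def_Solvable
import Cfsg.Agent.Helper21.FrattiniLib
import Cfsg.Agent.Lead.Gaschutz
import Cfsg.Agent.Lead.Carter0

/-!
`frattini_inf_le` (helper21): if `D ⊴ H` lies in `Φ(H)` and in a normal subgroup `K` whose index is
coprime to `|D|`, then `D ≤ Φ(K)` (via Gaschütz).  `not_dvd_card_of_normal_nilpotent`: a nilpotent
normal subgroup of a group with `O_p = 1` has order prime to `p`.
-/

set_option autoImplicit false
set_option linter.style.haveILetI false

namespace Cfsg.Agent.Helper21.FrattiniResidual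

open Subgroup Cfsg.Agent.Helper21.FrattiniLib

universe u

theorem frattini_inf_le : ∀ (n : ℕ) (H : Type u) [Group H] [Finite H], Nat.card H = n →
    ∀ K D : Subgroup H, K.Normal → D.Normal → D ≤ K → (Nat.card D).Coprime K.index →
      D ≤ frattini H → D ≤ (frattini K).map K.subtype := by
  intro n
  induction n using Nat.strong_induction_on with
  | _ n ih =>
  intro H _ _ hn K D hKn hDn hDK hcop hDΦ
  haveI := hKn
  haveI := hDn
  set ΦK : Subgroup H := (frattini K).map K.subtype with hΦK
  haveI hΦKn : ΦK.Normal := ConjAct.normal_of_characteristic_of_normal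
  set T : Subgroup H := D ⊓ ΦK with hT
  haveI hTn : T.Normal := Subgroup.normal_inf_normal D ΦK
  by_cases hTbot : T = ⊥
  · -- the abelian case
    set D' : Subgroup K := D.subgroupOf K with hD'
    haveI hD'n : D'.Normal := inferInstance
    -- `D'` is nilpotent
    haveI hFn : Group.IsNilpotent (frattini H) := frattini_nilpotent
    haveI hD'nil : Group.IsNilpotent D' :=
      Cfsg.Agent.Lead.isNilpotent_of_injective
        ((Subgroup.inclusion hDΦ).comp (Subgroup.subgroupOfEquivOfLe hDK).toMonoidHom)
        ((Subgroup.inclusion_injective hDΦ).comp (Subgroup.subgroupOfEquivOfLe hDK).injective)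
    -- its Frattini subgroup is trivial
    have hFD' : frattini D' = ⊥ := by
      have h1 : (frattini D').map D'.subtype ≤ frattini K := map_frattini_le D'
      rw [eq_bot_iff]
      intro x hx
      have hx1 : ((x : K) : H) ∈ T := by
        refine ⟨mem_subgroupOf.mp x.2, ?_⟩
        exact ⟨(x : K), h1 ⟨x, hx, rfl⟩, rfl⟩
      rw [hTbot, mem_bot] at hx1
      rw [mem_bot]
      exact Subtype.ext (Subtype.ext hx1)
    have hcomm' : ∀ a b : D', a * b = b * a := comm_of_nilpotent_of_frattini_eq_bot hFD'
    have hcommK : ∀ a ∈ D', ∀ b ∈ D', a * b = b * a := by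
      intro a ha b hb
      exact congrArg Subtype.val (hcomm' ⟨a, ha⟩ ⟨b, hb⟩)
    have hcommD : ∀ a ∈ D, ∀ b ∈ D, a * b = b * a := by
      intro a ha b hb
      have := hcommK ⟨a, hDK ha⟩ (mem_subgroupOf.mpr ha) ⟨b, hDK hb⟩ (mem_subgroupOf.mpr hb)
      exact congrArg Subtype.val this
    have hAΦ : D' ⊓ frattini K = ⊥ := by
      rw [eq_bot_iff]
      intro x hx
      have hx1 : (x : H) ∈ T := ⟨mem_subgroupOf.mp hx.1, ⟨x, hx.2, rfl⟩⟩
      rw [hTbot, mem_bot] at hx1
      rw [mem_bot]
      exact Subtype.ext hx1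
    obtain ⟨X, hX⟩ := exists_complement_of_inf_frattini_eq_bot D' hcommK hAΦ
    haveI : IsMulCommutative D := ⟨⟨fun a b => Subtype.ext (hcommD a a.2 b b.2)⟩⟩
    have hAK : X.map K.subtype ⊓ D = ⊥ := by
      rw [eq_bot_iff]
      rintro x ⟨⟨x', hx', rfl⟩, hxD⟩
      have : x' ∈ D' ⊓ X := ⟨mem_subgroupOf.mpr hxD, hx'⟩
      rw [hX.disjoint.eq_bot, mem_bot] at this
      rw [this]; exact Subgroup.one_mem _
    have hKA : D ⊔ X.map K.subtype = K := by
      have h1 : (D' ⊔ X).map K.subtype = K := by
        rw [hX.sup_eq_top, ← MonoidHom.range_eq_map, range_subtype]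
      rw [Subgroup.map_sup, hD', subgroupOf_map_subtype, inf_eq_left.mpr hDK] at h1
      exact h1
    obtain ⟨Y, hY⟩ := Cfsg.Agent.Lead.gaschutz_exists D K hDK hcop (X.map K.subtype) hAK hKA
    have hYtop : Y = ⊤ := by
      apply frattini_nongenerating
      rw [eq_top_iff, ← hY.sup_eq_top]
      exact sup_le (hDΦ.trans le_sup_right) le_sup_left
    have hDbot : D = ⊥ := by
      have := hY.disjoint.eq_bot
      rwa [hYtop, inf_top_eq] at this
    rw [hDbot]; exact bot_le
  · -- the quotient case
    set π := QuotientGroup.mk' T with hπ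
    have hπs : Function.Surjective π := QuotientGroup.mk'_surjective T
    have hlt : Nat.card (H ⧸ T) < n := by
      rw [← hn, ← Subgroup.index_eq_card, ← Subgroup.card_mul_index T]
      have h1 : 1 < Nat.card T := by
        rcases Nat.lt_or_ge 1 (Nat.card T) with h | h
        · exact h
        · exfalso
          have hpos : 0 < Nat.card T := Nat.card_pos
          exact hTbot (Subgroup.card_eq_one.mp (by omega))
      have hpos : 0 < T.index := Nat.pos_of_ne_zero (Subgroup.index_ne_zero_of_finite)
      nlinarith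
    have hTK : T ≤ K := inf_le_left.trans hDK
    have hKn' : (K.map π).Normal := hKn.map π hπs
    have hDn' : (D.map π).Normal := hDn.map π hπs
    have hcop' : (Nat.card (D.map π)).Coprime (K.map π).index := by
      rw [Subgroup.index_map_eq K hπs (by rw [hπ, QuotientGroup.ker_mk']; exact hTK)]
      exact Nat.Coprime.coprime_dvd_left (Subgroup.card_map_dvd D π) hcop
    have hDΦ' : D.map π ≤ frattini (H ⧸ T) := by
      rw [map_le_iff_le_comap]
      exact hDΦ.trans (frattini_le_comap_frattini_of_surjective hπs)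
    have hIH := ih _ hlt (H ⧸ T) rfl (K.map π) (D.map π) hKn' hDn' (map_mono hDK) hcop' hDΦ'
    -- pull back
    set φ : K →* K.map π := π.subgroupMap K with hφ
    have hφs : Function.Surjective φ := π.subgroupMap_surjective K
    have hker : φ.ker ≤ frattini K := by
      intro x hx
      rw [MonoidHom.mem_ker] at hx
      have h1 : π (x : H) = 1 := by
        have := congrArg Subtype.val hx
        simpa [hφ] using this
      have h2 : (x : H) ∈ T := by
        rw [hπ, QuotientGroup.mk'_apply, QuotientGroup.eq_one_iff] at h1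
        exact h1
      obtain ⟨z, hz, hzx⟩ := h2.2
      have : z = x := Subtype.ext hzx
      rwa [← this]
    have hcomap := comap_frattini_le hφs hker
    intro d hd
    obtain ⟨y, hy, hyd⟩ := hIH (mem_map_of_mem π hd)
    refine ⟨⟨d, hDK hd⟩, hcomap ?_, rfl⟩
    rw [mem_comap]
    have : φ ⟨d, hDK hd⟩ = y := Subtype.ext (by simpa [hφ] using hyd.symm)
    rw [this]
    exact hy

/-- A nilpotent normal subgroup of a group with `O_p = 1` has order prime to `p`. -/
theorem not_dvd_card_of_normal_nilpotent {H : Type*} [Group H] [Finite H] {p : ℕ} [Fact p.Prime]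
    (hO : Cfsg.pCore p H = ⊥) (N : Subgroup H) [N.Normal] [Group.IsNilpotent N] :
    ¬ p ∣ Nat.card N := by
  intro hdvd
  obtain ⟨P⟩ : Nonempty (Sylow p N) := inferInstance
  haveI hPn : (P : Subgroup N).Normal := inferInstance
  haveI hPc : (P : Subgroup N).Characteristic := P.characteristic_of_normal hPn
  haveI : ((P : Subgroup N).map N.subtype).Normal := ConjAct.normal_of_characteristic_of_normal
  have hle : (P : Subgroup N).map N.subtype ≤ Cfsg.pCore p H :=
    le_sSup ⟨inferInstance, P.2.map _⟩
  rw [hO, le_bot_iff, map_eq_bot_iff_of_injective _ N.subtype_injective] at hle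
  exact P.ne_bot_of_dvd_card hdvd hle

theorem mem_of_pow_mem_of_coprime {G : Type*} [Group G] (M : Subgroup G) (x : G) {a b : ℕ}
    (hab : a.Coprime b) (ha : x ^ a ∈ M) (hb : x ^ b ∈ M) : x ∈ M := by
  have h1 : (a : ℤ) * Nat.gcdA a b + (b : ℤ) * Nat.gcdB a b = 1 := by
    have := Nat.gcd_eq_gcd_ab a b
    rw [hab] at this
    exact_mod_cast this.symm
  have h2 : x = (x ^ a) ^ (Nat.gcdA a b) * (x ^ b) ^ (Nat.gcdB a b) := by
    rw [← zpow_natCast, ← zpow_natCast, ← zpow_mul, ← zpow_mul, ← zpow_add, h1, zpow_one]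
  rw [h2]
  exact M.mul_mem (M.zpow_mem ha _) (M.zpow_mem hb _)

end Cfsg.Agent.Helper21.FrattiniResidual
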