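import Mathlib
import Cfsg.Prelude.Def_Local
import Cfsg.Prelude.Def_OddOrderLocal
import Cfsg.Prelude.Def_Transfer
import Cfsg.Agent.Helper21.FrattiniAut
import Cfsg.Agent.Helper21.FrattiniResidual
import Cfsg.Agent.Helper1.PGroup
import Cfsg.Agent.Helper14.PCore
import Cfsg.Agent.Helper19.Cores
import Cfsg.Agent.S0071

set_option autoImplicit false
set_option linter.style.haveILetI false
set_option linter.unusedSectionVars false

/-! # Metacyclic Sylow subgroups and normal `p`-complements -/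

namespace Cfsg.Agent.Helper21.MetaNPC

open Cfsg

theorem isMetacyclic_of_injective {Q R : Type*} [Group Q] [Group R] (f : Q →* R)
    (hf : Function.Injective f) (hR : Cfsg.IsMetacyclic R) : Cfsg.IsMetacyclic Q := by
  obtain ⟨N, hN, hNc, hQc⟩ := hR
  refine ⟨N.comap f, inferInstance, ?_, ?_⟩
  · let g : ↥(N.comap f) →* ↥N := (f.comp (N.comap f).subtype).codRestrict N (fun x => x.2)
    have hg : Function.Injective g := by
      intro x y hxy
      have h1 : f x = f y := congrArg Subtype.val hxy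
      exact Subtype.ext (hf h1)
    exact isCyclic_of_injective g hg
  · let g : Q ⧸ N.comap f →* R ⧸ N := QuotientGroup.map (N.comap f) N f le_rfl
    have hg : Function.Injective g := by
      rw [injective_iff_map_eq_one]
      intro x
      induction x using QuotientGroup.induction_on with
      | H x =>
        intro h
        have h' : ((f x : R) : R ⧸ N) = 1 := h
        rw [QuotientGroup.eq_one_iff] at h'
        exact (QuotientGroup.eq_one_iff _).mpr h'
    exact isCyclic_of_injective g hg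

theorem card_quot_frattini_dvd {Q : Type*} [Group Q] [Finite Q] {p : ℕ} [Fact p.Prime]
    (hQ : IsPGroup p Q) (hm : Cfsg.IsMetacyclic Q) : Nat.card (Q ⧸ frattini Q) ∣ p ^ 2 := by
  obtain ⟨M, hM, hMc, hQMc⟩ := hm
  let π := QuotientGroup.mk' (frattini Q)
  have hexp : ∀ v : Q ⧸ frattini Q, v ^ p = 1 := by
    intro v
    obtain ⟨x, rfl⟩ := QuotientGroup.mk_surjective v
    rw [← QuotientGroup.mk_pow, QuotientGroup.eq_one_iff]
    exact Cfsg.Agent.Helper1.IsPGroup.pow_mem_frattini hQ x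
  haveI : IsCyclic ↥(M.map π) :=
    isCyclic_of_surjective (π.subgroupMap M) (π.subgroupMap_surjective M)
  have h1 : Nat.card ↥(M.map π) ∣ p := by
    rw [← IsCyclic.exponent_eq_card]
    apply Monoid.exponent_dvd_of_forall_pow_eq_one
    rintro ⟨v, hv⟩
    exact Subtype.ext (by simpa using hexp v)
  haveI : (M.map π).Normal := hM.map π (QuotientGroup.mk'_surjective _)
  haveI : IsCyclic ((Q ⧸ frattini Q) ⧸ M.map π) := by
    let g : Q ⧸ M →* (Q ⧸ frattini Q) ⧸ M.map π :=
      QuotientGroup.map M (M.map π) π (Subgroup.le_comap_map π M)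
    have hg : Function.Surjective g := by
      intro y
      obtain ⟨v, rfl⟩ := QuotientGroup.mk_surjective y
      obtain ⟨x, rfl⟩ := QuotientGroup.mk_surjective v
      exact ⟨(x : Q ⧸ M), rfl⟩
    exact isCyclic_of_surjective g hg
  have h2 : Nat.card ((Q ⧸ frattini Q) ⧸ M.map π) ∣ p := by
    rw [← IsCyclic.exponent_eq_card]
    apply Monoid.exponent_dvd_of_forall_pow_eq_one
    intro y
    obtain ⟨v, rfl⟩ := QuotientGroup.mk_surjective y
    rw [← QuotientGroup.mk_pow, hexp v]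
    rfl
  have h3 : Nat.card (Q ⧸ frattini Q) =
      Nat.card ↥(M.map π) * Nat.card ((Q ⧸ frattini Q) ⧸ M.map π) := by
    rw [← Subgroup.index_eq_card]
    exact (Subgroup.card_mul_index (M.map π)).symm
  rw [h3, pow_two]
  exact Nat.mul_dvd_mul h1 h2

theorem prime_dvd_of_aut {V : Type*} [Group V] [Finite V] {p r : ℕ} [hp : Fact p.Prime]
    [hr : Fact r.Prime] (hrp : r ≠ p) (hV : Nat.card V ∣ p ^ 2) (ψ : MulAut V) (a : ℕ)
    (hψ : ψ ^ r ^ a = 1) (hne : ψ ≠ 1) : r ∣ p ^ 2 - 1 := by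
  have hZ : IsPGroup r ↥(Subgroup.zpowers ψ) := by
    rintro ⟨z, hz⟩
    obtain ⟨k, rfl⟩ := Subgroup.mem_zpowers_iff.mp hz
    refine ⟨a, Subtype.ext ?_⟩
    change (ψ ^ k) ^ r ^ a = 1
    rw [← zpow_natCast, ← zpow_mul, mul_comm, zpow_mul, zpow_natCast, hψ, one_zpow]
  have hmod := hZ.card_modEq_card_fixedPoints V
  let F : Subgroup V := (ψ.toMonoidHom).eqLocus (MonoidHom.id V)
  have hF : Nat.card ↥(MulAction.fixedPoints ↥(Subgroup.zpowers ψ) V) = Nat.card F := by
    apply Nat.card_congr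
    apply Equiv.subtypeEquivRight
    intro v
    constructor
    · intro h
      exact h ⟨ψ, Subgroup.mem_zpowers ψ⟩
    · intro h z
      have h1 : Subgroup.zpowers ψ ≤ MulAction.stabilizer (MulAut V) v := by
        rw [Subgroup.zpowers_le]
        exact h
      exact h1 z.2
  rw [hF] at hmod
  have hFne : F ≠ ⊤ := by
    intro h
    apply hne
    ext v
    have : v ∈ F := h ▸ Subgroup.mem_top v
    exact this
  have hFlt : Nat.card F < Nat.card V := by
    have := Subgroup.card_le_card_group F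
    rcases this.lt_or_eq with h | h
    · exact h
    · exact absurd ((Subgroup.card_eq_iff_eq_top F).mp h) hFne
  have hFd : Nat.card F ∣ Nat.card V := Subgroup.card_subgroup_dvd_card F
  have hdvd : r ∣ Nat.card V - Nat.card F :=
    (Nat.modEq_iff_dvd' hFlt.le).mp hmod.symm
  obtain ⟨i, hi, hVi⟩ := (Nat.dvd_prime_pow hp.out).mp hV
  obtain ⟨j, hj, hFj⟩ := (Nat.dvd_prime_pow hp.out).mp (hFd.trans hV)
  rw [hVi, hFj] at hdvd hFlt
  have hji : j < i := (Nat.pow_lt_pow_iff_right hp.out.one_lt).mp hFlt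
  have hp1 : 1 ≤ p := hp.out.one_lt.le
  have hfac : p ^ 2 - 1 = (p - 1) * (p + 1) := by
    zify [hp1, Nat.one_le_pow 2 p hp.out.pos]
    ring
  have hrp1 : r ∣ p - 1 → r ∣ p ^ 2 - 1 := fun h => hfac ▸ Dvd.dvd.mul_right h _
  interval_cases i
  · omega
  · have : j = 0 := by omega
    subst this
    simpa using hrp1 (by simpa using hdvd)
  · interval_cases j
    · simpa using hdvd
    · apply hrp1
      have h1 : p ^ 2 - p ^ 1 = p * (p - 1) := by
        rw [pow_one, pow_two, Nat.mul_sub_one]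
      rw [h1] at hdvd
      rcases (Nat.Prime.dvd_mul hr.out).mp hdvd with h | h
      · exact absurd ((Nat.prime_dvd_prime_iff_eq hr.out hp.out).mp h) hrp
      · exact h

theorem aut_eq_one {Q : Type*} [Group Q] [Finite Q] {p r : ℕ} [hp : Fact p.Prime]
    [hr : Fact r.Prime] (hrp : r ≠ p) (hQ : IsPGroup p Q) (hm : Cfsg.IsMetacyclic Q)
    (hnd : ¬ r ∣ p ^ 2 - 1) (φ : MulAut Q) (a : ℕ) (hφ : φ ^ r ^ a = 1) : φ = 1 := by
  have hψ : (Cfsg.Agent.Helper21.FrattiniAut.frattiniQuotHom Q φ) ^ r ^ a = 1 := by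
    rw [← map_pow, hφ, map_one]
  have h1 : Cfsg.Agent.Helper21.FrattiniAut.frattiniQuotHom Q φ = 1 := by
    by_contra hne
    exact hnd (prime_dvd_of_aut hrp (card_quot_frattini_dvd hQ hm) _ a hψ hne)
  have h2 : ∀ x : Q, φ x * x⁻¹ ∈ frattini Q :=
    (Cfsg.Agent.Helper21.FrattiniAut.mem_ker_frattiniQuotHom_iff Q φ).mp (MonoidHom.mem_ker.mpr h1)
  obtain ⟨k, hk⟩ := Cfsg.Agent.Helper21.FrattiniAut.exists_pow_eq_one_of_mem_ker Q hQ φ h2
  have h3 : orderOf φ ∣ Nat.gcd (p ^ k) (r ^ a) :=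
    Nat.dvd_gcd (orderOf_dvd_of_pow_eq_one hk) (orderOf_dvd_of_pow_eq_one hφ)
  have h4 : Nat.Coprime (p ^ k) (r ^ a) :=
    Nat.Coprime.pow _ _ ((Nat.coprime_primes hp.out hr.out).mpr (Ne.symm hrp))
  rw [h4] at h3
  exact orderOf_eq_one_iff.mp (Nat.dvd_one.mp h3)

end Cfsg.Agent.Helper21.MetaNPC
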