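import Mathlib
import Cfsg.Prelude.Def_OddOrderLocal
import Cfsg.Agent.Helper21.MetaNPC
import Cfsg.Agent.Helper21.FrattiniLib
import Cfsg.Agent.Helper11.Q8Aut

set_option autoImplicit false
set_option linter.style.haveILetI false
set_option linter.unusedSectionVars false

/-! # Automorphisms of order three of metacyclic 2-groups -/

namespace Cfsg.Agent.Helper21.MetaAut

open Cfsg
open scoped commutatorElement

/-- Fixed point congruence for an automorphism of `r`-power order. -/
theorem card_modEq_card_eqLocus {V : Type*} [Group V] [Finite V] {r : ℕ} [hr : Fact r.Prime]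
    (ψ : MulAut V) (a : ℕ) (hψ : ψ ^ r ^ a = 1) :
    Nat.card V ≡ Nat.card ↥((ψ.toMonoidHom).eqLocus (MonoidHom.id V)) [MOD r] := by
  have hZ : IsPGroup r ↥(Subgroup.zpowers ψ) := by
    rintro ⟨z, hz⟩
    obtain ⟨k, rfl⟩ := Subgroup.mem_zpowers_iff.mp hz
    refine ⟨a, Subtype.ext ?_⟩
    change (ψ ^ k) ^ r ^ a = 1
    rw [← zpow_natCast, ← zpow_mul, mul_comm, zpow_mul, zpow_natCast, hψ, one_zpow]
  have hmod := hZ.card_modEq_card_fixedPoints V
  have hF : Nat.card ↥(MulAction.fixedPoints ↥(Subgroup.zpowers ψ) V) =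
      Nat.card ↥((ψ.toMonoidHom).eqLocus (MonoidHom.id V)) := by
    apply Nat.card_congr
    apply Equiv.subtypeEquivRight
    intro v
    constructor
    · intro h
      exact h ⟨ψ, Subgroup.mem_zpowers ψ⟩
    · intro h z
      have h1 : Subgroup.zpowers ψ ≤ MulAction.stabilizer (MulAut V) v := by
        rw [Subgroup.zpowers_le]
        exact h
      exact h1 z.2
  rw [hF] at hmod
  exact hmod

/-- An automorphism of order dividing three of a group of order dividing four which fixes a
nonidentity element is trivial. -/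
theorem aut_eq_one_of_fixed {V : Type*} [Group V] [Finite V] (hV : Nat.card V ∣ 4)
    (ψ : MulAut V) (hψ : ψ ^ 3 = 1) (v : V) (hv : v ≠ 1) (hfix : ψ v = v) : ψ = 1 := by
  haveI : Fact (Nat.Prime 3) := ⟨by norm_num⟩
  have hmod := card_modEq_card_eqLocus (r := 3) ψ 1 (by simpa using hψ)
  set F : Subgroup V := (ψ.toMonoidHom).eqLocus (MonoidHom.id V) with hF
  have hvF : v ∈ F := hfix
  have hFne : F ≠ ⊥ := by
    intro h
    rw [h, Subgroup.mem_bot] at hvF
    exact hv hvF
  have hF1 : 1 < Nat.card F := (Subgroup.one_lt_card_iff_ne_bot F).mpr hFne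
  have hFd : Nat.card F ∣ Nat.card V := Subgroup.card_subgroup_dvd_card F
  have h4 : (4 : ℕ) = 2 ^ 2 := by norm_num
  rw [h4] at hV
  obtain ⟨i, hi, hVi⟩ := (Nat.dvd_prime_pow Nat.prime_two).mp hV
  obtain ⟨j, hj, hFj⟩ := (Nat.dvd_prime_pow Nat.prime_two).mp (hFd.trans hV)
  have hFV : Nat.card F = Nat.card V := by
    rw [hVi, hFj] at hmod hFd
    rw [hFj] at hF1
    rw [hVi, hFj]
    interval_cases i <;> interval_cases j <;> simp_all [Nat.ModEq]
  have hFtop : F = ⊤ := (Subgroup.card_eq_iff_eq_top F).mp hFV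
  ext x
  have : x ∈ F := hFtop ▸ Subgroup.mem_top x
  exact this

/-- A coprime (order dividing three) automorphism of an abelian 2-group that fixes all
involutions is trivial. -/
theorem aut_eq_one_of_fix_involutions {A : Type*} [Group A] [Finite A]
    (hc : ∀ x y : A, x * y = y * x) (hA : IsPGroup 2 A) (α : MulAut A) (hα : α ^ 3 = 1)
    (h : ∀ x : A, x ^ 2 = 1 → α x = x) : α = 1 := by
  have h3 : ∀ x : A, α (α (α x)) = x := by
    intro x
    have := DFunLike.congr_fun hα x
    simpa [pow_succ, MulAut.mul_apply] using this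
  have key : ∀ m : ℕ, ∀ x : A, x ^ 2 ^ m = 1 → α x = x := by
    intro m
    induction m with
    | zero => intro x hx; rw [pow_zero, pow_one] at hx; rw [hx, map_one]
    | succ m ih =>
      intro x hx
      have hx2 : (x ^ 2) ^ 2 ^ m = 1 := by rw [← pow_mul, ← pow_succ']; exact hx
      have h1 : α (x ^ 2) = x ^ 2 := ih _ hx2
      set t := α x * x⁻¹ with ht
      have ht2 : t ^ 2 = 1 := by
        rw [ht, Commute.mul_pow (hc _ _), ← map_pow, h1, inv_pow, mul_inv_cancel]
      have hαt : α t = t := h t ht2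
      have hαx : α x = t * x := by rw [ht, inv_mul_cancel_right]
      have h4a : α (α x) = t * (t * x) := by
        rw [hαx, map_mul, hαt, hαx]
      have h4 : α (α (α x)) = t * (t * (t * x)) := by
        rw [h4a, map_mul, hαt, map_mul, hαt, hαx]
      rw [h3 x] at h4
      have h5 : t * t * t = 1 := by
        have : t * t * t * x = x := by
          calc t * t * t * x = t * (t * (t * x)) := by group
            _ = x := h4.symm
        exact mul_eq_right.mp this
      have h6 : t = 1 := by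
        have : t * t = 1 := by rw [← pow_two]; exact ht2
        rw [this, one_mul] at h5
        exact h5
      rw [hαx, h6, one_mul]
  ext x
  obtain ⟨m, hm⟩ := hA x
  exact key m x hm

/-- Restriction of an automorphism to an invariant subgroup. -/
def restrictAut {A : Type*} [Group A] (α : MulAut A) (H : Subgroup A)
    (h : ∀ x, α x ∈ H ↔ x ∈ H) : MulAut H where
  toFun x := ⟨α x, (h x).mpr x.2⟩
  invFun x := ⟨α.symm x, (h (α.symm x)).mp (by rw [MulEquiv.apply_symm_apply]; exact x.2)⟩
  left_inv x := Subtype.ext (by simp)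
  right_inv x := Subtype.ext (by simp)
  map_mul' x y := Subtype.ext (by simp)

theorem restrictAut_apply {A : Type*} [Group A] (α : MulAut A) (H : Subgroup A)
    (h : ∀ x, α x ∈ H ↔ x ∈ H) (x : H) : ((restrictAut α H h x : H) : A) = α x := rfl

theorem restrictAut_pow_three {A : Type*} [Group A] (α : MulAut A) (H : Subgroup A)
    (h : ∀ x, α x ∈ H ↔ x ∈ H) (hα : α ^ 3 = 1) : (restrictAut α H h) ^ 3 = 1 := by
  have h3 : ∀ x : A, α (α (α x)) = x := by
    intro x
    have := DFunLike.congr_fun hα x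
    simpa [pow_succ, MulAut.mul_apply] using this
  ext x
  have : ((restrictAut α H h ^ 3) x : A) = α (α (α x)) := by
    simp [pow_succ, MulAut.mul_apply, restrictAut_apply]
  rw [this, h3]
  rfl

theorem mem_iff_of_characteristic {A : Type*} [Group A] (α : MulAut A) (H : Subgroup A)
    [hH : H.Characteristic] (x : A) : α x ∈ H ↔ x ∈ H := by
  have := hH.fixed α
  conv_rhs => rw [← this]
  rfl

/-- The squaring endomorphism of an abelian group. -/
def sqHom {A : Type*} [Group A] (hc : ∀ x y : A, x * y = y * x) : A →* A where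
  toFun x := x ^ 2
  map_one' := one_pow 2
  map_mul' x y := Commute.mul_pow (hc x y) 2

theorem mem_ker_sqHom {A : Type*} [Group A] (hc : ∀ x y : A, x * y = y * x) (x : A) :
    x ∈ (sqHom hc).ker ↔ x ^ 2 = 1 := MonoidHom.mem_ker

theorem normal_of_comm {A : Type*} [Group A] (hc : ∀ x y : A, x * y = y * x) (S : Subgroup A) :
    S.Normal := ⟨fun n hn g => by rw [hc g n, mul_inv_cancel_right]; exact hn⟩

/-- In an abelian 2-group whose Frattini quotient has order dividing four, there are at most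
four elements of order dividing two. -/
theorem card_ker_sqHom_dvd {A : Type*} [Group A] [Finite A] (hc : ∀ x y : A, x * y = y * x)
    (hq : Nat.card (A ⧸ frattini A) ∣ 4) : Nat.card (sqHom hc).ker ∣ 4 := by
  set S : Subgroup A := (sqHom hc).range with hS
  haveI : S.Normal := normal_of_comm hc S
  have hQc : ∀ a b : A ⧸ S, a * b = b * a := by
    intro a b
    obtain ⟨x, rfl⟩ := QuotientGroup.mk_surjective a
    obtain ⟨y, rfl⟩ := QuotientGroup.mk_surjective b
    rw [← QuotientGroup.mk_mul, ← QuotientGroup.mk_mul, hc]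
  have hQe : ∀ a : A ⧸ S, a ^ 2 = 1 := by
    intro a
    obtain ⟨x, rfl⟩ := QuotientGroup.mk_surjective a
    rw [← QuotientGroup.mk_pow, QuotientGroup.eq_one_iff]
    exact ⟨x, rfl⟩
  have hfr : frattini (A ⧸ S) = ⊥ :=
    Cfsg.Agent.Helper1.frattini_eq_bot_of_elementary Nat.prime_two hQc hQe
  have hle : frattini A ≤ S := by
    have h1 := frattini_le_comap_frattini_of_surjective (φ := QuotientGroup.mk' S)
      (QuotientGroup.mk'_surjective S)
    rw [hfr] at h1
    have h2 : (⊥ : Subgroup (A ⧸ S)).comap (QuotientGroup.mk' S) = S := by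
      ext y
      rw [Subgroup.mem_comap, Subgroup.mem_bot, QuotientGroup.mk'_apply, QuotientGroup.eq_one_iff]
    rw [h2] at h1
    exact h1
  have h1 : S.index ∣ (frattini A).index := Subgroup.index_dvd_of_le hle
  have h2 : (frattini A).index = Nat.card (A ⧸ frattini A) := Subgroup.index_eq_card _
  have h3 : (sqHom hc).ker.index = Nat.card S := Subgroup.index_ker _
  have h4 : Nat.card (sqHom hc).ker * (sqHom hc).ker.index = Nat.card A :=
    Subgroup.card_mul_index _
  have h5 : Nat.card S * S.index = Nat.card A := Subgroup.card_mul_index _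
  have h6 : Nat.card (sqHom hc).ker = S.index := by
    rw [h3] at h4
    have hpos : 0 < Nat.card S := Nat.card_pos
    have : Nat.card S * Nat.card (sqHom hc).ker = Nat.card S * S.index := by
      rw [h5, mul_comm, h4]
    exact Nat.eq_of_mul_eq_mul_left hpos this
  rw [h6]
  exact h1.trans (h2 ▸ hq)

/-- An automorphism of order dividing three of an abelian metacyclic 2-group fixing a
nonidentity element is trivial. -/
theorem aut_eq_one_of_fixed_abelian {A : Type*} [Group A] [Finite A]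
    (hc : ∀ x y : A, x * y = y * x) (hA : IsPGroup 2 A) (hm : Cfsg.IsMetacyclic A)
    (α : MulAut A) (hα : α ^ 3 = 1) (x : A) (hx : x ≠ 1) (hfix : α x = x) : α = 1 := by
  haveI : Fact (Nat.Prime 2) := ⟨Nat.prime_two⟩
  have hq : Nat.card (A ⧸ frattini A) ∣ 4 := by
    have := Cfsg.Agent.Helper21.MetaNPC.card_quot_frattini_dvd hA hm
    simpa using this
  -- a fixed involution
  obtain ⟨m, hm'⟩ := (IsPGroup.iff_orderOf.mp hA) x
  have hm0 : m ≠ 0 := by
    intro h
    rw [h, pow_zero, orderOf_eq_one_iff] at hm'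
    exact hx hm'
  obtain ⟨k, rfl⟩ := Nat.exists_eq_succ_of_ne_zero hm0
  set t := x ^ 2 ^ k with ht
  have ht2 : t ^ 2 = 1 := by
    rw [ht, ← pow_mul, ← pow_succ, ← hm']
    exact pow_orderOf_eq_one x
  have ht1 : t ≠ 1 := by
    intro h
    have := orderOf_dvd_of_pow_eq_one h
    rw [hm'] at this
    have h2 := Nat.le_of_dvd (by positivity) this
    have : 2 ^ k < 2 ^ (k + 1) := Nat.pow_lt_pow_right (by norm_num) (Nat.lt_succ_self k)
    omega
  have htfix : α t = t := by rw [ht, map_pow, hfix]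
  -- restrict to the involutions
  set Ω : Subgroup A := (sqHom hc).ker with hΩ
  have hinv : ∀ y, α y ∈ Ω ↔ y ∈ Ω := by
    intro y
    rw [hΩ, mem_ker_sqHom, mem_ker_sqHom, ← map_pow]
    constructor
    · intro h
      have : α (y ^ 2) = α 1 := by rw [h, map_one]
      exact α.injective this
    · intro h
      rw [h, map_one]
  have htΩ : t ∈ Ω := (mem_ker_sqHom hc t).mpr ht2
  have hψ := aut_eq_one_of_fixed (card_ker_sqHom_dvd hc hq) (restrictAut α Ω hinv)
    (restrictAut_pow_three α Ω hinv hα) ⟨t, htΩ⟩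
    (fun h => ht1 (congrArg Subtype.val h)) (Subtype.ext htfix)
  apply aut_eq_one_of_fix_involutions hc hA α hα
  intro y hy
  have hyΩ : y ∈ Ω := (mem_ker_sqHom hc y).mpr hy
  have := DFunLike.congr_fun hψ ⟨y, hyΩ⟩
  exact congrArg Subtype.val this

theorem isMetacyclic_of_surjective {Q R : Type*} [Group Q] [Group R] (f : Q →* R)
    (hf : Function.Surjective f) (hQ : Cfsg.IsMetacyclic Q) : Cfsg.IsMetacyclic R := by
  obtain ⟨N, hN, hNc, hQc⟩ := hQ
  haveI : (N.map f).Normal := hN.map f hf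
  refine ⟨N.map f, inferInstance, ?_, ?_⟩
  · exact isCyclic_of_surjective (f.subgroupMap N) (f.subgroupMap_surjective N)
  · let g : Q ⧸ N →* R ⧸ N.map f := QuotientGroup.map N (N.map f) f (Subgroup.le_comap_map f N)
    have hg : Function.Surjective g := by
      intro y
      obtain ⟨v, rfl⟩ := QuotientGroup.mk_surjective y
      obtain ⟨x, rfl⟩ := hf v
      exact ⟨(x : Q ⧸ N), rfl⟩
    exact isCyclic_of_surjective g hg

/-- An automorphism of order dividing three of a 2-group acting trivially modulo the Frattini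
subgroup is trivial. -/
theorem aut_eq_one_of_trivial_mod {X : Type*} [Group X] [Finite X] (hX : IsPGroup 2 X)
    (α : MulAut X) (hα : α ^ 3 = 1) (h : ∀ x : X, α x * x⁻¹ ∈ frattini X) : α = 1 := by
  haveI : Fact (Nat.Prime 2) := ⟨Nat.prime_two⟩
  obtain ⟨k, hk⟩ := Cfsg.Agent.Helper21.FrattiniAut.exists_pow_eq_one_of_mem_ker X hX α h
  have h3 : orderOf α ∣ Nat.gcd (2 ^ k) 3 :=
    Nat.dvd_gcd (orderOf_dvd_of_pow_eq_one hk) (orderOf_dvd_of_pow_eq_one hα)
  have h4 : Nat.Coprime (2 ^ k) 3 := Nat.Coprime.pow_left _ (by norm_num)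
  rw [h4] at h3
  exact orderOf_eq_one_iff.mp (Nat.dvd_one.mp h3)

/-- Key case: derived subgroup of order two. -/
theorem index_commutator_eq_four_of_card_two {X : Type*} [Group X] [Finite X]
    (hX : IsPGroup 2 X) (hm : Cfsg.IsMetacyclic X) (hW : Nat.card (commutator X) = 2)
    (α : MulAut X) (hα : α ^ 3 = 1) (hα1 : α ≠ 1) : (commutator X).index = 4 := by
  haveI : Fact (Nat.Prime 2) := ⟨Nat.prime_two⟩
  set W := commutator X with hWdef
  haveI hWchar : W.Characteristic := by rw [hWdef, commutator_def]; infer_instance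
  haveI hWn : W.Normal := inferInstance
  -- the unique nonidentity element
  obtain ⟨⟨w₀, hw₀W⟩, hw₀1, hw₀u⟩ := (Nat.card_eq_two_iff' (1 : W)).mp hW
  have hw₀1' : w₀ ≠ 1 := fun h => hw₀1 (Subtype.ext h)
  have huniq : ∀ w ∈ W, w ≠ 1 → w = w₀ := by
    intro w hw hw1
    have := hw₀u ⟨w, hw⟩ (fun h => hw1 (congrArg Subtype.val h))
    exact congrArg Subtype.val this
  -- W is central
  have hWZ : W ≤ Subgroup.center X := by
    intro w hw
    rw [Subgroup.mem_center_iff]
    intro g
    by_cases hw1 : w = 1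
    · rw [hw1, mul_one, one_mul]
    · have h1 : g * w * g⁻¹ ∈ W := hWn.conj_mem w hw g
      have h2 : g * w * g⁻¹ ≠ 1 := by
        intro h
        apply hw1
        have : w = g⁻¹ * (g * w * g⁻¹) * g := by group
        rw [this, h]; group
      have h3 := huniq _ h1 h2
      have h4 := huniq w hw hw1
      rw [← h4] at h3
      calc g * w = g * w * g⁻¹ * g := by group
        _ = w * g := by rw [h3]
  have hsq : ∀ w ∈ W, w * w = 1 := by
    intro w hw
    by_cases hw1 : w = 1
    · rw [hw1, one_mul]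
    · by_contra hne
      have h3 := huniq _ (W.mul_mem hw hw) hne
      have h4 := huniq w hw hw1
      rw [← h4] at h3
      exact hw1 (mul_eq_right.mp h3)
  -- α fixes w₀
  have hαw₀ : α w₀ = w₀ := by
    apply huniq
    · exact (mem_iff_of_characteristic α W w₀).mpr hw₀W
    · intro h
      apply hw₀1'
      have : α w₀ = α 1 := by rw [h, map_one]
      exact α.injective this
  -- α is trivial on the centre
  have hZfix : ∀ z ∈ Subgroup.center X, α z = z := by
    set Z := Subgroup.center X with hZ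
    have hZinv := mem_iff_of_characteristic α Z
    have hcZ : ∀ a b : Z, a * b = b * a := by
      intro a b
      exact Subtype.ext (show (a : X) * b = b * a from (Subgroup.mem_center_iff.mp a.2 b).symm)
    have hZm : Cfsg.IsMetacyclic Z :=
      Cfsg.Agent.Helper21.MetaNPC.isMetacyclic_of_injective Z.subtype Subtype.coe_injective hm
    have h1 := aut_eq_one_of_fixed_abelian hcZ (hX.to_subgroup Z) hZm (restrictAut α Z hZinv)
      (restrictAut_pow_three α Z hZinv hα) ⟨w₀, hWZ hw₀W⟩
      (fun h => hw₀1' (congrArg Subtype.val h)) (Subtype.ext hαw₀)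
    intro z hz
    have := DFunLike.congr_fun h1 ⟨z, hz⟩
    exact congrArg Subtype.val this
  -- squares are central
  have hsqZ : ∀ x : X, x ^ 2 ∈ Subgroup.center X := by
    intro x
    rw [Subgroup.mem_center_iff]
    intro g
    set c := ⁅x, g⁆ with hc
    have hcW : c ∈ W := Subgroup.commutator_mem_commutator (Subgroup.mem_top x) (Subgroup.mem_top g)
    have hcZ : ∀ y, y * c = c * y := Subgroup.mem_center_iff.mp (hWZ hcW)
    have hcc : c * c = 1 := hsq c hcW
    have e1 : x * g = c * g * x := by rw [hc, commutatorElement_def]; group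
    calc g * x ^ 2 = (c * c) * g * x * x := by rw [hcc, one_mul, pow_two, mul_assoc]
      _ = c * (c * g * x) * x := by group
      _ = c * (x * g) * x := by rw [e1]
      _ = (x * c) * g * x := by rw [hcZ x]; group
      _ = x * (c * g * x) := by group
      _ = x * (x * g) := by rw [e1]
      _ = x ^ 2 * g := by rw [pow_two, mul_assoc]
  have hαsq : ∀ x : X, α (x ^ 2) = x ^ 2 := fun x => hZfix _ (hsqZ x)
  -- the quotient by W
  have hWfr : W ≤ frattini X := Cfsg.Agent.Helper1.IsPGroup.commutator_le_frattini hX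
  set β : MulAut (X ⧸ W) := Cfsg.Agent.Helper11.Q8Aut.quotAutHom W α with hβ
  have hβ3 : β ^ 3 = 1 := by rw [hβ, ← map_pow, hα, map_one]
  have hβ1 : β ≠ 1 := by
    intro h
    apply hα1
    apply aut_eq_one_of_trivial_mod hX α hα
    intro x
    apply hWfr
    have h1 : β (x : X ⧸ W) = (x : X ⧸ W) := by rw [h]; rfl
    rw [hβ, Cfsg.Agent.Helper11.Q8Aut.quotAutHom_apply, QuotientGroup.eq] at h1
    have h2 : α x * x⁻¹ = α x * ((α x)⁻¹ * x)⁻¹ * (α x)⁻¹ := by group
    rw [h2]
    exact hWn.conj_mem _ (W.inv_mem h1) _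
  have hcQ : ∀ a b : X ⧸ W, a * b = b * a := by
    intro a b
    obtain ⟨x, rfl⟩ := QuotientGroup.mk_surjective a
    obtain ⟨y, rfl⟩ := QuotientGroup.mk_surjective b
    rw [← QuotientGroup.mk_mul, ← QuotientGroup.mk_mul, QuotientGroup.eq]
    have : (x * y)⁻¹ * (y * x) = ⁅y⁻¹, x⁻¹⁆ := by rw [commutatorElement_def]; group
    rw [this]
    exact Subgroup.commutator_mem_commutator (Subgroup.mem_top _) (Subgroup.mem_top _)
  have hQ2 : IsPGroup 2 (X ⧸ W) := hX.to_quotient W
  have hQm : Cfsg.IsMetacyclic (X ⧸ W) :=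
    isMetacyclic_of_surjective (QuotientGroup.mk' W) (QuotientGroup.mk'_surjective W) hm
  have hfpf : ∀ q : X ⧸ W, β q = q → q = 1 := by
    intro q hq
    by_contra hq1
    exact hβ1 (aut_eq_one_of_fixed_abelian hcQ hQ2 hQm β hβ3 q hq1 hq)
  -- the map q ↦ β q * q⁻¹ is a bijective endomorphism with image of exponent two
  let δ : X ⧸ W →* X ⧸ W :=
    { toFun := fun q => β q * q⁻¹
      map_one' := by simp
      map_mul' := fun a b => by
        rw [map_mul, mul_inv_rev]
        calc β a * β b * (b⁻¹ * a⁻¹) = β a * (β b * b⁻¹) * a⁻¹ := by group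
          _ = β a * (a⁻¹ * (β b * b⁻¹)) := by rw [mul_assoc, hcQ (β b * b⁻¹) a⁻¹]
          _ = β a * a⁻¹ * (β b * b⁻¹) := by group }
  have hδinj : Function.Injective δ := by
    rw [injective_iff_map_eq_one]
    intro q hq
    apply hfpf
    have : β q * q⁻¹ = 1 := hq
    exact mul_inv_eq_one.mp this
  have hδsurj : Function.Surjective δ := Finite.injective_iff_surjective.mp hδinj
  have hQe : ∀ q : X ⧸ W, q ^ 2 = 1 := by
    intro q
    obtain ⟨q', rfl⟩ := hδsurj q
    obtain ⟨x, rfl⟩ := QuotientGroup.mk_surjective q'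
    show (β (x : X ⧸ W) * (x : X ⧸ W)⁻¹) ^ 2 = 1
    rw [Commute.mul_pow (hcQ _ _), ← map_pow, inv_pow]
    have h3 : β ((x : X ⧸ W) ^ 2) = (x : X ⧸ W) ^ 2 := by
      rw [← QuotientGroup.mk_pow, hβ, Cfsg.Agent.Helper11.Q8Aut.quotAutHom_apply, hαsq]
    rw [h3, mul_inv_cancel]
  have hQfr : frattini (X ⧸ W) = ⊥ :=
    Cfsg.Agent.Helper1.frattini_eq_bot_of_elementary Nat.prime_two hcQ hQe
  have hQcard : Nat.card (X ⧸ W) ∣ 4 := by
    have h1 := Cfsg.Agent.Helper21.MetaNPC.card_quot_frattini_dvd hQ2 hQm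
    have h2 : Nat.card ((X ⧸ W) ⧸ frattini (X ⧸ W)) = Nat.card (X ⧸ W) := by
      rw [← Subgroup.index_eq_card, hQfr, Subgroup.index_bot]
    rw [h2] at h1
    simpa using h1
  have hidx : W.index ∣ 4 := by rw [Subgroup.index_eq_card]; exact hQcard
  -- the index is not 1 or 2
  have hnot : ¬ W.index ∣ 2 := by
    intro h2
    have hcyc : IsCyclic (X ⧸ W) := by
      rw [Subgroup.index_eq_card] at h2
      rcases (Nat.dvd_prime Nat.prime_two).mp h2 with h | h
      · haveI : Subsingleton (X ⧸ W) := (Nat.card_eq_one_iff_unique.mp h).1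
        exact isCyclic_of_subsingleton
      · haveI : Fact (Nat.Prime 2) := ⟨Nat.prime_two⟩
        exact isCyclic_of_prime_card h
    have hab : ∀ a b : X, a * b = b * a :=
      commutative_of_cyclic_center_quotient (QuotientGroup.mk' W)
        (by rw [QuotientGroup.ker_mk']; exact hWZ)
    have hbot : W = ⊥ := by
      rw [eq_bot_iff, hWdef, commutator_def, Subgroup.commutator_le]
      intro g₁ _ g₂ _
      rw [Subgroup.mem_bot, commutatorElement_eq_one_iff_mul_comm]
      exact hab g₁ g₂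
    rw [hbot] at hW
    simp at hW
  have h4 : (4 : ℕ) = 2 ^ 2 := by norm_num
  rw [h4] at hidx
  obtain ⟨i, hi, hWi⟩ := (Nat.dvd_prime_pow Nat.prime_two).mp hidx
  interval_cases i
  · exact absurd (by rw [hWi]; norm_num) hnot
  · exact absurd (by rw [hWi]; norm_num) hnot
  · rw [hWi]; norm_num

/-- The derived subgroup of a metacyclic group is cyclic. -/
theorem isCyclic_commutator_of_isMetacyclic {X : Type*} [Group X] (hm : Cfsg.IsMetacyclic X) :
    IsCyclic (commutator X) := by
  obtain ⟨N, hN, hNc, hQc⟩ := hm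
  have hle : commutator X ≤ N := by
    rw [commutator_def, Subgroup.commutator_le]
    intro g _ h _
    rw [← QuotientGroup.eq_one_iff]
    have : ((⁅g, h⁆ : X) : X ⧸ N) = ⁅(g : X ⧸ N), (h : X ⧸ N)⁆ :=
      map_commutatorElement (QuotientGroup.mk' N) g h
    rw [this, commutatorElement_eq_one_iff_mul_comm]
    obtain ⟨z, hz⟩ := hQc.exists_generator
    obtain ⟨i, hi⟩ := Subgroup.mem_zpowers_iff.mp (hz g)
    obtain ⟨j, hj⟩ := Subgroup.mem_zpowers_iff.mp (hz h)
    rw [← hi, ← hj, ← zpow_add, ← zpow_add, add_comm]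
  exact Subgroup.isCyclic_of_le hle

/-- A nonabelian metacyclic 2-group with an automorphism of order three has derived subgroup of
index four. -/
theorem index_commutator_eq_four {X : Type*} [Group X] [Finite X]
    (hX : IsPGroup 2 X) (hm : Cfsg.IsMetacyclic X) (hna : commutator X ≠ ⊥)
    (α : MulAut X) (hα : α ^ 3 = 1) (hα1 : α ≠ 1) : (commutator X).index = 4 := by
  set W := commutator X with hWdef
  haveI hWchar : W.Characteristic := by rw [hWdef, commutator_def]; infer_instance
  haveI hWn : W.Normal := inferInstance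
  haveI hWc : IsCyclic W := isCyclic_commutator_of_isMetacyclic hm
  obtain ⟨⟨c, hcW⟩, hgen⟩ := hWc.exists_generator
  have hWc' : ∀ w ∈ W, w ∈ Subgroup.zpowers c := by
    intro w hw
    obtain ⟨i, hi⟩ := Subgroup.mem_zpowers_iff.mp (hgen ⟨w, hw⟩)
    exact Subgroup.mem_zpowers_iff.mpr ⟨i, by simpa using congrArg Subtype.val hi⟩
  have hWeq : W = Subgroup.zpowers c := le_antisymm hWc' ((Subgroup.zpowers_le).mpr hcW)
  have hc1 : c ≠ 1 := by
    intro h
    apply hna
    rw [hWeq, h, Subgroup.zpowers_one_eq_bot]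
  obtain ⟨k, hk⟩ := (IsPGroup.iff_orderOf.mp hX) c
  have hk0 : k ≠ 0 := by
    intro h
    rw [h, pow_zero, orderOf_eq_one_iff] at hk
    exact hc1 hk
  obtain ⟨k', rfl⟩ := Nat.exists_eq_succ_of_ne_zero hk0
  set W₂ := Subgroup.zpowers (c ^ 2) with hW₂
  have hW₂W : W₂ ≤ W := by rw [hW₂, Subgroup.zpowers_le]; exact W.pow_mem hcW 2
  have hpow : ∀ y ∈ W, y ^ 2 ∈ W₂ := by
    intro y hy
    obtain ⟨i, rfl⟩ := Subgroup.mem_zpowers_iff.mp (hWc' y hy)
    rw [hW₂, Subgroup.mem_zpowers_iff]
    exact ⟨i, by rw [← zpow_natCast, ← zpow_natCast, ← zpow_mul, ← zpow_mul, mul_comm]⟩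
  haveI hW₂n : W₂.Normal := by
    constructor
    intro n hn g
    obtain ⟨i, rfl⟩ := Subgroup.mem_zpowers_iff.mp hn
    have h1 : g * (c ^ 2) ^ i * g⁻¹ = ((g * c * g⁻¹) ^ 2) ^ i := by
      rw [conj_pow, conj_zpow]
    rw [h1]
    exact W₂.zpow_mem (hpow _ (hWn.conj_mem c hcW g)) i
  have hW₂α : W₂.map α.toMonoidHom = W₂ := by
    apply Subgroup.eq_of_le_of_card_ge
    · rw [hW₂, MonoidHom.map_zpowers, Subgroup.zpowers_le]
      show α (c ^ 2) ∈ _
      rw [map_pow]
      exact hpow _ ((mem_iff_of_characteristic α W c).mpr hcW)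
    · rw [Subgroup.card_map_of_injective α.injective]
  -- the quotient
  have hπs : Function.Surjective (QuotientGroup.mk' W₂) := QuotientGroup.mk'_surjective W₂
  set β : MulAut (X ⧸ W₂) := QuotientGroup.congr W₂ W₂ α hW₂α with hβ
  have hβapp : ∀ x : X, β (x : X ⧸ W₂) = ((α x : X) : X ⧸ W₂) := fun x => rfl
  have h3 : ∀ x : X, α (α (α x)) = x := by
    intro x
    have := DFunLike.congr_fun hα x
    simpa [pow_succ, MulAut.mul_apply] using this
  have hβ3 : β ^ 3 = 1 := by
    ext q
    obtain ⟨x, rfl⟩ := QuotientGroup.mk_surjective q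
    have : (β ^ 3) (x : X ⧸ W₂) = β (β (β (x : X ⧸ W₂))) := by
      simp [pow_succ, MulAut.mul_apply]
    rw [this, hβapp, hβapp, hβapp, h3]
    rfl
  have hWfr : W ≤ frattini X := Cfsg.Agent.Helper1.IsPGroup.commutator_le_frattini hX
  have hβ1 : β ≠ 1 := by
    intro h
    apply hα1
    apply aut_eq_one_of_trivial_mod hX α hα
    intro x
    apply hWfr
    apply hW₂W
    have h1 : β (x : X ⧸ W₂) = (x : X ⧸ W₂) := by rw [h]; rfl
    rw [hβapp, QuotientGroup.eq] at h1
    have h2 : α x * x⁻¹ = α x * ((α x)⁻¹ * x)⁻¹ * (α x)⁻¹ := by group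
    rw [h2]
    exact hW₂n.conj_mem _ (W₂.inv_mem h1) _
  have hcomm : commutator (X ⧸ W₂) = W.map (QuotientGroup.mk' W₂) := by
    rw [commutator_def, hWdef, commutator_def, Subgroup.map_commutator,
      Subgroup.map_top_of_surjective _ hπs]
  have hidx : (W.map (QuotientGroup.mk' W₂)).index = W.index :=
    Subgroup.index_map_eq W hπs (by rw [QuotientGroup.ker_mk']; exact hW₂W)
  have hcard : Nat.card (commutator (X ⧸ W₂)) = 2 := by
    rw [hcomm]
    have e1 : Nat.card (W.map (QuotientGroup.mk' W₂)) * (W.map (QuotientGroup.mk' W₂)).index =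
        Nat.card (X ⧸ W₂) := Subgroup.card_mul_index _
    have e2 : Nat.card X = Nat.card (X ⧸ W₂) * Nat.card W₂ :=
      Subgroup.card_eq_card_quotient_mul_card_subgroup W₂
    have e3 : Nat.card W * W.index = Nat.card X := Subgroup.card_mul_index _
    have e4 : Nat.card W = 2 * Nat.card W₂ := by
      rw [hWeq, hW₂, Nat.card_zpowers, Nat.card_zpowers, orderOf_pow' c (by norm_num), hk]
      have : Nat.gcd (2 ^ (k' + 1)) 2 = 2 := by
        rw [pow_succ]; exact Nat.gcd_eq_right (Dvd.intro_left _ rfl)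
      rw [this, pow_succ, Nat.mul_div_cancel _ (by norm_num : 0 < 2), mul_comm]
    rw [hidx] at e1
    have hpos1 : 0 < W.index := Nat.pos_of_ne_zero (Subgroup.index_ne_zero_of_finite)
    have hpos2 : 0 < Nat.card W₂ := Nat.card_pos
    have : Nat.card (W.map (QuotientGroup.mk' W₂)) * (W.index * Nat.card W₂) =
        2 * (W.index * Nat.card W₂) := by
      calc Nat.card (W.map (QuotientGroup.mk' W₂)) * (W.index * Nat.card W₂)
          = Nat.card (W.map (QuotientGroup.mk' W₂)) * W.index * Nat.card W₂ := by ring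
        _ = Nat.card X := by rw [e1, ← e2]
        _ = Nat.card W * W.index := e3.symm
        _ = 2 * (W.index * Nat.card W₂) := by rw [e4]; ring
    exact Nat.eq_of_mul_eq_mul_right (Nat.mul_pos hpos1 hpos2) this
  have hmain := index_commutator_eq_four_of_card_two (hX.to_quotient W₂)
    (isMetacyclic_of_surjective (QuotientGroup.mk' W₂) hπs hm) hcard β hβ3 hβ1
  rw [hcomm, hidx] at hmain
  exact hmain

universe u

/-- An abelian group of exponent dividing `2 ^ n` with at most four elements of order dividing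
two has order at most `4 ^ n`. -/
theorem card_le_of_exponent : ∀ (n : ℕ) (Y : Type u) [Group Y] [Finite Y]
    (hc : ∀ x y : Y, x * y = y * x), (∀ y : Y, y ^ 2 ^ n = 1) → Nat.card (sqHom hc).ker ≤ 4 →
    Nat.card Y ≤ 4 ^ n := by
  intro n
  induction n with
  | zero =>
    intro Y _ _ hc hexp _
    have : ∀ y : Y, y = 1 := fun y => by simpa using hexp y
    haveI : Subsingleton Y := ⟨fun a b => by rw [this a, this b]⟩
    rw [pow_zero]
    exact Finite.card_le_one_iff_subsingleton.mpr inferInstance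
  | succ n ih =>
    intro Y _ _ hc hexp hker
    set S : Subgroup Y := (sqHom hc).range with hS
    have hcS : ∀ a b : S, a * b = b * a := fun a b => Subtype.ext (hc a b)
    have hexpS : ∀ s : S, s ^ 2 ^ n = 1 := by
      rintro ⟨s, y, rfl⟩
      apply Subtype.ext
      show ((sqHom hc) y) ^ 2 ^ n = 1
      show (y ^ 2) ^ 2 ^ n = 1
      rw [← pow_mul, ← pow_succ']
      exact hexp y
    have hkerS : Nat.card (sqHom hcS).ker ≤ 4 := by
      refine le_trans ?_ hker
      let g : (sqHom hcS).ker → (sqHom hc).ker := fun s => ⟨(s : S), by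
        rw [mem_ker_sqHom]
        have h1 := (mem_ker_sqHom hcS (s : S)).mp s.2
        have := congrArg Subtype.val h1
        simpa using this⟩
      have hg : Function.Injective g := by
        intro s t hst
        have h1 : ((s : S) : Y) = ((t : S) : Y) :=
          congrArg (fun z : (sqHom hc).ker => (z : Y)) hst
        exact Subtype.ext (Subtype.ext h1)
      exact Nat.card_le_card_of_injective g hg
    have hSle := ih S hcS hexpS hkerS
    have h1 : (sqHom hc).ker.index = Nat.card S := Subgroup.index_ker _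
    have h2 : Nat.card (sqHom hc).ker * (sqHom hc).ker.index = Nat.card Y :=
      Subgroup.card_mul_index _
    rw [h1] at h2
    rw [← h2, pow_succ, mul_comm (4 ^ n)]
    exact Nat.mul_le_mul hker hSle

/-- The unique involution in a cyclic 2-group. -/
theorem eq_pow_of_mem_zpowers_of_sq {A : Type*} [Group A] (x y : A) (m : ℕ)
    (hx : orderOf x = 2 ^ (m + 1)) (hy : y ∈ Subgroup.zpowers x) (hy2 : y ^ 2 = 1) (hy1 : y ≠ 1) :
    y = x ^ 2 ^ m := by
  obtain ⟨i, rfl⟩ := Subgroup.mem_zpowers_iff.mp hy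
  have h1 : x ^ (i * 2) = 1 := by rw [zpow_mul, zpow_ofNat]; exact hy2
  have h2 : ((orderOf x : ℕ) : ℤ) ∣ i * 2 := orderOf_dvd_iff_zpow_eq_one.mpr h1
  rw [hx] at h2
  have h3 : ((2 ^ m : ℕ) : ℤ) ∣ i := by
    have : ((2 ^ (m + 1) : ℕ) : ℤ) = ((2 ^ m : ℕ) : ℤ) * 2 := by push_cast; ring
    rw [this] at h2
    exact (mul_dvd_mul_iff_right (by norm_num : (2 : ℤ) ≠ 0)).mp h2
  obtain ⟨l, rfl⟩ := h3
  set u := x ^ 2 ^ m with hu
  have hu2 : u ^ 2 = 1 := by
    rw [hu, ← pow_mul, ← pow_succ, ← hx]; exact pow_orderOf_eq_one x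
  have h4 : x ^ (((2 ^ m : ℕ) : ℤ) * l) = u ^ l := by
    rw [zpow_mul, zpow_natCast]
  rw [h4] at hy1 ⊢
  rcases Int.even_or_odd' l with ⟨l', rfl | rfl⟩
  · exfalso
    apply hy1
    rw [zpow_mul, zpow_ofNat, hu2, one_zpow]
  · rw [zpow_add, zpow_mul, zpow_ofNat, hu2, one_zpow, one_mul, zpow_one]

/-- Abelian case: the group is homocyclic of rank two. -/
theorem exists_mulEquiv_of_abelian {A : Type u} [Group A] [Finite A]
    (hc : ∀ x y : A, x * y = y * x) (hA : IsPGroup 2 A) (hm : Cfsg.IsMetacyclic A)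
    (α : MulAut A) (hα : α ^ 3 = 1) (hα1 : α ≠ 1) :
    ∃ n : ℕ, Nonempty (A ≃* Multiplicative (ZMod (2 ^ n)) × Multiplicative (ZMod (2 ^ n))) := by
  haveI : Fact (Nat.Prime 2) := ⟨Nat.prime_two⟩
  have hfpf : ∀ x : A, α x = x → x = 1 := by
    intro x hx
    by_contra hx1
    exact hα1 (aut_eq_one_of_fixed_abelian hc hA hm α hα x hx1 hx)
  obtain ⟨a, ha⟩ := Finite.exists_max (fun x : A => orderOf x)
  obtain ⟨n, hn⟩ := (IsPGroup.iff_orderOf.mp hA) a
  have hexp : ∀ x : A, x ^ 2 ^ n = 1 := by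
    intro x
    obtain ⟨j, hj⟩ := (IsPGroup.iff_orderOf.mp hA) x
    have h1 := ha x
    rw [hj, hn] at h1
    have h2 : j ≤ n := (Nat.pow_le_pow_iff_right (by norm_num)).mp h1
    apply orderOf_dvd_iff_pow_eq_one.mp
    rw [hj]
    exact pow_dvd_pow 2 h2
  have hn0 : n ≠ 0 := by
    intro h
    apply hα1
    ext x
    have h1 := hexp x
    rw [h, pow_zero, pow_one] at h1
    rw [h1, map_one, MulAut.one_apply]
  obtain ⟨m, rfl⟩ := Nat.exists_eq_succ_of_ne_zero hn0
  set b := α a with hb
  have hbo : orderOf b = 2 ^ (m + 1) := by rw [hb, MulEquiv.orderOf_eq, hn]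
  have hdisj : Subgroup.zpowers a ⊓ Subgroup.zpowers b = ⊥ := by
    rw [eq_bot_iff]
    intro g hg
    rw [Subgroup.mem_bot]
    by_contra hg1
    obtain ⟨hga, hgb⟩ := Subgroup.mem_inf.mp hg
    obtain ⟨j, hj⟩ := (IsPGroup.iff_orderOf.mp hA) g
    have hj0 : j ≠ 0 := by
      intro h
      rw [h, pow_zero, orderOf_eq_one_iff] at hj
      exact hg1 hj
    obtain ⟨j', rfl⟩ := Nat.exists_eq_succ_of_ne_zero hj0
    set g' := g ^ 2 ^ j' with hg'
    have hg'2 : g' ^ 2 = 1 := by
      rw [hg', ← pow_mul, ← pow_succ, ← hj]; exact pow_orderOf_eq_one g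
    have hg'1 : g' ≠ 1 := by
      intro h
      have := orderOf_dvd_of_pow_eq_one h
      rw [hj] at this
      have h2 := Nat.le_of_dvd (by positivity) this
      have : 2 ^ j' < 2 ^ (j' + 1) := Nat.pow_lt_pow_right (by norm_num) (Nat.lt_succ_self j')
      omega
    have h1 := eq_pow_of_mem_zpowers_of_sq a g' m hn (Subgroup.pow_mem _ hga _) hg'2 hg'1
    have h2 := eq_pow_of_mem_zpowers_of_sq b g' m hbo (Subgroup.pow_mem _ hgb _) hg'2 hg'1
    have h3 : α (a ^ 2 ^ m) = a ^ 2 ^ m := by rw [map_pow, ← hb, ← h2, h1]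
    have h4 := hfpf _ h3
    rw [← h1] at h4
    exact hg'1 h4
  have hcard : Nat.card A ≤ 4 ^ (m + 1) := by
    apply card_le_of_exponent (m + 1) A hc hexp
    have hq : Nat.card (A ⧸ frattini A) ∣ 4 := by
      have := Cfsg.Agent.Helper21.MetaNPC.card_quot_frattini_dvd hA hm
      simpa using this
    exact Nat.le_of_dvd (by norm_num) (card_ker_sqHom_dvd hc hq)
  let f : ↥(Subgroup.zpowers a) × ↥(Subgroup.zpowers b) →* A :=
    { toFun := fun p => (p.1 : A) * (p.2 : A)
      map_one' := by simp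
      map_mul' := fun p q => by
        show ((p.1 * q.1 : ↥(Subgroup.zpowers a)) : A) * ((p.2 * q.2 : ↥(Subgroup.zpowers b)) : A) = _
        rw [Subgroup.coe_mul, Subgroup.coe_mul]
        calc (p.1 : A) * q.1 * (p.2 * q.2) = (p.1 : A) * (q.1 * p.2) * q.2 := by group
          _ = (p.1 : A) * (p.2 * q.1) * q.2 := by rw [hc (q.1 : A) p.2]
          _ = (p.1 : A) * p.2 * (q.1 * q.2) := by group }
  have hfinj : Function.Injective f := by
    rw [injective_iff_map_eq_one]
    rintro ⟨⟨h, hh⟩, ⟨k, hk⟩⟩ hhk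
    have h1 : h * k = 1 := hhk
    have h2 : h = k⁻¹ := eq_inv_of_mul_eq_one_left h1
    have h3 : h ∈ Subgroup.zpowers a ⊓ Subgroup.zpowers b :=
      Subgroup.mem_inf.mpr ⟨hh, h2 ▸ Subgroup.inv_mem _ hk⟩
    rw [hdisj, Subgroup.mem_bot] at h3
    have h4 : k = 1 := by rw [h3] at h2; exact inv_eq_one.mp h2.symm
    simp only [Prod.mk_eq_one]
    exact ⟨Subtype.ext h3, Subtype.ext h4⟩
  have hca : Nat.card ↥(Subgroup.zpowers a) = 2 ^ (m + 1) := by rw [Nat.card_zpowers, hn]
  have hcb : Nat.card ↥(Subgroup.zpowers b) = 2 ^ (m + 1) := by rw [Nat.card_zpowers, hbo]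
  have hfbij : Function.Bijective f := by
    apply Function.Injective.bijective_of_nat_card_le hfinj
    rw [Nat.card_prod, hca, hcb]
    have : (4 : ℕ) ^ (m + 1) = 2 ^ (m + 1) * 2 ^ (m + 1) := by
      rw [← mul_pow]; norm_num
    rw [← this]
    exact hcard
  have hcz : Nat.card (Multiplicative (ZMod (2 ^ (m + 1)))) = 2 ^ (m + 1) :=
    (Nat.card_congr Multiplicative.toAdd).trans (Nat.card_zmod _)
  have e1 : ↥(Subgroup.zpowers a) ≃* Multiplicative (ZMod (2 ^ (m + 1))) :=
    mulEquivOfCyclicCardEq (hca.trans hcz.symm)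
  have e2 : ↥(Subgroup.zpowers b) ≃* Multiplicative (ZMod (2 ^ (m + 1))) :=
    mulEquivOfCyclicCardEq (hcb.trans hcz.symm)
  exact ⟨m + 1, ⟨(MulEquiv.ofBijective f hfbij).symm.trans (MulEquiv.prodCongr e1 e2)⟩⟩

end Cfsg.Agent.Helper21.MetaAut
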