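import Mathlib
import Cfsg.Prelude.Def_OddOrderLocal
import Cfsg.Agent.Helper19.Class2
import Cfsg.Agent.Helper21.MetaAut

/-!
# Coprime action on metacyclic `p`-groups, `p` odd: general lemmas

Class-two commutator calculus, the `p`-th power endomorphism, a trace lemma for an action by
automorphisms, and the fact that `[R, A] = R` forces a metacyclic group to have class at most two.
-/

set_option autoImplicit false
set_option linter.style.haveILetI false

namespace Cfsg.Agent.Helper21.MetaCop

open Subgroup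
open scoped commutatorElement

universe u v

section ClassTwo

variable {R : Type*} [Group R]

theorem comm_mem_commutator (x y : R) : ⁅x, y⁆ ∈ commutator R := by
  rw [commutator_def]
  exact commutator_mem_commutator (mem_top x) (mem_top y)

theorem comm_mem_center (hcl : commutator R ≤ center R) (x y : R) : ⁅x, y⁆ ∈ center R :=
  hcl (comm_mem_commutator x y)

theorem conj_of_mem_center {z : R} (hz : z ∈ center R) (g : R) : g * z * g⁻¹ = z := by
  rw [mem_center_iff.mp hz g, mul_inv_cancel_right]

theorem comm_mul_left (hcl : commutator R ≤ center R) (a b c : R) :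
    ⁅a * b, c⁆ = ⁅a, c⁆ * ⁅b, c⁆ := by
  have h1 : ⁅a * b, c⁆ = a * ⁅b, c⁆ * a⁻¹ * ⁅a, c⁆ := by
    simp only [commutatorElement_def]; group
  rw [h1, conj_of_mem_center (comm_mem_center hcl b c) a]
  exact (mem_center_iff.mp (comm_mem_center hcl b c) _).symm

theorem comm_mul_right (hcl : commutator R ≤ center R) (a b c : R) :
    ⁅a, b * c⁆ = ⁅a, b⁆ * ⁅a, c⁆ := by
  have h1 : ⁅a, b * c⁆ = ⁅a, b⁆ * (b * ⁅a, c⁆ * b⁻¹) := by
    simp only [commutatorElement_def]; group
  rw [h1, conj_of_mem_center (comm_mem_center hcl a c) b]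

theorem comm_one_left (c : R) : ⁅(1 : R), c⁆ = 1 := by
  simp [commutatorElement_def]

theorem comm_one_right (c : R) : ⁅c, (1 : R)⁆ = 1 := by
  simp [commutatorElement_def]

theorem comm_inv_left (hcl : commutator R ≤ center R) (a c : R) : ⁅a⁻¹, c⁆ = ⁅a, c⁆⁻¹ := by
  have h := comm_mul_left hcl a⁻¹ a c
  rw [inv_mul_cancel, comm_one_left] at h
  exact eq_inv_of_mul_eq_one_left h.symm

theorem comm_inv_right (hcl : commutator R ≤ center R) (a c : R) : ⁅a, c⁻¹⁆ = ⁅a, c⁆⁻¹ := by
  have h := comm_mul_right hcl a c⁻¹ c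
  rw [inv_mul_cancel, comm_one_right] at h
  exact eq_inv_of_mul_eq_one_left h.symm

theorem comm_pow_left (hcl : commutator R ≤ center R) (a c : R) (n : ℕ) :
    ⁅a ^ n, c⁆ = ⁅a, c⁆ ^ n := by
  induction n with
  | zero => simp
  | succ n ih => rw [pow_succ, comm_mul_left hcl, ih, pow_succ]

theorem comm_pow_right (hcl : commutator R ≤ center R) (a c : R) (n : ℕ) :
    ⁅a, c ^ n⁆ = ⁅a, c⁆ ^ n := by
  induction n with
  | zero => simp
  | succ n ih => rw [pow_succ, comm_mul_right hcl, ih, pow_succ]

theorem comm_eq_one_of_mem_center_left {z : R} (hz : z ∈ center R) (c : R) : ⁅z, c⁆ = 1 := by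
  rw [commutatorElement_eq_one_iff_mul_comm]
  exact (mem_center_iff.mp hz c).symm

theorem comm_eq_one_of_mem_center_right {z : R} (hz : z ∈ center R) (c : R) : ⁅c, z⁆ = 1 := by
  rw [commutatorElement_eq_one_iff_mul_comm]
  exact mem_center_iff.mp hz c

/-- every element of the derived subgroup has `p`-th power one, if all commutators do and the
derived subgroup is central. -/
theorem pow_eq_one_of_mem_commutator (hcl : commutator R ≤ center R) {p : ℕ}
    (hexp : ∀ x y : R, ⁅x, y⁆ ^ p = 1) : ∀ v ∈ commutator R, v ^ p = 1 := by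
  intro v hv
  have key : ∀ v ∈ commutator R, v ∈ center R ∧ v ^ p = 1 := by
    intro v hv
    rw [commutator_def, Subgroup.commutator_def] at hv
    induction hv using Subgroup.closure_induction with
    | mem g hg =>
      obtain ⟨x, -, y, -, rfl⟩ := hg
      exact ⟨comm_mem_center hcl x y, hexp x y⟩
    | one => exact ⟨one_mem _, one_pow p⟩
    | mul a b _ _ iha ihb =>
      refine ⟨mul_mem iha.1 ihb.1, ?_⟩
      have hc : Commute a b := (mem_center_iff.mp ihb.1 a)
      rw [hc.mul_pow, iha.2, ihb.2, one_mul]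
    | inv a _ iha => exact ⟨inv_mem iha.1, by rw [inv_pow, iha.2, inv_one]⟩
  exact (key v hv).2

/-- In a group of class at most two whose commutators have order dividing the odd prime `p`,
the `p`-th power map is multiplicative. -/
theorem mul_pow_prime (hcl : commutator R ≤ center R) {p : ℕ} (hp : p.Prime) (hp2 : p ≠ 2)
    (hexp : ∀ x y : R, ⁅x, y⁆ ^ p = 1) (x y : R) : (x * y) ^ p = x ^ p * y ^ p := by
  have hc := comm_mem_center hcl y x
  have hx : Commute ⁅y, x⁆ x := (mem_center_iff.mp hc x).symm
  have hy : Commute ⁅y, x⁆ y := (mem_center_iff.mp hc y).symm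
  rw [Cfsg.Agent.Helper19.mul_pow_of_commute_comm x y hx hy p]
  have h2 : 2 < p := lt_of_le_of_ne hp.two_le (Ne.symm hp2)
  obtain ⟨k, hk⟩ := hp.dvd_choose_self (by norm_num : (2 : ℕ) ≠ 0) h2
  rw [hk, pow_mul, hexp, one_pow, mul_one]

/-- The `p`-th power endomorphism. -/
def powHom (hcl : commutator R ≤ center R) {p : ℕ} (hp : p.Prime) (hp2 : p ≠ 2)
    (hexp : ∀ x y : R, ⁅x, y⁆ ^ p = 1) : R →* R where
  toFun x := x ^ p
  map_one' := one_pow p
  map_mul' := mul_pow_prime hcl hp hp2 hexp

theorem powHom_apply (hcl : commutator R ≤ center R) {p : ℕ} (hp : p.Prime) (hp2 : p ≠ 2)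
    (hexp : ∀ x y : R, ⁅x, y⁆ ^ p = 1) (x : R) : powHom hcl hp hp2 hexp x = x ^ p := rfl

/-- Iterates of an endomorphism. -/
def iterHom (π : R →* R) : ℕ → (R →* R)
  | 0 => MonoidHom.id R
  | k + 1 => (iterHom π k).comp π

theorem iterHom_zero (π : R →* R) (x : R) : iterHom π 0 x = x := rfl

theorem iterHom_succ (π : R →* R) (k : ℕ) (x : R) : iterHom π (k + 1) x = iterHom π k (π x) := rfl

theorem iterHom_apply (π : R →* R) {p : ℕ} (hπ : ∀ x, π x = x ^ p) (k : ℕ) (x : R) :
    iterHom π k x = x ^ p ^ k := by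
  induction k generalizing x with
  | zero => simp [iterHom_zero]
  | succ k ih => rw [iterHom_succ, ih, hπ, ← pow_mul, pow_succ, mul_comm]

theorem normal_of_le_center' {H : Subgroup R} (h : H ≤ center R) : H.Normal :=
  ⟨fun n hn g => by rw [conj_of_mem_center (h hn) g]; exact hn⟩

theorem le_of_index_eq [Finite R] {H K : Subgroup R} (h : H ≤ K) (hi : H.index = K.index) :
    K ≤ H := by
  have h1 := relIndex_mul_index h
  rw [hi] at h1
  have h2 : K.index ≠ 0 := index_ne_zero_of_finite
  have h3 : H.relIndex K = 1 := by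
    have : H.relIndex K * K.index = 1 * K.index := by rw [h1, one_mul]
    exact Nat.eq_of_mul_eq_mul_right (Nat.pos_of_ne_zero h2) this
  exact relIndex_eq_one.mp h3

end ClassTwo

section Metacyclic

variable {R : Type*} [Group R]

/-- A metacyclic group of exponent dividing `p` has order dividing `p ^ 2`. -/
theorem card_dvd_sq_of_exponent [Finite R] (p : ℕ) (hm : Cfsg.IsMetacyclic R)
    (hexp : ∀ x : R, x ^ p = 1) : Nat.card R ∣ p ^ 2 := by
  obtain ⟨N, hN, hNc, hQc⟩ := hm
  have h1 : Nat.card N ∣ p := by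
    obtain ⟨g, hg⟩ := hNc.exists_generator
    rw [← orderOf_eq_card_of_forall_mem_zpowers hg]
    exact orderOf_dvd_of_pow_eq_one (Subtype.ext (by simpa using hexp g))
  have h2 : Nat.card (R ⧸ N) ∣ p := by
    obtain ⟨g, hg⟩ := hQc.exists_generator
    rw [← orderOf_eq_card_of_forall_mem_zpowers hg]
    obtain ⟨x, rfl⟩ := QuotientGroup.mk_surjective g
    apply orderOf_dvd_of_pow_eq_one
    rw [← QuotientGroup.mk_pow, hexp]
    rfl
  rw [Subgroup.card_eq_card_quotient_mul_card_subgroup N, pow_two]
  exact Nat.mul_dvd_mul h2 h1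

end Metacyclic

section Action

variable {R : Type*} {A : Type*} [Group R] [Group A]

/-- The generating set `{x⁻¹ · xᵃ}` of `[R, A]`. -/
def cs (φ : A →* MulAut R) : Set R := {y : R | ∃ (a : A) (x : R), y = x⁻¹ * φ a x}

theorem aut_comm_on_zpowers (w : R) (α β : MulAut R) (hα : α w ∈ zpowers w)
    (hβ : β w ∈ zpowers w) : α (β w) = β (α w) := by
  obtain ⟨i, hi⟩ := mem_zpowers_iff.mp hα
  obtain ⟨j, hj⟩ := mem_zpowers_iff.mp hβ
  rw [← hi, ← hj, map_zpow, map_zpow, ← hi, ← hj, ← zpow_mul, ← zpow_mul, mul_comm]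

/-- Trace lemma: if `[R, A] = R`, `f` is a homomorphism to an abelian group and `f x` is
`A`-invariant of order coprime to `A`, then `f x = 1`. -/
theorem eq_one_of_fixed {V : Type*} [Group V] [Finite A] (hV : ∀ u v : V, u * v = v * u)
    (φ : A →* MulAut R) (f : R →* V) (hgen : closure (cs φ) = ⊤) (x : R)
    (hfix : ∀ a, f (φ a x) = f x) (hcop : (Nat.card A).Coprime (orderOf (f x))) : f x = 1 := by
  classical
  letI : CommGroup V := { (inferInstance : Group V) with mul_comm := hV }
  haveI := Fintype.ofFinite A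
  let T : R →* V := ∏ a : A, f.comp (φ a).toMonoidHom
  have hT : ∀ y, T y = ∏ a : A, f (φ a y) := by
    intro y
    simp only [T, MonoidHom.finsetProd_apply]
    rfl
  have hTφ : ∀ b y, T (φ b y) = T y := by
    intro b y
    rw [hT, hT]
    refine Fintype.prod_equiv (Equiv.mulRight b) _ _ (fun a => ?_)
    simp only [Equiv.coe_mulRight, map_mul, MulAut.mul_apply]
  have hker : ∀ y ∈ closure (cs φ), T y = 1 := by
    intro y hy
    induction hy using Subgroup.closure_induction with
    | mem g hg =>
      obtain ⟨a, z, rfl⟩ := hg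
      rw [map_mul, map_inv, hTφ, inv_mul_cancel]
    | one => exact map_one T
    | mul a b _ _ iha ihb => rw [map_mul, iha, ihb, one_mul]
    | inv a _ iha => rw [map_inv, iha, inv_one]
  have h1 : T x = 1 := hker x (by rw [hgen]; exact mem_top x)
  have h2 : f x ^ Nat.card A = 1 := by
    rw [← h1, hT]
    simp only [hfix, Finset.prod_const, Finset.card_univ, Nat.card_eq_fintype_card]
  have h3 : orderOf (f x) ∣ Nat.card A := orderOf_dvd_of_pow_eq_one h2
  have h4 : orderOf (f x) = 1 := Nat.eq_one_of_dvd_coprimes hcop h3 dvd_rfl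
  exact orderOf_eq_one_iff.mp h4

/-- If `[R, A] = R` and `R` is metacyclic then `R` has class at most two. -/
theorem commutator_le_center_of_gen (hm : Cfsg.IsMetacyclic R) (φ : A →* MulAut R)
    (hgen : closure (cs φ) = ⊤) : commutator R ≤ center R := by
  haveI hWc : IsCyclic (commutator R) :=
    Cfsg.Agent.Helper21.MetaAut.isCyclic_commutator_of_isMetacyclic hm
  haveI hWchar : (commutator R).Characteristic := by rw [commutator_def]; infer_instance
  obtain ⟨⟨w, hwW⟩, hwgen⟩ := hWc.exists_generator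
  have hWz : ∀ v ∈ commutator R, v ∈ zpowers w := by
    intro v hv
    obtain ⟨k, hk⟩ := mem_zpowers_iff.mp (hwgen ⟨v, hv⟩)
    refine mem_zpowers_iff.mpr ⟨k, ?_⟩
    have := congrArg (fun z : commutator R => (z : R)) hk
    simpa using this
  -- every generator of `[R, A]` centralizes `w`
  have hcent : ∀ y ∈ cs φ, y ∈ centralizer ({w} : Set R) := by
    rintro _ ⟨a, x, rfl⟩
    rw [mem_centralizer_iff]
    intro w' hw'
    rw [Set.mem_singleton_iff] at hw'
    subst hw'
    set u : MulAut R := φ a with hu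
    have h1 : (MulAut.conj x) w' ∈ zpowers w' := by
      apply hWz
      rw [MulAut.conj_apply]
      exact (inferInstance : (commutator R).Normal).conj_mem w' hwW x
    have h2 : u.symm w' ∈ zpowers w' := by
      apply hWz
      exact (Cfsg.Agent.Helper21.MetaAut.mem_iff_of_characteristic u.symm (commutator R) w').mpr hwW
    have h3 := aut_comm_on_zpowers w' (MulAut.conj x) u.symm h1 h2
    rw [MulAut.conj_apply, MulAut.conj_apply] at h3
    have h4 : u x * w' * (u x)⁻¹ = x * w' * x⁻¹ := by
      have := congrArg u h3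
      rw [MulEquiv.apply_symm_apply] at this
      rw [← this, map_mul, map_mul, map_inv, MulEquiv.apply_symm_apply]
    have h5 : u x * w' = x * w' * x⁻¹ * u x := by
      rw [← h4]; group
    calc w' * (x⁻¹ * u x) = x⁻¹ * (x * w' * x⁻¹ * u x) := by group
      _ = x⁻¹ * (u x * w') := by rw [h5]
      _ = x⁻¹ * u x * w' := by group
  have htop : (⊤ : Subgroup R) ≤ centralizer ({w} : Set R) := by
    rw [← hgen, closure_le]
    exact hcent
  intro v hv
  rw [mem_center_iff]
  intro g
  obtain ⟨k, rfl⟩ := mem_zpowers_iff.mp (hWz v hv)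
  have hg : g * w = w * g := by
    have := mem_centralizer_iff.mp (htop (mem_top g)) w (Set.mem_singleton w)
    exact this.symm
  exact ((Commute.zpow_right (show Commute g w from hg) k)).eq

end Action

end Cfsg.Agent.Helper21.MetaCop
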