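import Mathlib
import Cfsg.Agent.Helper21.MetaCop1

/-!
# Coprime action on metacyclic `p`-groups, `p` odd: the class-two case of the key lemma

If `[R, A] = R`, `R` is metacyclic of class at most two with commutators of order dividing `p`,
then `R` is abelian.
-/

set_option autoImplicit false
set_option linter.style.haveILetI false

namespace Cfsg.Agent.Helper21.MetaCop

open Subgroup
open scoped commutatorElement

variable {R : Type*} {A : Type*} [Group R] [Group A]

/-- in the derived subgroup (central of exponent `p`), `n`-th roots are unique for `p ∤ n`. -/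
theorem root_unique (hcl : commutator R ≤ center R) {p : ℕ} (hp : p.Prime)
    (hexpW : ∀ v ∈ commutator R, v ^ p = 1) {n : ℕ} (hn : ¬ p ∣ n) {d₁ d₂ : R}
    (h₁ : d₁ ∈ commutator R) (h₂ : d₂ ∈ commutator R) (h : d₁ ^ n = d₂ ^ n) : d₁ = d₂ := by
  have hc : Commute d₁ d₂⁻¹ := (mem_center_iff.mp (hcl (inv_mem h₂)) d₁)
  have h1 : (d₁ * d₂⁻¹) ^ n = 1 := by
    rw [hc.mul_pow, inv_pow, h, mul_inv_cancel]
  have h2 : (d₁ * d₂⁻¹) ^ p = 1 := hexpW _ (mul_mem h₁ (inv_mem h₂))
  have h3 : orderOf (d₁ * d₂⁻¹) ∣ n := orderOf_dvd_of_pow_eq_one h1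
  have h4 : orderOf (d₁ * d₂⁻¹) ∣ p := orderOf_dvd_of_pow_eq_one h2
  have hcop : Nat.Coprime p n := (Nat.Prime.coprime_iff_not_dvd hp).mpr hn
  have h5 : orderOf (d₁ * d₂⁻¹) = 1 := Nat.eq_one_of_dvd_coprimes hcop h4 h3
  exact mul_inv_eq_one.mp (orderOf_eq_one_iff.mp h5)

theorem key_aux [Finite R] [Finite A] {p : ℕ} [hp : Fact p.Prime] (hp2 : p ≠ 2)
    (hR : IsPGroup p R) (hm : Cfsg.IsMetacyclic R) (φ : A →* MulAut R)
    (hcop : (Nat.card A).Coprime p) (hgen : closure (cs φ) = ⊤)
    (hcl : commutator R ≤ center R) (hexp : ∀ x y : R, ⁅x, y⁆ ^ p = 1) :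
    ∀ x y : R, x * y = y * x := by
  by_contra hna
  have hexpW := pow_eq_one_of_mem_commutator hcl hexp
  -- the power endomorphism
  set π : R →* R := powHom hcl hp.out hp2 hexp with hπdef
  have hπ : ∀ x, π x = x ^ p := fun x => rfl
  have hπZ : π.range ≤ center R := by
    rintro _ ⟨x, rfl⟩
    rw [mem_center_iff]
    intro y
    have h1 : ⁅x ^ p, y⁆ = 1 := by rw [comm_pow_left hcl, hexp]
    exact ((commutatorElement_eq_one_iff_mul_comm).mp h1).symm
  haveI hπn : π.range.Normal := normal_of_le_center' hπZ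
  have hidx_range : π.range.index ∣ p ^ 2 := by
    rw [index_eq_card]
    apply card_dvd_sq_of_exponent p
      (Cfsg.Agent.Helper21.MetaAut.isMetacyclic_of_surjective (QuotientGroup.mk' π.range)
        (QuotientGroup.mk'_surjective _) hm)
    intro q
    obtain ⟨x, rfl⟩ := QuotientGroup.mk_surjective q
    rw [← QuotientGroup.mk_pow]
    exact (QuotientGroup.eq_one_iff _).mpr ⟨x, rfl⟩
  -- the centre has index `p ^ 2`
  have hZidx : (center R).index = p ^ 2 := by
    have hd : (center R).index ∣ p ^ 2 := (index_dvd_of_le hπZ).trans hidx_range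
    obtain ⟨k, hk2, hk⟩ := (Nat.dvd_prime_pow hp.out).mp hd
    interval_cases k
    · exfalso
      rw [pow_zero, index_eq_one] at hk
      apply hna
      intro x y
      exact (mem_center_iff.mp (hk ▸ mem_top y) x)
    · exfalso
      rw [pow_one] at hk
      haveI : Fact (Nat.card (R ⧸ center R)).Prime := by
        rw [← index_eq_card, hk]; exact hp
      haveI : IsCyclic (R ⧸ center R) := isCyclic_of_prime_card rfl
      apply hna
      intro x y
      exact commutative_of_cyclic_center_quotient (QuotientGroup.mk' (center R))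
        (by rw [QuotientGroup.ker_mk']) x y
    · exact hk
  have hrange_eq : π.range = center R := by
    apply le_antisymm hπZ
    apply le_of_index_eq hπZ
    apply Nat.dvd_antisymm
    · rw [hZidx]; exact hidx_range
    · exact index_dvd_of_le hπZ
  -- a generator of the derived subgroup
  haveI hWc : IsCyclic (commutator R) :=
    Cfsg.Agent.Helper21.MetaAut.isCyclic_commutator_of_isMetacyclic hm
  haveI hWchar : (commutator R).Characteristic := by rw [commutator_def]; infer_instance
  obtain ⟨⟨c, hcW⟩, hcgen⟩ := hWc.exists_generator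
  have hWz : ∀ v ∈ commutator R, v ∈ zpowers c := by
    intro v hv
    obtain ⟨k, hk⟩ := mem_zpowers_iff.mp (hcgen ⟨v, hv⟩)
    refine mem_zpowers_iff.mpr ⟨k, ?_⟩
    have := congrArg (fun z : commutator R => (z : R)) hk
    simpa using this
  have hc1 : c ≠ 1 := by
    intro h
    apply hna
    intro x y
    have h1 := hWz _ (comm_mem_commutator x y)
    rw [h, zpowers_one_eq_bot, mem_bot] at h1
    exact (commutatorElement_eq_one_iff_mul_comm).mp h1
  have hcp : c ^ p = 1 := hexpW c hcW
  have hcZ : c ∈ center R := hcl hcW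
  -- the exponents by which `A` acts on the derived subgroup
  have hn : ∀ a : A, ∃ n : ℕ, φ a c = c ^ n ∧ ¬ p ∣ n := by
    intro a
    have h1 : φ a c ∈ zpowers c :=
      hWz _ ((Cfsg.Agent.Helper21.MetaAut.mem_iff_of_characteristic (φ a) (commutator R) c).mpr hcW)
    rw [← (isOfFinOrder_of_finite c).mem_powers_iff_mem_zpowers] at h1
    obtain ⟨n, hn⟩ := (Submonoid.mem_powers_iff _ _).mp h1
    refine ⟨n, hn.symm, ?_⟩
    rintro ⟨j, rfl⟩
    rw [pow_mul, hcp, one_pow] at hn
    apply hc1
    have : φ a c = φ a 1 := by rw [← hn, map_one]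
    exact (φ a).injective this
  choose n hn1 hn2 using hn
  have hnW : ∀ a, ∀ v ∈ commutator R, φ a v = v ^ n a := by
    intro a v hv
    obtain ⟨k, rfl⟩ := mem_zpowers_iff.mp (hWz v hv)
    rw [map_zpow, hn1, ← zpow_natCast, ← zpow_natCast, ← zpow_mul, ← zpow_mul, mul_comm]
  -- the chain of power subgroups
  obtain ⟨m, hm'⟩ := IsPGroup.iff_card.mp hR
  have hex : ∃ j, c ∉ (iterHom π j).range := by
    refine ⟨m, ?_⟩
    rintro ⟨x, hx⟩
    rw [iterHom_apply π hπ, ← hm', pow_card_eq_one'] at hx
    exact hc1 hx.symm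
  classical
  have hj0 : Nat.find hex ≠ 0 := by
    intro h0
    have := Nat.find_spec hex
    rw [h0] at this
    exact this ⟨c, rfl⟩
  obtain ⟨k, hk⟩ := Nat.exists_eq_succ_of_ne_zero hj0
  have hck : c ∈ (iterHom π k).range := by
    by_contra h
    exact Nat.find_min hex (by rw [hk]; exact Nat.lt_succ_self k) h
  have hck1 : c ∉ (iterHom π (k + 1)).range := by
    have := Nat.find_spec hex
    rwa [hk] at this
  obtain ⟨t, ht⟩ := hck
  set Ω : Subgroup R := (iterHom π k).ker with hΩ
  have hφpk : ∀ a x, iterHom π k (φ a x) = φ a (iterHom π k x) := by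
    intro a x
    rw [iterHom_apply π hπ, iterHom_apply π hπ, map_pow]
  have hΩinv : ∀ a x, x ∈ Ω → φ a x ∈ Ω := by
    intro a x hx
    rw [hΩ, MonoidHom.mem_ker] at hx ⊢
    rw [hφpk, hx, map_one]
  have hω : ∀ a, φ a t * (t ^ n a)⁻¹ ∈ Ω := by
    intro a
    rw [hΩ, MonoidHom.mem_ker, map_mul, map_inv, map_pow, hφpk, ht, hn1, mul_inv_cancel]
  have htne : ∀ z ∈ center R, ∀ ω ∈ Ω, t ≠ z * ω := by
    intro z hz ω hω' heq
    rw [← hrange_eq] at hz
    obtain ⟨r, rfl⟩ := hz
    apply hck1
    refine ⟨r, ?_⟩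
    rw [iterHom_succ, ← ht, heq, map_mul, MonoidHom.mem_ker.mp hω', mul_one]
  -- quotient by the centre is abelian
  have hV : ∀ u v : R ⧸ center R, u * v = v * u := by
    intro u v
    obtain ⟨a, rfl⟩ := QuotientGroup.mk_surjective u
    obtain ⟨b, rfl⟩ := QuotientGroup.mk_surjective v
    rw [← QuotientGroup.mk_mul, ← QuotientGroup.mk_mul, QuotientGroup.eq]
    have : (a * b)⁻¹ * (b * a) = ⁅b⁻¹, a⁻¹⁆ := by
      simp only [commutatorElement_def]; group
    rw [this]
    exact comm_mem_center hcl _ _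
  by_cases hΩZ : Ω ≤ center R
  · -- Case 1
    have hcent : ∀ y ∈ cs φ, y ∈ centralizer ({t} : Set R) := by
      rintro _ ⟨a, y, rfl⟩
      have hωZ : φ a t * (t ^ n a)⁻¹ ∈ center R := hΩZ (hω a)
      have e1 : φ a t = (φ a t * (t ^ n a)⁻¹) * t ^ n a := by group
      have e2 : φ a ⁅t, y⁆ = ⁅t, y⁆ ^ n a := hnW a _ (comm_mem_commutator t y)
      have e3 : φ a ⁅t, y⁆ = ⁅φ a t, φ a y⁆ := map_commutatorElement (φ a) t y
      have e4 : ⁅φ a t, φ a y⁆ = ⁅t, φ a y⁆ ^ n a := by
        rw [e1, comm_mul_left hcl, comm_eq_one_of_mem_center_left hωZ, one_mul,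
          comm_pow_left hcl]
      have e5 : ⁅t, φ a y⁆ = ⁅t, y⁆ :=
        root_unique hcl hp.out hexpW (hn2 a) (comm_mem_commutator _ _) (comm_mem_commutator _ _)
          (by rw [← e4, ← e3, e2])
      have e6 : ⁅t, y⁻¹ * φ a y⁆ = 1 := by
        rw [comm_mul_right hcl, comm_inv_right hcl, e5, inv_mul_cancel]
      rw [mem_centralizer_iff]
      intro t' ht'
      rw [Set.mem_singleton_iff] at ht'
      subst ht'
      exact (commutatorElement_eq_one_iff_mul_comm).mp e6
    have htop : (⊤ : Subgroup R) ≤ centralizer ({t} : Set R) := by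
      rw [← hgen, closure_le]
      exact hcent
    have htZ : t ∈ center R := by
      rw [mem_center_iff]
      intro g
      exact (mem_centralizer_iff.mp (htop (mem_top g)) t (Set.mem_singleton t)).symm
    exact htne t htZ 1 (one_mem _) (by rw [mul_one])
  · -- Case 2
    obtain ⟨x, hxΩ, hxZ⟩ := SetLike.not_le_iff_exists.mp hΩZ
    set Y : Subgroup R := center R ⊔ Ω with hY
    have hYmem : ∀ y ∈ Y, ∃ z ∈ center R, ∃ ω ∈ Ω, y = z * ω := by
      intro y hy
      have : y ∈ ((center R ⊔ Ω : Subgroup R) : Set R) := hy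
      rw [normal_mul] at this
      obtain ⟨z, hz, ω, hω', rfl⟩ := Set.mem_mul.mp this
      exact ⟨z, hz, ω, hω', rfl⟩
    have htY : t ∉ Y := by
      intro h
      obtain ⟨z, hz, ω, hω', heq⟩ := hYmem t h
      exact htne z hz ω hω' heq
    have hZY : center R ≤ Y := le_sup_left
    have hΩY : Ω ≤ Y := le_sup_right
    have hYidx : Y.index = p := by
      have hd : Y.index ∣ p ^ 2 := by rw [← hZidx]; exact index_dvd_of_le hZY
      obtain ⟨k', hk2, hk'⟩ := (Nat.dvd_prime_pow hp.out).mp hd
      interval_cases k'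
      · exfalso
        rw [pow_zero, index_eq_one] at hk'
        exact htY (hk' ▸ mem_top t)
      · rw [hk', pow_one]
      · exfalso
        have := le_of_index_eq hZY (by rw [hZidx, hk'])
        exact hxZ (this (hΩY hxΩ))
    -- `Y` is abelian
    have hYab : ∀ u ∈ Y, ∀ v ∈ Y, u * v = v * u := by
      set N : Subgroup Y := (center R).subgroupOf Y with hN
      have hNidx : N.index = p := by
        have h1 := relIndex_mul_index hZY
        rw [hZidx, hYidx, pow_two] at h1
        exact Nat.eq_of_mul_eq_mul_right hp.out.pos h1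
      haveI : Fact (Nat.card (Y ⧸ N)).Prime := by
        rw [← index_eq_card, hNidx]; exact hp
      haveI : IsCyclic (Y ⧸ N) := isCyclic_of_prime_card rfl
      have hker : (QuotientGroup.mk' N).ker ≤ center Y := by
        rw [QuotientGroup.ker_mk']
        intro z hz
        rw [mem_center_iff]
        intro g
        apply Subtype.ext
        have : (z : R) ∈ center R := hz
        simpa using mem_center_iff.mp this (g : R)
      intro u hu v hv
      have := commutative_of_cyclic_center_quotient (QuotientGroup.mk' N) hker ⟨u, hu⟩ ⟨v, hv⟩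
      exact congrArg (fun z : Y => (z : R)) this
    have hYt : Y ⊔ zpowers t = ⊤ := by
      have hle : Y ≤ Y ⊔ zpowers t := le_sup_left
      have hd : (Y ⊔ zpowers t).index ∣ p := by rw [← hYidx]; exact index_dvd_of_le hle
      rcases (Nat.dvd_prime hp.out).mp hd with h1 | h1
      · exact index_eq_one.mp h1
      · exfalso
        have := le_of_index_eq hle (by rw [hYidx, h1])
        exact htY (this (le_sup_right (a := Y) (mem_zpowers t)))
    have hfixZ : ∀ a, φ a x * x⁻¹ ∈ center R := by
      intro a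
      have hωΩ : φ a t * (t ^ n a)⁻¹ ∈ Ω := hω a
      have hφx : φ a x ∈ Ω := hΩinv a x hxΩ
      have e1 : φ a t = (φ a t * (t ^ n a)⁻¹) * t ^ n a := by group
      have e2 : φ a ⁅x, t⁆ = ⁅x, t⁆ ^ n a := hnW a _ (comm_mem_commutator x t)
      have e3 : φ a ⁅x, t⁆ = ⁅φ a x, φ a t⁆ := map_commutatorElement (φ a) x t
      have e0 : ⁅φ a x, φ a t * (t ^ n a)⁻¹⁆ = 1 := by
        rw [commutatorElement_eq_one_iff_mul_comm]
        exact hYab _ (hΩY hφx) _ (hΩY hωΩ)
      have e4 : ⁅φ a x, φ a t⁆ = ⁅φ a x, t⁆ ^ n a := by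
        rw [e1, comm_mul_right hcl, e0, one_mul, comm_pow_right hcl]
      have e5 : ⁅φ a x, t⁆ = ⁅x, t⁆ :=
        root_unique hcl hp.out hexpW (hn2 a) (comm_mem_commutator _ _) (comm_mem_commutator _ _)
          (by rw [← e4, ← e3, e2])
      have e6 : ⁅φ a x * x⁻¹, t⁆ = 1 := by
        rw [comm_mul_left hcl, comm_inv_left hcl, e5, mul_inv_cancel]
      have hgΩ : φ a x * x⁻¹ ∈ Ω := mul_mem hφx (inv_mem hxΩ)
      have hle : Y ⊔ zpowers t ≤ centralizer ({φ a x * x⁻¹} : Set R) := by
        rw [sup_le_iff]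
        constructor
        · intro y hy
          rw [mem_centralizer_iff]
          intro g hg
          rw [Set.mem_singleton_iff] at hg
          subst hg
          exact hYab _ (hΩY hgΩ) _ hy
        · rw [zpowers_le]
          rw [mem_centralizer_iff]
          intro g hg
          rw [Set.mem_singleton_iff] at hg
          subst hg
          exact (commutatorElement_eq_one_iff_mul_comm).mp e6
      rw [hYt] at hle
      rw [mem_center_iff]
      intro g
      exact (mem_centralizer_iff.mp (hle (mem_top g)) _ (Set.mem_singleton _)).symm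
    have hfx : (QuotientGroup.mk' (center R)) x = 1 := by
      apply eq_one_of_fixed hV φ (QuotientGroup.mk' (center R)) hgen x
      · intro a
        rw [QuotientGroup.mk'_apply, QuotientGroup.mk'_apply, QuotientGroup.eq_iff_div_mem,
          div_eq_mul_inv]
        exact hfixZ a
      · obtain ⟨k', hk'⟩ := (hR.to_quotient (center R)) ((QuotientGroup.mk' (center R)) x)
        exact Nat.Coprime.coprime_dvd_right (orderOf_dvd_of_pow_eq_one hk')
          (Nat.Coprime.pow_right k' hcop)
    exact hxZ ((QuotientGroup.eq_one_iff x).mp hfx)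

end Cfsg.Agent.Helper21.MetaCop
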