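import Mathlib
import Cfsg.Agent.Helper21.MetaCop2
import Cfsg.Agent.Helper11.Q8Aut

/-!
# Coprime action on metacyclic `p`-groups, `p` odd: the key lemma

If a group `A` of order prime to `p` acts on the metacyclic `p`-group `R` with `[R, A] = R`, then
`R` is abelian.
-/

set_option autoImplicit false
set_option linter.style.haveILetI false

namespace Cfsg.Agent.Helper21.MetaCop

open Subgroup
open scoped commutatorElement

variable {R : Type*} {A : Type*} [Group R] [Group A]

theorem key [Finite R] [Finite A] {p : ℕ} [hp : Fact p.Prime] (hp2 : p ≠ 2)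
    (hR : IsPGroup p R) (hm : Cfsg.IsMetacyclic R) (φ : A →* MulAut R)
    (hcop : (Nat.card A).Coprime p) (hgen : closure (cs φ) = ⊤) :
    ∀ x y : R, x * y = y * x := by
  have hcl := commutator_le_center_of_gen hm φ hgen
  haveI hWc : IsCyclic (commutator R) :=
    Cfsg.Agent.Helper21.MetaAut.isCyclic_commutator_of_isMetacyclic hm
  haveI hWchar : (commutator R).Characteristic := by rw [commutator_def]; infer_instance
  obtain ⟨⟨w, hwW⟩, hwgen⟩ := hWc.exists_generator
  have hWz : ∀ v ∈ commutator R, v ∈ zpowers w := by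
    intro v hv
    obtain ⟨k, hk⟩ := mem_zpowers_iff.mp (hwgen ⟨v, hv⟩)
    refine mem_zpowers_iff.mpr ⟨k, ?_⟩
    have := congrArg (fun z : commutator R => (z : R)) hk
    simpa using this
  set M : Subgroup R := zpowers (w ^ p) with hM
  haveI hMchar : M.Characteristic := by
    rw [characteristic_iff_map_le]
    intro ψ
    rw [hM, MonoidHom.map_zpowers, zpowers_le]
    have h1 : ψ w ∈ zpowers w :=
      hWz _ ((Cfsg.Agent.Helper21.MetaAut.mem_iff_of_characteristic ψ (commutator R) w).mpr hwW)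
    obtain ⟨i, hi⟩ := mem_zpowers_iff.mp h1
    refine mem_zpowers_iff.mpr ⟨i, ?_⟩
    rw [MulEquiv.coe_toMonoidHom, map_pow, ← hi, ← zpow_natCast, ← zpow_natCast, ← zpow_mul,
      ← zpow_mul, mul_comm]
  haveI hMn : M.Normal := inferInstance
  let φ' : A →* MulAut (R ⧸ M) := (Cfsg.Agent.Helper11.Q8Aut.quotAutHom M).comp φ
  have hφ' : ∀ (a : A) (x : R), φ' a (x : R ⧸ M) = ((φ a x : R) : R ⧸ M) := fun a x => rfl
  have hgen' : closure (cs φ') = ⊤ := by
    rw [eq_top_iff]
    have h1 : (closure (cs φ)).map (QuotientGroup.mk' M) = ⊤ := by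
      rw [hgen, ← MonoidHom.range_eq_map, MonoidHom.range_eq_top]
      exact QuotientGroup.mk'_surjective M
    rw [← h1, MonoidHom.map_closure, closure_le]
    rintro _ ⟨_, ⟨a, x, rfl⟩, rfl⟩
    apply Subgroup.subset_closure
    refine ⟨a, (x : R ⧸ M), ?_⟩
    rw [hφ', QuotientGroup.mk'_apply, QuotientGroup.mk_mul, QuotientGroup.mk_inv]
  have hcl' : commutator (R ⧸ M) ≤ center (R ⧸ M) := by
    rw [_root_.commutator_def, Subgroup.commutator_le]
    intro g₁ _ g₂ _
    obtain ⟨a, rfl⟩ := QuotientGroup.mk_surjective g₁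
    obtain ⟨b, rfl⟩ := QuotientGroup.mk_surjective g₂
    rw [mem_center_iff]
    intro g
    obtain ⟨r, rfl⟩ := QuotientGroup.mk_surjective g
    have h1 : ⁅(a : R ⧸ M), (b : R ⧸ M)⁆ = ((⁅a, b⁆ : R) : R ⧸ M) :=
      (map_commutatorElement (QuotientGroup.mk' M) a b).symm
    rw [h1, ← QuotientGroup.mk_mul, ← QuotientGroup.mk_mul,
      mem_center_iff.mp (comm_mem_center hcl a b) r]
  have hexp' : ∀ x y : R ⧸ M, ⁅x, y⁆ ^ p = 1 := by
    intro g₁ g₂
    obtain ⟨a, rfl⟩ := QuotientGroup.mk_surjective g₁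
    obtain ⟨b, rfl⟩ := QuotientGroup.mk_surjective g₂
    have h1 : ⁅(a : R ⧸ M), (b : R ⧸ M)⁆ = ((⁅a, b⁆ : R) : R ⧸ M) :=
      (map_commutatorElement (QuotientGroup.mk' M) a b).symm
    rw [h1, ← QuotientGroup.mk_pow, QuotientGroup.eq_one_iff]
    obtain ⟨i, hi⟩ := mem_zpowers_iff.mp (hWz _ (comm_mem_commutator a b))
    refine mem_zpowers_iff.mpr ⟨i, ?_⟩
    rw [← hi, ← zpow_natCast, ← zpow_natCast, ← zpow_mul, ← zpow_mul, mul_comm]
  have hab := key_aux hp2 (hR.to_quotient M)
    (Cfsg.Agent.Helper21.MetaAut.isMetacyclic_of_surjective (QuotientGroup.mk' M)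
      (QuotientGroup.mk'_surjective M) hm) φ' hcop hgen' hcl' hexp'
  have hwM : w ∈ M := by
    have hle : commutator R ≤ M := by
      rw [_root_.commutator_def, Subgroup.commutator_le]
      intro g₁ _ g₂ _
      rw [← QuotientGroup.eq_one_iff, ← QuotientGroup.mk'_apply, map_commutatorElement,
        commutatorElement_eq_one_iff_mul_comm]
      exact hab _ _
    exact hle hwW
  obtain ⟨j, hj⟩ := mem_zpowers_iff.mp hwM
  have hw1 : w = 1 := by
    by_contra hne
    obtain ⟨e, he⟩ := (IsPGroup.iff_orderOf.mp hR) w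
    have he0 : e ≠ 0 := by
      rintro rfl
      rw [pow_zero, orderOf_eq_one_iff] at he
      exact hne he
    have hpo : (p : ℤ) ∣ (orderOf w : ℤ) := by
      rw [he]
      exact_mod_cast dvd_pow_self p he0
    have h1 : w ^ ((p : ℤ) * j - 1) = 1 := by
      rw [zpow_sub, zpow_mul, zpow_natCast, hj, zpow_one, mul_inv_cancel]
    have h2 : (orderOf w : ℤ) ∣ (p : ℤ) * j - 1 := orderOf_dvd_iff_zpow_eq_one.mpr h1
    have h3 : (p : ℤ) ∣ (p : ℤ) * j - 1 := hpo.trans h2
    have h4 : (p : ℤ) ∣ 1 := by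
      have := dvd_sub (dvd_mul_right (p : ℤ) j) h3
      simpa using this
    have h5 : p ∣ 1 := by exact_mod_cast h4
    exact hp.out.one_lt.ne' (Nat.dvd_one.mp h5)
  intro x y
  have := hWz _ (comm_mem_commutator x y)
  rw [hw1, zpowers_one_eq_bot, mem_bot] at this
  exact commutatorElement_eq_one_iff_mul_comm.mp this

end Cfsg.Agent.Helper21.MetaCop
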