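import Mathlib
import Cfsg.Agent.Helper21.MetaCop3
import Cfsg.Agent.Helper21.MetaNPC
import Cfsg.Agent.Helper1.Metacyclic
import Cfsg.Agent.Lead.CoprimeAbelian

/-!
# Coprime action on metacyclic `p`-groups, `p` odd: the main theorem (subgroup form)
-/

set_option autoImplicit false
set_option linter.style.haveILetI false

namespace Cfsg.Agent.Helper21.MetaCop

open Subgroup
open scoped commutatorElement

universe u

/-- In a metacyclic `p`-group, `p` odd, of two nontrivial subgroups meeting trivially both are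
cyclic. -/
theorem isCyclic_of_inf_eq_bot {R : Type u} [Group R] [Finite R] {p : ℕ} [hp : Fact p.Prime]
    (hp2 : p ≠ 2) (hR : IsPGroup p R) (hm : Cfsg.IsMetacyclic R) (X Y : Subgroup R)
    (hXY : X ⊓ Y = ⊥) (hY : Y ≠ ⊥) : IsCyclic X := by
  by_contra hX
  have hRnc : ¬ IsCyclic R := by
    intro h
    exact hX inferInstance
  obtain ⟨K, hK, hKc⟩ := Cfsg.Agent.Helper1.Metacyclic.metacyclic_omega hp2 hR hm hRnc
  obtain ⟨K', hK', hK'c⟩ := Cfsg.Agent.Helper1.Metacyclic.metacyclic_omega hp2 (hR.to_subgroup X)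
    (Cfsg.Agent.Helper1.Metacyclic.isMetacyclic_subgroup hm X) hX
  have hle : K'.map X.subtype ≤ K := by
    rintro _ ⟨k, hk, rfl⟩
    rw [hK]
    have := (hK' k).mp hk
    have h2 := congrArg (fun z : X => (z : R)) this
    simpa using h2
  have hcard : Nat.card (K'.map X.subtype) = Nat.card K := by
    rw [Subgroup.card_map_of_injective X.subtype_injective, hK'c, hKc]
  have hKX : K ≤ X := by
    have h1 : K ≤ K'.map X.subtype := by
      have := Subgroup.eq_of_le_of_card_ge hle (le_of_eq hcard.symm)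
      rw [this]
    exact h1.trans (map_subtype_le K')
  -- an element of order `p` in `Y`
  have hYcard : p ∣ Nat.card Y := by
    obtain ⟨k, hk⟩ := IsPGroup.iff_card.mp (hR.to_subgroup Y)
    have hk0 : k ≠ 0 := by
      rintro rfl
      rw [pow_zero] at hk
      exact hY (Y.card_eq_one.mp hk)
    rw [hk]
    exact dvd_pow_self p hk0
  obtain ⟨y, hy⟩ := exists_prime_orderOf_dvd_card' p hYcard
  have hy1 : (y : R) ^ p = 1 := by
    have : y ^ p = 1 := by rw [← hy]; exact pow_orderOf_eq_one y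
    have h2 := congrArg (fun z : Y => (z : R)) this
    simpa using h2
  have hyK : (y : R) ∈ K := (hK _).mpr hy1
  have hyXY : (y : R) ∈ X ⊓ Y := ⟨hKX hyK, y.2⟩
  rw [hXY, mem_bot] at hyXY
  have hy0 : y = 1 := Subtype.ext hyXY
  rw [hy0, orderOf_one] at hy
  exact hp.out.one_lt.ne' hy.symm

variable {G : Type*} [Group G]

theorem main [Finite G] (p : ℕ) [hp : Fact p.Prime] (hp2 : p ≠ 2) (R A : Subgroup G)
    (hR : IsPGroup p R) (hRm : Cfsg.IsMetacyclic R)
    (hA : A ≤ normalizer (R : Set G)) (hcop : (Nat.card A).Coprime p) :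
    IsMulCommutative ↥⁅R, A⁆ ∧ ⁅R, A⁆ ⊔ (R ⊓ centralizer (A : Set G)) = R ∧
      ⁅R, A⁆ ⊓ (R ⊓ centralizer (A : Set G)) = ⊥ ∧
      (¬ IsMulCommutative R → ¬ A ≤ centralizer (R : Set G) →
        ⁅R, A⁆ ≠ ⊥ ∧ IsCyclic ↥⁅R, A⁆ ∧ (R ⊓ centralizer (A : Set G)) ≠ ⊥ ∧
          IsCyclic ↥(R ⊓ centralizer (A : Set G)) ∧ ⁅R, R⁆ ≤ ⁅R, A⁆) := by
  haveI : Group.IsNilpotent ↥R := hR.isNilpotent
  have hsolv : Group.IsSolvable ↥R := inferInstance
  have hcopR : (Nat.card A).Coprime (Nat.card R) := by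
    obtain ⟨k, hk⟩ := IsPGroup.iff_card.mp hR
    rw [hk]
    exact Nat.Coprime.pow_right k hcop
  set S : Subgroup G := ⁅R, A⁆ with hS
  set C : Subgroup G := R ⊓ centralizer (A : Set G) with hC
  have hSR : S ≤ R := Cfsg.Agent.Lead.commutator_le_of_le_normalizer hA
  have hCR : C ≤ R := inf_le_left
  have hAS : A ≤ normalizer (S : Set G) := Cfsg.Agent.Lead.le_normalizer_commutator_right R A
  have hRS : R ≤ normalizer (S : Set G) := Cfsg.Agent.Lead.le_normalizer_commutator_left R A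
  have hSS : ⁅S, A⁆ = S :=
    Cfsg.Agent.Lead.coprime_commutator_commutator A R hA hcopR (Or.inr hsolv)
  have hsup : S ⊔ C = R :=
    Cfsg.Agent.Lead.coprime_commutator_sup_centralizer A R hA hcopR (Or.inr hsolv)
  have hSp : IsPGroup p S := hR.to_le hSR
  have hSm : Cfsg.IsMetacyclic S :=
    Cfsg.Agent.Helper21.MetaNPC.isMetacyclic_of_injective (inclusion hSR) (inclusion_injective hSR) hRm
  -- `S` is abelian
  have hSab : ∀ x y : S, x * y = y * x := by
    let φ : A →* MulAut S := S.normalizerMonoidHom.comp (inclusion hAS)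
    have hφ : ∀ (a : A) (s : S), ((φ a s : S) : G) = a * s * (a : G)⁻¹ := fun a s => rfl
    have hgen : closure (cs φ) = ⊤ := by
      have h1 : S ≤ (closure (cs φ)).map S.subtype := by
        refine le_trans (le_of_eq hSS.symm) ?_
        rw [Subgroup.commutator_def, MonoidHom.map_closure, closure_le]
        rintro _ ⟨s, hs, a, ha, rfl⟩
        apply Subgroup.subset_closure
        refine ⟨⟨s, hs⟩⁻¹⁻¹ * φ ⟨a, ha⟩ ⟨s, hs⟩⁻¹, ⟨⟨a, ha⟩, ⟨s, hs⟩⁻¹, rfl⟩, ?_⟩
        rw [Subgroup.coe_subtype, Subgroup.coe_mul, hφ]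
        simp only [InvMemClass.coe_inv, inv_inv, commutatorElement_def]
        group
      rw [eq_top_iff]
      intro s _
      obtain ⟨k, hk, hks⟩ := h1 s.2
      have : k = s := Subtype.ext hks
      rwa [← this]
    exact key hp2 hSp hSm φ hcop hgen
  haveI hSc : IsMulCommutative ↥S := ⟨⟨hSab⟩⟩
  have hcopS : (Nat.card A).Coprime (Nat.card S) :=
    Nat.Coprime.coprime_dvd_right (card_dvd_of_le hSR) hcopR
  have hinf : S ⊓ C = ⊥ := by
    have h1 := Cfsg.Agent.Lead.coprime_abelian_inf A S hAS hcopS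
    rw [hSS] at h1
    rw [eq_bot_iff]
    intro x hx
    rw [← h1]
    exact ⟨⟨hx.1, hx.2.2⟩, hx.1⟩
  refine ⟨hSc, hsup, hinf, ?_⟩
  intro hnab hAC
  have hS1 : S ≠ ⊥ := by
    intro h
    apply hAC
    rw [hS, commutator_eq_bot_iff_le_centralizer] at h
    exact le_centralizer_iff.mp h
  have hC1 : C ≠ ⊥ := by
    intro h
    apply hnab
    rw [h, sup_bot_eq] at hsup
    rw [← hsup]
    exact hSc
  -- transfer to subgroups of `↥R`
  have hinf' : S.subgroupOf R ⊓ C.subgroupOf R = ⊥ := by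
    rw [eq_bot_iff]
    intro x hx
    have h1 : (x : G) ∈ S ⊓ C := ⟨mem_subgroupOf.mp hx.1, mem_subgroupOf.mp hx.2⟩
    rw [hinf, mem_bot] at h1
    exact mem_bot.mpr (Subtype.ext h1)
  have hS1' : S.subgroupOf R ≠ ⊥ := by
    intro h
    apply hS1
    rw [eq_bot_iff]
    intro x hx
    have h1 : (⟨x, hSR hx⟩ : R) ∈ S.subgroupOf R := mem_subgroupOf.mpr hx
    rw [h, mem_bot] at h1
    exact mem_bot.mpr (congrArg Subtype.val h1)
  have hC1' : C.subgroupOf R ≠ ⊥ := by
    intro h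
    apply hC1
    rw [eq_bot_iff]
    intro x hx
    have h1 : (⟨x, hCR hx⟩ : R) ∈ C.subgroupOf R := mem_subgroupOf.mpr hx
    rw [h, mem_bot] at h1
    exact mem_bot.mpr (congrArg Subtype.val h1)
  have hScyc' : IsCyclic (S.subgroupOf R) :=
    isCyclic_of_inf_eq_bot hp2 hR hRm _ _ hinf' hC1'
  have hCcyc' : IsCyclic (C.subgroupOf R) :=
    isCyclic_of_inf_eq_bot hp2 hR hRm _ _ (by rw [inf_comm]; exact hinf') hS1'
  have hScyc : IsCyclic S :=
    isCyclic_of_surjective (subgroupOfEquivOfLe hSR) (subgroupOfEquivOfLe hSR).surjective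
  have hCcyc : IsCyclic C :=
    isCyclic_of_surjective (subgroupOfEquivOfLe hCR) (subgroupOfEquivOfLe hCR).surjective
  have hRR : ⁅R, R⁆ ≤ S := by
    haveI hSn : (S.subgroupOf R).Normal := (normal_subgroupOf_iff_le_normalizer hSR).mpr hRS
    have hCcomm : ∀ x ∈ C, ∀ y ∈ C, x * y = y * x := by
      intro x hx y hy
      haveI hc : IsMulCommutative C := hCcyc.isMulCommutative
      have := mul_comm' (⟨x, hx⟩ : C) ⟨y, hy⟩
      exact congrArg Subtype.val this
    have htop : S.subgroupOf R ⊔ C.subgroupOf R = ⊤ := by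
      rw [← subgroupOf_sup hSR hCR, hsup, subgroupOf_self]
    have hrep : ∀ r : R, ∃ c : R, (c : G) ∈ C ∧
        (QuotientGroup.mk' (S.subgroupOf R)) r = (QuotientGroup.mk' (S.subgroupOf R)) c := by
      intro r
      have hr : r ∈ ((S.subgroupOf R ⊔ C.subgroupOf R : Subgroup R) : Set R) := by
        rw [htop]; trivial
      rw [normal_mul] at hr
      obtain ⟨s, hs, c, hc, rfl⟩ := Set.mem_mul.mp hr
      refine ⟨c, mem_subgroupOf.mp hc, ?_⟩
      have h1 : (QuotientGroup.mk' (S.subgroupOf R)) s = 1 := (QuotientGroup.eq_one_iff s).mpr hs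
      rw [map_mul, h1, one_mul]
    rw [Subgroup.commutator_le]
    intro g₁ h₁ g₂ h₂
    obtain ⟨c₁, hc₁, e₁⟩ := hrep ⟨g₁, h₁⟩
    obtain ⟨c₂, hc₂, e₂⟩ := hrep ⟨g₂, h₂⟩
    have hcc : c₁ * c₂ = c₂ * c₁ := Subtype.ext (hCcomm _ hc₁ _ hc₂)
    have h1 : (QuotientGroup.mk' (S.subgroupOf R)) ⁅(⟨g₁, h₁⟩ : R), ⟨g₂, h₂⟩⁆ = 1 := by
      rw [map_commutatorElement, e₁, e₂, ← map_commutatorElement,
        commutatorElement_eq_one_iff_mul_comm.mpr hcc, map_one]
    have h2 := (QuotientGroup.eq_one_iff _).mp h1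
    exact mem_subgroupOf.mp h2
  exact ⟨hS1, hScyc, hC1, hCcyc, hRR⟩

end Cfsg.Agent.Helper21.MetaCop
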