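import Mathlib
import Cfsg.Prelude.Def_Local

set_option autoImplicit false
set_option linter.style.haveILetI false

namespace Cfsg.Agent.Helper21.Tight

variable {G : Type*} [Group G]

/-- membership in a conjugate subgroup -/
theorem mem_cj {g x : G} {Q : Subgroup G} :
    x ∈ Q.map (MulAut.conj g).toMonoidHom ↔ g⁻¹ * x * g ∈ Q := by
  constructor
  · rintro ⟨y, hy, rfl⟩
    simpa [mul_assoc] using hy
  · intro h
    exact ⟨g⁻¹ * x * g, h, by simp [mul_assoc]⟩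

theorem card_mul_relIndex' {H K : Subgroup G} (h : H ≤ K) :
    Nat.card H * H.relIndex K = Nat.card K := by
  have h1 := (H.subgroupOf K).card_mul_index
  rw [Nat.card_congr (Subgroup.subgroupOfEquivOfLe h).toEquiv] at h1
  exact h1

/-- a 2-subgroup of `H` has order dividing the order of a Sylow 2-subgroup of `H` -/
theorem two_group_card_dvd [Finite G] {H T U : Subgroup G} (hT : T ≤ H)
    (hTs : ¬ 2 ∣ T.relIndex H) (hU2 : IsPGroup 2 U) (hU : U ≤ H) :
    Nat.card U ∣ Nat.card T := by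
  haveI : Fact (Nat.Prime 2) := ⟨Nat.prime_two⟩
  obtain ⟨n, hn⟩ := IsPGroup.iff_card.mp hU2
  have h1 : Nat.card U ∣ Nat.card H := Subgroup.card_dvd_of_le hU
  rw [← card_mul_relIndex' hT] at h1
  have hc : Nat.Coprime (Nat.card U) (T.relIndex H) := by
    rw [hn]
    exact Nat.Coprime.pow_left n ((Nat.prime_two.coprime_iff_not_dvd).mpr hTs)
  exact hc.dvd_of_dvd_mul_right h1

theorem eq_of_sylow_le [Finite G] {H T U : Subgroup G} (hT : T ≤ H)
    (hTs : ¬ 2 ∣ T.relIndex H) (hU2 : IsPGroup 2 U) (hU : U ≤ H) (hTU : T ≤ U) : U = T := by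
  have h1 := two_group_card_dvd hT hTs hU2 hU
  have h2 : Nat.card U ≤ Nat.card T := Nat.le_of_dvd Nat.card_pos h1
  exact (Subgroup.eq_of_le_of_card_ge hTU h2).symm

theorem exists_invol [Finite G] {U : Subgroup G} (hU2 : IsPGroup 2 U) (hU1 : U ≠ ⊥) :
    ∃ u ∈ U, orderOf u = 2 := by
  haveI : Fact (Nat.Prime 2) := ⟨Nat.prime_two⟩
  obtain ⟨n, hn⟩ := IsPGroup.iff_card.mp hU2
  have hn0 : n ≠ 0 := by
    rintro rfl
    rw [pow_zero] at hn
    exact hU1 (Subgroup.card_eq_one.mp hn)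
  have h2 : 2 ∣ Nat.card U := by
    rw [hn]; exact dvd_pow_self 2 hn0
  obtain ⟨x, hx⟩ := exists_prime_orderOf_dvd_card' 2 h2
  exact ⟨x, x.2, by rw [← hx, Subgroup.orderOf_coe]⟩

/-- the basic property of a tightly embedded subgroup, element form -/
theorem te_invol [Finite G] {Q : Subgroup G} (hQ : Cfsg.IsTightlyEmbedded Q) {h u : G}
    (hu : orderOf u = 2) (h1 : u ∈ Q) (h2 : h * u * h⁻¹ ∈ Q) :
    h ∈ Subgroup.normalizer (Q : Set G) := by
  by_contra hn
  have hinv : h⁻¹ ∉ Subgroup.normalizer (Q : Set G) := fun hc => hn (by simpa using inv_mem hc)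
  have hodd := hQ.2 h⁻¹ hinv
  have hmem : u ∈ Q ⊓ Q.map (MulAut.conj h⁻¹).toMonoidHom := by
    refine Subgroup.mem_inf.mpr ⟨h1, mem_cj.mpr ?_⟩
    simpa using h2
  have hdvd : orderOf (⟨u, hmem⟩ : ↥(Q ⊓ Q.map (MulAut.conj h⁻¹).toMonoidHom)) ∣
      Nat.card ↥(Q ⊓ Q.map (MulAut.conj h⁻¹).toMonoidHom) := orderOf_dvd_natCard _
  rw [Subgroup.orderOf_mk, hu] at hdvd
  exact (Nat.not_even_iff_odd.mpr hodd) (even_iff_two_dvd.mpr hdvd)

/-- no involution in `Q ∩ Q^g` for `g` outside the normalizer -/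
theorem te_no_invol [Finite G] {Q : Subgroup G} (hQ : Cfsg.IsTightlyEmbedded Q) {g : G}
    (hg : g ∉ Subgroup.normalizer (Q : Set G)) {u : G} (h1 : u ∈ Q)
    (h2 : u ∈ Q.map (MulAut.conj g).toMonoidHom) : orderOf u ≠ 2 := by
  intro hu
  have hodd := hQ.2 g hg
  have hmem : u ∈ Q ⊓ Q.map (MulAut.conj g).toMonoidHom := Subgroup.mem_inf.mpr ⟨h1, h2⟩
  have hdvd : orderOf (⟨u, hmem⟩ : ↥(Q ⊓ Q.map (MulAut.conj g).toMonoidHom)) ∣
      Nat.card ↥(Q ⊓ Q.map (MulAut.conj g).toMonoidHom) := orderOf_dvd_natCard _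
  rw [Subgroup.orderOf_mk, hu] at hdvd
  exact (Nat.not_even_iff_odd.mpr hodd) (even_iff_two_dvd.mpr hdvd)

/-- the same for a conjugate of a tightly embedded subgroup -/
theorem te_invol_cj [Finite G] {Q : Subgroup G} (hQ : Cfsg.IsTightlyEmbedded Q) (g : G) {h u : G}
    (hu : orderOf u = 2) (h1 : u ∈ Q.map (MulAut.conj g).toMonoidHom)
    (h2 : h * u * h⁻¹ ∈ Q.map (MulAut.conj g).toMonoidHom) :
    h ∈ Subgroup.normalizer ((Q.map (MulAut.conj g).toMonoidHom : Subgroup G) : Set G) := by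
  rw [mem_cj] at h1 h2
  have hu' : orderOf (g⁻¹ * u * g) = 2 := by
    have : g⁻¹ * u * g = MulAut.conj g⁻¹ u := by simp
    rw [this, MulEquiv.orderOf_eq]; exact hu
  have h3 : (g⁻¹ * h * g) * (g⁻¹ * u * g) * (g⁻¹ * h * g)⁻¹ ∈ Q := by
    have : (g⁻¹ * h * g) * (g⁻¹ * u * g) * (g⁻¹ * h * g)⁻¹ = g⁻¹ * (h * u * h⁻¹) * g := by group
    rw [this]; exact h2
  have h4 := te_invol hQ hu' h1 h3
  rw [← Subgroup.map_equiv_normalizer_eq Q (MulAut.conj g)]
  exact mem_cj.mpr h4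

/-- Lemma C: order of a product with trivial intersection -/
theorem card_sup_of_disjoint [Finite G] (H N : Subgroup G)
    (hLE : H ≤ Subgroup.normalizer (N : Set G)) (hd : H ⊓ N = ⊥) :
    Nat.card ↥(H ⊔ N) = Nat.card H * Nat.card N := by
  haveI := Subgroup.normal_subgroupOf_of_le_normalizer hLE
  haveI := Subgroup.normal_subgroupOf_sup_of_le_normalizer hLE
  have e := QuotientGroup.quotientInfEquivProdNormalizerQuotient H N hLE
  have h1 : Nat.card (↥(H ⊔ N) ⧸ N.subgroupOf (H ⊔ N)) = Nat.card (↥H ⧸ N.subgroupOf H) :=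
    (Nat.card_congr e.toEquiv).symm
  have h2 : N.subgroupOf H = ⊥ := by
    rw [Subgroup.subgroupOf_eq_bot, disjoint_iff, inf_comm]; exact hd
  have h3 := Subgroup.card_eq_card_quotient_mul_card_subgroup (N.subgroupOf H)
  have h4 : Nat.card ↥(N.subgroupOf H) = 1 := by rw [h2]; exact Subgroup.card_bot
  rw [h4, mul_one] at h3
  have h5 := Subgroup.card_eq_card_quotient_mul_card_subgroup (N.subgroupOf (H ⊔ N))
  rw [h1, ← h3, Nat.card_congr (Subgroup.subgroupOfEquivOfLe (le_sup_right : N ≤ H ⊔ N)).toEquiv] at h5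
  exact h5

end Cfsg.Agent.Helper21.Tight
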