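import Mathlib
import Cfsg.Prelude.Def_OddOrderLocal
import Cfsg.Agent.Helper21.BG12f
import Cfsg.Agent.Helper4.BG12SD
import Cfsg.Agent.Helper9.BG13a
import Cfsg.Agent.S1411
import Cfsg.Agent.S1414
import Cfsg.Agent.S1415

/-!
# B&G section 13: Lemma 13.1(a)

`M`, `H` nonconjugate maximal subgroups, `p ∉ σ(M)`, `p ∈ σ(H) ∪ τ₃(H)`: every `p`-subgroup of
`M ∩ H` centralizes `M_σ ∩ H`.
-/

set_option autoImplicit false
set_option linter.unusedSectionVars false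
set_option linter.unusedVariables false

namespace Cfsg.Agent.Helper21.BG13

open Subgroup Cfsg
open Cfsg.Agent.Helper14 (IsSylowIn cj map_cj_le_iff map_cj_mul map_cj_one map_cj_normalizer
  mem_normalizer_iff_map_cj map_cj_eq_self_of_mem le_normalizer_of_map_cj_le mem_map_cj
  exists_isSylowIn_ge exists_isSylowIn isSylowIn_of_sylow)
open Cfsg.Agent.Helper21.BG10 (Ctl101 Uniq96 relIndex_map_subtype le_normalizer_sigmaCore sigmaCore_le)
open Cfsg.Agent.Helper21.BG12 (ctl st1350 uniq)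
open Cfsg.Agent.H9.BG12 (St1350 St1404 St1420 St1423 NC1210)

universe u
variable {G : Type u} [Group G] [Finite G]

/-- ambient form of a normal `t`-complement of a subgroup `L`: a normal subgroup `K` of `L` of order
prime to `t` containing every `t'`-subgroup of `L`. -/
theorem exists_normal_compl {L : Subgroup G} {t : ℕ} [Fact t.Prime]
    (h : Cfsg.HasNormalPComplement t ↥L) :
    ∃ K : Subgroup G, K ≤ L ∧ L ≤ normalizer (K : Set G) ∧ (Nat.card K).Coprime t ∧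
      ∀ X : Subgroup G, X ≤ L → (Nat.card X).Coprime t → X ≤ K := by
  have ht : t.Prime := Fact.out
  obtain ⟨V⟩ : Nonempty (Sylow t ↥L) := inferInstance
  obtain ⟨N, hNn, hNc⟩ := (Cfsg.Agent.Helper9.hasNormalPComplement_iff V).mp h
  set K : Subgroup G := N.map L.subtype with hK
  have hKL : K ≤ L := Cfsg.Agent.Helper14.map_subtype_le _
  have hLK : L ≤ normalizer (K : Set G) := by
    apply le_normalizer_of_map_cj_le
    intro l hl
    rintro _ ⟨_, ⟨n, hn, rfl⟩, rfl⟩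
    refine ⟨⟨l, hl⟩ * n * ⟨l, hl⟩⁻¹, hNn.conj_mem n hn ⟨l, hl⟩, ?_⟩
    simp
  have hcard : Nat.card K = Nat.card N :=
    Subgroup.card_map_of_injective (Subgroup.subtype_injective L)
  have hNV : Nat.card N = (V : Subgroup ↥L).index := hNc.index_eq_card.symm
  have hcop : (Nat.card K).Coprime t := by
    rw [hcard, hNV]
    exact ((Nat.Prime.coprime_iff_not_dvd ht).mpr V.not_dvd_index).symm
  refine ⟨K, hKL, hLK, hcop, ?_⟩
  intro X hXL hXt
  apply Cfsg.Agent.H9.BG12.le_of_coprime_card_relIndex hXL hKL hLK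
  rw [hK, relIndex_map_subtype, hNc.symm.index_eq_card]
  obtain ⟨k, hk⟩ := IsPGroup.iff_card.mp V.isPGroup'
  rw [hk]
  exact Nat.Coprime.pow_right k hXt

/-- a nontrivial element of a `p`-group has order divisible by `p` -/
theorem dvd_orderOf_of_isPGroup {p : ℕ} [Fact p.Prime] {P₁ : Subgroup G} (hP₁ : IsPGroup p P₁)
    {x : G} (hx : x ∈ P₁) (hx1 : x ≠ 1) : p ∣ orderOf x := by
  have hp : p.Prime := Fact.out
  obtain ⟨k, hk⟩ := hP₁ ⟨x, hx⟩
  have hk' : x ^ (p ^ k) = 1 := by simpa using congrArg Subtype.val hk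
  have h1 : orderOf x ∣ p ^ k := orderOf_dvd_of_pow_eq_one hk'
  obtain ⟨j, -, hj⟩ := (Nat.dvd_prime_pow hp).mp h1
  rcases Nat.eq_zero_or_pos j with h0 | h0
  · rw [h0, pow_zero, orderOf_eq_one_iff] at hj
    exact absurd hj hx1
  · rw [hj]
    exact dvd_pow_self p h0.ne'

/-- a `p`-subgroup of `H` with `p ∉ σ(H)` meets `H_σ` trivially -/
theorem inf_sigmaCore_eq_bot {H : Subgroup G} {p : ℕ} [Fact p.Prime] (hpσ : p ∉ Cfsg.sigma H)
    {P₁ : Subgroup G} (hP₁ : IsPGroup p P₁) : P₁ ⊓ Cfsg.sigmaCore H = ⊥ := by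
  have hp : p.Prime := Fact.out
  rw [eq_bot_iff]
  intro x hx
  rw [mem_bot]
  by_contra hx1
  have h1 : orderOf x ∣ Nat.card (Cfsg.sigmaCore H) := by
    have := orderOf_dvd_natCard (⟨x, hx.2⟩ : ↥(Cfsg.sigmaCore H))
    rwa [Subgroup.orderOf_mk] at this
  exact hpσ (Cfsg.Agent.H9.BG12.mem_sigma_of_dvd_card_sigmaCore hp
    ((dvd_orderOf_of_isPGroup hP₁ hx.1 hx1).trans h1))

/-- the order of a `p`-group is a `π`-number as soon as `p ∈ π` -/
theorem isPiNum_of_isPGroup {p : ℕ} [Fact p.Prime] {π : Set ℕ} (hpπ : p ∈ π) {P₁ : Subgroup G}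
    (hP₁ : IsPGroup p P₁) : Cfsg.Agent.Lead.IsPiNum π (Nat.card P₁) := by
  have hp : p.Prime := Fact.out
  obtain ⟨k, hk⟩ := IsPGroup.iff_card.mp hP₁
  intro r hr hrd
  rw [hk] at hrd
  have := (Nat.prime_dvd_prime_iff_eq hr hp).mp (hr.dvd_of_dvd_pow hrd)
  exact this ▸ hpπ

/-- a `p`-subgroup of `H`, `p ∈ σ(H) ∪ τ₃(H)`, lies in `H'`. -/
theorem le_commutator_of_mem_sigma_or_tau3 (hG : Cfsg.IsMinSimpleOddOrder G) {H : Subgroup G}
    (hH : IsCoatom H) {p : ℕ} [Fact p.Prime] (hpH : p ∈ Cfsg.sigma H ∨ p ∈ Cfsg.tau3 H)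
    {P₁ : Subgroup G} (hP₁ : IsPGroup p P₁) (hP₁H : P₁ ≤ H) : P₁ ≤ ⁅H, H⁆ := by
  have hp : p.Prime := Fact.out
  rcases hpH with hσ | hτ
  · exact (Cfsg.Agent.H9.BG12.le_sigmaCore_of_isPGroup (st1350 hG) hH hσ hP₁H hP₁).trans
      (Cfsg.Agent.Helper21.BG10.sigmaCore_le_commutator hG (ctl hG) hH)
  · have hpσ : p ∉ Cfsg.sigma H := hτ.2.1
    obtain ⟨E, hE, hP₁E⟩ := Cfsg.Agent.Helper21.BG12.exists_complIn_sigmaCore_ge hG hH hP₁H
      (inf_sigmaCore_eq_bot hpσ hP₁)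
    have hEsolv : Group.IsSolvable ↥E :=
      Cfsg.Agent.H9.BG12.solvable_of_le_coatom hG hH hE.1
    obtain ⟨E₃, hE₃, hP₁E₃⟩ := Cfsg.Agent.Lead.exists_isPiHallOf_ge hEsolv hP₁E
      (isPiNum_of_isPGroup hτ hP₁)
    have h3 := ((Cfsg.Agent.S1415.result hG H hH E hE).2.2 E₃ hE₃).2.1
    exact hP₁E₃.trans (h3.trans (Subgroup.commutator_mono hE.1 hE.1))

/-- **B&G Lemma 13.1(a)**: `M`, `H` nonconjugate maximal subgroups, `p ∉ σ(M)`,
`p ∈ σ(H) ∪ τ₃(H)`: every `p`-subgroup of `M ∩ H` centralizes `M_σ ∩ H`. -/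
theorem lemma_13_1_a (hG : Cfsg.IsMinSimpleOddOrder G) {M H : Subgroup G} (hM : IsCoatom M)
    (hH : IsCoatom H) (hnc : ∀ g : G, H ≠ M.map (cj g)) {p : ℕ} [Fact p.Prime]
    (hpM : p ∉ Cfsg.sigma M) (hpH : p ∈ Cfsg.sigma H ∨ p ∈ Cfsg.tau3 H) {P₁ : Subgroup G}
    (hP₁ : IsPGroup p P₁) (hP₁M : P₁ ≤ M) (hP₁H : P₁ ≤ H) :
    Cfsg.sigmaCore M ⊓ H ≤ centralizer (P₁ : Set G) := by
  have hp : p.Prime := Fact.out
  have hP₁c := le_commutator_of_mem_sigma_or_tau3 hG hH hpH hP₁ hP₁H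
  set D := Cfsg.sigmaCore M ⊓ H with hD
  have hP₁D : P₁ ≤ normalizer (D : Set G) := by
    refine le_trans ?_ (Cfsg.Agent.Helper7.normalizer_inf_normalizer_le_normalizer_inf _ _)
    exact le_inf (hP₁M.trans (le_normalizer_sigmaCore M))
      (hP₁H.trans le_normalizer)
  have hDM : D ≤ M := inf_le_left.trans (sigmaCore_le M)
  have hcop : (Nat.card P₁).Coprime (Nat.card D) := by
    obtain ⟨k, hk⟩ := IsPGroup.iff_card.mp hP₁
    rw [hk]
    apply Nat.Coprime.pow_left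
    rw [Nat.Prime.coprime_iff_not_dvd hp]
    intro hd
    exact hpM (Cfsg.Agent.H9.BG12.mem_sigma_of_dvd_card_sigmaCore hp
      (hd.trans (Subgroup.card_dvd_of_le inf_le_left)))
  have hsolv : Group.IsSolvable ↥P₁ ∨ Group.IsSolvable ↥D :=
    Or.inr (Cfsg.Agent.H9.BG12.solvable_of_le_coatom hG hM hDM)
  have h1 := Cfsg.Agent.Lead.coprime_commutator_commutator P₁ D hP₁D hcop hsolv
  set W := ⁅D, P₁⁆ with hW
  have hWD : W ≤ D := Cfsg.Agent.Lead.commutator_le_of_le_normalizer hP₁D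
  have hWc : W ≤ ⁅H, H⁆ := Subgroup.commutator_mono inf_le_right hP₁H
  have hW2 : ⁅W, P₁⁆ = ⊥ := by
    by_contra hne
    have hcard : Nat.card ↥⁅W, P₁⁆ ≠ 1 := fun h => hne (Subgroup.card_eq_one.mp h)
    obtain ⟨t, ht, htd⟩ := Nat.exists_prime_and_dvd hcard
    have : Fact t.Prime := ⟨ht⟩
    have hW2W : ⁅W, P₁⁆ ≤ W := by
      rw [hW, h1]
    have htσ : t ∈ Cfsg.sigma M :=
      Cfsg.Agent.H9.BG12.mem_sigma_of_dvd_card_sigmaCore ht
        (htd.trans (Subgroup.card_dvd_of_le (hW2W.trans (hWD.trans inf_le_left))))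
    have htp : t ≠ p := fun h => hpM (h ▸ htσ)
    have htβ : t ∉ Cfsg.beta H := fun h =>
      Cfsg.Agent.Helper4.BG12SD.alpha_sigma_disjoint hG hM hH hnc h.1 htσ
    have htH : t ∣ Nat.card H :=
      htd.trans (Subgroup.card_dvd_of_le (hW2W.trans (hWD.trans inf_le_right)))
    have hnpc := ((Cfsg.Agent.S1414.result hG H hH).2.2.2.2 t ht htH htβ).1
    obtain ⟨K, hKc, hcK, hKt, hKall⟩ := exists_normal_compl hnpc
    have hP₁K : P₁ ≤ K := by
      apply hKall P₁ hP₁c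
      obtain ⟨k, hk⟩ := IsPGroup.iff_card.mp hP₁
      rw [hk]
      apply Nat.Coprime.pow_left
      exact (Nat.coprime_primes hp ht).mpr (Ne.symm htp)
    have hWK : W ≤ normalizer (K : Set G) := hWc.trans hcK
    have h2 : ⁅W, P₁⁆ ≤ K := by
      have h3 : ⁅K, W⁆ ≤ K := Cfsg.Agent.Lead.commutator_le_of_le_normalizer hWK
      rw [Subgroup.commutator_comm] at h3
      exact (Subgroup.commutator_mono le_rfl hP₁K).trans h3
    have h4 : t ∣ Nat.card K := htd.trans (Subgroup.card_dvd_of_le h2)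
    exact (Nat.Prime.coprime_iff_not_dvd ht).mp hKt.symm h4
  have hWbot : W = ⊥ := by
    rw [← hW2]
    exact h1.symm
  exact Subgroup.commutator_eq_bot_iff_le_centralizer.mp hWbot

end Cfsg.Agent.Helper21.BG13
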