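import Mathlib
import Cfsg.Prelude.Def_OddOrderLocal
import Cfsg.Agent.Helper21.BG13b
import Cfsg.Agent.Helper17.Basic
import Cfsg.Agent.S1417
import Cfsg.Agent.S1418
import Cfsg.Agent.S1420
import Cfsg.Agent.S1423
import Cfsg.Agent.S1424

/-!
# B&G section 13: the `τ₂`-case of Lemma 13.1(a) / 13.2(b)

`M`, `H` nonconjugate maximal subgroups, `r ∈ τ₂(H)`, `r ∉ σ(M)`: every subgroup of order `r`
of `M ∩ H` centralizes `M_σ ∩ H`.
-/

set_option autoImplicit false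
set_option linter.unusedSectionVars false
set_option linter.unusedVariables false

namespace Cfsg.Agent.Helper21.BG13

open Subgroup Cfsg
open Cfsg.Agent.Helper14 (IsSylowIn cj map_cj_le_iff map_cj_mul map_cj_one map_cj_normalizer
  mem_normalizer_iff_map_cj map_cj_eq_self_of_mem le_normalizer_of_map_cj_le mem_map_cj
  exists_isSylowIn_ge exists_isSylowIn isSylowIn_of_sylow)
open Cfsg.Agent.Helper21.BG10 (Ctl101 Uniq96 relIndex_map_subtype le_normalizer_sigmaCore sigmaCore_le)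
open Cfsg.Agent.Helper21.BG12 (ctl st1350 uniq)
open Cfsg.Agent.H9.BG12 (St1350 St1404 St1420 St1423 NC1210)

universe u
variable {G : Type u} [Group G] [Finite G]

theorem st1417 (hG : Cfsg.IsMinSimpleOddOrder G) : Cfsg.Agent.Helper21.BG12.St1417 G :=
  fun M hM p _ hp A hA => Cfsg.Agent.S1417.result hG M hM p hp A hA

theorem st1418 (hG : Cfsg.IsMinSimpleOddOrder G) : Cfsg.Agent.Helper21.BG12.St1418 G :=
  fun M hM E hE p _ hp A hA => Cfsg.Agent.S1418.result hG M hM E hE p hp A hA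

/-- an elementary abelian subgroup of order `r ^ 2` inside a given complement of `H_σ`,
`r ∈ τ₂(H)` -/
theorem exists_elementary_sq_le_compl (hG : Cfsg.IsMinSimpleOddOrder G) {H : Subgroup G}
    (hH : IsCoatom H) {F : Subgroup G} (hF : Cfsg.IsComplIn F (Cfsg.sigmaCore H) H) {r : ℕ}
    [Fact r.Prime] (hr : r ∈ Cfsg.tau2 H) :
    ∃ A : Subgroup G, A ≤ F ∧ Cfsg.IsElementaryAbelian r A ∧ Nat.card A = r ^ 2 := by
  have hsolv : Group.IsSolvable ↥H := hG.2.2.2 H hH.1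
  obtain ⟨A₀, hA₀H, hA₀e, hA₀c⟩ := Cfsg.Agent.Helper4.BG10.exists_elementary_sq hr.2.2.1 hr.2.2.2
  have hFH := Cfsg.Agent.H9.BG12.isPiHallOf_compl (st1350 hG) hH hF
  have hA₀π : Cfsg.Agent.Lead.IsPiNum (Cfsg.sigma H)ᶜ (Nat.card A₀) :=
    isPiNum_of_isPGroup (π := (Cfsg.sigma H)ᶜ) hr.2.1
      (Cfsg.Agent.Helper4.BG10.isPGroup_of_elementary hA₀e)
  obtain ⟨m, hm, hmA⟩ := Cfsg.Agent.H9.BG12.exists_conj_le_of_hall hsolv hFH hA₀H hA₀π
  refine ⟨A₀.map (cj m), hmA, Cfsg.Agent.Helper26.isElementaryAbelian_map (cj m) hA₀e, ?_⟩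
  rw [Subgroup.card_map_of_injective (Cfsg.Agent.Helper14.cj_injective m)]; exact hA₀c

/-- **B&G Lemma 13.1(a), `τ₂`-case**. -/
theorem lemma_13_1_tau2 (hG : Cfsg.IsMinSimpleOddOrder G) {M H : Subgroup G} (hM : IsCoatom M)
    (hH : IsCoatom H) (hnc : ∀ g : G, H ≠ M.map (cj g)) {r : ℕ} [Fact r.Prime]
    (hrM : r ∉ Cfsg.sigma M) (hrH : r ∈ Cfsg.tau2 H) {R : Subgroup G} (hRc : Nat.card R = r)
    (hRM : R ≤ M) (hRH : R ≤ H) :
    Cfsg.sigmaCore M ⊓ H ≤ centralizer (R : Set G) := by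
  have hr : r.Prime := Fact.out
  obtain ⟨A₀, hA₀H, hA₀e, hA₀c⟩ := Cfsg.Agent.Helper4.BG10.exists_elementary_sq hrH.2.2.1 hrH.2.2.2
  have hnil := (Cfsg.Agent.S1417.result hG H hH r hrH A₀ ⟨hA₀H, hA₀e, hA₀c⟩).1
  set D := Cfsg.sigmaCore M ⊓ H with hD
  have hRD : R ≤ normalizer (D : Set G) := by
    refine le_trans ?_ (Cfsg.Agent.Helper7.normalizer_inf_normalizer_le_normalizer_inf _ _)
    exact le_inf (hRM.trans (le_normalizer_sigmaCore M)) (hRH.trans le_normalizer)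
  have hDH : D ≤ H := inf_le_right
  have hDRH : D ⊔ R ≤ H := sup_le hDH hRH
  have hbot : (D ⊔ R) ⊓ Cfsg.sigmaCore H = ⊥ := by
    apply Subgroup.inf_eq_bot_of_coprime
    apply Nat.Coprime.symm
    apply Nat.coprime_of_dvd
    intro t ht htσ htd
    have htσH : t ∈ Cfsg.sigma H := Cfsg.Agent.H9.BG12.mem_sigma_of_dvd_card_sigmaCore ht htσ
    have h1 := Cfsg.Agent.Helper17.card_sup_mul_card_inf D R hRD
    have h2 : t ∣ Nat.card D * Nat.card R := by
      rw [← h1]; exact Dvd.dvd.mul_right htd _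
    rcases (Nat.Prime.dvd_mul ht).mp h2 with h3 | h3
    · have htσM : t ∈ Cfsg.sigma M :=
        Cfsg.Agent.H9.BG12.mem_sigma_of_dvd_card_sigmaCore ht
          (h3.trans (Subgroup.card_dvd_of_le inf_le_left))
      exact Cfsg.Agent.Helper4.BG12SD.sigma_disjoint_of_nilpotent hG hM hH hnc hnil htσH htσM
    · rw [hRc] at h3
      have := (Nat.prime_dvd_prime_iff_eq ht hr).mp h3
      exact hrH.2.1 (this ▸ htσH)
  obtain ⟨F, hF, hDRF⟩ := Cfsg.Agent.Helper21.BG12.exists_complIn_sigmaCore_ge hG hH hDRH hbot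
  obtain ⟨A, hAF, hAe, hAc⟩ := exists_elementary_sq_le_compl hG hH hF hrH
  obtain ⟨⟨hFA, hall⟩, -, -⟩ := Cfsg.Agent.S1418.result hG H hH F hF r hrH A ⟨hAF, hAe, hAc⟩
  have hRA : R ≤ A := hall R (le_sup_right.trans hDRF) hRc
  have hDF : D ≤ F := le_sup_left.trans hDRF
  have h1 : ⁅D, R⁆ ≤ D := Cfsg.Agent.Lead.commutator_le_of_le_normalizer hRD
  have h2 : ⁅D, R⁆ ≤ A := by
    have h3 : ⁅A, D⁆ ≤ A := Cfsg.Agent.Lead.commutator_le_of_le_normalizer (hDF.trans hFA)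
    rw [Subgroup.commutator_comm] at h3
    exact (Subgroup.commutator_mono le_rfl hRA).trans h3
  have h4 : D ⊓ A = ⊥ := by
    apply Subgroup.inf_eq_bot_of_coprime
    rw [hAc]
    apply Nat.Coprime.pow_right
    apply Nat.Coprime.symm
    rw [Nat.Prime.coprime_iff_not_dvd hr]
    intro hd
    exact hrM (Cfsg.Agent.H9.BG12.mem_sigma_of_dvd_card_sigmaCore hr
      (hd.trans (Subgroup.card_dvd_of_le inf_le_left)))
  have h5 : ⁅D, R⁆ = ⊥ := by
    rw [eq_bot_iff, ← h4]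
    exact le_inf h1 h2
  exact Subgroup.commutator_eq_bot_iff_le_centralizer.mp h5

end Cfsg.Agent.Helper21.BG13
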