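import Mathlib
import Cfsg.Prelude.Def_OddOrderLocal
import Cfsg.Agent.Helper21.BG13c
import Cfsg.Agent.Helper9.BG12n
import Cfsg.Agent.Helper16.BG11b
import Cfsg.Agent.S1406
import Cfsg.Agent.S1409
import Cfsg.Agent.Helper23.FrobFix

/-!
# B&G Lemma 12.16 (the part `C_{M_α}(PQ) = 1`) and its consequence "Lemma Y"

`LemX G` is the purely group theoretic Lemma X (a `QP`-invariant `s`-group `S`, `P` fixed point
free on `Q`, with `C_S(P)`, `C_S(Q)` cyclic and `C_S(QP) ≠ 1` is cyclic), taken as a hypothesis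
here; it is proved in `Cfsg.Agent.Helper23.FrobFix` (see `lemX` at the end of this file).
-/

set_option autoImplicit false
set_option linter.unusedSectionVars false
set_option linter.unusedVariables false

namespace Cfsg.Agent.Helper21.BG12

open Subgroup Cfsg
open Cfsg.Agent.Helper14 (IsSylowIn cj map_cj_le_iff map_cj_mul map_cj_one map_cj_normalizer
  mem_normalizer_iff_map_cj map_cj_eq_self_of_mem le_normalizer_of_map_cj_le mem_map_cj
  exists_isSylowIn_ge exists_isSylowIn isSylowIn_of_sylow)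
open Cfsg.Agent.Helper21.BG10 (Ctl101 Uniq96 relIndex_map_subtype le_normalizer_sigmaCore sigmaCore_le
  alphaCore_le le_normalizer_alphaCore card_alphaCore_isPiNum)
open Cfsg.Agent.H9.BG12 (St1350 St1404 St1420 St1423 NC1210)

universe u

/-- Lemma X, as a hypothesis on the group `G`. -/
def LemX (G : Type u) [Group G] : Prop :=
  ∀ (S Q P : Subgroup G) (s : ℕ) [Fact s.Prime], IsPGroup s S →
    Q ≤ normalizer (S : Set G) → P ≤ normalizer (S : Set G) → P ≤ normalizer (Q : Set G) →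
    (Nat.card Q).Coprime s → (Nat.card P).Coprime s →
    (∀ k ∈ P, k ≠ 1 → Q ⊓ centralizer ({k} : Set G) = ⊥) →
    IsCyclic ↥(S ⊓ centralizer (P : Set G)) → IsCyclic ↥(S ⊓ centralizer (Q : Set G)) →
    S ⊓ centralizer (P : Set G) ⊓ centralizer (Q : Set G) ≠ ⊥ → IsCyclic ↥S

variable {G : Type u} [Group G] [Finite G]

theorem centralizer_zpowers' (y : G) :
    centralizer ((zpowers y : Subgroup G) : Set G) = centralizer ({y} : Set G) := by
  apply le_antisymm
  · exact Subgroup.centralizer_le (by rw [Set.singleton_subset_iff]; exact mem_zpowers y)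
  · intro g hg
    rw [Subgroup.mem_centralizer_iff]
    intro z hz
    obtain ⟨i, rfl⟩ := Subgroup.mem_zpowers_iff.mp hz
    have h1 : y * g = g * y := (Subgroup.mem_centralizer_iff.mp hg) y rfl
    exact ((Commute.zpow_left (show Commute y g from h1) i)).eq

theorem nc1210 (hG : Cfsg.IsMinSimpleOddOrder G) : NC1210 G :=
  Cfsg.Agent.H9.BG12.nc1210_of (st1350 hG)
    (fun M hM E hE => Cfsg.Agent.S1420.result hG M hM E hE)

/-- a proper nontrivial subgroup whose centralizer in `L` lies in a unique maximal subgroup has its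
normalizer in `L` -/
theorem normalizer_le_of_inUniqueMaximal (hG : Cfsg.IsMinSimpleOddOrder G) {L : Subgroup G}
    (hL : IsCoatom L) {X : Subgroup G} (hX1 : X ≠ ⊥) (hXL : X ≤ L)
    (hU : Cfsg.InUniqueMaximal (L ⊓ centralizer (X : Set G))) : normalizer (X : Set G) ≤ L := by
  have hS : IsSimpleGroup G := hG.2.1
  have hXt : X ≠ ⊤ := fun h => hL.1 (top_le_iff.mp (h ▸ hXL))
  obtain ⟨L', hL', hNL'⟩ := Cfsg.Agent.Helper21.BG10.exists_coatom_normalizer_le hS hX1 hXt
  have h1 : L ⊓ centralizer (X : Set G) ≤ L' :=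
    inf_le_right.trans ((centralizer_le_normalizer _).trans hNL')
  have h2 : L' = L := hU.unique ⟨hL', h1⟩ ⟨hL, inf_le_left⟩
  exact h2 ▸ hNL'

/-- **(S1406, contrapositive)**: if `C_L(X)` is not in a unique maximal subgroup (`X` an
`α(L)'`-subgroup of `L`), the centralizer of `X` in an `s`-subgroup of `L_α` is cyclic. -/
theorem isCyclic_inf_centralizer (hG : Cfsg.IsMinSimpleOddOrder G) {L : Subgroup G}
    (hL : IsCoatom L) {X : Subgroup G} (hXL : X ≤ L)
    (hXα : ∀ p : ℕ, p.Prime → p ∣ Nat.card X → p ∉ Cfsg.alpha L)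
    (hXU : ¬ Cfsg.InUniqueMaximal (L ⊓ centralizer (X : Set G))) {s : ℕ} [Fact s.Prime]
    {S : Subgroup G} (hS : IsPGroup s S) (hSα : S ≤ Cfsg.alphaCore L) :
    IsCyclic ↥(S ⊓ centralizer (X : Set G)) := by
  have hs : s.Prime := Fact.out
  have hr : Cfsg.RankLE 1 ↥(Cfsg.alphaCore L ⊓ centralizer (X : Set G)) := by
    by_contra h
    exact hXU (Cfsg.Agent.S1406.result hG L hL X hXL hXα h)
  have hC : IsPGroup s ↥(S ⊓ centralizer (X : Set G)) := hS.to_le inf_le_left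
  apply Cfsg.Agent.H9.BG12.isCyclic_of_pRankLE_one hG hC
  by_contra hn
  obtain ⟨F, hFC, hFe, hFcard⟩ :=
    Cfsg.Agent.Lead.TT.exists_elementary_of_not_pRankLE' 1 _ hn
  have h1 : F ≤ Cfsg.alphaCore L ⊓ centralizer (X : Set G) :=
    hFC.trans (inf_le_inf_right _ hSα)
  have h2 : s ^ 1 < Nat.card F := by
    refine lt_of_lt_of_le ?_ hFcard
    exact Nat.pow_lt_pow_right hs.one_lt (by norm_num)
  exact Cfsg.Agent.Lead.BG9.not_pRankLE_of_elementary h1 hFe h2 (hr s hs)

/-- for `t ∈ τ₁(L)` and `T ≤ L` of order `t`, `C_L(T)` is not in a unique maximal subgroup -/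
theorem not_inUniqueMaximal_of_tau1 (hG : Cfsg.IsMinSimpleOddOrder G) {L : Subgroup G}
    (hL : IsCoatom L) {t : ℕ} [Fact t.Prime] (ht : t ∈ Cfsg.tau1 L) {T : Subgroup G}
    (hTL : T ≤ L) (hTc : Nat.card T = t) :
    ¬ Cfsg.InUniqueMaximal (L ⊓ centralizer (T : Set G)) := by
  have htp : t.Prime := Fact.out
  intro hU
  have hT1 : T ≠ ⊥ := by
    intro h
    rw [h, Subgroup.card_bot] at hTc
    exact htp.one_lt.ne hTc
  have hN := normalizer_le_of_inUniqueMaximal hG hL hT1 hTL hU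
  exact (Cfsg.Agent.S1409.result hG L hL t ht.2.1 T hTc hN).1.2 ht.2.2.2.2

/-- **B&G Lemma 12.16** (the regularity part): `t ∈ τ₁(L)`, `T ≤ L` of order `t` acting fixed
point freely on the `q`-subgroup `Q` of `L`, `q ∉ α(L)`, and `C_L(Q)` not in a unique maximal
subgroup.  Then no nonidentity element of `L_α` centralizes `T` and `Q`. -/
theorem lem_12_16 (hG : Cfsg.IsMinSimpleOddOrder G) (hX : LemX G) {L : Subgroup G}
    (hL : IsCoatom L) {t : ℕ} [Fact t.Prime] (ht : t ∈ Cfsg.tau1 L) {T : Subgroup G}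
    (hTL : T ≤ L) (hTc : Nat.card T = t) {q : ℕ} [Fact q.Prime] {Q : Subgroup G}
    (hQq : IsPGroup q Q) (hQL : Q ≤ L) (hqα : q ∉ Cfsg.alpha L)
    (hTQ : T ≤ normalizer (Q : Set G)) (hfpf : Q ⊓ centralizer (T : Set G) = ⊥)
    (hQU : ¬ Cfsg.InUniqueMaximal (L ⊓ centralizer (Q : Set G))) :
    Cfsg.alphaCore L ⊓ centralizer (T : Set G) ⊓ centralizer (Q : Set G) = ⊥ := by
  have htp : t.Prime := Fact.out
  have hqp : q.Prime := Fact.out
  by_contra hne
  set C := Cfsg.alphaCore L ⊓ centralizer (T : Set G) ⊓ centralizer (Q : Set G) with hC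
  have hcard : Nat.card C ≠ 1 := fun h => hne (Subgroup.card_eq_one.mp h)
  obtain ⟨s, hs, hsd⟩ := Nat.exists_prime_and_dvd hcard
  have : Fact s.Prime := ⟨hs⟩
  obtain ⟨y₀, hy₀⟩ := exists_prime_orderOf_dvd_card' (G := ↥C) s hsd
  set y : G := (y₀ : G) with hy
  have hyC : y ∈ C := y₀.2
  have hyo : orderOf y = s := by rw [hy, Subgroup.orderOf_coe]; exact hy₀
  have hy1 : y ≠ 1 := by
    intro h
    rw [h, orderOf_one] at hyo
    exact hs.one_lt.ne hyo
  have hsα : s ∈ Cfsg.alpha L :=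
    card_alphaCore_isPiNum L s hs (hsd.trans (Subgroup.card_dvd_of_le (inf_le_left.trans inf_le_left)))
  have htα : t ∉ Cfsg.alpha L := fun h =>
    h.2 (fun A hA hAe => (ht.2.2.2.2 A hA hAe).trans (Nat.pow_le_pow_right htp.pos (by norm_num)))
  have hst : s ≠ t := fun h => htα (h ▸ hsα)
  have hsq : s ≠ q := fun h => hqα (h ▸ hsα)
  -- the acting group
  set A := Q ⊔ T with hA
  have hAL : A ≤ L := sup_le hQL hTL
  set K := Cfsg.alphaCore L with hK
  have hAK : A ≤ normalizer (K : Set G) := hAL.trans (le_normalizer_alphaCore L)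
  have hKL : K ≤ L := alphaCore_le L
  have hcardA : Nat.card A ∣ Nat.card Q * Nat.card T := by
    have h1 := Cfsg.Agent.Helper17.card_sup_mul_card_inf Q T hTQ
    exact Dvd.intro _ h1
  have hcop : (Nat.card A).Coprime (Nat.card K) := by
    apply Nat.Coprime.coprime_dvd_left hcardA
    apply Nat.Coprime.mul_left
    · obtain ⟨k, hk⟩ := IsPGroup.iff_card.mp hQq
      rw [hk]
      apply Nat.Coprime.pow_left
      rw [Nat.Prime.coprime_iff_not_dvd hqp]
      exact fun hd => hqα (card_alphaCore_isPiNum L q hqp hd)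
    · rw [hTc, Nat.Prime.coprime_iff_not_dvd htp]
      exact fun hd => htα (card_alphaCore_isPiNum L t htp hd)
  have hsolv : Group.IsSolvable ↥A ∨ Group.IsSolvable ↥K :=
    Or.inr (Cfsg.Agent.H9.BG12.solvable_of_le_coatom hG hL hKL)
  -- the invariant `s`-subgroup `<y>`
  have hyK : y ∈ K := hyC.1.1
  have hyT : y ∈ centralizer (T : Set G) := hyC.1.2
  have hyQ : y ∈ centralizer (Q : Set G) := hyC.2
  have hUp : IsPGroup s ↥(zpowers y) := by
    apply IsPGroup.of_card (n := 1)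
    rw [Nat.card_zpowers, hyo, pow_one]
  have hUA : A ≤ normalizer ((zpowers y : Subgroup G) : Set G) := by
    have h1 : A ≤ centralizer ((zpowers y : Subgroup G) : Set G) := by
      rw [hA]
      apply sup_le
      · intro a ha
        rw [Subgroup.mem_centralizer_iff]
        intro z hz
        obtain ⟨i, rfl⟩ := Subgroup.mem_zpowers_iff.mp hz
        have h2 : a * y = y * a := (Subgroup.mem_centralizer_iff.mp hyQ) a ha
        exact ((Commute.zpow_right (show Commute a y from h2) i)).eq.symm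
      · intro a ha
        rw [Subgroup.mem_centralizer_iff]
        intro z hz
        obtain ⟨i, rfl⟩ := Subgroup.mem_zpowers_iff.mp hz
        have h2 : a * y = y * a := (Subgroup.mem_centralizer_iff.mp hyT) a ha
        exact ((Commute.zpow_right (show Commute a y from h2) i)).eq.symm
    exact h1.trans (centralizer_le_normalizer _)
  obtain ⟨S, hSsyl, hyS, hAS⟩ := Cfsg.Agent.Helper16.BG11.exists_invariant_sylow_ge A K (zpowers y)
    hAK hcop hsolv s (zpowers_le.mpr hyK) hUp hUA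
  have hSp : IsPGroup s S := hSsyl.2.1
  have hSK : S ≤ K := hSsyl.1
  have hQS : Q ≤ normalizer (S : Set G) := le_sup_left.trans hAS
  have hTS : T ≤ normalizer (S : Set G) := le_sup_right.trans hAS
  -- cyclicity of the two centralizers
  have hTα : ∀ p : ℕ, p.Prime → p ∣ Nat.card T → p ∉ Cfsg.alpha L := by
    intro p hp hd
    rw [hTc] at hd
    exact ((Nat.prime_dvd_prime_iff_eq hp htp).mp hd) ▸ htα
  have hQα : ∀ p : ℕ, p.Prime → p ∣ Nat.card Q → p ∉ Cfsg.alpha L := by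
    intro p hp hd
    obtain ⟨k, hk⟩ := IsPGroup.iff_card.mp hQq
    rw [hk] at hd
    exact ((Nat.prime_dvd_prime_iff_eq hp hqp).mp (hp.dvd_of_dvd_pow hd)) ▸ hqα
  have hCT := isCyclic_inf_centralizer hG hL hTL hTα
    (not_inUniqueMaximal_of_tau1 hG hL ht hTL hTc) hSp hSK
  have hCQ := isCyclic_inf_centralizer hG hL hQL hQα hQU hSp hSK
  -- fixed point freeness elementwise
  have hfpf' : ∀ k ∈ T, k ≠ 1 → Q ⊓ centralizer ({k} : Set G) = ⊥ := by
    intro k hk hk1
    have h1 : zpowers k = T := Cfsg.Agent.Helper16.BG11.zpowers_eq_of_card_prime htp hTc hk hk1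
    rw [← hfpf, ← h1, centralizer_zpowers']
  have hfix : S ⊓ centralizer (T : Set G) ⊓ centralizer (Q : Set G) ≠ ⊥ := by
    intro h
    have : y ∈ S ⊓ centralizer (T : Set G) ⊓ centralizer (Q : Set G) :=
      ⟨⟨hyS (mem_zpowers y), hyT⟩, hyQ⟩
    rw [h, mem_bot] at this
    exact hy1 this
  have hQs : (Nat.card Q).Coprime s := by
    obtain ⟨k, hk⟩ := IsPGroup.iff_card.mp hQq
    rw [hk]
    exact Nat.Coprime.pow_left k ((Nat.coprime_primes hqp hs).mpr (Ne.symm hsq))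
  have hTs : (Nat.card T).Coprime s := by
    rw [hTc]; exact (Nat.coprime_primes htp hs).mpr (Ne.symm hst)
  have hScyc : IsCyclic ↥S := hX S Q T s hSp hQS hTS hTQ hQs hTs hfpf' hCT hCQ hfix
  -- but `S` is a Sylow `s`-subgroup of `L`, `s ∈ α(L)`
  have hHall := (Cfsg.Agent.S1405.result hG L hL).1
  have hSL : IsSylowIn s S L :=
    Cfsg.Agent.Helper14.isSylowIn_of_not_dvd_relIndex hSsyl hKL (hHall.2.2 s hs hsα)
  have h1 := Cfsg.Agent.H9.BG12.pRankLE_one_of_cyclic_sylow hSL hScyc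
  exact hsα.2 (fun B hB hBe => (h1 B hB hBe).trans (Nat.pow_le_pow_right hs.pos (by norm_num)))

theorem alphaCore_le_sigmaCore (hG : Cfsg.IsMinSimpleOddOrder G) {L : Subgroup G}
    (hL : IsCoatom L) : Cfsg.alphaCore L ≤ Cfsg.sigmaCore L := by
  apply Subgroup.map_mono
  apply Cfsg.Agent.Helper4.BG12SD.piCore_mono
  intro p hp
  have : Fact p.Prime := ⟨hp.1⟩
  exact Cfsg.Agent.Helper4.BG10.alpha_subset_sigma hG (uniq hG) hL hp

/-- **Lemma Y**: `M`, `L` nonconjugate maximal subgroups, `q ∈ σ(M)`, `1 ≠ Q ≤ M ∩ L` a `q`-group,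
`t ∈ τ₁(L)`, `T ≤ L` of order `t` acting fixed point freely on `Q`, and a nonidentity element of
`L_α ∩ M` centralizing `T` and `Q`.  Then `N_G(Q) ≤ L` and `q ∈ σ(L)`. -/
theorem lemma_Y (hG : Cfsg.IsMinSimpleOddOrder G) (hX : LemX G) {M L : Subgroup G}
    (hM : IsCoatom M) (hL : IsCoatom L) (hnc : ∀ g : G, L ≠ M.map (cj g)) {q : ℕ} [Fact q.Prime]
    (hqM : q ∈ Cfsg.sigma M) {Q : Subgroup G} (hQq : IsPGroup q Q) (hQ1 : Q ≠ ⊥) (hQM : Q ≤ M)
    (hQL : Q ≤ L) {t : ℕ} [Fact t.Prime] (ht : t ∈ Cfsg.tau1 L) {T : Subgroup G} (hTL : T ≤ L)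
    (hTc : Nat.card T = t) (hTQ : T ≤ normalizer (Q : Set G))
    (hfpf : Q ⊓ centralizer (T : Set G) = ⊥) {x : G} (hx1 : x ≠ 1)
    (hxα : x ∈ Cfsg.alphaCore L) (hxM : x ∈ M) (hxT : x ∈ centralizer (T : Set G))
    (hxQ : x ∈ centralizer (Q : Set G)) :
    normalizer (Q : Set G) ≤ L ∧ q ∈ Cfsg.sigma L := by
  have hqα : q ∉ Cfsg.alpha L := fun h =>
    Cfsg.Agent.Helper4.BG12SD.alpha_sigma_disjoint hG hM hL hnc h hqM
  have hU : Cfsg.InUniqueMaximal (L ⊓ centralizer (Q : Set G)) := by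
    by_contra hQU
    have h1 := lem_12_16 hG hX hL ht hTL hTc hQq hQL hqα hTQ hfpf hQU
    have h2 : x ∈ Cfsg.alphaCore L ⊓ centralizer (T : Set G) ⊓ centralizer (Q : Set G) :=
      ⟨⟨hxα, hxT⟩, hxQ⟩
    rw [h1, mem_bot] at h2
    exact hx1 h2
  have hN := normalizer_le_of_inUniqueMaximal hG hL hQ1 hQL hU
  refine ⟨hN, ?_⟩
  by_contra hqL
  have hne : L ≠ M := by
    intro h
    apply hnc 1
    rw [h, map_cj_one]
  obtain ⟨S, hS, hQS⟩ := exists_isSylowIn_ge (le_inf hQM hQL) hQq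
  have e13 := lem_12_15_e13 hG (Cfsg.Agent.Helper21.BG13.st1417 hG)
    (Cfsg.Agent.Helper21.BG13.st1418 hG) (nc1210 hG) hM hL hne hqM hQq hQ1 hQM hN hS hQS hqL
  have hbot : (M ⊓ L) ⊓ Cfsg.sigmaCore L = ⊥ := e13.2.1.2.2.1
  have hxL : x ∈ L := alphaCore_le L hxα
  have h3 : x ∈ (M ⊓ L) ⊓ Cfsg.sigmaCore L :=
    ⟨⟨hxM, hxL⟩, alphaCore_le_sigmaCore hG hL hxα⟩
  rw [hbot, mem_bot] at h3
  exact hx1 h3

/-- Lemma X holds (helper23's `isCyclic_of_frob_fixed`). -/
theorem lemX : LemX G := fun S Q P s _ h1 h2 h3 h4 h5 h6 h7 h8 h9 h10 =>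
  Cfsg.Agent.Helper23.FrobFix.isCyclic_of_frob_fixed S Q P s h1 h2 h3 h4 h5 h6 h7 h8 h9 h10

end Cfsg.Agent.Helper21.BG12
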