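import Mathlib
import Cfsg.Prelude.Def_OddOrderLocal
import Cfsg.Agent.Helper21.BG12h
import Cfsg.Agent.Helper4.BG124
import Cfsg.Agent.Helper27.BG15A1
import Cfsg.Agent.S1422

/-!
# Tools for B&G Lemma 13.4 (`S1428`)

`L132c G` is the statement of B&G Lemma 13.2(c), taken as a hypothesis here.
-/

set_option autoImplicit false
set_option linter.unusedSectionVars false
set_option linter.unusedVariables false

namespace Cfsg.Agent.Helper21.BG13

open Subgroup Cfsg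
open scoped commutatorElement
open Cfsg.Agent.Helper14 (IsSylowIn cj map_cj_le_iff map_cj_mul map_cj_one map_cj_normalizer
  mem_normalizer_iff_map_cj map_cj_eq_self_of_mem le_normalizer_of_map_cj_le mem_map_cj
  exists_isSylowIn_ge exists_isSylowIn isSylowIn_of_sylow map_cj_map_cj_inv map_cj_inv_map_cj)
open Cfsg.Agent.Helper21.BG10 (relIndex_map_subtype le_normalizer_sigmaCore sigmaCore_le
  alphaCore_le le_normalizer_alphaCore card_alphaCore_isPiNum)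
open Cfsg.Agent.Helper21.BG12 (uniq ctl st1350 nc1210 LemX lem_12_16 lemma_Y alphaCore_le_sigmaCore)

universe u

/-- B&G Lemma 13.2(c), as a hypothesis on the group `G`. -/
def L132c (G : Type u) [Group G] : Prop :=
  ∀ (M H : Subgroup G), IsCoatom M → IsCoatom H → ∀ (p : ℕ) [Fact p.Prime],
    (p ∈ Cfsg.tau1 M ∨ p ∈ Cfsg.tau3 M) → ∀ (P : Subgroup G), P ≤ M → Nat.card P = p →
    normalizer (P : Set G) ≤ H →
    ¬ (M ⊓ H ≤ centralizer ((Cfsg.sigmaCore M ⊓ H : Subgroup G) : Set G)) →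
    p ∈ Cfsg.sigma H ∧ (p ∈ Cfsg.tau1 M → p ∈ Cfsg.beta H)

variable {G : Type u} [Group G] [Finite G]

/-- a prime divisor of `|H|` outside `σ(H)`, `τ₂(H)`, `τ₃(H)` lies in `τ₁(H)` -/
theorem mem_tau1_of_not (hG : Cfsg.IsMinSimpleOddOrder G) {H : Subgroup G} (hH : IsCoatom H)
    {r : ℕ} [Fact r.Prime] (hd : r ∣ Nat.card H) (hσ : r ∉ Cfsg.sigma H)
    (h2 : r ∉ Cfsg.tau2 H) (h3 : r ∉ Cfsg.tau3 H) : r ∈ Cfsg.tau1 H := by
  have hr : r.Prime := Fact.out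
  have hrk2 := Cfsg.Agent.Helper4.BG10.sigma'_pRankLE_two hG (uniq hG) hH hσ
  have hrk1 : Cfsg.PRankLE r 1 H := by
    by_contra h
    exact h2 ⟨hr, hσ, hrk2, h⟩
  exact ⟨hr, hσ, hd, fun hd' => h3 ⟨hr, hσ, hd', hrk1⟩, hrk1⟩

/-- `p ∉ σ(M)`, `r_p(M) ≤ 1`, `N_G(P) ≤ H` with `|P| = p`: then `H` is not conjugate to `M` -/
theorem not_conj_of_rank_one (hG : Cfsg.IsMinSimpleOddOrder G) {M H : Subgroup G}
    (hM : IsCoatom M) (hH : IsCoatom H) {p : ℕ} [Fact p.Prime] (hpσ : p ∉ Cfsg.sigma M)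
    (hrk : Cfsg.PRankLE p 1 M) {P : Subgroup G} (hPc : Nat.card P = p)
    (hNP : normalizer (P : Set G) ≤ H) : ∀ g : G, H ≠ M.map (cj g) := by
  intro g hg
  by_cases hpH : p ∈ Cfsg.sigma H
  · have h1 := Cfsg.Agent.Helper16.BG11.mem_sigma_map_cj (M := H) g⁻¹ hpH
    rw [hg, map_cj_map_cj_inv] at h1
    exact hpσ h1
  · have h1 := (Cfsg.Agent.S1409.result hG H hH p hpH P hPc hNP).1.2
    apply h1
    rw [hg]
    exact Cfsg.Agent.H9.BG12.pRankLE_map_cj g hrk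

theorem not_conj_symm {M H : Subgroup G} (h : ∀ g : G, H ≠ M.map (cj g)) :
    ∀ g : G, M ≠ H.map (cj g) := by
  intro g hg
  apply h g⁻¹
  rw [hg, map_cj_map_cj_inv]

theorem ne_of_not_conj {M H : Subgroup G} (h : ∀ g : G, H ≠ M.map (cj g)) : H ≠ M := by
  intro hHM
  apply h 1
  rw [hHM, map_cj_one]

/-- a `q`-subgroup of `M`, `q ∈ α(M)`, lies in `M_α` -/
theorem le_alphaCore_of_isPGroup' (hG : Cfsg.IsMinSimpleOddOrder G) {M F : Subgroup G}
    (hM : IsCoatom M) {q : ℕ} [hq : Fact q.Prime] (hqα : q ∈ Cfsg.alpha M) (hFM : F ≤ M)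
    (hFq : IsPGroup q F) : F ≤ Cfsg.alphaCore M := by
  apply Cfsg.Agent.H9.BG12.le_of_coprime_card_relIndex hFM (alphaCore_le M)
    (le_normalizer_alphaCore M)
  obtain ⟨k, hk⟩ := IsPGroup.iff_card.mp hFq
  rw [hk]
  exact Nat.Coprime.pow_left k ((Nat.Prime.coprime_iff_not_dvd hq.out).mpr
    ((Cfsg.Agent.S1405.result hG M hM).1.2.2 q hq.out hqα))

/-- coprime action: a group `R` acting on `D` without centralizing it does not centralize
some `R`-invariant Sylow subgroup of `D` -/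
theorem exists_invariant_sylow_not_le {R D : Subgroup G} (hRD : R ≤ normalizer (D : Set G))
    (hcop : (Nat.card R).Coprime (Nat.card D))
    (hsolv : Group.IsSolvable ↥R ∨ Group.IsSolvable ↥D)
    (hnc : ¬ D ≤ centralizer (R : Set G)) :
    ∃ (q : ℕ) (_ : Fact q.Prime) (Q₀ : Subgroup G), IsSylowIn q Q₀ D ∧
      R ≤ normalizer (Q₀ : Set G) ∧ ¬ Q₀ ≤ centralizer (R : Set G) := by
  by_contra hcon
  push Not at hcon
  apply hnc
  apply Cfsg.Agent.Lead.BG9.le_of_forall_sylow_le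
  intro q hq
  obtain ⟨Q, hQ, hRQ⟩ := Cfsg.Agent.Helper16.BG11.exists_invariant_sylow R D hRD hcop hsolv q
  refine ⟨hQ.toSylow, ?_⟩
  rw [hQ.toSylow_map]
  exact hcon q hq Q hQ hRQ

theorem piCoreOf_le' (π : Set ℕ) (M : Subgroup G) : Cfsg.piCoreOf π M ≤ M :=
  Subgroup.map_subtype_le _

theorem le_normalizer_piCoreOf (π : Set ℕ) (M : Subgroup G) :
    M ≤ normalizer (Cfsg.piCoreOf π M : Set G) := by
  have h1 : ((Cfsg.piCoreOf π M).subgroupOf M).Normal := by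
    unfold Cfsg.piCoreOf Subgroup.subgroupOf
    rw [Subgroup.comap_map_eq_self_of_injective (Subgroup.subtype_injective M)]
    infer_instance
  exact (Subgroup.normal_subgroupOf_iff_le_normalizer (piCoreOf_le' π M)).mp h1

theorem card_piCoreOf_isPiNum (π : Set ℕ) (M : Subgroup G) :
    ∀ r : ℕ, r.Prime → r ∣ Nat.card (Cfsg.piCoreOf π M) → r ∈ π := by
  intro r hr hd
  unfold Cfsg.piCoreOf at hd
  rw [Subgroup.card_map_of_injective (Subgroup.subtype_injective M)] at hd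
  exact Cfsg.Agent.Helper19.piCore_isPiNum (G := ↥M) π r hr hd

/-- if `M = B I` with `B` normal in `M`, then `M' ≤ B I'` -/
theorem commutator_le_sup_of_le_sup {M B I : Subgroup G} (hBM : B ≤ M)
    (hMB : M ≤ normalizer (B : Set G)) (hIM : I ≤ M) (hle : M ≤ B ⊔ I) :
    ⁅M, M⁆ ≤ B ⊔ ⁅I, I⁆ := by
  have hdec : ∀ a ∈ M, ∃ b ∈ B, ∃ i ∈ I, a = b * i := by
    intro a ha
    have h1 : a ∈ ((B ⊔ I : Subgroup G) : Set G) := hle ha
    rw [Subgroup.coe_mul_of_right_le_normalizer_left B I (hIM.trans hMB)] at h1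
    obtain ⟨b, hb, i, hi, rfl⟩ := Set.mem_mul.mp h1
    exact ⟨b, hb, i, hi, rfl⟩
  rw [Subgroup.commutator_le]
  intro a ha b hb
  obtain ⟨n₁, hn₁, i₁, hi₁, rfl⟩ := hdec a ha
  obtain ⟨n₂, hn₂, i₂, hi₂, rfl⟩ := hdec b hb
  have hconj : ∀ i ∈ I, ∀ n ∈ B, i * n * i⁻¹ ∈ B := fun i hi n hn =>
    (Subgroup.mem_normalizer_iff.mp (hMB (hIM hi)) n).mp hn
  have e : ⁅n₁ * i₁, n₂ * i₂⁆ =
      (n₁ * (i₁ * n₂ * i₁⁻¹)) * ⁅i₁, i₂⁆ * ((i₂ * n₁⁻¹ * i₂⁻¹) * n₂⁻¹) := by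
    simp only [commutatorElement_def]
    group
  rw [e]
  apply Subgroup.mul_mem
  · apply Subgroup.mul_mem
    · exact (le_sup_left : B ≤ B ⊔ ⁅I, I⁆) (B.mul_mem hn₁ (hconj i₁ hi₁ n₂ hn₂))
    · exact (le_sup_right : ⁅I, I⁆ ≤ B ⊔ ⁅I, I⁆) (Subgroup.commutator_mem_commutator hi₁ hi₂)
  · exact (le_sup_left : B ≤ B ⊔ ⁅I, I⁆)
      (B.mul_mem (hconj i₂ hi₂ _ (B.inv_mem hn₁)) (B.inv_mem hn₂))

/-- `M = M_β (H ∩ M)`, `r ∈ τ₁(H)`, `r ∉ σ(M)` and `r ∣ |M|` imply `r ∈ τ₁(M)` -/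
theorem mem_tau1_of_le_sup (hG : Cfsg.IsMinSimpleOddOrder G) {M H : Subgroup G}
    (hM : IsCoatom M) (hH : IsCoatom H)
    (hle : M ≤ Cfsg.piCoreOf (Cfsg.beta M) M ⊔ H ⊓ M) {r : ℕ} [Fact r.Prime]
    (hrH : r ∈ Cfsg.tau1 H) (hrM : r ∉ Cfsg.sigma M) (hd : r ∣ Nat.card M) :
    r ∈ Cfsg.tau1 M := by
  have hr : r.Prime := Fact.out
  set B := Cfsg.piCoreOf (Cfsg.beta M) M with hB
  set I := H ⊓ M with hI
  have hBM : B ≤ M := piCoreOf_le' _ M
  have hMB : M ≤ normalizer (B : Set G) := le_normalizer_piCoreOf _ M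
  have hIM : I ≤ M := inf_le_right
  have hIH : I ≤ H := inf_le_left
  have hrB : ¬ r ∣ Nat.card B := by
    intro h
    have h1 : r ∈ Cfsg.beta M := card_piCoreOf_isPiNum _ M r hr h
    exact hrM (Cfsg.Agent.Helper4.BG10.alpha_subset_sigma hG (uniq hG) hM h1.1)
  -- the index of `I` in `M` is prime to `r`
  have hidx : ¬ r ∣ I.relIndex M := by
    have h1 : I ⊔ B = M := le_antisymm (sup_le hIM hBM) (by rw [sup_comm]; exact hle)
    have h2 := Cfsg.Agent.Lead.relIndex_sup_of_le_normalizer I B (hIM.trans hMB)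
    rw [h1] at h2
    rw [h2]
    exact fun h => hrB (h.trans (Subgroup.relIndex_dvd_card _ _))
  obtain ⟨S, hS⟩ := exists_isSylowIn (p := r) I
  have hSM : IsSylowIn r S M := Cfsg.Agent.Helper14.isSylowIn_of_not_dvd_relIndex hS hIM hidx
  have hScyc : IsCyclic ↥S := by
    apply Cfsg.Agent.H9.BG12.isCyclic_of_pRankLE_one hG hS.2.1
    intro A hA hAe
    -- transport an elementary abelian subgroup of `S` to `H`
    have hSH : S ≤ H := hS.1.trans hIH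
    have := hrH.2.2.2.2 ((A.map S.subtype).subgroupOf H) ?_ ?_
    · rw [Nat.card_congr (Subgroup.subgroupOfEquivOfLe
        ((Subgroup.map_subtype_le A).trans hSH)).toEquiv,
        Subgroup.card_map_of_injective (Subgroup.subtype_injective S)] at this
      exact this
    · constructor
      constructor
      rintro ⟨⟨x, hxH⟩, hx⟩ ⟨⟨y, hyH⟩, hy⟩
      rw [Subgroup.mem_subgroupOf] at hx hy
      obtain ⟨x', hx', rfl⟩ := hx
      obtain ⟨y', hy', rfl⟩ := hy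
      apply Subtype.ext
      apply Subtype.ext
      have := hA.is_comm.comm ⟨x', hx'⟩ ⟨y', hy'⟩
      have h2 := congrArg (fun z : ↥A => ((z : ↥S) : G)) this
      simpa using h2
    · rintro ⟨x, hxH⟩ hx
      rw [Subgroup.mem_subgroupOf] at hx
      obtain ⟨x', hx', rfl⟩ := hx
      apply Subtype.ext
      have := hAe x' hx'
      have h2 := congrArg (fun z : ↥S => (z : G)) this
      simpa using h2
  have hrk : Cfsg.PRankLE r 1 M := Cfsg.Agent.H9.BG12.pRankLE_one_of_cyclic_sylow hSM hScyc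
  refine ⟨hr, hrM, hd, ?_, hrk⟩
  intro hdc
  have h1 : ⁅M, M⁆ ≤ B ⊔ ⁅I, I⁆ := commutator_le_sup_of_le_sup hBM hMB hIM hle
  have h2 : ⁅I, I⁆ ≤ normalizer (B : Set G) := by
    refine le_trans ?_ (hIM.trans hMB)
    rw [Subgroup.commutator_le]
    intro a ha b hb
    rw [commutatorElement_def]
    exact I.mul_mem (I.mul_mem (I.mul_mem ha hb) (I.inv_mem ha)) (I.inv_mem hb)
  have h3 := Cfsg.Agent.Helper17.card_sup_mul_card_inf B ⁅I, I⁆ h2
  have h4 : r ∣ Nat.card ↥(B ⊔ ⁅I, I⁆) := hdc.trans (Subgroup.card_dvd_of_le h1)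
  have h5 : r ∣ Nat.card B * Nat.card ↥⁅I, I⁆ := by
    rw [← h3]; exact h4.mul_right _
  rcases (Nat.Prime.dvd_mul hr).mp h5 with h | h
  · exact hrB h
  · exact hrH.2.2.2.1 (h.trans (Subgroup.card_dvd_of_le (Subgroup.commutator_mono hIH hIH)))

theorem le_normalizer_commutator' {A B K : Subgroup G} (hA : K ≤ normalizer (A : Set G))
    (hB : K ≤ normalizer (B : Set G)) : K ≤ normalizer ((⁅A, B⁆ : Subgroup G) : Set G) := by
  intro g hg
  rw [mem_normalizer_iff_map_cj, Subgroup.map_commutator, mem_normalizer_iff_map_cj.1 (hA hg),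
    mem_normalizer_iff_map_cj.1 (hB hg)]

theorem le_normalizer_sigmaCore_inf {M H R : Subgroup G} (hRM : R ≤ M) (hRH : R ≤ H) :
    R ≤ normalizer ((Cfsg.sigmaCore M ⊓ H : Subgroup G) : Set G) := by
  refine le_trans ?_ (Cfsg.Agent.Helper7.normalizer_inf_normalizer_le_normalizer_inf _ _)
  exact le_inf (hRM.trans (le_normalizer_sigmaCore M)) (hRH.trans le_normalizer)

theorem le_normalizer_alphaCore_inf {M H R : Subgroup G} (hRM : R ≤ M) (hRH : R ≤ H) :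
    R ≤ normalizer ((Cfsg.alphaCore M ⊓ H : Subgroup G) : Set G) := by
  refine le_trans ?_ (Cfsg.Agent.Helper7.normalizer_inf_normalizer_le_normalizer_inf _ _)
  exact le_inf (hRM.trans (le_normalizer_alphaCore M)) (hRH.trans le_normalizer)

/-- **Step A**: `R` of prime order `r ∉ σ(M)` in `M ∩ H` not centralizing `D = M_σ ∩ H`
(`H ≠ M`): there is an `R`-invariant `q`-subgroup `Q₁ ≠ 1` of `D` on which `R` acts fixed
point freely. -/
theorem exists_fpf_subgroup (hG : Cfsg.IsMinSimpleOddOrder G) {M H : Subgroup G}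
    (hM : IsCoatom M) (hH : IsCoatom H) (hHM : H ≠ M) {r : ℕ} [Fact r.Prime]
    (hrM : r ∉ Cfsg.sigma M) {R : Subgroup G} (hRc : Nat.card R = r) (hRM : R ≤ M)
    (hRH : R ≤ H)
    (hDR : ¬ (Cfsg.sigmaCore M ⊓ H ≤ centralizer (R : Set G))) :
    ∃ (q : ℕ) (_ : Fact q.Prime) (Q₁ : Subgroup G), q ∈ Cfsg.sigma M ∧ IsPGroup q Q₁ ∧
      Q₁ ≠ ⊥ ∧ Q₁ ≤ Cfsg.sigmaCore M ⊓ H ∧ R ≤ normalizer (Q₁ : Set G) ∧
      Q₁ ⊓ centralizer (R : Set G) = ⊥ := by
  have hr : r.Prime := Fact.out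
  set D := Cfsg.sigmaCore M ⊓ H with hD
  have hDM : D ≤ M := inf_le_left.trans (sigmaCore_le M)
  have hRD : R ≤ normalizer (D : Set G) := le_normalizer_sigmaCore_inf hRM hRH
  have hcop : (Nat.card R).Coprime (Nat.card D) := by
    rw [hRc, Nat.Prime.coprime_iff_not_dvd hr]
    intro hd
    exact hrM (Cfsg.Agent.H9.BG12.mem_sigma_of_dvd_card_sigmaCore hr
      (hd.trans (Subgroup.card_dvd_of_le inf_le_left)))
  have hsolv : Group.IsSolvable ↥R ∨ Group.IsSolvable ↥D :=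
    Or.inr (Cfsg.Agent.H9.BG12.solvable_of_le_coatom hG hM hDM)
  obtain ⟨q, hqF, Q₀, hQ₀, hRQ₀, hQ₀R⟩ := exists_invariant_sylow_not_le hRD hcop hsolv hDR
  have hq : q.Prime := hqF.out
  have hQ₀p : IsPGroup q Q₀ := hQ₀.2.1
  have hQ₀D : Q₀ ≤ D := hQ₀.1
  have hcop' : (Nat.card R).Coprime (Nat.card Q₀) :=
    Nat.Coprime.coprime_dvd_right (Subgroup.card_dvd_of_le hQ₀D) hcop
  -- `Q₀` is abelian
  have hab : IsMulCommutative ↥Q₀ := by
    by_contra hna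
    obtain ⟨L, -, hLu⟩ := Cfsg.Agent.S1422.result hG q Q₀ hQ₀p hna
    have h1 := hLu M ⟨hM, hQ₀D.trans hDM⟩
    have h2 := hLu H ⟨hH, hQ₀D.trans inf_le_right⟩
    exact hHM (h2.trans h1.symm)
  set Q₁ := ⁅Q₀, R⁆ with hQ₁
  have hQ₁Q₀ : Q₁ ≤ Q₀ := Cfsg.Agent.Lead.commutator_le_of_le_normalizer hRQ₀
  have hQ₁1 : Q₁ ≠ ⊥ := by
    intro h
    exact hQ₀R (Subgroup.commutator_eq_bot_iff_le_centralizer.mp h)
  have hQ₁p : IsPGroup q Q₁ := hQ₀p.to_le hQ₁Q₀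
  have hqσ : q ∈ Cfsg.sigma M := by
    apply Cfsg.Agent.H9.BG12.mem_sigma_of_dvd_card_sigmaCore hq
    exact (Cfsg.Agent.Helper16.BG11.dvd_card_of_isPGroup_ne_bot hQ₁p hQ₁1).trans
      (Subgroup.card_dvd_of_le ((hQ₁Q₀.trans hQ₀D).trans inf_le_left))
  refine ⟨q, hqF, Q₁, hqσ, hQ₁p, hQ₁1, hQ₁Q₀.trans hQ₀D, ?_, ?_⟩
  · exact le_normalizer_commutator' hRQ₀ le_normalizer
  · have h1 := Cfsg.Agent.Lead.coprime_abelian_inf R Q₀ hRQ₀ hcop'
    rw [eq_bot_iff, ← h1]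
    exact le_inf (le_inf (inf_le_left.trans hQ₁Q₀) inf_le_right) inf_le_left

/-- **Step B** (the situation of 12.15(d)): `q ∈ σ(M) ∩ σ(H)`, `N_G(Q₁) ≤ H` for a `q`-subgroup
`Q₁ ≠ 1` of `M`; then `M = M_β (H ∩ M)`. -/
theorem le_betaCore_sup_inf (hG : Cfsg.IsMinSimpleOddOrder G) {M H : Subgroup G}
    (hM : IsCoatom M) (hH : IsCoatom H) (hHM : H ≠ M) {q : ℕ} [Fact q.Prime]
    (hqM : q ∈ Cfsg.sigma M) (hqH : q ∈ Cfsg.sigma H) {Q₁ : Subgroup G} (hQq : IsPGroup q Q₁)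
    (hQ1 : Q₁ ≠ ⊥) (hQM : Q₁ ≤ M) (hNQ : normalizer (Q₁ : Set G) ≤ H) :
    M ≤ Cfsg.piCoreOf (Cfsg.beta M) M ⊔ H ⊓ M := by
  have hQH : Q₁ ≤ H := le_normalizer.trans hNQ
  obtain ⟨S, hS, hQS⟩ := exists_isSylowIn_ge (le_inf hQM hQH) hQq
  obtain ⟨hnc, hNS, hSH⟩ := Cfsg.Agent.H9.BG12.lem_12_15 (ctl hG) (nc1210 hG) hM hqM hQq hQ1 hQM
    hH hHM hNQ hS hQS
  have hNSH : normalizer (S : Set G) ≤ H := Cfsg.Agent.Helper4.BG10.sigma_normalizer_le hqH hSH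
  have hStop : IsSylowIn q S ⊤ := Cfsg.Agent.Helper4.BG10.sigma_isSylowIn_top hqH hSH
  have hSM : IsSylowIn q S M :=
    ⟨hS.1.trans inf_le_left, hS.2.1, fun Q hQM' hQp hSQ => hStop.2.2 Q le_top hQp hSQ⟩
  exact Cfsg.Agent.Helper4.BG12SD.lem_12_15_d1 hG hH hM (not_conj_symm hnc) hqH hqM hSM hNSH

theorem exists_ne_one_of_card_prime {p : ℕ} [Fact p.Prime] {P : Subgroup G}
    (hPc : Nat.card P = p) : ∃ x ∈ P, x ≠ 1 := by
  have hp : p.Prime := Fact.out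
  have hP1 : P ≠ ⊥ := by
    intro h
    rw [h, Subgroup.card_bot] at hPc
    exact hp.one_lt.ne hPc
  exact (Subgroup.ne_bot_iff_exists_ne_one.mp hP1).elim fun x hx => ⟨x.1, x.2, fun h => hx (Subtype.ext h)⟩

theorem isPGroup_of_card_prime {p : ℕ} [Fact p.Prime] {P : Subgroup G}
    (hPc : Nat.card P = p) : IsPGroup p P := by
  apply IsPGroup.of_card (n := 1)
  rw [hPc, pow_one]

theorem ne_bot_of_card_prime {p : ℕ} [Fact p.Prime] {P : Subgroup G}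
    (hPc : Nat.card P = p) : P ≠ ⊥ := by
  have hp : p.Prime := Fact.out
  intro h
  rw [h, Subgroup.card_bot] at hPc
  exact hp.one_lt.ne hPc

/-- a Sylow `s`-subgroup of `K` is nontrivial when `s ∣ |K|` -/
theorem ne_bot_of_isSylowIn {s : ℕ} [Fact s.Prime] {S K : Subgroup G} (hS : IsSylowIn s S K)
    (hd : s ∣ Nat.card K) : S ≠ ⊥ := by
  intro h
  have h1 := Sylow.ne_bot_of_dvd_card hS.toSylow hd
  apply h1
  have h2 := hS.toSylow_map
  rw [eq_bot_iff]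
  intro x hx
  have h3 : (x : G) ∈ Subgroup.map K.subtype ↑hS.toSylow := ⟨x, hx, rfl⟩
  rw [h2] at h3
  rw [h, Subgroup.mem_bot] at h3
  rw [Subgroup.mem_bot]
  exact Subtype.ext h3

/-- **Step C**: `M_α ∩ H = 1`. -/
theorem alphaCore_inf_eq_bot (hG : Cfsg.IsMinSimpleOddOrder G) (hX : LemX G) {M H : Subgroup G}
    (hM : IsCoatom M) (hH : IsCoatom H) (hnc : ∀ g : G, H ≠ M.map (cj g))
    {p : ℕ} [Fact p.Prime] {P : Subgroup G} (hPc : Nat.card P = p) (hPM : P ≤ M)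
    (hPα : P ≤ Cfsg.alphaCore H)
    (hDP : Cfsg.sigmaCore M ⊓ H ≤ centralizer (P : Set G))
    {r : ℕ} [Fact r.Prime] (hrH : r ∈ Cfsg.tau1 H) (hrM : r ∈ Cfsg.tau1 M) {R : Subgroup G}
    (hRc : Nat.card R = r) (hRM : R ≤ M) (hRH : R ≤ H) (hRP : R ≤ centralizer (P : Set G))
    {q : ℕ} [Fact q.Prime] (hqM : q ∈ Cfsg.sigma M) (hqH : q ∈ Cfsg.sigma H) {Q₁ : Subgroup G}
    (hQq : IsPGroup q Q₁) (hQ1 : Q₁ ≠ ⊥) (hQD : Q₁ ≤ Cfsg.sigmaCore M ⊓ H)
    (hRQ : R ≤ normalizer (Q₁ : Set G)) (hfpf : Q₁ ⊓ centralizer (R : Set G) = ⊥)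
    (hNQ : normalizer (Q₁ : Set G) ≤ H) :
    Cfsg.alphaCore M ⊓ H = ⊥ := by
  have hr : r.Prime := Fact.out
  have hnc' := not_conj_symm hnc
  have hHM : H ≠ M := ne_of_not_conj hnc
  have hQM : Q₁ ≤ M := hQD.trans (inf_le_left.trans (sigmaCore_le M))
  have hQH : Q₁ ≤ H := hQD.trans inf_le_right
  have hqα : q ∉ Cfsg.alpha M := fun h =>
    Cfsg.Agent.Helper4.BG12SD.alpha_sigma_disjoint hG hH hM hnc' h hqH
  have hQU : ¬ Cfsg.InUniqueMaximal (M ⊓ centralizer (Q₁ : Set G)) := by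
    rintro ⟨L, -, hLu⟩
    have h1 := hLu M ⟨hM, inf_le_left⟩
    have h2 := hLu H ⟨hH, inf_le_right.trans ((centralizer_le_normalizer _).trans hNQ)⟩
    exact hHM (h2.trans h1.symm)
  have h1216 := lem_12_16 hG hX hM hrM hRM hRc hQq hQM hqα hRQ hfpf hQU
  set T₀ := Cfsg.alphaCore M ⊓ H with hT₀
  have hT₀α : T₀ ≤ Cfsg.alphaCore M := inf_le_left
  have hT₀H : T₀ ≤ H := inf_le_right
  have hT₀M : T₀ ≤ M := hT₀α.trans (alphaCore_le M)
  have hT₀D : T₀ ≤ Cfsg.sigmaCore M ⊓ H := le_inf (hT₀α.trans (alphaCore_le_sigmaCore hG hM)) hT₀H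
  -- `T₀` centralizes `Q₁`
  have hT₀Q : T₀ ≤ centralizer (Q₁ : Set G) := by
    rw [← Subgroup.commutator_eq_bot_iff_le_centralizer, eq_bot_iff]
    have h1 : ⁅T₀, Q₁⁆ ≤ T₀ :=
      Cfsg.Agent.Lead.commutator_le_of_le_normalizer (le_normalizer_alphaCore_inf hQM hQH)
    have hQσ : Q₁ ≤ Cfsg.sigmaCore H :=
      Cfsg.Agent.H9.BG12.le_sigmaCore_of_isPGroup (st1350 hG) hH hqH hQH hQq
    have h2 : ⁅T₀, Q₁⁆ ≤ Cfsg.sigmaCore H := by
      rw [Subgroup.commutator_comm]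
      refine le_trans (Subgroup.commutator_mono hQσ le_rfl) ?_
      exact Cfsg.Agent.Lead.commutator_le_of_le_normalizer (hT₀H.trans (le_normalizer_sigmaCore H))
    have h3 : T₀ ⊓ Cfsg.sigmaCore H = ⊥ := by
      apply disjoint_iff.mp
      apply Subgroup.disjoint_of_coprime_natCard
      apply Nat.coprime_of_dvd
      intro k hk hk1 hk2
      have hkα : k ∈ Cfsg.alpha M :=
        card_alphaCore_isPiNum M k hk (hk1.trans (Subgroup.card_dvd_of_le hT₀α))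
      have hkσ : k ∈ Cfsg.sigma H := Cfsg.Agent.H9.BG12.mem_sigma_of_dvd_card_sigmaCore hk hk2
      exact Cfsg.Agent.Helper4.BG12SD.alpha_sigma_disjoint hG hH hM hnc' hkα hkσ
    rw [← h3]
    exact le_inf h1 h2
  have hT₀R : T₀ ⊓ centralizer (R : Set G) = ⊥ := by
    rw [eq_bot_iff, ← h1216]
    exact le_inf (le_inf (inf_le_left.trans hT₀α) inf_le_right) (inf_le_left.trans hT₀Q)
  by_contra hne
  -- an `R`-invariant Sylow subgroup of `T₀`
  have hcard : Nat.card T₀ ≠ 1 := fun h => hne (Subgroup.card_eq_one.mp h)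
  obtain ⟨s, hs, hsd⟩ := Nat.exists_prime_and_dvd hcard
  have : Fact s.Prime := ⟨hs⟩
  have hsα : s ∈ Cfsg.alpha M :=
    card_alphaCore_isPiNum M s hs (hsd.trans (Subgroup.card_dvd_of_le hT₀α))
  have hsσ : s ∈ Cfsg.sigma M := Cfsg.Agent.Helper4.BG10.alpha_subset_sigma hG (uniq hG) hM hsα
  have hRT₀ : R ≤ normalizer (T₀ : Set G) := le_normalizer_alphaCore_inf hRM hRH
  have hcop : (Nat.card R).Coprime (Nat.card T₀) := by
    rw [hRc, Nat.Prime.coprime_iff_not_dvd hr]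
    intro hd
    have h1 : r ∈ Cfsg.alpha M :=
      card_alphaCore_isPiNum M r hr (hd.trans (Subgroup.card_dvd_of_le hT₀α))
    exact hrM.2.1 (Cfsg.Agent.Helper4.BG10.alpha_subset_sigma hG (uniq hG) hM h1)
  have hsolv : Group.IsSolvable ↥R ∨ Group.IsSolvable ↥T₀ :=
    Or.inr (Cfsg.Agent.H9.BG12.solvable_of_le_coatom hG hM hT₀M)
  obtain ⟨Z, hZ, hRZ⟩ := Cfsg.Agent.Helper16.BG11.exists_invariant_sylow R T₀ hRT₀ hcop hsolv s
  have hZ1 : Z ≠ ⊥ := ne_bot_of_isSylowIn hZ hsd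
  have hZT : Z ≤ T₀ := hZ.1
  have hZfpf : Z ⊓ centralizer (R : Set G) = ⊥ := by
    rw [eq_bot_iff, ← hT₀R]
    exact le_inf (inf_le_left.trans hZT) inf_le_right
  obtain ⟨x, hxP, hx1⟩ := exists_ne_one_of_card_prime hPc
  have hxZ : x ∈ centralizer (Z : Set G) := by
    have h1 : Z ≤ centralizer (P : Set G) := (hZT.trans hT₀D).trans hDP
    exact (Subgroup.le_centralizer_iff.mp h1) hxP
  have hxR : x ∈ centralizer (R : Set G) := (Subgroup.le_centralizer_iff.mp hRP) hxP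
  have hY := lemma_Y hG hX hM hH hnc hsσ hZ.2.1 hZ1 (hZT.trans hT₀M) (hZT.trans hT₀H) hrH hRH hRc
    hRZ hZfpf hx1 (hPα hxP) (hPM hxP) hxR hxZ
  exact Cfsg.Agent.Helper4.BG12SD.alpha_sigma_disjoint hG hH hM hnc' hsα hY.2

/-- **Step E**: the final contradiction, in a maximal subgroup `K ⊇ N_G(R)`. -/
theorem false_of_fpf_on_alphaCore (hG : Cfsg.IsMinSimpleOddOrder G) (hX : LemX G)
    (h132 : L132c G) {M : Subgroup G} (hM : IsCoatom M)
    {r : ℕ} [Fact r.Prime] (hrM : r ∈ Cfsg.tau1 M) {R : Subgroup G} (hRc : Nat.card R = r)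
    (hRM : R ≤ M) {p : ℕ} [Fact p.Prime] (hpM : p ∉ Cfsg.sigma M) {P : Subgroup G}
    (hPc : Nat.card P = p) (hPM : P ≤ M) (hPR : P ≤ centralizer (R : Set G))
    {s : ℕ} [Fact s.Prime] (hsα : s ∈ Cfsg.alpha M) {Z : Subgroup G} (hZs : IsPGroup s Z)
    (hZ1 : Z ≠ ⊥) (hZα : Z ≤ Cfsg.alphaCore M) (hZR : Z ≤ centralizer (R : Set G))
    (hPZ : P ≤ normalizer (Z : Set G)) (hfpf : Z ⊓ centralizer (P : Set G) = ⊥) : False := by
  have hr : r.Prime := Fact.out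
  have hp : p.Prime := Fact.out
  have hS : IsSimpleGroup G := hG.2.1
  have hR1 : R ≠ ⊥ := ne_bot_of_card_prime hRc
  have hRt : R ≠ ⊤ := fun h => hM.1 (top_le_iff.mp (h ▸ hRM))
  obtain ⟨K, hK, hNR⟩ := Cfsg.Agent.Helper21.BG10.exists_coatom_normalizer_le hS hR1 hRt
  have hncK := not_conj_of_rank_one hG hM hK hrM.2.1 hrM.2.2.2.2 hRc hNR
  have hCRK : centralizer (R : Set G) ≤ K := (centralizer_le_normalizer _).trans hNR
  have hZσ : Z ≤ Cfsg.sigmaCore M := hZα.trans (alphaCore_le_sigmaCore hG hM)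
  have hZM : Z ≤ M := hZα.trans (alphaCore_le M)
  have hZK : Z ≤ K := hZR.trans hCRK
  have hPK : P ≤ K := hPR.trans hCRK
  have hRK : R ≤ K := le_normalizer.trans hNR
  have hZD : Z ≤ Cfsg.sigmaCore M ⊓ K := le_inf hZσ hZK
  -- `P` does not centralize `D_K`
  have hDP : ¬ (Cfsg.sigmaCore M ⊓ K ≤ centralizer (P : Set G)) := by
    intro h
    apply hZ1
    rw [eq_bot_iff, ← hfpf]
    exact le_inf le_rfl (hZD.trans h)
  have hneK : ¬ (M ⊓ K ≤ centralizer ((Cfsg.sigmaCore M ⊓ K : Subgroup G) : Set G)) := by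
    intro h
    exact hDP (Subgroup.le_centralizer_iff.mp ((le_inf hPM hPK).trans h))
  obtain ⟨hrσK, hrβK⟩ := h132 M K hM hK r (Or.inl hrM) R hRM hRc hNR hneK
  have hrαK : r ∈ Cfsg.alpha K := (hrβK hrM).1
  have hRα : R ≤ Cfsg.alphaCore K :=
    le_alphaCore_of_isPGroup' hG hK hrαK hRK (isPGroup_of_card_prime hRc)
  have hPp : IsPGroup p P := isPGroup_of_card_prime hPc
  have hpK : p ∈ Cfsg.tau1 K := by
    apply mem_tau1_of_not hG hK
    · rw [← hPc]; exact Subgroup.card_dvd_of_le hPK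
    · intro h
      exact hDP (lemma_13_1_a hG hM hK hncK hpM (Or.inl h) hPp hPM hPK)
    · intro h
      exact hDP (lemma_13_1_tau2 hG hM hK hncK hpM h hPc hPM hPK)
    · intro h
      exact hDP (lemma_13_1_a hG hM hK hncK hpM (Or.inr h) hPp hPM hPK)
  obtain ⟨x, hxR, hx1⟩ := exists_ne_one_of_card_prime hRc
  have hsσ : s ∈ Cfsg.sigma M := Cfsg.Agent.Helper4.BG10.alpha_subset_sigma hG (uniq hG) hM hsα
  have hxP : x ∈ centralizer (P : Set G) := (Subgroup.le_centralizer_iff.mp hPR) hxR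
  have hxZ : x ∈ centralizer (Z : Set G) := (Subgroup.le_centralizer_iff.mp hZR) hxR
  have hY := lemma_Y hG hX hM hK hncK hsσ hZs hZ1 hZM hZK hpK hPK hPc hPZ hfpf hx1 (hRα hxR)
    (hRM hxR) hxP hxZ
  exact Cfsg.Agent.Helper4.BG12SD.alpha_sigma_disjoint hG hK hM (not_conj_symm hncK) hsα hY.2

/-- **Step D**: with `M_α ∩ H = 1` we reach a contradiction. -/
theorem false_of_alphaCore_inf_eq_bot (hG : Cfsg.IsMinSimpleOddOrder G) (hX : LemX G)
    (h132 : L132c G) {M H : Subgroup G}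
    (hM : IsCoatom M) (hH : IsCoatom H) (hnc : ∀ g : G, H ≠ M.map (cj g))
    {p : ℕ} [Fact p.Prime] (hpM : p ∉ Cfsg.sigma M) {P : Subgroup G} (hPc : Nat.card P = p)
    (hPM : P ≤ M) (hCP : centralizer (P : Set G) ≤ H)
    {r : ℕ} [Fact r.Prime] (hrM : r ∈ Cfsg.tau1 M) {R : Subgroup G}
    (hRc : Nat.card R = r) (hRM : R ≤ M) (hRP : R ≤ centralizer (P : Set G))
    {q : ℕ} [Fact q.Prime] (hqM : q ∈ Cfsg.sigma M) (hqH : q ∈ Cfsg.sigma H) {Q₁ : Subgroup G}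
    (hQq : IsPGroup q Q₁) (hQ1 : Q₁ ≠ ⊥) (hQM : Q₁ ≤ M) (hQP : Q₁ ≤ centralizer (P : Set G))
    (hRQ : R ≤ normalizer (Q₁ : Set G)) (hfpf : Q₁ ⊓ centralizer (R : Set G) = ⊥)
    (hNQ : normalizer (Q₁ : Set G) ≤ H)
    (hT₀ : Cfsg.alphaCore M ⊓ H = ⊥) : False := by
  have hr : r.Prime := Fact.out
  have hp : p.Prime := Fact.out
  have hq : q.Prime := Fact.out
  have hnc' := not_conj_symm hnc
  have hασ : ∀ k : ℕ, k ∈ Cfsg.alpha M → k ∈ Cfsg.sigma M := fun k hk =>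
    haveI : Fact k.Prime := ⟨hk.1⟩
    Cfsg.Agent.Helper4.BG10.alpha_subset_sigma hG (uniq hG) hM hk
  have hqα : q ∉ Cfsg.alpha M := fun h =>
    Cfsg.Agent.Helper4.BG12SD.alpha_sigma_disjoint hG hH hM hnc' h hqH
  have hrα : r ∉ Cfsg.alpha M := fun h => hrM.2.1 (hασ r h)
  have hpα : p ∉ Cfsg.alpha M := fun h => hpM (hασ p h)
  set Kα := Cfsg.alphaCore M with hKα
  have hK1 : Kα ≠ ⊥ := by
    intro h
    have hnil := Cfsg.Agent.Helper4.BG124.sigmaCore_nilpotent_of_alphaCore_eq_bot hG hM h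
    exact Cfsg.Agent.Helper4.BG12SD.sigma_disjoint_of_nilpotent hG hH hM hnc' hnil hqM hqH
  have hcard : Nat.card Kα ≠ 1 := fun h => hK1 (Subgroup.card_eq_one.mp h)
  obtain ⟨s, hs, hsd⟩ := Nat.exists_prime_and_dvd hcard
  have : Fact s.Prime := ⟨hs⟩
  have hsα : s ∈ Cfsg.alpha M := card_alphaCore_isPiNum M s hs hsd
  have hsq : s ≠ q := fun h => hqα (h ▸ hsα)
  have hsr : s ≠ r := fun h => hrα (h ▸ hsα)
  -- the acting group
  have hPR : P ≤ centralizer (R : Set G) := Subgroup.le_centralizer_iff.mp hRP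
  have hPQ : P ≤ centralizer (Q₁ : Set G) := Subgroup.le_centralizer_iff.mp hQP
  set A := (Q₁ ⊔ R) ⊔ P with hA
  have hAM : A ≤ M := sup_le (sup_le hQM hRM) hPM
  have hAK : A ≤ normalizer (Kα : Set G) := hAM.trans (le_normalizer_alphaCore M)
  have hcardQR : Nat.card ↥(Q₁ ⊔ R) ∣ Nat.card Q₁ * Nat.card R :=
    Dvd.intro _ (Cfsg.Agent.Helper17.card_sup_mul_card_inf Q₁ R hRQ)
  have hPQR : P ≤ normalizer ((Q₁ ⊔ R : Subgroup G) : Set G) := by
    refine le_trans ?_ (Subgroup.normalizer_inf_normalizer_le_normalizer_sup Q₁ R)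
    exact le_inf (hPQ.trans (centralizer_le_normalizer _)) (hPR.trans (centralizer_le_normalizer _))
  have hcardA : Nat.card A ∣ Nat.card Q₁ * Nat.card R * Nat.card P := by
    have h1 : Nat.card A ∣ Nat.card ↥(Q₁ ⊔ R) * Nat.card P :=
      Dvd.intro _ (Cfsg.Agent.Helper17.card_sup_mul_card_inf (Q₁ ⊔ R) P hPQR)
    exact h1.trans (Nat.mul_dvd_mul_right hcardQR _)
  have hcop : (Nat.card A).Coprime (Nat.card Kα) := by
    apply Nat.Coprime.coprime_dvd_left hcardA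
    apply Nat.Coprime.mul_left
    · apply Nat.Coprime.mul_left
      · obtain ⟨k, hk⟩ := IsPGroup.iff_card.mp hQq
        rw [hk]
        apply Nat.Coprime.pow_left
        rw [Nat.Prime.coprime_iff_not_dvd hq]
        exact fun hd => hqα (card_alphaCore_isPiNum M q hq hd)
      · rw [hRc, Nat.Prime.coprime_iff_not_dvd hr]
        exact fun hd => hrα (card_alphaCore_isPiNum M r hr hd)
    · rw [hPc, Nat.Prime.coprime_iff_not_dvd hp]
      exact fun hd => hpα (card_alphaCore_isPiNum M p hp hd)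
  have hsolv : Group.IsSolvable ↥A ∨ Group.IsSolvable ↥Kα :=
    Or.inr (Cfsg.Agent.H9.BG12.solvable_of_le_coatom hG hM (alphaCore_le M))
  obtain ⟨S, hS, hAS⟩ := Cfsg.Agent.Helper16.BG11.exists_invariant_sylow A Kα hAK hcop hsolv s
  have hS1 : S ≠ ⊥ := ne_bot_of_isSylowIn hS hsd
  have hSp : IsPGroup s S := hS.2.1
  have hSK : S ≤ Kα := hS.1
  have hQS : Q₁ ≤ normalizer (S : Set G) := (le_sup_left.trans le_sup_left).trans hAS
  have hRS : R ≤ normalizer (S : Set G) := (le_sup_right.trans le_sup_left).trans hAS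
  have hPS : P ≤ normalizer (S : Set G) := le_sup_right.trans hAS
  set Z := S ⊓ centralizer (R : Set G) with hZ
  have hZ1 : Z ≠ ⊥ := by
    intro hZbot
    have hfpf' : ∀ k ∈ R, k ≠ 1 → Q₁ ⊓ centralizer ({k} : Set G) = ⊥ := by
      intro k hk hk1
      have h1 : zpowers k = R := Cfsg.Agent.Helper16.BG11.zpowers_eq_of_card_prime hr hRc hk hk1
      rw [← hfpf, ← h1, Cfsg.Agent.Helper21.BG12.centralizer_zpowers']
    have hQs : (Nat.card Q₁).Coprime s := by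
      obtain ⟨k, hk⟩ := IsPGroup.iff_card.mp hQq
      rw [hk]
      exact Nat.Coprime.pow_left k ((Nat.coprime_primes hq hs).mpr (Ne.symm hsq))
    have hRs : (Nat.card R).Coprime s := by
      rw [hRc]; exact (Nat.coprime_primes hr hs).mpr (Ne.symm hsr)
    have h1 := Cfsg.Agent.Helper27.BG15.frob_centralizes S Q₁ R s hSp hQS hRS hRQ hQs hRs hfpf' hZbot
    have h2 : S ≤ centralizer (Q₁ : Set G) := Subgroup.le_centralizer_iff.mp h1
    have h3 : S ≤ Cfsg.alphaCore M ⊓ H :=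
      le_inf hSK (h2.trans ((centralizer_le_normalizer _).trans hNQ))
    rw [hT₀] at h3
    exact hS1 (eq_bot_iff.mpr h3)
  have hPZ : P ≤ normalizer (Z : Set G) := by
    refine le_trans ?_ (Cfsg.Agent.Helper7.normalizer_inf_normalizer_le_normalizer_inf _ _)
    refine le_inf hPS ?_
    exact Cfsg.Agent.Helper27.BG15.le_normalizer_centralizer
      (hPR.trans (centralizer_le_normalizer _))
  have hZfpf : Z ⊓ centralizer (P : Set G) = ⊥ := by
    rw [eq_bot_iff, ← hT₀]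
    exact le_inf ((inf_le_left.trans inf_le_left).trans hSK) (inf_le_right.trans hCP)
  exact false_of_fpf_on_alphaCore hG hX h132 hM hrM hRc hRM hpM hPc hPM hPR hsα
    (hSp.to_le inf_le_left) hZ1 (inf_le_left.trans hSK) inf_le_right hPZ hZfpf

/-- **B&G Lemma 13.4** (`S1428`), from Lemma X and Lemma 13.2(c). -/
theorem s1428_of (hG : Cfsg.IsMinSimpleOddOrder G) (hX : LemX G) (h132 : L132c G)
    (M : Subgroup G) (hM : IsCoatom M) (E : Subgroup G)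
    (hE : Cfsg.IsComplIn E (Cfsg.sigmaCore M) M) (p : ℕ) (hp : p ∈ Cfsg.tau1 M)
    (P : Subgroup G) (hPE : P ≤ E) (hP : Nat.card P = p) (R : Subgroup G)
    (hRE : R ≤ E ⊓ Subgroup.centralizer (P : Set G)) (hR : (Nat.card R).Prime) :
    Cfsg.sigmaCore M ⊓ Subgroup.centralizer (P : Set G) ≤
      Cfsg.sigmaCore M ⊓ Subgroup.centralizer (R : Set G) := by
  have : Fact p.Prime := ⟨hp.1⟩
  have hpp : p.Prime := hp.1
  set r := Nat.card R with hr
  have : Fact r.Prime := ⟨hR⟩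
  have hRc : Nat.card R = r := rfl
  have hPM : P ≤ M := hPE.trans hE.1
  have hRM : R ≤ M := (hRE.trans inf_le_left).trans hE.1
  have hRP : R ≤ centralizer (P : Set G) := hRE.trans inf_le_right
  have hS : IsSimpleGroup G := hG.2.1
  -- `r ∉ σ(M)`
  have hrσM : r ∉ Cfsg.sigma M := by
    have h1 := Cfsg.Agent.H9.BG12.isPiHallOf_compl (st1350 hG) hM hE
    exact h1.2.1 r hR (Subgroup.card_dvd_of_le (hRE.trans inf_le_left))
  refine le_inf inf_le_left ?_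
  by_contra hcon
  -- the maximal subgroup `H ⊇ N_G(P)`
  have hP1 : P ≠ ⊥ := ne_bot_of_card_prime hP
  have hPt : P ≠ ⊤ := fun h => hM.1 (top_le_iff.mp (h ▸ hPM))
  obtain ⟨H, hH, hNP⟩ := Cfsg.Agent.Helper21.BG10.exists_coatom_normalizer_le hS hP1 hPt
  have hnc := not_conj_of_rank_one hG hM hH hp.2.1 hp.2.2.2.2 hP hNP
  have hHM : H ≠ M := ne_of_not_conj hnc
  have hCP : centralizer (P : Set G) ≤ H := (centralizer_le_normalizer _).trans hNP
  have hPH : P ≤ H := le_normalizer.trans hNP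
  have hRH : R ≤ H := hRP.trans hCP
  have hYD : Cfsg.sigmaCore M ⊓ centralizer (P : Set G) ≤ Cfsg.sigmaCore M ⊓ H :=
    inf_le_inf_left _ hCP
  have hDR : ¬ (Cfsg.sigmaCore M ⊓ H ≤ centralizer (R : Set G)) := fun h => hcon (hYD.trans h)
  have hne : ¬ (M ⊓ H ≤ centralizer ((Cfsg.sigmaCore M ⊓ H : Subgroup G) : Set G)) := by
    intro h
    exact hDR (Subgroup.le_centralizer_iff.mp ((le_inf hRM hRH).trans h))
  obtain ⟨hpσH, hpβH⟩ := h132 M H hM hH p (Or.inl hp) P hPM hP hNP hne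
  have hpαH : p ∈ Cfsg.alpha H := (hpβH hp).1
  have hPp : IsPGroup p P := isPGroup_of_card_prime hP
  have hDP : Cfsg.sigmaCore M ⊓ H ≤ centralizer (P : Set G) :=
    lemma_13_1_a hG hM hH hnc hp.2.1 (Or.inl hpσH) hPp hPM hPH
  have hPα : P ≤ Cfsg.alphaCore H := le_alphaCore_of_isPGroup' hG hH hpαH hPH hPp
  have hRp : IsPGroup r R := isPGroup_of_card_prime hRc
  have hrH : r ∈ Cfsg.tau1 H := by
    apply mem_tau1_of_not hG hH
    · exact Subgroup.card_dvd_of_le hRH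
    · intro h
      exact hDR (lemma_13_1_a hG hM hH hnc hrσM (Or.inl h) hRp hRM hRH)
    · intro h
      exact hDR (lemma_13_1_tau2 hG hM hH hnc hrσM h hRc hRM hRH)
    · intro h
      exact hDR (lemma_13_1_a hG hM hH hnc hrσM (Or.inr h) hRp hRM hRH)
  -- the fixed point free action
  obtain ⟨q, hqF, Q₁, hqM, hQq, hQ1, hQD, hRQ, hfpf⟩ :=
    exists_fpf_subgroup hG hM hH hHM hrσM hRc hRM hRH hDR
  have hQM : Q₁ ≤ M := hQD.trans (inf_le_left.trans (sigmaCore_le M))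
  have hQH : Q₁ ≤ H := hQD.trans inf_le_right
  have hQP : Q₁ ≤ centralizer (P : Set G) := hQD.trans hDP
  obtain ⟨x, hxP, hx1⟩ := exists_ne_one_of_card_prime hP
  have hxR : x ∈ centralizer (R : Set G) := (Subgroup.le_centralizer_iff.mp hRP) hxP
  have hxQ : x ∈ centralizer (Q₁ : Set G) := (Subgroup.le_centralizer_iff.mp hQP) hxP
  obtain ⟨hNQ, hqH⟩ := lemma_Y hG hX hM hH hnc hqM hQq hQ1 hQM hQH hrH hRH hRc hRQ hfpf hx1
    (hPα hxP) (hPM hxP) hxR hxQ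
  -- the situation of 12.15(d)
  have hle := le_betaCore_sup_inf hG hM hH hHM hqM hqH hQq hQ1 hQM hNQ
  have hrM : r ∈ Cfsg.tau1 M :=
    mem_tau1_of_le_sup hG hM hH hle hrH hrσM (Subgroup.card_dvd_of_le hRM)
  have hT₀ := alphaCore_inf_eq_bot hG hX hM hH hnc hP hPM hPα hDP hrH hrM hRc hRM hRH hRP hqM hqH
    hQq hQ1 hQD hRQ hfpf hNQ
  exact false_of_alphaCore_inf_eq_bot hG hX h132 hM hH hnc hp.2.1 hP hPM hCP hrM hRc hRM hRP hqM
    hqH hQq hQ1 hQM hQP hRQ hfpf hNQ hT₀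

end Cfsg.Agent.Helper21.BG13
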