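import Mathlib

/-!
Brauer–Suzuki–Wall, abstract form: the hypotheses and their first group-theoretic consequences.
-/

set_option autoImplicit false

namespace Cfsg.Agent.Helper21.Bsw

variable {G : Type*} [Group G]

/-- The hypotheses of the abstract Brauer–Suzuki–Wall theorem. -/
structure Hyp (t s : G) (K : Subgroup G) : Prop where
  ht : orderOf t = 2
  hKab : ∀ x ∈ K, ∀ y ∈ K, x * y = y * x
  hKH : K ≤ Subgroup.centralizer ({t} : Set G)
  htK : t ∈ K
  hs : orderOf s = 2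
  hsH : s ∈ Subgroup.centralizer ({t} : Set G)
  hsK : s ∉ K
  hH : K ⊔ Subgroup.zpowers s = Subgroup.centralizer ({t} : Set G)
  hCK : K ⊓ Subgroup.centralizer ({s} : Set G) = Subgroup.zpowers t
  hinv : ∀ x ∈ K, s * x * s⁻¹ = x⁻¹
  hTI : ∀ g : G, g ∉ Subgroup.centralizer ({t} : Set G) →
    K ⊓ K.map (MulAut.conj g).toMonoidHom = ⊥
  hconj : ∀ x y : G, orderOf x = 2 → orderOf y = 2 → IsConj x y

/-- `x` is of `K`-type: a non-identity element conjugate into `K`. -/
def KType (K : Subgroup G) (x : G) : Prop := x ≠ 1 ∧ ∃ g : G, g⁻¹ * x * g ∈ K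

/-- the number of involutions inverting `x` -/
noncomputable def invCount (x : G) : ℕ :=
  Nat.card {u : G // orderOf u = 2 ∧ u * x * u⁻¹ = x⁻¹}

variable {t s : G} {K : Subgroup G}

namespace Hyp

theorem t_ne_one (h : Hyp t s K) : t ≠ 1 := by
  intro h1
  have := h.ht
  rw [h1, orderOf_one] at this
  omega

theorem s_ne_one (h : Hyp t s K) : s ≠ 1 := by
  intro h1
  have := h.hs
  rw [h1, orderOf_one] at this
  omega

theorem t_sq (h : Hyp t s K) : t * t = 1 := by
  have := pow_orderOf_eq_one t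
  rwa [h.ht, pow_two] at this

theorem s_sq (h : Hyp t s K) : s * s = 1 := by
  have := pow_orderOf_eq_one s
  rwa [h.hs, pow_two] at this

theorem s_inv (h : Hyp t s K) : s⁻¹ = s := inv_eq_of_mul_eq_one_left h.s_sq

theorem t_inv (h : Hyp t s K) : t⁻¹ = t := inv_eq_of_mul_eq_one_left h.t_sq

theorem hinv' (h : Hyp t s K) {x : G} (hx : x ∈ K) : s⁻¹ * x * s = x⁻¹ := by
  have := h.hinv x hx
  rw [h.s_inv] at this ⊢
  exact this

theorem s_conj_mem (h : Hyp t s K) {x : G} (hx : x ∈ K) : s * x * s⁻¹ ∈ K := by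
  rw [h.hinv x hx]; exact K.inv_mem hx

theorem zpowers_s_le_normalizer (h : Hyp t s K) :
    Subgroup.zpowers s ≤ Subgroup.normalizer (K : Set G) := by
  rw [Subgroup.zpowers_le]
  rw [Subgroup.mem_normalizer_iff]
  intro x
  constructor
  · intro hx; exact h.s_conj_mem hx
  · intro hx
    have h1 := h.s_conj_mem hx
    have h2 : s * (s * x * s⁻¹) * s⁻¹ = x := by
      have := h.s_sq
      calc s * (s * x * s⁻¹) * s⁻¹ = (s * s) * x * (s * s)⁻¹ := by group
        _ = x := by rw [this]; simp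
    rwa [h2] at h1

/-- elements of `zpowers s` -/
theorem mem_zpowers_s (h : Hyp t s K) {y : G} (hy : y ∈ Subgroup.zpowers s) : y = 1 ∨ y = s := by
  obtain ⟨n, rfl⟩ := Subgroup.mem_zpowers_iff.mp hy
  rcases Int.emod_two_eq_zero_or_one n with h0 | h1
  · left
    obtain ⟨m, rfl⟩ : ∃ m, n = 2 * m := ⟨n / 2, by omega⟩
    rw [zpow_mul, zpow_ofNat, pow_two, h.s_sq, one_zpow]
  · right
    obtain ⟨m, rfl⟩ : ∃ m, n = 2 * m + 1 := ⟨n / 2, by omega⟩
    rw [zpow_add, zpow_mul, zpow_ofNat, pow_two, h.s_sq, one_zpow, one_mul, zpow_one]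

/-- `H = K ∪ K s` -/
theorem mem_H_iff (h : Hyp t s K) (g : G) :
    g ∈ Subgroup.centralizer ({t} : Set G) ↔ g ∈ K ∨ g * s ∈ K := by
  rw [← h.hH, ← SetLike.mem_coe,
    Subgroup.coe_mul_of_right_le_normalizer_left K _ h.zpowers_s_le_normalizer]
  constructor
  · rintro ⟨x, hx, y, hy, rfl⟩
    rcases h.mem_zpowers_s hy with rfl | rfl
    · left; simpa using hx
    · right
      beta_reduce
      rw [mul_assoc, h.s_sq, mul_one]; exact hx
  · rintro (hg | hg)
    · exact ⟨g, hg, 1, Subgroup.one_mem _, mul_one g⟩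
    · refine ⟨g * s, hg, s, Subgroup.mem_zpowers s, ?_⟩
      beta_reduce
      rw [mul_assoc, h.s_sq, mul_one]

theorem K_le_H (h : Hyp t s K) : K ≤ Subgroup.centralizer ({t} : Set G) := h.hKH

/-- an element of `H` outside `K` is an involution inverting `K` -/
theorem sq_eq_one_of_not_mem (h : Hyp t s K) {g : G}
    (hg : g ∈ Subgroup.centralizer ({t} : Set G)) (hgK : g ∉ K) : g * g = 1 := by
  rcases (h.mem_H_iff g).mp hg with h1 | h1
  · exact absurd h1 hgK
  · -- g = x s with x = g s ∈ K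
    have hx := h.hinv (g * s) h1
    have hs := h.s_sq
    have hsi := h.s_inv
    -- s (g s) s⁻¹ = (g s)⁻¹  → s g = s⁻¹ g⁻¹
    rw [hsi] at hx
    have : s * g * (s * s) = s⁻¹ * g⁻¹ := by
      calc s * g * (s * s) = s * (g * s) * s := by group
        _ = (g * s)⁻¹ := hx
        _ = s⁻¹ * g⁻¹ := by group
    rw [hs, mul_one, hsi] at this
    have h2 : g = g⁻¹ := mul_left_cancel this
    calc g * g = g * g⁻¹ := by rw [← h2]
      _ = 1 := mul_inv_cancel g

theorem orderOf_eq_two_of_not_mem (h : Hyp t s K) {g : G}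
    (hg : g ∈ Subgroup.centralizer ({t} : Set G)) (hgK : g ∉ K) : orderOf g = 2 := by
  have h1 := h.sq_eq_one_of_not_mem hg hgK
  have hne : g ≠ 1 := fun h' => hgK (h' ▸ K.one_mem)
  exact orderOf_eq_prime (by rw [pow_two]; exact h1) hne

/-- elements of `H` outside `K` invert `K` -/
theorem conj_eq_inv_of_not_mem (h : Hyp t s K) {g : G}
    (hg : g ∈ Subgroup.centralizer ({t} : Set G)) (hgK : g ∉ K) {x : G} (hx : x ∈ K) :
    g * x * g⁻¹ = x⁻¹ := by
  rcases (h.mem_H_iff g).mp hg with h1 | h1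
  · exact absurd h1 hgK
  · -- g = y s, y ∈ K
    set y := g * s with hy
    have hg' : g = y * s := by rw [hy, mul_assoc, h.s_sq, mul_one]
    rw [hg']
    have e1 : y * s * x * (y * s)⁻¹ = y * (s * x * s⁻¹) * y⁻¹ := by group
    rw [e1, h.hinv x hx]
    have := h.hKab y h1 x⁻¹ (K.inv_mem hx)
    rw [this, mul_assoc, mul_inv_cancel, mul_one]

/-- `K` is normalized by `H` -/
theorem conj_mem_of_mem_H (h : Hyp t s K) {g : G}
    (hg : g ∈ Subgroup.centralizer ({t} : Set G)) {x : G} (hx : x ∈ K) : g * x * g⁻¹ ∈ K := by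
  by_cases hgK : g ∈ K
  · exact K.mul_mem (K.mul_mem hgK hx) (K.inv_mem hgK)
  · rw [h.conj_eq_inv_of_not_mem hg hgK hx]; exact K.inv_mem hx

theorem conj_mem_of_mem_H' (h : Hyp t s K) {g : G}
    (hg : g ∈ Subgroup.centralizer ({t} : Set G)) {x : G} (hx : x ∈ K) : g⁻¹ * x * g ∈ K := by
  have := h.conj_mem_of_mem_H ((Subgroup.centralizer ({t} : Set G)).inv_mem hg) hx
  simpa using this

/-- the only involution of `K` is `t` -/
theorem eq_t_of_sq_eq_one (h : Hyp t s K) {x : G} (hx : x ∈ K) (hx2 : x * x = 1) (hx1 : x ≠ 1) :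
    x = t := by
  have hxi : x⁻¹ = x := inv_eq_of_mul_eq_one_left hx2
  have h1 : s * x * s⁻¹ = x := by rw [h.hinv x hx, hxi]
  have h2 : x ∈ K ⊓ Subgroup.centralizer ({s} : Set G) := by
    refine Subgroup.mem_inf.mpr ⟨hx, ?_⟩
    rw [Subgroup.mem_centralizer_singleton_iff]
    -- want x * s = s * x
    have : s * x = x * s := by
      calc s * x = (s * x * s⁻¹) * s := by group
        _ = x * s := by rw [h1]
    exact this.symm
  rw [h.hCK] at h2
  obtain ⟨n, rfl⟩ := Subgroup.mem_zpowers_iff.mp h2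
  rcases Int.emod_two_eq_zero_or_one n with h0 | h1'
  · exfalso
    obtain ⟨m, rfl⟩ : ∃ m, n = 2 * m := ⟨n / 2, by omega⟩
    apply hx1
    rw [zpow_mul, zpow_ofNat, pow_two, h.t_sq, one_zpow]
  · obtain ⟨m, rfl⟩ : ∃ m, n = 2 * m + 1 := ⟨n / 2, by omega⟩
    rw [zpow_add, zpow_mul, zpow_ofNat, pow_two, h.t_sq, one_zpow, one_mul, zpow_one]

/-- the T.I. property in elementwise form -/
theorem mem_H_of_conj_mem (h : Hyp t s K) {x g : G} (hx : x ∈ K) (hx1 : x ≠ 1)
    (hgx : g * x * g⁻¹ ∈ K) : g⁻¹ ∈ Subgroup.centralizer ({t} : Set G) := by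
  by_contra hg
  have := h.hTI g⁻¹ hg
  have hmem : x ∈ K ⊓ K.map (MulAut.conj g⁻¹).toMonoidHom := by
    refine Subgroup.mem_inf.mpr ⟨hx, ?_⟩
    rw [Subgroup.mem_map]
    refine ⟨g * x * g⁻¹, hgx, ?_⟩
    simp [mul_assoc]
  rw [this, Subgroup.mem_bot] at hmem
  exact hx1 hmem

theorem mem_H_of_conj_mem' (h : Hyp t s K) {x g : G} (hx : x ∈ K) (hx1 : x ≠ 1)
    (hgx : g * x * g⁻¹ ∈ K) : g ∈ Subgroup.centralizer ({t} : Set G) := by
  have := h.mem_H_of_conj_mem hx hx1 hgx
  simpa using (Subgroup.centralizer ({t} : Set G)).inv_mem this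

theorem mem_H_of_conj_mem'' (h : Hyp t s K) {x g : G} (hx : x ∈ K) (hx1 : x ≠ 1)
    (hgx : g⁻¹ * x * g ∈ K) : g ∈ Subgroup.centralizer ({t} : Set G) := by
  have := h.mem_H_of_conj_mem (g := g⁻¹) hx hx1 (by simpa using hgx)
  simpa using this

/-- centralizers of non-identity elements of `K` lie in `H` -/
theorem centralizer_le_H (h : Hyp t s K) {x : G} (hx : x ∈ K) (hx1 : x ≠ 1) :
    Subgroup.centralizer ({x} : Set G) ≤ Subgroup.centralizer ({t} : Set G) := by
  intro g hg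
  rw [Subgroup.mem_centralizer_singleton_iff] at hg
  apply h.mem_H_of_conj_mem' hx hx1 (g := g)
  have : g * x * g⁻¹ = x := by rw [hg, mul_assoc, mul_inv_cancel, mul_one]
  rw [this]; exact hx

/-- the centralizer of an element of `K` other than `1`, `t` is `K` -/
theorem centralizer_eq_K (h : Hyp t s K) {x : G} (hx : x ∈ K) (hx1 : x ≠ 1) (hxt : x ≠ t) :
    Subgroup.centralizer ({x} : Set G) = K := by
  apply le_antisymm
  · intro g hg
    have hgH := h.centralizer_le_H hx hx1 hg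
    by_contra hgK
    have h1 := h.conj_eq_inv_of_not_mem hgH hgK hx
    rw [Subgroup.mem_centralizer_singleton_iff] at hg
    have h2 : g * x * g⁻¹ = x := by rw [hg, mul_assoc, mul_inv_cancel, mul_one]
    rw [h2] at h1
    have h3 : x * x = 1 := by
      calc x * x = x * x⁻¹ := by rw [← h1]
        _ = 1 := mul_inv_cancel x
    exact hxt (h.eq_t_of_sq_eq_one hx h3 hx1)
  · intro g hg
    rw [Subgroup.mem_centralizer_singleton_iff]
    exact h.hKab g hg x hx

/-- fusion in `K` -/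
theorem eq_or_eq_inv_of_conj (h : Hyp t s K) {x g : G} (hx : x ∈ K) (hx1 : x ≠ 1)
    (hgx : g * x * g⁻¹ ∈ K) : g * x * g⁻¹ = x ∨ g * x * g⁻¹ = x⁻¹ := by
  have hgH := h.mem_H_of_conj_mem' hx hx1 hgx
  by_cases hgK : g ∈ K
  · left
    rw [h.hKab g hgK x hx, mul_assoc, mul_inv_cancel, mul_one]
  · right
    exact h.conj_eq_inv_of_not_mem hgH hgK hx

/-- every element of `H` outside `K` is conjugate to `t` -/
theorem isConj_t_of_not_mem (h : Hyp t s K) {g : G}
    (hg : g ∈ Subgroup.centralizer ({t} : Set G)) (hgK : g ∉ K) : IsConj t g :=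
  h.hconj t g h.ht (h.orderOf_eq_two_of_not_mem hg hgK)

theorem isConj_t_iff (h : Hyp t s K) (g : G) : IsConj t g ↔ orderOf g = 2 := by
  constructor
  · intro hc
    obtain ⟨c, hc⟩ := isConj_iff.mp hc
    have h1 : orderOf (c * t * c⁻¹) = orderOf t := by
      have := orderOf_injective (MulAut.conj c).toMonoidHom (MulAut.conj c).injective t
      simpa [MulAut.conj_apply] using this
    rw [← hc, h1]
    exact h.ht
  · intro hg; exact h.hconj t g h.ht hg

end Hyp

end Cfsg.Agent.Helper21.Bsw
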