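import Mathlib
import Cfsg.Agent.Helper21.BswBasic

/-!
Brauer–Suzuki–Wall, abstract form: conjugates of the configuration, `K`-type elements, orders.
-/

set_option autoImplicit false

namespace Cfsg.Agent.Helper21.Bsw

variable {G : Type*} [Group G] {t s : G} {K : Subgroup G}

/-- the conjugate subgroup `g K g⁻¹` -/
abbrev cj (g : G) (K : Subgroup G) : Subgroup G := K.map (MulAut.conj g).toMonoidHom

theorem mem_cj {g x : G} {K : Subgroup G} : x ∈ cj g K ↔ g⁻¹ * x * g ∈ K := by
  unfold cj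
  rw [Subgroup.mem_map]
  constructor
  · rintro ⟨y, hy, rfl⟩
    simpa [mul_assoc] using hy
  · intro h
    exact ⟨g⁻¹ * x * g, h, by simp [mul_assoc]⟩

theorem conj_mem_cj {g x : G} {K : Subgroup G} (hx : x ∈ K) : g * x * g⁻¹ ∈ cj g K := by
  rw [mem_cj]; simpa [mul_assoc] using hx

theorem centralizer_conj (g x : G) :
    Subgroup.centralizer ({g * x * g⁻¹} : Set G) = cj g (Subgroup.centralizer ({x} : Set G)) := by
  ext y
  rw [mem_cj, Subgroup.mem_centralizer_singleton_iff, Subgroup.mem_centralizer_singleton_iff]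
  constructor
  · intro h
    calc g⁻¹ * y * g * x = g⁻¹ * (y * (g * x * g⁻¹)) * g := by group
      _ = g⁻¹ * (g * x * g⁻¹ * y) * g := by rw [h]
      _ = x * (g⁻¹ * y * g) := by group
  · intro h
    calc y * (g * x * g⁻¹) = g * (g⁻¹ * y * g * x) * g⁻¹ := by group
      _ = g * (x * (g⁻¹ * y * g)) * g⁻¹ := by rw [h]
      _ = g * x * g⁻¹ * y := by group

theorem orderOf_conj' (g x : G) : orderOf (g * x * g⁻¹) = orderOf x := by
  have := orderOf_injective (MulAut.conj g).toMonoidHom (MulAut.conj g).injective x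
  simpa [MulAut.conj_apply] using this

theorem card_cj [Finite G] (g : G) (K : Subgroup G) : Nat.card (cj g K) = Nat.card K := by
  unfold cj
  exact Nat.card_congr (K.equivMapOfInjective _ (MulAut.conj g).injective).toEquiv.symm

/-- The hypotheses are invariant under conjugation. -/
theorem Hyp.conj (h : Hyp t s K) (g : G) : Hyp (g * t * g⁻¹) (g * s * g⁻¹) (cj g K) where
  ht := by rw [orderOf_conj']; exact h.ht
  hKab := by
    intro x hx y hy
    rw [mem_cj] at hx hy
    have := h.hKab _ hx _ hy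
    calc x * y = g * ((g⁻¹ * x * g) * (g⁻¹ * y * g)) * g⁻¹ := by group
      _ = g * ((g⁻¹ * y * g) * (g⁻¹ * x * g)) * g⁻¹ := by rw [this]
      _ = y * x := by group
  hKH := by
    rw [centralizer_conj]
    intro x hx
    rw [mem_cj] at hx ⊢
    exact h.hKH hx
  htK := conj_mem_cj h.htK
  hs := by rw [orderOf_conj']; exact h.hs
  hsH := by
    rw [centralizer_conj, mem_cj]
    have : g⁻¹ * (g * s * g⁻¹) * g = s := by group
    rw [this]; exact h.hsH
  hsK := by
    rw [mem_cj]
    have : g⁻¹ * (g * s * g⁻¹) * g = s := by group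
    rw [this]; exact h.hsK
  hH := by
    rw [centralizer_conj, ← h.hH]
    unfold cj
    rw [Subgroup.map_sup, MonoidHom.map_zpowers]
    rfl
  hCK := by
    rw [centralizer_conj]
    have h1 : cj g K ⊓ cj g (Subgroup.centralizer ({s} : Set G))
        = cj g (K ⊓ Subgroup.centralizer ({s} : Set G)) := by
      ext x
      simp only [Subgroup.mem_inf, mem_cj]
    rw [h1, h.hCK]
    unfold cj
    rw [MonoidHom.map_zpowers]
    rfl
  hinv := by
    intro x hx
    rw [mem_cj] at hx
    have := h.hinv _ hx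
    calc g * s * g⁻¹ * x * (g * s * g⁻¹)⁻¹ = g * (s * (g⁻¹ * x * g) * s⁻¹) * g⁻¹ := by group
      _ = g * (g⁻¹ * x * g)⁻¹ * g⁻¹ := by rw [this]
      _ = x⁻¹ := by group
  hTI := by
    intro a ha
    rw [centralizer_conj, mem_cj] at ha
    have := h.hTI _ ha
    rw [eq_bot_iff] at this ⊢
    intro x hx
    rw [Subgroup.mem_inf] at hx
    obtain ⟨hx1, hx2⟩ := hx
    rw [mem_cj] at hx1
    rw [Subgroup.mem_map] at hx2
    obtain ⟨y, hy, hyx⟩ := hx2
    rw [mem_cj] at hy
    have hmem : g⁻¹ * x * g ∈ K ⊓ K.map (MulAut.conj (g⁻¹ * a * g)).toMonoidHom := by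
      refine Subgroup.mem_inf.mpr ⟨hx1, ?_⟩
      rw [Subgroup.mem_map]
      refine ⟨g⁻¹ * y * g, hy, ?_⟩
      rw [← hyx]
      simp only [MulEquiv.coe_toMonoidHom, MulAut.conj_apply]
      group
    have h2 := this hmem
    rw [Subgroup.mem_bot] at h2 ⊢
    calc x = g * (g⁻¹ * x * g) * g⁻¹ := by group
      _ = 1 := by rw [h2]; group
  hconj := h.hconj

theorem kType_conj {x : G} (g : G) (hx : KType K x) : KType K (g * x * g⁻¹) := by
  obtain ⟨h1, a, ha⟩ := hx
  refine ⟨fun h => h1 ?_, g * a, ?_⟩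
  · have : x = g⁻¹ * (g * x * g⁻¹) * g := by group
    rw [this, h]; group
  · have : (g * a)⁻¹ * (g * x * g⁻¹) * (g * a) = a⁻¹ * x * a := by group
    rw [this]; exact ha

theorem kType_conj_iff {x : G} (g : G) : KType K (g * x * g⁻¹) ↔ KType K x := by
  constructor
  · intro h
    have := kType_conj (K := K) g⁻¹ h
    have e : g⁻¹ * (g * x * g⁻¹) * g⁻¹⁻¹ = x := by group
    rwa [e] at this
  · exact kType_conj g

theorem kType_of_mem {x : G} (hx : x ∈ K) (hx1 : x ≠ 1) : KType K x :=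
  ⟨hx1, 1, by simpa using hx⟩

/-- involutions are of `K`-type -/
theorem Hyp.kType_of_orderOf_two (h : Hyp t s K) {u : G} (hu : orderOf u = 2) : KType K u := by
  obtain ⟨c, hc⟩ := isConj_iff.mp (h.hconj t u h.ht hu)
  rw [← hc]
  exact kType_conj c (kType_of_mem h.htK h.t_ne_one)

theorem invCount_conj [Finite G] (g x : G) : invCount (g * x * g⁻¹) = invCount x := by
  unfold invCount
  refine Nat.card_congr ⟨fun u => ⟨g⁻¹ * u.1 * g, ?_, ?_⟩, fun u => ⟨g * u.1 * g⁻¹, ?_, ?_⟩, ?_, ?_⟩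
  · have := orderOf_conj' g⁻¹ u.1
    rw [inv_inv] at this
    rw [this]; exact u.2.1
  · have := u.2.2
    calc g⁻¹ * u.1 * g * x * (g⁻¹ * u.1 * g)⁻¹ = g⁻¹ * (u.1 * (g * x * g⁻¹) * u.1⁻¹) * g := by group
      _ = g⁻¹ * (g * x * g⁻¹)⁻¹ * g := by rw [this]
      _ = x⁻¹ := by group
  · rw [orderOf_conj']; exact u.2.1
  · have := u.2.2
    calc g * u.1 * g⁻¹ * (g * x * g⁻¹) * (g * u.1 * g⁻¹)⁻¹ = g * (u.1 * x * u.1⁻¹) * g⁻¹ := by group
      _ = g * x⁻¹ * g⁻¹ := by rw [this]
      _ = (g * x * g⁻¹)⁻¹ := by group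
  · intro u; apply Subtype.ext; simp only; group
  · intro u; apply Subtype.ext; simp only; group

/-- `|H| = 2 |K|` -/
theorem Hyp.card_H [Finite G] (h : Hyp t s K) :
    Nat.card (Subgroup.centralizer ({t} : Set G)) = 2 * Nat.card K := by
  classical
  -- K as a subgroup of H has index 2
  set H := Subgroup.centralizer ({t} : Set G) with hH
  have hidx : (K.subgroupOf H).index = 2 := by
    rw [Subgroup.index_eq_two_iff]
    refine ⟨⟨s, h.hsH⟩, ?_⟩
    intro b
    rw [Subgroup.mem_subgroupOf, Subgroup.mem_subgroupOf]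
    simp only [Subgroup.coe_mul]
    have hb := (h.mem_H_iff b.1).mp b.2
    by_cases hbK : (b : G) ∈ K
    · refine Or.inr ⟨hbK, ?_⟩
      intro hbs
      apply h.hsK
      have := K.mul_mem (K.inv_mem hbK) hbs
      simpa using this
    · refine Or.inl ⟨hb.resolve_left hbK, hbK⟩
  have h1 := (K.subgroupOf H).card_mul_index
  rw [hidx] at h1
  have h2 : Nat.card (K.subgroupOf H) = Nat.card K :=
    Nat.card_congr (Subgroup.subgroupOfEquivOfLe h.hKH).toEquiv
  rw [h2] at h1
  omega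

/-- `|K|` is even -/
theorem Hyp.two_dvd_card_K [Finite G] (h : Hyp t s K) : 2 ∣ Nat.card K := by
  have h1 : orderOf (⟨t, h.htK⟩ : K) = 2 := by
    rw [← h.ht]
    exact Subgroup.orderOf_mk t h.htK
  rw [← h1]
  exact orderOf_dvd_natCard _

end Cfsg.Agent.Helper21.Bsw
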