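import Mathlib
import Cfsg.Agent.Helper21.BswBasic2

/-!
Brauer–Suzuki–Wall, abstract form: the interfaces between the character theory, the counting and
the local group theory.
-/

set_option autoImplicit false

namespace Cfsg.Agent.Helper21.Bsw

variable {G : Type*} [Group G]

/-- non-identity elements that are not of `K`-type -/
def RType (K : Subgroup G) (x : G) : Prop := x ≠ 1 ∧ ¬ KType K x

/-- The counting data in the case `ε = +1` (`q = 2k+1`). -/
structure CountPlus (K : Subgroup G) : Prop where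
  card_G : 2 * Nat.card G = (2 * Nat.card K + 1) * (2 * Nat.card K + 2) * (2 * Nat.card K)
  inv : ∀ x : G, RType K x →
    invCount x = 2 * Nat.card K + 1 ∨ invCount x = Nat.card K + 1
  card_R0 : Nat.card {x : G // RType K x ∧ invCount x = 2 * Nat.card K + 1}
    = (2 * Nat.card K + 1) ^ 2 - 1

/-- The counting data in the case `ε = -1` (`q = 2k-1`). -/
structure CountMinus (K : Subgroup G) : Prop where
  card_G : 2 * Nat.card G = (2 * Nat.card K - 1) * (2 * Nat.card K) * (2 * Nat.card K - 2)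
  inv : ∀ x : G, RType K x → invCount x = 0 ∨ invCount x = Nat.card K - 1
  card_R0 : Nat.card {x : G // RType K x ∧ invCount x = 0} = (2 * Nat.card K - 1) ^ 2 - 1
  dvd : ∀ C : Subgroup G, (∀ c ∈ C, c ≠ 1 → RType K c ∧ invCount c = 0) →
    Nat.card C ∣ 2 * Nat.card K - 1
  exists_R1 : 4 ≤ Nat.card K → ∃ x : G, RType K x ∧ invCount x = Nat.card K - 1

/-- The conclusion of the abstract Brauer–Suzuki–Wall theorem. -/
def Concl (G : Type*) [Group G] : Prop :=
  ∃ Q D : Subgroup G, 2 * Nat.card G = Nat.card ↥Q * (Nat.card ↥Q + 1) * (Nat.card ↥Q - 1) ∧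
    (∀ x ∈ Q, x ≠ 1 → Subgroup.centralizer ({x} : Set G) = Q) ∧
    IsMulCommutative ↥D ∧ 2 * Nat.card ↥D + 1 = Nat.card ↥Q ∧ Q ⊓ D = ⊥ ∧
    Subgroup.normalizer (Q : Set G) = Q ⊔ D ∧
    ∀ X : Subgroup G, X ≤ D → X ≠ ⊥ →
      Subgroup.normalizer (X : Set G) = Subgroup.normalizer (D : Set G) ∧
      ∃ u : G, orderOf u = 2 ∧ u ∉ D ∧ (∀ d ∈ D, u * d * u⁻¹ = d⁻¹) ∧
        Subgroup.normalizer (D : Set G) = D ⊔ Subgroup.zpowers u

theorem rType_conj_iff {K : Subgroup G} {x : G} (g : G) : RType K (g * x * g⁻¹) ↔ RType K x := by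
  unfold RType
  rw [kType_conj_iff]
  constructor
  · rintro ⟨h1, h2⟩
    refine ⟨fun h => h1 ?_, h2⟩
    rw [h]; group
  · rintro ⟨h1, h2⟩
    refine ⟨fun h => h1 ?_, h2⟩
    have : x = g⁻¹ * (g * x * g⁻¹) * g := by group
    rw [this, h]; group

end Cfsg.Agent.Helper21.Bsw
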