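import Mathlib
import Cfsg.Agent.Helper21.BswDefs

/-!
Brauer–Suzuki–Wall, abstract form: centralizers of elements that are not of `K`-type.
-/

set_option autoImplicit false

namespace Cfsg.Agent.Helper21.Bsw

variable {G : Type*} [Group G] {t s : G} {K : Subgroup G}

/-- a fixed-point-free involution on a finite subgroup inverts it, and the subgroup is abelian -/
theorem inverts_of_fpf' [Finite G] (C : Subgroup G) (u : G) (hu : u * u = 1)
    (hnorm : ∀ c ∈ C, u * c * u⁻¹ ∈ C)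
    (hfpf : ∀ c ∈ C, u * c * u⁻¹ = c → c = 1) :
    (∀ c ∈ C, u * c * u⁻¹ = c⁻¹) ∧ ∀ a ∈ C, ∀ b ∈ C, a * b = b * a := by
  let φ : C →* C :=
    { toFun := fun c => ⟨u * c * u⁻¹, hnorm c c.2⟩
      map_one' := by apply Subtype.ext; simp
      map_mul' := by intro a b; apply Subtype.ext; simp only [Subgroup.coe_mul]; group }
  have hφ : MonoidHom.FixedPointFree φ := by
    intro c hc
    apply Subtype.ext
    exact hfpf c c.2 (congrArg Subtype.val hc)
  have hui : u⁻¹ = u := inv_eq_of_mul_eq_one_left hu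
  have h2 : Function.Involutive φ := by
    intro c
    apply Subtype.ext
    change u * (u * (c : G) * u⁻¹) * u⁻¹ = c
    calc u * (u * (c : G) * u⁻¹) * u⁻¹ = (u * u) * c * (u * u)⁻¹ := by group
      _ = c := by rw [hu]; simp
  have hinv := hφ.coe_eq_inv_of_involutive h2
  refine ⟨?_, ?_⟩
  · intro c hc
    have := congrFun hinv ⟨c, hc⟩
    exact congrArg Subtype.val this
  · intro a ha b hb
    have := hφ.commute_all_of_involutive h2 ⟨a, ha⟩ ⟨b, hb⟩
    exact congrArg Subtype.val this.eq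

namespace Hyp

/-- every non-identity element of `H` is of `K`-type -/
theorem kType_of_mem_H (h : Hyp t s K) {x : G} (hx : x ∈ Subgroup.centralizer ({t} : Set G))
    (hx1 : x ≠ 1) : KType K x := by
  by_cases hxK : x ∈ K
  · exact kType_of_mem hxK hx1
  · exact h.kType_of_orderOf_two (h.orderOf_eq_two_of_not_mem hx hxK)

/-- CENT-1 -/
theorem rType_of_mem_centralizer (h : Hyp t s K) {x y : G} (hx : RType K x)
    (hy : y ∈ Subgroup.centralizer ({x} : Set G)) (hy1 : y ≠ 1) : RType K y := by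
  refine ⟨hy1, ?_⟩
  rintro ⟨-, g, hg⟩
  -- k = g⁻¹ y g ∈ K, non-identity; g⁻¹ x g centralizes it
  apply hx.2
  have hk1 : g⁻¹ * y * g ≠ 1 := by
    intro h1
    apply hy1
    calc y = g * (g⁻¹ * y * g) * g⁻¹ := by group
      _ = 1 := by rw [h1]; group
  have hcent : g⁻¹ * x * g ∈ Subgroup.centralizer ({g⁻¹ * y * g} : Set G) := by
    rw [Subgroup.mem_centralizer_singleton_iff] at hy ⊢
    calc g⁻¹ * x * g * (g⁻¹ * y * g) = g⁻¹ * (x * y) * g := by group
      _ = g⁻¹ * (y * x) * g := by rw [hy]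
      _ = g⁻¹ * y * g * (g⁻¹ * x * g) := by group
  have hH := h.centralizer_le_H hg hk1 hcent
  have hx1' : g⁻¹ * x * g ≠ 1 := by
    intro h1
    apply hx.1
    calc x = g * (g⁻¹ * x * g) * g⁻¹ := by group
      _ = 1 := by rw [h1]; group
  have := h.kType_of_mem_H hH hx1'
  have h2 := (kType_conj_iff (K := K) (x := x) g⁻¹).mp (by simpa using this)
  exact h2

/-- CENT-2 -/
theorem centralizer_inf_eq_bot (h : Hyp t s K) {x u : G} (hx : RType K x)
    (hu : orderOf u = 2) :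
    Subgroup.centralizer ({x} : Set G) ⊓ Subgroup.centralizer ({u} : Set G) = ⊥ := by
  rw [eq_bot_iff]
  intro c hc
  rw [Subgroup.mem_inf] at hc
  rw [Subgroup.mem_bot]
  by_contra hc1
  have hR := h.rType_of_mem_centralizer hx hc.1 hc1
  apply hR.2
  -- c ∈ C(u), u = g t g⁻¹
  obtain ⟨g, hg⟩ := isConj_iff.mp (h.hconj t u h.ht hu)
  have h2 := hc.2
  rw [← hg, centralizer_conj, mem_cj] at h2
  have hne : g⁻¹ * c * g ≠ 1 := by
    intro h1
    apply hc1
    calc c = g * (g⁻¹ * c * g) * g⁻¹ := by group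
      _ = 1 := by rw [h1]; group
  have := h.kType_of_mem_H h2 hne
  exact (kType_conj_iff (K := K) (x := c) g⁻¹).mp (by simpa using this)

/-- CENT-3 -/
theorem centralizer_inverted [Finite G] (h : Hyp t s K) {x u : G} (hx : RType K x)
    (hu : orderOf u = 2) (hux : u * x * u⁻¹ = x⁻¹) :
    (∀ c ∈ Subgroup.centralizer ({x} : Set G), u * c * u⁻¹ = c⁻¹) ∧
    (∀ a ∈ Subgroup.centralizer ({x} : Set G), ∀ b ∈ Subgroup.centralizer ({x} : Set G),
      a * b = b * a) ∧
    Nat.card (Subgroup.centralizer ({x} : Set G)) = invCount x := by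
  have hu2 : u * u = 1 := by
    have := pow_orderOf_eq_one u
    rwa [hu, pow_two] at this
  have hui : u⁻¹ = u := inv_eq_of_mul_eq_one_left hu2
  have hnorm : ∀ c ∈ Subgroup.centralizer ({x} : Set G),
      u * c * u⁻¹ ∈ Subgroup.centralizer ({x} : Set G) := by
    intro c hc
    rw [Subgroup.mem_centralizer_singleton_iff] at hc ⊢
    -- u c u⁻¹ commutes with x  ⇔ c commutes with u⁻¹ x u = x⁻¹
    have hx' : u⁻¹ * x * u = x⁻¹ := by rw [hui] at hux ⊢; exact hux
    have hcx : c * x⁻¹ = x⁻¹ * c := by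
      calc c * x⁻¹ = x⁻¹ * (x * c) * x⁻¹ := by group
        _ = x⁻¹ * (c * x) * x⁻¹ := by rw [hc]
        _ = x⁻¹ * c := by group
    calc u * c * u⁻¹ * x = u * (c * (u⁻¹ * x * u)) * u⁻¹ := by group
      _ = u * (c * x⁻¹) * u⁻¹ := by rw [hx']
      _ = u * (x⁻¹ * c) * u⁻¹ := by rw [hcx]
      _ = u * ((u⁻¹ * x * u) * c) * u⁻¹ := by rw [hx']
      _ = x * (u * c * u⁻¹) := by group
  have hfpf : ∀ c ∈ Subgroup.centralizer ({x} : Set G), u * c * u⁻¹ = c → c = 1 := by
    intro c hc hcu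
    have hmem : c ∈ Subgroup.centralizer ({x} : Set G) ⊓ Subgroup.centralizer ({u} : Set G) := by
      refine Subgroup.mem_inf.mpr ⟨hc, ?_⟩
      rw [Subgroup.mem_centralizer_singleton_iff]
      calc c * u = (u * c * u⁻¹) * u := by rw [hcu]
        _ = u * c := by group
    rw [h.centralizer_inf_eq_bot hx hu, Subgroup.mem_bot] at hmem
    exact hmem
  obtain ⟨hinv, hab⟩ := inverts_of_fpf' _ u hu2 hnorm hfpf
  refine ⟨hinv, hab, ?_⟩
  -- the involutions inverting `x` are the `u * c`, `c ∈ C(x)`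
  unfold invCount
  refine Nat.card_congr ⟨fun c => ⟨u * c.1, ?_, ?_⟩, fun v => ⟨u⁻¹ * v.1, ?_⟩, ?_, ?_⟩
  · -- order 2
    have hc := hinv c.1 c.2
    have hsq : (u * c.1) * (u * c.1) = 1 := by
      calc (u * c.1) * (u * c.1) = (u * c.1 * u⁻¹) * (u * u) * c.1 := by group
        _ = 1 := by rw [hc, hu2]; group
    have hne : u * c.1 ≠ 1 := by
      intro h1
      have hcu : (c.1 : G) = u := by
        have : (c.1 : G) = u⁻¹ := by
          calc (c.1 : G) = u⁻¹ * (u * c.1) := by group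
            _ = u⁻¹ := by rw [h1, mul_one]
        rw [this, hui]
      have hmem : u ∈ Subgroup.centralizer ({x} : Set G) ⊓ Subgroup.centralizer ({u} : Set G) := by
        refine Subgroup.mem_inf.mpr ⟨hcu ▸ c.2, ?_⟩
        rw [Subgroup.mem_centralizer_singleton_iff]
      rw [h.centralizer_inf_eq_bot hx hu, Subgroup.mem_bot] at hmem
      rw [hmem, orderOf_one] at hu
      omega
    exact orderOf_eq_prime (by rw [pow_two]; exact hsq) hne
  · have hc := c.2
    rw [Subgroup.mem_centralizer_singleton_iff] at hc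
    calc u * c.1 * x * (u * c.1)⁻¹ = u * ((c.1 * x) * (c.1 : G)⁻¹) * u⁻¹ := by group
      _ = u * ((x * c.1) * (c.1 : G)⁻¹) * u⁻¹ := by rw [hc]
      _ = u * x * u⁻¹ := by group
      _ = x⁻¹ := hux
  · rw [Subgroup.mem_centralizer_singleton_iff]
    have hv := v.2.2
    -- v x v⁻¹ = x⁻¹ and u x u⁻¹ = x⁻¹
    have h1 : u⁻¹ * x⁻¹ * u = x := by
      rw [← hux]; group
    calc u⁻¹ * v.1 * x = u⁻¹ * (v.1 * x * (v.1 : G)⁻¹) * v.1 := by group
      _ = u⁻¹ * x⁻¹ * v.1 := by rw [hv]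
      _ = (u⁻¹ * x⁻¹ * u) * (u⁻¹ * v.1) := by group
      _ = x * (u⁻¹ * v.1) := by rw [h1]
  · intro c; apply Subtype.ext; simp
  · intro v; apply Subtype.ext; simp

end Hyp

end Cfsg.Agent.Helper21.Bsw
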