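import Mathlib
import Cfsg.Prelude.Def_Characters
import Cfsg.Agent.Helper21.BswCent

/-!
Brauer–Suzuki–Wall, abstract form: the refined conclusion and the output of the character theory.
-/

set_option autoImplicit false

namespace Cfsg.Agent.Helper21.Bsw

universe u

/-- The conclusion of the abstract Brauer–Suzuki–Wall theorem, with one more clause on `D` (used for
the identification with `PSL(2, q)`). -/
def ConclX (G : Type*) [Group G] : Prop :=
  ∃ Q D : Subgroup G, 2 * Nat.card G = Nat.card ↥Q * (Nat.card ↥Q + 1) * (Nat.card ↥Q - 1) ∧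
    (∀ x ∈ Q, x ≠ 1 → Subgroup.centralizer ({x} : Set G) = Q) ∧
    IsMulCommutative ↥D ∧ 2 * Nat.card ↥D + 1 = Nat.card ↥Q ∧ Q ⊓ D = ⊥ ∧
    Subgroup.normalizer (Q : Set G) = Q ⊔ D ∧
    (∀ X : Subgroup G, X ≤ D → X ≠ ⊥ →
      Subgroup.normalizer (X : Set G) = Subgroup.normalizer (D : Set G) ∧
      ∃ u : G, orderOf u = 2 ∧ u ∉ D ∧ (∀ d ∈ D, u * d * u⁻¹ = d⁻¹) ∧
        Subgroup.normalizer (D : Set G) = D ⊔ Subgroup.zpowers u) ∧
    (Nat.card ↥D ≤ 2 ∨ ∃ d ∈ D, d * d ≠ 1)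

theorem ConclX.concl {G : Type*} [Group G] (h : ConclX G) : Concl G := by
  obtain ⟨Q, D, h1, h2, h3, h4, h5, h6, h7, -⟩ := h
  exact ⟨Q, D, h1, h2, h3, h4, h5, h6, h7⟩

/-- The output of the character theory: `ε = ±1`, `q = 2k + ε`, `|G| = q(q²-1)/2`, and an irreducible
character `Y` of degree `q`, equal to `ε` on the elements of `K`-type, which computes the number of
involutions inverting any other non-identity element. -/
def CharData {G : Type u} [Group G] (K : Subgroup G) : Prop :=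
  ∃ (ε : ℤ) (Y : Cfsg.IrrCharacter G), (ε = 1 ∨ ε = -1) ∧
    2 * (Nat.card G : ℤ)
      = (2 * Nat.card K + ε) * (2 * Nat.card K + ε + 1) * (2 * Nat.card K + ε - 1) ∧
    (Y : G → ℂ) 1 = ((2 * Nat.card K + ε : ℤ) : ℂ) ∧
    (∀ x : G, KType K x → (Y : G → ℂ) x = (ε : ℂ)) ∧
    (∀ x : G, RType K x → (invCount x : ℂ) =
      if ε = 1 then ((2 * Nat.card K + 1 : ℕ) : ℂ) + (Nat.card K : ℂ) * (Y : G → ℂ) x
      else ((Nat.card K : ℂ) - 1) * (Y : G → ℂ) x)

end Cfsg.Agent.Helper21.Bsw
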