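import Mathlib
import Cfsg.Agent.Helper21.BswDefs2
import Cfsg.Agent.Helper8.Ind
import Cfsg.Agent.Helper5.IndFun
import Cfsg.Agent.Helper24.Generalized
import Cfsg.Agent.Helper24.RealChar
import Cfsg.Agent.Helper24.Orthogonality
import Cfsg.Agent.Helper24.Linear
import Cfsg.Agent.Helper24.Abelian

/-!
Brauer–Suzuki–Wall, abstract form: the generalized characters `Θ_λ = (1_K - λ)^G`.
-/

set_option autoImplicit false

namespace Cfsg.Agent.Helper21.Bsw

open Cfsg Cfsg.Agent.Helper24 Cfsg.Agent.Helper8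

universe u

variable {G : Type u} [Group G] [Fintype G] {t s : G} {K : Subgroup G}

/-- induction from `K` evaluated at a non-identity element of `K` -/
theorem Hyp.indFun_apply (h : Hyp t s K) (θ : K → ℂ) {x : G} (hx : x ∈ K) (hx1 : x ≠ 1) :
    indFun K θ x = θ ⟨x, hx⟩ + θ ⟨x⁻¹, K.inv_mem hx⟩ := by
  classical
  rw [indFun_def]
  set H := Subgroup.centralizer ({t} : Set G) with hH
  have key : ∀ g : G, extendByZero K θ (g⁻¹ * x * g)
      = (if g ∈ K then θ ⟨x, hx⟩ - θ ⟨x⁻¹, K.inv_mem hx⟩ else 0)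
        + (if g ∈ H then θ ⟨x⁻¹, K.inv_mem hx⟩ else 0) := by
    intro g
    by_cases hgK : g ∈ K
    · rw [if_pos hgK, if_pos (h.hKH hgK), sub_add_cancel]
      have e : g⁻¹ * x * g = x := by
        rw [mul_assoc, h.hKab x hx g hgK, ← mul_assoc, inv_mul_cancel, one_mul]
      rw [ebz_mem K θ (by rw [e]; exact hx)]
      congr 1
      exact Subtype.ext e
    · rw [if_neg hgK, zero_add]
      by_cases hgH : g ∈ H
      · rw [if_pos hgH]
        have hgi : g⁻¹ ∈ H := H.inv_mem hgH
        have hgiK : g⁻¹ ∉ K := fun hc => hgK (by simpa using K.inv_mem hc)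
        have e : g⁻¹ * x * g = x⁻¹ := by
          have := h.conj_eq_inv_of_not_mem hgi hgiK hx
          rwa [inv_inv] at this
        rw [ebz_mem K θ (by rw [e]; exact K.inv_mem hx)]
        congr 1
        exact Subtype.ext e
      · rw [if_neg hgH]
        apply ebz_not_mem
        intro hmem
        exact hgH (h.mem_H_of_conj_mem'' hx hx1 hmem)
  simp_rw [key]
  rw [Finset.sum_add_distrib, Finset.sum_ite, Finset.sum_ite, Finset.sum_const_zero,
    Finset.sum_const_zero, add_zero, add_zero, Finset.sum_const, Finset.sum_const,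
    nsmul_eq_mul, nsmul_eq_mul]
  have hcardK : ((Finset.univ.filter (fun g : G => g ∈ K)).card : ℂ) = (Nat.card K : ℂ) := by
    rw [Nat.card_eq_fintype_card, Fintype.card_subtype]
  have hcardH : ((Finset.univ.filter (fun g : G => g ∈ H)).card : ℂ) = (Nat.card H : ℂ) := by
    rw [Nat.card_eq_fintype_card, Fintype.card_subtype]
  rw [hcardK, hcardH, h.card_H]
  have hK0 : (Nat.card K : ℂ) ≠ 0 := by exact_mod_cast (Nat.card_pos (α := K)).ne'
  push_cast
  field_simp
  ring

/-- induction from `K` of a function vanishing at `1` vanishes off the `K`-type elements -/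
theorem indFun_vanish (θ : K → ℂ) (hθ1 : θ 1 = 0) {g : G} (hg : ¬ KType K g) :
    indFun K θ g = 0 := by
  rw [indFun_def]
  have : ∀ x : G, extendByZero K θ (x⁻¹ * g * x) = 0 := by
    intro x
    by_cases hmem : x⁻¹ * g * x ∈ K
    · by_cases hg1 : g = 1
      · have e : x⁻¹ * g * x = ((1 : K) : G) := by rw [hg1]; simp
        rw [e, ebz_coe, hθ1]
      · exact absurd ⟨hg1, x, hmem⟩ hg
    · exact ebz_not_mem K θ hmem
  simp_rw [this]
  rw [Finset.sum_const_zero, mul_zero]

/-- `Θ_λ = (1_K - λ)^G` -/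
noncomputable def Th (K : Subgroup G) (lam : IrrCharacter K) : G → ℂ :=
  indFun K (fun c => 1 - (lam : K → ℂ) c)

theorem Th_isGen (lam : IrrCharacter K) : IsGeneralizedCharacter G (Th K lam) := by
  apply IsGeneralizedCharacter.indFun
  exact IsGeneralizedCharacter.sub
    (IsIrrCharacter.isGeneralizedCharacter (isIrrCharacter_const_one (G := K)))
    (IsIrrCharacter.isGeneralizedCharacter lam.2)

theorem Th_isClassFunction (lam : IrrCharacter K) : IsClassFunction G (Th K lam) :=
  indFun_isClassFunction K _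

/-- irreducible characters of `K` are linear -/
theorem Hyp.irr_one (h : Hyp t s K) (lam : IrrCharacter K) : (lam : K → ℂ) 1 = 1 := by
  have hcomm : ∀ a b : K, a * b = b * a := fun a b => Subtype.ext (h.hKab a a.2 b b.2)
  exact (comm_iff_forall_irr_one.mp hcomm) lam

theorem Hyp.Th_vanish (h : Hyp t s K) (lam : IrrCharacter K) {g : G} (hg : ¬ KType K g) :
    Th K lam g = 0 :=
  indFun_vanish _ (by rw [h.irr_one lam, sub_self]) hg

theorem Hyp.Th_one (h : Hyp t s K) (lam : IrrCharacter K) : Th K lam 1 = 0 :=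
  h.Th_vanish lam (fun hk => hk.1 rfl)

theorem Hyp.Th_apply (h : Hyp t s K) (lam : IrrCharacter K) {x : G} (hx : x ∈ K) (hx1 : x ≠ 1) :
    Th K lam x = 2 - (lam : K → ℂ) ⟨x, hx⟩ - (starRingEnd ℂ) ((lam : K → ℂ) ⟨x, hx⟩) := by
  unfold Th
  rw [h.indFun_apply _ hx hx1]
  have : (⟨x⁻¹, K.inv_mem hx⟩ : K) = (⟨x, hx⟩ : K)⁻¹ := rfl
  rw [this, irr_inv]
  ring

/-- the restriction of `Θ_μ` to `K` -/
theorem Hyp.Th_restrict (h : Hyp t s K) (mu : IrrCharacter K) (c : K) :
    Th K mu (c : G) = 2 - (mu : K → ℂ) c - (starRingEnd ℂ) ((mu : K → ℂ) c) := by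
  by_cases hc : (c : G) = 1
  · have hc' : c = 1 := Subtype.ext hc
    rw [hc, h.Th_one, hc', h.irr_one mu, map_one]
    ring
  · exact h.Th_apply mu c.2 hc

theorem Hyp.Th_inner_one [Fintype K] (h : Hyp t s K) {lam : IrrCharacter K}
    (hl : lam ≠ trivIrr K) : classInner (Th K lam) (fun _ => (1 : ℂ)) = 1 := by
  unfold Th
  rw [frobenius_reciprocity K _ _ (fun _ _ => rfl)]
  have h1 : (fun c : K => 1 - (lam : K → ℂ) c) = (trivIrr K : K → ℂ) - (lam : K → ℂ) := rfl
  have h2 : (fun _ : K => (1 : ℂ)) = (trivIrr K : K → ℂ) := rfl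
  rw [h1, h2, Helper24.classInner_sub_left, classInner_irr_self, classInner_irr_ne hl, sub_zero]

theorem Hyp.Th_inner [Fintype K] [DecidableEq (IrrCharacter K)] (h : Hyp t s K)
    {lam mu : IrrCharacter K} (hl : lam ≠ trivIrr K) (hm : mu ≠ trivIrr K) :
    classInner (Th K lam) (Th K mu)
      = 2 + (if lam = mu then 1 else 0) + (if lam = irrStar mu then 1 else 0) := by
  have hms : irrStar mu ≠ trivIrr K := by
    intro hh
    apply hm
    have := congrArg irrStar hh
    rw [irrStar_irrStar] at this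
    rw [this]
    apply Subtype.ext
    funext c
    simp
  have h0 : classInner (Th K lam) (Th K mu)
      = classInner (fun c : K => 1 - (lam : K → ℂ) c) (fun c : K => Th K mu (c : G)) :=
    frobenius_reciprocity K _ _ (Th_isClassFunction mu)
  rw [h0]
  have h1 : (fun c : K => 1 - (lam : K → ℂ) c) = (trivIrr K : K → ℂ) - (lam : K → ℂ) := rfl
  have h2 : (fun c : K => Th K mu (c : G))
      = (trivIrr K : K → ℂ) + (trivIrr K : K → ℂ) - (mu : K → ℂ) - (irrStar mu : K → ℂ) := by
    funext c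
    rw [h.Th_restrict mu c]
    simp only [Pi.sub_apply, Pi.add_apply, trivIrr_apply, irrStar_apply]
    ring
  rw [h1, h2]
  simp only [Helper24.classInner_sub_left, Helper24.classInner_sub_right,
    Helper24.classInner_add_right]
  rw [classInner_irr_self, classInner_irr_ne hm.symm, classInner_irr_ne hms.symm,
    classInner_irr_ne hl, classInner_irr lam mu, classInner_irr lam (irrStar mu)]
  ring

end Cfsg.Agent.Helper21.Bsw
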