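import Mathlib
import Cfsg.Agent.Helper21.BswTheta
import Cfsg.Agent.Helper24.Expansion
import Cfsg.Agent.Helper24.ColumnOrth

/-!
Brauer–Suzuki–Wall, abstract form: the integer coefficient vectors of the `Θ_λ` and the restriction
of the irreducible characters of `G` to `K`.
-/

set_option autoImplicit false
set_option linter.unusedSectionVars false

namespace Cfsg.Agent.Helper21.Bsw

open Cfsg Cfsg.Agent.Helper24 Cfsg.Agent.Helper8

universe u

variable {G : Type u} [Group G] [Fintype G] [Fintype (IrrCharacter G)] {t s : G} {K : Subgroup G}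

/-- the multiplicity of `χ` in `Θ_λ` -/
noncomputable def cf (K : Subgroup G) (lam : IrrCharacter K) (χ : IrrCharacter G) : ℤ :=
  Classical.choose (IsGeneralizedCharacter.classInner_irr_int (Th_isGen lam) χ)

theorem cf_spec (lam : IrrCharacter K) (χ : IrrCharacter G) :
    classInner (Th K lam) (χ : G → ℂ) = (cf K lam χ : ℂ) :=
  Classical.choose_spec (IsGeneralizedCharacter.classInner_irr_int (Th_isGen lam) χ)

theorem Th_eq_sum (lam : IrrCharacter K) :
    Th K lam = ∑ χ : IrrCharacter G, (cf K lam χ : ℂ) • (χ : G → ℂ) := by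
  have := IsGeneralizedCharacter.eq_sum_classInner (Th_isGen (K := K) lam)
  simp_rw [cf_spec] at this
  exact this

theorem Th_apply_eq_sum (lam : IrrCharacter K) (g : G) :
    Th K lam g = ∑ χ : IrrCharacter G, (cf K lam χ : ℂ) * (χ : G → ℂ) g := by
  have := congrFun (Th_eq_sum (K := K) lam) g
  rw [this]
  simp [Finset.sum_apply]

theorem classInner_Th_Th (lam mu : IrrCharacter K) :
    classInner (Th K lam) (Th K mu) = ((∑ χ : IrrCharacter G, cf K lam χ * cf K mu χ : ℤ) : ℂ) := by
  conv_lhs => rw [Th_eq_sum lam, Th_eq_sum mu]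
  rw [classInner_sum_sum]
  push_cast
  refine Finset.sum_congr rfl fun χ _ => ?_
  rw [map_intCast]

theorem Hyp.cf_gram [Fintype K] [DecidableEq (IrrCharacter K)] (h : Hyp t s K)
    {lam mu : IrrCharacter K} (hl : lam ≠ trivIrr K) (hm : mu ≠ trivIrr K) :
    ∑ χ : IrrCharacter G, cf K lam χ * cf K mu χ
      = 2 + (if lam = mu then 1 else 0) + (if lam = irrStar mu then 1 else 0) := by
  have h1 := classInner_Th_Th (G := G) lam mu
  rw [h.Th_inner hl hm] at h1
  have h2 : ((2 + (if lam = mu then 1 else 0) + (if lam = irrStar mu then 1 else 0) : ℤ) : ℂ)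
      = 2 + (if lam = mu then 1 else 0) + (if lam = irrStar mu then 1 else 0) := by
    push_cast
    split_ifs <;> simp
  rw [← h2] at h1
  exact_mod_cast h1.symm

theorem Hyp.cf_triv [Fintype K] (h : Hyp t s K) {lam : IrrCharacter K} (hl : lam ≠ trivIrr K) :
    cf K lam (trivIrr G) = 1 := by
  have h1 := cf_spec (G := G) lam (trivIrr G)
  have h2 : ((trivIrr G : IrrCharacter G) : G → ℂ) = fun _ => (1 : ℂ) := rfl
  rw [h2, h.Th_inner_one hl] at h1
  exact_mod_cast h1.symm

theorem Hyp.cf_deg (h : Hyp t s K) (lam : IrrCharacter K) :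
    ∑ χ : IrrCharacter G, cf K lam χ * (irrDeg χ : ℤ) = 0 := by
  have h1 := Th_apply_eq_sum (G := G) lam 1
  rw [h.Th_one] at h1
  simp_rw [irrDeg_spec] at h1
  have : ((∑ χ : IrrCharacter G, cf K lam χ * (irrDeg χ : ℤ) : ℤ) : ℂ) = 0 := by
    push_cast
    exact h1.symm
  exact_mod_cast this

/-- `Θ` of the conjugate character -/
theorem Hyp.Th_star (h : Hyp t s K) (lam : IrrCharacter K) : Th K (irrStar lam) = Th K lam := by
  funext g
  by_cases hg : KType K g
  · obtain ⟨hg1, a, ha⟩ := hg
    have e : g = a * (a⁻¹ * g * a) * a⁻¹ := by group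
    have hne : a⁻¹ * g * a ≠ 1 := by
      intro h1
      apply hg1
      rw [e, h1]; group
    rw [e, Th_isClassFunction (irrStar lam) _ a, Th_isClassFunction lam _ a,
      h.Th_apply _ ha hne, h.Th_apply _ ha hne, irrStar_apply, Complex.conj_conj]
    ring
  · rw [h.Th_vanish _ hg, h.Th_vanish _ hg]

theorem Hyp.cf_star (h : Hyp t s K) (lam : IrrCharacter K) (χ : IrrCharacter G) :
    cf K (irrStar lam) χ = cf K lam χ := by
  have h1 := cf_spec (G := G) (irrStar lam) χ
  rw [h.Th_star, cf_spec] at h1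
  exact_mod_cast h1.symm

theorem Th_trivIrr : Th K (trivIrr K) = 0 := by
  unfold Th
  have : (fun c : K => 1 - (trivIrr K : K → ℂ) c) = 0 := by
    funext c; simp
  rw [this, indFun_zero]

theorem cf_trivIrr [Fintype K] (χ : IrrCharacter G) : cf K (trivIrr K) χ = 0 := by
  have h1 := cf_spec (G := G) (trivIrr K) χ
  rw [Th_trivIrr, Helper24.classInner_zero_left] at h1
  exact_mod_cast h1.symm

/-- the sum of all irreducible characters of `K` at a non-identity element -/
theorem Hyp.sum_irr_K [Fintype (IrrCharacter K)] (h : Hyp t s K) {c : K} (hc : c ≠ 1) :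
    ∑ lam : IrrCharacter K, (lam : K → ℂ) c = 0 := by
  classical
  have h1 := sum_irr_mul_conj (G := K) c 1
  rw [if_neg] at h1
  · rw [← h1]
    refine Finset.sum_congr rfl fun lam _ => ?_
    rw [h.irr_one lam, map_one, mul_one]
  · intro hconj
    exact hc (isConj_one_left.mp hconj)

/-- **The restriction formula**: the values of `χ` on `K \ 1` in terms of the coefficients. -/
theorem Hyp.irr_apply_K [Fintype K] [Fintype (IrrCharacter K)] (h : Hyp t s K)
    (χ : IrrCharacter G) {c : K} (hc : c ≠ 1) :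
    (χ : G → ℂ) (c : G) = - ∑ lam : IrrCharacter K, (cf K lam χ : ℂ) * (lam : K → ℂ) c := by
  classical
  -- the restriction of χ to K
  set ψ : K → ℂ := fun c => (χ : G → ℂ) (c : G) with hψ
  have hgen : IsGeneralizedCharacter K ψ :=
    IsGeneralizedCharacter.restrict (IsIrrCharacter.isGeneralizedCharacter χ.2) K
  have hexp := IsGeneralizedCharacter.eq_sum_classInner hgen
  -- the coefficients
  have hcoef : ∀ lam : IrrCharacter K, classInner ψ (lam : K → ℂ)
      = classInner ψ (trivIrr K : K → ℂ) - (cf K lam χ : ℂ) := by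
    intro lam
    have h1 := cf_spec (G := G) lam χ
    unfold Th at h1
    rw [frobenius_reciprocity K _ _ (isClassFunction_irr χ)] at h1
    have h2 : (fun c : K => 1 - (lam : K → ℂ) c) = (trivIrr K : K → ℂ) - (lam : K → ℂ) := rfl
    rw [h2, Helper24.classInner_sub_left] at h1
    -- conjugate
    have h3 := congrArg (starRingEnd ℂ) h1
    rw [map_sub, Helper24.classInner_conj_symm, Helper24.classInner_conj_symm,
      map_intCast] at h3
    change classInner ψ (trivIrr K : K → ℂ) - classInner ψ (lam : K → ℂ) = _ at h3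
    rw [← h3]; ring
  have hval := congrFun hexp c
  simp only [Finset.sum_apply, Pi.smul_apply, smul_eq_mul] at hval
  change (χ : G → ℂ) (c : G) = _ at hval
  rw [hval]
  have hstep : ∀ lam : IrrCharacter K, classInner ψ (lam : K → ℂ) * (lam : K → ℂ) c
      = classInner ψ (trivIrr K : K → ℂ) * (lam : K → ℂ) c
        - (cf K lam χ : ℂ) * (lam : K → ℂ) c := by
    intro lam
    rw [hcoef lam, sub_mul]
  rw [Finset.sum_congr rfl (fun lam _ => hstep lam), Finset.sum_sub_distrib, ← Finset.mul_sum,
    h.sum_irr_K hc, mul_zero, zero_sub]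

end Cfsg.Agent.Helper21.Bsw
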