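import Mathlib
import Cfsg.Agent.Helper21.BswCoef
import Cfsg.Agent.Helper5.ClassMul

/-!
Brauer–Suzuki–Wall, abstract form: the class multiplication constants of the class of involutions.
-/

set_option autoImplicit false
set_option linter.unusedSectionVars false

namespace Cfsg.Agent.Helper21.Bsw

open Cfsg Cfsg.Agent.Helper24 Cfsg.Agent.Helper8 Cfsg.Agent.Helper5 Cfsg.Agent.Helper5.CC
  Cfsg.Agent.Helper5.ClassMul

universe u

variable {G : Type u} [Group G] {t s : G} {K : Subgroup G}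

/-- the elements of `H` outside `K` are the `c * s`, `c ∈ K` -/
noncomputable def Hyp.cosetEquiv (h : Hyp t s K) :
    K ≃ {v : G // v ∈ Subgroup.centralizer ({t} : Set G) ∧ v ∉ K} where
  toFun c := ⟨c * s, by
    refine ⟨(Subgroup.centralizer ({t} : Set G)).mul_mem (h.hKH c.2) h.hsH, ?_⟩
    intro hc
    apply h.hsK
    have := K.mul_mem (K.inv_mem c.2) hc
    simpa using this⟩
  invFun v := ⟨v.1 * s, ((h.mem_H_iff v.1).mp v.2.1).resolve_left v.2.2⟩
  left_inv c := by
    apply Subtype.ext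
    simp only
    rw [mul_assoc, h.s_sq, mul_one]
  right_inv v := by
    apply Subtype.ext
    simp only
    rw [mul_assoc, h.s_sq, mul_one]

theorem Hyp.card_H_diff [Finite G] (h : Hyp t s K) :
    Nat.card {v : G // v ∈ Subgroup.centralizer ({t} : Set G) ∧ v ∉ K} = Nat.card K :=
  (Nat.card_congr h.cosetEquiv).symm

/-- the pairs of involutions with product `x ∈ K \ 1` -/
theorem Hyp.pair_iff (h : Hyp t s K) {x : G} (hx : x ∈ K) (hx1 : x ≠ 1) (v : G) :
    (IsConj t v ∧ IsConj t (v⁻¹ * x)) ↔ (v ∈ Subgroup.centralizer ({t} : Set G) ∧ v ∉ K) := by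
  constructor
  · rintro ⟨hv, hvx⟩
    rw [h.isConj_t_iff] at hv hvx
    have hv2 : v * v = 1 := by
      have := pow_orderOf_eq_one v
      rwa [hv, pow_two] at this
    have hvi : v⁻¹ = v := inv_eq_of_mul_eq_one_left hv2
    have hvx2 : (v⁻¹ * x) * (v⁻¹ * x) = 1 := by
      have := pow_orderOf_eq_one (v⁻¹ * x)
      rwa [hvx, pow_two] at this
    have hinv : v * x * v⁻¹ = x⁻¹ := by
      rw [hvi] at hvx2 ⊢
      calc v * x * v = (v * x * (v * x)) * x⁻¹ := by group
        _ = x⁻¹ := by rw [hvx2, one_mul]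
    have hvH : v ∈ Subgroup.centralizer ({t} : Set G) :=
      h.mem_H_of_conj_mem' hx hx1 (by rw [hinv]; exact K.inv_mem hx)
    refine ⟨hvH, ?_⟩
    intro hvK
    have hv1 : v ≠ 1 := by
      intro h1; rw [h1, orderOf_one] at hv; omega
    have hvt : v = t := h.eq_t_of_sq_eq_one hvK hv2 hv1
    -- v commutes with x, so x = x⁻¹
    have hxx : x = x⁻¹ := by
      rw [← hinv, h.hKab v hvK x hx, mul_assoc, mul_inv_cancel, mul_one]
    have hx2 : x * x = 1 := by
      calc x * x = x * x⁻¹ := by rw [← hxx]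
        _ = 1 := mul_inv_cancel x
    have hxt : x = t := h.eq_t_of_sq_eq_one hx hx2 hx1
    rw [hvt, hxt, inv_mul_cancel, orderOf_one] at hvx
    omega
  · rintro ⟨hvH, hvK⟩
    refine ⟨h.isConj_t_of_not_mem hvH hvK, ?_⟩
    apply h.isConj_t_of_not_mem
    · exact (Subgroup.centralizer ({t} : Set G)).mul_mem
        ((Subgroup.centralizer ({t} : Set G)).inv_mem hvH) (h.hKH hx)
    · intro hc
      apply hvK
      have := K.mul_mem hc (K.inv_mem hx)
      have h2 : v⁻¹ ∈ K := by simpa [mul_assoc] using this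
      simpa using K.inv_mem h2

theorem Hyp.card_pairs [Finite G] (h : Hyp t s K) {x : G} (hx : x ∈ K) (hx1 : x ≠ 1) :
    Nat.card {v : G // IsConj t v ∧ IsConj t (v⁻¹ * x)} = Nat.card K := by
  rw [← h.card_H_diff]
  exact Nat.card_congr (Equiv.subtypeEquivRight (h.pair_iff hx hx1))

/-- the pairs of involutions with product `x`, for `x` neither `1` nor an involution -/
theorem Hyp.pair_iff' (h : Hyp t s K) {x : G} (hx2 : orderOf x ≠ 2) (v : G) :
    (IsConj t v ∧ IsConj t (v⁻¹ * x)) ↔ (orderOf v = 2 ∧ v * x * v⁻¹ = x⁻¹) := by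
  rw [h.isConj_t_iff, h.isConj_t_iff]
  constructor
  · rintro ⟨hv, hvx⟩
    refine ⟨hv, ?_⟩
    have hv2 : v * v = 1 := by
      have := pow_orderOf_eq_one v
      rwa [hv, pow_two] at this
    have hvi : v⁻¹ = v := inv_eq_of_mul_eq_one_left hv2
    have hvx2 : (v⁻¹ * x) * (v⁻¹ * x) = 1 := by
      have := pow_orderOf_eq_one (v⁻¹ * x)
      rwa [hvx, pow_two] at this
    rw [hvi] at hvx2 ⊢
    calc v * x * v = (v * x * (v * x)) * x⁻¹ := by group
      _ = x⁻¹ := by rw [hvx2, one_mul]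
  · rintro ⟨hv, hinv⟩
    refine ⟨hv, ?_⟩
    have hv2 : v * v = 1 := by
      have := pow_orderOf_eq_one v
      rwa [hv, pow_two] at this
    have hvi : v⁻¹ = v := inv_eq_of_mul_eq_one_left hv2
    have hsq : (v⁻¹ * x) * (v⁻¹ * x) = 1 := by
      rw [hvi] at hinv ⊢
      calc v * x * (v * x) = (v * x * v) * x := by group
        _ = 1 := by rw [hinv, inv_mul_cancel]
    have hne : v⁻¹ * x ≠ 1 := by
      intro h1
      have : x = v := by
        calc x = v * (v⁻¹ * x) := by group
          _ = v := by rw [h1, mul_one]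
      exact hx2 (this ▸ hv)
    exact orderOf_eq_prime (by rw [pow_two]; exact hsq) hne

theorem Hyp.card_pairs' [Finite G] (h : Hyp t s K) {x : G} (hx2 : orderOf x ≠ 2) :
    Nat.card {v : G // IsConj t v ∧ IsConj t (v⁻¹ * x)} = invCount x := by
  unfold invCount
  exact Nat.card_congr (Equiv.subtypeEquivRight (h.pair_iff' hx2))

variable [Fintype G]

/-- the class multiplication function of the class of involutions -/
noncomputable def aFun (t : G) : G → ℂ := conv (classIndicator t) (classIndicator t)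

theorem aFun_isClassFunction (t : G) : IsClassFunction G (aFun t) :=
  isClassFunction_conv (isClassFunction_classIndicator t) (isClassFunction_classIndicator t)

theorem Hyp.aFun_kType (h : Hyp t s K) {u : G} (hu : KType K u) :
    aFun t u = (Nat.card K : ℂ) := by
  obtain ⟨hu1, a, ha⟩ := hu
  have e : u = a * (a⁻¹ * u * a) * a⁻¹ := by group
  have hne : a⁻¹ * u * a ≠ 1 := by
    intro h1
    apply hu1
    rw [e, h1]; group
  rw [e, aFun_isClassFunction t _ a]
  unfold aFun
  rw [conv_classIndicator_apply, h.card_pairs ha hne]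

theorem Hyp.aFun_rType (h : Hyp t s K) {x : G} (hx : RType K x) :
    aFun t x = (invCount x : ℂ) := by
  unfold aFun
  rw [conv_classIndicator_apply, h.card_pairs']
  intro h2
  exact hx.2 (h.kType_of_orderOf_two h2)

variable [Fintype (IrrCharacter G)]

/-- a weighted sum of a class function against the class multiplication coefficients -/
theorem sum_mul_aFun (z : G) (Θ : G → ℂ) :
    ∑ u : G, Θ u * aFun z u
      = ∑ χ : IrrCharacter G, centralChar (χ : G → ℂ) z * centralChar (χ : G → ℂ) z *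
          (χ : G → ℂ) 1 * classInner Θ (χ : G → ℂ) := by
  unfold aFun
  simp_rw [conv_classIndicator_eq z z, Finset.mul_sum]
  rw [Finset.sum_comm]
  refine Finset.sum_congr rfl fun χ _ => ?_
  unfold classInner
  rw [Finset.mul_sum, Finset.mul_sum]
  refine Finset.sum_congr rfl fun u _ => ?_
  ring

theorem Hyp.centralChar_t (h : Hyp t s K) (χ : IrrCharacter G) :
    centralChar (χ : G → ℂ) t
      = (Nat.card G : ℂ) / (2 * Nat.card K) * (χ : G → ℂ) t / (χ : G → ℂ) 1 := by
  rw [centralChar_def]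
  have h1 := (Subgroup.centralizer ({t} : Set G)).card_mul_index
  rw [h.card_H] at h1
  have h2 : ((Subgroup.centralizer ({t} : Set G)).index : ℂ)
      = (Nat.card G : ℂ) / (2 * Nat.card K) := by
    have hK0 : (Nat.card K : ℂ) ≠ 0 := by exact_mod_cast (Nat.card_pos (α := K)).ne'
    rw [eq_div_iff (by simpa using hK0)]
    have : ((2 * Nat.card K * (Subgroup.centralizer ({t} : Set G)).index : ℕ) : ℂ)
        = (Nat.card G : ℂ) := by rw [h1]
    push_cast at this
    rw [← this]; ring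
  rw [h2]

/-- **The structure equation.** -/
theorem Hyp.struct_eq [Fintype K] (h : Hyp t s K) {lam : IrrCharacter K}
    (hl : lam ≠ trivIrr K) :
    ∑ χ : IrrCharacter G, (χ : G → ℂ) t ^ 2 / (χ : G → ℂ) 1 * (cf K lam χ : ℂ)
      = 4 * (Nat.card K : ℂ) ^ 3 / (Nat.card G : ℂ) := by
  have hG0 : (Nat.card G : ℂ) ≠ 0 := by exact_mod_cast (Nat.card_pos (α := G)).ne'
  have hK0 : (Nat.card K : ℂ) ≠ 0 := by exact_mod_cast (Nat.card_pos (α := K)).ne'
  -- left side
  have hlhs : ∑ u : G, Th K lam u * aFun t u = (Nat.card K : ℂ) * (Nat.card G : ℂ) := by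
    have h1 : ∀ u : G, Th K lam u * aFun t u = (Nat.card K : ℂ) * Th K lam u := by
      intro u
      by_cases hu : KType K u
      · rw [h.aFun_kType hu]; ring
      · rw [h.Th_vanish lam hu]; ring
    rw [Finset.sum_congr rfl (fun u _ => h1 u), ← Finset.mul_sum]
    have h2 := h.Th_inner_one hl
    unfold classInner at h2
    simp only [map_one, mul_one] at h2
    have h3 : ∑ g : G, Th K lam g = (Nat.card G : ℂ) := by
      field_simp at h2
      exact h2
    rw [h3]
  rw [sum_mul_aFun] at hlhs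
  simp_rw [h.centralChar_t, cf_spec] at hlhs
  have hterm : ∀ χ : IrrCharacter G,
      (Nat.card G : ℂ) / (2 * Nat.card K) * (χ : G → ℂ) t / (χ : G → ℂ) 1 *
        ((Nat.card G : ℂ) / (2 * Nat.card K) * (χ : G → ℂ) t / (χ : G → ℂ) 1) *
        (χ : G → ℂ) 1 * (cf K lam χ : ℂ)
      = (Nat.card G : ℂ) ^ 2 / (4 * (Nat.card K : ℂ) ^ 2) *
        ((χ : G → ℂ) t ^ 2 / (χ : G → ℂ) 1 * (cf K lam χ : ℂ)) := by
    intro χ
    have hχ : (χ : G → ℂ) 1 ≠ 0 := irr_one_ne_zero χ
    field_simp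
    ring
  rw [Finset.sum_congr rfl (fun χ _ => hterm χ), ← Finset.mul_sum] at hlhs
  have hc : (Nat.card G : ℂ) ^ 2 / (4 * (Nat.card K : ℂ) ^ 2) ≠ 0 := by
    apply div_ne_zero (pow_ne_zero _ hG0)
    exact mul_ne_zero (by norm_num) (pow_ne_zero _ hK0)
  have : ∑ χ : IrrCharacter G, (χ : G → ℂ) t ^ 2 / (χ : G → ℂ) 1 * (cf K lam χ : ℂ)
      = (Nat.card K : ℂ) * (Nat.card G : ℂ) /
        ((Nat.card G : ℂ) ^ 2 / (4 * (Nat.card K : ℂ) ^ 2)) := by
    rw [eq_div_iff hc, mul_comm]
    exact hlhs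
  rw [this]
  field_simp

/-- **The count formula.** -/
theorem Hyp.count_eq (h : Hyp t s K) {x : G} (hx : RType K x) :
    (invCount x : ℂ) = (Nat.card G : ℂ) / (4 * (Nat.card K : ℂ) ^ 2) *
      ∑ χ : IrrCharacter G, (χ : G → ℂ) t ^ 2 / (χ : G → ℂ) 1 * (starRingEnd ℂ) ((χ : G → ℂ) x) := by
  have hG0 : (Nat.card G : ℂ) ≠ 0 := by exact_mod_cast (Nat.card_pos (α := G)).ne'
  have hK0 : (Nat.card K : ℂ) ≠ 0 := by exact_mod_cast (Nat.card_pos (α := K)).ne'
  rw [← h.aFun_rType hx]
  unfold aFun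
  rw [conv_classIndicator_eq]
  simp_rw [h.centralChar_t]
  rw [Finset.mul_sum, Finset.mul_sum]
  refine Finset.sum_congr rfl fun χ _ => ?_
  have hχ : (χ : G → ℂ) 1 ≠ 0 := irr_one_ne_zero χ
  field_simp
  ring

end Cfsg.Agent.Helper21.Bsw
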