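import Mathlib
import Cfsg.Agent.Helper21.BswStruct

/-!
Brauer–Suzuki–Wall, abstract form: the congruence from the restriction to `H = C(t)`.
-/

set_option autoImplicit false
set_option linter.unusedSectionVars false
set_option linter.style.haveILetI false

namespace Cfsg.Agent.Helper21.Bsw

open Cfsg Cfsg.Agent.Helper24 Cfsg.Agent.Helper8

universe u

variable {G : Type u} [Group G] [Fintype G] {t s : G} {K : Subgroup G}

/-- the sum of a class function over `H = C(t)` -/
theorem Hyp.sum_H [Fintype K] [Fintype (Subgroup.centralizer ({t} : Set G))] (h : Hyp t s K)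
    (f : G → ℂ) (hf : IsClassFunction G f) :
    ∑ x : Subgroup.centralizer ({t} : Set G), f x
      = (∑ c : K, f c) + (Nat.card K : ℂ) * f t := by
  classical
  have e1 : ∑ x : Subgroup.centralizer ({t} : Set G), f x
      = ∑ g ∈ Finset.univ.filter (fun g : G => g ∈ Subgroup.centralizer ({t} : Set G)), f g :=
    (Finset.sum_subtype (Finset.univ.filter
      (fun g : G => g ∈ Subgroup.centralizer ({t} : Set G))) (by simp) f).symm
  have e2 : ∑ c : K, f c = ∑ g ∈ Finset.univ.filter (fun g : G => g ∈ K), f g :=
    (Finset.sum_subtype (Finset.univ.filter (fun g : G => g ∈ K)) (by simp) f).symm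
  have hsplit : Finset.univ.filter (fun g : G => g ∈ Subgroup.centralizer ({t} : Set G))
      = Finset.univ.filter (fun g : G => g ∈ K) ∪
        Finset.univ.filter (fun g : G => g ∈ Subgroup.centralizer ({t} : Set G) ∧ g ∉ K) := by
    ext g
    simp only [Finset.mem_filter, Finset.mem_univ, true_and, Finset.mem_union]
    constructor
    · intro hg
      by_cases hgK : g ∈ K
      · exact Or.inl hgK
      · exact Or.inr ⟨hg, hgK⟩
    · rintro (hg | hg)
      · exact h.hKH hg
      · exact hg.1
  have hdisj : Disjoint (Finset.univ.filter (fun g : G => g ∈ K))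
      (Finset.univ.filter (fun g : G => g ∈ Subgroup.centralizer ({t} : Set G) ∧ g ∉ K)) := by
    rw [Finset.disjoint_filter]
    intro g _ hgK hg
    exact hg.2 hgK
  rw [e1, e2, hsplit, Finset.sum_union hdisj]
  congr 1
  have hconst : ∀ g ∈ Finset.univ.filter
      (fun g : G => g ∈ Subgroup.centralizer ({t} : Set G) ∧ g ∉ K), f g = f t := by
    intro g hg
    rw [Finset.mem_filter] at hg
    have hc := h.isConj_t_of_not_mem hg.2.1 hg.2.2
    obtain ⟨c, hc⟩ := isConj_iff.mp hc
    rw [← hc, hf t c]
  rw [Finset.sum_congr rfl hconst, Finset.sum_const, nsmul_eq_mul]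
  congr 2
  rw [← h.card_H_diff, Nat.card_eq_fintype_card, Fintype.card_subtype]

/-- **The congruence.** -/
theorem Hyp.cong [Fintype K] [Fintype (IrrCharacter G)] (h : Hyp t s K) (χ : IrrCharacter G) :
    ∃ n : ℤ, (∑ c : K, (χ : G → ℂ) c) + (Nat.card K : ℂ) * (χ : G → ℂ) t
      = 2 * (Nat.card K : ℂ) * n := by
  classical
  letI : Fintype (Subgroup.centralizer ({t} : Set G)) := Fintype.ofFinite _
  letI : Fintype (IrrCharacter (Subgroup.centralizer ({t} : Set G))) := Fintype.ofFinite _
  have hgen : IsGeneralizedCharacter (Subgroup.centralizer ({t} : Set G))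
      (fun x : Subgroup.centralizer ({t} : Set G) => (χ : G → ℂ) x) :=
    IsGeneralizedCharacter.restrict (IsIrrCharacter.isGeneralizedCharacter χ.2) _
  obtain ⟨n, hn⟩ := IsGeneralizedCharacter.classInner_irr_int hgen
    (trivIrr (Subgroup.centralizer ({t} : Set G)))
  refine ⟨n, ?_⟩
  unfold classInner at hn
  simp only [trivIrr_apply, map_one, mul_one] at hn
  rw [h.sum_H _ (isClassFunction_irr χ), h.card_H] at hn
  have hK0 : (Nat.card K : ℂ) ≠ 0 := by exact_mod_cast (Nat.card_pos (α := K)).ne'
  push_cast at hn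
  field_simp at hn
  rw [hn]

end Cfsg.Agent.Helper21.Bsw
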