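import Mathlib
import Cfsg.Agent.Helper21.BswCong
import Cfsg.Agent.Helper29.BswShape

/-!
Brauer–Suzuki–Wall, abstract form: the coefficient vectors satisfy the hypotheses of the shape lemma.
-/

set_option autoImplicit false
set_option linter.unusedSectionVars false

namespace Cfsg.Agent.Helper21.Bsw

open Cfsg Cfsg.Agent.Helper24 Cfsg.Agent.Helper8

universe u

variable {G : Type u} [Group G] [Fintype G] [Fintype (IrrCharacter G)]
  [DecidableEq (IrrCharacter G)] {t s : G} {K : Subgroup G} [Fintype K]
  [Fintype (IrrCharacter K)] [DecidableEq (IrrCharacter K)]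

/-- the non-principal irreducible characters of `K` -/
abbrev LK (K : Subgroup G) := {lam : IrrCharacter K // lam ≠ trivIrr K}

theorem irrStar_trivIrr : irrStar (trivIrr K) = trivIrr K := by
  apply Subtype.ext
  funext c
  simp

theorem irrStar_ne_triv {lam : IrrCharacter K} (hl : lam ≠ trivIrr K) :
    irrStar lam ≠ trivIrr K := by
  intro hh
  apply hl
  have := congrArg irrStar hh
  rwa [irrStar_irrStar, irrStar_trivIrr] at this

/-- complex conjugation on the non-principal characters -/
noncomputable def barL (l : LK K) : LK K := ⟨irrStar l.1, irrStar_ne_triv l.2⟩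

/-- the coefficient vectors -/
noncomputable def cL (l : LK K) (χ : IrrCharacter G) : ℤ := cf K l.1 χ

/-- the degrees -/
noncomputable def dI (χ : IrrCharacter G) : ℤ := (irrDeg χ : ℤ)

theorem irrDeg_trivIrr' : irrDeg (trivIrr G) = 1 := by rw [irrDeg_eq_one_iff]; rfl

theorem Hyp.shapeHyp (h : Hyp t s K) (l0 : LK K) (hreal : irrStar l0.1 = l0.1)
    (huniq : ∀ l : IrrCharacter K, irrStar l = l → l = trivIrr K ∨ l = l0.1) :
    Shape.Hyp (cL (G := G) (K := K)) dI (trivIrr G) barL l0 where
  hd χ := by unfold dI; exact_mod_cast irrDeg_pos χ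
  hd0 := by unfold dI; rw [irrDeg_trivIrr']; rfl
  hbar l := by
    apply Subtype.ext
    exact irrStar_irrStar l.1
  hfix l := by
    constructor
    · intro hl
      have h1 : irrStar l.1 = l.1 := congrArg Subtype.val hl
      rcases huniq l.1 h1 with h2 | h2
      · exact absurd h2 l.2
      · exact Subtype.ext h2
    · intro hl
      rw [hl]
      exact Subtype.ext hreal
  hcbar l := by
    funext χ
    exact h.cf_star l.1 χ
  hcc l m := by
    unfold cL
    rw [h.cf_gram l.2 m.2]
    congr 1
    · congr 1
      by_cases hlm : l = m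
      · rw [if_pos hlm, if_pos (congrArg Subtype.val hlm)]
      · rw [if_neg hlm, if_neg (fun hh => hlm (Subtype.ext hh))]
    · by_cases hlm : l = barL m
      · rw [if_pos hlm]
        exact if_pos (congrArg Subtype.val hlm)
      · rw [if_neg hlm]
        exact if_neg (fun hh => hlm (Subtype.ext hh))
  hc0 l := h.cf_triv l.2
  hcd l := h.cf_deg l.1

theorem Hyp.card_irr_K (h : Hyp t s K) : Fintype.card (IrrCharacter K) = Nat.card K := by
  have hcomm : ∀ a b : K, a * b = b * a := fun a b => Subtype.ext (h.hKab a a.2 b b.2)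
  rw [← Nat.card_eq_fintype_card, card_irr_eq_card_conjClasses,
    card_conjClasses_eq_card_of_comm hcomm]

theorem Hyp.card_LK (h : Hyp t s K) : Fintype.card (LK K) = Nat.card K - 1 := by
  rw [← h.card_irr_K]
  exact Fintype.card_subtype_compl (fun lam : IrrCharacter K => lam = trivIrr K) |>.trans (by
    rw [Fintype.card_subtype_eq])

end Cfsg.Agent.Helper21.Bsw
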