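import Mathlib
import Cfsg.Agent.Helper21.BswGen1
import Cfsg.Agent.Helper5.LinChar

/-!
Brauer–Suzuki–Wall, abstract form: the generic case, values of the exceptional characters on `K`.
-/

set_option autoImplicit false
set_option linter.unusedSectionVars false
set_option linter.unusedVariables false

namespace Cfsg.Agent.Helper21.Bsw

open Cfsg Cfsg.Agent.Helper24 Cfsg.Agent.Helper8 Cfsg.Agent.Helper8.DihVec

universe u

variable {G : Type u} [Group G] [Fintype G] [Fintype (IrrCharacter G)]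
  [DecidableEq (IrrCharacter G)] {t s : G} {K : Subgroup G} [Fintype K]
  [Fintype (IrrCharacter K)] [DecidableEq (IrrCharacter K)]

/-- the standard shape of the coefficient vectors -/
structure StdData (l0 : LK K) (ε : ℤ) (Y : IrrCharacter G) (f : LK K → IrrCharacter G)
    (Z2 Z3 : IrrCharacter G) (e2 e3 : ℤ) : Prop where
  hfix : ∀ l : LK K, barL l = l ↔ l = l0
  hε : ε = 1 ∨ ε = -1
  he2 : e2 = 1 ∨ e2 = -1
  he3 : e3 = 1 ∨ e3 = -1
  hY0 : Y ≠ trivIrr G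
  hZ20 : Z2 ≠ trivIrr G
  hZ30 : Z3 ≠ trivIrr G
  hZ2Y : Z2 ≠ Y
  hZ3Y : Z3 ≠ Y
  hZ23 : Z2 ≠ Z3
  hf : ∀ l, l ≠ l0 → f l ≠ trivIrr G ∧ f l ≠ Y ∧ f l ≠ Z2 ∧ f l ≠ Z3
  hff : ∀ l m, l ≠ l0 → m ≠ l0 → (f l = f m ↔ (m = l ∨ m = barL l))
  hc : ∀ l, l ≠ l0 → ∀ χ, cL l χ = ind (trivIrr G) 1 χ + ind Y ε χ - ind (f l) ε χ
  hc0 : ∀ χ, cL l0 χ = ind (trivIrr G) 1 χ + ind Y ε χ + ind Z2 e2 χ + ind Z3 e3 χ

theorem barL_barL (l : LK K) : barL (barL l) = l := Subtype.ext (irrStar_irrStar l.1)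

theorem std_of_shape {l0 : LK K} (hfix : ∀ l : LK K, barL l = l ↔ l = l0)
    (hS : Shape.Std (cL (G := G) (K := K)) (trivIrr G) barL l0) :
    ∃ ε Y f Z2 Z3 e2 e3, StdData (G := G) l0 ε Y f Z2 Z3 e2 e3 := by
  obtain ⟨ε, Y, f, Z2, Z3, e2, e3, h1, h2, h3, h4, h5, h6, h7, h8, h9, h10, h11, h12, h13⟩ := hS
  exact ⟨ε, Y, f, Z2, Z3, e2, e3, hfix, h1, h2, h3, h4, h5, h6, h7, h8, h9, h10, h11, h12, h13⟩

namespace StdData

variable {l0 : LK K} {ε : ℤ} {Y : IrrCharacter G} {f : LK K → IrrCharacter G}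
  {Z2 Z3 : IrrCharacter G} {e2 e3 : ℤ}

theorem cL_Y (D : StdData l0 ε Y f Z2 Z3 e2 e3) (l : LK K) : cL l Y = ε := by
  by_cases hl : l = l0
  · rw [hl, D.hc0, ind_ne _ D.hY0, ind_self, ind_ne _ D.hZ2Y.symm, ind_ne _ D.hZ3Y.symm]; ring
  · rw [D.hc l hl, ind_ne _ D.hY0, ind_self, ind_ne _ (D.hf l hl).2.1.symm]; ring

theorem cL_Z2 (D : StdData l0 ε Y f Z2 Z3 e2 e3) (l : LK K) :
    cL l Z2 = if l = l0 then e2 else 0 := by
  by_cases hl : l = l0
  · rw [if_pos hl, hl, D.hc0, ind_ne _ D.hZ20, ind_ne _ D.hZ2Y, ind_self, ind_ne _ D.hZ23]; ring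
  · rw [if_neg hl, D.hc l hl, ind_ne _ D.hZ20, ind_ne _ D.hZ2Y, ind_ne _ (D.hf l hl).2.2.1.symm]
    ring

theorem cL_Z3 (D : StdData l0 ε Y f Z2 Z3 e2 e3) (l : LK K) :
    cL l Z3 = if l = l0 then e3 else 0 := by
  by_cases hl : l = l0
  · rw [if_pos hl, hl, D.hc0, ind_ne _ D.hZ30, ind_ne _ D.hZ3Y, ind_ne _ D.hZ23.symm, ind_self]
    ring
  · rw [if_neg hl, D.hc l hl, ind_ne _ D.hZ30, ind_ne _ D.hZ3Y, ind_ne _ (D.hf l hl).2.2.2.symm]
    ring

theorem cL_f (D : StdData l0 ε Y f Z2 Z3 e2 e3) {m : LK K} (hm : m ≠ l0) (l : LK K) :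
    cL l (f m) = if (l = m ∨ l = barL m) then -ε else 0 := by
  obtain ⟨hm0, hmY, hm2, hm3⟩ := D.hf m hm
  by_cases hl : l = l0
  · have hne : ¬ (l = m ∨ l = barL m) := by
      rintro (h1 | h1)
      · exact hm (h1 ▸ hl)
      · -- barL m = l0 → m = l0
        apply hm
        have h2 : barL m = l0 := h1 ▸ hl
        have h3 : barL l0 = l0 := (D.hfix l0).mpr rfl
        rw [← barL_barL m, h2, h3]
    rw [if_neg hne, hl, D.hc0, ind_ne _ hm0, ind_ne _ hmY, ind_ne _ hm2, ind_ne _ hm3]; ring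
  · rw [D.hc l hl, ind_ne _ hm0, ind_ne _ hmY]
    by_cases hlm : l = m ∨ l = barL m
    · rw [if_pos hlm]
      have : f m = f l := (D.hff m l hm hl).mpr hlm
      rw [this, ind_self]; ring
    · rw [if_neg hlm]
      have : f m ≠ f l := fun hh => hlm ((D.hff m l hm hl).mp hh)
      rw [ind_ne _ this]; ring

end StdData

/-- a sum over all irreducible characters of `K` in terms of the non-principal ones -/
theorem sum_irr_K_split (F : IrrCharacter K → ℂ) :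
    ∑ lam : IrrCharacter K, F lam = F (trivIrr K) + ∑ l : LK K, F l.1 := by
  rw [← Finset.add_sum_erase Finset.univ F (Finset.mem_univ (trivIrr K))]
  congr 1
  exact Finset.sum_subtype (Finset.univ.erase (trivIrr K)) (by simp) F

theorem Hyp.sum_LK (h : Hyp t s K) {c : K} (hc : c ≠ 1) :
    ∑ l : LK K, (l.1 : K → ℂ) c = -1 := by
  have h1 := h.sum_irr_K hc
  rw [sum_irr_K_split, trivIrr_apply] at h1
  linear_combination h1

/-- the restriction formula as a sum over the non-principal characters -/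
theorem Hyp.irr_apply_K' (h : Hyp t s K) (χ : IrrCharacter G) {c : K} (hc : c ≠ 1) :
    (χ : G → ℂ) (c : G) = - ∑ l : LK K, (cL l χ : ℂ) * (l.1 : K → ℂ) c := by
  rw [h.irr_apply_K χ hc, sum_irr_K_split, cf_trivIrr]
  simp [cL]

namespace StdData

variable {l0 : LK K} {ε : ℤ} {Y : IrrCharacter G} {f : LK K → IrrCharacter G}
  {Z2 Z3 : IrrCharacter G} {e2 e3 : ℤ}

theorem val_Y (D : StdData l0 ε Y f Z2 Z3 e2 e3) (h : Hyp t s K) {c : K} (hc : c ≠ 1) :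
    (Y : G → ℂ) (c : G) = (ε : ℂ) := by
  rw [h.irr_apply_K' Y hc]
  simp_rw [D.cL_Y]
  rw [← Finset.mul_sum, h.sum_LK hc]
  ring

theorem val_Z2 (D : StdData l0 ε Y f Z2 Z3 e2 e3) (h : Hyp t s K) {c : K} (hc : c ≠ 1) :
    (Z2 : G → ℂ) (c : G) = - (e2 : ℂ) * (l0.1 : K → ℂ) c := by
  rw [h.irr_apply_K' Z2 hc]
  simp_rw [D.cL_Z2]
  have : ∀ l : LK K, (((if l = l0 then e2 else 0 : ℤ)) : ℂ) * (l.1 : K → ℂ) c
      = if l = l0 then (e2 : ℂ) * (l0.1 : K → ℂ) c else 0 := by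
    intro l
    by_cases hl : l = l0
    · rw [if_pos hl, if_pos hl, hl]
    · rw [if_neg hl, if_neg hl]; simp
  simp_rw [this]
  rw [Finset.sum_ite_eq' Finset.univ l0, if_pos (Finset.mem_univ _)]
  ring

theorem val_Z3 (D : StdData l0 ε Y f Z2 Z3 e2 e3) (h : Hyp t s K) {c : K} (hc : c ≠ 1) :
    (Z3 : G → ℂ) (c : G) = - (e3 : ℂ) * (l0.1 : K → ℂ) c := by
  rw [h.irr_apply_K' Z3 hc]
  simp_rw [D.cL_Z3]
  have : ∀ l : LK K, (((if l = l0 then e3 else 0 : ℤ)) : ℂ) * (l.1 : K → ℂ) c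
      = if l = l0 then (e3 : ℂ) * (l0.1 : K → ℂ) c else 0 := by
    intro l
    by_cases hl : l = l0
    · rw [if_pos hl, if_pos hl, hl]
    · rw [if_neg hl, if_neg hl]; simp
  simp_rw [this]
  rw [Finset.sum_ite_eq' Finset.univ l0, if_pos (Finset.mem_univ _)]
  ring

theorem val_f (D : StdData l0 ε Y f Z2 Z3 e2 e3) (h : Hyp t s K) {m : LK K} (hm : m ≠ l0)
    {c : K} (hc : c ≠ 1) :
    (f m : G → ℂ) (c : G)
      = (ε : ℂ) * ((m.1 : K → ℂ) c + (starRingEnd ℂ) ((m.1 : K → ℂ) c)) := by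
  rw [h.irr_apply_K' (f m) hc]
  simp_rw [D.cL_f hm]
  have hmb : m ≠ barL m := fun hh => hm ((D.hfix m).mp hh.symm)
  have : ∀ l : LK K, (((if (l = m ∨ l = barL m) then -ε else 0 : ℤ)) : ℂ) * (l.1 : K → ℂ) c
      = (if l = m then -(ε : ℂ) * (m.1 : K → ℂ) c else 0)
        + (if l = barL m then -(ε : ℂ) * ((barL m).1 : K → ℂ) c else 0) := by
    intro l
    by_cases h1 : l = m
    · have h2 : l ≠ barL m := fun hh => hmb (h1 ▸ hh)
      rw [if_pos (Or.inl h1), if_pos h1, if_neg h2, h1]; push_cast; ring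
    · by_cases h2 : l = barL m
      · rw [if_pos (Or.inr h2), if_neg h1, if_pos h2, h2]; push_cast; ring
      · rw [if_neg (by tauto), if_neg h1, if_neg h2]; simp
  simp_rw [this]
  rw [Finset.sum_add_distrib, Finset.sum_ite_eq' Finset.univ m, if_pos (Finset.mem_univ _),
    Finset.sum_ite_eq' Finset.univ (barL m), if_pos (Finset.mem_univ _)]
  have hb : ((barL m).1 : K → ℂ) c = (starRingEnd ℂ) ((m.1 : K → ℂ) c) := rfl
  rw [hb]
  ring

theorem val_other (h : Hyp t s K) {χ : IrrCharacter G} (hχ : ∀ l : LK K, cL l χ = 0)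
    {c : K} (hc : c ≠ 1) : (χ : G → ℂ) (c : G) = 0 := by
  rw [h.irr_apply_K' χ hc]
  simp [hχ]

end StdData

end Cfsg.Agent.Helper21.Bsw
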