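import Mathlib
import Cfsg.Agent.Helper21.BswGen2

/-!
Brauer–Suzuki–Wall, abstract form: the generic case, values at the involution and the equations
for the degrees.
-/

set_option autoImplicit false
set_option linter.unusedSectionVars false
set_option linter.unusedVariables false

namespace Cfsg.Agent.Helper21.Bsw

open Cfsg Cfsg.Agent.Helper24 Cfsg.Agent.Helper8 Cfsg.Agent.Helper8.DihVec

universe u

variable {G : Type u} [Group G] [Fintype G] [Fintype (IrrCharacter G)]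
  [DecidableEq (IrrCharacter G)] {t s : G} {K : Subgroup G} [Fintype K]
  [Fintype (IrrCharacter K)] [DecidableEq (IrrCharacter K)]

/-- the involution as an element of `K` -/
def Hyp.tK (h : Hyp t s K) : K := ⟨t, h.htK⟩

theorem Hyp.tK_ne_one (h : Hyp t s K) : h.tK ≠ 1 := by
  intro hh
  exact h.t_ne_one (congrArg Subtype.val hh)

theorem Hyp.coe_tK (h : Hyp t s K) : (h.tK : G) = t := rfl

/-- the values of the irreducible characters of `K` at the involution are `±1` -/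
theorem Hyp.irrK_t (h : Hyp t s K) (lam : IrrCharacter K) :
    (lam : K → ℂ) h.tK = 1 ∨ (lam : K → ℂ) h.tK = -1 := by
  have h1 := Cfsg.Agent.Helper5.linChar_mul (IsIrrCharacter.isCharacter lam.2) (h.irr_one lam)
    h.tK h.tK
  have h2 : h.tK * h.tK = 1 := Subtype.ext h.t_sq
  rw [h2, h.irr_one lam] at h1
  have h3 : ((lam : K → ℂ) h.tK - 1) * ((lam : K → ℂ) h.tK + 1) = 0 := by
    linear_combination -h1
  rcases mul_eq_zero.mp h3 with h4 | h4
  · left; linear_combination h4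
  · right; linear_combination h4

theorem Hyp.irrK_t_sq (h : Hyp t s K) (lam : IrrCharacter K) :
    (lam : K → ℂ) h.tK ^ 2 = 1 := by
  rcases h.irrK_t lam with h1 | h1 <;> rw [h1] <;> norm_num

theorem Hyp.irrK_t_conj (h : Hyp t s K) (lam : IrrCharacter K) :
    (starRingEnd ℂ) ((lam : K → ℂ) h.tK) = (lam : K → ℂ) h.tK := by
  rcases h.irrK_t lam with h1 | h1 <;> rw [h1] <;> simp

/-- the sum of a function against an indicator vector -/
theorem sum_mul_indC (F : IrrCharacter G → ℂ) (x : IrrCharacter G) (a : ℤ) :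
    ∑ χ, F χ * ((ind x a χ : ℤ) : ℂ) = (a : ℂ) * F x := by
  have : ∀ χ, F χ * ((ind x a χ : ℤ) : ℂ) = if χ = x then (a : ℂ) * F x else 0 := by
    intro χ
    rw [ind_apply]
    by_cases hχ : χ = x
    · rw [if_pos hχ, if_pos hχ, hχ]; ring
    · rw [if_neg hχ, if_neg hχ]; simp
  simp_rw [this]
  rw [Finset.sum_ite_eq' Finset.univ x, if_pos (Finset.mem_univ _)]

namespace StdData

variable {l0 : LK K} {ε : ℤ} {Y : IrrCharacter G} {f : LK K → IrrCharacter G}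
  {Z2 Z3 : IrrCharacter G} {e2 e3 : ℤ}

theorem sum_mul_cL (D : StdData l0 ε Y f Z2 Z3 e2 e3) {l : LK K} (hl : l ≠ l0)
    (F : IrrCharacter G → ℂ) :
    ∑ χ, F χ * (cL l χ : ℂ) = F (trivIrr G) + (ε : ℂ) * F Y - (ε : ℂ) * F (f l) := by
  have : ∀ χ, F χ * (cL l χ : ℂ) = F χ * ((ind (trivIrr G) 1 χ : ℤ) : ℂ)
      + F χ * ((ind Y ε χ : ℤ) : ℂ) - F χ * ((ind (f l) ε χ : ℤ) : ℂ) := by
    intro χ
    rw [D.hc l hl χ]; push_cast; ring
  simp_rw [this]
  rw [Finset.sum_sub_distrib, Finset.sum_add_distrib, sum_mul_indC, sum_mul_indC, sum_mul_indC]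
  push_cast; ring

theorem sum_mul_cL0 (D : StdData l0 ε Y f Z2 Z3 e2 e3) (F : IrrCharacter G → ℂ) :
    ∑ χ, F χ * (cL l0 χ : ℂ)
      = F (trivIrr G) + (ε : ℂ) * F Y + (e2 : ℂ) * F Z2 + (e3 : ℂ) * F Z3 := by
  have : ∀ χ, F χ * (cL l0 χ : ℂ) = F χ * ((ind (trivIrr G) 1 χ : ℤ) : ℂ)
      + F χ * ((ind Y ε χ : ℤ) : ℂ) + F χ * ((ind Z2 e2 χ : ℤ) : ℂ)
      + F χ * ((ind Z3 e3 χ : ℤ) : ℂ) := by
    intro χ
    rw [D.hc0 χ]; push_cast; ring
  simp_rw [this]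
  rw [Finset.sum_add_distrib, Finset.sum_add_distrib, Finset.sum_add_distrib, sum_mul_indC,
    sum_mul_indC, sum_mul_indC, sum_mul_indC]
  push_cast; ring

theorem eps_sq (D : StdData l0 ε Y f Z2 Z3 e2 e3) : ε * ε = 1 := by
  rcases D.hε with h1 | h1 <;> rw [h1] <;> norm_num

theorem e2_sq (D : StdData l0 ε Y f Z2 Z3 e2 e3) : e2 * e2 = 1 := by
  rcases D.he2 with h1 | h1 <;> rw [h1] <;> norm_num

theorem e3_sq (D : StdData l0 ε Y f Z2 Z3 e2 e3) : e3 * e3 = 1 := by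
  rcases D.he3 with h1 | h1 <;> rw [h1] <;> norm_num

/-- the degree of the exceptional characters `f l` -/
theorem deg_f (D : StdData l0 ε Y f Z2 Z3 e2 e3) (h : Hyp t s K) {l : LK K} (hl : l ≠ l0) :
    (irrDeg (f l) : ℤ) = irrDeg Y + ε := by
  have h1 := h.cf_deg (G := G) l.1
  have h2 : ((∑ χ : IrrCharacter G, cf K l.1 χ * (irrDeg χ : ℤ) : ℤ) : ℂ)
      = ∑ χ : IrrCharacter G, (irrDeg χ : ℂ) * (cL l χ : ℂ) := by
    push_cast
    refine Finset.sum_congr rfl fun χ _ => ?_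
    unfold cL; ring
  rw [h1, D.sum_mul_cL hl, irrDeg_trivIrr'] at h2
  have h3 : (0 : ℤ) = 1 + ε * irrDeg Y - ε * irrDeg (f l) := by exact_mod_cast h2
  have h4 := D.eps_sq
  linear_combination ε * h3 - (irrDeg (f l) - irrDeg Y : ℤ) * h4

/-- the degree equation for `l0` -/
theorem deg_l0 (D : StdData l0 ε Y f Z2 Z3 e2 e3) (h : Hyp t s K) :
    1 + ε * (irrDeg Y : ℤ) + e2 * irrDeg Z2 + e3 * irrDeg Z3 = 0 := by
  have h1 := h.cf_deg (G := G) l0.1
  have h2 : ((∑ χ : IrrCharacter G, cf K l0.1 χ * (irrDeg χ : ℤ) : ℤ) : ℂ)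
      = ∑ χ : IrrCharacter G, (irrDeg χ : ℂ) * (cL l0 χ : ℂ) := by
    push_cast
    refine Finset.sum_congr rfl fun χ _ => ?_
    unfold cL; ring
  rw [h1, D.sum_mul_cL0, irrDeg_trivIrr'] at h2
  have h3 : (0 : ℤ) = 1 + ε * irrDeg Y + e2 * irrDeg Z2 + e3 * irrDeg Z3 := by exact_mod_cast h2
  linarith

theorem val_Y_t (D : StdData l0 ε Y f Z2 Z3 e2 e3) (h : Hyp t s K) :
    (Y : G → ℂ) t = (ε : ℂ) := D.val_Y h h.tK_ne_one

theorem val_Z2_t_sq (D : StdData l0 ε Y f Z2 Z3 e2 e3) (h : Hyp t s K) :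
    (Z2 : G → ℂ) t ^ 2 = 1 := by
  have h1 := D.val_Z2 h h.tK_ne_one
  rw [h.coe_tK] at h1
  rw [h1]
  have h2 := h.irrK_t_sq l0.1
  have h3 : (e2 : ℂ) * e2 = 1 := by exact_mod_cast D.e2_sq
  linear_combination (e2 : ℂ) * e2 * h2 + h3

theorem val_Z3_t_sq (D : StdData l0 ε Y f Z2 Z3 e2 e3) (h : Hyp t s K) :
    (Z3 : G → ℂ) t ^ 2 = 1 := by
  have h1 := D.val_Z3 h h.tK_ne_one
  rw [h.coe_tK] at h1
  rw [h1]
  have h2 := h.irrK_t_sq l0.1
  have h3 : (e3 : ℂ) * e3 = 1 := by exact_mod_cast D.e3_sq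
  linear_combination (e3 : ℂ) * e3 * h2 + h3

theorem val_f_t_sq (D : StdData l0 ε Y f Z2 Z3 e2 e3) (h : Hyp t s K) {m : LK K} (hm : m ≠ l0) :
    (f m : G → ℂ) t ^ 2 = 4 := by
  have h1 := D.val_f h hm h.tK_ne_one
  rw [h.coe_tK, h.irrK_t_conj] at h1
  rw [h1]
  have h2 := h.irrK_t_sq m.1
  have h3 : (ε : ℂ) * ε = 1 := by exact_mod_cast D.eps_sq
  linear_combination 4 * (ε : ℂ) * ε * h2 + 4 * h3

/-- the first structure equation -/
theorem struct1 (D : StdData l0 ε Y f Z2 Z3 e2 e3) (h : Hyp t s K) {l : LK K} (hl : l ≠ l0) :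
    (1 : ℚ) + ε / (irrDeg Y : ℚ) - 4 * ε / ((irrDeg Y : ℚ) + ε)
      = 4 * (Nat.card K : ℚ) ^ 3 / (Nat.card G : ℚ) := by
  have h1 := h.struct_eq (G := G) l.2
  have h2 := D.sum_mul_cL hl (fun χ => (χ : G → ℂ) t ^ 2 / (χ : G → ℂ) 1)
  have h3 : ∑ χ : IrrCharacter G, (χ : G → ℂ) t ^ 2 / (χ : G → ℂ) 1 * (cf K l.1 χ : ℂ)
      = ∑ χ : IrrCharacter G, (fun χ : IrrCharacter G => (χ : G → ℂ) t ^ 2 / (χ : G → ℂ) 1) χ
          * (cL l χ : ℂ) := rfl
  rw [h3, h2] at h1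
  simp only [trivIrr_apply, irrDeg_spec, D.val_f_t_sq h hl, D.val_Y_t h] at h1
  have h4 : ((irrDeg (f l) : ℕ) : ℂ) = (irrDeg Y : ℂ) + (ε : ℂ) := by
    have := D.deg_f h hl
    exact_mod_cast this
  rw [h4] at h1
  have h5 : (ε : ℂ) ^ 2 = 1 := by
    have := D.eps_sq
    have h6 : (ε : ℂ) * ε = 1 := by exact_mod_cast this
    rw [pow_two]; exact h6
  have h7 : (((1 : ℚ) + ε / (irrDeg Y : ℚ) - 4 * ε / ((irrDeg Y : ℚ) + ε) : ℚ) : ℂ)
      = ((4 * (Nat.card K : ℚ) ^ 3 / (Nat.card G : ℚ) : ℚ) : ℂ) := by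
    push_cast
    rw [← h1, h5]
    ring
  exact_mod_cast h7

/-- the second structure equation -/
theorem struct2 (D : StdData l0 ε Y f Z2 Z3 e2 e3) (h : Hyp t s K) :
    (1 : ℚ) + ε / (irrDeg Y : ℚ) + e2 / (irrDeg Z2 : ℚ) + e3 / (irrDeg Z3 : ℚ)
      = 4 * (Nat.card K : ℚ) ^ 3 / (Nat.card G : ℚ) := by
  have h1 := h.struct_eq (G := G) l0.2
  have h2 := D.sum_mul_cL0 (fun χ => (χ : G → ℂ) t ^ 2 / (χ : G → ℂ) 1)
  have h3 : ∑ χ : IrrCharacter G, (χ : G → ℂ) t ^ 2 / (χ : G → ℂ) 1 * (cf K l0.1 χ : ℂ)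
      = ∑ χ : IrrCharacter G, (fun χ : IrrCharacter G => (χ : G → ℂ) t ^ 2 / (χ : G → ℂ) 1) χ
          * (cL l0 χ : ℂ) := rfl
  rw [h3, h2] at h1
  simp only [trivIrr_apply, irrDeg_spec, D.val_Z2_t_sq h, D.val_Z3_t_sq h, D.val_Y_t h] at h1
  have h5 : (ε : ℂ) ^ 2 = 1 := by
    have := D.eps_sq
    have h6 : (ε : ℂ) * ε = 1 := by exact_mod_cast this
    rw [pow_two]; exact h6
  have h7 : (((1 : ℚ) + ε / (irrDeg Y : ℚ) + e2 / (irrDeg Z2 : ℚ) + e3 / (irrDeg Z3 : ℚ) : ℚ) : ℂ)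
      = ((4 * (Nat.card K : ℚ) ^ 3 / (Nat.card G : ℚ) : ℚ) : ℂ) := by
    push_cast
    rw [← h1, h5]
    ring
  exact_mod_cast h7

end StdData

/-- the sum of the values of a non-principal irreducible character vanishes -/
theorem sum_irr_eq_zero_of_ne {H : Type u} [Group H] [Fintype H] {χ : IrrCharacter H}
    (hχ : χ ≠ trivIrr H) : ∑ g : H, (χ : H → ℂ) g = 0 := by
  have h1 := classInner_irr_ne hχ
  unfold classInner at h1
  have h2 : (Nat.card H : ℂ)⁻¹ ≠ 0 := by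
    apply inv_ne_zero
    exact_mod_cast (Nat.card_pos (α := H)).ne'
  have h3 := (mul_eq_zero.mp h1).resolve_left h2
  rw [← h3]
  refine Finset.sum_congr rfl fun g _ => ?_
  simp

open scoped Classical in
/-- splitting off the identity from a sum over `K` -/
theorem sum_K_split (F : K → ℂ) : ∑ c : K, F c = F 1 + ∑ c ∈ Finset.univ.erase (1 : K), F c :=
  (Finset.add_sum_erase Finset.univ F (Finset.mem_univ (1 : K))).symm

open scoped Classical in
theorem card_erase_one : ((Finset.univ.erase (1 : K)).card : ℂ) = (Nat.card K : ℂ) - 1 := by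
  rw [Finset.card_erase_of_mem (Finset.mem_univ _), Finset.card_univ, Nat.card_eq_fintype_card,
    Nat.cast_sub Fintype.card_pos]
  simp

namespace StdData

variable {l0 : LK K} {ε : ℤ} {Y : IrrCharacter G} {f : LK K → IrrCharacter G}
  {Z2 Z3 : IrrCharacter G} {e2 e3 : ℤ}

open scoped Classical in
/-- the congruence for the degree of `Y` -/
theorem cong_Y (D : StdData l0 ε Y f Z2 Z3 e2 e3) (h : Hyp t s K) :
    (2 * (Nat.card K : ℤ)) ∣ (irrDeg Y : ℤ) - ε := by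
  obtain ⟨n, hn⟩ := h.cong Y
  have h1 : ∑ c : K, (Y : G → ℂ) c = (irrDeg Y : ℂ) + ((Nat.card K : ℂ) - 1) * ε := by
    rw [sum_K_split]
    have : ∀ c ∈ Finset.univ.erase (1 : K), (Y : G → ℂ) (c : G) = (ε : ℂ) := by
      intro c hc
      exact D.val_Y h (Finset.ne_of_mem_erase hc)
    rw [Finset.sum_congr rfl this, Finset.sum_const, nsmul_eq_mul, card_erase_one]
    simp [irrDeg_spec]
  rw [h1, D.val_Y_t h] at hn
  refine ⟨n - ε, ?_⟩
  have h2 : (((irrDeg Y : ℤ) - ε : ℤ) : ℂ) = ((2 * (Nat.card K : ℤ) * (n - ε) : ℤ) : ℂ) := by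
    push_cast
    linear_combination hn
  exact_mod_cast h2

theorem sum_l0 (l0 : LK K) : ∑ c : K, (l0.1 : K → ℂ) c = 0 := sum_irr_eq_zero_of_ne l0.2

open scoped Classical in
/-- the congruence for the degree of `Z2` -/
theorem cong_Z2 (D : StdData l0 ε Y f Z2 Z3 e2 e3) (h : Hyp t s K) :
    (2 * (Nat.card K : ℤ)) ∣ (irrDeg Z2 : ℤ) + e2 - Nat.card K := by
  obtain ⟨n, hn⟩ := h.cong Z2
  have h0 := sum_l0 l0
  rw [sum_K_split, h.irr_one] at h0
  have h1 : ∑ c : K, (Z2 : G → ℂ) c = (irrDeg Z2 : ℂ) + e2 := by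
    rw [sum_K_split]
    have : ∀ c ∈ Finset.univ.erase (1 : K),
        (Z2 : G → ℂ) (c : G) = - (e2 : ℂ) * (l0.1 : K → ℂ) c := by
      intro c hc
      exact D.val_Z2 h (Finset.ne_of_mem_erase hc)
    rw [Finset.sum_congr rfl this, ← Finset.mul_sum]
    have h2 : ∑ c ∈ Finset.univ.erase (1 : K), (l0.1 : K → ℂ) c = -1 := by linear_combination h0
    rw [h2]
    simp [irrDeg_spec]
  have h3 := D.val_Z2 h h.tK_ne_one
  rw [h.coe_tK] at h3
  rw [h1, h3] at hn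
  rcases h.irrK_t l0.1 with ha | ha <;> rcases D.he2 with he | he
  · refine ⟨n, ?_⟩
    rw [ha, he] at hn
    have h2 : (((irrDeg Z2 : ℤ) + e2 - Nat.card K : ℤ) : ℂ)
        = ((2 * (Nat.card K : ℤ) * n : ℤ) : ℂ) := by
      rw [he]; push_cast; push_cast at hn
      linear_combination hn
    exact_mod_cast h2
  · refine ⟨n - 1, ?_⟩
    rw [ha, he] at hn
    have h2 : (((irrDeg Z2 : ℤ) + e2 - Nat.card K : ℤ) : ℂ)
        = ((2 * (Nat.card K : ℤ) * (n - 1) : ℤ) : ℂ) := by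
      rw [he]; push_cast; push_cast at hn
      linear_combination hn
    exact_mod_cast h2
  · refine ⟨n - 1, ?_⟩
    rw [ha, he] at hn
    have h2 : (((irrDeg Z2 : ℤ) + e2 - Nat.card K : ℤ) : ℂ)
        = ((2 * (Nat.card K : ℤ) * (n - 1) : ℤ) : ℂ) := by
      rw [he]; push_cast; push_cast at hn
      linear_combination hn
    exact_mod_cast h2
  · refine ⟨n, ?_⟩
    rw [ha, he] at hn
    have h2 : (((irrDeg Z2 : ℤ) + e2 - Nat.card K : ℤ) : ℂ)
        = ((2 * (Nat.card K : ℤ) * n : ℤ) : ℂ) := by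
      rw [he]; push_cast; push_cast at hn
      linear_combination hn
    exact_mod_cast h2

open scoped Classical in
/-- the congruence for the degree of `Z3` -/
theorem cong_Z3 (D : StdData l0 ε Y f Z2 Z3 e2 e3) (h : Hyp t s K) :
    (2 * (Nat.card K : ℤ)) ∣ (irrDeg Z3 : ℤ) + e3 - Nat.card K := by
  obtain ⟨n, hn⟩ := h.cong Z3
  have h0 := sum_l0 l0
  rw [sum_K_split, h.irr_one] at h0
  have h1 : ∑ c : K, (Z3 : G → ℂ) c = (irrDeg Z3 : ℂ) + e3 := by
    rw [sum_K_split]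
    have : ∀ c ∈ Finset.univ.erase (1 : K),
        (Z3 : G → ℂ) (c : G) = - (e3 : ℂ) * (l0.1 : K → ℂ) c := by
      intro c hc
      exact D.val_Z3 h (Finset.ne_of_mem_erase hc)
    rw [Finset.sum_congr rfl this, ← Finset.mul_sum]
    have h2 : ∑ c ∈ Finset.univ.erase (1 : K), (l0.1 : K → ℂ) c = -1 := by linear_combination h0
    rw [h2]
    simp [irrDeg_spec]
  have h3 := D.val_Z3 h h.tK_ne_one
  rw [h.coe_tK] at h3
  rw [h1, h3] at hn
  rcases h.irrK_t l0.1 with ha | ha <;> rcases D.he3 with he | he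
  · refine ⟨n, ?_⟩
    rw [ha, he] at hn
    have h2 : (((irrDeg Z3 : ℤ) + e3 - Nat.card K : ℤ) : ℂ)
        = ((2 * (Nat.card K : ℤ) * n : ℤ) : ℂ) := by
      rw [he]; push_cast; push_cast at hn
      linear_combination hn
    exact_mod_cast h2
  · refine ⟨n - 1, ?_⟩
    rw [ha, he] at hn
    have h2 : (((irrDeg Z3 : ℤ) + e3 - Nat.card K : ℤ) : ℂ)
        = ((2 * (Nat.card K : ℤ) * (n - 1) : ℤ) : ℂ) := by
      rw [he]; push_cast; push_cast at hn
      linear_combination hn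
    exact_mod_cast h2
  · refine ⟨n - 1, ?_⟩
    rw [ha, he] at hn
    have h2 : (((irrDeg Z3 : ℤ) + e3 - Nat.card K : ℤ) : ℂ)
        = ((2 * (Nat.card K : ℤ) * (n - 1) : ℤ) : ℂ) := by
      rw [he]; push_cast; push_cast at hn
      linear_combination hn
    exact_mod_cast h2
  · refine ⟨n, ?_⟩
    rw [ha, he] at hn
    have h2 : (((irrDeg Z3 : ℤ) + e3 - Nat.card K : ℤ) : ℂ)
        = ((2 * (Nat.card K : ℤ) * n : ℤ) : ℂ) := by
      rw [he]; push_cast; push_cast at hn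
      linear_combination hn
    exact_mod_cast h2

end StdData

end Cfsg.Agent.Helper21.Bsw
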