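import Mathlib
import Cfsg.Agent.Helper21.BswGen3
import Cfsg.Agent.Helper29.BswArith

/-!
Brauer–Suzuki–Wall, abstract form: the generic case, sums over all irreducible characters.
-/

set_option autoImplicit false
set_option linter.unusedSectionVars false
set_option linter.unusedVariables false

namespace Cfsg.Agent.Helper21.Bsw

open Cfsg Cfsg.Agent.Helper24 Cfsg.Agent.Helper8 Cfsg.Agent.Helper8.DihVec

universe u

variable {G : Type u} [Group G] [Fintype G] [Fintype (IrrCharacter G)]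
  [DecidableEq (IrrCharacter G)] {t s : G} {K : Subgroup G} [Fintype K]
  [Fintype (IrrCharacter K)] [DecidableEq (IrrCharacter K)]

namespace StdData

variable {l0 : LK K} {ε : ℤ} {Y : IrrCharacter G} {f : LK K → IrrCharacter G}
  {Z2 Z3 : IrrCharacter G} {e2 e3 : ℤ}

theorem ne_barL (D : StdData l0 ε Y f Z2 Z3 e2 e3) {m : LK K} (hm : m ≠ l0) : m ≠ barL m :=
  fun hh => hm ((D.hfix m).mp hh.symm)

theorem barL_ne_l0 (D : StdData l0 ε Y f Z2 Z3 e2 e3) {m : LK K} (hm : m ≠ l0) : barL m ≠ l0 := by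
  intro h2
  apply hm
  have h3 : barL l0 = l0 := (D.hfix l0).mpr rfl
  rw [← barL_barL m, h2, h3]

/-- characters outside the support of the exceptional characters -/
theorem cL_eq_zero (D : StdData l0 ε Y f Z2 Z3 e2 e3) {χ : IrrCharacter G}
    (h0 : χ ≠ trivIrr G) (hY : χ ≠ Y) (h2 : χ ≠ Z2) (h3 : χ ≠ Z3)
    (hf : ∀ l, l ≠ l0 → χ ≠ f l) (l : LK K) : cL l χ = 0 := by
  by_cases hl : l = l0
  · rw [hl, D.hc0, ind_ne _ h0, ind_ne _ hY, ind_ne _ h2, ind_ne _ h3]; ring
  · rw [D.hc l hl, ind_ne _ h0, ind_ne _ hY, ind_ne _ (hf l hl)]; ring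

/-- the fibres of `f` have two elements -/
theorem card_fiber (D : StdData l0 ε Y f Z2 Z3 e2 e3) {m : LK K} (hm : m ≠ l0) :
    ((Finset.univ.erase l0).filter (fun l => f l = f m)).card = 2 := by
  have : (Finset.univ.erase l0).filter (fun l => f l = f m) = {m, barL m} := by
    ext l
    simp only [Finset.mem_filter, Finset.mem_erase, Finset.mem_univ, and_true, Finset.mem_insert,
      Finset.mem_singleton]
    constructor
    · rintro ⟨hl, hfl⟩
      exact (D.hff m l hm hl).mp hfl.symm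
    · rintro (h1 | h1)
      · rw [h1]; exact ⟨hm, rfl⟩
      · rw [h1]
        refine ⟨D.barL_ne_l0 hm, ?_⟩
        exact ((D.hff m (barL m) hm (D.barL_ne_l0 hm)).mpr (Or.inr rfl)).symm
  rw [this, Finset.card_pair (D.ne_barL hm)]

/-- a sum over all irreducible characters of a function supported on the constituents of the
exceptional characters -/
theorem sum_split {M : Type*} [AddCommMonoid M] (D : StdData l0 ε Y f Z2 Z3 e2 e3)
    (F : IrrCharacter G → M) (hF : ∀ χ, (∀ l : LK K, cL l χ = 0) → F χ = 0) :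
    2 • ∑ χ, F χ = 2 • (F (trivIrr G) + F Y + F Z2 + F Z3)
      + ∑ l ∈ Finset.univ.erase l0, F (f l) := by
  set S0 : Finset (IrrCharacter G) := {trivIrr G, Y, Z2, Z3} with hS0
  set J : Finset (IrrCharacter G) := (Finset.univ.erase l0).image f with hJ
  have hdisj : Disjoint S0 J := by
    rw [Finset.disjoint_left]
    intro χ h1 h2
    rw [hJ, Finset.mem_image] at h2
    obtain ⟨l, hl, rfl⟩ := h2
    have hl' : l ≠ l0 := Finset.ne_of_mem_erase hl
    obtain ⟨a, b, c, d⟩ := D.hf l hl'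
    rw [hS0] at h1
    simp only [Finset.mem_insert, Finset.mem_singleton] at h1
    rcases h1 with h1 | h1 | h1 | h1
    · exact a h1
    · exact b h1
    · exact c h1
    · exact d h1
  have hout : ∀ χ ∈ Finset.univ, χ ∉ S0 ∪ J → F χ = 0 := by
    intro χ _ hχ
    rw [Finset.mem_union, not_or] at hχ
    obtain ⟨h1, h2⟩ := hχ
    rw [hS0] at h1
    simp only [Finset.mem_insert, Finset.mem_singleton, not_or] at h1
    apply hF
    apply D.cL_eq_zero h1.1 h1.2.1 h1.2.2.1 h1.2.2.2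
    intro l hl hh
    apply h2
    rw [hJ, Finset.mem_image]
    exact ⟨l, Finset.mem_erase.mpr ⟨hl, Finset.mem_univ _⟩, hh.symm⟩
  have e1 : ∑ χ, F χ = ∑ χ ∈ S0 ∪ J, F χ :=
    (Finset.sum_subset (Finset.subset_univ _) hout).symm
  have e2' : ∑ χ ∈ S0, F χ = F (trivIrr G) + F Y + F Z2 + F Z3 := by
    rw [hS0, Finset.sum_insert, Finset.sum_insert, Finset.sum_insert, Finset.sum_singleton]
    · simp only [add_assoc]
    · simp only [Finset.mem_singleton]; exact D.hZ23
    · simp only [Finset.mem_insert, Finset.mem_singleton, not_or]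
      exact ⟨D.hZ2Y.symm, D.hZ3Y.symm⟩
    · simp only [Finset.mem_insert, Finset.mem_singleton, not_or]
      exact ⟨D.hY0.symm, D.hZ20.symm, D.hZ30.symm⟩
  have e3' : ∑ l ∈ Finset.univ.erase l0, F (f l) = 2 • ∑ χ ∈ J, F χ := by
    rw [Finset.sum_comp F f, Finset.smul_sum]
    refine Finset.sum_congr rfl fun χ hχ => ?_
    rw [Finset.mem_image] at hχ
    obtain ⟨m, hm, rfl⟩ := hχ
    rw [D.card_fiber (Finset.ne_of_mem_erase hm)]
  rw [e1, Finset.sum_union hdisj, e2', e3', smul_add]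

theorem card_erase_l0 (D : StdData l0 ε Y f Z2 Z3 e2 e3) (h : Hyp t s K) :
    (Finset.univ.erase l0).card = Nat.card K - 2 := by
  rw [Finset.card_erase_of_mem (Finset.mem_univ _), Finset.card_univ, h.card_LK]
  omega

/-- the sum of the squares of the degrees -/
theorem sq_sum_le (D : StdData l0 ε Y f Z2 Z3 e2 e3) (h : Hyp t s K) :
    2 * (1 + (irrDeg Y : ℤ) ^ 2 + (irrDeg Z2 : ℤ) ^ 2 + (irrDeg Z3 : ℤ) ^ 2)
      + ((Nat.card K - 2 : ℕ) : ℤ) * ((irrDeg Y : ℤ) + ε) ^ 2 ≤ 2 * (Nat.card G : ℤ) := by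
  classical
  set F : IrrCharacter G → ℤ := fun χ =>
    if (∀ l : LK K, cL l χ = 0) then 0 else (irrDeg χ : ℤ) ^ 2 with hF
  have hle : ∑ χ, F χ ≤ (Nat.card G : ℤ) := by
    have h1 := sum_irrDeg_sq (G := G)
    have h2 : (Nat.card G : ℤ) = ∑ χ : IrrCharacter G, (irrDeg χ : ℤ) ^ 2 := by
      rw [← h1]; push_cast; rfl
    rw [h2]
    refine Finset.sum_le_sum fun χ _ => ?_
    rw [hF]
    dsimp only
    split_ifs
    · positivity
    · exact le_refl _
  have hsp := D.sum_split F (by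
    intro χ hχ
    rw [hF]; dsimp only
    rw [if_pos hχ])
  have hε0 : ε ≠ 0 := by rcases D.hε with h1 | h1 <;> rw [h1] <;> norm_num
  have he20 : e2 ≠ 0 := by rcases D.he2 with h1 | h1 <;> rw [h1] <;> norm_num
  have he30 : e3 ≠ 0 := by rcases D.he3 with h1 | h1 <;> rw [h1] <;> norm_num
  have v0 : F (trivIrr G) = 1 := by
    rw [hF]; dsimp only
    rw [if_neg, irrDeg_trivIrr']; norm_num
    intro hh
    have := hh l0
    rw [show cL l0 (trivIrr G) = 1 from h.cf_triv l0.2] at this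
    exact one_ne_zero this
  have vY : F Y = (irrDeg Y : ℤ) ^ 2 := by
    rw [hF]; dsimp only
    rw [if_neg]
    intro hh
    have := hh l0
    rw [D.cL_Y] at this
    exact hε0 this
  have v2 : F Z2 = (irrDeg Z2 : ℤ) ^ 2 := by
    rw [hF]; dsimp only
    rw [if_neg]
    intro hh
    have := hh l0
    rw [D.cL_Z2, if_pos rfl] at this
    exact he20 this
  have v3 : F Z3 = (irrDeg Z3 : ℤ) ^ 2 := by
    rw [hF]; dsimp only
    rw [if_neg]
    intro hh
    have := hh l0
    rw [D.cL_Z3, if_pos rfl] at this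
    exact he30 this
  have vf : ∀ l ∈ Finset.univ.erase l0, F (f l) = ((irrDeg Y : ℤ) + ε) ^ 2 := by
    intro l hl
    have hl' : l ≠ l0 := Finset.ne_of_mem_erase hl
    rw [hF]; dsimp only
    rw [if_neg, D.deg_f h hl']
    intro hh
    have := hh l
    rw [D.cL_f hl', if_pos (Or.inl rfl)] at this
    exact hε0 (by linarith)
  rw [Finset.sum_congr rfl vf, Finset.sum_const, D.card_erase_l0 h, v0, vY, v2, v3] at hsp
  simp only [smul_eq_mul, nsmul_eq_mul] at hsp
  push_cast at hsp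
  push_cast
  linarith

/-- the solution of the arithmetical conditions -/
theorem arith (D : StdData l0 ε Y f Z2 Z3 e2 e3) (h : Hyp t s K) (hk : 4 ≤ Nat.card K) :
    (irrDeg Y : ℤ) = 2 * Nat.card K + ε ∧
    2 * (Nat.card G : ℤ) = irrDeg Y * (irrDeg Y + 1) * (irrDeg Y - 1) ∧ e2 = -ε ∧ e3 = -ε ∧
      2 * (irrDeg Z2 : ℤ) = irrDeg Y + ε ∧ 2 * (irrDeg Z3 : ℤ) = irrDeg Y + ε := by
  have hL : 1 < Fintype.card (LK K) := by rw [h.card_LK]; omega
  obtain ⟨l, hl⟩ := Fintype.exists_ne_of_one_lt_card hL l0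
  have hk2 : 2 ∣ Nat.card K := h.two_dvd_card_K
  have hsq := D.sq_sum_le h
  refine Arith.arith_generic (Nat.card K) (irrDeg Y) (irrDeg Z2) (irrDeg Z3) (Nat.card G) ε e2 e3
    hk hk2 (irrDeg_pos Y) (irrDeg_pos Z2) (irrDeg_pos Z3) Nat.card_pos D.hε D.he2 D.he3 ?_
    (D.deg_l0 h) (D.struct1 h hl) (D.struct2 h) ?_ (D.cong_Z2 h) (D.cong_Z3 h) ?_
  · rw [← D.deg_f h hl]
    exact_mod_cast irrDeg_pos (f l)
  · have := D.cong_Y h
    exact_mod_cast this
  · obtain ⟨j, hj⟩ := hk2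
    have h1 : ((Nat.card K - 2 : ℕ) : ℤ) = 2 * ((j : ℤ) - 1) := by
      rw [hj]
      have : 2 ≤ 2 * j := by omega
      rw [Nat.cast_sub this]; push_cast; ring
    have h2 : ((Nat.card K : ℤ) - 2) / 2 = (j : ℤ) - 1 := by
      rw [hj]; push_cast
      omega
    rw [h2]
    rw [h1] at hsq
    linarith

end StdData

end Cfsg.Agent.Helper21.Bsw
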