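import Mathlib
import Cfsg.Agent.Helper21.BswGen4
import Cfsg.Agent.Helper21.BswDefs2

/-!
Brauer–Suzuki–Wall, abstract form: the generic case, the number of involutions inverting an element.
-/

set_option autoImplicit false
set_option linter.unusedSectionVars false
set_option linter.unusedVariables false

namespace Cfsg.Agent.Helper21.Bsw

open Cfsg Cfsg.Agent.Helper24 Cfsg.Agent.Helper8 Cfsg.Agent.Helper8.DihVec

universe u

variable {G : Type u} [Group G] [Fintype G] [Fintype (IrrCharacter G)]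
  [DecidableEq (IrrCharacter G)] {t s : G} {K : Subgroup G} [Fintype K]
  [Fintype (IrrCharacter K)] [DecidableEq (IrrCharacter K)]

namespace StdData

variable {l0 : LK K} {ε : ℤ} {Y : IrrCharacter G} {f : LK K → IrrCharacter G}
  {Z2 Z3 : IrrCharacter G} {e2 e3 : ℤ}

/-- the exceptional characters vanish off the elements of `K`-type -/
theorem vanish_l (D : StdData l0 ε Y f Z2 Z3 e2 e3) (h : Hyp t s K) {x : G} (hx : ¬ KType K x)
    {l : LK K} (hl : l ≠ l0) : (f l : G → ℂ) x = (ε : ℂ) + (Y : G → ℂ) x := by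
  have h1 := h.Th_vanish l.1 hx
  rw [Th_apply_eq_sum] at h1
  have h2 : ∑ χ : IrrCharacter G, (cf K l.1 χ : ℂ) * (χ : G → ℂ) x
      = ∑ χ : IrrCharacter G, (fun χ : IrrCharacter G => (χ : G → ℂ) x) χ * (cL l χ : ℂ) := by
    refine Finset.sum_congr rfl fun χ _ => ?_
    unfold cL; ring
  rw [h2, D.sum_mul_cL hl, trivIrr_apply] at h1
  have h3 : (ε : ℂ) * ε = 1 := by exact_mod_cast D.eps_sq
  linear_combination (-(ε : ℂ)) * h1 - ((f l : G → ℂ) x - (Y : G → ℂ) x) * h3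

theorem vanish_l0 (D : StdData l0 ε Y f Z2 Z3 e2 e3) (h : Hyp t s K) {x : G} (hx : ¬ KType K x) :
    1 + (ε : ℂ) * (Y : G → ℂ) x + (e2 : ℂ) * (Z2 : G → ℂ) x + (e3 : ℂ) * (Z3 : G → ℂ) x = 0 := by
  have h1 := h.Th_vanish l0.1 hx
  rw [Th_apply_eq_sum] at h1
  have h2 : ∑ χ : IrrCharacter G, (cf K l0.1 χ : ℂ) * (χ : G → ℂ) x
      = ∑ χ : IrrCharacter G, (fun χ : IrrCharacter G => (χ : G → ℂ) x) χ * (cL l0 χ : ℂ) := by
    refine Finset.sum_congr rfl fun χ _ => ?_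
    unfold cL; ring
  rw [h2, D.sum_mul_cL0, trivIrr_apply] at h1
  exact h1

/-- the class multiplication sum in terms of `Y` -/
theorem count_sum (D : StdData l0 ε Y f Z2 Z3 e2 e3) (h : Hyp t s K) (hk : 4 ≤ Nat.card K)
    {x : G} (hx : ¬ KType K x) :
    ∑ χ : IrrCharacter G, (χ : G → ℂ) t ^ 2 / (χ : G → ℂ) 1 * (starRingEnd ℂ) ((χ : G → ℂ) x)
      = 1 + (starRingEnd ℂ) ((Y : G → ℂ) x) / ((2 * Nat.card K + ε : ℤ) : ℂ)
        + ((Nat.card K : ℂ) - 1) * ((ε : ℂ) + (starRingEnd ℂ) ((Y : G → ℂ) x))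
          / ((Nat.card K : ℂ) + ε) := by
  obtain ⟨hy, hg, he2, he3, hz2, hz3⟩ := D.arith h hk
  set F : IrrCharacter G → ℂ := fun χ =>
    (χ : G → ℂ) t ^ 2 / (χ : G → ℂ) 1 * (starRingEnd ℂ) ((χ : G → ℂ) x) with hF
  have hsp := D.sum_split F (by
    intro χ hχ
    rw [hF]; dsimp only
    have := val_other h hχ h.tK_ne_one
    rw [h.coe_tK] at this
    rw [this]; simp)
  have hε2 : (ε : ℂ) ^ 2 = 1 := by
    have h6 : (ε : ℂ) * ε = 1 := by exact_mod_cast D.eps_sq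
    rw [pow_two]; exact h6
  have hkε : (Nat.card K : ℂ) + ε ≠ 0 := by
    have : (Nat.card K : ℤ) + ε ≠ 0 := by
      rcases D.hε with h1 | h1 <;> rw [h1] <;> omega
    exact_mod_cast this
  have hyC : (irrDeg Y : ℂ) = ((2 * Nat.card K + ε : ℤ) : ℂ) := by exact_mod_cast hy
  have hz2C : (irrDeg Z2 : ℂ) = (Nat.card K : ℂ) + ε := by
    have : (irrDeg Z2 : ℤ) = Nat.card K + ε := by linarith
    exact_mod_cast this
  have hz3C : (irrDeg Z3 : ℂ) = (Nat.card K : ℂ) + ε := by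
    have : (irrDeg Z3 : ℤ) = Nat.card K + ε := by linarith
    exact_mod_cast this
  have v0 : F (trivIrr G) = 1 := by
    rw [hF]; simp
  have vY : F Y = (starRingEnd ℂ) ((Y : G → ℂ) x) / ((2 * Nat.card K + ε : ℤ) : ℂ) := by
    rw [hF]; dsimp only
    rw [D.val_Y_t h, hε2, irrDeg_spec, hyC]; ring
  have v2 : F Z2 = (starRingEnd ℂ) ((Z2 : G → ℂ) x) / ((Nat.card K : ℂ) + ε) := by
    rw [hF]; dsimp only
    rw [D.val_Z2_t_sq h, irrDeg_spec, hz2C]; ring
  have v3 : F Z3 = (starRingEnd ℂ) ((Z3 : G → ℂ) x) / ((Nat.card K : ℂ) + ε) := by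
    rw [hF]; dsimp only
    rw [D.val_Z3_t_sq h, irrDeg_spec, hz3C]; ring
  have vf : ∀ l ∈ Finset.univ.erase l0,
      F (f l) = 2 * ((ε : ℂ) + (starRingEnd ℂ) ((Y : G → ℂ) x)) / ((Nat.card K : ℂ) + ε) := by
    intro l hl
    have hl' : l ≠ l0 := Finset.ne_of_mem_erase hl
    rw [hF]; dsimp only
    have hd : (irrDeg (f l) : ℂ) = 2 * ((Nat.card K : ℂ) + ε) := by
      have h1 := D.deg_f h hl'
      have : (irrDeg (f l) : ℤ) = 2 * (Nat.card K + ε) := by rw [h1, hy]; ring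
      exact_mod_cast this
    rw [D.val_f_t_sq h hl', irrDeg_spec, hd, D.vanish_l h hx hl']
    simp only [map_add, map_intCast]
    field_simp
    ring
  have hz23 : (starRingEnd ℂ) ((Z2 : G → ℂ) x) + (starRingEnd ℂ) ((Z3 : G → ℂ) x)
      = (ε : ℂ) + (starRingEnd ℂ) ((Y : G → ℂ) x) := by
    have h1 := D.vanish_l0 h hx
    rw [he2, he3] at h1
    have h2 : (Z2 : G → ℂ) x + (Z3 : G → ℂ) x = (ε : ℂ) + (Y : G → ℂ) x := by
      push_cast at h1
      linear_combination (-(ε : ℂ)) * h1 - ((Z2 : G → ℂ) x + (Z3 : G → ℂ) x - (Y : G → ℂ) x) * hε2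
    have h3 := congrArg (starRingEnd ℂ) h2
    simpa only [map_add, map_intCast] using h3
  rw [Finset.sum_congr rfl vf, Finset.sum_const, D.card_erase_l0 h, v0, vY, v2, v3] at hsp
  simp only [smul_eq_mul, nsmul_eq_mul] at hsp
  have hk2 : ((Nat.card K - 2 : ℕ) : ℂ) = (Nat.card K : ℂ) - 2 := by
    rw [Nat.cast_sub (by omega)]; simp
  rw [hk2] at hsp
  have h2 : (2 : ℂ) ≠ 0 := two_ne_zero
  have key : (2 : ℂ) * ∑ χ, F χ = 2 * (1 + (starRingEnd ℂ) ((Y : G → ℂ) x)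
      / ((2 * Nat.card K + ε : ℤ) : ℂ) + ((Nat.card K : ℂ) - 1)
        * ((ε : ℂ) + (starRingEnd ℂ) ((Y : G → ℂ) x)) / ((Nat.card K : ℂ) + ε)) := by
    have h3 : (2 : ℂ) * ∑ χ, F χ = ((2 : ℕ) : ℂ) * ∑ χ, F χ := by norm_num
    rw [h3, hsp]
    have h4 : (starRingEnd ℂ) ((Z2 : G → ℂ) x) / ((Nat.card K : ℂ) + ε)
        + (starRingEnd ℂ) ((Z3 : G → ℂ) x) / ((Nat.card K : ℂ) + ε)
        = ((ε : ℂ) + (starRingEnd ℂ) ((Y : G → ℂ) x)) / ((Nat.card K : ℂ) + ε) := by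
      rw [← add_div, hz23]
    push_cast
    linear_combination 2 * h4
  exact mul_left_cancel₀ h2 key

/-- the values of `Y` on the elements of `K`-type -/
theorem val_Y_kType (D : StdData l0 ε Y f Z2 Z3 e2 e3) (h : Hyp t s K) {x : G} (hx : KType K x) :
    (Y : G → ℂ) x = (ε : ℂ) := by
  obtain ⟨hx1, g, hg⟩ := hx
  have hcl := IsCharacter.isClassFunction (IsIrrCharacter.isCharacter Y.2)
  have h1 := hcl x g⁻¹
  rw [inv_inv] at h1
  rw [← h1]
  have hne : (⟨g⁻¹ * x * g, hg⟩ : K) ≠ 1 := by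
    intro hh
    apply hx1
    have h2 : g⁻¹ * x * g = 1 := congrArg Subtype.val hh
    have : x = g * (g⁻¹ * x * g) * g⁻¹ := by group
    rw [this, h2]; group
  exact D.val_Y h hne

/-- the number of involutions inverting an element of `R`-type, first form -/
theorem count_conj (D : StdData l0 ε Y f Z2 Z3 e2 e3) (h : Hyp t s K) (hk : 4 ≤ Nat.card K)
    {x : G} (hx : RType K x) :
    (invCount x : ℂ) =
      if ε = 1 then ((2 * Nat.card K + 1 : ℕ) : ℂ)
        + (Nat.card K : ℂ) * (starRingEnd ℂ) ((Y : G → ℂ) x)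
      else ((Nat.card K : ℂ) - 1) * (starRingEnd ℂ) ((Y : G → ℂ) x) := by
  obtain ⟨hy, hg, -, -, -, -⟩ := D.arith h hk
  rw [h.count_eq hx, D.count_sum h hk hx.2]
  rw [hy] at hg
  have hk0 : (Nat.card K : ℂ) ≠ 0 := by
    exact_mod_cast (Nat.card_pos (α := K)).ne'
  have hk4 : (4 : ℝ) ≤ (Nat.card K : ℝ) := by exact_mod_cast hk
  rcases D.hε with he | he
  · rw [he] at hg ⊢
    rw [if_pos rfl]
    have hG : (Nat.card G : ℂ) = (2 * Nat.card K + 1) * ((Nat.card K : ℂ) + 1) * (2 * Nat.card K) := by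
      have : (Nat.card G : ℤ) = (2 * Nat.card K + 1) * ((Nat.card K : ℤ) + 1) * (2 * Nat.card K) := by
        linarith
      exact_mod_cast this
    have h1 : (Nat.card K : ℂ) + 1 ≠ 0 := by
      have : (Nat.card K : ℤ) + 1 ≠ 0 := by omega
      exact_mod_cast this
    have h2 : 2 * (Nat.card K : ℂ) + 1 ≠ 0 := by
      have : 2 * (Nat.card K : ℤ) + 1 ≠ 0 := by omega
      exact_mod_cast this
    rw [hG]
    push_cast
    field_simp
    ring
  · rw [he] at hg ⊢
    rw [if_neg (by norm_num)]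
    have hG : (Nat.card G : ℂ) = (2 * Nat.card K - 1) * ((Nat.card K : ℂ) - 1) * (2 * Nat.card K) := by
      have : (Nat.card G : ℤ) = (2 * Nat.card K - 1) * ((Nat.card K : ℤ) - 1) * (2 * Nat.card K) := by
        linarith
      exact_mod_cast this
    have h1 : (Nat.card K : ℂ) + (-1 : ℤ) ≠ 0 := by
      have : (Nat.card K : ℤ) + (-1 : ℤ) ≠ 0 := by omega
      exact_mod_cast this
    have h1' : (Nat.card K : ℂ) - 1 ≠ 0 := by
      have : (Nat.card K : ℤ) - 1 ≠ 0 := by omega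
      exact_mod_cast this
    have h2 : 2 * (Nat.card K : ℂ) - 1 ≠ 0 := by
      have : 2 * (Nat.card K : ℤ) - 1 ≠ 0 := by omega
      exact_mod_cast this
    rw [hG]
    push_cast
    have h3 : (Nat.card K : ℂ) + -1 = (Nat.card K : ℂ) - 1 := by ring
    have h4 : 2 * (Nat.card K : ℂ) + -1 = 2 * (Nat.card K : ℂ) - 1 := by ring
    rw [h3, h4]
    field_simp
    ring

/-- `Y` is real on the elements of `R`-type -/
theorem conj_Y (D : StdData l0 ε Y f Z2 Z3 e2 e3) (h : Hyp t s K) (hk : 4 ≤ Nat.card K)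
    {x : G} (hx : RType K x) : (starRingEnd ℂ) ((Y : G → ℂ) x) = (Y : G → ℂ) x := by
  have h1 := D.count_conj h hk hx
  have h2 := congrArg (starRingEnd ℂ) h1
  rw [Complex.conj_natCast] at h2
  have hk0 : (Nat.card K : ℂ) ≠ 0 := by
    exact_mod_cast (Nat.card_pos (α := K)).ne'
  have h1' : (Nat.card K : ℂ) - 1 ≠ 0 := by
    have : (Nat.card K : ℤ) - 1 ≠ 0 := by omega
    exact_mod_cast this
  rcases D.hε with he | he
  · rw [he, if_pos rfl] at h1 h2
    simp only [map_add, map_mul, Complex.conj_natCast, Complex.conj_conj] at h2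
    have h3 : (Nat.card K : ℂ) * (starRingEnd ℂ) ((Y : G → ℂ) x)
        = (Nat.card K : ℂ) * (Y : G → ℂ) x := by
      linear_combination h2 - h1
    exact mul_left_cancel₀ hk0 h3
  · rw [he, if_neg (by norm_num)] at h1 h2
    simp only [map_sub, map_one, map_mul, Complex.conj_natCast, Complex.conj_conj] at h2
    have h3 : ((Nat.card K : ℂ) - 1) * (starRingEnd ℂ) ((Y : G → ℂ) x)
        = ((Nat.card K : ℂ) - 1) * (Y : G → ℂ) x := by
      linear_combination h2 - h1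
    exact mul_left_cancel₀ h1' h3

/-- the output of the character theory in the generic case -/
theorem charData (D : StdData l0 ε Y f Z2 Z3 e2 e3) (h : Hyp t s K) (hk : 4 ≤ Nat.card K) :
    CharData K := by
  obtain ⟨hy, hg, -, -, -, -⟩ := D.arith h hk
  refine ⟨ε, Y, D.hε, ?_, ?_, fun x hx => D.val_Y_kType h hx, fun x hx => ?_⟩
  · rw [hg, hy]
  · rw [irrDeg_spec]
    exact_mod_cast hy
  · have h1 := D.count_conj h hk hx
    rw [D.conj_Y h hk hx] at h1
    exact h1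

end StdData

end Cfsg.Agent.Helper21.Bsw
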