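import Mathlib
import Cfsg.Agent.Helper1.QP63Defs
import Cfsg.Agent.Helper1.QP63Easy
import Cfsg.Agent.Helper25.QPAlpha
import Cfsg.Agent.Helper23.QP2IF
import Cfsg.Agent.Helper23.QPTRANS

set_option autoImplicit false

/-! S5063, board `s5063pieces`, piece NCEN: a quadratic element of `G` inside a component is not central in it. -/

noncomputable section

namespace Cfsg.Agent.QP63

open Cfsg Cfsg.Agent.Helper25.QP Cfsg.Agent.Helper25.QuadPair Cfsg.Agent.QPP

variable {k : Type*} [Field k] {M : Type*} [AddCommGroup M] [Module k M]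

local notation "GLkM" => LinearMap.GeneralLinearGroup k M

/-- an element of `G` that is quadratic on `M` does not commute with all of the irreducible group `G` -/
theorem NCEN_aux_irr {G : Subgroup GLkM} (hirr : IsIrreducibleFor G) {σ : GLkM} (hq : IsQuadraticOn σ)
    (hc : ∀ g ∈ G, g * σ = σ * g) : False := by
  obtain ⟨hsq, hne⟩ := hq
  set f : M →ₗ[k] M := (σ : M →ₗ[k] M) - 1 with hf
  have hinv : ∀ g ∈ G, ∀ w ∈ LinearMap.ker f, (g : M →ₗ[k] M) w ∈ LinearMap.ker f := by
    intro g hg w hw
    rw [LinearMap.mem_ker] at hw ⊢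
    have h1 : (σ : M →ₗ[k] M) ((g : M →ₗ[k] M) w) = (g : M →ₗ[k] M) ((σ : M →ₗ[k] M) w) := by
      have h2 := congrArg (fun u : GLkM => (u : M →ₗ[k] M) w) (hc g hg)
      simp only [Units.val_mul, Module.End.mul_apply] at h2
      exact h2.symm
    have h3 : (σ : M →ₗ[k] M) w = w := by
      have h4 : (σ : M →ₗ[k] M) w - w = 0 := by
        have := hw
        rw [hf, LinearMap.sub_apply, Module.End.one_apply] at this
        exact this
      exact sub_eq_zero.1 h4
    rw [hf, LinearMap.sub_apply, Module.End.one_apply, h1, h3, sub_self]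
  rcases hirr.2 (LinearMap.ker f) hinv with h | h
  · -- `ker f = ⊥` but `range f ≤ ker f`
    apply hne
    apply LinearMap.range_eq_bot.1
    rw [eq_bot_iff, ← h]
    rintro _ ⟨w, rfl⟩
    rw [LinearMap.mem_ker]
    have := LinearMap.congr_fun hsq w
    simpa [Module.End.mul_apply] using this
  · exact hne (LinearMap.ker_eq_top.1 h)

open scoped commutatorElement in
/-- a quadratic element of `G` inside a component is not central in it -/
theorem NCEN {G : Subgroup GLkM} (hG : IsQuadraticPair G) {r : ℕ}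
    {part : Fin r → Set (Subgroup GLkM)} (hP : Parts G part) (h74 : H74 G) {σ : GLkM}
    (hσ : σ ∈ quadraticElements G) {i : Fin r} (hi : σ ∈ Lc part i) :
    ¬ ∀ g ∈ Lc part i, g * σ = σ * g := by
  intro hc
  apply NCEN_aux_irr hG.1 hσ.2.1
  -- `σ` commutes with every component
  have hL : ∀ j, Lc part j ≤ Subgroup.centralizer ({σ} : Set GLkM) := by
    intro j g hg
    rw [Subgroup.mem_centralizer_iff]
    intro s hs
    rw [Set.mem_singleton_iff] at hs
    rw [hs]
    by_cases hij : i = j
    · subst hij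
      exact (hc g hg).symm
    · have h1 : ⁅σ, g⁆ ∈ ⁅Lc part i, Lc part j⁆ := Subgroup.commutator_mem_commutator hi hg
      rw [hP.comm i j hij, Subgroup.mem_bot] at h1
      exact commutatorElement_eq_one_iff_mul_comm.1 h1
  have hG0 : G0 G ≤ Subgroup.centralizer ({σ} : Set GLkM) := by
    rw [G0EQ hP]
    exact iSup_le hL
  have hσG0 : σ ∈ G0 G := by
    rw [G0EQ hP]
    exact (le_iSup (fun j => Lc part j) i) hi
  have hC : G ⊓ Subgroup.centralizer (G0 G : Set GLkM) ≤ Subgroup.centralizer ({σ} : Set GLkM) := by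
    intro c hc'
    rw [Subgroup.mem_centralizer_iff]
    intro s hs
    rw [Set.mem_singleton_iff] at hs
    rw [hs]
    exact (Subgroup.mem_centralizer_iff.1 hc'.2) σ hσG0
  have hGle : G ≤ Subgroup.centralizer ({σ} : Set GLkM) := by
    have h1 : G0 G ⊔ (G ⊓ Subgroup.centralizer (G0 G : Set GLkM)) = G := h74
    rw [← h1]
    exact sup_le hG0 hC
  intro g hg
  have h2 := hGle hg
  rw [Subgroup.mem_centralizer_iff] at h2
  exact (h2 σ (Set.mem_singleton σ)).symm

end Cfsg.Agent.QP63

end
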