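import Mathlib
import Cfsg.Agent.Helper25.QPDefs2
import Cfsg.Agent.Helper25.QPAct
import Cfsg.Agent.Helper25.UnipAlg
import Cfsg.Agent.Helper4.QPROOT
import Cfsg.Agent.Helper15.QPFIXC
import Cfsg.Agent.Helper18.QP2RS

set_option autoImplicit false

/-! Board `s5068pieces`, piece AUG: the space `aug E = {e - 1 : e ∈ E}` of a root subgroup, and the
invariance of `finrank (aug A)` under conjugation. -/

noncomputable section

universe u v

namespace Cfsg.Agent.QP68

open Cfsg Cfsg.Agent.Helper25.QP Cfsg.Agent.Helper25.QuadPair Cfsg.Agent.QPP Cfsg.Agent.Helper25.Unip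

variable {k : Type u} [Field k] {M : Type v} [AddCommGroup M] [Module k M]

local notation "GLkM" => LinearMap.GeneralLinearGroup k M

/-! ## piece AUG : the space `𝔢 = {e - 1 : e ∈ E}` -/

theorem AUG_mem [FiniteDimensional k M] {G : Subgroup GLkM} {σ : GLkM}
    (hσ : σ ∈ minimalQuadraticElements G) (x : Module.End k M) :
    x ∈ aug (sameActionSubgroup G σ) ↔ ∃ e ∈ sameActionSubgroup G σ, (e : Module.End k M) - 1 = x := by
  constructor
  · intro hx
    unfold aug at hx
    induction hx using Submodule.span_induction with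
    | mem y hy =>
      obtain ⟨e, he, rfl⟩ := hy
      exact ⟨e, he, rfl⟩
    | zero => exact ⟨1, Subgroup.one_mem _, by rw [Units.val_one, sub_self]⟩
    | add y z _ _ ihy ihz =>
      obtain ⟨e, he, rfl⟩ := ihy
      obtain ⟨f, hf, rfl⟩ := ihz
      refine ⟨e * f, Subgroup.mul_mem _ he hf, ?_⟩
      have h0 := ROOT_sq hσ he hf
      have e1 : ((e * f : GLkM) : Module.End k M) - 1
          = ((e : Module.End k M) - 1) + ((f : Module.End k M) - 1)
            + ((e : Module.End k M) - 1) * ((f : Module.End k M) - 1) := by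
        rw [Units.val_mul]; noncomm_ring
      rw [e1, h0, add_zero]
    | smul c y _ ihy =>
      obtain ⟨e, he, rfl⟩ := ihy
      by_cases hc : c = 0
      · exact ⟨1, Subgroup.one_mem _, by rw [Units.val_one, sub_self, hc, zero_smul]⟩
      by_cases h1 : e = 1
      · exact ⟨1, Subgroup.one_mem _, by rw [h1, Units.val_one, sub_self, smul_zero]⟩
      obtain ⟨hQ, hker, hrange⟩ := ROOT_Qd hσ he h1
      have hx0 : (e : Module.End k M) - 1 ≠ 0 := by
        intro h
        apply h1
        apply Units.ext
        rw [Units.val_one]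
        exact sub_eq_zero.1 h
      have hcx0 : c • ((e : Module.End k M) - 1) ≠ 0 := smul_ne_zero hc hx0
      obtain ⟨e', he', _, hval⟩ := ROOT_of hσ (hQ.1.smul c) hcx0
        (by rw [LinearMap.ker_smul _ _ hc]; exact hker)
        (by rw [LinearMap.range_smul _ _ hc]; exact hrange)
      exact ⟨e', he', by rw [hval]; abel⟩
  · rintro ⟨e, he, rfl⟩
    exact sub_one_mem_aug he

/-- conjugation by `g` as a linear automorphism of `End k M` -/
def AUG_conjEquiv (g : GLkM) : Module.End k M ≃ₗ[k] Module.End k M where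
  toFun x := (g : Module.End k M) * x * ((g⁻¹ : GLkM) : Module.End k M)
  map_add' x y := by rw [mul_add, add_mul]
  map_smul' c x := by rw [mul_smul_comm, smul_mul_assoc, RingHom.id_apply]
  invFun x := ((g⁻¹ : GLkM) : Module.End k M) * x * (g : Module.End k M)
  left_inv x := by
    show ((g⁻¹ : GLkM) : Module.End k M) * ((g : Module.End k M) * x * ((g⁻¹ : GLkM) : Module.End k M))
      * (g : Module.End k M) = x
    have e1 : ((g⁻¹ : GLkM) : Module.End k M) * (g : Module.End k M) = 1 := by
      rw [← Units.val_mul, inv_mul_cancel, Units.val_one]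
    calc ((g⁻¹ : GLkM) : Module.End k M) * ((g : Module.End k M) * x * ((g⁻¹ : GLkM) : Module.End k M))
          * (g : Module.End k M)
        = (((g⁻¹ : GLkM) : Module.End k M) * (g : Module.End k M)) * x
          * (((g⁻¹ : GLkM) : Module.End k M) * (g : Module.End k M)) := by simp only [mul_assoc]
      _ = x := by rw [e1, one_mul, mul_one]
  right_inv x := by
    show (g : Module.End k M) * (((g⁻¹ : GLkM) : Module.End k M) * x * (g : Module.End k M))
      * ((g⁻¹ : GLkM) : Module.End k M) = x
    have e1 : (g : Module.End k M) * ((g⁻¹ : GLkM) : Module.End k M) = 1 := by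
      rw [← Units.val_mul, mul_inv_cancel, Units.val_one]
    calc (g : Module.End k M) * (((g⁻¹ : GLkM) : Module.End k M) * x * (g : Module.End k M))
          * ((g⁻¹ : GLkM) : Module.End k M)
        = ((g : Module.End k M) * ((g⁻¹ : GLkM) : Module.End k M)) * x
          * ((g : Module.End k M) * ((g⁻¹ : GLkM) : Module.End k M)) := by simp only [mul_assoc]
      _ = x := by rw [e1, one_mul, mul_one]

theorem AUG_conjEquiv_apply (g : GLkM) (x : Module.End k M) :
    AUG_conjEquiv g x = (g : Module.End k M) * x * ((g⁻¹ : GLkM) : Module.End k M) := rfl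

/-- `aug (g A g⁻¹)` is the image of `aug A` under conjugation by `g` -/
theorem AUG_aux_map [FiniteDimensional k M] (A : Subgroup GLkM) (g : GLkM) :
    aug (conjBy A g) = (aug A).map (AUG_conjEquiv g : Module.End k M →ₗ[k] Module.End k M) := by
  unfold aug
  rw [Submodule.map_span]
  congr 1
  ext y
  constructor
  · rintro ⟨h, hh, rfl⟩
    obtain ⟨a, ha, rfl⟩ := Subgroup.mem_map.1 hh
    refine ⟨(a : Module.End k M) - 1, ⟨a, ha, rfl⟩, ?_⟩
    show AUG_conjEquiv g ((a : Module.End k M) - 1) = _
    rw [AUG_conjEquiv_apply]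
    exact (ROOT_aux_val g a).symm
  · rintro ⟨_, ⟨a, ha, rfl⟩, rfl⟩
    refine ⟨g * a * g⁻¹, Subgroup.mem_map.2 ⟨a, ha, rfl⟩, ?_⟩
    show _ = AUG_conjEquiv g ((a : Module.End k M) - 1)
    rw [AUG_conjEquiv_apply]
    exact ROOT_aux_val g a

theorem AUG_conj [FiniteDimensional k M] (A : Subgroup GLkM) (g : GLkM) :
    Module.finrank k ↥(aug (conjBy A g)) = Module.finrank k ↥(aug A) := by
  rw [AUG_aux_map]
  exact LinearEquiv.finrank_map_eq (AUG_conjEquiv g) (aug A)

end Cfsg.Agent.QP68

end
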