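import Mathlib
import Cfsg.Agent.Helper25.QPSwap
import Cfsg.Agent.Helper20.QPIDEM

set_option autoImplicit false

/-! Board `qppieces`, piece FAITH: a polynomial in `z` vanishing on `A₁` (or on `B₁`) vanishes
on `M₁ = A₁ ⊕ B₁`. -/

noncomputable section

namespace Cfsg.Agent.QPP

open Cfsg Cfsg.Agent.Helper25.QP Cfsg.Agent.Helper25.QuadPair Polynomial

variable {k : Type*} [Field k] {M : Type*} [AddCommGroup M] [Module k M]

theorem FAITH_A [FiniteDimensional k M] (a b : Module.End k M) (ha : a * a = 0) (hb : b * b = 0)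
    (q : k[X]) (hq : ∀ u ∈ A1 a b, aeval (zz a b) q u = 0) : q ∈ Van1 a b := by
  unfold Van1
  rw [mem_Van]
  intro m hm
  rw [← IDEM_sup a b ha hb] at hm
  obtain ⟨u, hu, v, hv, rfl⟩ := Submodule.mem_sup.mp hm
  rw [map_add, hq u hu, zero_add]
  have hvM : v ∈ M1 a b := hv.1
  have hvb : b v = 0 := LinearMap.mem_ker.mp hv.2
  have hcz : Commute (aeval (zz a b) q) (zz a b) :=
    commute_aeval_of_commute (Commute.refl (zz a b)) q
  have hwvM : aeval (zz a b) q v ∈ M1 a b := FIT_inv1 (zz a b) _ hcz v hvM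
  have hbw : b (aeval (zz a b) q v) = 0 := by
    have hc : Commute (aeval (zz a b) q) b := commute_aeval_b hb q
    calc b (aeval (zz a b) q v) = (b * aeval (zz a b) q) v := rfl
      _ = (aeval (zz a b) q * b) v := by rw [hc.eq]
      _ = aeval (zz a b) q (b v) := rfl
      _ = 0 := by rw [hvb, map_zero]
  have haw : a (aeval (zz a b) q v) = 0 := by
    have hc : Commute (aeval (zz a b) q) a := commute_aeval_a ha q
    have hav : a v ∈ A1 a b := by
      rw [← IDEM_mapa a b ha hb]
      exact Submodule.mem_map_of_mem hvM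
    calc a (aeval (zz a b) q v) = (a * aeval (zz a b) q) v := rfl
      _ = (aeval (zz a b) q * a) v := by rw [hc.eq]
      _ = aeval (zz a b) q (a v) := rfl
      _ = 0 := hq _ hav
  have hmem : aeval (zz a b) q v ∈ A1 a b ⊓ B1 a b :=
    ⟨⟨hwvM, LinearMap.mem_ker.mpr haw⟩, ⟨hwvM, LinearMap.mem_ker.mpr hbw⟩⟩
  rw [IDEM_inf a b ha hb] at hmem
  exact (Submodule.mem_bot k).mp hmem

theorem FAITH_B [FiniteDimensional k M] (a b : Module.End k M) (ha : a * a = 0) (hb : b * b = 0)
    (q : k[X]) (hq : ∀ u ∈ B1 a b, aeval (zz a b) q u = 0) : q ∈ Van1 a b := by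
  have h := FAITH_A b a hb ha q (by
    intro u hu
    rw [zz_swap]
    rw [A1_swap] at hu
    exact hq u hu)
  rwa [Van1_swap] at h

end Cfsg.Agent.QPP

end
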