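import Mathlib
import Cfsg.Agent.Helper25.QPDefs2
import Cfsg.Agent.Helper25.QPAct
import Cfsg.Agent.Helper18.SL2Ext5
import Cfsg.Agent.Helper27.QPACT1
import Cfsg.Agent.Helper14.QPVANU
import Cfsg.Agent.Helper12.QPTHMA
import Cfsg.Agent.Helper14.QPSURJ

set_option autoImplicit false

/-! Board `qppieces`, piece ELT: elements of `Hgrp` with prescribed coordinates modulo `Van1`. -/

noncomputable section

universe u v

namespace Cfsg.Agent.QPP

open Cfsg Cfsg.Agent.Helper25.QP Cfsg.Agent.Helper25.QuadPair Polynomial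

variable {k : Type u} [Field k] {M : Type v} [AddCommGroup M] [Module k M]

local notation "GLkM" => LinearMap.GeneralLinearGroup k M

/-- `opn P` vanishes where `a` and `b` vanish -/
theorem ELT_aux_opn_zero (a b : Module.End k M) (P : Co k) {m : M} (h1 : a m = 0) (h2 : b m = 0) :
    opn a b P m = 0 := by
  simp [opn, LinearMap.add_apply, Module.End.mul_apply, h1, h2]

/-- `X` is a unit modulo `Van1` -/
theorem ELT_aux_X [FiniteDimensional k M] (a b : Module.End k M) (f : k[X])
    (h : X * f ∈ Van1 a b) : f ∈ Van1 a b := by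
  obtain ⟨u, hu⟩ := FIT_invpoly (zz a b)
  have hu' : X * u - 1 ∈ Van1 a b := hu
  have : f = u * (X * f) - (X * u - 1) * f := by ring
  rw [this]
  exact (Van1 a b).sub_mem ((Van1 a b).mul_mem_left _ h) ((Van1 a b).mul_mem_right _ hu')

theorem ELT [FiniteDimensional k M] (hk2 : ringChar k ≠ 2) (hk3 : Nat.card k ≠ 3)
    {G : Subgroup GLkM} {d : ℕ} {a b : Module.End k M} (hp : QPair G d a b)
    (hnu : ¬ UnipPair a b) (Q : Co k) (hdet : (1 + Co.matn Q).det - 1 ∈ Van1 a b) :
    ∃ h ∈ Hgrp a b hp.qa.1.1 hp.qb.1.1, (∀ m ∈ M0 a b, (h : Module.End k M) m = m) ∧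
      (∀ m ∈ M1 a b, (h : Module.End k M) m = m + opn a b Q m) := by
  have ha : a * a = 0 := hp.qa.1.1
  have hb : b * b = 0 := hp.qb.1.1
  -- the target matrix over the quotient
  have hdet' : ((Ideal.Quotient.mk (Van1 a b)).mapMatrix (1 + Co.matn Q)).det = 1 := by
    rw [← RingHom.map_det]
    have h0 : Ideal.Quotient.mk (Van1 a b) ((1 + Co.matn Q).det - 1) = 0 :=
      Ideal.Quotient.eq_zero_iff_mem.mpr hdet
    rw [map_sub, map_one, sub_eq_zero] at h0
    exact h0
  obtain ⟨x, hx, hxg⟩ := SURJ hk2 hk3 hp hnu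
    ⟨(Ideal.Quotient.mk (Van1 a b)).mapMatrix (1 + Co.matn Q), hdet'⟩
  obtain ⟨P, hP1, hP2⟩ := COORD ha hb x hx
  -- entries agree modulo `Van1`
  have hent : ∀ i j : Fin 2, (Co.matn P) i j - (Co.matn Q) i j ∈ Van1 a b := by
    intro i j
    have h1 := congrArg (fun A : Matrix.SpecialLinearGroup (Fin 2) (k[X] ⧸ Van1 a b) =>
      (A : Matrix (Fin 2) (Fin 2) (k[X] ⧸ Van1 a b)) i j) hxg
    simp only [Matrix.SpecialLinearGroup.map_apply_coe, RingHom.mapMatrix_apply, Matrix.map_apply,
      hP1, Matrix.add_apply, map_add] at h1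
    have h2 : Ideal.Quotient.mk (Van1 a b) ((Co.matn P) i j)
        = Ideal.Quotient.mk (Van1 a b) ((Co.matn Q) i j) := add_left_cancel h1
    exact Ideal.Quotient.eq.mp h2
  have hp' : P.p + -Q.p ∈ Van1 a b := by
    apply ELT_aux_X a b
    have := hent 0 0
    simp only [Co.matn, Matrix.of_apply, Matrix.cons_val_zero] at this
    have e : X * (P.p + -Q.p) = X * P.p - X * Q.p := by ring
    rw [e]; exact this
  have hq' : P.q + -Q.q ∈ Van1 a b := by
    have := hent 0 1
    simp only [Co.matn, Matrix.of_apply, Matrix.cons_val_zero, Matrix.cons_val_one] at this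
    rw [← sub_eq_add_neg]; exact this
  have hs' : P.s + -Q.s ∈ Van1 a b := by
    apply ELT_aux_X a b
    have := hent 1 0
    simp only [Co.matn, Matrix.of_apply, Matrix.cons_val_zero, Matrix.cons_val_one] at this
    have e : X * (P.s + -Q.s) = X * P.s - X * Q.s := by ring
    rw [e]; exact this
  have ht' : P.t + -Q.t ∈ Van1 a b := by
    apply ELT_aux_X a b
    have := hent 1 1
    simp only [Co.matn, Matrix.of_apply, Matrix.cons_val_zero, Matrix.cons_val_one] at this
    have e : X * (P.t + -Q.t) = X * P.t - X * Q.t := by ring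
    rw [e]; exact this
  have hact : ∀ m ∈ M1 a b, opn a b (P + -Q) m = 0 :=
    (ACT1 a b ha hb (P + -Q)).mpr ⟨hp', hq', hs', ht'⟩
  have hv : VanM0 a b := THMA hk2 hk3 hp hnu
  refine ⟨x.1, ?_, ?_, ?_⟩
  · rw [← map_fst_Hpair a b ha hb]
    exact Subgroup.mem_map_of_mem (MonoidHom.fst GLkM (Matrix.SpecialLinearGroup (Fin 2) k[X])) hx
  · intro m hm
    rw [hP2, LinearMap.add_apply, Module.End.one_apply,
      ELT_aux_opn_zero a b P (hv m hm).1 (hv m hm).2, add_zero]
  · intro m hm
    have h1 := hact m hm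
    rw [opn_add, opn_neg, LinearMap.add_apply, LinearMap.neg_apply] at h1
    rw [hP2, LinearMap.add_apply, Module.End.one_apply]
    congr 1
    exact add_neg_eq_zero.mp h1

end Cfsg.Agent.QPP

end
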