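import Mathlib
import Cfsg.Agent.Helper27.S0429Defs

/-! s0429pieces CLSCOC core (helper21): a class is a coclique; MTRANS enters as a hypothesis. -/

set_option autoImplicit false

namespace Cfsg.Agent.S0429P

open Finset

variable {V : Type*} [Fintype V] [DecidableEq V] {G : SimpleGraph V} [DecidableRel G.Adj]

/-- mates are not adjacent. -/
theorem CLSCOC_aux_nadj {a b c : V} (hm : Mate G a b c) : ¬ G.Adj b c := by
  intro hadj
  have h0 := hm.2.2.2
  unfold kap at h0
  rw [if_pos hadj] at h0
  omega

/-- CLSCOC with the transitivity of `Mate` as a hypothesis. -/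
theorem CLSCOC_core {a b : V}
    (htrans : ∀ c d : V, Mate G a b c → Mate G a b d → c ≠ d → Mate G a c d) :
    IsCoc G (cls G a b) := by
  intro v hv w hw
  rw [mem_cls] at hv hw
  rcases hv with rfl | hv
  · rcases hw with rfl | hw
    · exact G.loopless.irrefl _
    · exact CLSCOC_aux_nadj hw
  · rcases hw with rfl | hw
    · exact fun hadj => CLSCOC_aux_nadj hv hadj.symm
    · by_cases hvw : v = w
      · subst hvw; exact G.loopless.irrefl _
      · exact CLSCOC_aux_nadj (htrans v w hv hw hvw)

end Cfsg.Agent.S0429P
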