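import Mathlib
import Cfsg.Agent.Helper21.S0429CLSCOCcore
import Cfsg.Agent.Helper10.S0429CLS

/-! s0429pieces CLSCOC (helper21): a class is a coclique. -/

set_option autoImplicit false

namespace Cfsg.Agent.S0429P

open Finset

variable {V : Type*} [Fintype V] [DecidableEq V] {G : SimpleGraph V} [DecidableRel G.Adj]

/-- CLSCOC (S): a class is a coclique. -/
theorem CLSCOC (h : G.IsSRGWith 77 16 0 4) {a b : V} (hab : Far G a b) : IsCoc G (cls G a b) :=
  CLSCOC_core (fun _ _ hc hd hcd => MTRANS h hc hd hcd)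

end Cfsg.Agent.S0429P
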