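import Mathlib
import Cfsg.Agent.Helper27.S0429Defs

/-! s0429pieces CLSPART core (helper21): the sets `cn a p`, `p ∈ cls a b`, partition `N(a)`;
the dependencies CLS4 and MTRANS enter as hypotheses. -/

set_option autoImplicit false

namespace Cfsg.Agent.S0429P

open Finset

variable {V : Type*} [Fintype V] [DecidableEq V] {G : SimpleGraph V} [DecidableRel G.Adj]

/-- members of a class are far from the base vertex. -/
theorem CLSPART_aux_far {a b p : V} (hab : Far G a b) (hp : p ∈ cls G a b) : Far G a p := by
  rw [mem_cls] at hp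
  rcases hp with rfl | hp
  · exact hab
  · exact hp.2.1

/-- two different members of a class have no common neighbour with `a`. -/
theorem CLSPART_aux_m3 {a b : V}
    (htrans : ∀ c d : V, Mate G a b c → Mate G a b d → c ≠ d → Mate G a c d)
    {p p' : V} (hp : p ∈ cls G a b) (hp' : p' ∈ cls G a b) (hne : p ≠ p') : m3 G a p p' = 0 := by
  have key : ∀ {u v : V}, Mate G a u v → m3 G a u v = 0 := by
    intro u v huv
    have h0 := huv.2.2.2
    unfold kap at h0
    omega
  rw [mem_cls] at hp hp'
  rcases hp with rfl | hp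
  · rcases hp' with rfl | hp'
    · exact absurd rfl hne
    · exact key hp'
  · rcases hp' with rfl | hp'
    · rw [m3_comm23]; exact key hp
    · exact key (htrans p p' hp hp' hne)

/-- CLSPART with CLS4 and MTRANS as hypotheses. -/
theorem CLSPART_core (h : G.IsSRGWith 77 16 0 4) {a b : V} (hab : Far G a b)
    (h4 : (cls G a b).card = 4)
    (htrans : ∀ c d : V, Mate G a b c → Mate G a b d → c ≠ d → Mate G a c d)
    {x : V} (hx : G.Adj a x) : ∃! p, p ∈ cls G a b ∧ G.Adj x p := by
  classical
  have hdisj : ((cls G a b : Finset V) : Set V).PairwiseDisjoint (fun p => cn G a p) := by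
    intro p hp p' hp' hne
    have h0 := CLSPART_aux_m3 htrans (Finset.mem_coe.1 hp) (Finset.mem_coe.1 hp') hne
    show Disjoint (cn G a p) (cn G a p')
    rw [Finset.disjoint_left]
    intro y hy hy'
    rw [mem_cn] at hy hy'
    have : y ∈ G.neighborFinset a ∩ G.neighborFinset p ∩ G.neighborFinset p' := by
      simp only [Finset.mem_inter, SimpleGraph.mem_neighborFinset]
      exact ⟨⟨hy.1, hy.2⟩, hy'.2⟩
    unfold m3 at h0
    rw [Finset.card_eq_zero] at h0
    rw [h0] at this
    exact absurd this (Finset.notMem_empty y)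
  have hcardU : ((cls G a b).biUnion (fun p => cn G a p)).card = 16 := by
    rw [Finset.card_biUnion hdisj]
    have : ∀ p ∈ cls G a b, (cn G a p).card = 4 := by
      intro p hp
      have hf := CLSPART_aux_far hab hp
      exact card_cn h (Ne.symm hf.1) hf.2
    rw [Finset.sum_congr rfl this, Finset.sum_const, h4]
    rfl
  have hsub : (cls G a b).biUnion (fun p => cn G a p) ⊆ G.neighborFinset a := by
    intro y hy
    rw [Finset.mem_biUnion] at hy
    obtain ⟨p, _, hy⟩ := hy
    rw [mem_cn] at hy
    rw [SimpleGraph.mem_neighborFinset]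
    exact hy.1
  have hEq : (cls G a b).biUnion (fun p => cn G a p) = G.neighborFinset a := by
    apply Finset.eq_of_subset_of_card_le hsub
    rw [hcardU, card_nb h a]
  have hxU : x ∈ (cls G a b).biUnion (fun p => cn G a p) := by
    rw [hEq, SimpleGraph.mem_neighborFinset]; exact hx
  rw [Finset.mem_biUnion] at hxU
  obtain ⟨p, hp, hxp⟩ := hxU
  rw [mem_cn] at hxp
  refine ⟨p, ⟨hp, hxp.2.symm⟩, ?_⟩
  rintro q ⟨hq, hxq⟩
  by_contra hne
  have h0 := CLSPART_aux_m3 htrans hq hp hne
  unfold m3 at h0
  rw [Finset.card_eq_zero] at h0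
  have : x ∈ G.neighborFinset a ∩ G.neighborFinset q ∩ G.neighborFinset p := by
    simp only [Finset.mem_inter, SimpleGraph.mem_neighborFinset]
    exact ⟨⟨hx, hxq.symm⟩, hxp.2⟩
  rw [h0] at this
  exact absurd this (Finset.notMem_empty x)

end Cfsg.Agent.S0429P
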