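import Mathlib
import Cfsg.Agent.Helper21.S0429CLSPARTcore
import Cfsg.Agent.Helper10.S0429CLS
import Cfsg.Agent.Helper27.S0429CLS4h

/-! s0429pieces CLSPART (helper21): the sets `cn a p`, `p ∈ cls a b`, partition `N(a)`. -/

set_option autoImplicit false

namespace Cfsg.Agent.S0429P

open Finset

variable {V : Type*} [Fintype V] [DecidableEq V] {G : SimpleGraph V} [DecidableRel G.Adj]

/-- CLSPART (M): the sets `cn a p`, `p ∈ cls a b`, partition the neighbourhood of `a`. -/
theorem CLSPART (h : G.IsSRGWith 77 16 0 4) {a b : V} (hab : Far G a b) {x : V} (hx : G.Adj a x) :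
    ∃! p, p ∈ cls G a b ∧ G.Adj x p :=
  CLSPART_core h hab (CLS4 h hab) (fun _ _ hc hd hcd => MTRANS h hc hd hcd) hx

end Cfsg.Agent.S0429P
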