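import Mathlib
import Cfsg.Agent.Helper1.S0997TDefs
import Cfsg.Agent.Helper4.S0997TADJ
import Cfsg.Agent.Helper13.S4504TRND

set_option autoImplicit false
set_option linter.unusedVariables false

/-! S0997 (Brauer–Tuan), piece T-SKP: skew-adjoint endomorphisms and the skew part. -/

namespace Cfsg.Agent.S0997P

open Cfsg.Agent.Helper5.GC Module Cfsg.Agent.S4504P

namespace SKP

variable {k : Type*} [Field k] {M : Type*} [AddCommGroup M] [Module k M]

/-- the adjoint of a skew endomorphism is its negative -/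
theorem adj_of_mem [FiniteDimensional k M] (β : LinearMap.BilinForm k M) (hβn : β.Nondegenerate)
    (φ : Module.End k M) (hφ : φ ∈ skewSub β) :
    β.leftAdjointOfNondegenerate hβn φ = -φ := by
  apply adj_unique
  intro v w
  have := hφ v w
  rw [LinearMap.neg_apply, map_neg, LinearMap.neg_apply]
  linear_combination -this

theorem rep_cancel {G : Type*} [Group G] (σ : Representation k G M) (g : G) (w : M) :
    σ g (σ g⁻¹ w) = w := by
  have : (σ g * σ g⁻¹) w = w := by
    rw [← map_mul, mul_inv_cancel, map_one]; rfl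
  exact this

theorem form_shift {G : Type*} [Group G] (σ : Representation k G M) (β : LinearMap.BilinForm k M)
    (hβinv : ∀ g v w, β (σ g v) (σ g w) = β v w) (g : G) (a w : M) :
    β (σ g a) w = β a (σ g⁻¹ w) := by
  conv_lhs => rw [← rep_cancel σ g w]
  exact hβinv g a (σ g⁻¹ w)

theorem skewPart_neg [FiniteDimensional k M] (β : LinearMap.BilinForm k M)
    (hβn : β.Nondegenerate) (φ : Module.End k M) :
    skewPart β hβn (-φ) = -skewPart β hβn φ := by
  have h := adj_smul β hβn (-1 : k) φ
  rw [neg_one_smul, neg_one_smul] at h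
  unfold skewPart
  rw [h, show -φ - -(β.leftAdjointOfNondegenerate hβn φ) =
    -(φ - β.leftAdjointOfNondegenerate hβn φ) by abel, smul_neg]

end SKP

theorem skewSub_Ad {k : Type*} [Field k] {G : Type*} [Group G] {M : Type*} [AddCommGroup M]
    [Module k M] (σ : Representation k G M) (β : LinearMap.BilinForm k M)
    (hβinv : ∀ g v w, β (σ g v) (σ g w) = β v w) (g : G) (φ : Module.End k M)
    (hφ : φ ∈ skewSub β) : Ad σ g φ ∈ skewSub β := by
  intro v w
  rw [Ad_apply]
  simp only [Module.End.mul_apply]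
  rw [SKP.form_shift σ β hβinv g (φ (σ g⁻¹ v)) w]
  have h2 : β v (σ g (φ (σ g⁻¹ w))) = β (σ g⁻¹ v) (φ (σ g⁻¹ w)) := by
    conv_lhs => rw [← SKP.rep_cancel σ g v]
    exact hβinv g _ _
  rw [h2]
  exact hφ (σ g⁻¹ v) (σ g⁻¹ w)

theorem skewPart_mem {k : Type*} [Field k] {M : Type*} [AddCommGroup M] [Module k M]
    [FiniteDimensional k M] (β : LinearMap.BilinForm k M) (hβn : β.Nondegenerate)
    (hβs : ∀ v w, β v w = β w v) (h2 : (2 : k) ≠ 0) (φ : Module.End k M) :
    skewPart β hβn φ ∈ skewSub β := by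
  unfold skewPart
  apply Submodule.smul_mem
  intro v w
  simp only [LinearMap.sub_apply, map_sub]
  have e1 := adj_apply β hβn φ v w
  have e2 := adj_apply β hβn φ w v
  have e3 := hβs v (β.leftAdjointOfNondegenerate hβn φ w)
  have e4 := hβs w (φ v)
  rw [e1, e3, e2, e4]
  ring

theorem skewPart_of_mem {k : Type*} [Field k] {M : Type*} [AddCommGroup M] [Module k M]
    [FiniteDimensional k M] (β : LinearMap.BilinForm k M) (hβn : β.Nondegenerate)
    (h2 : (2 : k) ≠ 0) (φ : Module.End k M) (hφ : φ ∈ skewSub β) :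
    skewPart β hβn φ = φ := by
  unfold skewPart
  rw [SKP.adj_of_mem β hβn φ hφ, sub_neg_eq_add, ← two_smul k φ, smul_smul, inv_mul_cancel₀ h2,
    one_smul]

theorem skewPart_add {k : Type*} [Field k] {M : Type*} [AddCommGroup M] [Module k M]
    [FiniteDimensional k M] (β : LinearMap.BilinForm k M) (hβn : β.Nondegenerate)
    (φ ψ : Module.End k M) :
    skewPart β hβn (φ + ψ) = skewPart β hβn φ + skewPart β hβn ψ := by
  unfold skewPart
  rw [adj_add, ← smul_add]
  congr 1
  abel

theorem skewPart_smul {k : Type*} [Field k] {M : Type*} [AddCommGroup M] [Module k M]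
    [FiniteDimensional k M] (β : LinearMap.BilinForm k M) (hβn : β.Nondegenerate)
    (c : k) (φ : Module.End k M) :
    skewPart β hβn (c • φ) = c • skewPart β hβn φ := by
  unfold skewPart
  rw [adj_smul, ← smul_sub, smul_comm]

theorem skewPart_Ad {k : Type*} [Field k] {G : Type*} [Group G] {M : Type*} [AddCommGroup M]
    [Module k M] [FiniteDimensional k M] (σ : Representation k G M)
    (β : LinearMap.BilinForm k M) (hβn : β.Nondegenerate)
    (hβinv : ∀ g v w, β (σ g v) (σ g w) = β v w) (g : G) (φ : Module.End k M) :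
    skewPart β hβn (Ad σ g φ) = Ad σ g (skewPart β hβn φ) := by
  have hadj : β.leftAdjointOfNondegenerate hβn (Ad σ g φ) =
      Ad σ g (β.leftAdjointOfNondegenerate hβn φ) := by
    rw [Ad_apply, Ad_apply, adj_mul, adj_mul, adj_rep β hβn σ hβinv g,
      adj_rep β hβn σ hβinv g⁻¹, inv_inv, mul_assoc]
  unfold skewPart
  rw [hadj, map_smul, map_sub]

theorem skewPart_uop_pow {k : Type*} [Field k] {G : Type*} [Group G] {M : Type*}
    [AddCommGroup M] [Module k M] [FiniteDimensional k M] (σ : Representation k G M)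
    (β : LinearMap.BilinForm k M) (hβn : β.Nondegenerate)
    (hβinv : ∀ g v w, β (σ g v) (σ g w) = β v w) (x : G) (j : ℕ) (φ : Module.End k M) :
    skewPart β hβn ((uop (Ad σ) x ^ j) φ) = (uop (Ad σ) x ^ j) (skewPart β hβn φ) := by
  induction j with
  | zero => simp
  | succ j ih =>
    rw [pow_succ', Module.End.mul_apply, Module.End.mul_apply, uop_apply, uop_apply,
      sub_eq_add_neg, skewPart_add, SKP.skewPart_neg, skewPart_Ad σ β hβn hβinv, ih,
      ← sub_eq_add_neg]

theorem trF_skewPart_left {k : Type*} [Field k] {M : Type*} [AddCommGroup M] [Module k M]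
    [FiniteDimensional k M] (β : LinearMap.BilinForm k M) (hβn : β.Nondegenerate)
    (hβs : ∀ v w, β v w = β w v) (h2 : (2 : k) ≠ 0) (φ ψ : Module.End k M)
    (hψ : ψ ∈ skewSub β) : trF k M (skewPart β hβn φ) ψ = trF k M φ ψ := by
  have h1 : LinearMap.trace k M (β.leftAdjointOfNondegenerate hβn φ * ψ) =
      -LinearMap.trace k M (φ * ψ) := by
    rw [← trace_adj β hβn (β.leftAdjointOfNondegenerate hβn φ * ψ), adj_mul,
      adj_adj β hβn hβs, SKP.adj_of_mem β hβn ψ hψ, neg_mul, map_neg, LinearMap.trace_mul_comm]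
  unfold skewPart
  rw [trF_apply, trF_apply, smul_mul_assoc, map_smul, sub_mul, map_sub, h1, sub_neg_eq_add,
    smul_eq_mul, ← two_mul, ← mul_assoc, inv_mul_cancel₀ h2, one_mul]

theorem trF_skew_nondegenerate {k : Type*} [Field k] {M : Type*} [AddCommGroup M] [Module k M]
    [FiniteDimensional k M] (β : LinearMap.BilinForm k M) (hβn : β.Nondegenerate)
    (hβs : ∀ v w, β v w = β w v) (h2 : (2 : k) ≠ 0) (φ : Module.End k M)
    (hφ : φ ∈ skewSub β) (h : ∀ ψ ∈ skewSub β, trF k M φ ψ = 0) : φ = 0 := by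
  apply trF_nondegenerate
  intro ψ
  have h1 : LinearMap.trace k M (φ * β.leftAdjointOfNondegenerate hβn ψ) =
      -LinearMap.trace k M (φ * ψ) := by
    rw [← trace_adj β hβn (φ * β.leftAdjointOfNondegenerate hβn ψ), adj_mul,
      adj_adj β hβn hβs, SKP.adj_of_mem β hβn φ hφ, mul_neg, map_neg, LinearMap.trace_mul_comm]
  have h3 : trF k M φ (skewPart β hβn ψ) = trF k M φ ψ := by
    unfold skewPart
    rw [trF_apply, trF_apply, mul_smul_comm, map_smul, mul_sub, map_sub, h1, sub_neg_eq_add,
      smul_eq_mul, ← two_mul, ← mul_assoc, inv_mul_cancel₀ h2, one_mul]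
  rw [← h3]
  exact h _ (skewPart_mem β hβn hβs h2 ψ)

end Cfsg.Agent.S0997P
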