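import Mathlib

/-!
# S2286: a bounded presentation of `SL(2,q)` — shared definitions

Generators `u, h, t` (images `x 1`, `hh ω`, `t0`).  `cj h u i = h^i u h^-i`.
-/

namespace Cfsg.Agent.Helper21.S2286

open Polynomial

section grp
variable {G : Type*} [Group G]

/-- `cj h u i = h^i * u * h^(-i)` for `i : ℤ`. -/
def cj (h u : G) (i : ℤ) : G := h ^ i * u * (h ^ i)⁻¹

/-- the ordered product `∏_{i<n} (cj h u i)^(c i)`. -/
def prodA (h u : G) (c : ℕ → ℕ) (n : ℕ) : G :=
  ((List.range n).map fun i : ℕ => (cj h u (i : ℤ)) ^ (c i)).prod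

theorem map_cj {H : Type*} [Group H] (f : G →* H) (h u : G) (i : ℤ) :
    f (cj h u i) = cj (f h) (f u) i := by
  simp [cj, map_zpow]

theorem map_prodA {H : Type*} [Group H] (f : G →* H) (h u : G) (c : ℕ → ℕ) (n : ℕ) :
    f (prodA h u c n) = prodA (f h) (f u) c n := by
  simp only [prodA, map_list_prod, List.map_map]
  congr 1
  apply List.map_congr_left
  intro i _
  simp [map_cj]

@[simp] theorem cj_zero (h u : G) : cj h u 0 = u := by simp [cj]

theorem cj_one (h u : G) : cj h u 1 = h * u * h⁻¹ := by simp [cj]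

theorem cj_add (h u : G) (i j : ℤ) : cj h (cj h u i) j = cj h u (j + i) := by
  simp only [cj, zpow_add, mul_inv_rev]; group

theorem conj_cj (h u : G) (i : ℤ) : h * cj h u i * h⁻¹ = cj h u (i + 1) := by
  simp only [cj, zpow_add, zpow_one, mul_inv_rev]; group

end grp

section field
variable {F : Type*} [Field F]

/-- evaluation `∑_{i<n} (c i) * lam^i`. -/
def ev (lam : F) (c : ℕ → ℕ) (n : ℕ) : F := ∑ i ∈ Finset.range n, (c i : F) * lam ^ i

/-- the minimal polynomial of `lam` over the prime field. -/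
noncomputable def mpoly (p : ℕ) [Fact p.Prime] [CharP F p] (lam : F) : (ZMod p)[X] :=
  letI := ZMod.algebra F p
  minpoly (ZMod p) lam

/-- its degree. -/
noncomputable def mdeg (p : ℕ) [Fact p.Prime] [CharP F p] (lam : F) : ℕ := (mpoly p lam).natDegree

/-- its coefficients, as naturals `< p`. -/
noncomputable def mcoef (p : ℕ) [Fact p.Prime] [CharP F p] (lam : F) (i : ℕ) : ℕ :=
  ((mpoly p lam).coeff i).val

/-- `x a = [[1,a],[0,1]]`. -/
def x (a : F) : Matrix.SpecialLinearGroup (Fin 2) F :=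
  ⟨!![1, a; 0, 1], by simp [Matrix.det_fin_two]⟩

/-- `hh s = diag(s, s⁻¹)`. -/
def hh (s : Fˣ) : Matrix.SpecialLinearGroup (Fin 2) F :=
  ⟨!![(s : F), 0; 0, ((s⁻¹ : Fˣ) : F)], by simp [Matrix.det_fin_two]⟩

/-- `t0 = [[0,1],[-1,0]]`. -/
def t0 : Matrix.SpecialLinearGroup (Fin 2) F :=
  ⟨!![0, 1; -1, 0], by simp [Matrix.det_fin_two]⟩

end field

/-- the three generators of the free group. -/
abbrev gU : FreeGroup (Fin 3) := FreeGroup.of 0
abbrev gH : FreeGroup (Fin 3) := FreeGroup.of 1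
abbrev gT : FreeGroup (Fin 3) := FreeGroup.of 2

end Cfsg.Agent.Helper21.S2286
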