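import Mathlib
import Cfsg.Prelude.Def_Classical
import Cfsg.Agent.Helper21.S2286DEFS

/-!
# S2289: a bounded presentation of `SU(3,q)` — shared definitions

`F` a field with `q²` elements, `x̄ = x^q`, `N x = x^(q+1)`.  Model (Hermitian form `antidiag(1,1,1)`):
`u(a,b) = [[1,a,b],[0,1,-ā],[0,0,1]]` for *valid* pairs (`b + b̄ + N a = 0`), with
`u(a,b) u(a',b') = u(a+a', b+b'-a ā')`; `h(t) = diag(t, t̄/t, 1/t̄)`; `n = antidiag(1,-1,1)`;
`h(t) u(a,b) h(t)⁻¹ = u(a t²/t̄, b N t)`, `n h(t) n⁻¹ = h(1/t̄)`, `n² = 1` and for `b ≠ 0`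
`n u(a,b) n⁻¹ = u(-a/b̄, 1/b) h(1/b̄) n u(-a/b, 1/b)`.
`U3Data F q G` packages a group `G` with such elements and the uniqueness of these normal forms.
Generators of the presentation: `gU ↦ u(a₀,b₀)`, `gH ↦ h(ζ)`, `gT ↦ n`.
-/

namespace Cfsg.Agent.Helper21.S2289

open Cfsg.Agent.Helper21.S2286

/-- valid pairs: `b + b^q + a^(q+1) = 0` -/
def Val {F : Type*} [Field F] (q : ℕ) (a b : F) : Prop := b + b ^ q + a ^ (q + 1) = 0

/-- the abstract data of the rank-one group `SU(3,q)` on a group `G` -/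
structure U3Data (F : Type*) [Field F] (q : ℕ) (G : Type*) [Group G] where
  uG : F → F → G
  hG : F → G
  nG : G
  u_zero : uG 0 0 = 1
  u_mul : ∀ a b a' b' : F, Val q a b → Val q a' b' →
    uG a b * uG a' b' = uG (a + a') (b + b' - a * a' ^ q)
  h_one : hG 1 = 1
  h_mul : ∀ s t : F, s ≠ 0 → t ≠ 0 → hG (s * t) = hG s * hG t
  h_u : ∀ t a b : F, t ≠ 0 → Val q a b →
    hG t * uG a b * (hG t)⁻¹ = uG (a * t ^ 2 / t ^ q) (b * t ^ (q + 1))
  n_sq : nG * nG = 1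
  n_h : ∀ t : F, t ≠ 0 → nG * hG t * nG⁻¹ = hG (1 / t ^ q)
  n_u : ∀ a b : F, Val q a b → b ≠ 0 →
    nG * uG a b * nG⁻¹ = uG (-a / b ^ q) (1 / b) * hG (1 / b ^ q) * nG * uG (-a / b) (1 / b)
  inj_B : ∀ a b t a' b' t' : F, Val q a b → Val q a' b' → t ≠ 0 → t' ≠ 0 →
    uG a b * hG t = uG a' b' * hG t' → a = a' ∧ b = b' ∧ t = t'
  inj_N : ∀ a b t c d a' b' t' c' d' : F, Val q a b → Val q a' b' → Val q c d → Val q c' d' →
    t ≠ 0 → t' ≠ 0 → uG a b * hG t * nG * uG c d = uG a' b' * hG t' * nG * uG c' d' →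
    a = a' ∧ b = b' ∧ t = t' ∧ c = c' ∧ d = d'
  disj : ∀ a b t a' b' t' c' d' : F, Val q a b → Val q a' b' → Val q c' d' → t ≠ 0 → t' ≠ 0 →
    uG a b * hG t ≠ uG a' b' * hG t' * nG * uG c' d'
  card_le : Nat.card G ≤ q ^ 3 * (q ^ 2 - 1) * (q ^ 3 + 1)

/-- the commutator word `z = [u, h u h⁻¹]` -/
def zW {G : Type*} [Group G] (h u : G) : G := u * cj h u 1 * u⁻¹ * (cj h u 1)⁻¹

theorem map_zW {G H : Type*} [Group G] [Group H] (f : G →* H) (h u : G) :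
    f (zW h u) = zW (f h) (f u) := by
  simp only [zW, map_mul, map_inv, map_cj]

end Cfsg.Agent.Helper21.S2289
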