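import Mathlib

/-!
# S2289: the predicate `Good` shared by the pieces BN1 and BN2
-/

namespace Cfsg.Agent.Helper21.S2289

/-- an element of `Us` whose `n`-conjugate has a Bruhat form -/
def Good {Γ : Type*} [Group Γ] (h n : Γ) (Us : Subgroup Γ) (x : Γ) : Prop :=
  x = 1 ∨ ∃ f ∈ Us, ∃ m : ℤ, ∃ g ∈ Us, n * x * n⁻¹ = f * h ^ m * n * g

end Cfsg.Agent.Helper21.S2289
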