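import Mathlib
import Cfsg.Prelude.Def_Classical
import Cfsg.Agent.Helper21.S2289DEFS

/-!
# S2289: the matrix model — definitions

Matrices of the model with respect to the Hermitian form `J = antidiag(1,1,1)`.
-/

namespace Cfsg.Agent.Helper21.S2289

variable {F : Type*} [Field F]

/-- `u(a,b) = [[1,a,b],[0,1,-a^q],[0,0,1]]` -/
def um (q : ℕ) (a b : F) : Matrix (Fin 3) (Fin 3) F := !![1, a, b; 0, 1, -(a ^ q); 0, 0, 1]

/-- `h(t) = diag(t, t^q/t, 1/t^q)` -/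
def hm (q : ℕ) (t : F) : Matrix (Fin 3) (Fin 3) F := !![t, 0, 0; 0, t ^ q / t, 0; 0, 0, 1 / t ^ q]

/-- `n = antidiag(1,-1,1)` -/
def nm : Matrix (Fin 3) (Fin 3) F := !![0, 0, 1; 0, -1, 0; 1, 0, 0]

/-- the Gram matrix `J = antidiag(1,1,1)` -/
def Jm : Matrix (Fin 3) (Fin 3) F := !![0, 0, 1; 0, 1, 0; 1, 0, 0]

/-- `A` preserves the form `J`: `Aᵀ J A^(q) = J` -/
def IsJU (q : ℕ) (A : Matrix (Fin 3) (Fin 3) F) : Prop :=
  A.transpose * Jm * A.map (· ^ q) = Jm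

end Cfsg.Agent.Helper21.S2289
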