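import Cfsg.Agent.Helper21.NS2
import Cfsg.Agent.Helper28.GU
import Cfsg.Agent.Helper28.Herm

/-!
# Conjugacy in the unitary group versus the general linear group (helper21)
-/

set_option autoImplicit false
set_option linter.unusedSectionVars false

namespace Cfsg.Agent.Helper21.NS

open Matrix Polynomial

variable {K : Type*} [Field K] [Fintype K] {q n : ℕ}

/-- the `q`-power map is not the identity on a field with `q ^ 2` elements -/
theorem exists_pow_ne (hK : Fintype.card K = q ^ 2) : ∃ ξ0 : K, ξ0 ^ q ≠ ξ0 := by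
  classical
  by_contra hcon
  push Not at hcon
  have hq : 1 < q := by
    have h1 : 1 < Fintype.card K := Fintype.one_lt_card
    rw [hK] at h1
    by_contra h
    have : q ≤ 1 := not_lt.1 h
    interval_cases q <;> simp at h1
  have hp0 : (X ^ q - X : K[X]) ≠ 0 := FiniteField.X_pow_card_sub_X_ne_zero K hq
  have hdeg : (X ^ q - X : K[X]).natDegree = q := FiniteField.X_pow_card_sub_X_natDegree_eq K hq
  have hsub : (Finset.univ : Finset K) ⊆ (X ^ q - X : K[X]).roots.toFinset := by
    intro x _
    rw [Multiset.mem_toFinset, Polynomial.mem_roots hp0, Polynomial.IsRoot, Polynomial.eval_sub,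
      Polynomial.eval_pow, Polynomial.eval_X, hcon x, sub_self]
  have h1 := Finset.card_le_card hsub
  have h2 := Multiset.toFinset_card_le (X ^ q - X : K[X]).roots
  have h3 := Polynomial.card_roots' (X ^ q - X : K[X])
  rw [Finset.card_univ, hK] at h1
  rw [hdeg] at h3
  have : q ^ 2 ≤ q := le_trans h1 (le_trans h2 h3)
  nlinarith

/-- two unitary matrices conjugate in `GL` are conjugate by a unitary matrix -/
theorem exists_unitary_conj (hK : Fintype.card K = q ^ 2) (σ : K →+* K) (hσ : ∀ x, σ x = x ^ q)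
    (hσ2 : ∀ x, σ (σ x) = x) (A B g ginv : Matrix (Fin n) (Fin n) K)
    (hA : Aᵀ * A.map σ = 1) (hB : Bᵀ * B.map σ = 1) (hg1 : g * ginv = 1) (hg2 : ginv * g = 1)
    (hconj : g * A = B * g) :
    ∃ x : Matrix (Fin n) (Fin n) K, xᵀ * x.map σ = 1 ∧ x * A = B * x := by
  obtain ⟨ξ0, hξ0⟩ := exists_pow_ne hK
  have hξ0' : σ ξ0 ≠ ξ0 := by rw [hσ]; exact hξ0
  -- unitarity in terms of `cstar`
  have huni : ∀ M : Matrix (Fin n) (Fin n) K, Mᵀ * M.map σ = 1 ↔ cstar σ M * M = 1 := by
    intro M
    constructor
    · intro h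
      have := congrArg Matrix.transpose h
      rw [Matrix.transpose_mul, Matrix.transpose_transpose, Matrix.transpose_one] at this
      exact this
    · intro h
      have := congrArg Matrix.transpose h
      rw [Matrix.transpose_mul, Matrix.transpose_one] at this
      rw [cstar, Matrix.transpose_transpose] at this
      exact this
  have hA' : cstar σ A * A = 1 := (huni A).1 hA
  have hB' : cstar σ B * B = 1 := (huni B).1 hB
  have hA'' : A * cstar σ A = 1 := mul_eq_one_comm.1 hA'
  obtain ⟨H, hH_def⟩ : ∃ H : Matrix (Fin n) (Fin n) K, H = cstar σ g * g := ⟨_, rfl⟩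
  have hHs : cstar σ H = H := by rw [hH_def, cstar_mul, cstar_cstar σ hσ2]
  have hinv1 : H * (ginv * cstar σ ginv) = 1 := by
    have h1 : g * ginv = 1 := hg1
    have h2 : cstar σ g * cstar σ ginv = 1 := by
      rw [← cstar_mul, hg2, cstar_one]
    calc H * (ginv * cstar σ ginv) = cstar σ g * (g * ginv) * cstar σ ginv := by
          rw [hH_def]; simp only [Matrix.mul_assoc]
      _ = 1 := by rw [h1, Matrix.mul_one, h2]
  have hinv2 : (ginv * cstar σ ginv) * H = 1 := mul_eq_one_comm.1 hinv1
  -- `A* H A = H`, hence `H` commutes with `A`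
  have hAHA : cstar σ A * H * A = H := by
    calc cstar σ A * H * A = cstar σ (g * A) * (g * A) := by
          rw [hH_def, cstar_mul]; simp only [Matrix.mul_assoc]
      _ = cstar σ (B * g) * (B * g) := by rw [hconj]
      _ = cstar σ g * (cstar σ B * B) * g := by rw [cstar_mul]; simp only [Matrix.mul_assoc]
      _ = H := by rw [hB', Matrix.mul_one, hH_def]
  have hcomm : A * H = H * A := by
    calc A * H = A * (cstar σ A * H * A) := by rw [hAHA]
      _ = (A * cstar σ A) * H * A := by simp only [Matrix.mul_assoc]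
      _ = H * A := by rw [hA'', Matrix.one_mul]
  obtain ⟨c, hc, hcA⟩ := exists_norm_commuting σ hσ2 ξ0 hξ0' H _ hinv1 hinv2 hHs
  -- `c` is invertible
  have hcinv : (ginv * cstar σ ginv * cstar σ c) * c = 1 := by
    rw [Matrix.mul_assoc, hc, hinv2]
  obtain ⟨cinv, hcinv_def⟩ : ∃ cinv : Matrix (Fin n) (Fin n) K,
      cinv = ginv * cstar σ ginv * cstar σ c := ⟨_, rfl⟩
  have hc1 : cinv * c = 1 := by rw [hcinv_def]; exact hcinv
  have hc2 : c * cinv = 1 := mul_eq_one_comm.1 hc1
  have hcAc : A * c = c * A := hcA A hcomm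
  have hcinvA : cinv * A = A * cinv := by
    calc cinv * A = cinv * A * (c * cinv) := by rw [hc2, Matrix.mul_one]
      _ = cinv * (A * c) * cinv := by simp only [Matrix.mul_assoc]
      _ = cinv * (c * A) * cinv := by rw [hcAc]
      _ = (cinv * c) * A * cinv := by simp only [Matrix.mul_assoc]
      _ = A * cinv := by rw [hc1, Matrix.one_mul]
  refine ⟨g * cinv, ?_, ?_⟩
  · rw [huni, cstar_mul]
    have h3 : cstar σ cinv * cstar σ c = 1 := by rw [← cstar_mul, hc2, cstar_one]
    calc cstar σ cinv * cstar σ g * (g * cinv) = cstar σ cinv * (cstar σ g * g) * cinv := by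
          simp only [Matrix.mul_assoc]
      _ = cstar σ cinv * (cstar σ c * c) * cinv := by rw [← hH_def, hc]
      _ = (cstar σ cinv * cstar σ c) * (c * cinv) := by simp only [Matrix.mul_assoc]
      _ = 1 := by rw [h3, hc2, Matrix.one_mul]
  · calc g * cinv * A = g * (cinv * A) := by rw [Matrix.mul_assoc]
      _ = g * (A * cinv) := by rw [hcinvA]
      _ = (g * A) * cinv := by rw [Matrix.mul_assoc]
      _ = B * (g * cinv) := by rw [hconj, Matrix.mul_assoc]

end Cfsg.Agent.Helper21.NS
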