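import Mathlib
import Cfsg.Prelude.Def_Classical
import Cfsg.Agent.Helper8.MatBNDefs
import Cfsg.Agent.Helper8.S2546Defs

set_option autoImplicit false
open scoped Matrix

/-!
# S2549 (Steinberg character of `PΩ⁻_{2m+2}(q)`), driver helper21: shared definitions

`F` finite field, binary form `z₁² + a z₁ z₂ + b z₂²` anisotropic, `K = F(θ)` with `θ² - aθ + b = 0`,
`σ` the conjugation.  Index type `Idx m = (Fin m ⊕ Fin m) ⊕ Fin 2` (coordinates `x_i, y_i, z₁, z₂`),
`n = 2m+2`.  Ordered `K`-basis of `K^(Idx m)`: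
`e_0, …, e_{m-1}, ω, ω̄, f_{m-1}, …, f_0` (positions `0 … m-1, m, m+1, m+2 … 2m+1`), where
`ω = d⁻¹(z₂ - θ̄ z₁)`, `ω̄ = d⁻¹(θ z₁ - z₂)`, `d = θ - θ̄` (so `z₁ = ω + ω̄`, `z₂ = θω + θ̄ω̄`).
In this basis the form is `QJ x = Σ_{i ≤ m} x_i x_{rev i}` and `rho g = P⁻¹ g P`.
-/

namespace Cfsg.Agent.S2549P

open Cfsg.Agent.MatBN

/-- the index type of `quadFormMinus m` -/
abbrev Idx (m : ℕ) : Type := (Fin m ⊕ Fin m) ⊕ Fin 2

/-- a quadratic extension `K = F(θ)`, `θ² - aθ + b = 0`, with its conjugation `σ` -/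
structure QExt (F : Type*) [Field F] (a b : F) (K : Type*) [Field K] where
  /-- the inclusion -/
  inc : F →+* K
  /-- a root of `X² - aX + b` -/
  θ : K
  /-- the conjugation -/
  σ : K →+* K
  hθ : θ * θ - inc a * θ + inc b = 0
  hσθ : σ θ = inc a - θ
  hσinc : ∀ x, σ (inc x) = inc x
  hσσ : ∀ x, σ (σ x) = x
  hfix : ∀ x, σ x = x → ∃ y, inc y = x
  hne : θ - σ θ ≠ 0

variable {F : Type*} [Field F] {a b : F} {K : Type*} [Field K]

/-- position of a coordinate in the ordered basis -/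
def pos (m : ℕ) : Idx m → Fin (2 * m + 2)
  | .inl (.inl i) => ⟨i, by omega⟩
  | .inl (.inr i) => ⟨2 * m + 1 - i, by omega⟩
  | .inr k => ⟨m + k, by omega⟩

/-- the coordinate at a position -/
def idx (m : ℕ) (c : Fin (2 * m + 2)) : Idx m :=
  if h : c.val < m then .inl (.inl ⟨c, h⟩)
  else if h' : c.val < m + 2 then .inr ⟨c.val - m, by omega⟩
  else .inl (.inr ⟨2 * m + 1 - c, by omega⟩)

theorem idx_pos (m : ℕ) (i : Idx m) : idx m (pos m i) = i := by
  rcases i with (i | i) | k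
  · have h := i.2
    show idx m ⟨i, _⟩ = _
    unfold idx
    rw [dif_pos h]
  · have := i.2
    have h1 : ¬ (2 * m + 1 - (i : ℕ) < m) := by omega
    have h2 : ¬ (2 * m + 1 - (i : ℕ) < m + 2) := by omega
    show idx m ⟨2 * m + 1 - i, _⟩ = _
    unfold idx
    rw [dif_neg h1, dif_neg h2]
    congr 2
    apply Fin.ext
    show 2 * m + 1 - (2 * m + 1 - (i : ℕ)) = i
    omega
  · have := k.2
    have h1 : ¬ (m + (k : ℕ) < m) := by omega
    have h2 : m + (k : ℕ) < m + 2 := by omega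
    show idx m ⟨m + k, _⟩ = _
    unfold idx
    rw [dif_neg h1, dif_pos h2]
    congr 1
    apply Fin.ext
    show m + (k : ℕ) - m = k
    omega

theorem pos_idx (m : ℕ) (c : Fin (2 * m + 2)) : pos m (idx m c) = c := by
  have := c.2
  unfold idx
  by_cases h : c.val < m
  · rw [dif_pos h]; rfl
  · rw [dif_neg h]
    by_cases h' : c.val < m + 2
    · rw [dif_pos h']
      apply Fin.ext
      show m + (c.val - m) = c.val
      omega
    · rw [dif_neg h']
      apply Fin.ext
      show 2 * m + 1 - (2 * m + 1 - c.val) = c.val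
      omega

/-- the reindexing equivalence -/
def posE (m : ℕ) : Idx m ≃ Fin (2 * m + 2) where
  toFun := pos m
  invFun := idx m
  left_inv := idx_pos m
  right_inv := pos_idx m

/-- the `2 × 2` base change: columns `ω, ω̄` in the coordinates `z₁, z₂` -/
def P2 (E : QExt F a b K) : Matrix (Fin 2) (Fin 2) K :=
  (E.θ - E.σ E.θ)⁻¹ • !![-(E.σ E.θ), E.θ; 1, -1]

/-- its inverse: rows = coordinates of `z₁ = ω + ω̄`, `z₂ = θω + θ̄ω̄` -/
def P2inv (E : QExt F a b K) : Matrix (Fin 2) (Fin 2) K := !![1, E.θ; 1, E.σ E.θ]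

theorem P2inv_mul_P2 (E : QExt F a b K) : P2inv E * P2 E = 1 := by
  have hd := E.hne
  unfold P2inv P2
  rw [Matrix.mul_smul]
  ext i j
  fin_cases i <;> fin_cases j
  · simp; field_simp; ring
  · simp
  · simp
  · simp; field_simp; ring

theorem P2_mul_P2inv (E : QExt F a b K) : P2 E * P2inv E = 1 := by
  have hd := E.hne
  unfold P2inv P2
  rw [Matrix.smul_mul]
  ext i j
  fin_cases i <;> fin_cases j
  · simp; field_simp; ring
  · simp; right; ring
  · simp
  · simp; field_simp; ring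

/-- the base change matrix (columns = the ordered basis, before reindexing) -/
def PM (E : QExt F a b K) (m : ℕ) : Matrix (Idx m) (Idx m) K := Matrix.fromBlocks 1 0 0 (P2 E)

/-- its inverse -/
def PMinv (E : QExt F a b K) (m : ℕ) : Matrix (Idx m) (Idx m) K :=
  Matrix.fromBlocks 1 0 0 (P2inv E)

theorem PMinv_mul_PM (E : QExt F a b K) (m : ℕ) : PMinv E m * PM E m = 1 := by
  unfold PMinv PM
  rw [Matrix.fromBlocks_multiply]
  simp [P2inv_mul_P2]

theorem PM_mul_PMinv (E : QExt F a b K) (m : ℕ) : PM E m * PMinv E m = 1 := by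
  unfold PMinv PM
  rw [Matrix.fromBlocks_multiply]
  simp [P2_mul_P2inv]

/-- the matrix of `g` in the ordered `K`-basis -/
def rhoM (E : QExt F a b K) (m : ℕ) (g : Matrix (Idx m) (Idx m) F) :
    Matrix (Fin (2 * m + 2)) (Fin (2 * m + 2)) K :=
  Matrix.reindex (posE m) (posE m) (PMinv E m * g.map E.inc * PM E m)

theorem rhoM_one (E : QExt F a b K) (m : ℕ) : rhoM E m 1 = 1 := by
  unfold rhoM
  rw [Matrix.map_one _ (map_zero _) (map_one _), Matrix.mul_one, PMinv_mul_PM]
  simp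

theorem rhoM_mul (E : QExt F a b K) (m : ℕ) (g h : Matrix (Idx m) (Idx m) F) :
    rhoM E m (g * h) = rhoM E m g * rhoM E m h := by
  unfold rhoM
  rw [Matrix.reindex_apply, Matrix.reindex_apply, Matrix.reindex_apply, Matrix.submatrix_mul_equiv,
    Matrix.map_mul]
  congr 1
  calc PMinv E m * (g.map E.inc * h.map E.inc) * PM E m
      = PMinv E m * g.map E.inc * 1 * (h.map E.inc * PM E m) := by
        rw [Matrix.mul_one]; simp only [Matrix.mul_assoc]
    _ = PMinv E m * g.map E.inc * PM E m * (PMinv E m * h.map E.inc * PM E m) := by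
        rw [← PM_mul_PMinv E m]; simp only [Matrix.mul_assoc]

/-- the isometry group `O⁻_{2m+2}(F)` -/
abbrev OG (m : ℕ) (F : Type*) [Field F] (a b : F) : Subgroup (Matrix.GeneralLinearGroup (Idx m) F) :=
  Cfsg.isometryGroup F (Cfsg.quadFormMinus m F a b)

/-- the matrix representation of `O⁻_{2m+2}(F)` over `K` in the ordered basis -/
def rho (E : QExt F a b K) (m : ℕ) : OG m F a b →* Matrix (Fin (2 * m + 2)) (Fin (2 * m + 2)) K where
  toFun g := rhoM E m ((g : Matrix.GeneralLinearGroup (Idx m) F) : Matrix (Idx m) (Idx m) F)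
  map_one' := rhoM_one E m
  map_mul' g h := rhoM_mul E m _ _

/-- the split quadratic form on `K^n` -/
def QJ (n : ℕ) (x : Fin n → K) : K := ∑ i : Fin n, if i.val < n / 2 then x i * x i.rev else 0

/-- its polar form (antidiagonal Gram matrix) -/
def BJ (n : ℕ) (x y : Fin n → K) : K := ∑ i : Fin n, x i * y i.rev

/-- `M` preserves the split quadratic form -/
def PresQ (n : ℕ) (M : Matrix (Fin n) (Fin n) K) : Prop := ∀ x : Fin n → K, QJ n (M *ᵥ x) = QJ n x

/-- the transposition of the two middle positions -/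
def swapM (m : ℕ) : Equiv.Perm (Fin (2 * m + 2)) :=
  Equiv.swap ⟨m, by omega⟩ ⟨m + 1, by omega⟩

/-- `M` is rational: `σ(M) = Π M Π` -/
def Rat (σ : K →+* K) (m : ℕ) (M : Matrix (Fin (2 * m + 2)) (Fin (2 * m + 2)) K) : Prop :=
  ∀ a c, σ (M a c) = M (swapM m a) (swapM m c)

/-- the matrix unit (from S2546) -/
abbrev EM (n i j : ℕ) : Matrix (Fin n) (Fin n) K := Cfsg.Agent.S2546P.E n i j

/-- root element of the linear node `j` (`j + 1 < m`): `1 + t E(j,j+1) - t E(n-2-j,n-1-j)` -/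
def xLin (m j : ℕ) (t : K) : Matrix (Fin (2 * m + 2)) (Fin (2 * m + 2)) K :=
  Cfsg.Agent.S2546P.xL (RingHom.id K) (2 * m + 2) j t

/-- root element of the last node (positions `m-1, m, m+1, m+2`), `t ∈ K` -/
def xLast (σ : K →+* K) (m : ℕ) (t : K) : Matrix (Fin (2 * m + 2)) (Fin (2 * m + 2)) K :=
  1 - σ t • EM (2 * m + 2) (m - 1) m - t • EM (2 * m + 2) (m - 1) (m + 1)
    + t • EM (2 * m + 2) m (m + 2) + σ t • EM (2 * m + 2) (m + 1) (m + 2)
    - (t * σ t) • EM (2 * m + 2) (m - 1) (m + 2)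

/-- the permutation of the last node: reverses the four middle positions -/
def tauLast (m : ℕ) : Equiv.Perm (Fin (2 * m + 2)) :=
  if h : 1 ≤ m then
    Equiv.swap ⟨m - 1, by omega⟩ ⟨m + 2, by omega⟩ * Equiv.swap ⟨m, by omega⟩ ⟨m + 1, by omega⟩
  else 1

/-- the permutation of the simple reflection `j` (`j < m`) -/
def tauM (m j : ℕ) : Equiv.Perm (Fin (2 * m + 2)) :=
  if j + 1 < m then Cfsg.Agent.S2546P.tau (2 * m + 2) j else tauLast m

/-- the matrix of the lift of the simple reflection `j`: the permutation matrix -/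
def sM (m j : ℕ) : Matrix (Fin (2 * m + 2)) (Fin (2 * m + 2)) K :=
  Cfsg.Agent.S2546P.pMat (2 * m + 2) (tauM m j)

/-- the simple root set of the node `j`, as a set of matrices -/
def XM (E : QExt F a b K) (m j : ℕ) : Set (Matrix (Fin (2 * m + 2)) (Fin (2 * m + 2)) K) :=
  if j + 1 < m then {M | ∃ t : F, M = xLin m j (E.inc t)} else {M | ∃ t : K, M = xLast E.σ m t}

/-- the group `G₁ ≤ O⁻_{2m+2}(F)` generated by the triangular elements and the monomial lifts -/
def G1 (E : QExt F a b K) (m : ℕ) : Subgroup (OG m F a b) :=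
  Subgroup.closure ({g | IsTri (rho E m g)} ∪ {g | ∃ j, j < m ∧ rho E m g = sM m j})

/-- the representation of `G₁` -/
def rho1 (E : QExt F a b K) (m : ℕ) : G1 E m →* Matrix (Fin (2 * m + 2)) (Fin (2 * m + 2)) K :=
  (rho E m).comp (G1 E m).subtype

/-- the simple root set of the node `j` in `G₁` -/
def X1 (E : QExt F a b K) (m j : ℕ) : Set (G1 E m) := {g | rho1 E m g ∈ XM E m j}

/-- the permutation of the longest element: `i ↔ rev i` outside the middle, and the middle
transposition iff `m` is odd -/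
def w0 (m : ℕ) : Equiv.Perm (Fin (2 * m + 2)) :=
  if m % 2 = 1 then Fin.revPerm else Fin.revPerm * swapM m

/-- the frame vectors `e_i` (coordinate `x_i`) -/
def eV (m : ℕ) (i : Fin m) : Idx m → F := Pi.single (.inl (.inl i)) 1

/-- the frame vectors `f_i` (coordinate `y_i`) -/
def fV (m : ℕ) (i : Fin m) : Idx m → F := Pi.single (.inl (.inr i)) 1

/-- unitriangularity on the `F`-side: `M e_i ∈ e_i + ⟨e_k : k < i⟩`, `M z ∈ z + ⟨e_k⟩` for `z = z₁, z₂`
(no condition on the columns `f_i`) -/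
def UT (m : ℕ) (M : Matrix (Idx m) (Idx m) F) : Prop :=
  (∀ i : Fin m, M (.inl (.inl i)) (.inl (.inl i)) = 1 ∧
    ∀ k, k ≠ .inl (.inl i) → M k (.inl (.inl i)) ≠ 0 → ∃ i' : Fin m, k = .inl (.inl i') ∧ i' < i) ∧
  (∀ z : Fin 2, M (.inr z) (.inr z) = 1 ∧
    ∀ k, k ≠ .inr z → M k (.inr z) ≠ 0 → ∃ i' : Fin m, k = .inl (.inl i'))

end Cfsg.Agent.S2549P
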