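import Mathlib
import Cfsg.Agent.Helper12.S2999Basic

/-! s2999pieces ACEQ, core (helper21): `A ∩ xMx⁻¹ = A ∩ core(M)` for `x ∈ P \ M`, with the statement of G2P as a hypothesis. -/

set_option autoImplicit false

namespace Cfsg.Agent.S2999P

open Cfsg.Agent.S2789P

variable {G : Type*} [Group G] [Finite G] {p : ℕ} [Fact p.Prime] {V P Mg Tg R A : Subgroup G}

/-- ACEQ with G2P as a hypothesis. -/
theorem ACEQ_core (S : Setup p V P Mg Tg R A)
    (hG2P : ∀ {g c : G}, g ∈ P → g ∉ Mg → c ∈ cjs g A → c ∈ Mg → ∀ h ∈ P, c ∈ cjs h Mg)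
    {x : G} (hx : x ∈ P) (hxM : x ∉ Mg) :
    A ⊓ cjs x Mg = A ⊓ coreIn P Mg := by
  apply le_antisymm
  · intro a ha
    rw [Subgroup.mem_inf] at ha
    obtain ⟨haA, haM⟩ := ha
    rw [cj_mem] at haM
    refine Subgroup.mem_inf.2 ⟨haA, ?_⟩
    unfold coreIn
    rw [Subgroup.mem_iInf]
    intro h'
    rw [cj_mem]
    -- `c := x⁻¹ a x`
    have hxi : x⁻¹ ∈ P := P.inv_mem hx
    have hxiM : x⁻¹ ∉ Mg := fun h => hxM (by simpa using Mg.inv_mem h)
    have hcA : x⁻¹ * a * x ∈ cjs x⁻¹ A := by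
      rw [cj_mem]
      have : (x⁻¹)⁻¹ * (x⁻¹ * a * x) * x⁻¹ = a := by group
      rw [this]; exact haA
    have hh : x⁻¹ * (h' : G) ∈ P := P.mul_mem hxi h'.2
    have := hG2P hxi hxiM hcA haM (x⁻¹ * (h' : G)) hh
    rw [cj_mem] at this
    have e : (x⁻¹ * (h' : G))⁻¹ * (x⁻¹ * a * x) * (x⁻¹ * (h' : G)) = (h' : G)⁻¹ * a * (h' : G) := by group
    rw [e] at this
    exact this
  · apply inf_le_inf_left
    unfold coreIn
    exact iInf_le _ (⟨x, hx⟩ : ↥P)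

end Cfsg.Agent.S2999P
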