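import Mathlib
import Cfsg.Agent.Helper27.S2834Defs

/-!
# S2834 (L-Lemma), piece QUOT: the coset action of `H` on `H ⧸ M`
(blueprint `departures/helper27_S2834_blueprint.md`, section 3)
-/

set_option autoImplicit false

namespace Cfsg.Agent.S2834P

open Cfsg Cfsg.Agent.S2834P

variable {H : Type*} [Group H] {p : ℕ} [Fact p.Prime]

theorem QUOT_stab (M : Subgroup H) (g x : H) :
    x • (g : H ⧸ M) = (g : H ⧸ M) ↔ x ∈ M.map (MulAut.conj g).toMonoidHom := by
  have h1 : x • (g : H ⧸ M) = ((x * g : H) : H ⧸ M) := rfl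
  rw [h1, QuotientGroup.eq, Subgroup.mem_map]
  constructor
  · intro h
    refine ⟨g⁻¹ * x * g, ?_, ?_⟩
    · have h2 := M.inv_mem h
      simpa [mul_assoc] using h2
    · simp [MulAut.conj_apply, mul_assoc]
  · rintro ⟨m, hm, rfl⟩
    have h2 : ((MulAut.conj g).toMonoidHom m * g)⁻¹ * g = m⁻¹ := by
      simp [MulAut.conj_apply, mul_assoc]
    rw [h2]
    exact M.inv_mem hm

theorem QUOT_aux_fix_one (M : Subgroup H) (x : H) :
    x • ((1 : H) : H ⧸ M) = ((1 : H) : H ⧸ M) ↔ x ∈ M := by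
  rw [QUOT_stab]
  simp

theorem QUOT_aux_le_of_ne_top [Finite H] (T : Sylow p H) (hmin : Cfsg.IsMinimalOver (T : Subgroup H))
    (M : Subgroup H) (hM : IsCoatom M ∧ (T : Subgroup H) ≤ M) (X : Subgroup H)
    (hTX : (T : Subgroup H) ≤ X) (hX : X ≠ ⊤) : X ≤ M := by
  obtain ⟨M', hM'co, hXM'⟩ := (eq_top_or_exists_le_coatom X).resolve_left hX
  have h1 : M' = M := hmin.2.unique ⟨hM'co, hTX.trans hXM'⟩ hM
  exact h1 ▸ hXM'

theorem QUOT_aux_normalizer_le [Finite H] (T : Sylow p H) (hmin : Cfsg.IsMinimalOver (T : Subgroup H))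
    (M : Subgroup H) (hM : IsCoatom M ∧ (T : Subgroup H) ≤ M) :
    Subgroup.normalizer ((T : Subgroup H) : Set H) ≤ M := by
  apply QUOT_aux_le_of_ne_top T hmin M hM _ Subgroup.le_normalizer
  intro htop
  have hn : (T : Subgroup H).Normal := Subgroup.normalizer_eq_top_iff.mp htop
  have h1 : Subgroup.normalClosure ((T : Subgroup H) : Set H) = T := Subgroup.normalClosure_eq_self _
  have h2 : (T : Subgroup H) = ⊤ := by rw [← h1]; exact hmin.1
  exact hM.1.1 (top_le_iff.mp (h2 ▸ hM.2))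

theorem QUOT_isCT [Finite H] (T : Sylow p H) (hmin : Cfsg.IsMinimalOver (T : Subgroup H)) (M : Subgroup H)
    (hM : IsCoatom M ∧ (T : Subgroup H) ≤ M) : IsCT T ((1 : H) : H ⧸ M) := by
  refine ⟨?_, ?_, ?_, ?_⟩
  · obtain ⟨h, -, hh⟩ := SetLike.exists_of_lt (lt_top_iff_ne_top.mpr hM.1.1)
    exact ⟨h, fun e => hh ((QUOT_aux_fix_one M h).mp e)⟩
  · intro t ht
    exact (QUOT_aux_fix_one M t).mpr (hM.2 ht)
  · intro h hh
    have e : h • ((1 : H) : H ⧸ M) = ((h : H) : H ⧸ M) := by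
      show (((h * 1 : H)) : H ⧸ M) = _
      rw [mul_one]
    rw [e] at hh
    have h2 : ((h⁻¹ • T : Sylow p H) : Subgroup H) ≤ M := by
      intro y hy
      rw [Sylow.coe_subgroup_smul, Subgroup.mem_pointwise_smul_iff_inv_smul_mem] at hy
      have h3 := (QUOT_stab M h _).mp (hh _ hy)
      obtain ⟨m, hm, hmt⟩ := Subgroup.mem_map.mp h3
      have h4 : y = m := by
        have h5 : h * m * h⁻¹ = h * y * h⁻¹ := by
          simpa [MulAut.conj_apply, MulAut.smul_def] using hmt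
        exact (mul_left_cancel (mul_right_cancel h5)).symm
      rw [h4]
      exact hm
    obtain ⟨m, hm⟩ := MulAction.exists_smul_eq M (T.subtype hM.2) ((h⁻¹ • T).subtype h2)
    rw [Sylow.smul_subtype] at hm
    have h3 : m • T = h⁻¹ • T := Sylow.subtype_injective hm
    have h4 : (h * (m : H)) • T = T := by
      rw [mul_smul]
      have h5 : ((m : H) • T : Sylow p H) = h⁻¹ • T := h3
      rw [h5, smul_inv_smul]
    have h5 : h * (m : H) ∈ M :=
      QUOT_aux_normalizer_le T hmin M hM (Sylow.smul_eq_iff_mem_normalizer.mp h4)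
    have h6 : h ∈ M := (Subgroup.mul_mem_cancel_right M m.2).mp h5
    exact (QUOT_aux_fix_one M h).mpr h6
  · intro X hTX hX x hx
    exact (QUOT_aux_fix_one M x).mpr (QUOT_aux_le_of_ne_top T hmin M hM X hTX hX hx)

theorem QUOT_aux_le_of_ne_top_conj [Finite H] (T : Sylow p H) (hmin : Cfsg.IsMinimalOver (T : Subgroup H))
    (M : Subgroup H) (hM : IsCoatom M ∧ (T : Subgroup H) ≤ M) (g : H) (X : Subgroup H)
    (hTX : ((g • T : Sylow p H) : Subgroup H) ≤ X) (hX : X ≠ ⊤) : ∀ x ∈ X, g⁻¹ * x * g ∈ M := by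
  have h1 : X.comap (MulAut.conj g).toMonoidHom ≤ M := by
    apply QUOT_aux_le_of_ne_top T hmin M hM
    · intro t ht
      rw [Subgroup.mem_comap]
      apply hTX
      rw [Sylow.coe_subgroup_smul]
      exact Subgroup.smul_mem_pointwise_smul t (MulAut.conj g) (T : Subgroup H) ht
    · intro htop
      apply hX
      rw [eq_top_iff]
      intro x _
      have h2 : g⁻¹ * x * g ∈ X.comap (MulAut.conj g).toMonoidHom := by rw [htop]; trivial
      rw [Subgroup.mem_comap] at h2
      simpa [MulAut.conj_apply, mul_assoc] using h2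
  intro x hx
  apply h1
  rw [Subgroup.mem_comap]
  simpa [MulAut.conj_apply, mul_assoc] using hx

theorem QUOT_moves [Finite H] (T : Sylow p H) (hmin : Cfsg.IsMinimalOver (T : Subgroup H)) (M : Subgroup H)
    (hM : IsCoatom M ∧ (T : Subgroup H) ≤ M) (A : Subgroup H) (hAT : A ≤ (T : Subgroup H))
    (hA : ¬ A ≤ Cfsg.pCore p H) : Moves A ((1 : H) : H ⧸ M) := by
  by_contra hmv
  apply hA
  have hfix : ∀ a ∈ A, ∀ h : H, a • h • ((1 : H) : H ⧸ M) = h • ((1 : H) : H ⧸ M) := by
    intro a ha h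
    by_contra hne
    exact hmv ⟨a, ha, h, hne⟩
  have hAN : A ≤ M.normalCore := by
    intro a ha b
    have h1 := hfix a ha b⁻¹
    have e : b⁻¹ • ((1 : H) : H ⧸ M) = ((b⁻¹ : H) : H ⧸ M) := by
      show (((b⁻¹ * 1 : H)) : H ⧸ M) = _
      rw [mul_one]
    rw [e, QUOT_stab] at h1
    obtain ⟨m, hm, hma⟩ := Subgroup.mem_map.mp h1
    have h2 : b * a * b⁻¹ = m := by
      rw [← hma]
      simp [mul_assoc]
    rw [h2]
    exact hm
  have hNM : M.normalCore ≤ M := Subgroup.normalCore_le M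
  have hNn : (M.normalCore).Normal := Subgroup.normalCore_normal M
  obtain ⟨P⟩ : Nonempty (Sylow p M.normalCore) := inferInstance
  obtain ⟨Q, hQ⟩ := Sylow.exists_comap_subtype_eq P
  obtain ⟨g, hg⟩ := MulAction.exists_smul_eq H T Q
  have hD : (P : Subgroup M.normalCore).map M.normalCore.subtype = (Q : Subgroup H) ⊓ M.normalCore := by
    rw [← hQ]
    exact Subgroup.subgroupOf_map_subtype _ _
  have hfr := Sylow.normalizer_sup_eq_top P
  rw [hD] at hfr
  have hQle : (Q : Subgroup H) ≤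
      Subgroup.normalizer (((Q : Subgroup H) ⊓ M.normalCore : Subgroup H) : Set H) := by
    intro q hq
    rw [Subgroup.mem_normalizer_iff]
    intro h
    rw [Subgroup.mem_inf, Subgroup.mem_inf]
    constructor
    · rintro ⟨h1, h2⟩
      exact ⟨Subgroup.mul_mem _ (Subgroup.mul_mem _ hq h1) (Subgroup.inv_mem _ hq),
        hNn.conj_mem h h2 q⟩
    · rintro ⟨h1, h2⟩
      constructor
      · have h3 := Subgroup.mul_mem _ (Subgroup.mul_mem _ (Subgroup.inv_mem _ hq) h1) hq
        have h4 : q⁻¹ * (q * h * q⁻¹) * q = h := by group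
        rw [h4] at h3
        exact h3
      · have h3 := hNn.conj_mem _ h2 q⁻¹
        have h4 : q⁻¹ * (q * h * q⁻¹) * q⁻¹⁻¹ = h := by group
        rw [h4] at h3
        exact h3
  have htop : Subgroup.normalizer (((Q : Subgroup H) ⊓ M.normalCore : Subgroup H) : Set H) = ⊤ := by
    by_contra hne
    have h1 := QUOT_aux_le_of_ne_top_conj T hmin M hM g _ (hg ▸ hQle) hne
    have h2 : (⊤ : Subgroup H) ≤ M.comap (MulAut.conj g⁻¹).toMonoidHom := by
      rw [← hfr]
      apply sup_le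
      · intro x hx
        rw [Subgroup.mem_comap]
        simpa [MulAut.conj_apply, mul_assoc] using h1 x hx
      · intro x hx
        rw [Subgroup.mem_comap]
        have h3 := hNM (hNn.conj_mem x hx g⁻¹)
        simpa [MulAut.conj_apply, mul_assoc] using h3
    apply hM.1.1
    rw [eq_top_iff]
    intro x _
    have h3 : g * x * g⁻¹ ∈ M.comap (MulAut.conj g⁻¹).toMonoidHom := h2 trivial
    rw [Subgroup.mem_comap] at h3
    simpa [MulAut.conj_apply, mul_assoc] using h3
  have hDn : ((Q : Subgroup H) ⊓ M.normalCore).Normal := Subgroup.normalizer_eq_top_iff.mp htop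
  have hDp : IsPGroup p ↥((Q : Subgroup H) ⊓ M.normalCore) := Q.isPGroup'.to_le inf_le_left
  have hDle : (Q : Subgroup H) ⊓ M.normalCore ≤ Cfsg.pCore p H :=
    Cfsg.Agent.Helper14.le_pCore p hDn hDp
  intro a ha
  apply hDle
  have h1 : g * a * g⁻¹ ∈ (Q : Subgroup H) ⊓ M.normalCore := by
    constructor
    · rw [← hg, Sylow.coe_subgroup_smul]
      exact Subgroup.smul_mem_pointwise_smul a (MulAut.conj g) (T : Subgroup H) (hAT ha)
    · exact hNn.conj_mem a (hAN ha) g
  have h2 := hDn.conj_mem _ h1 g⁻¹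
  simpa [mul_assoc] using h2

theorem QUOT_pCore_fix [Finite H] (T : Sylow p H) (M : Subgroup H) (hTM : (T : Subgroup H) ≤ M) :
    ∀ q ∈ Cfsg.pCore p H, ∀ g : H, q • (g : H ⧸ M) = (g : H ⧸ M) := by
  intro q hq g
  rw [QUOT_stab, Subgroup.mem_map]
  have hn : (Cfsg.pCore p H).Normal := Cfsg.Agent.Helper14.pCore_normal p
  refine ⟨g⁻¹ * q * g, hTM (Cfsg.Agent.Helper14.pCore_le_sylow p T ?_), ?_⟩
  · have h1 := hn.conj_mem q hq g⁻¹
    simpa using h1
  · simp [MulAut.conj_apply, mul_assoc]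

end Cfsg.Agent.S2834P
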