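import Mathlib
import Cfsg.Agent.Helper21.S2999ACEQcore
import Cfsg.Agent.Helper22.S2999G2P

/-! s2999pieces ACEQ (helper21): `A ∩ xMx⁻¹ = A ∩ core(M)` for `x ∈ P \ M`. -/

set_option autoImplicit false

namespace Cfsg.Agent.S2999P

open Cfsg.Agent.S2789P

variable {G : Type*} [Group G] [Finite G] {p : ℕ} [Fact p.Prime] {V P Mg Tg R A : Subgroup G}

/-- ACEQ (S): `A ∩ xMx⁻¹ = A ∩ core(M)` for `x ∈ P \ M` (from G2P applied to `x⁻¹cx ∈ cjs x⁻¹ A ∩ Mg`). -/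
theorem ACEQ (S : Setup p V P Mg Tg R A) {x : G} (hx : x ∈ P) (hxM : x ∉ Mg) :
    A ⊓ cjs x Mg = A ⊓ coreIn P Mg :=
  ACEQ_core S (fun hg hgM hc hcM => G2P S hg hgM hc hcM) hx hxM

end Cfsg.Agent.S2999P
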