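import Mathlib
import Cfsg.Agent.Helper28.S3000Defs

/-! Board `s3000pieces`, piece ASMCORE: the assembly of the conclusion of S3000 from the `T`-conjugates of one
component `E`.  (helper21) -/

set_option autoImplicit false

namespace Cfsg.Agent.S3000P

open Cfsg.Agent.S2789P Cfsg.Agent.S2999P Cfsg.Agent.S3000P
open scoped commutatorElement

variable {G : Type*} [Group G]

/-- elements of `A ⊔ B` are products when `A` and `B` commute elementwise -/
theorem ASMCORE_aux_mem_sup {A B : Subgroup G} (hc : ∀ a ∈ A, ∀ b ∈ B, a * b = b * a) {x : G} (hx : x ∈ A ⊔ B) :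
    ∃ a ∈ A, ∃ b ∈ B, x = a * b := by
  have hc' : ∀ (a : A) (b : B), Commute (A.subtype a) (B.subtype b) := fun a b => hc a a.2 b b.2
  have h1 := MonoidHom.noncommCoprod_range A.subtype B.subtype hc'
  rw [Subgroup.range_subtype, Subgroup.range_subtype] at h1
  rw [← h1] at hx
  obtain ⟨⟨a, b⟩, rfl⟩ := hx
  exact ⟨a, a.2, b, b.2, by simp [MonoidHom.noncommCoprod_apply]⟩

/-- the elements normalising `C` and acting trivially on `V` modulo `C` -/
def ASMCORE_aux_S (V C : Subgroup G) : Subgroup G where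
  carrier := {y | y ∈ Subgroup.normalizer (C : Set G) ∧ ∀ v ∈ V, y * v * y⁻¹ * v⁻¹ ∈ C}
  one_mem' := by
    refine ⟨Subgroup.one_mem _, ?_⟩
    intro v _
    have : (1 : G) * v * 1⁻¹ * v⁻¹ = 1 := by group
    rw [this]; exact C.one_mem
  mul_mem' := by
    rintro a b ⟨ha1, ha2⟩ ⟨hb1, hb2⟩
    refine ⟨Subgroup.mul_mem _ ha1 hb1, ?_⟩
    intro v hv
    have e : a * b * v * (a * b)⁻¹ * v⁻¹ = a * (b * v * b⁻¹ * v⁻¹) * a⁻¹ * (a * v * a⁻¹ * v⁻¹) := by group
    rw [e]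
    exact C.mul_mem ((Subgroup.mem_normalizer_iff.mp ha1 _).mp (hb2 v hv)) (ha2 v hv)
  inv_mem' := by
    rintro a ⟨ha1, ha2⟩
    have ha1' : a⁻¹ ∈ Subgroup.normalizer (C : Set G) := Subgroup.inv_mem _ ha1
    refine ⟨ha1', ?_⟩
    intro v hv
    have e : a⁻¹ * v * a⁻¹⁻¹ * v⁻¹ = a⁻¹ * (a * v * a⁻¹ * v⁻¹)⁻¹ * a⁻¹⁻¹ := by group
    rw [e]
    exact (Subgroup.mem_normalizer_iff.mp ha1' _).mp (C.inv_mem (ha2 v hv))

theorem ASMCORE_aux_mem_S {V C : Subgroup G} {y : G} :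
    y ∈ ASMCORE_aux_S V C ↔ y ∈ Subgroup.normalizer (C : Set G) ∧ ∀ v ∈ V, y * v * y⁻¹ * v⁻¹ ∈ C := Iff.rfl

/-- `cjs y C = C` puts `y` in the normaliser -/
theorem ASMCORE_aux_norm_of_cj {y : G} {C : Subgroup G} (h : cjs y C = C) : y ∈ Subgroup.normalizer (C : Set G) := by
  rw [Subgroup.mem_normalizer_iff]
  intro x
  have := cj_mem_conj (g := y) (e := x) (E := C)
  rw [h] at this
  exact this.symm

/-- the decomposition of `V` (elementwise form, induction over finsets) -/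
theorem ASMCORE_aux_vdec {V : Subgroup G} {ι : Type*} [DecidableEq ι] (Ef : ι → Subgroup G)
    (hVab : ∀ x ∈ V, ∀ y ∈ V, x * y = y * x)
    (hWV : ∀ i, ⁅V, Ef i⁆ ≤ V)
    (hVE : ∀ i, ⁅V, Ef i⁆ ⊔ fixV V (Ef i) = V)
    (hVEC : ∀ i j, i ≠ j → ⁅V, Ef j⁆ ≤ fixV V (Ef i)) (s : Finset ι) :
    ∀ v ∈ V, ∃ c ∈ V, (∀ i ∈ s, c ∈ fixV V (Ef i)) ∧ ∃ w ∈ ⨆ i, ⁅V, Ef i⁆, v = c * w := by
  induction s using Finset.induction_on with
  | empty =>
    intro v hv
    exact ⟨v, hv, by simp, 1, Subgroup.one_mem _, by simp⟩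
  | insert a s ha ih =>
    intro v hv
    obtain ⟨c, hcV, hcs, w, hw, rfl⟩ := ih v hv
    have hc2 : c ∈ ⁅V, Ef a⁆ ⊔ fixV V (Ef a) := by rw [hVE a]; exact hcV
    obtain ⟨wa, hwa, c', hc', rfl⟩ := ASMCORE_aux_mem_sup
      (fun x hx y hy => hVab x (hWV a hx) y (fix_le _ _ hy)) hc2
    refine ⟨c', fix_le _ _ hc', ?_, wa * w, ?_, ?_⟩
    · intro i hi
      rcases Finset.mem_insert.mp hi with rfl | hi
      · exact hc'
      · have hne : i ≠ a := fun h => ha (h ▸ hi)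
        have h1 : wa ∈ fixV V (Ef i) := hVEC i a hne hwa
        have h2 := hcs i hi
        have : c' = wa⁻¹ * (wa * c') := by group
        rw [this]
        exact Subgroup.mul_mem _ (Subgroup.inv_mem _ h1) h2
    · exact Subgroup.mul_mem _ (Subgroup.mem_iSup_of_mem a hwa) hw
    · rw [hVab wa (hWV a hwa) c' (fix_le _ _ hc')]; group

variable [Finite G] {p : ℕ} [Fact p.Prime] {V P : Subgroup G} {T : Sylow p ↥P} {M : Subgroup ↥P}

omit [Finite G] [Fact p.Prime] in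
/-- the assembly for an abstract family -/
theorem ASMCORE_aux_core {r : ℕ} (hr : 1 ≤ r) (Ef : Fin r → Subgroup G) (Tg : Subgroup G)
    (hVab : ∀ x ∈ V, ∀ y ∈ V, x * y = y * x)
    (hPV : P ≤ Subgroup.normalizer (V : Set G))
    (hP : ∀ i, Ef i ≤ P)
    (hcomm : ∀ i j, i ≠ j → ∀ x ∈ Ef i, ∀ y ∈ Ef j, x * y = y * x)
    (hker : ∀ i, ∀ e ∈ Ef i, (∀ v ∈ V, e * v * e⁻¹ * v⁻¹ ∈ fixV V (Ef i)) → e = 1)
    (hVE : ∀ i, ⁅V, Ef i⁆ ⊔ fixV V (Ef i) = V)
    (hVEC : ∀ i j, i ≠ j → ⁅V, Ef j⁆ ≤ fixV V (Ef i))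
    (hloc : ∀ i, LocOut p V (Ef i))
    (htr : ∀ i j, ∃ t ∈ Tg, cjs t (Ef i) = Ef j)
    (hgen : (⨆ i, Ef i) ⊔ Tg = P) : Concl p V P Tg := by
  have hWV : ∀ i, ⁅V, Ef i⁆ ≤ V := by
    intro i
    rw [Subgroup.commutator_le]
    intro v hv e he
    rw [commutatorElement_def]
    have h1 : e * v⁻¹ * e⁻¹ ∈ V := (Subgroup.mem_normalizer_iff.mp (hPV (hP i he)) _).mp (V.inv_mem hv)
    have : v * e * v⁻¹ * e⁻¹ = v * (e * v⁻¹ * e⁻¹) := by group
    rw [this]
    exact V.mul_mem hv h1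
  refine ⟨r, Ef, hr, hP, ?_, ?_, hgen, htr, ?_, ?_, ?_⟩
  · -- the components commute
    intro i j hij
    rw [Subgroup.commutator_eq_bot_iff_le_centralizer]
    intro x hx
    rw [Subgroup.mem_centralizer_iff]
    intro y hy
    exact (hcomm i j hij x hx y hy).symm
  · -- DIR
    intro i
    rw [Subgroup.eq_bot_iff_forall]
    intro x hx
    rw [Subgroup.mem_inf] at hx
    have hK : (⨆ j ∈ {j | j ≠ i}, Ef j) ≤ ASMCORE_aux_S V (fixV V (Ef i)) := by
      refine iSup₂_le ?_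
      intro j hj
      have hji : j ≠ i := hj
      intro y hy
      rw [ASMCORE_aux_mem_S]
      have hyN : y ∈ Subgroup.normalizer (V : Set G) := hPV (hP j hy)
      refine ⟨?_, ?_⟩
      · apply ASMCORE_aux_norm_of_cj
        rw [← cj_fix _ hyN]
        have : cjs y (Ef i) = Ef i := by
          apply cj_norm
          rw [Subgroup.mem_normalizer_iff]
          intro e
          have hce : ∀ e ∈ Ef i, y * e * y⁻¹ = e := by
            intro e he
            rw [hcomm j i hji y hy e he]; group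
          constructor
          · intro he; rw [hce e he]; exact he
          · intro he
            have h2 := hce _ he
            have h3 : y * e * y⁻¹ = e := by
              have e1 : y * e * y⁻¹ = y⁻¹ * (y * (y * e * y⁻¹) * y⁻¹) * y := by group
              rw [e1, h2]; group
            rw [← h3]; exact he
        rw [this]
      · intro v hv
        have h1 : ⁅v, y⁆ ∈ ⁅V, Ef j⁆ := Subgroup.commutator_mem_commutator hv hy
        have h2 := Subgroup.inv_mem _ (hVEC i j hji.symm h1)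
        rw [commutatorElement_inv, commutatorElement_def] at h2
        exact h2
    have h1 := hK hx.2
    rw [ASMCORE_aux_mem_S] at h1
    exact hker i x hx.1 h1.2
  · -- VDEC
    apply le_antisymm
    · refine sup_le inf_le_left (iSup_le hWV)
    · intro v hv
      classical
      obtain ⟨c, hcV, hcs, w, hw, rfl⟩ := ASMCORE_aux_vdec Ef hVab hWV hVE hVEC Finset.univ v hv
      refine Subgroup.mul_mem_sup ?_ hw
      rw [Subgroup.mem_inf]
      refine ⟨hcV, ?_⟩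
      rw [Subgroup.mem_centralizer_iff]
      have h1 : (⨆ i, Ef i) ≤ Subgroup.centralizer ({c} : Set G) := by
        refine iSup_le ?_
        intro i e he
        rw [Subgroup.mem_centralizer_iff]
        intro h hh
        rw [Set.mem_singleton_iff] at hh
        subst hh
        exact ((mem_fix.mp (hcs i (Finset.mem_univ i))).2 e he).symm
      intro h hh
      have := Subgroup.mem_centralizer_iff.mp (h1 hh) c (Set.mem_singleton c)
      exact this.symm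
  · intro i j hij
    rw [Subgroup.commutator_eq_bot_iff_le_centralizer]
    exact (hVEC j i hij.symm).trans (by unfold fixV; exact inf_le_right)
  · intro i
    obtain ⟨n, hn, F, iF, iFt, hF, h1, h2⟩ := hloc i
    exact ⟨n, hn, Or.inl ⟨F, iF, iFt, hF, h1, h2⟩⟩

omit [Finite G] in
/-- (A) distinct `T`-conjugates of `E` commute -/
theorem ASMCORE_aux_A {E Tg : Subgroup G}
    (hcomm : ∀ t ∈ Tg, cjs t E ≠ E → ∀ x ∈ E, ∀ y ∈ cjs t E, x * y = y * x)
    {s t : G} (hs : s ∈ Tg) (ht : t ∈ Tg) (hne : cjs s E ≠ cjs t E) :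
    ∀ x ∈ cjs s E, ∀ y ∈ cjs t E, x * y = y * x := by
  intro x hx y hy
  have hu : s⁻¹ * t ∈ Tg := Tg.mul_mem (Tg.inv_mem hs) ht
  have hne' : cjs (s⁻¹ * t) E ≠ E := by
    intro h
    apply hne
    have : cjs s (cjs (s⁻¹ * t) E) = cjs t E := by
      rw [cj_mul]
      have : s * (s⁻¹ * t) = t := by group
      rw [this]
    rw [← this, h]
  rw [cj_mem] at hx hy
  have hy' : s⁻¹ * y * s ∈ cjs (s⁻¹ * t) E := by
    rw [cj_mem]
    have : (s⁻¹ * t)⁻¹ * (s⁻¹ * y * s) * (s⁻¹ * t) = t⁻¹ * y * t := by group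
    rw [this]; exact hy
  have := hcomm _ hu hne' _ hx _ hy'
  have e1 : x * y = s * ((s⁻¹ * x * s) * (s⁻¹ * y * s)) * s⁻¹ := by group
  have e2 : y * x = s * ((s⁻¹ * y * s) * (s⁻¹ * x * s)) * s⁻¹ := by group
  rw [e1, e2, this]

omit [Finite G] in
/-- (B) `[V, E_j] ≤ C_V(E_i)` for distinct `T`-conjugates -/
theorem ASMCORE_aux_B {E Tg : Subgroup G} (hTV : Tg ≤ Subgroup.normalizer (V : Set G))
    (hVEC : ∀ t ∈ Tg, cjs t E ≠ E → ⁅V, cjs t E⁆ ≤ fixV V E)
    {s t : G} (hs : s ∈ Tg) (ht : t ∈ Tg) (hne : cjs s E ≠ cjs t E) :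
    ⁅V, cjs t E⁆ ≤ fixV V (cjs s E) := by
  have hu : s⁻¹ * t ∈ Tg := Tg.mul_mem (Tg.inv_mem hs) ht
  have hst : s * (s⁻¹ * t) = t := by group
  have hne' : cjs (s⁻¹ * t) E ≠ E := by
    intro h
    apply hne
    have : cjs s (cjs (s⁻¹ * t) E) = cjs t E := by
      rw [cj_mul, hst]
    rw [← this, h]
  have h1 := cj_mono (g := s) (hVEC _ hu hne')
  rw [cj_comm, cj_norm (hTV hs), cj_mul, ← cj_fix _ (hTV hs), hst] at h1
  exact h1

/-- ASMCORE (L): the assembly. -/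
theorem ASMCORE (Hy : Hyp p V P T M) (E : Subgroup G) (hEP : E ≤ P) (hEM : ¬ E ≤ MM M)
    (hcomm : ∀ t ∈ TT T, cjs t E ≠ E → ∀ x ∈ E, ∀ y ∈ cjs t E, x * y = y * x)
    (hker : ∀ t ∈ TT T, ∀ e ∈ cjs t E, (∀ v ∈ V, e * v * e⁻¹ * v⁻¹ ∈ fixV V (cjs t E)) → e = 1)
    (hVE : ∀ t ∈ TT T, ⁅V, cjs t E⁆ ⊔ fixV V (cjs t E) = V)
    (hVEC : ∀ t ∈ TT T, cjs t E ≠ E → ⁅V, cjs t E⁆ ≤ fixV V E)
    (hloc : ∀ t ∈ TT T, LocOut p V (cjs t E)) : Concl p V P (TT T) := by
  classical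
  have hTP : TT T ≤ P := Subgroup.map_subtype_le _
  have hTV : TT T ≤ Subgroup.normalizer (V : Set G) := hTP.trans Hy.hPV
  have hVab : ∀ x ∈ V, ∀ y ∈ V, x * y = y * x := fun x hx y hy =>
    congrArg Subtype.val (Hy.hV.1.is_comm.comm ⟨x, hx⟩ ⟨y, hy⟩)
  let S : Set (Subgroup G) := {X | ∃ t ∈ TT T, X = cjs t E}
  have hES : E ∈ S := ⟨1, Subgroup.one_mem _, (cj_one E).symm⟩
  have hSne : Nonempty S := ⟨⟨E, hES⟩⟩
  have hr1 : 1 ≤ Nat.card S := Nat.card_pos
  let e : S ≃ Fin (Nat.card S) := Finite.equivFin S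
  let Ef : Fin (Nat.card S) → Subgroup G := fun i => ((e.symm i : S) : Subgroup G)
  have hEf : ∀ i, ∃ t ∈ TT T, Ef i = cjs t E := fun i => (e.symm i).2
  have hinj : ∀ i j, i ≠ j → Ef i ≠ Ef j := by
    intro i j hij h
    apply hij
    have : e.symm i = e.symm j := Subtype.ext h
    exact e.symm.injective this
  have hP' : ∀ i, Ef i ≤ P := by
    intro i
    obtain ⟨t, ht, h⟩ := hEf i
    rw [h]
    exact cj_le_of_mem (hTP ht) hEP
  apply ASMCORE_aux_core hr1 Ef (TT T) hVab Hy.hPV hP'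
  · intro i j hij
    obtain ⟨s, hs, h1⟩ := hEf i
    obtain ⟨t, ht, h2⟩ := hEf j
    have hne := hinj i j hij
    rw [h1, h2] at hne ⊢
    exact ASMCORE_aux_A hcomm hs ht hne
  · intro i
    obtain ⟨t, ht, h⟩ := hEf i
    rw [h]
    exact hker t ht
  · intro i
    obtain ⟨t, ht, h⟩ := hEf i
    rw [h]
    exact hVE t ht
  · intro i j hij
    obtain ⟨s, hs, h1⟩ := hEf i
    obtain ⟨t, ht, h2⟩ := hEf j
    have hne := hinj i j hij
    rw [h1, h2] at hne ⊢
    exact ASMCORE_aux_B hTV hVEC hs ht hne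
  · intro i
    obtain ⟨t, ht, h⟩ := hEf i
    rw [h]
    exact hloc t ht
  · intro i j
    obtain ⟨s, hs, h1⟩ := hEf i
    obtain ⟨t, ht, h2⟩ := hEf j
    refine ⟨t * s⁻¹, (TT T).mul_mem ht ((TT T).inv_mem hs), ?_⟩
    rw [h1, h2, cj_mul]
    have : t * s⁻¹ * s = t := by group
    rw [this]
  · -- GEN
    apply le_antisymm
    · exact sup_le (iSup_le hP') hTP
    · by_contra hcon
      have hne : ((⨆ i, Ef i) ⊔ TT T).subgroupOf P ≠ ⊤ := by
        intro h; exact hcon (Subgroup.subgroupOf_eq_top.mp h)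
      have hT' : (T : Subgroup ↥P) ≤ ((⨆ i, Ef i) ⊔ TT T).subgroupOf P := by
        intro x hx
        rw [Subgroup.mem_subgroupOf]
        exact (le_sup_right : TT T ≤ (⨆ i, Ef i) ⊔ TT T) (Subgroup.mem_map_of_mem _ hx)
      have hle : ((⨆ i, Ef i) ⊔ TT T).subgroupOf P ≤ M := by
        rcases IsCoatomic.eq_top_or_exists_le_coatom (((⨆ i, Ef i) ⊔ TT T).subgroupOf P) with h | ⟨M', hM', hHM'⟩
        · exact absurd h hne
        · have := (Hy.hmin T).2.unique ⟨hM', hT'.trans hHM'⟩ ⟨Hy.hM, Hy.hTM⟩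
          rw [← this]; exact hHM'
      apply hEM
      intro x hx
      have hi0 : Ef (e ⟨E, hES⟩) = E := by
        show ((e.symm (e ⟨E, hES⟩) : S) : Subgroup G) = E
        rw [Equiv.symm_apply_apply]
      have hxH : x ∈ (⨆ i, Ef i) ⊔ TT T :=
        (le_sup_left : (⨆ i, Ef i) ≤ (⨆ i, Ef i) ⊔ TT T) (Subgroup.mem_iSup_of_mem (e ⟨E, hES⟩) (hi0.symm ▸ hx))
      have hxM : (⟨x, hEP hx⟩ : ↥P) ∈ M := hle (Subgroup.mem_subgroupOf.mpr hxH)
      exact ⟨⟨x, hEP hx⟩, hxM, rfl⟩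

end Cfsg.Agent.S3000P
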