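import Mathlib
import Cfsg.Agent.Helper1.PGroup
import Cfsg.Agent.Helper14.Frattini

/-!
# S3174, piece AVOID: a subgroup of index 2 avoiding a given element
(statement verbatim from `departures/helper16_s3174_stubs.lean.txt`)
-/

set_option autoImplicit false

namespace Cfsg.Agent.S3174P

open scoped commutatorElement

/-- AVOID: in a finite 2-group, if all squares of `U'` lie in `N ≤ U'` and `z ∈ U' \ N`, some subgroup
of index 2 of `U'` misses `z`. -/
theorem exists_index_two_avoiding {P : Type*} [Group P] [Finite P] (hP : IsPGroup 2 P)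
    (U' N : Subgroup P) (hN : N ≤ U') (hsq : ∀ y ∈ U', y ^ 2 ∈ N) (z : P) (hz : z ∈ U') (hzN : z ∉ N) :
    ∃ U : Subgroup P, U ≤ U' ∧ U.relIndex U' = 2 ∧ z ∉ U := by
  have : Fact (Nat.Prime 2) := ⟨Nat.prime_two⟩
  have hG : IsPGroup 2 ↥U' := hP.to_subgroup U'
  have hpow : ∀ a : ↥U', a ^ 2 ∈ N.subgroupOf U' := by
    intro a
    rw [Subgroup.mem_subgroupOf]
    exact hsq a a.2
  have hcomm : ∀ a b : ↥U', ⁅a, b⁆ ∈ N.subgroupOf U' := by
    intro a b
    have h1 : ⁅a, b⁆ = a ^ 2 * (a⁻¹ * b) ^ 2 * (b⁻¹) ^ 2 := by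
      rw [commutatorElement_def]
      simp only [pow_two]
      group
    rw [h1]
    exact mul_mem (mul_mem (hpow a) (hpow _)) (hpow _)
  have hfr : frattini ↥U' ≤ N.subgroupOf U' :=
    Cfsg.Agent.Helper14.frattini_le_of_elemAb 2 (N.subgroupOf U') hcomm hpow
  have hz' : (⟨z, hz⟩ : ↥U') ∉ frattini ↥U' := by
    intro h
    exact hzN (Subgroup.mem_subgroupOf.mp (hfr h))
  rw [Cfsg.Agent.Helper1.mem_frattini_iff] at hz'
  have hex : ∃ M : Subgroup ↥U', IsCoatom M ∧ (⟨z, hz⟩ : ↥U') ∉ M := by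
    by_contra hcon
    apply hz'
    intro M hM
    by_contra h
    exact hcon ⟨M, hM, h⟩
  obtain ⟨M, hM, hzM⟩ := hex
  have hidx : M.index = 2 := Cfsg.Agent.Helper1.IsPGroup.coatom_index hG hM
  refine ⟨M.map U'.subtype, Subgroup.map_subtype_le M, ?_, ?_⟩
  · have h1 : (M.map U'.subtype).subgroupOf U' = M := by
      ext x
      rw [Subgroup.mem_subgroupOf, Subgroup.mem_map]
      constructor
      · rintro ⟨m, hm, hmx⟩
        have h2 : m = x := Subtype.ext hmx
        rw [← h2]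
        exact hm
      · intro hx
        exact ⟨x, hx, rfl⟩
    rw [Subgroup.relIndex, h1, hidx]
  · intro h
    obtain ⟨m, hm, hmz⟩ := Subgroup.mem_map.mp h
    have h2 : m = ⟨z, hz⟩ := Subtype.ext hmz
    rw [h2] at hm
    exact hzM hm

end Cfsg.Agent.S3174P
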