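import Mathlib
import Cfsg.Agent.Helper26.S3911Defs

/-! Board `s3911pieces`, piece ML5 (hedge by helper21): in a nilpotent minimal lift, a Sylow subgroup inside `M` is
trivial (Schur–Zassenhaus complement of the normal Sylow subgroup maps onto `Ab`). -/

set_option autoImplicit false

namespace Cfsg.Agent.S3911P

/-- ML5 (M): in a nilpotent minimal lift, a Sylow subgroup inside `M` is trivial. -/
theorem ML5 {G : Type*} [Group G] [Finite G] (M : Subgroup G) [M.Normal] (Ab : Subgroup (G ⧸ M))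
    (A₀ : Subgroup G) (h : MinLift M Ab A₀) (hnil : Group.IsNilpotent ↥A₀) (p : ℕ) [Fact p.Prime]
    (S : Sylow p ↥A₀) (hS : ∀ s ∈ S, (s : G) ∈ M) : (S : Subgroup ↥A₀) = ⊥ := by
  classical
  have hSn : (S : Subgroup ↥A₀).Normal :=
    Sylow.normal_of_normalizerCondition Group.normalizerCondition_of_isNilpotent S
  obtain ⟨K, hK⟩ := Subgroup.exists_right_complement'_of_coprime (N := (S : Subgroup ↥A₀)) S.card_coprime_index
  have hKle : K.map A₀.subtype ≤ A₀ := by
    rintro _ ⟨x, -, rfl⟩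
    exact x.2
  have hKmap : (K.map A₀.subtype).map (QuotientGroup.mk' M) = Ab := by
    apply le_antisymm
    · rw [← h.1]
      exact Subgroup.map_mono hKle
    · rw [← h.1]
      rintro _ ⟨a, ha, rfl⟩
      obtain ⟨⟨s, k⟩, hsk⟩ := hK.2 (⟨a, ha⟩ : ↥A₀)
      have hsk' : ((s : ↥A₀) : G) * ((k : ↥A₀) : G) = a := congrArg Subtype.val hsk
      refine ⟨((k : ↥A₀) : G), ⟨(k : ↥A₀), k.2, rfl⟩, ?_⟩
      have hsM : ((s : ↥A₀) : G) ∈ M := hS s.1 s.2
      have h1 : (QuotientGroup.mk' M) ((s : ↥A₀) : G) = 1 := (QuotientGroup.eq_one_iff _).2 hsM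
      rw [← hsk', map_mul, h1, one_mul]
  have hKtop : K.map A₀.subtype = A₀ := h.2 _ hKle hKmap
  have hK1 : K = ⊤ := by
    rw [eq_top_iff]
    intro x _
    have h1 : (x : G) ∈ K.map A₀.subtype := by
      rw [hKtop]
      exact x.2
    obtain ⟨y, hy, hxy⟩ := h1
    have h2 : y = x := Subtype.ext hxy
    rwa [← h2]
  have hcard := hK.card_mul_card
  rw [hK1, Subgroup.card_top] at hcard
  have h1 : Nat.card ↥(S : Subgroup ↥A₀) = 1 := by
    have hpos : 0 < Nat.card ↥A₀ := Nat.card_pos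
    exact Nat.eq_of_mul_eq_mul_right hpos (by rw [hcard, one_mul])
  exact Subgroup.card_eq_one.1 h1

end Cfsg.Agent.S3911P
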