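import Mathlib
import Cfsg.Agent.Helper26.S3911Defs

/-! Board `s3911pieces`, piece ML1: a minimal lift exists. -/

set_option autoImplicit false

namespace Cfsg.Agent.S3911P

/-- ML1 (S): a minimal lift exists. -/
theorem ML1 {G : Type*} [Group G] [Finite G] (M : Subgroup G) [M.Normal] (Ab : Subgroup (G ⧸ M)) :
    ∃ A₀ : Subgroup G, MinLift M Ab A₀ := by
  classical
  have hne : Nonempty {K : Subgroup G // K.map (QuotientGroup.mk' M) = Ab} :=
    ⟨⟨Ab.comap (QuotientGroup.mk' M),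
      Subgroup.map_comap_eq_self_of_surjective (QuotientGroup.mk'_surjective M) Ab⟩⟩
  obtain ⟨K₀, hmin⟩ := Finite.exists_min
    (fun K : {K : Subgroup G // K.map (QuotientGroup.mk' M) = Ab} => Nat.card K.1)
  refine ⟨K₀.1, K₀.2, ?_⟩
  intro K hK hKmap
  exact Subgroup.eq_of_le_of_card_ge hK (hmin ⟨K, hKmap⟩)

end Cfsg.Agent.S3911P
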