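import Mathlib
import Cfsg.Agent.Helper26.S3911Defs
import Cfsg.Agent.Helper29.Schmidt2

set_option autoImplicit false

namespace Cfsg.Agent.S3912P

open Cfsg.Agent.S3911P

open scoped commutatorElement in
/-- local copy of C2a (so that C2c does not wait): for a lift `A₀` of an abelian `Ab`, Sylow `p`-subgroups
of `A₀` with `p ∤ |M|` are commutative. -/
theorem C2c_aux {G : Type*} [Group G] [Finite G] (M : Subgroup G) [M.Normal] (Ab : Subgroup (G ⧸ M))
    (A₀ : Subgroup G) (h : A₀.map (QuotientGroup.mk' M) = Ab) (hAb : IsMulCommutative ↥Ab)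
    (p : ℕ) [Fact p.Prime] (hp : ¬ p ∣ Nat.card ↥M) (S : Sylow p ↥A₀) :
    ∀ a ∈ S, ∀ b ∈ S, a * b = b * a := by
  intro a ha b hb
  have hcS : ⁅a, b⁆ ∈ S := by
    rw [commutatorElement_def]
    exact S.mul_mem (S.mul_mem (S.mul_mem ha hb) (S.inv_mem ha)) (S.inv_mem hb)
  -- the image of the commutator in the quotient is trivial
  have hma : (QuotientGroup.mk' M) (a : G) ∈ Ab := by
    rw [← h]; exact Subgroup.mem_map_of_mem _ a.2
  have hmb : (QuotientGroup.mk' M) (b : G) ∈ Ab := by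
    rw [← h]; exact Subgroup.mem_map_of_mem _ b.2
  have hcomm : (QuotientGroup.mk' M) (a : G) * (QuotientGroup.mk' M) (b : G) =
      (QuotientGroup.mk' M) (b : G) * (QuotientGroup.mk' M) (a : G) := by
    have := hAb.is_comm.comm (⟨_, hma⟩ : ↥Ab) ⟨_, hmb⟩
    exact congrArg Subtype.val this
  have hcM : ((⁅a, b⁆ : ↥A₀) : G) ∈ M := by
    rw [← QuotientGroup.ker_mk' M, MonoidHom.mem_ker]
    have : ((⁅a, b⁆ : ↥A₀) : G) = (a : G) * (b : G) * (a : G)⁻¹ * (b : G)⁻¹ := by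
      rw [commutatorElement_def]; simp
    rw [this, map_mul, map_mul, map_mul, map_inv, map_inv, hcomm]
    group
  -- order considerations
  obtain ⟨k, hk⟩ := (S.2 ⟨⁅a, b⁆, hcS⟩)
  have hk' : (⁅a, b⁆ : ↥A₀) ^ p ^ k = 1 := by
    have := congrArg Subtype.val hk
    simpa using this
  have ho1 : orderOf (⁅a, b⁆ : ↥A₀) ∣ p ^ k := orderOf_dvd_of_pow_eq_one hk'
  have ho2 : orderOf (⁅a, b⁆ : ↥A₀) ∣ Nat.card ↥M := by
    have h1 : orderOf (⁅a, b⁆ : ↥A₀) = orderOf ((⁅a, b⁆ : ↥A₀) : G) := by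
      rw [← Subgroup.orderOf_coe]
    rw [h1]
    have h2 : orderOf (⟨((⁅a, b⁆ : ↥A₀) : G), hcM⟩ : ↥M) = orderOf ((⁅a, b⁆ : ↥A₀) : G) := by
      rw [← Subgroup.orderOf_coe]
    rw [← h2]
    exact orderOf_dvd_natCard _
  have hcop : Nat.Coprime (p ^ k) (Nat.card ↥M) :=
    Nat.Coprime.pow_left k ((Nat.Prime.coprime_iff_not_dvd Fact.out).2 hp)
  have ho : orderOf (⁅a, b⁆ : ↥A₀) = 1 :=
    Nat.eq_one_of_dvd_coprimes hcop ho1 ho2
  have hc1 : (⁅a, b⁆ : ↥A₀) = 1 := orderOf_eq_one_iff.1 ho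
  exact commutatorElement_eq_one_iff_mul_comm.1 hc1

/-- C2c (M): a minimal lift whose order is not divisible by `8` is commutative (`|N| = 2`). -/
theorem C2c {G : Type*} [Group G] [Finite G] (N : Subgroup G) [N.Normal] (hN : Nat.card ↥N = 2)
    (Ab : Subgroup (G ⧸ N)) (A₀ : Subgroup G) (h : MinLift N Ab A₀) (hAb : IsMulCommutative ↥Ab)
    (hnil : Group.IsNilpotent ↥A₀) (h8 : ¬ 8 ∣ Nat.card ↥A₀) : IsMulCommutative ↥A₀ := by
  have key : ∀ a b : ↥A₀, a * b = b * a := by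
    apply Cfsg.Agent.Helper29.comm_of_nilpotent_of_sylow_comm hnil
    intro p hp S
    by_cases hp2 : p = 2
    · subst hp2
      have hcard : Nat.card ↥(S : Subgroup ↥A₀) = 2 ^ (Nat.card ↥A₀).factorization 2 :=
        S.card_eq_multiplicity
      have hdvd : 2 ^ (Nat.card ↥A₀).factorization 2 ∣ Nat.card ↥A₀ := Nat.ordProj_dvd _ _
      have hj : (Nat.card ↥A₀).factorization 2 ≤ 2 := by
        by_contra hcon
        push Not at hcon
        apply h8
        exact dvd_trans (pow_dvd_pow 2 hcon) hdvd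
      intro a ha b hb
      have hab : (⟨a, ha⟩ : ↥(S : Subgroup ↥A₀)) * ⟨b, hb⟩ = ⟨b, hb⟩ * ⟨a, ha⟩ := by
        interval_cases hjj : (Nat.card ↥A₀).factorization 2
        · -- card = 1
          have h1 : Nat.card ↥(S : Subgroup ↥A₀) = 1 := by rw [hcard]; rfl
          have : Subsingleton ↥(S : Subgroup ↥A₀) := (Nat.card_eq_one_iff_unique.1 h1).1
          exact Subsingleton.elim _ _
        · -- card = 2
          have h2 : Nat.card ↥(S : Subgroup ↥A₀) = 2 := by rw [hcard]; rfl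
          have : Fact (Nat.Prime 2) := ⟨Nat.prime_two⟩
          have : IsCyclic ↥(S : Subgroup ↥A₀) := isCyclic_of_prime_card h2
          exact (IsCyclic.isMulCommutative (α := ↥(S : Subgroup ↥A₀))).is_comm.comm _ _
        · -- card = 4
          have h4 : Nat.card ↥(S : Subgroup ↥A₀) = 2 ^ 2 := by rw [hcard]
          exact (IsPGroup.isMulCommutative_of_card_eq_prime_sq h4).is_comm.comm _ _
      exact congrArg Subtype.val hab
    · have hpN : ¬ p ∣ Nat.card ↥N := by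
        rw [hN]
        intro hd
        exact hp2 ((Nat.prime_dvd_prime_iff_eq hp.out Nat.prime_two).1 hd)
      exact C2c_aux N Ab A₀ h.1 hAb p hpN S
  exact ⟨⟨fun a b => key a b⟩⟩

end Cfsg.Agent.S3912P
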