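import Mathlib
import Cfsg.Agent.Helper26.S3911Defs

set_option autoImplicit false

namespace Cfsg.Agent.S3912P

open Cfsg.Agent.S3911P

/-- QF1 (M): a generalized quaternion group of order `≥ 8` is generated by its elements of order `4`. -/
theorem QF1 {P : Type*} [Group P] (m : ℕ) (hm : 2 ≤ m) (e : P ≃* QuaternionGroup m) :
    Subgroup.closure {x : P | orderOf x = 4} = ⊤ := by
  have : NeZero m := ⟨by omega⟩
  have hxa : ∀ i : ZMod (2 * m), e.symm (QuaternionGroup.xa i) ∈
      Subgroup.closure {x : P | orderOf x = 4} := by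
    intro i
    apply Subgroup.subset_closure
    show orderOf (e.symm (QuaternionGroup.xa i)) = 4
    rw [MulEquiv.orderOf_eq]
    exact QuaternionGroup.orderOf_xa i
  rw [eq_top_iff]
  intro p _
  have hp : p = e.symm (e p) := (e.symm_apply_apply p).symm
  rw [hp]
  rcases e p with i | i
  · have h1 : (QuaternionGroup.a i : QuaternionGroup m) =
        QuaternionGroup.xa 0 * QuaternionGroup.xa (i - (m : ZMod (2 * m))) := by
      rw [QuaternionGroup.xa_mul_xa]
      congr 1
      ring
    rw [h1, map_mul]
    exact Subgroup.mul_mem _ (hxa _) (hxa _)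
  · exact hxa i

end Cfsg.Agent.S3912P
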