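import Mathlib
import Cfsg.Agent.Helper26.S3911Defs
import Cfsg.Agent.Helper6.S3912MN
import Cfsg.Agent.Helper15.S3912QB
import Cfsg.Agent.Helper20.S3912QC
import Cfsg.Agent.Helper20.S3912QF3
import Cfsg.Agent.Helper10.S3911ML8b
import Cfsg.Agent.Lead.CoprimeSylow2

/-! s3912pieces QE (helper21, hedge): solvable B-group, no nontrivial normal subgroup of odd order,
quaternion Sylow `2`-subgroup of order `≥ 8`: the Sylow `2`-subgroup is normal. -/

set_option autoImplicit false
set_option linter.unusedVariables false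
set_option linter.style.haveILetI false

namespace Cfsg.Agent.S3912P

open Cfsg.Agent.S3911P

universe u

/-- a subgroup all of whose elements satisfy `v ^ r = 1` is an `r`-group. -/
theorem QE_aux_pgroup {G : Type*} [Group G] (N : Subgroup G) (r : ℕ) (h : ∀ v ∈ N, v ^ r = 1) :
    IsPGroup r ↥N := by
  intro g
  refine ⟨1, ?_⟩
  apply Subtype.ext
  rw [pow_one]
  simpa using h g g.2

/-- QE (M/L). -/
theorem QE {G : Type u} [Group G] [Finite G] (hB : BProp G) (hsol : Group.IsSolvable G) (P : Sylow 2 G)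
    (m : ℕ) (hm : 2 ≤ m) (e : ↥(P : Subgroup G) ≃* QuaternionGroup m)
    (hodd : ∀ K : Subgroup G, K.Normal → Odd (Nat.card ↥K) → K = ⊥) : (P : Subgroup G).Normal := by
  classical
  have hm0 : m ≠ 0 := by omega
  haveI : NeZero m := ⟨hm0⟩
  haveI : Fact (Nat.Prime 2) := ⟨Nat.prime_two⟩
  -- `|P| = 4 m ≥ 8`
  have hPcard : Nat.card ↥(P : Subgroup G) = 4 * m := by
    rw [Nat.card_congr e.toEquiv, Nat.card_eq_fintype_card, QuaternionGroup.card]
  have hP8 : 8 ≤ Nat.card ↥(P : Subgroup G) := by rw [hPcard]; omega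
  have hG8 : 8 ≤ Nat.card G := le_trans hP8 (Subgroup.card_le_card_group _)
  -- `G` is nontrivial
  have hT : (⊤ : Subgroup G) ≠ ⊥ := by
    intro h
    have h1 : Nat.card ↥(⊤ : Subgroup G) = Nat.card G := Subgroup.card_top
    rw [h, Subgroup.card_bot] at h1
    omega
  obtain ⟨N, hNn, -, hNbot, hNab, r, hr, hrdvd, hexp, hmin⟩ := MN hsol ⊤ hT
  haveI : N.Normal := hNn
  -- `r = 2`
  have hr2 : r = 2 := by
    by_contra hne
    haveI : Fact r.Prime := ⟨hr⟩
    have hpg : IsPGroup r ↥N := QE_aux_pgroup N r hexp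
    obtain ⟨n, hn⟩ := IsPGroup.iff_card.1 hpg
    have hoddN : Odd (Nat.card ↥N) := by
      rw [hn]
      exact (hr.odd_of_ne_two hne).pow
    exact hNbot (hodd N hNn hoddN)
  subst hr2
  have hN2 : IsPGroup 2 ↥N := QE_aux_pgroup N 2 hexp
  have hNP : N ≤ (P : Subgroup G) := Cfsg.Agent.Lead.le_sylow_of_normal_isPGroup P N hN2
  -- `|N| = 2`
  have hN : Nat.card ↥N = 2 := by
    obtain ⟨z, hz1⟩ := (Subgroup.ne_bot_iff_exists_ne_one).1 hNbot
    have hzo : orderOf (z : G) = 2 := by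
      apply orderOf_eq_prime (hexp z z.2)
      intro h
      exact hz1 (Subtype.ext h)
    have hzP : orderOf (⟨(z : G), hNP z.2⟩ : ↥(P : Subgroup G)) = 2 := by
      rw [Subgroup.orderOf_mk]; exact hzo
    have hNz : N = Subgroup.zpowers (z : G) := by
      apply le_antisymm
      · intro v hv
        by_cases hv1 : v = 1
        · rw [hv1]; exact Subgroup.one_mem _
        · have hvo : orderOf v = 2 := orderOf_eq_prime (hexp v hv) hv1
          have hvP : orderOf (⟨v, hNP hv⟩ : ↥(P : Subgroup G)) = 2 := by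
            rw [Subgroup.orderOf_mk]; exact hvo
          have := QF3 m hm0 e _ _ hvP hzP
          have hvz : v = (z : G) := congrArg (fun w : ↥(P : Subgroup G) => (w : G)) this
          rw [hvz]
          exact Subgroup.mem_zpowers _
      · rw [Subgroup.zpowers_le]
        exact z.2
    rw [hNz, Nat.card_zpowers, hzo]
  -- the quotient `G ⧸ N`
  have hGN : Nat.card G = Nat.card (G ⧸ N) * Nat.card ↥N :=
    Subgroup.card_eq_card_quotient_mul_card_subgroup N
  have hq4 : 4 ≤ Nat.card (G ⧸ N) := by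
    rw [hN] at hGN
    omega
  haveI : Group.IsSolvable G := hsol
  have hsolq : Group.IsSolvable (G ⧸ N) := inferInstance
  have hTq : (⊤ : Subgroup (G ⧸ N)) ≠ ⊥ := by
    intro h
    have h1 : Nat.card ↥(⊤ : Subgroup (G ⧸ N)) = Nat.card (G ⧸ N) := Subgroup.card_top
    rw [h, Subgroup.card_bot] at h1
    omega
  obtain ⟨Nt, hNtn, -, hNtbot, hNtab, s, hs, hsdvd, hsexp, -⟩ := MN hsolq ⊤ hTq
  haveI : Nt.Normal := hNtn
  haveI : Fact s.Prime := ⟨hs⟩
  have hpgt : IsPGroup s ↥Nt := QE_aux_pgroup Nt s hsexp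
  obtain ⟨t, ht⟩ := IsPGroup.iff_card.1 hpgt
  have ht1 : 1 ≤ t := by
    rcases Nat.eq_zero_or_pos t with h0 | hpos
    · exfalso
      rw [h0, pow_zero] at ht
      rw [ht] at hsdvd
      exact hs.one_lt.ne' (Nat.dvd_one.1 hsdvd)
    · exact hpos
  set N₂ : Subgroup G := Nt.comap (QuotientGroup.mk' N) with hN₂def
  haveI hN₂n : N₂.Normal := Subgroup.Normal.comap hNtn _
  have hmap : N₂.map (QuotientGroup.mk' N) = Nt :=
    Subgroup.map_comap_eq_self_of_surjective (QuotientGroup.mk'_surjective N) Nt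
  have hNN : N ≤ N₂ := by
    intro n hn
    rw [hN₂def, Subgroup.mem_comap]
    have : (QuotientGroup.mk' N) n = 1 := by
      rw [QuotientGroup.mk'_apply, QuotientGroup.eq_one_iff]; exact hn
    rw [this]
    exact Subgroup.one_mem _
  have hinf : N₂ ⊓ N = N := inf_eq_right.2 hNN
  have hN₂card : Nat.card ↥N₂ = 2 * s ^ t := by
    rw [ML8b N Nt N₂ hmap, hinf, hN, ht, mul_comm]
  by_cases hs2 : s = 2
  · -- `N₂` is a normal `2`-subgroup of order `≥ 4`
    subst hs2
    have hpg2 : IsPGroup 2 ↥N₂ := by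
      apply IsPGroup.of_card (n := t + 1)
      rw [hN₂card, pow_succ, mul_comm]
    have hc4 : 4 ≤ Nat.card ↥N₂ := by
      rw [hN₂card]
      have : 2 ^ 1 ≤ 2 ^ t := Nat.pow_le_pow_right (by norm_num) ht1
      omega
    have h1 : (P : Subgroup G) ≤ N₂ := QC hB P m hm e N₂ hpg2 hc4
    have h2 : N₂ ≤ (P : Subgroup G) := Cfsg.Agent.Lead.le_sylow_of_normal_isPGroup P N₂ hpg2
    have h3 : (P : Subgroup G) = N₂ := le_antisymm h1 h2
    rw [h3]
    exact hN₂n
  · exfalso
    obtain ⟨K, hKn, hKbot, hKodd⟩ := QB N N₂ hNN hN s t hs hs2 ht1 hN₂card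
    exact hKbot (hodd K hKn hKodd)

end Cfsg.Agent.S3912P
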