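import Mathlib

set_option autoImplicit false

/-! S5949: general lemmas on polynomials in an endomorphism (intertwining, restriction) and on the
existence of subspaces of a given dimension. -/

namespace Cfsg.Agent.S5949P

open Polynomial

namespace Basic

variable {F : Type*} [Field F]

section Intertwine

variable {V₁ V₂ : Type*} [AddCommGroup V₁] [Module F V₁] [AddCommGroup V₂] [Module F V₂]

theorem pow_intertwine (e : V₁ →ₗ[F] V₂) (f₁ : Module.End F V₁) (f₂ : Module.End F V₂)
    (h : ∀ v, e (f₁ v) = f₂ (e v)) (k : ℕ) (v : V₁) : e ((f₁ ^ k) v) = (f₂ ^ k) (e v) := by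
  induction k generalizing v with
  | zero => simp
  | succ k ih =>
    rw [pow_succ, pow_succ, Module.End.mul_apply, Module.End.mul_apply, ih, h]

theorem aeval_intertwine (e : V₁ →ₗ[F] V₂) (f₁ : Module.End F V₁) (f₂ : Module.End F V₂)
    (h : ∀ v, e (f₁ v) = f₂ (e v)) (P : F[X]) (v : V₁) :
    e (aeval f₁ P v) = aeval f₂ P (e v) := by
  induction P using Polynomial.induction_on' with
  | add p q hp hq =>
    rw [map_add, map_add, LinearMap.add_apply, LinearMap.add_apply, map_add, hp, hq]
  | monomial k a =>
    rw [aeval_monomial, aeval_monomial, Module.End.mul_apply, Module.End.mul_apply,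
      Module.algebraMap_end_apply, Module.algebraMap_end_apply, map_smul, pow_intertwine e f₁ f₂ h]

end Intertwine

section Restrict

variable {V : Type*} [AddCommGroup V] [Module F V]

theorem aeval_restrict_apply (f : Module.End F V) (W : Submodule F V) (hW : ∀ v ∈ W, f v ∈ W)
    (P : F[X]) (w : W) : ((aeval (f.restrict hW) P w : W) : V) = aeval f P (w : V) :=
  aeval_intertwine W.subtype (f.restrict hW) f (fun _ => rfl) P w

theorem aeval_mem_of_invariant (f : Module.End F V) (W : Submodule F V) (hW : W.map f ≤ W)
    (P : F[X]) (v : V) (hv : v ∈ W) : aeval f P v ∈ W := by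
  have hW' : ∀ v ∈ W, f v ∈ W := fun v hv => hW ⟨v, hv, rfl⟩
  have := aeval_restrict_apply f W hW' P ⟨v, hv⟩
  rw [← this]
  exact Subtype.property _

theorem aeval_restrict_eq_zero (f : Module.End F V) (W : Submodule F V) (hW : ∀ v ∈ W, f v ∈ W)
    (P : F[X]) (hP : ∀ v ∈ W, aeval f P v = 0) : aeval (f.restrict hW) P = 0 := by
  ext w
  rw [aeval_restrict_apply, hP _ w.2]
  rfl

/-- a subspace of each dimension at most `finrank` exists -/
theorem exists_submodule_finrank_eq [FiniteDimensional F V] (k : ℕ)
    (hk : k ≤ Module.finrank F V) : ∃ W : Submodule F V, Module.finrank F W = k := by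
  let b := Module.finBasis F V
  have hli : LinearIndependent F (fun j : Fin k => b (Fin.castLE hk j)) :=
    b.linearIndependent.comp _ (Fin.castLE_injective hk)
  refine ⟨Submodule.span F (Set.range (fun j : Fin k => b (Fin.castLE hk j))), ?_⟩
  rw [finrank_span_eq_card hli, Fintype.card_fin]

/-- a subspace of each dimension at most `finrank U` exists inside `U` -/
theorem exists_submodule_le_finrank_eq [FiniteDimensional F V] (U : Submodule F V) (k : ℕ)
    (hk : k ≤ Module.finrank F U) : ∃ W : Submodule F V, W ≤ U ∧ Module.finrank F W = k := by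
  obtain ⟨W', hW'⟩ := exists_submodule_finrank_eq (V := U) k hk
  refine ⟨W'.map U.subtype, ?_, ?_⟩
  · rintro _ ⟨w, _, rfl⟩
    exact w.2
  · rw [Submodule.finrank_map_subtype_eq, hW']

end Restrict

end Basic

end Cfsg.Agent.S5949P
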