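import Mathlib

set_option autoImplicit false
set_option linter.style.haveILetI false

/-! S5949 piece IRR: a finite-dimensional vector space `V` with an endomorphism `f` annihilated by an
irreducible polynomial `g` is a vector space over `K = F[X]/(g)`; consequences for dimensions of
invariant subspaces and for the determinant of `f`. -/

namespace Cfsg.Agent.S5949P

open Polynomial

namespace IRR

section General

variable {F K V : Type*} [Field F] [Field K] [Algebra F K] [AddCommGroup V] [Module F V]
  [Module K V] [IsScalarTower F K V]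

/-- an `f`-invariant `F`-subspace is a `K`-subspace when `f` is multiplication by a generator -/
theorem smul_mem_of_invariant (pb : PowerBasis F K) (f : Module.End F V)
    (hf : ∀ v, f v = pb.gen • v) (W : Submodule F V) (hW : W.map f ≤ W) (k : K) (v : V)
    (hv : v ∈ W) : k • v ∈ W := by
  let S : Subalgebra F K :=
    { carrier := {k | ∀ v ∈ W, k • v ∈ W}
      mul_mem' := by
        intro a b ha hb v hv
        rw [mul_smul]
        exact ha _ (hb v hv)
      one_mem' := by
        intro v hv
        rw [one_smul]; exact hv
      add_mem' := by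
        intro a b ha hb v hv
        rw [add_smul]
        exact W.add_mem (ha v hv) (hb v hv)
      zero_mem' := by
        intro v hv
        rw [zero_smul]; exact W.zero_mem
      algebraMap_mem' := by
        intro a v hv
        rw [algebraMap_smul]
        exact W.smul_mem a hv }
  have hgen : pb.gen ∈ S := by
    intro v hv
    rw [← hf v]
    exact hW ⟨v, hv, rfl⟩
  have htop : Algebra.adjoin F {pb.gen} ≤ S := Algebra.adjoin_le (by
    intro x hx
    rw [Set.mem_singleton_iff] at hx
    rw [hx]; exact hgen)
  rw [pb.adjoin_gen_eq_top] at htop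
  exact htop (Algebra.mem_top : k ∈ ⊤) v hv

/-- the `K`-subspace attached to an invariant `F`-subspace -/
def toK (pb : PowerBasis F K) (f : Module.End F V)
    (hf : ∀ v, f v = pb.gen • v) (W : Submodule F V) (hW : W.map f ≤ W) : Submodule K V :=
  { carrier := W
    add_mem' := fun ha hb => W.add_mem ha hb
    zero_mem' := W.zero_mem
    smul_mem' := fun k v hv => smul_mem_of_invariant pb f hf W hW k v hv }

theorem finrank_restrict [FiniteDimensional F V] (pb : PowerBasis F K) (W' : Submodule K V) :
    Module.finrank F ↥(W'.restrictScalars F) = pb.dim * Module.finrank K W' := by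
  haveI : Module.Finite F K := pb.finite
  haveI : Module.Finite K V := Module.Finite.of_restrictScalars_finite F K V
  have h1 : Module.finrank F K * Module.finrank K W' = Module.finrank F W' :=
    Module.finrank_mul_finrank F K W'
  rw [pb.finrank] at h1
  rw [h1]
  exact LinearEquiv.finrank_eq
    { toFun := fun w => ⟨w.1, w.2⟩
      invFun := fun w => ⟨w.1, w.2⟩
      map_add' := fun _ _ => rfl
      map_smul' := fun _ _ => rfl
      left_inv := fun _ => rfl
      right_inv := fun _ => rfl }

theorem general [FiniteDimensional F V] (pb : PowerBasis F K) (f : Module.End F V)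
    (hf : ∀ v, f v = pb.gen • v) :
    pb.dim ∣ Module.finrank F V ∧
    (∀ W : Submodule F V, W.map f ≤ W → pb.dim ∣ Module.finrank F W) ∧
    (∀ k : ℕ, k * pb.dim ≤ Module.finrank F V →
      ∃ W : Submodule F V, W.map f ≤ W ∧ Module.finrank F W = k * pb.dim) ∧
    LinearMap.det f =
      ((-1) ^ pb.dim * (minpoly F pb.gen).coeff 0) ^ (Module.finrank F V / pb.dim) := by
  haveI : Module.Finite F K := pb.finite
  haveI : Module.Finite K V := Module.Finite.of_restrictScalars_finite F K V
  have hdim : pb.dim * Module.finrank K V = Module.finrank F V := by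
    have := Module.finrank_mul_finrank F K V
    rw [pb.finrank] at this
    exact this
  have hdpos : 0 < pb.dim := pb.dim_pos
  refine ⟨⟨_, hdim.symm⟩, ?_, ?_, ?_⟩
  · intro W hW
    have h := finrank_restrict pb (toK pb f hf W hW)
    have he : (toK pb f hf W hW).restrictScalars F = W := by
      ext v; rfl
    rw [he] at h
    exact ⟨_, h⟩
  · intro k hk
    have hk' : k ≤ Module.finrank K V := by
      rw [← hdim, mul_comm] at hk
      exact Nat.le_of_mul_le_mul_left hk hdpos
    obtain ⟨W', hW'⟩ : ∃ W' : Submodule K V, Module.finrank K W' = k := by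
      let b := Module.finBasis K V
      have hli : LinearIndependent K (fun j : Fin k => b (Fin.castLE hk' j)) :=
        b.linearIndependent.comp _ (Fin.castLE_injective hk')
      refine ⟨Submodule.span K (Set.range (fun j : Fin k => b (Fin.castLE hk' j))), ?_⟩
      rw [finrank_span_eq_card hli, Fintype.card_fin]
    refine ⟨W'.restrictScalars F, ?_, ?_⟩
    · rintro _ ⟨v, hv, rfl⟩
      rw [hf v]
      exact W'.smul_mem _ hv
    · rw [finrank_restrict pb W', hW', mul_comm]
  · have hfK : ((pb.gen • (LinearMap.id : V →ₗ[K] V)).restrictScalars F) = f := by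
      ext v
      simp [hf v]
    rw [← hfK, LinearMap.det_restrictScalars, LinearMap.det_smul, LinearMap.det_id, mul_one,
      map_pow, Algebra.PowerBasis.norm_gen_eq_coeff_zero_minpoly]
    congr 1
    rw [← hdim, Nat.mul_div_cancel_left _ hdpos]

end General

section Adjoin

variable {F V : Type*} [Field F] [AddCommGroup V] [Module F V]

/-- the algebra homomorphism `F[X]/(g) → End V` -/
noncomputable def phi (f : Module.End F V) (g : F[X]) (hgf : aeval f g = 0) :
    AdjoinRoot g →ₐ[F] Module.End F V :=
  Ideal.Quotient.liftₐ (Ideal.span {g}) (aeval f) (by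
    intro a ha
    obtain ⟨y, rfl⟩ := Ideal.mem_span_singleton.1 ha
    rw [map_mul, hgf, zero_mul])

theorem phi_root (f : Module.End F V) (g : F[X]) (hgf : aeval f g = 0) :
    phi f g hgf (AdjoinRoot.root g) = f := by
  have h : phi f g hgf (AdjoinRoot.mk g X) = aeval f X :=
    Ideal.Quotient.lift_mk _ _ _
  rw [aeval_X] at h
  exact h

end Adjoin

end IRR

/-- IRR: a vector space annihilated by an irreducible polynomial in `f` -/
theorem irr_module {F V : Type*} [Field F] [AddCommGroup V] [Module F V] [FiniteDimensional F V]
    (f : Module.End F V) (g : F[X]) (hg : Irreducible g) (hmon : g.Monic) (hgf : aeval f g = 0) :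
    g.natDegree ∣ Module.finrank F V ∧
    (∀ W : Submodule F V, W.map f ≤ W → g.natDegree ∣ Module.finrank F W) ∧
    (∀ k : ℕ, k * g.natDegree ≤ Module.finrank F V →
      ∃ W : Submodule F V, W.map f ≤ W ∧ Module.finrank F W = k * g.natDegree) ∧
    LinearMap.det f = ((-1) ^ g.natDegree * g.coeff 0) ^ (Module.finrank F V / g.natDegree) := by
  haveI : Fact (Irreducible g) := ⟨hg⟩
  letI : Module (AdjoinRoot g) V := Module.compHom V (IRR.phi f g hgf).toRingHom
  have hsmul : ∀ (k : AdjoinRoot g) (v : V), k • v = IRR.phi f g hgf k v := fun _ _ => rfl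
  haveI : IsScalarTower F (AdjoinRoot g) V := ⟨by
    intro a k v
    rw [hsmul, hsmul, map_smul, LinearMap.smul_apply]⟩
  have hg0 : g ≠ 0 := hg.ne_zero
  have h := IRR.general (AdjoinRoot.powerBasis hg0) f (by
    intro v
    rw [AdjoinRoot.powerBasis_gen, hsmul, IRR.phi_root])
  rw [AdjoinRoot.powerBasis_dim, AdjoinRoot.minpoly_powerBasis_gen_of_monic hmon] at h
  exact h

end Cfsg.Agent.S5949P
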