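import Mathlib
import Cfsg.Agent.Helper21.S5949Basic
import Cfsg.Agent.Helper28.S5949CHAIN
import Cfsg.Agent.Helper17.S5949DEG

set_option autoImplicit false
set_option linter.style.haveILetI false

/-! S5949 piece CYCMAIN: structure of an endomorphism `f` with `f ^ r = 1` over a finite field of
characteristic different from `r`: dimensions of invariant subspaces. -/

namespace Cfsg.Agent.S5949P

open Polynomial

namespace CYC

variable {F V : Type*} [Field F] [Fintype F] [AddCommGroup V] [Module F V] [FiniteDimensional F V]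
  {p : ℕ} [Fact p.Prime] [CharP F p]

omit [Fintype F] in
theorem coprime (r : ℕ) [hr : Fact r.Prime] (hrp : r ≠ p) :
    IsCoprime (X - C (1 : F)) (cyclotomic r F) := by
  have hirr : Irreducible (X - C (1 : F)) := irreducible_X_sub_C 1
  rw [hirr.coprime_iff_not_dvd, dvd_iff_isRoot, IsRoot.def, eval_one_cyclotomic_prime]
  intro h0
  have hdvd : p ∣ r := (CharP.cast_eq_zero_iff F p r).1 h0
  exact hrp ((Nat.prime_dvd_prime_iff_eq (Fact.out : p.Prime) hr.out).1 hdvd).symm

omit [Fintype F] [FiniteDimensional F V] in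
theorem aeval_X_sub_one (f : Module.End F V) : aeval f (X - C (1 : F)) = f - 1 := by
  rw [map_sub, aeval_X, aeval_C, map_one]

omit [Fintype F] [FiniteDimensional F V] in
theorem decomp (r : ℕ) [Fact r.Prime] (hrp : r ≠ p) (f : Module.End F V) (hf : f ^ r = 1) :
    IsCompl (LinearMap.ker (f - 1)) (LinearMap.ker (aeval f (cyclotomic r F))) := by
  rw [← aeval_X_sub_one]
  refine ⟨disjoint_ker_aeval_of_isCoprime f (coprime r hrp), ?_⟩
  rw [codisjoint_iff, sup_ker_aeval_eq_ker_aeval_mul_of_coprime f (coprime r hrp)]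
  have h : (X - C (1 : F)) * cyclotomic r F = X ^ r - 1 := by
    rw [mul_comm, C_1]; exact cyclotomic_prime_mul_X_sub_one F r
  rw [h, map_sub, map_pow, aeval_X, map_one, hf, sub_self, LinearMap.ker_zero]

omit [Fintype F] [FiniteDimensional F V] [Fact p.Prime] [CharP F p] in
theorem ker_invariant (f : Module.End F V) (P : F[X]) :
    ∀ v ∈ LinearMap.ker (aeval f P), f v ∈ LinearMap.ker (aeval f P) := by
  intro v hv
  rw [LinearMap.mem_ker] at hv ⊢
  rw [← Basic.aeval_intertwine f f f (fun _ => rfl) P v, hv, map_zero]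

theorem finrank_ker_dvd (r : ℕ) [Fact r.Prime] (hrp : r ≠ p) (f : Module.End F V) :
    orderOf ((Fintype.card F : ℕ) : ZMod r) ∣
      Module.finrank F (LinearMap.ker (aeval f (cyclotomic r F))) := by
  have h0 : aeval (f.restrict (ker_invariant f (cyclotomic r F))) (cyclotomic r F) = 0 :=
    Basic.aeval_restrict_eq_zero f _ _ _ (fun v hv => LinearMap.mem_ker.1 hv)
  exact (chain_invariant (f.restrict (ker_invariant f (cyclotomic r F))) (cyclotomic r F) h0
    (orderOf ((Fintype.card F : ℕ) : ZMod r))
    (fun μ hμ hdvd => natDegree_of_dvd_cyclotomic r hrp μ hμ hdvd)).1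

omit [Fintype F] in
theorem finrank_add (r : ℕ) [Fact r.Prime] (hrp : r ≠ p) (f : Module.End F V) (hf : f ^ r = 1) :
    Module.finrank F (LinearMap.ker (f - 1)) +
      Module.finrank F (LinearMap.ker (aeval f (cyclotomic r F))) = Module.finrank F V :=
  Submodule.finrank_add_eq_of_isCompl (decomp r hrp f hf)

end CYC

/-- CYCMAIN -/
theorem cyc_main {F V : Type*} [Field F] [Fintype F] [AddCommGroup V] [Module F V]
    [FiniteDimensional F V] {p : ℕ} [Fact p.Prime] [CharP F p] (r : ℕ) [Fact r.Prime] (hrp : r ≠ p)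
    (f : Module.End F V) (hf : f ^ r = 1) :
    orderOf ((Fintype.card F : ℕ) : ZMod r) ∣
      Module.finrank F V - Module.finrank F (LinearMap.ker (f - 1)) ∧
    (∀ W : Submodule F V, W.map f ≤ W → ∃ a' b' : ℕ,
      a' ≤ Module.finrank F (LinearMap.ker (f - 1)) ∧
      Module.finrank F W = a' + orderOf ((Fintype.card F : ℕ) : ZMod r) * b') ∧
    (∀ a' b' : ℕ, a' ≤ Module.finrank F (LinearMap.ker (f - 1)) →
      Module.finrank F (LinearMap.ker (f - 1)) + orderOf ((Fintype.card F : ℕ) : ZMod r) * b' ≤
        Module.finrank F V →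
      ∃ W : Submodule F V, W.map f ≤ W ∧
        Module.finrank F W = a' + orderOf ((Fintype.card F : ℕ) : ZMod r) * b') := by
  obtain ⟨i, hi⟩ : ∃ i : ℕ, i = orderOf ((Fintype.card F : ℕ) : ZMod r) := ⟨_, rfl⟩
  rw [← hi]
  have hadd := CYC.finrank_add r hrp f hf
  have hdvd := CYC.finrank_ker_dvd r hrp f
  rw [← hi] at hdvd
  refine ⟨?_, ?_, ?_⟩
  · have : Module.finrank F V - Module.finrank F (LinearMap.ker (f - 1)) =
        Module.finrank F (LinearMap.ker (aeval f (cyclotomic r F))) := by omega
    rw [this]; exact hdvd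
  · intro W hW
    have hW' : ∀ v ∈ W, f v ∈ W := fun v hv => hW ⟨v, hv, rfl⟩
    have hfW : (f.restrict hW') ^ r = 1 := by
      ext w
      have := Basic.pow_intertwine W.subtype (f.restrict hW') f (fun _ => rfl) r w
      rw [hf] at this
      exact this
    have haddW := CYC.finrank_add r hrp (f.restrict hW') hfW
    have hdvdW := CYC.finrank_ker_dvd r hrp (f.restrict hW')
    rw [← hi] at hdvdW
    obtain ⟨b', hb'⟩ := hdvdW
    refine ⟨Module.finrank F (LinearMap.ker (f.restrict hW' - 1)), b', ?_, ?_⟩
    · -- injection of the fixed space of the restriction into the fixed space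
      let g : LinearMap.ker (f.restrict hW' - 1) →ₗ[F] LinearMap.ker (f - 1) :=
        LinearMap.codRestrict _ (W.subtype ∘ₗ (LinearMap.ker (f.restrict hW' - 1)).subtype) (by
          intro w
          have hw := w.2
          rw [LinearMap.mem_ker, LinearMap.sub_apply, sub_eq_zero] at hw ⊢
          have := congrArg Subtype.val hw
          exact this)
      have hg : Function.Injective g := by
        intro w₁ w₂ h
        have := congrArg Subtype.val h
        exact Subtype.ext (Subtype.ext this)
      exact LinearMap.finrank_le_finrank_of_injective hg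
    · rw [← haddW, hb']
  · intro a' b' ha' hb'
    have hb'' : b' * i ≤ Module.finrank F (LinearMap.ker (aeval f (cyclotomic r F))) := by
      rw [mul_comm]; omega
    have h0 : aeval (f.restrict (CYC.ker_invariant f (cyclotomic r F))) (cyclotomic r F) = 0 :=
      Basic.aeval_restrict_eq_zero f _ _ _ (fun v hv => LinearMap.mem_ker.1 hv)
    obtain ⟨W2', hW2inv, hW2dim⟩ :=
      (chain_invariant (f.restrict (CYC.ker_invariant f (cyclotomic r F))) (cyclotomic r F) h0
        i (fun μ hμ hdvd => by
          rw [hi]; exact natDegree_of_dvd_cyclotomic r hrp μ hμ hdvd)).2.2 b' hb''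
    obtain ⟨W1, hW1le, hW1dim⟩ := Basic.exists_submodule_le_finrank_eq (LinearMap.ker (f - 1)) a' ha'
    set W2 := W2'.map (LinearMap.ker (aeval f (cyclotomic r F))).subtype with hW2
    have hW2le : W2 ≤ LinearMap.ker (aeval f (cyclotomic r F)) := by
      rintro _ ⟨w, _, rfl⟩
      exact w.2
    have hW2dim' : Module.finrank F W2 = b' * i := by
      rw [hW2, Submodule.finrank_map_subtype_eq, hW2dim]
    have hdisj : W1 ⊓ W2 = ⊥ := by
      have := (CYC.decomp r hrp f hf).disjoint
      exact (this.mono hW1le hW2le).eq_bot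
    refine ⟨W1 ⊔ W2, ?_, ?_⟩
    · rw [Submodule.map_sup]
      apply sup_le_sup
      · rintro _ ⟨v, hv, rfl⟩
        have := hW1le hv
        rw [LinearMap.mem_ker, LinearMap.sub_apply, sub_eq_zero] at this
        rw [this]; exact hv
      · rintro _ ⟨_, ⟨w, hw, rfl⟩, rfl⟩
        exact ⟨_, hW2inv ⟨w, hw, rfl⟩, rfl⟩
    · have := Submodule.finrank_sup_add_finrank_inf_eq W1 W2
      rw [hdisj, finrank_bot, add_zero, hW1dim, hW2dim'] at this
      rw [this, mul_comm]

end Cfsg.Agent.S5949P
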