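import Mathlib

set_option autoImplicit false

/-! S5950 piece J-SEMI: an endomorphism `f` with `f ^ r = c`, `c ≠ 0`, `r ≠ 0` in `F` is semisimple:
invariant subspaces have invariant complements. -/

namespace Cfsg.Agent.S5949P

open Polynomial

/-- J-SEMI -/
theorem exists_invariant_compl {F V : Type*} [Field F] [AddCommGroup V] [Module F V]
    [FiniteDimensional F V] (f : Module.End F V) (r : ℕ) (c : F) (hc : c ≠ 0) (hr : (r : F) ≠ 0)
    (hf : f ^ r = c • (1 : Module.End F V)) (U : Submodule F V) (hU : U.map f ≤ U) :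
    ∃ W : Submodule F V, IsCompl U W ∧ W.map f ≤ W := by
  have hsep : (X ^ r - C c : F[X]).Separable := separable_X_pow_sub_C c hr hc
  have hae : aeval f (X ^ r - C c : F[X]) = 0 := by
    rw [map_sub, map_pow, aeval_X, aeval_C, hf, Algebra.algebraMap_eq_smul_one, sub_self]
  have hss : f.IsSemisimple :=
    Module.End.isSemisimple_of_squarefree_aeval_eq_zero hsep.squarefree hae
  rw [Module.End.isSemisimple_iff] at hss
  obtain ⟨W, hW, hUW⟩ := hss U ((Module.End.mem_invtSubmodule_iff_map_le f).2 hU)
  exact ⟨W, hUW, (Module.End.mem_invtSubmodule_iff_map_le f).1 hW⟩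

end Cfsg.Agent.S5949P
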