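import Mathlib
import Cfsg.Agent.Helper21.S5949IRR

set_option autoImplicit false
set_option linter.style.haveILetI false

/-! S5958 piece FREE: a finite-dimensional vector space `V` with an endomorphism `f` annihilated by
an irreducible polynomial `g` has a basis of the form `f ^ i (w j)`, `i < deg g`. -/

namespace Cfsg.Agent.S5958P

open Polynomial Cfsg.Agent.S5949P

/-- FREE -/
theorem free_of_irreducible {F V : Type*} [Field F] [AddCommGroup V] [Module F V]
    [FiniteDimensional F V] (f : Module.End F V) (g : F[X]) (hg : Irreducible g)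
    (hgf : aeval f g = 0) :
    ∃ (s : ℕ) (b : Module.Basis (Fin g.natDegree × Fin s) F V) (w : Fin s → V),
      ∀ i j, b (i, j) = (f ^ (i : ℕ)) (w j) := by
  haveI : Fact (Irreducible g) := ⟨hg⟩
  letI : Module (AdjoinRoot g) V := Module.compHom V (IRR.phi f g hgf).toRingHom
  have hsmul : ∀ (k : AdjoinRoot g) (v : V), k • v = IRR.phi f g hgf k v := fun _ _ => rfl
  haveI : IsScalarTower F (AdjoinRoot g) V := ⟨by
    intro a k v
    rw [hsmul, hsmul, map_smul, LinearMap.smul_apply]⟩
  have hg0 : g ≠ 0 := hg.ne_zero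
  let pb := AdjoinRoot.powerBasis hg0
  haveI : Module.Finite F (AdjoinRoot g) := pb.finite
  haveI : Module.Finite (AdjoinRoot g) V := Module.Finite.of_restrictScalars_finite F _ V
  let cb := Module.finBasis (AdjoinRoot g) V
  have hdim : pb.dim = g.natDegree := AdjoinRoot.powerBasis_dim hg0
  refine ⟨Module.finrank (AdjoinRoot g) V,
    (pb.basis.smulTower cb).reindex ((finCongr hdim).prodCongr (Equiv.refl _)),
    fun j => cb j, ?_⟩
  intro i j
  rw [Module.Basis.reindex_apply, Module.Basis.smulTower_apply]
  simp only [Equiv.prodCongr_symm, Equiv.prodCongr_apply, Prod.map_fst, Prod.map_snd,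
    Equiv.refl_symm, Equiv.refl_apply]
  rw [PowerBasis.coe_basis, AdjoinRoot.powerBasis_gen, hsmul, map_pow, IRR.phi_root]
  rfl

end Cfsg.Agent.S5958P
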