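import Mathlib
import Cfsg.Agent.Helper2.ONsD
import Cfsg.Agent.Helper13.Discr

set_option autoImplicit false
set_option linter.unusedSectionVars false

/-! Quadratic spaces over finite fields: the type (`Plus` = maximal Witt index), isometry of
spaces of the same dimension and type, number of singular vectors. -/

namespace Cfsg.Agent.Helper21.OC

open Module Matrix Cfsg.Agent.Helper28.Spin Cfsg.Agent.Helper2.OInv

universe u

section adjust

variable {F : Type*} [Field F] [Fintype F]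

/-- odd characteristic: change of the anisotropic part of a minus form -/
theorem minus_adjust_odd (h2 : (2 : F) ≠ 0) (k : ℕ) {a b ζ : F} (hab : Cfsg.Agent.Helper2.Quad.Aniso a b)
    (hζ : ∀ t : F, t ^ 2 + t + ζ ≠ 0) :
    ∃ g : ((Fin k ⊕ Fin k) ⊕ Fin 2 → F) ≃ₗ[F] ((Fin k ⊕ Fin k) ⊕ Fin 2 → F),
      ∀ w, QfMinus k F a b (g w) = QfMinus k F 1 ζ w := by
  have h4 : (4 : F) ≠ 0 := by
    have : (4 : F) = 2 * 2 := by norm_num
    rw [this]
    exact mul_ne_zero h2 h2
  -- the two discriminants are non-squares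
  have hd1 : ¬ IsSquare (a ^ 2 - 4 * b) := by
    rintro ⟨s, hs⟩
    have h1 := hab ((-a + s) / 2) 1 (by
      field_simp
      linear_combination -hs)
    exact one_ne_zero h1.2
  have hd2 : ¬ IsSquare (1 - 4 * ζ) := by
    rintro ⟨s, hs⟩
    apply hζ ((-1 + s) / 2)
    field_simp
    linear_combination -hs
  have hd20 : (1 - 4 * ζ) ≠ 0 := by
    intro h
    exact hd2 ⟨0, by rw [h]; ring⟩
  have hd10 : (a ^ 2 - 4 * b) ≠ 0 := by
    intro h
    exact hd1 ⟨0, by rw [h]; ring⟩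
  obtain ⟨s, hs⟩ := (Cfsg.Agent.Helper13.isSquare_mul_nonsquare_iff hd20 hd1).2 hd2
  -- μ² (a² - 4b) = 1 - 4ζ
  obtain ⟨μ, hμ⟩ : ∃ μ : F, μ ^ 2 * (a ^ 2 - 4 * b) = 1 - 4 * ζ :=
    ⟨(1 - 4 * ζ) / s, by
      have hs0 : s ≠ 0 := by
        rintro rfl
        rw [mul_zero] at hs
        exact mul_ne_zero hd20 hd10 hs
      rw [div_pow, div_mul_eq_mul_div, div_eq_iff (pow_ne_zero 2 hs0)]
      linear_combination (1 - 4 * ζ) * hs⟩
  have hμ0 : μ ≠ 0 := by
    rintro rfl
    apply hd20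
    rw [← hμ]
    ring
  obtain ⟨lam, hlam⟩ : ∃ lam : F, 2 * lam + a * μ = 1 := ⟨(1 - a * μ) / 2, by field_simp; ring⟩
  obtain ⟨M, hM⟩ : ∃ M : Matrix (Fin 2) (Fin 2) F, M = !![1, lam; 0, μ] := ⟨_, rfl⟩
  obtain ⟨M', hM'⟩ : ∃ M' : Matrix (Fin 2) (Fin 2) F, M' = !![1, -lam * μ⁻¹; 0, μ⁻¹] := ⟨_, rfl⟩
  have hMM' : M * M' = 1 := by
    rw [hM, hM']
    ext i j
    fin_cases i <;> fin_cases j <;> simp [Matrix.mul_apply, Fin.sum_univ_two, hμ0]
  have hM'M : M' * M = 1 := by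
    rw [hM, hM']
    ext i j
    fin_cases i <;> fin_cases j <;> simp [Matrix.mul_apply, Fin.sum_univ_two, hμ0]
  have hbin : ∀ z : Fin 2 → F, bin F a b (M *ᵥ z) = bin F 1 ζ z := by
    intro z
    have e0 : (M *ᵥ z) 0 = z 0 + lam * z 1 := by
      rw [hM]; simp [Matrix.mulVec, dotProduct, Fin.sum_univ_two]
    have e1 : (M *ᵥ z) 1 = μ * z 1 := by
      rw [hM]; simp [Matrix.mulVec, dotProduct, Fin.sum_univ_two]
    unfold bin
    rw [e0, e1]
    have hq : lam ^ 2 + a * lam * μ + b * μ ^ 2 = ζ := by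
      have : 4 * (lam ^ 2 + a * lam * μ + b * μ ^ 2) = 4 * ζ := by
        linear_combination (2 * lam + a * μ + 1) * hlam - hμ
      exact mul_left_cancel₀ h4 this
    linear_combination (z 0 * z 1) * hlam + (z 1 ^ 2) * hq
  have hT1 : blk F k 1 M * blk F k 1 M' = 1 := by
    unfold blk
    rw [fromBlocks_multiply]
    simp [hMM', fromBlocks_one]
  have hT2 : blk F k 1 M' * blk F k 1 M = 1 := by
    unfold blk
    rw [fromBlocks_multiply]
    simp [hM'M, fromBlocks_one]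
  refine ⟨LinearEquiv.ofLinearMap (Matrix.toLin' (blk F k 1 M)) (Matrix.toLin' (blk F k 1 M'))
    (by rw [← Matrix.toLin'_mul, hT1, Matrix.toLin'_one])
    (by rw [← Matrix.toLin'_mul, hT2, Matrix.toLin'_one]), ?_⟩
  intro w
  show QfMinus k F a b (Matrix.toLin' (blk F k 1 M) w) = _
  rw [Matrix.toLin'_apply, Qm_split, Qm_split, blk_mulVec_inl, blk_mulVec_inr, one_mulVec, hbin]

/-- all characteristics: change of the anisotropic part of a minus form -/
theorem minus_adjust_gen (k : ℕ) {a b ζ : F} (hab : Cfsg.Agent.Helper2.Quad.Aniso a b)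
    (hζ : ∀ t : F, t ^ 2 + t + ζ ≠ 0) :
    ∃ g : ((Fin k ⊕ Fin k) ⊕ Fin 2 → F) ≃ₗ[F] ((Fin k ⊕ Fin k) ⊕ Fin 2 → F),
      ∀ w, QfMinus k F a b (g w) = QfMinus k F 1 ζ w := by
  by_cases h2 : (2 : F) = 0
  · exact Cfsg.Agent.Helper2.ONs.minus_adjust h2 k hab hζ
  · exact minus_adjust_odd h2 k hab hζ

end adjust

section plus

variable {F : Type*} [Field F] {V : Type*} [AddCommGroup V] [Module F V]
  {V₂ : Type*} [AddCommGroup V₂] [Module F V₂]

/-- maximal Witt index: a totally singular subspace of half the dimension -/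
def Plus (Q : QuadraticForm F V) : Prop :=
  ∃ T : Submodule F V, (∀ v ∈ T, Q v = 0) ∧ 2 * finrank F T = finrank F V

theorem Plus.of_equiv {Q : QuadraticForm F V} {Q₂ : QuadraticForm F V₂} (e : V ≃ₗ[F] V₂)
    (he : ∀ v, Q₂ (e v) = Q v) (h : Plus Q₂) : Plus Q := by
  obtain ⟨T, hT, hd⟩ := h
  refine ⟨T.map (e.symm : V₂ →ₗ[F] V), ?_, ?_⟩
  · rintro _ ⟨w, hw, rfl⟩
    rw [← he]
    simp only [LinearEquiv.coe_coe, LinearEquiv.apply_symm_apply]
    exact hT w hw
  · rw [LinearEquiv.finrank_map_eq, hd, e.finrank_eq]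

theorem Plus.of_equiv_fun {Q : QuadraticForm F V} {Q₂ : V₂ → F} {Q₂' : QuadraticForm F V₂}
    (hQ₂ : ⇑Q₂' = Q₂) (e : V ≃ₗ[F] V₂)
    (he : ∀ v, Q₂ (e v) = Q v) (h : Plus Q₂') : Plus Q := by
  apply Plus.of_equiv e _ h
  intro v
  rw [hQ₂]
  exact he v

theorem plus_QfPlus (m : ℕ) : Plus (QfPlus m F) := by
  refine ⟨Cfsg.Agent.Helper28.QPlus.E m F, ?_, ?_⟩
  · intro v hv
    exact Cfsg.Agent.Helper28.QPlus.Q_E v hv
  · rw [Cfsg.Agent.Helper28.QPlus.finrank_E, Module.finrank_fintype_fun_eq_card,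
      Fintype.card_sum, Fintype.card_fin]
    ring

end plus

section iso

variable {F : Type*} [Field F] [Fintype F] {V : Type*} [AddCommGroup V] [Module F V]
  [FiniteDimensional F V] {V₂ : Type*} [AddCommGroup V₂] [Module F V₂] [FiniteDimensional F V₂]

/-- a space of Plus type is the standard plus form in coordinates -/
theorem exists_equiv_plus {m : ℕ} (hV : finrank F V = 2 * m) (Q : QuadraticForm F V)
    (hQ : (QuadraticMap.polarBilin Q).Nondegenerate) (hp : Plus Q) :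
    ∃ g : V ≃ₗ[F] (Fin m ⊕ Fin m → F), ∀ v, QfPlus m F (g v) = Q v := by
  obtain ⟨T, hT, hd⟩ := hp
  exact Cfsg.Agent.Helper13.exists_isometry_plus hV Q hQ T hT (by omega)

/-- a space not of Plus type is any prescribed minus form in coordinates -/
theorem exists_equiv_minus {m : ℕ} (hm : 1 ≤ m) (hV : finrank F V = 2 * m) (Q : QuadraticForm F V)
    (hQ : (QuadraticMap.polarBilin Q).Nondegenerate) (hp : ¬ Plus Q) {a b : F}
    (hab : Cfsg.Agent.Helper2.Quad.Aniso a b) :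
    ∃ g : V ≃ₗ[F] ((Fin (m - 1) ⊕ Fin (m - 1)) ⊕ Fin 2 → F),
      ∀ v, QfMinus (m - 1) F a b (g v) = Q v := by
  rcases Cfsg.Agent.Helper2.ONs.isometry_dichotomy hm hV Q hQ with ⟨g, hg⟩ | ⟨ζ, hζ, g, hg⟩
  · exfalso
    exact hp (Plus.of_equiv g (fun v => hg v) (plus_QfPlus m))
  · obtain ⟨h, hh⟩ := minus_adjust_gen (m - 1) hab hζ
    refine ⟨g.trans h, ?_⟩
    intro v
    rw [LinearEquiv.trans_apply, hh]
    exact hg v

/-- existence of an anisotropic binary form -/
theorem exists_irr : ∃ ζ : F, ∀ t : F, t ^ 2 + t + ζ ≠ 0 := by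
  classical
  by_contra hcon
  push Not at hcon
  -- then `t ↦ -(t^2+t)` is surjective, hence injective; but `0` and `-1` have the same image
  have hsurj : Function.Surjective (fun t : F => -(t ^ 2 + t)) := by
    intro ζ
    obtain ⟨t, ht⟩ := hcon ζ
    exact ⟨t, by show -(t ^ 2 + t) = ζ; linear_combination (-1 : F) * ht⟩
  have hinj := (Finite.injective_iff_surjective).2 hsurj
  have h1 : (0 : F) = -1 := by
    apply hinj
    show -((0 : F) ^ 2 + 0) = -((-1 : F) ^ 2 + -1)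
    ring
  have : (1 : F) = 0 := by linear_combination h1
  exact one_ne_zero this

theorem aniso_of_irr {ζ : F} (hζ : ∀ t : F, t ^ 2 + t + ζ ≠ 0) :
    Cfsg.Agent.Helper2.Quad.Aniso 1 ζ := by
  intro x y hxy
  by_cases hy : y = 0
  · rw [hy] at hxy
    have : x ^ 2 = 0 := by linear_combination hxy
    exact ⟨pow_eq_zero_iff (two_ne_zero) |>.mp this, hy⟩
  · exfalso
    apply hζ (x / y)
    field_simp
    linear_combination hxy

/-- two nondegenerate quadratic spaces of the same even dimension and the same type are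
isometric -/
theorem exists_isometry_of_plus_iff {m : ℕ} (hm : 1 ≤ m) (hV : finrank F V = 2 * m)
    (hV₂ : finrank F V₂ = 2 * m) (Q : QuadraticForm F V) (Q₂ : QuadraticForm F V₂)
    (hQ : (QuadraticMap.polarBilin Q).Nondegenerate)
    (hQ₂ : (QuadraticMap.polarBilin Q₂).Nondegenerate) (hp : Plus Q ↔ Plus Q₂) :
    ∃ e : V ≃ₗ[F] V₂, ∀ v, Q₂ (e v) = Q v := by
  by_cases h : Plus Q
  · obtain ⟨g, hg⟩ := exists_equiv_plus hV Q hQ h
    obtain ⟨g₂, hg₂⟩ := exists_equiv_plus hV₂ Q₂ hQ₂ (hp.1 h)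
    refine ⟨g.trans g₂.symm, fun v => ?_⟩
    rw [LinearEquiv.trans_apply, ← hg₂, LinearEquiv.apply_symm_apply, hg]
  · obtain ⟨ζ, hζ⟩ := exists_irr (F := F)
    obtain ⟨g, hg⟩ := exists_equiv_minus hm hV Q hQ h (aniso_of_irr hζ)
    obtain ⟨g₂, hg₂⟩ := exists_equiv_minus hm hV₂ Q₂ hQ₂ (fun h' => h (hp.2 h')) (aniso_of_irr hζ)
    refine ⟨g.trans g₂.symm, fun v => ?_⟩
    rw [LinearEquiv.trans_apply, ← hg₂, LinearEquiv.apply_symm_apply, hg]

end iso

section count

variable {F : Type*} [Field F] [Fintype F] {V : Type*} [AddCommGroup V] [Module F V]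
  [FiniteDimensional F V] {V₂ : Type*} [AddCommGroup V₂] [Module F V₂] [FiniteDimensional F V₂]

/-- the number of singular vectors (including zero) -/
noncomputable def nsing (Q : QuadraticForm F V) : ℕ := Nat.card {v : V // Q v = 0}

theorem nsing_congr {Q : QuadraticForm F V} {Q₂ : QuadraticForm F V₂} (e : V ≃ₗ[F] V₂)
    (he : ∀ v, Q₂ (e v) = Q v) : nsing Q = nsing Q₂ := by
  unfold nsing
  apply Nat.card_congr
  apply e.toEquiv.subtypeEquiv
  intro v
  show Q v = 0 ↔ Q₂ (e v) = 0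
  rw [he]

theorem nsing_of_plus {m : ℕ} (hV : finrank F V = 2 * m) (Q : QuadraticForm F V)
    (hQ : (QuadraticMap.polarBilin Q).Nondegenerate) (hp : Plus Q) :
    nsing Q * Fintype.card F + Fintype.card F ^ m =
      Fintype.card F ^ (2 * m) + Fintype.card F ^ (m + 1) := by
  obtain ⟨g, hg⟩ := exists_equiv_plus hV Q hQ hp
  rw [nsing_congr g hg]
  exact Cfsg.Agent.Helper2.ONs.card_sing_plus m

theorem nsing_of_not_plus {m : ℕ} (hm : 1 ≤ m) (hV : finrank F V = 2 * m) (Q : QuadraticForm F V)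
    (hQ : (QuadraticMap.polarBilin Q).Nondegenerate) (hp : ¬ Plus Q) :
    nsing Q + Fintype.card F ^ m = Fintype.card F ^ (2 * m - 1) + Fintype.card F ^ (m - 1) := by
  obtain ⟨ζ, hζ⟩ := exists_irr (F := F)
  obtain ⟨g, hg⟩ := exists_equiv_minus hm hV Q hQ hp (aniso_of_irr hζ)
  rw [nsing_congr g hg]
  have := Cfsg.Agent.Helper2.ONs.card_sing_minus (m - 1) (aniso_of_irr hζ)
  rw [show m - 1 + 1 = m by omega, show 2 * (m - 1) + 1 = 2 * m - 1 by omega] at this
  exact this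

theorem finrank_minus_index (k : ℕ) : finrank F ((Fin k ⊕ Fin k) ⊕ Fin 2 → F) = 2 * (k + 1) := by
  rw [Module.finrank_fintype_fun_eq_card, Fintype.card_sum, Fintype.card_sum, Fintype.card_fin,
    Fintype.card_fin]
  ring

theorem finrank_plus_index (k : ℕ) : finrank F (Fin k ⊕ Fin k → F) = 2 * k := by
  rw [Module.finrank_fintype_fun_eq_card, Fintype.card_sum, Fintype.card_fin]
  ring

/-- the minus forms are not of Plus type -/
theorem not_plus_QfMinus (k : ℕ) {a b : F} (hab : Cfsg.Agent.Helper2.Quad.Aniso a b)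
    (hnd : (QuadraticMap.polarBilin (QfMinus k F a b)).Nondegenerate) :
    ¬ Plus (QfMinus k F a b) := by
  intro hp
  have h1 := nsing_of_plus (finrank_minus_index k) (QfMinus k F a b) hnd hp
  have h2 := Cfsg.Agent.Helper2.ONs.card_sing_minus k hab
  have hq : 1 < Fintype.card F := Fintype.one_lt_card
  change nsing (QfMinus k F a b) + _ = _ at h2
  generalize nsing (QfMinus k F a b) = N at h1 h2
  generalize hqq : Fintype.card F = q at h1 h2 hq
  have e1 : q ^ (k + 1 + 1) = q * q ^ (k + 1) := by ring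
  have e2 : q ^ (2 * (k + 1)) = q * q ^ (2 * k + 1) := by ring
  have e3 : q ^ (k + 1) = q ^ k * q := by ring
  have hpos : 0 < q ^ (k + 1) := pow_pos (by omega) _
  rw [e1, e2] at h1
  have h5 : N * q + q ^ (k + 1) * q = q ^ (2 * k + 1) * q + q ^ k * q := by
    rw [← add_mul, ← add_mul, h2]
  rw [← e3, mul_comm (q ^ (k + 1)) q, mul_comm (q ^ (2 * k + 1)) q] at h5
  have h6 : q ^ (k + 1) = q * q ^ (k + 1) := by omega
  have h7 : 2 * q ^ (k + 1) ≤ q * q ^ (k + 1) := Nat.mul_le_mul_right _ hq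
  omega

end count

end Cfsg.Agent.Helper21.OC
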