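import Mathlib
import Cfsg.Prelude.Def_OddOrderLocal
import Cfsg.Agent.Helper21.BG13d
import Cfsg.Agent.Helper21.BG13c
import Cfsg.Agent.Lead.BG143a
import Cfsg.Agent.S1420
import Cfsg.Agent.Helper20.KulI

/-!
# B&G Section 13: the "mirror" pieces of the proof of `Tau3` (13.8–13.10)

`SigmaPart G` is the σ-partition statement (B&G 13.9), taken as a hypothesis here.

* `mem_tau1_of_not_le_centralizer` (F5b): a subgroup `R ≤ M ∩ H` of prime order `s ∉ σ(M)` which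
  does not centralize `M_σ ∩ H` has `s ∈ τ₁(H)`.
* `mem_kappa_of_comm` (F6): a prime `q ∈ σ(M) \ σ(H)` of an element of `M_σ ∩ H` centralizing a
  non-identity element of `H_σ ∩ M` lies in `κ(H)`.
* `mirror`: the mirror step, producing in `H` a prime `r ∈ τ₃(H) ∩ κ(H)` and a Frobenius pair.
-/

set_option autoImplicit false
set_option linter.unusedSectionVars false
set_option linter.unusedVariables false

namespace Cfsg.Agent.Helper21.BG13

open Subgroup Cfsg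
open scoped commutatorElement
open Cfsg.Agent.Helper14 (IsSylowIn cj map_cj_le_iff map_cj_mul map_cj_one map_cj_normalizer
  mem_normalizer_iff_map_cj map_cj_eq_self_of_mem le_normalizer_of_map_cj_le mem_map_cj
  exists_isSylowIn_ge exists_isSylowIn isSylowIn_of_sylow map_cj_map_cj_inv map_cj_inv_map_cj)
open Cfsg.Agent.Helper21.BG10 (relIndex_map_subtype le_normalizer_sigmaCore sigmaCore_le
  alphaCore_le le_normalizer_alphaCore card_alphaCore_isPiNum)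
open Cfsg.Agent.Helper21.BG12 (uniq ctl st1350 nc1210)

universe u

/-- the σ-partition (B&G Theorem 13.9), as a hypothesis on `G` -/
def SigmaPart (G : Type u) [Group G] : Prop :=
  ∀ M H : Subgroup G, IsCoatom M → IsCoatom H → (∀ g : G, H ≠ M.map (cj g)) →
    ∀ q : ℕ, q ∈ Cfsg.sigma M → q ∉ Cfsg.sigma H

variable {G : Type u} [Group G] [Finite G]

/-- **(F5b)**: `R ≤ M ∩ H` of prime order `s ∉ σ(M)` not centralizing a subgroup `Y` of
`M_σ ∩ H` has `s ∈ τ₁(H)` -/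
theorem mem_tau1_of_not_le_centralizer (hG : Cfsg.IsMinSimpleOddOrder G) {M H : Subgroup G}
    (hM : IsCoatom M) (hH : IsCoatom H) (hnc : ∀ g : G, H ≠ M.map (cj g)) {Y R : Subgroup G}
    (hY : Y ≤ Cfsg.sigmaCore M ⊓ H) {s : ℕ} [Fact s.Prime] (hRc : Nat.card R = s)
    (hRM : R ≤ M) (hRH : R ≤ H) (hsM : s ∉ Cfsg.sigma M)
    (hne : ¬ R ≤ centralizer (Y : Set G)) : s ∈ Cfsg.tau1 H := by
  have hRp : IsPGroup s R := isPGroup_of_card_prime hRc
  have hdH : s ∣ Nat.card H := hRc ▸ Subgroup.card_dvd_of_le hRH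
  have key : ¬ (Cfsg.sigmaCore M ⊓ H ≤ centralizer (R : Set G)) := by
    intro h
    apply hne
    intro r hr
    rw [mem_centralizer_iff]
    intro y hy
    have := (mem_centralizer_iff.mp (h (hY hy))) r hr
    exact this.symm
  have h3 : s ∉ Cfsg.tau3 H := fun h =>
    key (lemma_13_1_a hG hM hH hnc hsM (Or.inr h) hRp hRM hRH)
  have hσ : s ∉ Cfsg.sigma H := fun h =>
    key (lemma_13_1_a hG hM hH hnc hsM (Or.inl h) hRp hRM hRH)
  have h2 : s ∉ Cfsg.tau2 H := fun h =>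
    key (lemma_13_1_tau2 hG hM hH hnc hsM h hRc hRM hRH)
  exact mem_tau1_of_not hG hH hdH hσ h2 h3

/-- **(F6)**: `z ∈ M_σ ∩ H` of prime order `q ∉ σ(H)` centralizing a non-identity element `x`
of `H_σ ∩ M`: then `q ∈ κ(H)` -/
theorem mem_kappa_of_comm (hG : Cfsg.IsMinSimpleOddOrder G) {M H : Subgroup G}
    (hM : IsCoatom M) (hH : IsCoatom H) (hne : H ≠ M) {q : ℕ} [Fact q.Prime] {z x : G}
    (hzM : z ∈ Cfsg.sigmaCore M) (hzH : z ∈ H) (hzo : orderOf z = q)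
    (hx : x ∈ Cfsg.sigmaCore H) (hxM : x ∈ M) (hx1 : x ≠ 1) (hzx : z * x = x * z)
    (hqH : q ∉ Cfsg.sigma H) : q ∈ Cfsg.kappa H := by
  have hq : q.Prime := Fact.out
  rcases Cfsg.Agent.Lead.BG143.mem_kappa_or_mem_tau2 hG (uniq hG) hH hq hqH hzH hzo hx hx1 hzx
    with h | h
  · exact h
  · exfalso
    -- `q ∈ σ(M)`
    have hqM : q ∈ Cfsg.sigma M := by
      apply Cfsg.Agent.H9.BG12.mem_sigma_of_dvd_card_sigmaCore hq
      rw [← hzo]
      exact Subgroup.orderOf_dvd_natCard _ hzM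
    have hz1 : z ≠ 1 := by
      intro h0
      rw [h0, orderOf_one] at hzo
      exact hq.one_lt.ne hzo
    -- `C_G(z) ≤ H` uniquely
    obtain ⟨E, hE, -⟩ := Cfsg.Agent.Helper21.BG12.exists_complIn_sigmaCore_ge hG hH
      (bot_le : (⊥ : Subgroup G) ≤ H) (bot_inf_eq _)
    have h1420 := (Cfsg.Agent.S1420.result hG H hH E hE).2.2.2 z hzH hz1
      (fun p hp hpd => by
        rw [hzo] at hpd
        rw [(Nat.prime_dvd_prime_iff_eq hp hq).mp hpd]; exact h)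
      ⟨hzH, x, hx, hx1, hzx⟩
    set X : Subgroup G := zpowers z with hX
    have hXc : Nat.card X = q := by rw [hX, Nat.card_zpowers, hzo]
    have hXq : IsPGroup q X := isPGroup_of_card_prime hXc
    have hX1 : X ≠ ⊥ := ne_bot_of_card_prime hXc
    have hXM : X ≤ M := zpowers_le.mpr (sigmaCore_le M hzM)
    have hXH : X ≤ H := zpowers_le.mpr hzH
    have hcent : centralizer (X : Set G) = centralizer ({z} : Set G) := by
      rw [hX]; exact Cfsg.Agent.Helper21.BG12.centralizer_zpowers' z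
    have hU : Cfsg.InUniqueMaximal (H ⊓ centralizer (X : Set G)) := by
      refine ⟨H, ⟨hH, inf_le_left⟩, ?_⟩
      rintro L ⟨hL, hle⟩
      apply h1420.2 L hL
      rw [← hcent]
      intro c hc
      exact hle ⟨by rw [hcent] at hc; exact h1420.1 hc, hc⟩
    have hNX : normalizer (X : Set G) ≤ H :=
      Cfsg.Agent.Helper21.BG12.normalizer_le_of_inUniqueMaximal hG hH hX1 hXH hU
    obtain ⟨S, hS, hXS⟩ := exists_isSylowIn_ge (H := M ⊓ H) (le_inf hXM hXH) hXq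
    obtain ⟨-, hcompl, -⟩ := Cfsg.Agent.Helper21.BG12.lem_12_15_e13 hG (st1417 hG) (st1418 hG)
      (nc1210 hG) hM hH hne hqM hXq hX1 hXM hNX hS hXS hqH
    have hx' : x ∈ (M ⊓ H) ⊓ Cfsg.sigmaCore H := ⟨⟨hxM, sigmaCore_le H hx⟩, hx⟩
    rw [hcompl.2.2.1, mem_bot] at hx'
    exact hx1 hx'

/-- in a cyclic `r`-group two subgroups with trivial intersection: one of them is trivial -/
theorem eq_bot_or_eq_bot_of_isCyclic {r : ℕ} [Fact r.Prime] {Q A B : Subgroup G}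
    (hQc : IsCyclic ↥Q) (hQr : IsPGroup r Q) (hA : A ≤ Q) (hB : B ≤ Q) (hAB : A ⊓ B = ⊥) :
    A = ⊥ ∨ B = ⊥ := by
  have hr : r.Prime := Fact.out
  by_contra hcon
  push Not at hcon
  obtain ⟨hA1, hB1⟩ := hcon
  have hAr : IsPGroup r A := hQr.to_le hA
  have hBr : IsPGroup r B := hQr.to_le hB
  have hdA := Cfsg.Agent.Helper16.BG11.dvd_card_of_isPGroup_ne_bot hAr hA1
  have hdB := Cfsg.Agent.Helper16.BG11.dvd_card_of_isPGroup_ne_bot hBr hB1
  obtain ⟨a, ha⟩ := exists_prime_orderOf_dvd_card' (G := ↥A) r hdA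
  obtain ⟨b, hb⟩ := exists_prime_orderOf_dvd_card' (G := ↥B) r hdB
  have hca : Nat.card (zpowers (a : G)) = r := by
    rw [Nat.card_zpowers, Subgroup.orderOf_coe, ha]
  have hcb : Nat.card (zpowers (b : G)) = r := by
    rw [Nat.card_zpowers, Subgroup.orderOf_coe, hb]
  have hzaQ : zpowers (a : G) ≤ Q := (zpowers_le.mpr a.2).trans hA
  have hzbQ : zpowers (b : G) ≤ Q := (zpowers_le.mpr b.2).trans hB
  have h1 : (zpowers (a : G)).subgroupOf Q = (zpowers (b : G)).subgroupOf Q := by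
    apply Cfsg.Agent.Helper20.eq_of_card_eq_of_isCyclic
    rw [Nat.card_congr (subgroupOfEquivOfLe hzaQ).toEquiv,
      Nat.card_congr (subgroupOfEquivOfLe hzbQ).toEquiv, hca, hcb]
  have h2 : zpowers (a : G) = zpowers (b : G) := by
    have := Subgroup.subgroupOf_inj.mp h1
    rwa [inf_eq_left.mpr hzaQ, inf_eq_left.mpr hzbQ] at this
  have h3 : (a : G) ∈ A ⊓ B := by
    refine ⟨a.2, ?_⟩
    have : (a : G) ∈ zpowers (b : G) := h2 ▸ mem_zpowers (a : G)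
    exact (zpowers_le.mpr b.2) this
  rw [hAB, mem_bot] at h3
  have h4 : orderOf (a : G) = 1 := by rw [h3, orderOf_one]
  rw [Subgroup.orderOf_coe, ha] at h4
  exact hr.one_lt.ne' h4

/-- **the mirror step**: in the situation of (F5b), (F6), the subgroup `H` is itself in the
setting of `Tau3`: there are a prime `r ∈ τ₃(H) ∩ κ(H)`, an `R`-invariant cyclic Sylow
`r`-subgroup `Q₁` of `M_σ ∩ H` on which `R` acts fixed-point-freely, and a complement `E_H` of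
`H_σ` in `H` containing `Q₁ R`. -/
theorem mirror (hG : Cfsg.IsMinSimpleOddOrder G) (hSP : SigmaPart G) {M H : Subgroup G}
    (hM : IsCoatom M) (hH : IsCoatom H) (hnc : ∀ g : G, H ≠ M.map (cj g)) {T0 R : Subgroup G}
    (hT0σ : T0 ≤ Cfsg.sigmaCore H) (hT0M : T0 ≤ M) (hT01 : T0 ≠ ⊥)
    (hYT : Cfsg.sigmaCore M ⊓ H ≤ centralizer (T0 : Set G)) {s : ℕ} [Fact s.Prime]
    (hRc : Nat.card R = s) (hRM : R ≤ M) (hRH : R ≤ H) (hsM : s ∉ Cfsg.sigma M)
    (hne : ¬ R ≤ centralizer ((Cfsg.sigmaCore M ⊓ H : Subgroup G) : Set G)) :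
    s ∈ Cfsg.tau1 H ∧ ∃ (r : ℕ) (_ : Fact r.Prime) (Q₁ EH : Subgroup G),
      r ∈ Cfsg.tau3 H ∧ r ∈ Cfsg.kappa H ∧ Cfsg.IsComplIn EH (Cfsg.sigmaCore H) H ∧
      Q₁ ≤ EH ∧ R ≤ EH ∧ IsSylowIn r Q₁ (Cfsg.sigmaCore M ⊓ H) ∧ IsCyclic ↥Q₁ ∧ Q₁ ≠ ⊥ ∧
      R ≤ normalizer (Q₁ : Set G) ∧ Q₁ ⊓ centralizer (R : Set G) = ⊥ ∧
      ∀ X : Subgroup G, X ≤ Q₁ → X ≠ ⊥ → ¬ R ≤ centralizer (X : Set G) := by
  have hs : s.Prime := Fact.out
  have hτ1 : s ∈ Cfsg.tau1 H :=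
    mem_tau1_of_not_le_centralizer hG hM hH hnc le_rfl hRc hRM hRH hsM hne
  refine ⟨hτ1, ?_⟩
  set Y : Subgroup G := Cfsg.sigmaCore M ⊓ H with hY
  have hYH : Y ≤ H := inf_le_right
  have hYσ : Y ≤ Cfsg.sigmaCore M := inf_le_left
  have hRY : R ≤ normalizer (Y : Set G) := le_normalizer_sigmaCore_inf hRM hRH
  have hsY : ¬ s ∣ Nat.card Y := fun h => hsM
    (Cfsg.Agent.H9.BG12.mem_sigma_of_dvd_card_sigmaCore hs (h.trans (Subgroup.card_dvd_of_le hYσ)))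
  have hcop : (Nat.card R).Coprime (Nat.card Y) := by
    rw [hRc]; exact (Nat.Prime.coprime_iff_not_dvd hs).mpr hsY
  have hYtop : Y ≠ ⊤ := fun h => hH.1 (top_le_iff.mp (h ▸ hYH))
  have hsolvY : Group.IsSolvable ↥Y := hG.2.2.2 Y hYtop
  have hnc' : ¬ Y ≤ centralizer (R : Set G) := fun h => hne (Subgroup.le_centralizer_iff.mp h)
  obtain ⟨r, hrF, Q₁, hQ₁, hRQ, hQ₁R⟩ :=
    exists_invariant_sylow_not_le hRY hcop (Or.inr hsolvY) hnc'
  have hr : r.Prime := hrF.out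
  have hQ₁r : IsPGroup r Q₁ := hQ₁.2.1
  have hQ₁Y : Q₁ ≤ Y := hQ₁.1
  have hQ₁H : Q₁ ≤ H := hQ₁Y.trans hYH
  have hQ₁1 : Q₁ ≠ ⊥ := by
    intro h0
    apply hQ₁R
    rw [h0]; exact bot_le
  have hrdQ : r ∣ Nat.card Q₁ := Cfsg.Agent.Helper16.BG11.dvd_card_of_isPGroup_ne_bot hQ₁r hQ₁1
  have hrM : r ∈ Cfsg.sigma M :=
    Cfsg.Agent.H9.BG12.mem_sigma_of_dvd_card_sigmaCore hr
      (hrdQ.trans (Subgroup.card_dvd_of_le (hQ₁Y.trans hYσ)))
  have hrH : r ∉ Cfsg.sigma H := hSP M H hM hH hnc r hrM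
  have hrs : r ≠ s := fun h => hsM (h ▸ hrM)
  -- an element of order `r` in `Q₁`
  obtain ⟨z, hz⟩ := exists_prime_orderOf_dvd_card' (G := ↥Q₁) r hrdQ
  have hzo : orderOf (z : G) = r := by rw [Subgroup.orderOf_coe, hz]
  obtain ⟨x, hx, hx1⟩ := (Subgroup.bot_or_exists_ne_one T0).resolve_left hT01
  have hzx : (z : G) * x = x * (z : G) :=
    ((mem_centralizer_iff.mp (hYT (hQ₁Y z.2))) x hx).symm
  have hκ : r ∈ Cfsg.kappa H :=
    mem_kappa_of_comm hG hM hH (ne_of_not_conj hnc) (hYσ (hQ₁Y z.2)) (hQ₁H z.2) hzo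
      (hT0σ hx) (hT0M hx) hx1 hzx hrH
  have hrk : Cfsg.PRankLE r 1 H := Cfsg.Agent.Lead.BG143.pRankLE_one_of_mem_kappa hκ
  have hQ₁c : IsCyclic ↥Q₁ :=
    Cfsg.Agent.H9.BG12.isCyclic_of_pRankLE_one hG hQ₁r
      (Cfsg.Agent.Helper7.PRankLE.of_injective (Subgroup.inclusion hQ₁H)
        (Subgroup.inclusion_injective hQ₁H) hrk)
  -- `R` acts fixed-point-freely on `Q₁`
  have hcopQ : (Nat.card R).Coprime (Nat.card Q₁) := by
    obtain ⟨k, hk⟩ := IsPGroup.iff_card.mp hQ₁r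
    rw [hRc, hk]
    exact Nat.Coprime.pow_right k ((Nat.coprime_primes hs hr).mpr (Ne.symm hrs))
  have : IsMulCommutative ↥Q₁ := hQ₁c.isMulCommutative
  have hinf := Cfsg.Agent.Lead.coprime_abelian_inf R Q₁ hRQ hcopQ
  have hcommQ : ⁅Q₁, R⁆ ≤ Q₁ := Cfsg.Agent.Lead.commutator_le_of_le_normalizer hRQ
  have hcomm1 : ⁅Q₁, R⁆ ≠ ⊥ := fun h0 =>
    hQ₁R (Subgroup.commutator_eq_bot_iff_le_centralizer.mp h0)
  have hfpf : Q₁ ⊓ centralizer (R : Set G) = ⊥ := by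
    rcases eq_bot_or_eq_bot_of_isCyclic hQ₁c hQ₁r inf_le_left hcommQ hinf with h | h
    · exact h
    · exact absurd h hcomm1
  -- `r ∈ τ₃(H)`
  have hrd' : r ∣ Nat.card ↥⁅H, H⁆ := by
    have h1 : r ∣ Nat.card ↥⁅Q₁, R⁆ :=
      Cfsg.Agent.Helper16.BG11.dvd_card_of_isPGroup_ne_bot (hQ₁r.to_le hcommQ) hcomm1
    exact h1.trans (Subgroup.card_dvd_of_le (Subgroup.commutator_mono hQ₁H hRH))
  have hτ3 : r ∈ Cfsg.tau3 H := ⟨hr, hrH, hrd', hrk⟩
  -- a complement of `H_σ` containing `Q₁ R`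
  have hsH : s ∉ Cfsg.sigma H := hτ1.2.1
  have hcard := Cfsg.Agent.Helper17.card_sup_mul_card_inf Q₁ R hRQ
  have hdvd : Nat.card ↥(Q₁ ⊔ R) ∣ Nat.card Q₁ * Nat.card R := Dvd.intro _ hcard
  have hcopσ : (Nat.card ↥(Q₁ ⊔ R)).Coprime (Nat.card (Cfsg.sigmaCore H)) := by
    apply Nat.Coprime.coprime_dvd_left hdvd
    apply Nat.Coprime.mul_left
    · obtain ⟨k, hk⟩ := IsPGroup.iff_card.mp hQ₁r
      rw [hk]
      apply Nat.Coprime.pow_left
      exact (Nat.Prime.coprime_iff_not_dvd hr).mpr (fun h =>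
        hrH (Cfsg.Agent.H9.BG12.mem_sigma_of_dvd_card_sigmaCore hr h))
    · rw [hRc]
      exact (Nat.Prime.coprime_iff_not_dvd hs).mpr (fun h =>
        hsH (Cfsg.Agent.H9.BG12.mem_sigma_of_dvd_card_sigmaCore hs h))
  have hdisj : (Q₁ ⊔ R) ⊓ Cfsg.sigmaCore H = ⊥ :=
    disjoint_iff.mp (Subgroup.disjoint_of_coprime_natCard hcopσ)
  obtain ⟨EH, hEH, hle⟩ := Cfsg.Agent.Helper21.BG12.exists_complIn_sigmaCore_ge hG hH
    (sup_le hQ₁H hRH) hdisj
  refine ⟨r, hrF, Q₁, EH, hτ3, hκ, hEH, le_sup_left.trans hle, le_sup_right.trans hle, hQ₁,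
    hQ₁c, hQ₁1, hRQ, hfpf, ?_⟩
  intro X hXQ hX1 hRX
  apply hX1
  rw [eq_bot_iff, ← hfpf]
  exact le_inf hXQ (Subgroup.le_centralizer_iff.mp hRX)

end Cfsg.Agent.Helper21.BG13
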