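import Mathlib

/-!
# `π`-parts of elements and counting conjugacy classes of `π`-elements

`k_π(G) ≤ k_π(N) · k_π(G/N)`.
-/

set_option autoImplicit false
set_option linter.style.haveILetI false

namespace Cfsg.Agent.Helper21.PiClasses

open Subgroup

/-- `x` is a `π`-element. -/
def IsPi (π : Set ℕ) {X : Type*} [Monoid X] (x : X) : Prop :=
  ∀ q : ℕ, q.Prime → q ∣ orderOf x → q ∈ π

/-- splitting a positive integer into its `π`-part and `π'`-part. -/
theorem exists_split (π : Set ℕ) (o : ℕ) (ho : 0 < o) : ∃ a b : ℕ, a * b = o ∧ a.Coprime b ∧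
    (∀ q : ℕ, q.Prime → q ∣ a → q ∈ π) ∧ (∀ q : ℕ, q.Prime → q ∣ b → q ∉ π) := by
  classical
  induction o using Nat.recOnPosPrimePosCoprime with
  | prime_pow p n hp hn =>
    by_cases hpπ : p ∈ π
    · refine ⟨p ^ n, 1, mul_one _, Nat.coprime_one_right _, ?_, ?_⟩
      · intro q hq hqd
        have := (Nat.prime_dvd_prime_iff_eq hq hp).mp (hq.dvd_of_dvd_pow hqd)
        rw [this]; exact hpπ
      · intro q hq hqd
        exact absurd (Nat.dvd_one.mp hqd) hq.ne_one
    · refine ⟨1, p ^ n, one_mul _, Nat.coprime_one_left _, ?_, ?_⟩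
      · intro q hq hqd
        exact absurd (Nat.dvd_one.mp hqd) hq.ne_one
      · intro q hq hqd
        have := (Nat.prime_dvd_prime_iff_eq hq hp).mp (hq.dvd_of_dvd_pow hqd)
        rw [this]; exact hpπ
  | zero => exact absurd ho (lt_irrefl 0)
  | one =>
    refine ⟨1, 1, one_mul _, Nat.coprime_one_left _, ?_, ?_⟩ <;>
    · intro q hq hqd
      exact absurd (Nat.dvd_one.mp hqd) hq.ne_one
  | coprime m n hm hn hmn ihm ihn =>
    obtain ⟨a₁, b₁, h1, hc1, hπ1, hπ1'⟩ := ihm (by omega)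
    obtain ⟨a₂, b₂, h2, hc2, hπ2, hπ2'⟩ := ihn (by omega)
    refine ⟨a₁ * a₂, b₁ * b₂, by rw [← h1, ← h2]; ring, ?_, ?_, ?_⟩
    · have ha1m : a₁ ∣ m := Dvd.intro _ h1
      have hb1m : b₁ ∣ m := Dvd.intro_left _ h1
      have ha2n : a₂ ∣ n := Dvd.intro _ h2
      have hb2n : b₂ ∣ n := Dvd.intro_left _ h2
      apply Nat.Coprime.mul_left
      · apply Nat.Coprime.mul_right hc1
        exact Nat.Coprime.coprime_dvd_left ha1m (Nat.Coprime.coprime_dvd_right hb2n hmn)
      · apply Nat.Coprime.mul_right _ hc2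
        exact Nat.Coprime.coprime_dvd_left ha2n (Nat.Coprime.coprime_dvd_right hb1m hmn.symm)
    · intro q hq hqd
      rcases (Nat.Prime.dvd_mul hq).mp hqd with h | h
      · exact hπ1 q hq h
      · exact hπ2 q hq h
    · intro q hq hqd
      rcases (Nat.Prime.dvd_mul hq).mp hqd with h | h
      · exact hπ1' q hq h
      · exact hπ2' q hq h

theorem coprime_of_pi {a b : ℕ} (π : Set ℕ) (ha : ∀ q : ℕ, q.Prime → q ∣ a → q ∈ π)
    (hb : ∀ q : ℕ, q.Prime → q ∣ b → q ∉ π) : a.Coprime b :=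
  Nat.Coprime.symm <| Nat.coprime_of_dvd fun k hk hkb hka => hb k hk hkb (ha k hk hka)

variable {X : Type*} [Group X]

/-- existence and uniqueness of the `π`-decomposition of an element of finite order. -/
theorem exists_decomp [Finite X] (π : Set ℕ) (y : X) : ∃ s t : X, s * t = y ∧ s ∈ zpowers y ∧
    t ∈ zpowers y ∧ IsPi π s ∧ IsPi πᶜ t ∧
    (∀ s' t' : X, s' * t' = y → Commute s' t' → IsPi π s' → IsPi πᶜ t' → s' = s ∧ t' = t) := by
  have ho : 0 < orderOf y := orderOf_pos y
  obtain ⟨a, b, hab, hcop, ha, hb⟩ := exists_split π (orderOf y) ho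
  have ha0 : 0 < a := Nat.pos_of_ne_zero (by rintro rfl; simp at hab; omega)
  have hb0 : 0 < b := Nat.pos_of_ne_zero (by rintro rfl; simp at hab; omega)
  obtain ⟨e, he1, he2⟩ := Nat.chineseRemainder hcop 1 0
  obtain ⟨e', he1', he2'⟩ := Nat.chineseRemainder hcop 0 1
  have hsum : e + e' ≡ 1 [MOD orderOf y] := by
    rw [← hab]
    apply (Nat.modEq_and_modEq_iff_modEq_mul hcop).mp
    exact ⟨by simpa using he1.add he1', by simpa using he2.add he2'⟩
  have hbe : b ∣ e := (Nat.modEq_zero_iff_dvd).mp he2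
  have hae' : a ∣ e' := (Nat.modEq_zero_iff_dvd).mp he1'
  have hs_a : (y ^ e) ^ a = 1 := by
    rw [← pow_mul]
    apply orderOf_dvd_iff_pow_eq_one.mp
    rw [← hab, mul_comm a b]
    exact Nat.mul_dvd_mul_right hbe a
  have ht_b : (y ^ e') ^ b = 1 := by
    rw [← pow_mul]
    apply orderOf_dvd_iff_pow_eq_one.mp
    rw [← hab]
    exact Nat.mul_dvd_mul_right hae' b
  refine ⟨y ^ e, y ^ e', ?_, ⟨e, by simp⟩, ⟨e', by simp⟩, ?_, ?_, ?_⟩
  · rw [← pow_add]
    have := pow_eq_pow_iff_modEq.mpr hsum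
    rwa [pow_one] at this
  · intro q hq hqd
    exact ha q hq (dvd_trans hqd (orderOf_dvd_of_pow_eq_one hs_a))
  · intro q hq hqd
    exact hb q hq (dvd_trans hqd (orderOf_dvd_of_pow_eq_one ht_b))
  · intro s' t' hst hcomm hs' ht'
    have hcop' : (orderOf s').Coprime (orderOf t') := coprime_of_pi π hs' ht'
    have hord : orderOf y = orderOf s' * orderOf t' := by
      rw [← hst]; exact hcomm.orderOf_mul_eq_mul_orderOf_of_coprime hcop'
    have h1 : orderOf s' ∣ a := by
      have : orderOf s' ∣ a * b := by rw [hab, hord]; exact dvd_mul_right _ _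
      exact (coprime_of_pi π hs' hb).dvd_of_dvd_mul_right this
    have h2 : a ∣ orderOf s' := by
      have : a ∣ orderOf s' * orderOf t' := by rw [← hord, ← hab]; exact dvd_mul_right _ _
      exact (coprime_of_pi π ha ht').dvd_of_dvd_mul_right this
    have h3 : orderOf s' = a := Nat.dvd_antisymm h1 h2
    have h4 : orderOf t' = b := by
      have : a * orderOf t' = a * b := by rw [hab, hord, h3]
      exact Nat.eq_of_mul_eq_mul_left ha0 this
    constructor
    · rw [← hst, hcomm.mul_pow]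
      have e1 : s' ^ e = s' := by
        have := pow_eq_pow_iff_modEq.mpr (h3.symm ▸ he1 : e ≡ 1 [MOD orderOf s'])
        rwa [pow_one] at this
      have e2 : t' ^ e = 1 := by
        apply orderOf_dvd_iff_pow_eq_one.mp
        rw [h4]; exact hbe
      rw [e1, e2, mul_one]
    · rw [← hst, hcomm.mul_pow]
      have e1 : s' ^ e' = 1 := by
        apply orderOf_dvd_iff_pow_eq_one.mp
        rw [h3]; exact hae'
      have e2 : t' ^ e' = t' := by
        have := pow_eq_pow_iff_modEq.mpr (h4.symm ▸ he2' : e' ≡ 1 [MOD orderOf t'])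
        rwa [pow_one] at this
      rw [e1, e2, one_mul]


theorem orderOf_conj' (c a : X) : orderOf (c * a * c⁻¹) = orderOf a := by
  have := MulEquiv.orderOf_eq (MulAut.conj c) a
  rwa [MulAut.conj_apply] at this

theorem isPi_conj (π : Set ℕ) (c a : X) : IsPi π (c * a * c⁻¹) ↔ IsPi π a := by
  unfold IsPi
  rw [orderOf_conj']

/-- A conjugacy class consisting of `π`-elements (the predicate of the statement). -/
def PiClass (π : Set ℕ) (C : ConjClasses X) : Prop :=
  ∀ q : ℕ, q.Prime → (∃ g : X, ConjClasses.mk g = C ∧ q ∣ orderOf g) → q ∈ π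

theorem piClass_mk (π : Set ℕ) (g : X) : PiClass π (ConjClasses.mk g) ↔ IsPi π g := by
  constructor
  · intro h q hq hqd
    exact h q hq ⟨g, rfl, hqd⟩
  · rintro h q hq ⟨g', hg', hqd⟩
    rw [ConjClasses.mk_eq_mk_iff_isConj, isConj_iff] at hg'
    obtain ⟨c, hc⟩ := hg'
    apply h q hq
    rw [← hc, orderOf_conj']
    exact hqd

section action

variable {G : Type*} [Group G]

/-- conjugation action of a subgroup on a conjugation-invariant subtype. -/
@[instance_reducible]
def conjAct (N : Subgroup G) (P : G → Prop) (hP : ∀ n ∈ N, ∀ x, P x → P (n * x * n⁻¹)) :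
    MulAction N {x : G // P x} where
  smul n x := ⟨(n : G) * x * (n : G)⁻¹, hP n n.2 x x.2⟩
  one_smul x := Subtype.ext (by
    show ((1 : N) : G) * x * ((1 : N) : G)⁻¹ = x
    simp)
  mul_smul a b x := Subtype.ext (by
    show ((a * b : N) : G) * x * ((a * b : N) : G)⁻¹ = (a : G) * ((b : G) * x * (b : G)⁻¹) * (a : G)⁻¹
    simp [mul_assoc])

theorem conjAct_smul_coe (N : Subgroup G) (P : G → Prop)
    (hP : ∀ n ∈ N, ∀ x, P x → P (n * x * n⁻¹)) (n : N) (x : {x : G // P x}) :
    ((letI := conjAct N P hP; n • x : {x : G // P x}) : G) = (n : G) * x * (n : G)⁻¹ := rfl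

/-- Burnside's lemma for the conjugation action. -/
theorem card_fix_eq [Finite G] (N : Subgroup G) (P : G → Prop)
    (hP : ∀ n ∈ N, ∀ x, P x → P (n * x * n⁻¹)) :
    Nat.card {p : N × {x : G // P x} // (p.1 : G) * p.2 = p.2 * (p.1 : G)} =
      Nat.card (letI := conjAct N P hP; MulAction.orbitRel.Quotient N {x : G // P x}) *
        Nat.card N := by
  letI := conjAct N P hP
  rw [← Nat.card_prod]
  apply Nat.card_congr
  refine Equiv.trans ?_ ((Equiv.subtypeProdEquivSigmaSubtype _).trans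
    (MulAction.sigmaFixedByEquivOrbitsProdGroup N {x : G // P x}))
  apply Equiv.subtypeEquivRight
  rintro ⟨n, x⟩
  show (n : G) * x = x * (n : G) ↔ n • x = x
  rw [Subtype.ext_iff, conjAct_smul_coe]
  constructor
  · intro h; rw [h]; group
  · intro h
    calc (n : G) * x = (n : G) * x * (n : G)⁻¹ * (n : G) := by group
      _ = x * (n : G) := by rw [h]


variable [Finite G] (π : Set ℕ)

/-- the `π`-part. -/
noncomputable def piPart (y : G) : G := Classical.choose (exists_decomp π y)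

/-- the `π'`-part. -/
noncomputable def piPart' (y : G) : G :=
  Classical.choose (Classical.choose_spec (exists_decomp π y))

theorem piPart_spec (y : G) : piPart π y * piPart' π y = y ∧ piPart π y ∈ zpowers y ∧
    piPart' π y ∈ zpowers y ∧ IsPi π (piPart π y) ∧ IsPi πᶜ (piPart' π y) ∧
    (∀ s' t' : G, s' * t' = y → Commute s' t' → IsPi π s' → IsPi πᶜ t' →
      s' = piPart π y ∧ t' = piPart' π y) :=
  Classical.choose_spec (Classical.choose_spec (exists_decomp π y))

omit [Finite G] in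
theorem commute_of_mem_zpowers {n x s : G} (hs : s ∈ zpowers n) (h : n * x = x * n) :
    s * x = x * s := by
  obtain ⟨k, rfl⟩ := hs
  have : Commute n x := h
  exact (this.zpow_left k)

/-- the key injection of commuting pairs. -/
theorem card_fix_le (N : Subgroup G) [hN : N.Normal] (gbar : G ⧸ N) :
    Nat.card {p : N × {x : G // (x : G ⧸ N) = gbar ∧ IsPi π x} //
        (p.1 : G) * p.2 = p.2 * (p.1 : G)} ≤
      Nat.card {p : N × {x : G // x ∈ N ∧ IsPi π x} // (p.1 : G) * p.2 = p.2 * (p.1 : G)} := by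
  classical
  -- chosen coset representative commuting with s
  let y₀ : G → G := fun s =>
    if h : ∃ y' : G, (y' : G ⧸ N) = gbar ∧ y' * s = s * y' then Classical.choose h else 1
  have hy₀ : ∀ s : G, (∃ y' : G, (y' : G ⧸ N) = gbar ∧ y' * s = s * y') →
      ((y₀ s : G) : G ⧸ N) = gbar ∧ y₀ s * s = s * y₀ s := by
    intro s h
    simp only [y₀, dif_pos h]
    exact Classical.choose_spec h
  -- the data for a pair
  have hdata : ∀ p : {p : N × {x : G // (x : G ⧸ N) = gbar ∧ IsPi π x} //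
        (p.1 : G) * p.2 = p.2 * (p.1 : G)},
      ((y₀ (piPart π (p.1.1 : G)))⁻¹ * ((p.1.2 : G) * piPart' π (p.1.1 : G)) ∈ N) ∧
      (piPart π (p.1.1 : G) ∈ N ∧ IsPi π (piPart π (p.1.1 : G))) ∧
      ((y₀ (piPart π (p.1.1 : G)))⁻¹ * ((p.1.2 : G) * piPart' π (p.1.1 : G))) *
          piPart π (p.1.1 : G) =
        piPart π (p.1.1 : G) *
          ((y₀ (piPart π (p.1.1 : G)))⁻¹ * ((p.1.2 : G) * piPart' π (p.1.1 : G))) := by
    rintro ⟨⟨n, x⟩, hnx⟩
    obtain ⟨hst, hs, ht, hsπ, htπ, huniq⟩ := piPart_spec π (n : G)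
    set s := piPart π (n : G)
    set t := piPart' π (n : G)
    have hnx' : (n : G) * (x : G) = (x : G) * (n : G) := hnx
    have hsN : s ∈ N := (zpowers_le.mpr n.2) hs
    have htN : t ∈ N := (zpowers_le.mpr n.2) ht
    have hsx : s * (x : G) = (x : G) * s := commute_of_mem_zpowers hs hnx'
    have hts : t * s = s * t := by
      obtain ⟨k, hk⟩ := hs
      obtain ⟨l, hl⟩ := ht
      rw [← hk, ← hl, ← zpow_add, ← zpow_add, add_comm]
    have hy : (((x : G) * t : G) : G ⧸ N) = gbar := by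
      rw [QuotientGroup.mk_mul, x.2.1, (QuotientGroup.eq_one_iff t).mpr htN, mul_one]
    have hycomm : (x : G) * t * s = s * ((x : G) * t) := by
      rw [mul_assoc, hts, ← mul_assoc, ← hsx, mul_assoc]
    obtain ⟨h1, h2⟩ := hy₀ s ⟨(x : G) * t, hy, hycomm⟩
    refine ⟨?_, ⟨hsN, hsπ⟩, ?_⟩
    · show (y₀ s)⁻¹ * ((x : G) * t) ∈ N
      rw [← QuotientGroup.eq, h1, hy]
    · show (y₀ s)⁻¹ * ((x : G) * t) * s = s * ((y₀ s)⁻¹ * ((x : G) * t))
      have h3 : (y₀ s)⁻¹ * s = s * (y₀ s)⁻¹ := by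
        calc (y₀ s)⁻¹ * s = (y₀ s)⁻¹ * (s * y₀ s) * (y₀ s)⁻¹ := by group
          _ = (y₀ s)⁻¹ * (y₀ s * s) * (y₀ s)⁻¹ := by rw [h2]
          _ = s * (y₀ s)⁻¹ := by group
      rw [mul_assoc, hycomm, ← mul_assoc, h3, mul_assoc]
  let f : {p : N × {x : G // (x : G ⧸ N) = gbar ∧ IsPi π x} //
        (p.1 : G) * p.2 = p.2 * (p.1 : G)} →
      {p : N × {x : G // x ∈ N ∧ IsPi π x} // (p.1 : G) * p.2 = p.2 * (p.1 : G)} := fun p =>
    ⟨(⟨_, (hdata p).1⟩, ⟨_, (hdata p).2.1⟩), (hdata p).2.2⟩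
  apply Nat.card_le_card_of_injective f
  rintro ⟨⟨n, x⟩, hnx⟩ ⟨⟨n', x'⟩, hnx'⟩ hff
  have hff1 : (y₀ (piPart π (n : G)))⁻¹ * ((x : G) * piPart' π (n : G)) =
      (y₀ (piPart π (n' : G)))⁻¹ * ((x' : G) * piPart' π (n' : G)) := by
    have := congrArg (fun q => ((q.1.1 : N) : G)) hff
    exact this
  have hff2 : piPart π (n : G) = piPart π (n' : G) := by
    have := congrArg (fun q => ((q.1.2 : {x : G // x ∈ N ∧ IsPi π x}) : G)) hff
    exact this
  rw [hff2] at hff1
  have hy : (x : G) * piPart' π (n : G) = (x' : G) * piPart' π (n' : G) :=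
    mul_left_cancel hff1
  -- uniqueness of decomposition of y
  obtain ⟨hst, hs, ht, hsπ, htπ, -⟩ := piPart_spec π (n : G)
  obtain ⟨hst', hs', ht', hsπ', htπ', -⟩ := piPart_spec π (n' : G)
  obtain ⟨-, -, -, -, -, huniq⟩ := piPart_spec π ((x : G) * piPart' π (n : G))
  have hc1 : Commute (x : G) (piPart' π (n : G)) :=
    (commute_of_mem_zpowers ht hnx).symm
  have hc2 : Commute (x' : G) (piPart' π (n' : G)) :=
    (commute_of_mem_zpowers ht' hnx').symm
  obtain ⟨e1, e2⟩ := huniq _ _ rfl hc1 x.2.2 htπ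
  obtain ⟨e1', e2'⟩ := huniq _ _ hy.symm hc2 x'.2.2 htπ'
  have hx : (x : G) = (x' : G) := e1.trans e1'.symm
  have ht2 : piPart' π (n : G) = piPart' π (n' : G) := e2.trans e2'.symm
  have hn : (n : G) = (n' : G) := by rw [← hst, ← hst', hff2, ht2]
  have hn' : n = n' := Subtype.ext hn
  have hx' : x = x' := Subtype.ext hx
  subst hn' hx'
  rfl


omit [Finite G] in
theorem isPi_subtype (N : Subgroup G) (x : G) (hx : x ∈ N) :
    IsPi π (⟨x, hx⟩ : N) ↔ IsPi π x := by
  unfold IsPi
  rw [Subgroup.orderOf_mk]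

omit [Finite G] in
theorem hP₂ (N : Subgroup G) : ∀ n ∈ N, ∀ x : G, (x ∈ N ∧ IsPi π x) →
    (n * x * n⁻¹ ∈ N ∧ IsPi π (n * x * n⁻¹)) := fun n hn x hx =>
  ⟨N.mul_mem (N.mul_mem hn hx.1) (N.inv_mem hn), (isPi_conj π n x).mpr hx.2⟩

omit [Finite G] in
theorem hP₁ (N : Subgroup G) [hN : N.Normal] (gbar : G ⧸ N) : ∀ n ∈ N, ∀ x : G,
    ((x : G ⧸ N) = gbar ∧ IsPi π x) →
    (((n * x * n⁻¹ : G) : G ⧸ N) = gbar ∧ IsPi π (n * x * n⁻¹)) := fun n hn x hx => by
  refine ⟨?_, (isPi_conj π n x).mpr hx.2⟩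
  rw [QuotientGroup.mk_mul, QuotientGroup.mk_mul, QuotientGroup.mk_inv,
    (QuotientGroup.eq_one_iff n).mpr hn, hx.1]
  simp

omit [Finite G] in
/-- the number of `N`-orbits of `π`-elements of `N` is at most `k_π(N)`. -/
theorem card_orbits_le (N : Subgroup G) [Finite N] :
    Nat.card (letI := conjAct N _ (hP₂ π N);
      MulAction.orbitRel.Quotient N {x : G // x ∈ N ∧ IsPi π x}) ≤
      Nat.card {C : ConjClasses N // PiClass π C} := by
  letI := conjAct N _ (hP₂ π N)
  let f : MulAction.orbitRel.Quotient N {x : G // x ∈ N ∧ IsPi π x} →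
      {C : ConjClasses N // PiClass π C} := fun q =>
    Quotient.liftOn' q (fun x => (⟨ConjClasses.mk ⟨x.1, x.2.1⟩,
      (piClass_mk π _).mpr ((isPi_subtype π N x.1 x.2.1).mpr x.2.2)⟩ :
        {C : ConjClasses N // PiClass π C})) (by
      intro a b hab
      rw [MulAction.orbitRel_apply, MulAction.mem_orbit_iff] at hab
      obtain ⟨n, hn⟩ := hab
      apply Subtype.ext
      show ConjClasses.mk (⟨a.1, a.2.1⟩ : N) = ConjClasses.mk (⟨b.1, b.2.1⟩ : N)
      rw [ConjClasses.mk_eq_mk_iff_isConj, isConj_comm, isConj_iff]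
      refine ⟨n, Subtype.ext ?_⟩
      have := congrArg (fun t : {x : G // x ∈ N ∧ IsPi π x} => (t : G)) hn
      exact this)
  apply Nat.card_le_card_of_injective f
  intro q₁ q₂
  refine Quotient.inductionOn₂' q₁ q₂ ?_
  intro a b hab
  have hab' : ConjClasses.mk (⟨a.1, a.2.1⟩ : N) = ConjClasses.mk (⟨b.1, b.2.1⟩ : N) :=
    congrArg Subtype.val hab
  rw [ConjClasses.mk_eq_mk_iff_isConj, isConj_comm, isConj_iff] at hab'
  obtain ⟨n, hn⟩ := hab'
  apply Quotient.sound'
  rw [MulAction.orbitRel_apply, MulAction.mem_orbit_iff]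
  refine ⟨n, Subtype.ext ?_⟩
  have := congrArg (fun t : N => (t : G)) hn
  exact this

omit [Finite G] in
/-- the fibre of `ConjClasses.map` over the class of `gbar` is covered by `N`-orbits on the
`π`-elements of the coset. -/
theorem card_fiber_le (N : Subgroup G) [hN : N.Normal] [Finite G] (gbar : G ⧸ N) :
    Nat.card {C : {C : ConjClasses G // PiClass π C} //
        ConjClasses.map (QuotientGroup.mk' N) C.1 = ConjClasses.mk gbar} ≤
      Nat.card (letI := conjAct N _ (hP₁ π N gbar);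
        MulAction.orbitRel.Quotient N {x : G // (x : G ⧸ N) = gbar ∧ IsPi π x}) := by
  letI := conjAct N _ (hP₁ π N gbar)
  let f : MulAction.orbitRel.Quotient N {x : G // (x : G ⧸ N) = gbar ∧ IsPi π x} →
      {C : {C : ConjClasses G // PiClass π C} //
        ConjClasses.map (QuotientGroup.mk' N) C.1 = ConjClasses.mk gbar} := fun q =>
    Quotient.liftOn' q (fun x => (⟨⟨ConjClasses.mk x.1, (piClass_mk π _).mpr x.2.2⟩, by
        show ConjClasses.mk (QuotientGroup.mk' N x.1) = ConjClasses.mk gbar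
        rw [QuotientGroup.mk'_apply, x.2.1]⟩ :
      {C : {C : ConjClasses G // PiClass π C} //
        ConjClasses.map (QuotientGroup.mk' N) C.1 = ConjClasses.mk gbar})) (by
      intro a b hab
      rw [MulAction.orbitRel_apply, MulAction.mem_orbit_iff] at hab
      obtain ⟨n, hn⟩ := hab
      apply Subtype.ext
      apply Subtype.ext
      show ConjClasses.mk (a.1 : G) = ConjClasses.mk (b.1 : G)
      rw [ConjClasses.mk_eq_mk_iff_isConj, isConj_comm, isConj_iff]
      refine ⟨n, ?_⟩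
      have := congrArg (fun t : {x : G // (x : G ⧸ N) = gbar ∧ IsPi π x} => (t : G)) hn
      exact this)
  apply Nat.card_le_card_of_surjective f
  rintro ⟨⟨C, hC⟩, hCD⟩
  obtain ⟨y, rfl⟩ := ConjClasses.exists_rep C
  have hy : IsPi π y := (piClass_mk π y).mp hC
  have h1 : ConjClasses.mk ((y : G) : G ⧸ N) = ConjClasses.mk gbar := hCD
  rw [ConjClasses.mk_eq_mk_iff_isConj, isConj_iff] at h1
  obtain ⟨cbar, hc⟩ := h1
  obtain ⟨c, rfl⟩ := QuotientGroup.mk_surjective cbar
  have hx : ((c * y * c⁻¹ : G) : G ⧸ N) = gbar := by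
    rw [QuotientGroup.mk_mul, QuotientGroup.mk_mul, QuotientGroup.mk_inv]; exact hc
  refine ⟨Quotient.mk'' ⟨c * y * c⁻¹, hx, (isPi_conj π c y).mpr hy⟩, ?_⟩
  apply Subtype.ext
  apply Subtype.ext
  show ConjClasses.mk (c * y * c⁻¹) = ConjClasses.mk y
  rw [ConjClasses.mk_eq_mk_iff_isConj, isConj_comm, isConj_iff]
  exact ⟨c, rfl⟩


theorem card_fiber_le' (N : Subgroup G) [hN : N.Normal] (gbar : G ⧸ N) :
    Nat.card {C : {C : ConjClasses G // PiClass π C} //
        ConjClasses.map (QuotientGroup.mk' N) C.1 = ConjClasses.mk gbar} ≤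
      Nat.card {C : ConjClasses N // PiClass π C} := by
  have h1 := card_fiber_le π N gbar
  have h2 := card_fix_eq N _ (hP₁ π N gbar)
  have h3 := card_fix_eq N _ (hP₂ π N)
  have h4 := card_fix_le π N gbar
  have h5 := card_orbits_le π N
  rw [h2, h3] at h4
  have h6 := Nat.le_of_mul_le_mul_right h4 Nat.card_pos
  exact le_trans h1 (le_trans h6 h5)

/-- `k_π(G) ≤ k_π(N) · k_π(G/N)`. -/
theorem card_piClasses_le (N : Subgroup G) [hN : N.Normal] :
    Nat.card {C : ConjClasses G // PiClass π C} ≤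
      Nat.card {C : ConjClasses N // PiClass π C} *
        Nat.card {C : ConjClasses (G ⧸ N) // PiClass π C} := by
  classical
  have hΦ : ∀ C : {C : ConjClasses G // PiClass π C},
      PiClass π (ConjClasses.map (QuotientGroup.mk' N) C.1) := by
    rintro ⟨C, hC⟩
    obtain ⟨y, rfl⟩ := ConjClasses.exists_rep C
    have hy : IsPi π y := (piClass_mk π y).mp hC
    show PiClass π (ConjClasses.mk (QuotientGroup.mk' N y))
    rw [piClass_mk]
    intro q hq hqd
    exact hy q hq (dvd_trans hqd (orderOf_map_dvd _ y))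
  let Φ : {C : ConjClasses G // PiClass π C} → {C : ConjClasses (G ⧸ N) // PiClass π C} :=
    fun C => ⟨ConjClasses.map (QuotientGroup.mk' N) C.1, hΦ C⟩
  haveI : Fintype {C : ConjClasses (G ⧸ N) // PiClass π C} := Fintype.ofFinite _
  rw [← Nat.card_congr (Equiv.sigmaFiberEquiv Φ), Nat.card_sigma]
  calc ∑ b, Nat.card {a // Φ a = b}
      ≤ ∑ _b : {C : ConjClasses (G ⧸ N) // PiClass π C},
          Nat.card {C : ConjClasses N // PiClass π C} := by
        apply Finset.sum_le_sum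
        rintro ⟨D, hD⟩ _
        obtain ⟨gbar, rfl⟩ := ConjClasses.exists_rep D
        refine le_trans (le_of_eq ?_) (card_fiber_le' π N gbar)
        apply Nat.card_congr
        apply Equiv.subtypeEquivRight
        intro a
        exact Subtype.ext_iff
    _ = Nat.card {C : ConjClasses N // PiClass π C} *
        Nat.card {C : ConjClasses (G ⧸ N) // PiClass π C} := by
        rw [Finset.sum_const, Finset.card_univ, smul_eq_mul, mul_comm,
          ← Nat.card_eq_fintype_card]

end action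

end Cfsg.Agent.Helper21.PiClasses
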