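import Mathlib

/-!
# Elements of minimal noncentral class size (Isaacs / Mann)

If `K` is an abelian normal subgroup of the finite group `G` and `x` has the smallest class
size among noncentral elements (or is central), then `⁅x, k⁆ ∈ Z(G)` for all `k ∈ K`.
Consequently the subgroup generated by such elements has class at most 3 when `G` has a
self-centralizing normal abelian subgroup.
-/

set_option autoImplicit false
set_option linter.style.haveILetI false

namespace Cfsg.Agent.Helper21.MinClass

open Subgroup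
open scoped commutatorElement

variable {G : Type*} [Group G]

theorem card_mul_relIndex_of_le [Finite G] {H K : Subgroup G} (h : H ≤ K) :
    Nat.card H * H.relIndex K = Nat.card K := by
  have := relIndex_mul_relIndex (⊥ : Subgroup G) H K bot_le h
  rwa [relIndex_bot_left, relIndex_bot_left] at this

theorem index_centralizer_eq_one_iff (x : G) :
    (centralizer ({x} : Set G)).index = 1 ↔ x ∈ center G := by
  rw [index_eq_one, eq_top_iff]
  constructor
  · intro h
    rw [mem_center_iff]
    intro g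
    have := h (mem_top g)
    rw [mem_centralizer_singleton_iff] at this
    exact this
  · intro h g _
    rw [mem_centralizer_singleton_iff]
    rw [mem_center_iff] at h
    exact h g

/-- the counting heart: the `C(x)`-orbit of `u = ⁅x,k⁆ ≠ 1` is smaller than `|K : C_K(x)|`. -/
theorem relIndex_lt [Finite G] (K : Subgroup G) [hKn : K.Normal] (x k : G) (hk : k ∈ K)
    (hu : ⁅x, k⁆ ≠ 1) :
    (centralizer ({⁅x, k⁆} : Set G)).relIndex (centralizer ({x} : Set G)) <
      (centralizer ({x} : Set G)).relIndex K := by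
  classical
  set D := centralizer ({x} : Set G) with hD
  set u := ⁅x, k⁆ with hudef
  let T : Set G := {t | ∃ k' ∈ K, t = ⁅x, k'⁆}
  have h1T : (1 : G) ∈ T := ⟨1, K.one_mem, by simp⟩
  have hTfin : T.Finite := Set.toFinite T
  -- surjection K ⧸ (D.subgroupOf K) → T
  have hT_le : T.ncard ≤ D.relIndex K := by
    rw [relIndex, index, ← Nat.card_coe_set_eq]
    let g : (↥K ⧸ D.subgroupOf K) → T := fun q =>
      Quotient.liftOn' q (fun k' => (⟨⁅x, (k' : G)⁆, ⟨k', k'.2, rfl⟩⟩ : T)) (by
        intro a b hab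
        rw [QuotientGroup.leftRel_apply, mem_subgroupOf, hD, mem_centralizer_singleton_iff] at hab
        apply Subtype.ext
        show ⁅x, (a : G)⁆ = ⁅x, (b : G)⁆
        rw [commutatorElement_def, commutatorElement_def]
        have hab' : x * ((a : G)⁻¹ * (b : G)) = (a : G)⁻¹ * (b : G) * x := by
          simpa using hab.symm
        have h2 : (a : G) * x⁻¹ * (a : G)⁻¹ = (b : G) * x⁻¹ * (b : G)⁻¹ := by
          have : (a : G)⁻¹ * (b : G) * x⁻¹ = x⁻¹ * ((a : G)⁻¹ * (b : G)) := by
            have := congrArg (fun t => x⁻¹ * t * x⁻¹) hab'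
            simp only [mul_assoc, inv_mul_cancel_left, mul_inv_cancel, mul_one] at this
            simpa [mul_assoc] using this
          calc (a : G) * x⁻¹ * (a : G)⁻¹
              = (a : G) * (x⁻¹ * ((a : G)⁻¹ * (b : G))) * (b : G)⁻¹ := by group
            _ = (a : G) * ((a : G)⁻¹ * (b : G) * x⁻¹) * (b : G)⁻¹ := by rw [this]
            _ = (b : G) * x⁻¹ * (b : G)⁻¹ := by group
        calc x * (a : G) * x⁻¹ * (a : G)⁻¹ = x * ((a : G) * x⁻¹ * (a : G)⁻¹) := by group
          _ = x * ((b : G) * x⁻¹ * (b : G)⁻¹) := by rw [h2]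
          _ = x * (b : G) * x⁻¹ * (b : G)⁻¹ := by group)
    have hg : Function.Surjective g := by
      rintro ⟨t, k', hk', rfl⟩
      exact ⟨QuotientGroup.mk ⟨k', hk'⟩, rfl⟩
    exact Nat.card_le_card_of_surjective g hg
  -- injection D ⧸ (C(u).subgroupOf D) → T \ {1}
  have hO_le : (centralizer ({u} : Set G)).relIndex D ≤ (T \ {1}).ncard := by
    rw [relIndex, index, ← Nat.card_coe_set_eq]
    let f : (↥D ⧸ (centralizer ({u} : Set G)).subgroupOf D) → ↥(T \ {1}) := fun q =>
      Quotient.liftOn' q (fun d => (⟨(d : G) * u * (d : G)⁻¹, by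
        refine ⟨⟨(d : G) * k * (d : G)⁻¹, hKn.conj_mem k hk d, ?_⟩, ?_⟩
        · have hd : x * (d : G) = (d : G) * x := by
            have := (mem_centralizer_singleton_iff (g := x)).mp d.2
            exact this.symm
          have hd' : (d : G)⁻¹ * x = x * (d : G)⁻¹ := by
            calc (d : G)⁻¹ * x = (d : G)⁻¹ * (x * (d : G)) * (d : G)⁻¹ := by group
              _ = (d : G)⁻¹ * ((d : G) * x) * (d : G)⁻¹ := by rw [hd]
              _ = x * (d : G)⁻¹ := by group
          have hd'' : (d : G)⁻¹ * x⁻¹ = x⁻¹ * (d : G)⁻¹ := by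
            calc (d : G)⁻¹ * x⁻¹ = (x * (d : G))⁻¹ := by group
              _ = ((d : G) * x)⁻¹ := by rw [hd]
              _ = x⁻¹ * (d : G)⁻¹ := by group
          rw [hudef, commutatorElement_def, commutatorElement_def]
          calc (d : G) * (x * k * x⁻¹ * k⁻¹) * (d : G)⁻¹
              = ((d : G) * x) * k * x⁻¹ * k⁻¹ * (d : G)⁻¹ := by group
            _ = (x * (d : G)) * k * x⁻¹ * k⁻¹ * (d : G)⁻¹ := by rw [hd]
            _ = x * ((d : G) * k) * (x⁻¹ * (d : G)⁻¹) * ((d : G) * k⁻¹ * (d : G)⁻¹) := by group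
            _ = x * ((d : G) * k) * ((d : G)⁻¹ * x⁻¹) * ((d : G) * k⁻¹ * (d : G)⁻¹) := by
                rw [hd'']
            _ = x * ((d : G) * k * (d : G)⁻¹) * x⁻¹ * ((d : G) * k * (d : G)⁻¹)⁻¹ := by group
        · intro h
          apply hu
          have h' : (d : G) * u * (d : G)⁻¹ = 1 := h
          calc u = (d : G)⁻¹ * ((d : G) * u * (d : G)⁻¹) * (d : G) := by group
            _ = 1 := by rw [h']; group⟩ : ↥(T \ {1}))) (by
        intro a b hab
        rw [QuotientGroup.leftRel_apply, mem_subgroupOf, mem_centralizer_singleton_iff] at hab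
        apply Subtype.ext
        show (a : G) * u * (a : G)⁻¹ = (b : G) * u * (b : G)⁻¹
        have hab' : u * ((a : G)⁻¹ * (b : G)) = (a : G)⁻¹ * (b : G) * u := by
          simpa using hab.symm
        calc (a : G) * u * (a : G)⁻¹
            = (a : G) * (u * ((a : G)⁻¹ * (b : G))) * (b : G)⁻¹ := by group
          _ = (a : G) * ((a : G)⁻¹ * (b : G) * u) * (b : G)⁻¹ := by rw [hab']
          _ = (b : G) * u * (b : G)⁻¹ := by group)
    have hf : Function.Injective f := by
      intro q₁ q₂
      refine Quotient.inductionOn₂' q₁ q₂ ?_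
      intro a b hab
      have hab' : (a : G) * u * (a : G)⁻¹ = (b : G) * u * (b : G)⁻¹ :=
        congrArg (fun t : ↥(T \ {1}) => (t : G)) hab
      apply Quotient.sound'
      rw [QuotientGroup.leftRel_apply, mem_subgroupOf, mem_centralizer_singleton_iff]
      show (a : G)⁻¹ * (b : G) * u = u * ((a : G)⁻¹ * (b : G))
      symm
      calc u * ((a : G)⁻¹ * (b : G))
          = (a : G)⁻¹ * ((a : G) * u * (a : G)⁻¹) * (b : G) := by group
        _ = (a : G)⁻¹ * ((b : G) * u * (b : G)⁻¹) * (b : G) := by rw [hab']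
        _ = (a : G)⁻¹ * (b : G) * u := by group
    exact Nat.card_le_card_of_injective f hf
  calc (centralizer ({u} : Set G)).relIndex D ≤ (T \ {1}).ncard := hO_le
    _ < T.ncard := Set.ncard_sdiff_singleton_lt_of_mem h1T hTfin
    _ ≤ D.relIndex K := hT_le


/-- **Isaacs' lemma.** If `K` is abelian normal and `x` has minimal class size among noncentral
elements, then `⁅x, k⁆` is central for all `k ∈ K`. -/
theorem commutator_mem_center [Finite G] (K : Subgroup G) [hKn : K.Normal]
    (hK : ∀ a ∈ K, ∀ b ∈ K, a * b = b * a) (x : G)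
    (hmin : ∀ y : G, 1 < (centralizer ({y} : Set G)).index →
      (centralizer ({x} : Set G)).index ≤ (centralizer ({y} : Set G)).index)
    (k : G) (hk : k ∈ K) : ⁅x, k⁆ ∈ center G := by
  by_contra hcon
  set u := ⁅x, k⁆ with hudef
  set D := centralizer ({x} : Set G) with hD
  set C := centralizer ({u} : Set G) with hC
  have hu1 : u ≠ 1 := by
    intro h
    apply hcon
    rw [h]
    exact one_mem _
  have huK : u ∈ K := by
    rw [hudef, commutatorElement_def]
    exact K.mul_mem (hKn.conj_mem k hk x) (K.inv_mem hk)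
  -- index of C(u) is > 1
  have hidx : 1 < C.index := by
    have h0 : C.index ≠ 0 := index_ne_zero_of_finite
    have h1 : C.index ≠ 1 := by
      intro h
      exact hcon ((index_centralizer_eq_one_iff u).mp h)
    omega
  have hle : D.index ≤ C.index := hmin u hidx
  have hcardle : Nat.card C ≤ Nat.card D := by
    have h1 := C.card_mul_index
    have h2 := D.card_mul_index
    have hDpos : 0 < D.index := Nat.pos_of_ne_zero index_ne_zero_of_finite
    have : Nat.card C * D.index ≤ Nat.card D * D.index := by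
      calc Nat.card C * D.index ≤ Nat.card C * C.index := Nat.mul_le_mul_left _ hle
        _ = Nat.card D * D.index := by rw [h1, h2]
    exact Nat.le_of_mul_le_mul_right this hDpos
  -- K ≤ C(u)
  have hKC : K ≤ C := by
    intro a ha
    rw [hC, mem_centralizer_singleton_iff]
    exact hK a ha u huK
  set E := C ⊓ D with hE
  have hKE : K ⊔ E ≤ C := sup_le hKC inf_le_left
  have hKEinf : K ⊓ E = K ⊓ D := by
    rw [hE, ← inf_assoc, inf_eq_left.mpr hKC]
  have hlt := relIndex_lt K x k hk hu1
  -- cardinal arithmetic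
  have e1 : Nat.card K * K.relIndex E = Nat.card (K ⊔ E : Subgroup G) := by
    rw [← relIndex_sup_left (K := K) (H := E)]
    exact card_mul_relIndex_of_le le_sup_left
  have e2 : Nat.card (K ⊓ D : Subgroup G) * D.relIndex K = Nat.card K := by
    rw [← inf_relIndex_left K D]
    exact card_mul_relIndex_of_le inf_le_left
  have e3 : Nat.card (K ⊓ D : Subgroup G) * K.relIndex E = Nat.card E := by
    rw [← hKEinf, ← inf_relIndex_right K E]
    exact card_mul_relIndex_of_le inf_le_right
  have e4 : Nat.card E * C.relIndex D = Nat.card D := by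
    rw [← inf_relIndex_right C D]
    exact card_mul_relIndex_of_le inf_le_right
  have hpos1 : 0 < Nat.card (K ⊓ D : Subgroup G) := Nat.card_pos
  have hpos2 : 0 < K.relIndex E := by
    rcases Nat.eq_zero_or_pos (K.relIndex E) with h | h
    · rw [h, mul_zero] at e3
      exact absurd e3.symm (Nat.card_pos (α := E)).ne'
    · exact h
  have h5 : Nat.card (K ⊔ E : Subgroup G) ≤ Nat.card D :=
    le_trans (Subgroup.card_le_of_le hKE) hcardle
  have h6 : Nat.card D < Nat.card (K ⊔ E : Subgroup G) := by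
    rw [← e4, ← e3, ← e1, ← e2]
    calc Nat.card (K ⊓ D : Subgroup G) * K.relIndex E * C.relIndex D
        < Nat.card (K ⊓ D : Subgroup G) * K.relIndex E * D.relIndex K :=
          Nat.mul_lt_mul_of_pos_left hlt (Nat.mul_pos hpos1 hpos2)
      _ = Nat.card (K ⊓ D : Subgroup G) * D.relIndex K * K.relIndex E := by ring
  exact absurd h5 (not_le.mpr h6)

/-- the same with a central `x`. -/
theorem commutator_mem_center_of_index_eq_one (x : G)
    (hx : (centralizer ({x} : Set G)).index = 1) (k : G) : ⁅x, k⁆ ∈ center G := by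
  have hxc := (index_centralizer_eq_one_iff x).mp hx
  rw [mem_center_iff] at hxc
  have : ⁅x, k⁆ = 1 := by
    rw [commutatorElement_def, ← hxc k]
    group
  rw [this]
  exact one_mem _

/-- the set of `y` with `⁅y, K⁆ ⊆ Z(G)` is a subgroup. -/
def centralCommSubgroup (K : Subgroup G) : Subgroup G where
  carrier := {y | ∀ k ∈ K, ⁅y, k⁆ ∈ center G}
  one_mem' := by
    intro k _
    simp
  mul_mem' := by
    intro a b ha hb k hk
    have h1 := ha k hk
    have h2 := hb k hk
    have : ⁅a * b, k⁆ = ⁅a, k⁆ * ⁅b, k⁆ := by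
      rw [mem_center_iff] at h2
      rw [commutatorElement_def, commutatorElement_def]
      calc a * b * k * (a * b)⁻¹ * k⁻¹ = a * ⁅b, k⁆ * k * a⁻¹ * k⁻¹ := by
            rw [commutatorElement_def]; group
        _ = ⁅b, k⁆ * a * k * a⁻¹ * k⁻¹ := by rw [← h2 a]
        _ = a * k * a⁻¹ * k⁻¹ * ⁅b, k⁆ := by
            rw [h2 (a * k * a⁻¹ * k⁻¹)]; group
        _ = a * k * a⁻¹ * k⁻¹ * (b * k * b⁻¹ * k⁻¹) := by rw [commutatorElement_def]
    rw [this]
    exact mul_mem h1 h2
  inv_mem' := by
    intro a ha k hk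
    have h1 := ha k hk
    have : ⁅a⁻¹, k⁆ = ⁅a, k⁆⁻¹ := by
      rw [mem_center_iff] at h1
      have h2 : ⁅a⁻¹, k⁆ = a⁻¹ * ⁅a, k⁆⁻¹ * a := by
        rw [commutatorElement_def, commutatorElement_def]; group
      rw [h2, ← mem_center_iff] at *
      have h3 : ⁅a, k⁆⁻¹ ∈ center G := inv_mem h1
      rw [mem_center_iff] at h3
      rw [h3 a⁻¹]; group
    rw [this]
    exact inv_mem h1

theorem mem_centralCommSubgroup {K : Subgroup G} {y : G} :
    y ∈ centralCommSubgroup K ↔ ∀ k ∈ K, ⁅y, k⁆ ∈ center G := Iff.rfl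


/-- If `A` is self-centralizing and `⁅M, A⁆ ≤ Z(G)`, then triple commutators of `M` vanish. -/
theorem triple_commutator_eq_one (A : Subgroup G)
    (hCA : centralizer (A : Set G) = A) (M : Subgroup G)
    (hM : ∀ y ∈ M, ∀ k ∈ A, ⁅y, k⁆ ∈ center G) (x y z w : G) (hx : x ∈ M) (hy : y ∈ M)
    (hz : z ∈ M) : ⁅⁅⁅x, y⁆, z⁆, w⁆ = 1 := by
  have hMA : ⁅M, A⁆ ≤ center G := commutator_le.mpr hM
  have h1 : ⁅⁅M, A⁆, M⁆ = ⊥ := by
    rw [commutator_eq_bot_iff_le_centralizer]
    exact le_trans hMA (center_le_centralizer _)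
  have h2 : ⁅⁅A, M⁆, M⁆ = ⊥ := by
    rw [commutator_comm A M]; exact h1
  have h3 : ⁅⁅M, M⁆, A⁆ = ⊥ := commutator_commutator_eq_bot_of_rotate h1 h2
  have hMM : ⁅M, M⁆ ≤ A := by
    rw [commutator_eq_bot_iff_le_centralizer, hCA] at h3
    exact h3
  have hc1 : ⁅x, y⁆ ∈ A := hMM (commutator_mem_commutator hx hy)
  have hc2 : ⁅z, ⁅x, y⁆⁆ ∈ center G := hM z hz _ hc1
  have hc2' : ⁅⁅x, y⁆, z⁆ ∈ center G := by
    rw [← commutatorElement_inv]
    exact inv_mem hc2
  rw [mem_center_iff] at hc2'
  rw [commutatorElement_eq_one_iff_mul_comm]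
  exact (hc2' w).symm

/-- If `A` is a self-centralizing normal abelian subgroup and `⁅M, A⁆ ≤ Z(G)`, then `M` has
nilpotency class at most 3. -/
theorem upperCentralSeries_three_eq_top (A : Subgroup G)
    (hCA : centralizer (A : Set G) = A) (M : Subgroup G)
    (hM : ∀ y ∈ M, ∀ k ∈ A, ⁅y, k⁆ ∈ center G) :
    Subgroup.upperCentralSeries ↥M 3 = ⊤ := by
  rw [eq_top_iff]
  intro x _
  rw [Subgroup.mem_upperCentralSeries_succ_iff]
  intro y
  rw [Subgroup.mem_upperCentralSeries_succ_iff]
  intro z
  rw [Subgroup.mem_upperCentralSeries_succ_iff]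
  intro w
  rw [Subgroup.upperCentralSeries_zero, mem_bot]
  apply Subtype.ext
  exact triple_commutator_eq_one A hCA M hM x y z w x.2 y.2 z.2

/-- whole-group version. -/
theorem upperCentralSeries_three_eq_top' (A : Subgroup G)
    (hCA : centralizer (A : Set G) = A)
    (hM : ∀ y : G, ∀ k ∈ A, ⁅y, k⁆ ∈ center G) :
    Subgroup.upperCentralSeries G 3 = ⊤ := by
  rw [eq_top_iff]
  intro x _
  rw [Subgroup.mem_upperCentralSeries_succ_iff]
  intro y
  rw [Subgroup.mem_upperCentralSeries_succ_iff]
  intro z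
  rw [Subgroup.mem_upperCentralSeries_succ_iff]
  intro w
  rw [Subgroup.upperCentralSeries_zero, mem_bot]
  exact triple_commutator_eq_one A hCA ⊤ (fun y _ => hM y) x y z w (mem_top _) (mem_top _)
    (mem_top _)

end Cfsg.Agent.Helper21.MinClass
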