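import Mathlib
import Cfsg.Agent.Helper2.S2400.Defs
import Cfsg.Agent.Helper2.Stein.Tab
import Cfsg.Prelude.Def_KGroupFacts
import Cfsg.Prelude.Def_Steinberg

set_option autoImplicit false
set_option linter.unusedSectionVars false
set_option linter.unusedVariables false

/-! S2400 piece SECS: the torus sections `secT`. -/

namespace Cfsg.Agent.S2400P

open scoped commutatorElement
open Cfsg.Lie Cfsg.Agent.Helper2.Stb Cfsg.Agent.Helper2.StPerf Cfsg.Agent.Helper2.Stein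
open Cfsg.Agent.S2086P (CL cl map_cl cl_eq commute_comm CL_of_comm)

universe u

variable {K : Type*} [Field K] {G : Type*} [Group G] {E : Type*} [Group E]

namespace SECS

theorem X_zero (S : B2C K G) (k : ZMod 8) : S.X k 0 = 1 := by
  have h := S.circ.add k 0 0
  rw [add_zero] at h
  exact mul_eq_left.mp h

theorem X_neg (S : B2C K G) (k : ZMod 8) (t : K) : S.X k (-t) = (S.X k t)⁻¹ := by
  apply eq_inv_of_mul_eq_one_left
  rw [S.circ.add, neg_add_cancel, X_zero]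

theorem comm_H_X (S : B2C K G) (i k : ZMod 8) {v : K} (hv : v ≠ 0) (t : K) :
    ⁅S.H i v, S.X k t⁆ = S.X k ((v ^ (cA i k) - 1) * t) := by
  rw [commutatorElement_def, S.conj i v hv, ← X_neg, S.circ.add]
  congr 1
  ring

end SECS

theorem map_secT (S : B2C K G) (ψ : E →* G) (hψ : Function.Surjective ψ) {i k : ZMod 8} {v : K}
    (hv : v ≠ 0) (hne : v ^ (cA i k) ≠ 1) (t : K) : ψ (secT S ψ hψ i k v t) = S.X k t := by
  unfold secT
  rw [map_cl, SECS.comm_H_X S i k hv]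
  congr 1
  have : v ^ (cA i k) - 1 ≠ 0 := sub_ne_zero.mpr hne
  field_simp

theorem secT_add (S : B2C K G) (ψ : E →* G) (hψ : Function.Surjective ψ)
    (hc : ψ.ker ≤ Subgroup.center E) {i k : ZMod 8} {v : K} (hv : v ≠ 0)
    (hne : v ^ (cA i k) ≠ 1) (hkk : CLr S ψ k k) (t u : K) :
    secT S ψ hψ i k v (t + u) = secT S ψ hψ i k v t * secT S ψ hψ i k v u := by
  obtain ⟨c, hcdef⟩ : ∃ c : K, c = v ^ (cA i k) - 1 := ⟨_, rfl⟩
  obtain ⟨h, hh⟩ : ∃ h : E, h = Function.surjInv hψ (S.H i v) := ⟨_, rfl⟩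
  obtain ⟨x, hx⟩ : ∃ x : E, x = Function.surjInv hψ (S.X k (t / c)) := ⟨_, rfl⟩
  obtain ⟨y, hy⟩ : ∃ y : E, y = Function.surjInv hψ (S.X k (u / c)) := ⟨_, rfl⟩
  have hhm : ψ h = S.H i v := by rw [hh, Function.surjInv_eq hψ]
  have hxm : ψ x = S.X k (t / c) := by rw [hx, Function.surjInv_eq hψ]
  have hym : ψ y = S.X k (u / c) := by rw [hy, Function.surjInv_eq hψ]
  have e1 : secT S ψ hψ i k v t = ⁅h, x⁆ := by
    unfold secT cl; rw [hh, hx, hcdef]
  have e2 : secT S ψ hψ i k v u = ⁅h, y⁆ := by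
    unfold secT cl; rw [hh, hy, hcdef]
  have e3 : secT S ψ hψ i k v (t + u) = ⁅h, x * y⁆ := by
    unfold secT
    symm
    apply cl_eq ψ hψ hc hhm
    rw [map_mul, hxm, hym, S.circ.add, hcdef, add_div]
  have hmy : ψ ⁅h, y⁆ = S.X k u := by
    rw [← e2]; exact map_secT S ψ hψ hv hne u
  have hcomm : Commute x ⁅h, y⁆ := hkk (t / c) u x ⁅h, y⁆ hxm hmy
  have e : ⁅h, x * y⁆ = ⁅h, x⁆ * (x * ⁅h, y⁆ * x⁻¹) := by
    simp only [commutatorElement_def]; group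
  rw [e3, e1, e2, e]
  congr 1
  rw [hcomm.eq, mul_inv_cancel_right]

theorem secT_conj (S : B2C K G) (ψ : E →* G) (hψ : Function.Surjective ψ)
    (hc : ψ.ker ≤ Subgroup.center E) {i k : ZMod 8} {v : K} (hv : v ≠ 0) {g : E} {j : ZMod 8}
    {w : K} (hw : w ≠ 0) (hg : ψ g = S.H j w) (t : K) :
    g * secT S ψ hψ i k v t * g⁻¹ = secT S ψ hψ i k v (w ^ (cA j k) * t) := by
  obtain ⟨c, hcdef⟩ : ∃ c : K, c = v ^ (cA i k) - 1 := ⟨_, rfl⟩
  obtain ⟨h, hh⟩ : ∃ h : E, h = Function.surjInv hψ (S.H i v) := ⟨_, rfl⟩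
  obtain ⟨x, hx⟩ : ∃ x : E, x = Function.surjInv hψ (S.X k (t / c)) := ⟨_, rfl⟩
  have hhm : ψ h = S.H i v := by rw [hh, Function.surjInv_eq hψ]
  have hxm : ψ x = S.X k (t / c) := by rw [hx, Function.surjInv_eq hψ]
  have e1 : secT S ψ hψ i k v t = ⁅h, x⁆ := by
    unfold secT cl; rw [hh, hx, hcdef]
  have e : g * ⁅h, x⁆ * g⁻¹ = ⁅g * h * g⁻¹, g * x * g⁻¹⁆ := by
    simp only [commutatorElement_def]; group
  rw [e1, e]
  unfold secT
  apply cl_eq ψ hψ hc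
  · rw [map_mul, map_mul, map_inv, hg, hhm]
    have := (S.hcomm j w i v hw hv).eq
    rw [this, mul_inv_cancel_right]
  · rw [map_mul, map_mul, map_inv, hg, hxm, S.conj j w hw, hcdef, mul_div_assoc]

end Cfsg.Agent.S2400P
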