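import Mathlib
import Cfsg.Agent.Helper2.S2400.Defs
import Cfsg.Agent.Helper2.Stein.Tab
import Cfsg.Prelude.Def_KGroupFacts
import Cfsg.Prelude.Def_Steinberg

set_option autoImplicit false
set_option linter.unusedSectionVars false
set_option linter.unusedVariables false

/-! S2400 piece TOR: commuting root subgroups have commuting lifts, by the torus. -/

namespace Cfsg.Agent.S2400P

open scoped commutatorElement
open Cfsg.Lie Cfsg.Agent.Helper2.Stb Cfsg.Agent.Helper2.StPerf Cfsg.Agent.Helper2.Stein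
open Cfsg.Agent.S2086P (CL cl map_cl cl_eq commute_comm CL_of_comm)

universe u

variable {K : Type*} [Field K] {G : Type*} [Group G] {E : Type*} [Group E]

namespace TOR

theorem cA_even_a : ∀ k : ZMod 8, IsS k → cA (k + 3) (k + 1) = 0 ∧ cA (k + 3) k = -1 := by decide

theorem cA_odd_a : ∀ k : ZMod 8, IsL k → cA (k + 2) k = 0 ∧ cA (k + 2) (k + 1) = 1 := by decide

theorem cA_LL : ∀ l : ZMod 8, IsL l → cA l (l + 2) = 0 ∧ cA l l = 2 := by decide

theorem isS_or_isL : ∀ k : ZMod 8, IsS k ∨ IsL k := by decide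

end TOR

theorem clr_of_torus (S : B2C K G) (ψ : E →* G) (hψ : Function.Surjective ψ)
    (hc : ψ.ker ≤ Subgroup.center E) {k j i : ZMod 8} {v : K} (hv : v ≠ 0)
    (hkj : ∀ t u, Commute (S.X k t) (S.X j u)) (h1 : cA i k = 0) (h2 : v ^ (cA i j) ≠ 1) :
    CLr S ψ k j := by
  -- the canonical commutator
  have hcen : ∀ t u, cl ψ hψ (S.X k t) (S.X j u) ∈ Subgroup.center E := by
    intro t u
    apply hc
    rw [MonoidHom.mem_ker, map_cl, commutatorElement_eq_one_iff_commute]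
    exact hkj t u
  have hadd : ∀ t u u', cl ψ hψ (S.X k t) (S.X j (u + u')) =
      cl ψ hψ (S.X k t) (S.X j u) * cl ψ hψ (S.X k t) (S.X j u') := by
    intro t u u'
    obtain ⟨x, hx⟩ := hψ (S.X k t)
    obtain ⟨y, hy⟩ := hψ (S.X j u)
    obtain ⟨y', hy'⟩ := hψ (S.X j u')
    have e1 : ⁅x, y⁆ = cl ψ hψ (S.X k t) (S.X j u) := cl_eq ψ hψ hc hx hy
    have e2 : ⁅x, y'⁆ = cl ψ hψ (S.X k t) (S.X j u') := cl_eq ψ hψ hc hx hy'
    have e3 : ⁅x, y * y'⁆ = cl ψ hψ (S.X k t) (S.X j (u + u')) := by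
      apply cl_eq ψ hψ hc hx
      rw [map_mul, hy, hy', S.circ.add]
    rw [← e3, ← e1, ← e2]
    apply comm_mul_right_of_central
    rw [e2]; exact hcen t u'
  have hscale : ∀ t u, cl ψ hψ (S.X k t) (S.X j (v ^ (cA i j) * u)) =
      cl ψ hψ (S.X k t) (S.X j u) := by
    intro t u
    obtain ⟨x, hx⟩ := hψ (S.X k t)
    obtain ⟨y, hy⟩ := hψ (S.X j u)
    obtain ⟨g, hg⟩ := hψ (S.H i v)
    have e1 : ⁅x, y⁆ = cl ψ hψ (S.X k t) (S.X j u) := cl_eq ψ hψ hc hx hy
    have e2 : ⁅g * x * g⁻¹, g * y * g⁻¹⁆ = cl ψ hψ (S.X k t) (S.X j (v ^ (cA i j) * u)) := by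
      apply cl_eq ψ hψ hc
      · rw [map_mul, map_mul, map_inv, hg, hx, S.conj i v hv, h1, zpow_zero, one_mul]
      · rw [map_mul, map_mul, map_inv, hg, hy, S.conj i v hv]
    have e : g * ⁅x, y⁆ * g⁻¹ = ⁅g * x * g⁻¹, g * y * g⁻¹⁆ := by
      simp only [commutatorElement_def]; group
    rw [← e2, ← e, e1]
    have hz := Subgroup.mem_center_iff.1 (hcen t u) g
    rw [hz, mul_inv_cancel_right]
  have hone : ∀ t u, cl ψ hψ (S.X k t) (S.X j u) = 1 := by
    intro t
    exact mul_eq_one_of_scale (fun u => cl ψ hψ (S.X k t) (S.X j u)) (hadd t)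
      (sub_ne_zero.mpr h2) (hscale t)
  intro t u e e' he he'
  have := cl_eq ψ hψ hc he he'
  rw [hone] at this
  exact commutatorElement_eq_one_iff_commute.1 this

theorem clr_45 (S : B2C K G) (ψ : E →* G) (hψ : Function.Surjective ψ)
    (hc : ψ.ker ≤ Subgroup.center E) {v : K} (hv0 : v ≠ 0) (hv1 : v ≠ 1) (k : ZMod 8) :
    CLr S ψ k (k + 1) := by
  rcases TOR.isS_or_isL k with hk | hk
  · obtain ⟨a1, a2⟩ := TOR.cA_even_a k hk
    have h : CLr S ψ (k + 1) k := by
      apply clr_of_torus S ψ hψ hc (i := k + 3) hv0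
      · intro t u; exact (S.circ.comm45 k u t).symm
      · exact a1
      · rw [a2, zpow_neg, zpow_one]
        intro h
        apply hv1
        rw [inv_eq_one] at h
        exact h
    exact h.symm
  · obtain ⟨a1, a2⟩ := TOR.cA_odd_a k hk
    apply clr_of_torus S ψ hψ hc (i := k + 2) hv0
    · intro t u; exact S.circ.comm45 k t u
    · exact a1
    · rw [a2, zpow_one]; exact hv1

theorem clr_LL_of_sq (S : B2C K G) (ψ : E →* G) (hψ : Function.Surjective ψ)
    (hc : ψ.ker ≤ Subgroup.center E) {v : K} (hv0 : v ≠ 0) (hv2 : v ^ 2 ≠ 1) (l : ZMod 8)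
    (hl : IsL l) : CLr S ψ l (l + 2) := by
  obtain ⟨a1, a2⟩ := TOR.cA_LL l hl
  have h : CLr S ψ (l + 2) l := by
    apply clr_of_torus S ψ hψ hc (i := l) hv0
    · intro t u; exact (S.circ.commLL l hl u t).symm
    · exact a1
    · rw [a2]
      intro h
      apply hv2
      rw [← h]
      norm_cast
  exact h.symm

end Cfsg.Agent.S2400P
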