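import Mathlib
import Cfsg.Agent.Helper29.S2264Defs
import Cfsg.Agent.Helper26.S2264RECIP2

/-! S2264 + S2265, piece SELFREC: a self-reciprocal monic irreducible polynomial other than
`X ± 1` over a finite field has even degree `2a` and divides `X ^ (q ^ a + 1) - 1`. -/

set_option autoImplicit false

namespace Cfsg.Agent.S2264P

open Polynomial
open scoped Classical

noncomputable section

variable {F : Type*} [Field F]

namespace SELFREC

theorem frob_pow_apply [Fintype F] {K : Type*} [Field K] [Algebra F K] (j : ℕ) (x : K) :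
    (FiniteField.frobeniusAlgHom F K ^ j) x = x ^ (Fintype.card F ^ j) := by
  rw [AlgHom.coe_pow, FiniteField.coe_frobeniusAlgHom, pow_iterate]

theorem eq_of_dvd_linear {f g : F[X]} (hf : Irreducible f) (hm : f.Monic) (hg : g.Monic)
    (hg1 : g.natDegree = 1) (h : f ∣ g) : f = g := by
  have h1 : 0 < f.natDegree := Irreducible.natDegree_pos hf
  have h2 : f.natDegree ≤ g.natDegree := Polynomial.natDegree_le_of_dvd h hg.ne_zero
  exact (Polynomial.eq_of_monic_of_dvd_of_natDegree_le hm hg h (by omega)).symm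

end SELFREC

open SELFREC in
theorem selfrec_even [Fintype F] {f : F[X]} (hf : Irreducible f) (hm : f.Monic)
    (hr : recip f = f) (hu : ¬ IsUnip f) :
    2 ≤ f.natDegree ∧ Even f.natDegree ∧
      f ∣ X ^ (Fintype.card F ^ (f.natDegree / 2) + 1) - 1 := by
  have : Fact (Irreducible f) := ⟨hf⟩
  have hf0 : f ≠ 0 := hm.ne_zero
  -- constant coefficient
  have h0 : f.coeff 0 ≠ 0 := by
    intro hc
    apply hf0
    rw [← hr, recip, hc, inv_zero, map_zero, zero_mul]
  -- the field `K = F[X]/(f)`
  let pb := AdjoinRoot.powerBasis hf0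
  have : Module.Finite F (AdjoinRoot f) := pb.finite
  have : Finite (AdjoinRoot f) := Module.finite_of_finite F
  have hdim : Module.finrank F (AdjoinRoot f) = f.natDegree := by
    rw [pb.finrank]; rfl
  set α : AdjoinRoot f := AdjoinRoot.root f with hα
  have hroot : aeval α f = 0 := by
    rw [AdjoinRoot.aeval_eq, AdjoinRoot.mk_self]
  have hα0 : α ≠ 0 := by
    intro h
    rw [h, ← Polynomial.coeff_zero_eq_aeval_zero'] at hroot
    exact h0 ((map_eq_zero (algebraMap F (AdjoinRoot f))).mp hroot)
  -- `α⁻¹` is a root of `f`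
  have hinv : aeval α⁻¹ f = 0 := by
    have := aeval_inv_recip (R := AdjoinRoot f) h0 (Units.mk0 α hα0) (by simpa using hroot)
    rw [hr] at this
    simpa using this
  -- the endomorphism `α ↦ α⁻¹`
  let σ : AdjoinRoot f →ₐ[F] AdjoinRoot f :=
    AdjoinRoot.liftAlgHom f (Algebra.ofId F (AdjoinRoot f)) α⁻¹ (by
      rw [← hinv]; rfl)
  have hσ : σ α = α⁻¹ := AdjoinRoot.liftAlgHom_root _ _ _ _
  obtain ⟨⟨j, hj⟩, hjσ⟩ := (FiniteField.bijective_frobeniusAlgHom_pow F (AdjoinRoot f)).2 σ
  simp only at hjσ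
  rw [hdim] at hj
  have hαj : α ^ (Fintype.card F ^ j) = α⁻¹ := by
    rw [← frob_pow_apply, hjσ, hσ]
  have hdvd_of : ∀ g : F[X], aeval α g = 0 → f ∣ g := by
    intro g hg
    rwa [AdjoinRoot.aeval_eq, AdjoinRoot.mk_eq_zero] at hg
  by_cases hj0 : j = 0
  · exfalso
    subst hj0
    rw [pow_zero, pow_one] at hαj
    have h1 : α * α = 1 := by
      nth_rewrite 2 [hαj]
      exact mul_inv_cancel₀ hα0
    have h2 : (α - 1) * (α + 1) = 0 := by
      have : (α - 1) * (α + 1) = α * α - 1 := by ring
      rw [this, h1, sub_self]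
    rcases mul_eq_zero.mp h2 with h3 | h3
    · apply hu
      left
      apply eq_of_dvd_linear hf hm (Polynomial.monic_X_sub_C (1 : F)) (Polynomial.natDegree_X_sub_C _)
      apply hdvd_of
      simpa using h3
    · apply hu
      right
      apply eq_of_dvd_linear hf hm (Polynomial.monic_X_add_C (1 : F)) (Polynomial.natDegree_X_add_C _)
      apply hdvd_of
      simpa using h3
  · -- `σ²` fixes `α`
    have h1 : (FiniteField.frobeniusAlgHom F (AdjoinRoot f) ^ (2 * j)) α = α := by
      rw [two_mul, pow_add, AlgHom.mul_apply, hjσ, hσ, map_inv₀, hσ, inv_inv]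
    have h2 : FiniteField.frobeniusAlgHom F (AdjoinRoot f) ^ (2 * j) = 1 := by
      apply AdjoinRoot.algHom_ext
      rw [h1]; rfl
    have h3 : f.natDegree ∣ 2 * j := by
      rw [← hdim, ← FiniteField.orderOf_frobeniusAlgHom F (AdjoinRoot f)]
      exact orderOf_dvd_of_pow_eq_one h2
    obtain ⟨c, hc⟩ := h3
    have hjpos : 0 < j := Nat.pos_of_ne_zero hj0
    have hc1 : c = 1 := by
      have hc0 : c ≠ 0 := by
        rintro rfl
        omega
      by_contra hne
      have : 2 ≤ c := by omega
      have : f.natDegree * 2 ≤ f.natDegree * c := Nat.mul_le_mul_left _ this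
      omega
    subst hc1
    rw [mul_one] at hc
    have hd2 : f.natDegree / 2 = j := by omega
    refine ⟨by omega, ⟨j, by omega⟩, ?_⟩
    rw [hd2]
    apply hdvd_of
    rw [map_sub, map_pow, Polynomial.aeval_X, map_one, pow_succ, hαj, inv_mul_cancel₀ hα0, sub_self]

end

end Cfsg.Agent.S2264P
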