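import Mathlib
import Cfsg.Agent.Helper13.S3816Defs
import Cfsg.Agent.Helper13.S3816Basic

/-! s3816pieces C1A core (helper21): case 1 (`[N,A] = 1`): `N` is central in `K` (three subgroups lemma)
and of prime order; the facts of MC1 enter as hypotheses. -/

set_option autoImplicit false

namespace Cfsg.Agent.S3816P

universe u

variable {G : Type u} [Group G] [Finite G] {A K N : Subgroup G}

omit [Finite G] in
/-- three subgroups lemma: `[N,A] = 1`, `N` normal, `[K,A] = K` give `[K,N] = 1`. -/
theorem c1_central_core (hcomm : ⁅K, A⁆ = K) (hNn : N.Normal)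
    (h1 : N ≤ Subgroup.centralizer (A : Set G)) : N ≤ Subgroup.centralizer (K : Set G) := by
  have hNA : ⁅N, A⁆ = ⊥ := Subgroup.commutator_eq_bot_iff_le_centralizer.mpr h1
  have hAN : ⁅A, N⁆ = ⊥ := by rw [Subgroup.commutator_comm]; exact hNA
  have e1 : ⁅⁅A, N⁆, K⁆ = ⊥ := by rw [hAN, Subgroup.commutator_bot_left]
  have e2 : ⁅⁅N, K⁆, A⁆ = ⊥ := by
    rw [eq_bot_iff, ← hNA]
    exact Subgroup.commutator_mono (Subgroup.commutator_le_left N K) le_rfl
  have e3 : ⁅⁅K, A⁆, N⁆ = ⊥ := Subgroup.commutator_commutator_eq_bot_of_rotate e1 e2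
  rw [hcomm] at e3
  have : K ≤ Subgroup.centralizer (N : Set G) := Subgroup.commutator_eq_bot_iff_le_centralizer.mp e3
  exact Subgroup.le_centralizer_iff.mp this

/-- a central minimal normal subgroup has prime order. -/
theorem c1_card_core (htop : K ⊔ A = ⊤) (hN : MinN K N)
    (h1 : N ≤ Subgroup.centralizer (A : Set G)) (h2 : N ≤ Subgroup.centralizer (K : Set G)) :
    (Nat.card N).Prime := by
  classical
  -- `N` is central
  have hcen : ∀ n ∈ N, ∀ g : G, g * n = n * g := by
    intro n hn g
    have hK : K ≤ Subgroup.centralizer (N : Set G) := Subgroup.le_centralizer_iff.mp h2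
    have hA : A ≤ Subgroup.centralizer (N : Set G) := Subgroup.le_centralizer_iff.mp h1
    have hg : g ∈ Subgroup.centralizer (N : Set G) := by
      have : (⊤ : Subgroup G) ≤ Subgroup.centralizer (N : Set G) := by
        rw [← htop]; exact sup_le hK hA
      exact this (Subgroup.mem_top g)
    exact (Subgroup.mem_centralizer_iff.mp hg n hn).symm
  have hcard1 : Nat.card N ≠ 1 := fun h => hN.ne ((Subgroup.eq_bot_iff_card N).mpr h)
  have hq : (Nat.card N).minFac.Prime := Nat.minFac_prime hcard1
  have : Fact (Nat.card N).minFac.Prime := ⟨hq⟩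
  obtain ⟨x, hx⟩ := exists_prime_orderOf_dvd_card' (G := N) (Nat.card N).minFac (Nat.minFac_dvd _)
  have hxG : orderOf (x : G) = (Nat.card N).minFac := by
    rw [Subgroup.orderOf_coe]; exact hx
  let M : Subgroup G := Subgroup.zpowers (x : G)
  have hMN : M ≤ N := by
    rw [Subgroup.zpowers_le]; exact x.2
  have hMn : M.Normal := by
    refine ⟨fun n hn g => ?_⟩
    have : g * n * g⁻¹ = n := by
      rw [hcen n (hMN hn) g, mul_assoc, mul_inv_cancel, mul_one]
    rw [this]; exact hn
  have hMne : M ≠ ⊥ := by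
    intro h
    have hx1 : (x : G) = 1 := by
      have : (x : G) ∈ M := Subgroup.mem_zpowers _
      rw [h, Subgroup.mem_bot] at this
      exact this
    rw [hx1, orderOf_one] at hxG
    exact hq.one_lt.ne' hxG.symm
  have hMeq : M = N := hN.min M hMN hMn hMne
  have : Nat.card N = (Nat.card N).minFac := by
    conv_lhs => rw [← hMeq]
    rw [Nat.card_zpowers, hxG]
  rw [this]; exact hq

end Cfsg.Agent.S3816P
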