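import Mathlib
import Cfsg.Agent.Helper13.S3816Defs
import Cfsg.Agent.Helper13.S3816Basic
import Cfsg.Agent.Helper21.S3816C1Acore
import Cfsg.Agent.Helper22.S3816MC1

/-! s3816pieces C1A (helper21): case 1 (`[N,A] = 1`): `N` is central in `K` and of prime order. -/

set_option autoImplicit false

namespace Cfsg.Agent.S3816P

universe u

variable {G : Type u} [Group G] [Finite G] {p : ℕ} [Fact p.Prime] {A K N : Subgroup G}

/-- C1A -/
theorem c1_central (mc : MC p A K) (hN : MinN K N) (h1 : N ≤ Subgroup.centralizer (A : Set G)) :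
    N ≤ Subgroup.centralizer (K : Set G) :=
  c1_central_core mc.comm_eq hN.normal h1

/-- C1A -/
theorem c1_card (mc : MC p A K) (hN : MinN K N) (h1 : N ≤ Subgroup.centralizer (A : Set G)) :
    (Nat.card N).Prime :=
  c1_card_core mc.top hN h1 (c1_central mc hN h1)

end Cfsg.Agent.S3816P
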