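import Mathlib
import Cfsg.Agent.Helper13.S3816Defs
import Cfsg.Agent.Helper13.S3816Basic
import Cfsg.Agent.Helper22.S3816MC1
import Cfsg.Agent.Helper21.S3816C1A
import Cfsg.Agent.S0026
import Cfsg.Agent.Helper20.S3816MC3

/-! s3816pieces C1CD (helper21): case 1: `N ∩ D = 1` and `X = N × X_0` for the proper `A`-invariant
subgroups `X ≥ N` of `K`. -/

set_option autoImplicit false

namespace Cfsg.Agent.S3816P

open scoped commutatorElement

universe u

variable {G : Type u} [Group G] [Finite G] {p : ℕ} [Fact p.Prime] {A K N : Subgroup G}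

omit [Finite G] in
/-- `X` normalises `[X,A]`. -/
theorem C1CD_aux_norm (A X : Subgroup G) :
    X ≤ Subgroup.normalizer ((⁅X, A⁆ : Subgroup G) : Set G) := by
  have key : ∀ x ∈ X, ∀ y ∈ (⁅X, A⁆ : Subgroup G), x * y * x⁻¹ ∈ (⁅X, A⁆ : Subgroup G) := by
    intro x hx y hy
    have h1 : (⁅X, A⁆ : Subgroup G) ≤ (⁅X, A⁆ : Subgroup G).comap (MulAut.conj x).toMonoidHom := by
      rw [Subgroup.commutator_le]
      intro z hz a ha
      rw [Subgroup.mem_comap]
      have e : (MulAut.conj x).toMonoidHom ⁅z, a⁆ = ⁅x * z, a⁆ * ⁅x, a⁆⁻¹ := by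
        simp only [MulEquiv.coe_toMonoidHom, MulAut.conj_apply, commutatorElement_def]
        group
      rw [e]
      exact Subgroup.mul_mem _ (Subgroup.commutator_mem_commutator (X.mul_mem hx hz) ha)
        (Subgroup.inv_mem _ (Subgroup.commutator_mem_commutator hx ha))
    have h2 := h1 hy
    rw [Subgroup.mem_comap] at h2
    simpa [MulAut.conj_apply] using h2
  intro x hx
  rw [Subgroup.mem_normalizer_iff]
  intro y
  constructor
  · exact key x hx y
  · intro hy
    have h1 := key x⁻¹ (X.inv_mem hx) _ hy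
    have e : x⁻¹ * (x * y * x⁻¹) * x⁻¹⁻¹ = y := by group
    rwa [e] at h1

/-- C1C -/
theorem c1_inf_DD (mc : MC p A K) (hN : MinN K N) (h1 : N ≤ Subgroup.centralizer (A : Set G)) :
    N ⊓ DD A K = ⊥ := by
  have hprime : (Nat.card N).Prime := c1_card mc hN h1
  have hnot := mc.not_fixN_le hN
  have hdvd : Nat.card ↥(N ⊓ DD A K) ∣ Nat.card N := Subgroup.card_dvd_of_le inf_le_left
  rcases (Nat.dvd_prime hprime).mp hdvd with h | h
  · exact (Subgroup.eq_bot_iff_card _).mpr h
  · exfalso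
    apply hnot
    have heq : N ⊓ DD A K = N := Subgroup.eq_of_le_of_card_ge inf_le_left h.ge
    have hle : N ≤ DD A K := by rw [← heq]; exact inf_le_right
    exact inf_le_left.trans hle

/-- C1D -/
theorem c1_split (mc : MC p A K) (hN : MinN K N) (h1 : N ≤ Subgroup.centralizer (A : Set G))
    {X : Subgroup G} (hXK : X ≤ K) (hne : X ≠ K) (hAX : A ≤ Subgroup.normalizer (X : Set G))
    (hNX : N ≤ X) : N ⊓ X0 A K X = ⊥ ∧ N ⊔ X0 A K X = X := by
  have hND := c1_inf_DD mc hN h1
  have hsub := mc.sub_fix_le hXK hne hAX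
  have hfix := mc.fix_le_sup hN.normal hN.le hN.ne
  have hcomm_le : ⁅X, A⁆ ≤ X := MC1_aux_comm_le hAX
  constructor
  · -- `N ∩ X_0 = 1`
    rw [eq_bot_iff]
    intro z hz
    rw [Subgroup.mem_bot]
    obtain ⟨hzN, hzX0⟩ := Subgroup.mem_inf.mp hz
    unfold X0 at hzX0
    have hLE : DD A K ⊓ X ≤ Subgroup.normalizer ((⁅X, A⁆ : Subgroup G) : Set G) :=
      inf_le_right.trans (C1CD_aux_norm A X)
    have hz' : z ∈ ((DD A K ⊓ X ⊔ ⁅X, A⁆ : Subgroup G) : Set G) := hzX0
    rw [Subgroup.coe_mul_of_left_le_normalizer_right _ _ hLE, Set.mem_mul] at hz'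
    obtain ⟨d, hd, y, hy, hdy⟩ := hz'
    have hdD : d ∈ DD A K := (Subgroup.mem_inf.mp hd).1
    have hdC : d ∈ Subgroup.centralizer (A : Set G) := DD_le_fix A K hdD
    have hzC : z ∈ Subgroup.centralizer (A : Set G) := h1 hzN
    have hyC : y ∈ Subgroup.centralizer (A : Set G) := by
      have : y = d⁻¹ * z := by rw [← hdy]; group
      rw [this]
      exact Subgroup.mul_mem _ (Subgroup.inv_mem _ hdC) hzC
    have hyD : y ∈ DD A K := hsub (Subgroup.mem_inf.mpr ⟨hy, hyC⟩)
    have hzD : z ∈ DD A K := by rw [← hdy]; exact Subgroup.mul_mem _ hdD hyD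
    have : z ∈ N ⊓ DD A K := Subgroup.mem_inf.mpr ⟨hzN, hzD⟩
    rw [hND, Subgroup.mem_bot] at this
    exact this
  · -- `N X_0 = X`
    apply le_antisymm
    · unfold X0
      exact sup_le hNX (sup_le inf_le_right hcomm_le)
    · have hcop : (Nat.card A).Coprime (Nat.card X) := by
        rw [mc.hyp.card]
        exact (Nat.Coprime.coprime_dvd_left (Subgroup.card_dvd_of_le hXK) mc.hyp.cop).symm
      have hsolv : Group.IsSolvable X := by
        have := mc.hyp.solv
        exact Group.isSolvable_of_isSolvable_injective (Subgroup.inclusion_injective hXK)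
      have hdec : ⁅X, A⁆ ⊔ (X ⊓ Subgroup.centralizer (A : Set G)) = X :=
        Cfsg.Agent.S0026.result A X hAX hcop (Or.inr hsolv)
      have hpart1 : ⁅X, A⁆ ≤ N ⊔ X0 A K X := by
        unfold X0
        exact le_sup_right.trans le_sup_right
      have hpart2 : X ⊓ Subgroup.centralizer (A : Set G) ≤ N ⊔ X0 A K X := by
        intro g hg
        obtain ⟨hgX, hgC⟩ := Subgroup.mem_inf.mp hg
        have hgK : g ∈ K ⊓ Subgroup.centralizer (A : Set G) := Subgroup.mem_inf.mpr ⟨hXK hgX, hgC⟩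
        have hle2 : DD A K ⊔ (N ⊓ Subgroup.centralizer (A : Set G)) ≤ DD A K ⊔ N :=
          sup_le le_sup_left (inf_le_left.trans le_sup_right)
        have hg2 : g ∈ DD A K ⊔ N := hle2 (hfix hgK)
        have := hN.normal
        obtain ⟨d, hd, n, hn, hdn⟩ := Subgroup.mem_sup_of_normal_right.mp hg2
        have hdX : d ∈ X := by
          have : d = g * n⁻¹ := by rw [← hdn]; group
          rw [this]
          exact X.mul_mem hgX (X.inv_mem (hNX hn))
        have hd' : d ∈ N ⊔ X0 A K X := by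
          unfold X0
          exact (le_sup_left.trans le_sup_right : DD A K ⊓ X ≤ N ⊔ (DD A K ⊓ X ⊔ ⁅X, A⁆))
            (Subgroup.mem_inf.mpr ⟨hd, hdX⟩)
        have hn' : n ∈ N ⊔ X0 A K X := (le_sup_left : N ≤ N ⊔ X0 A K X) hn
        rw [← hdn]
        exact Subgroup.mul_mem _ hd' hn'
      calc X = ⁅X, A⁆ ⊔ (X ⊓ Subgroup.centralizer (A : Set G)) := hdec.symm
        _ ≤ N ⊔ X0 A K X := sup_le hpart1 hpart2

end Cfsg.Agent.S3816P
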