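import Mathlib
import Cfsg.Agent.Helper10.S4017Defs
import Cfsg.Agent.S0209

/-!
# S4017 piece PG (helper21)

Case A: for non-commuting involutions `t, u` the product `g = t u` is a `p`-element and `C_G(g)` is a
`p`-group of order `p ^ v_p(|G|)` (an abelian Sylow `p`-subgroup).
-/

set_option autoImplicit false
set_option linter.style.haveILetI false

namespace Cfsg.Agent.S4017P

open Cfsg.Agent.Helper2

/-- an odd number all of whose prime divisors are `p` or `2` is a power of `p` -/
theorem PG.aux_ppow {p n : ℕ} (hn : PQ p 2 n) (hodd : ¬ 2 ∣ n) (hn0 : n ≠ 0) :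
    ∃ k : ℕ, n = p ^ k := by
  refine ⟨_, Nat.eq_prime_pow_of_unique_prime_dvd hn0 ?_⟩
  intro d hd hdn
  rcases hn d hd hdn with h | h
  · exact h
  · exfalso; rw [h] at hdn; exact hodd hdn

theorem PG.aux_conj_order {G : Type*} [Group G] (c x : G) : orderOf (c * x * c⁻¹) = orderOf x := by
  have := (MulAut.conj c).orderOf_eq x
  simpa [MulAut.conj_apply] using this

/-- `Q` contains an involution -/
theorem PG.aux_invQ {G : Type*} [Group G] [Finite G] {p a : ℕ} {Q : Subgroup G} {z : G}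
    (h : Cfg G p a Q z) : ∃ q0 ∈ Q, orderOf q0 = 2 := by
  have h2 : 2 ∣ Nat.card Q := by
    rw [h.hQ, h.ha]
    rcases h.hp.eq_two_or_odd' with h1 | h1
    · exact absurd h1 h.hp2
    · obtain ⟨k, hk⟩ := h1
      exact ⟨k + 1, by omega⟩
  haveI : Fact (Nat.Prime 2) := ⟨Nat.prime_two⟩
  obtain ⟨x, hx⟩ := exists_prime_orderOf_dvd_card' 2 h2
  exact ⟨x, x.2, by rw [← hx]; exact Subgroup.orderOf_coe x⟩

/-- `Q` is abelian -/
theorem PG.aux_Qcomm {G : Type*} [Group G] [Finite G] {p a : ℕ} {Q : Subgroup G} {z : G}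
    (f : Facts G p a Q z) : ∀ x ∈ Q, ∀ y ∈ Q, x * y = y * x := by
  intro x hx y hy
  have h1 := f.elem x hx
  have h2 := f.elem y hy
  have h3 := f.elem (x * y) (Q.mul_mem hx hy)
  have hx' : x⁻¹ = x := inv_eq_of_mul_eq_one_right h1
  have hy' : y⁻¹ = y := inv_eq_of_mul_eq_one_right h2
  have h4 : (x * y)⁻¹ = x * y := inv_eq_of_mul_eq_one_right h3
  rw [mul_inv_rev, hx', hy'] at h4
  exact h4.symm

/-- involutions commuting with a common involution lie in one conjugate of `Q` -/
theorem PG.aux_common {G : Type*} [Group G] [Finite G] {p a : ℕ} {Q : Subgroup G} {z : G}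
    (h : Cfg G p a Q z) (f : Facts G p a Q z)
    (hti : ∀ t ∈ Q, t ≠ 1 → ∀ w : G, orderOf w = 2 → w * t = t * w → w ∈ Q)
    (t u v : G) (ht : orderOf t = 2) (hu : orderOf u = 2) (hv : orderOf v = 2)
    (hvt : v * t = t * v) (hvu : v * u = u * v) :
    ∃ c : G, c * v * c⁻¹ ∈ Q ∧ c * v * c⁻¹ ≠ 1 ∧ c * t * c⁻¹ ∈ Q ∧ c * u * c⁻¹ ∈ Q := by
  obtain ⟨q0, hq0, hq02⟩ := PG.aux_invQ h
  obtain ⟨c, hc⟩ := f.conj v q0 hv hq02
  have hq0ne : q0 ≠ 1 := ne_one_of_orderOf_two hq02
  refine ⟨c, by rw [hc]; exact hq0, by rw [hc]; exact hq0ne, ?_, ?_⟩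
  · apply hti q0 hq0 hq0ne (c * t * c⁻¹) (by rw [PG.aux_conj_order]; exact ht)
    rw [← hc]
    calc c * t * c⁻¹ * (c * v * c⁻¹) = c * (t * v) * c⁻¹ := by group
      _ = c * (v * t) * c⁻¹ := by rw [hvt]
      _ = c * v * c⁻¹ * (c * t * c⁻¹) := by group
  · apply hti q0 hq0 hq0ne (c * u * c⁻¹) (by rw [PG.aux_conj_order]; exact hu)
    rw [← hc]
    calc c * u * c⁻¹ * (c * v * c⁻¹) = c * (u * v) * c⁻¹ := by group
      _ = c * (v * u) * c⁻¹ := by rw [hvu]
      _ = c * v * c⁻¹ * (c * u * c⁻¹) := by group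

/-- an element of odd order with `x * x = 1` is trivial -/
theorem PG.aux_odd_sq {G : Type*} [Group G] {x : G} (hodd : ¬ Even (orderOf x)) (h : x * x = 1) :
    x = 1 := by
  have h1 : orderOf x ∣ 2 := orderOf_dvd_of_pow_eq_one (by rw [pow_two]; exact h)
  have h2 : orderOf x = 1 ∨ orderOf x = 2 := (Nat.dvd_prime Nat.prime_two).mp h1
  rcases h2 with h2 | h2
  · exact orderOf_eq_one_iff.mp h2
  · exact absurd (by rw [h2]; exact even_two) hodd

/-- odd order: `x ^ (2 j) = 1` implies `x ^ j = 1` -/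
theorem PG.aux_odd_zpow {G : Type*} [Group G] {x : G} (hodd : ¬ Even (orderOf x)) (j : ℤ)
    (h : x ^ j = x ^ (-j)) : x ^ j = 1 := by
  have h1 : x ^ (2 * j) = 1 := by
    have : x ^ (2 * j) = x ^ j * x ^ j := by rw [two_mul, zpow_add]
    rw [this]
    nth_rewrite 2 [h]
    rw [← zpow_add, add_neg_cancel, zpow_zero]
  have h2 : (orderOf x : ℤ) ∣ 2 * j := orderOf_dvd_iff_zpow_eq_one.mpr h1
  have hcop : IsCoprime (orderOf x : ℤ) 2 := by
    rw [Int.isCoprime_iff_gcd_eq_one]
    have : Nat.Coprime (orderOf x) 2 := by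
      rw [Nat.coprime_two_right]  -- Odd
      exact Nat.not_even_iff_odd.mp hodd
    simpa [Int.gcd] using this
  have h3 : (orderOf x : ℤ) ∣ j := hcop.dvd_of_dvd_mul_left h2
  exact orderOf_dvd_iff_zpow_eq_one.mp h3

theorem PG {G : Type*} [Group G] [Finite G] {p a : ℕ} {Q : Subgroup G} {z : G}
    (h : Cfg G p a Q z) (f : Facts G p a Q z) (hA : CaseA p Q)
    (hti : ∀ t ∈ Q, t ≠ 1 → ∀ w : G, orderOf w = 2 → w * t = t * w → w ∈ Q) :
    ∀ t u : G, orderOf t = 2 → orderOf u = 2 → t * u ≠ u * t →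
      IsPEl p (t * u) ∧ IsPGroup p (Subgroup.centralizer ({t * u} : Set G)) ∧
      Nat.card (Subgroup.centralizer ({t * u} : Set G)) = p ^ (Nat.card G).factorization p := by
  intro t u ht hu hne
  have ht2 : t * t = 1 := mul_self_of_orderOf_two ht
  have hu2 : u * u = 1 := mul_self_of_orderOf_two hu
  have htinv : t⁻¹ = t := inv_eq_self_of_orderOf_two ht
  have huinv : u⁻¹ = u := inv_eq_self_of_orderOf_two hu
  have hp : p.Prime := h.hp
  haveI : Fact p.Prime := ⟨hp⟩
  -- `g = t u ≠ 1`, inverted by `t`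
  have hg1 : t * u ≠ 1 := by
    intro h1
    apply hne
    have h2 : u = t⁻¹ := (mul_eq_one_iff_eq_inv'.mp h1)
    rw [h2, htinv]
  have hinv : t * (t * u) * t⁻¹ = (t * u)⁻¹ := invol_conj_mul ht2 hu2
  -- Step 1: odd order
  have hodd : ¬ Even (orderOf (t * u)) := by
    intro heven
    obtain ⟨hv2, hvt, hvu⟩ := Cfsg.Agent.S0209.result t u ht hu heven
    obtain ⟨c, _, _, hct, hcu⟩ := PG.aux_common h f hti t u _ ht hu hv2 hvt.eq hvu.eq
    have h1 := PG.aux_Qcomm f _ hct _ hcu
    apply hne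
    have h2 : c * (t * u) * c⁻¹ = c * (u * t) * c⁻¹ := by
      calc c * (t * u) * c⁻¹ = c * t * c⁻¹ * (c * u * c⁻¹) := by group
        _ = c * u * c⁻¹ * (c * t * c⁻¹) := h1
        _ = c * (u * t) * c⁻¹ := by group
    exact mul_left_cancel (mul_right_cancel h2)
  -- Step 2: `D = ⟨t, u⟩` is proper, so `g` is a `p`-element
  have hcard4 : 4 ≤ 2 ^ a := by
    rw [h.ha]
    have := hp.two_le
    have : p ≠ 2 := h.hp2
    omega
  have hDne : Subgroup.closure ({t, u} : Set G) ≠ ⊤ := by
    intro htop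
    -- then `C_G(t) ⊆ {1, t}`
    have hsub : ((Subgroup.centralizer ({t} : Set G) : Subgroup G) : Set G) ⊆ ({1, t} : Set G) := by
      intro d hd
      have hdt : t * d = d * t := (Subgroup.mem_centralizer_iff.mp hd) t rfl
      have hdD : d ∈ Subgroup.closure ({t, u} : Set G) := by rw [htop]; trivial
      obtain ⟨j, hj | hj⟩ := invol_closure_form ht2 hu2 hdD
      · left
        have h1 : (t * u) ^ j = (t * u) ^ (-j) := by
          rw [← invol_conj_zpow ht2 hu2 j, ← hj, htinv]
          calc d = d * t * t := by rw [mul_assoc, ht2, mul_one]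
            _ = t * d * t := by rw [hdt]
        rw [hj]
        exact PG.aux_odd_zpow hodd j h1
      · right
        have h1 : (t * u) ^ j = (t * u) ^ (-j) := by
          rw [← invol_conj_zpow ht2 hu2 j, htinv]
          have h2 : t * ((t * u) ^ j * t) = (t * u) ^ j * t * t := by rw [← hj]; exact hdt
          rw [mul_assoc ((t * u) ^ j), ht2, mul_one] at h2
          rw [← mul_assoc] at h2
          exact h2.symm
        rw [hj, PG.aux_odd_zpow hodd j h1, one_mul]
        exact Set.mem_singleton t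
    have hle : Nat.card (Subgroup.centralizer ({t} : Set G)) ≤ 2 := by
      calc Nat.card (Subgroup.centralizer ({t} : Set G))
          ≤ Nat.card (({1, t} : Set G)) := Nat.card_mono (Set.toFinite _) hsub
        _ = ({1, t} : Set G).ncard := Nat.card_coe_set_eq _
        _ ≤ 2 := (Set.ncard_insert_le 1 {t}).trans (by rw [Set.ncard_singleton])
    have h1 := f.utcard t ht
    have h2 : 0 < Nat.card (U p t) := Nat.card_pos
    have h3 : 2 ^ a ≤ Nat.card (Subgroup.centralizer ({t} : Set G)) := by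
      rw [h1]; exact Nat.le_mul_of_pos_right _ h2
    omega
  have hgp : IsPEl p (t * u) := by
    have htD : t ∈ Subgroup.closure ({t, u} : Set G) := Subgroup.subset_closure (by simp)
    have huD : u ∈ Subgroup.closure ({t, u} : Set G) := Subgroup.subset_closure (by simp)
    have h2D : 2 ∣ Nat.card (Subgroup.closure ({t, u} : Set G)) := by
      rw [← ht]; exact Subgroup.orderOf_dvd_natCard _ htD
    have hPQ := h.hI _ hDne h2D
    have hgD : orderOf (t * u) ∣ Nat.card (Subgroup.closure ({t, u} : Set G)) :=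
      Subgroup.orderOf_dvd_natCard _ (Subgroup.mul_mem _ htD huD)
    have hPQg : PQ p 2 (orderOf (t * u)) := fun r hr hrd => hPQ r hr (dvd_trans hrd hgD)
    have h2g : ¬ 2 ∣ orderOf (t * u) := fun hd => hodd (even_iff_two_dvd.mpr hd)
    exact PG.aux_ppow hPQg h2g (orderOf_pos (t * u)).ne'
  -- Step 3: the normalizer of `⟨g⟩` is proper and contains `t`
  have hNne := f.proper (t * u) t hg1 hgp ht hinv
  have htN : t ∈ Subgroup.normalizer ((Subgroup.zpowers (t * u) : Subgroup G) : Set G) := by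
    have key : ∀ x ∈ Subgroup.zpowers (t * u), t * x * t⁻¹ ∈ Subgroup.zpowers (t * u) := by
      intro x hx
      obtain ⟨j, rfl⟩ := Subgroup.mem_zpowers_iff.mp hx
      rw [invol_conj_zpow ht2 hu2 j]
      exact Subgroup.zpow_mem_zpowers _ _
    rw [Subgroup.mem_normalizer_iff]
    intro x
    constructor
    · exact key x
    · intro hx
      have := key _ hx
      rw [htinv] at this
      have e : t * (t * x * t) * t = x := by
        calc t * (t * x * t) * t = (t * t) * x * (t * t) := by group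
          _ = x := by rw [ht2, one_mul, mul_one]
      rwa [e] at this
  have hCN : Subgroup.centralizer ({t * u} : Set G) ≤
      Subgroup.normalizer ((Subgroup.zpowers (t * u) : Subgroup G) : Set G) := by
    intro x hx
    have hxg : (t * u) * x = x * (t * u) := (Subgroup.mem_centralizer_iff.mp hx) _ rfl
    have hxc : x ∈ Subgroup.centralizer ((Subgroup.zpowers (t * u) : Subgroup G) : Set G) := by
      rw [Subgroup.mem_centralizer_iff]
      intro y hy
      obtain ⟨j, rfl⟩ := Subgroup.mem_zpowers_iff.mp hy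
      exact ((Commute.zpow_left (show Commute (t * u) x from hxg) j)).eq
    exact Subgroup.centralizer_le_normalizer _ hxc
  -- Step 4: `C_G(g)` has odd order
  have hCodd : ¬ 2 ∣ Nat.card (Subgroup.centralizer ({t * u} : Set G)) := by
    intro h2
    haveI : Fact (Nat.Prime 2) := ⟨Nat.prime_two⟩
    obtain ⟨x, hx⟩ := exists_prime_orderOf_dvd_card' 2 h2
    have hv2 : orderOf (x : G) = 2 := by rw [← hx]; exact Subgroup.orderOf_coe x
    have hvg : (t * u) * (x : G) = (x : G) * (t * u) := (Subgroup.mem_centralizer_iff.mp x.2) _ rfl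
    have hvinv : (x : G)⁻¹ = (x : G) := inv_eq_self_of_orderOf_two hv2
    -- `y = t v` inverts `g`
    have hyinv : (t * (x : G)) * (t * u) * (t * (x : G))⁻¹ = (t * u)⁻¹ := by
      calc (t * (x : G)) * (t * u) * (t * (x : G))⁻¹
          = t * ((x : G) * (t * u) * (x : G)⁻¹) * t⁻¹ := by group
        _ = t * ((t * u) * (x : G) * (x : G)⁻¹) * t⁻¹ := by rw [hvg]
        _ = t * (t * u) * t⁻¹ := by rw [mul_inv_cancel_right]
        _ = (t * u)⁻¹ := hinv
    have hyeven : Even (orderOf (t * (x : G))) := by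
      by_contra hno
      obtain ⟨k, hk⟩ := Nat.not_even_iff_odd.mp hno
      have h3 := inverting_odd_pow hyinv k
      rw [← hk, pow_orderOf_eq_one, one_mul, inv_one, mul_one] at h3
      have h4 : (t * u) * (t * u) = 1 := by
        nth_rewrite 1 [h3]
        exact inv_mul_cancel _
      exact hg1 (PG.aux_odd_sq hodd h4)
    obtain ⟨hc2, hct, hcv⟩ := Cfsg.Agent.S0209.result t (x : G) ht hv2 hyeven
    obtain ⟨c, _, _, hctQ, hcvQ⟩ := PG.aux_common h f hti t (x : G) _ ht hv2 hc2 hct.eq hcv.eq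
    -- `c g c⁻¹ ∈ U p (c v c⁻¹)`
    have hv'ne : c * (x : G) * c⁻¹ ≠ 1 := by
      apply ne_one_of_orderOf_two
      rw [PG.aux_conj_order]; exact hv2
    have hgU : c * (t * u) * c⁻¹ ∈ U p (c * (x : G) * c⁻¹) := by
      apply Subgroup.subset_closure
      refine ⟨?_, ?_⟩
      · calc c * (t * u) * c⁻¹ * (c * (x : G) * c⁻¹) = c * ((t * u) * (x : G)) * c⁻¹ := by group
          _ = c * ((x : G) * (t * u)) * c⁻¹ := by rw [hvg]
          _ = c * (x : G) * c⁻¹ * (c * (t * u) * c⁻¹) := by group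
      · obtain ⟨k, hk⟩ := hgp
        exact ⟨k, by rw [PG.aux_conj_order]; exact hk⟩
    have hcomm := hA _ hcvQ hv'ne _ hgU _ hctQ
    have h5 : (t * u) * t = t * (t * u) := by
      have h6 : c * ((t * u) * t) * c⁻¹ = c * (t * (t * u)) * c⁻¹ := by
        calc c * ((t * u) * t) * c⁻¹ = c * (t * u) * c⁻¹ * (c * t * c⁻¹) := by group
          _ = c * t * c⁻¹ * (c * (t * u) * c⁻¹) := hcomm
          _ = c * (t * (t * u)) * c⁻¹ := by group
      exact mul_left_cancel (mul_right_cancel h6)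
    have h7 : (t * u)⁻¹ = t * u := by
      rw [← hinv, ← h5, mul_inv_cancel_right]
    have h8 : (t * u) * (t * u) = 1 := by
      nth_rewrite 1 [← h7]
      exact inv_mul_cancel _
    exact hg1 (PG.aux_odd_sq hodd h8)
  -- Step 5: `C_G(g)` is a `p`-group of full order
  have h2N : 2 ∣ Nat.card (Subgroup.normalizer ((Subgroup.zpowers (t * u) : Subgroup G) : Set G)) := by
    rw [← ht]; exact Subgroup.orderOf_dvd_natCard _ htN
  have hPQN := h.hI _ hNne h2N
  have hCdvd : Nat.card (Subgroup.centralizer ({t * u} : Set G)) ∣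
      Nat.card (Subgroup.normalizer ((Subgroup.zpowers (t * u) : Subgroup G) : Set G)) :=
    Subgroup.card_dvd_of_le hCN
  have hPQC : PQ p 2 (Nat.card (Subgroup.centralizer ({t * u} : Set G))) :=
    fun r hr hrd => hPQN r hr (dvd_trans hrd hCdvd)
  obtain ⟨k, hk⟩ := PG.aux_ppow hPQC hCodd Nat.card_pos.ne'
  have hCp : IsPGroup p (Subgroup.centralizer ({t * u} : Set G)) := IsPGroup.of_card hk
  refine ⟨hgp, hCp, ?_⟩
  -- a Sylow `p`-subgroup through `g`
  have hzp : IsPGroup p (Subgroup.zpowers (t * u)) := by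
    obtain ⟨k', hk'⟩ := hgp
    exact IsPGroup.of_card (by rw [Nat.card_zpowers]; exact hk')
  obtain ⟨P, hP⟩ := hzp.exists_le_sylow
  have hgP : t * u ∈ (P : Subgroup G) := hP (Subgroup.mem_zpowers _)
  have hPC : (P : Subgroup G) ≤ Subgroup.centralizer ({t * u} : Set G) := by
    intro x hx
    rw [Subgroup.mem_centralizer_iff]
    intro y hy
    rw [Set.mem_singleton_iff] at hy
    rw [hy]
    exact h.hab P P.2 _ hgP _ hx
  have hPcard : Nat.card (P : Subgroup G) = p ^ (Nat.card G).factorization p :=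
    P.card_eq_multiplicity
  have h1 : p ^ (Nat.card G).factorization p ∣ p ^ k := by
    rw [← hPcard, ← hk]; exact Subgroup.card_dvd_of_le hPC
  have h2 : p ^ k ∣ Nat.card G := by
    rw [← hk]; exact Subgroup.card_subgroup_dvd_card _
  have h3 : (Nat.card G).factorization p ≤ k := (Nat.pow_dvd_pow_iff_le_right hp.one_lt).mp h1
  have h4 : k ≤ (Nat.card G).factorization p :=
    (hp.pow_dvd_iff_le_factorization Nat.card_pos.ne').mp h2
  rw [hk, le_antisymm h4 h3]

end Cfsg.Agent.S4017P
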