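import Mathlib
import Cfsg.Agent.Helper21.BswGen5
import Cfsg.Agent.Helper8.BswDual

/-!
Brauer–Suzuki–Wall, abstract form: the output of the character theory, modulo the two small cases.
-/

set_option autoImplicit false
set_option linter.unusedSectionVars false
set_option linter.unusedVariables false

namespace Cfsg.Agent.Helper21.Bsw

open Cfsg Cfsg.Agent.Helper24 Cfsg.Agent.Helper8 Cfsg.Agent.Helper8.DihVec

universe u

variable {G : Type u} [Group G] [Fintype G] [Fintype (IrrCharacter G)]
  [DecidableEq (IrrCharacter G)] {t s : G} {K : Subgroup G} [Fintype K]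
  [Fintype (IrrCharacter K)] [DecidableEq (IrrCharacter K)]

/-- the unique non-principal real irreducible character of `K` -/
theorem Hyp.exists_l0 (h : Hyp t s K) :
    ∃ l0 : LK K, irrStar l0.1 = l0.1 ∧
      ∀ l : IrrCharacter K, irrStar l = l → l = trivIrr K ∨ l = l0.1 := by
  have hcomm : ∀ a b : K, a * b = b * a := fun a b => Subtype.ext (h.hKab a a.2 b b.2)
  have hz : orderOf h.tK = 2 := by
    rw [← h.ht]
    exact (Subgroup.orderOf_coe h.tK).symm
  have huniq : ∀ a : K, a * a = 1 → a = 1 ∨ a = h.tK := by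
    intro a ha
    have h1 : (a : G) * (a : G) = 1 := congrArg Subtype.val ha
    by_cases h2 : (a : G) = 1
    · left; exact Subtype.ext h2
    · right; exact Subtype.ext (h.eq_t_of_sq_eq_one a.2 h1 h2)
  obtain ⟨l0, h1, h2, h3⟩ := Dual.exists_unique_real hcomm h.tK hz huniq
  exact ⟨⟨l0, h1⟩, h2, h3⟩

theorem Hyp.two_le_card_K (h : Hyp t s K) : 2 ≤ Nat.card K := by
  have h1 := h.two_dvd_card_K
  have h2 : 0 < Nat.card K := Nat.card_pos
  exact Nat.le_of_dvd h2 h1

/-- the output of the character theory, modulo the two small cases -/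
theorem Hyp.charData_of (h : Hyp t s K)
    (hexo : ∀ l0 : LK K, (∀ l : LK K, barL l = l ↔ l = l0) →
      ¬ Shape.Exotic (cL (G := G) (K := K)) (trivIrr G) barL l0)
    (htwo : Nat.card K = 2 → CharData K) : CharData K := by
  by_cases hk2 : Nat.card K = 2
  · exact htwo hk2
  have hk : 4 ≤ Nat.card K := by
    have h1 := h.two_le_card_K
    obtain ⟨j, hj⟩ := h.two_dvd_card_K
    omega
  obtain ⟨l0, hreal, huniq⟩ := h.exists_l0
  have hS := h.shapeHyp (G := G) l0 hreal huniq
  have hL : 3 ≤ Fintype.card (LK K) := by rw [h.card_LK]; omega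
  rcases Shape.shape hS hL with hstd | ⟨-, hex⟩
  · obtain ⟨ε, Y, f, Z2, Z3, e2, e3, D⟩ := std_of_shape hS.hfix hstd
    exact D.charData h hk
  · exact absurd hex (hexo l0 hS.hfix)

end Cfsg.Agent.Helper21.Bsw
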