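import Mathlib
import Cfsg.Agent.Helper1.BswMinusA
import Cfsg.Agent.Helper29.BswMinusB
import Cfsg.Agent.Helper13.BswMinusC
import Cfsg.Agent.Helper20.BswMinusD

/-!
Brauer–Suzuki–Wall, abstract form: the conclusion in the case `q = 2k - 1`.
-/

set_option autoImplicit false

namespace Cfsg.Agent.Helper21.Bsw

universe u

variable {G : Type u} [Group G] [Finite G] {t s : G} {K : Subgroup G}

/-- the case `ε = -1` -/
theorem conclX_of_countMinus (h : Hyp t s K) (c : CountMinus K) : ConclX G := by
  classical
  -- an element of R0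
  have hk2 : 2 ≤ Nat.card K := by
    have := h.two_dvd_card_K
    have hpos : 0 < Nat.card K := Nat.card_pos
    omega
  have hne : Nonempty {x : G // RType K x ∧ invCount x = 0} := by
    rw [← Finite.card_pos_iff, c.card_R0]
    have : 3 ≤ 2 * Nat.card K - 1 := by omega
    have : 9 ≤ (2 * Nat.card K - 1) ^ 2 := by nlinarith
    omega
  obtain ⟨⟨x, hx, hx0⟩⟩ := hne
  obtain ⟨p, hp, -, hall, -⟩ := Minus.unipotent h c
  obtain ⟨-, hcard, -⟩ := hall x hx hx0
  have hti := Minus.ti h c hx hx0
  rcases Minus.normalizer h c hx hx0 with ⟨hk, hN⟩ | ⟨w, hw, hw1, hN, hbot⟩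
  · refine ⟨Subgroup.centralizer ({x} : Set G), ⊥, ?_, ?_, ?_, ?_, ?_, ?_, ?_, ?_⟩
    · rw [hcard, c.card_G]
      have : 2 * Nat.card K - 1 + 1 = 2 * Nat.card K := by omega
      rw [this]
      have : 2 * Nat.card K - 1 - 1 = 2 * Nat.card K - 2 := by omega
      rw [this]
    · exact hti
    · exact ⟨⟨fun a b => by
        have ha := a.2; have hb := b.2
        rw [Subgroup.mem_bot] at ha hb
        apply Subtype.ext
        simp [ha, hb]⟩⟩
    · rw [hcard, hk]; simp
    · simp
    · rw [hN]; simp
    · intro X hX hX1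
      exact absurd (le_bot_iff.mp hX) hX1
    · left; simp
  · obtain ⟨hab, hcardD, -, hu, hX⟩ := Minus.torus h c hw hw1
    refine ⟨Subgroup.centralizer ({x} : Set G), Subgroup.centralizer ({w} : Set G),
      ?_, hti, ?_, ?_, hbot, hN, ?_, ?_⟩
    · rw [hcard, c.card_G]
      have : 2 * Nat.card K - 1 + 1 = 2 * Nat.card K := by omega
      rw [this]
      have : 2 * Nat.card K - 1 - 1 = 2 * Nat.card K - 2 := by omega
      rw [this]
    · exact ⟨⟨fun a b => Subtype.ext (hab a.1 a.2 b.1 b.2)⟩⟩
    · rw [hcard, hcardD]; omega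
    · intro X hXD hX1
      exact ⟨hX X hXD hX1, hu⟩
    · -- `w` itself has a non-trivial square, as `|D| = k - 1` is odd
      right
      refine ⟨w, Subgroup.mem_centralizer_singleton_iff.mpr rfl, ?_⟩
      intro hww
      have h1 : orderOf w ∣ 2 := by
        apply orderOf_dvd_of_pow_eq_one
        rw [pow_two]; exact hww
      have h2 : orderOf w = 2 := by
        rcases (Nat.dvd_prime Nat.prime_two).mp h1 with h3 | h3
        · exact absurd (orderOf_eq_one_iff.mp h3) hw.1
        · exact h3
      have h3 : orderOf (⟨w, Subgroup.mem_centralizer_singleton_iff.mpr rfl⟩ :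
          Subgroup.centralizer ({w} : Set G)) = 2 := by
        rw [← h2]
        exact Subgroup.orderOf_mk w _
      have h4 : 2 ∣ Nat.card (Subgroup.centralizer ({w} : Set G)) := by
        rw [← h3]
        exact orderOf_dvd_natCard _
      rw [hcardD] at h4
      have h5 := h.two_dvd_card_K
      omega

end Cfsg.Agent.Helper21.Bsw
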