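import Mathlib
import Cfsg.Agent.Helper21.BswChar
import Cfsg.Agent.Helper21.BswMinus
import Cfsg.Agent.Helper13.BswPlus
import Cfsg.Agent.Helper8.BswCount
import Cfsg.Agent.Helper11.BswExo
import Cfsg.Agent.Helper1.BswTwo

/-!
Brauer–Suzuki–Wall, abstract form: the theorem.
-/

set_option autoImplicit false

namespace Cfsg.Agent.Helper21.Bsw

open Cfsg Cfsg.Agent.Helper24

universe u

variable {G : Type u} [Group G] [Finite G] {t s : G} {K : Subgroup G}

/-- the output of the character theory -/
theorem Hyp.charData (h : Hyp t s K) : CharData K := by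
  classical
  letI : Fintype G := Fintype.ofFinite G
  letI : Fintype (IrrCharacter G) := Fintype.ofFinite _
  letI : Fintype K := Fintype.ofFinite K
  letI : Fintype (IrrCharacter K) := Fintype.ofFinite _
  exact h.charData_of (fun l0 hfix => Cfsg.Agent.Helper11.BswExo.not_exotic h l0 hfix) (fun hk => h.charData_two hk)

/-- the abstract Brauer–Suzuki–Wall theorem, refined form -/
theorem Hyp.conclX (h : Hyp t s K) : ConclX G := by
  rcases count_of_charData h h.charData with c | c
  · exact conclX_of_countPlus h c
  · exact conclX_of_countMinus h c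

end Cfsg.Agent.Helper21.Bsw
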