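import Mathlib

set_option autoImplicit false

/-! S5950: Jordan types of nilpotent endomorphisms through kernel dimensions (definitions). -/

namespace Cfsg.Agent.S5949P

namespace JT

variable {F V : Type*} [Field F] [AddCommGroup V] [Module F V]

/-- `dim ker N^k` -/
noncomputable def kdim (N : Module.End F V) (k : ℕ) : ℕ :=
  Module.finrank F (LinearMap.ker (N ^ k))

/-- the number of Jordan blocks of size at least `k` (for `k ≥ 1`) -/
noncomputable def cnum (N : Module.End F V) (k : ℕ) : ℕ := kdim N k - kdim N (k - 1)

/-- the number of Jordan blocks of size exactly `k` -/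
noncomputable def jmult (N : Module.End F V) (k : ℕ) : ℕ := cnum N k - cnum N (k + 1)

/-- the Jordan type (multiset of block sizes), blocks of size at most `B` -/
noncomputable def jtype (B : ℕ) (N : Module.End F V) : Multiset ℕ :=
  ∑ k ∈ Finset.Icc 1 B, Multiset.replicate (jmult N k) k

end JT

end Cfsg.Agent.S5949P
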