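import Mathlib
import Cfsg.Agent.Helper21.OCa
import Cfsg.Agent.Helper28.QWitt
import Cfsg.Agent.S2171

set_option autoImplicit false
set_option linter.unusedSectionVars false

/-! Orthogonal sums, Witt cancellation, and the embedding of a quadratic space with an isometry
into a larger space. -/

namespace Cfsg.Agent.Helper21.OC

open Module Polynomial Cfsg.Agent.Helper28.Spin

universe u

section prod

variable {F : Type*} [Field F] {V W : Type*} [AddCommGroup V] [Module F V] [AddCommGroup W]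
  [Module F W]

theorem nondeg_iff (Q : QuadraticForm F V) :
    (QuadraticMap.polarBilin Q).Nondegenerate ↔
      ∀ x, (∀ y, QuadraticMap.polar Q x y = 0) → x = 0 := by
  constructor
  · intro h x hx
    exact h.1 x (fun y => by rw [QuadraticMap.polarBilin_apply_apply]; exact hx y)
  · intro h
    refine ⟨fun x hx => h x (fun y => ?_), fun y hy => h y (fun x => ?_)⟩
    · have := hx y
      rwa [QuadraticMap.polarBilin_apply_apply] at this
    · have := hy x
      rw [QuadraticMap.polarBilin_apply_apply, QuadraticMap.polar_comm] at this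
      exact this

theorem nondeg_prod (Q₁ : QuadraticForm F V) (Q₂ : QuadraticForm F W)
    (h₁ : (QuadraticMap.polarBilin Q₁).Nondegenerate)
    (h₂ : (QuadraticMap.polarBilin Q₂).Nondegenerate) :
    (QuadraticMap.polarBilin (Q₁.prod Q₂)).Nondegenerate := by
  rw [nondeg_iff] at h₁ h₂ ⊢
  rintro ⟨x₁, x₂⟩ hx
  have e1 : x₁ = 0 := h₁ x₁ (fun y => by simpa using hx (y, 0))
  have e2 : x₂ = 0 := h₂ x₂ (fun y => by simpa using hx (0, y))
  rw [e1, e2]
  rfl

theorem polar_of_isom {Q₁ : QuadraticForm F V} {Q₂ : QuadraticForm F W} (f : V →ₗ[F] W)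
    (hf : ∀ v, Q₂ (f v) = Q₁ v) (x y : V) :
    QuadraticMap.polar Q₂ (f x) (f y) = QuadraticMap.polar Q₁ x y := by
  unfold QuadraticMap.polar
  rw [← map_add, hf, hf, hf]

end prod

section cancel

variable {F : Type*} [Field F] {W U₁ U₂ : Type*} [AddCommGroup W] [Module F W]
  [AddCommGroup U₁] [Module F U₁] [AddCommGroup U₂] [Module F U₂]
  [FiniteDimensional F W] [FiniteDimensional F U₁] [FiniteDimensional F U₂]

/-- Witt cancellation -/
theorem cancel (Q₀ : QuadraticForm F W) (h₀ : (QuadraticMap.polarBilin Q₀).Nondegenerate)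
    (Q₁ : QuadraticForm F U₁) (Q₂ : QuadraticForm F U₂)
    (h₂ : (QuadraticMap.polarBilin Q₂).Nondegenerate)
    (Φ : (W × U₁) ≃ₗ[F] (W × U₂)) (hΦ : ∀ x, (Q₀.prod Q₂) (Φ x) = (Q₀.prod Q₁) x) :
    ∃ θ : U₁ →ₗ[F] U₂, Function.Injective θ ∧ ∀ u, Q₂ (θ u) = Q₁ u := by
  have hQ' := nondeg_prod Q₀ Q₂ h₀ h₂
  obtain ⟨Ψ, hΨQ, hΨ⟩ := Cfsg.Agent.Helper28.QWitt.witt_aux (Q₀.prod Q₂) hQ' (finrank F W) W
    ((Φ : (W × U₁) →ₗ[F] (W × U₂)).comp (LinearMap.inl F W U₁)) (LinearMap.inl F W U₂) rfl
    (Φ.injective.comp LinearMap.inl_injective) LinearMap.inl_injective (by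
      intro w
      simp only [LinearMap.coe_comp, LinearEquiv.coe_coe, Function.comp_apply, hΦ]
      simp)
  -- the composite isometry
  set Θ : (W × U₁) →ₗ[F] (W × U₂) := Ψ.comp (Φ : (W × U₁) →ₗ[F] (W × U₂)) with hΘ
  have hΘQ : ∀ x, (Q₀.prod Q₂) (Θ x) = (Q₀.prod Q₁) x := by
    intro x
    rw [hΘ, LinearMap.comp_apply, hΨQ]
    exact hΦ x
  have hΘW : ∀ w : W, Θ (w, 0) = (w, 0) := by
    intro w
    have := hΨ w
    rw [hΘ, LinearMap.comp_apply]
    simpa using this
  have hΘinj : Function.Injective Θ := by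
    rw [hΘ]
    exact (Cfsg.Agent.Helper28.QWitt.isom_injective (Q₀.prod Q₂) hQ' hΨQ).comp Φ.injective
  have hfst : ∀ u : U₁, (Θ (0, u)).1 = 0 := by
    intro u
    rw [nondeg_iff] at h₀
    apply h₀
    intro w
    have h1 := polar_of_isom Θ hΘQ ((0 : W), u) (w, (0 : U₁))
    rw [hΘW] at h1
    simpa using h1
  refine ⟨(LinearMap.snd F W U₂).comp (Θ.comp (LinearMap.inr F W U₁)), ?_, ?_⟩
  · intro u u' huu
    have h1 : Θ (0, u) = Θ (0, u') := by
      apply Prod.ext
      · rw [hfst, hfst]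
      · exact huu
    have := hΘinj h1
    exact (Prod.ext_iff.1 this).2
  · intro u
    have h1 := hΘQ (0, u)
    have h2 : Θ (0, u) = (0, (Θ (0, u)).2) := Prod.ext (hfst u) rfl
    rw [h2] at h1
    simpa using h1

end cancel

section embed

variable {F : Type u} [Field F] [Fintype F] {V W : Type u} [AddCommGroup V] [Module F V]
  [FiniteDimensional F V] [AddCommGroup W] [Module F W] [FiniteDimensional F W]

/-- transport of `s × id` along an isometry `W × U ≃ V` -/
theorem exists_of_prod_iso {U : Type u} [AddCommGroup U] [Module F U] [FiniteDimensional F U]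
    (Q : QuadraticForm F V) (Q₀ : QuadraticForm F W) (QU : QuadraticForm F U)
    (e : (W × U) ≃ₗ[F] V) (he : ∀ x, Q (e x) = (Q₀.prod QU) x)
    (s : Module.End F W) (hs : ∀ w, Q₀ (s w) = Q₀ w) :
    ∃ g : Module.End F V, (∀ v, Q (g v) = Q v) ∧
      LinearMap.charpoly g = LinearMap.charpoly s * (X - C 1) ^ finrank F U ∧
      ∀ n : ℕ, s ^ n = 1 → g ^ n = 1 := by
  refine ⟨e.conj (s.prodMap LinearMap.id), ?_, ?_, ?_⟩
  · intro v
    rw [LinearEquiv.conj_apply]
    simp only [LinearMap.coe_comp, LinearEquiv.coe_coe, Function.comp_apply]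
    rw [he]
    have h1 : Q v = (Q₀.prod QU) (e.symm v) := by
      rw [← he, LinearEquiv.apply_symm_apply]
    rw [h1]
    simp [hs]
  · rw [LinearEquiv.charpoly_conj, LinearMap.charpoly_prodMap]
    congr 1
    have : (LinearMap.id : U →ₗ[F] U) = 1 := rfl
    rw [this, LinearMap.charpoly_one, map_one]
  · intro n hn
    have h1 : (e.conj (s.prodMap LinearMap.id)) ^ n = e.conj ((s.prodMap LinearMap.id) ^ n) := by
      exact (map_pow e.conjRingEquiv _ n).symm
    rw [h1]
    have h2 : (s.prodMap (LinearMap.id : U →ₗ[F] U)) ^ n = (s ^ n).prodMap LinearMap.id := by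
      have := map_pow (LinearMap.prodMapRingHom F W U) (s, (1 : Module.End F U)) n
      simp only [LinearMap.prodMapRingHom_apply, Prod.pow_fst, Prod.pow_snd, one_pow] at this
      exact this.symm
    rw [h2, hn]
    have h3 : (1 : Module.End F W).prodMap (LinearMap.id : U →ₗ[F] U) = 1 :=
      LinearMap.prodMap_one
    rw [h3]
    exact map_one e.conjRingEquiv

/-- **Embedding theorem.** A nondegenerate space `W` of dimension `2k` with an isometry `s`
embeds in a nondegenerate space `V` of dimension `2m` (extending `s` by the identity) if `k < m`,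
or if `k = m` and the types agree. -/
theorem exists_isometry_charpoly (Q : QuadraticForm F V)
    (hQ : (QuadraticMap.polarBilin Q).Nondegenerate) {m : ℕ} (hm : 1 ≤ m)
    (hV : finrank F V = 2 * m) (Q₀ : QuadraticForm F W)
    (h₀ : (QuadraticMap.polarBilin Q₀).Nondegenerate) {k : ℕ} (hW : finrank F W = 2 * k)
    (s : Module.End F W) (hs : ∀ w, Q₀ (s w) = Q₀ w)
    (hcond : k < m ∨ (k = m ∧ (Plus Q₀ ↔ Plus Q))) :
    ∃ g : Module.End F V, (∀ v, Q (g v) = Q v) ∧
      LinearMap.charpoly g = LinearMap.charpoly s * (X - C 1) ^ (2 * m - 2 * k) ∧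
      ∀ n : ℕ, s ^ n = 1 → g ^ n = 1 := by
  rcases hcond with hkm | ⟨rfl, hp⟩
  · -- the two complements
    obtain ⟨l, hl⟩ : ∃ l, m = k + (l + 1) := ⟨m - k - 1, by omega⟩
    obtain ⟨ζ, hζ⟩ := exists_irr (F := F)
    have hab := aniso_of_irr hζ
    have hndm : (QuadraticMap.polarBilin (QfMinus l F 1 ζ)).Nondegenerate := by
      apply Cfsg.Agent.S2171.QfMinus_nondeg_of
      have := Cfsg.Agent.Helper13.four_mul_sub_one_ne_zero hζ
      simpa using this
    have hndp : (QuadraticMap.polarBilin (QfPlus (l + 1) F)).Nondegenerate := QfPlus_nondeg (l + 1)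
    have hdp : finrank F (W × (Fin (l + 1) ⊕ Fin (l + 1) → F)) = 2 * m := by
      rw [Module.finrank_prod, hW, finrank_plus_index, hl]
      ring
    have hdm : finrank F (W × ((Fin l ⊕ Fin l) ⊕ Fin 2 → F)) = 2 * m := by
      rw [Module.finrank_prod, hW, finrank_minus_index, hl]
      ring
    have hNp := nondeg_prod Q₀ (QfPlus (l + 1) F) h₀ hndp
    have hNm := nondeg_prod Q₀ (QfMinus l F 1 ζ) h₀ hndm
    have hfp : finrank F (Fin (l + 1) ⊕ Fin (l + 1) → F) = 2 * m - 2 * k := by
      rw [finrank_plus_index, hl]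
      omega
    have hfm : finrank F ((Fin l ⊕ Fin l) ⊕ Fin 2 → F) = 2 * m - 2 * k := by
      rw [finrank_minus_index, hl]
      omega
    by_cases hP : Plus (Q₀.prod (QfPlus (l + 1) F)) ↔ Plus Q
    · obtain ⟨e, he⟩ := exists_isometry_of_plus_iff hm hdp hV _ Q hNp hQ hP
      have := exists_of_prod_iso Q Q₀ (QfPlus (l + 1) F) e he s hs
      rwa [hfp] at this
    · by_cases hM : Plus (Q₀.prod (QfMinus l F 1 ζ)) ↔ Plus Q
      · obtain ⟨e, he⟩ := exists_isometry_of_plus_iff hm hdm hV _ Q hNm hQ hM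
        have := exists_of_prod_iso Q Q₀ (QfMinus l F 1 ζ) e he s hs
        rwa [hfm] at this
      · exfalso
        have hPM : Plus (Q₀.prod (QfPlus (l + 1) F)) ↔ Plus (Q₀.prod (QfMinus l F 1 ζ)) := by
          tauto
        obtain ⟨Φ, hΦ⟩ := exists_isometry_of_plus_iff hm hdp hdm _ _ hNp hNm hPM
        obtain ⟨θ, hθi, hθ⟩ := cancel Q₀ h₀ (QfPlus (l + 1) F) (QfMinus l F 1 ζ) hndm Φ hΦ
        apply not_plus_QfMinus l hab hndm
        refine ⟨(Cfsg.Agent.Helper28.QPlus.E (l + 1) F).map θ, ?_, ?_⟩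
        · rintro _ ⟨x, hx, rfl⟩
          rw [hθ]
          exact Cfsg.Agent.Helper28.QPlus.Q_E x hx
        · rw [finrank_minus_index]
          have h1 : finrank F ↥((Cfsg.Agent.Helper28.QPlus.E (l + 1) F).map θ) =
              finrank F ↥(Cfsg.Agent.Helper28.QPlus.E (l + 1) F) :=
            (Submodule.equivMapOfInjective θ hθi _).finrank_eq.symm
          rw [h1, Cfsg.Agent.Helper28.QPlus.finrank_E]
  · obtain ⟨e, he⟩ := exists_isometry_of_plus_iff hm hW hV Q₀ Q h₀ hQ hp
    refine ⟨e.conj s, ?_, ?_, ?_⟩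
    · intro v
      rw [LinearEquiv.conj_apply]
      simp only [LinearMap.coe_comp, LinearEquiv.coe_coe, Function.comp_apply]
      rw [he, hs, ← he, LinearEquiv.apply_symm_apply]
    · rw [LinearEquiv.charpoly_conj, Nat.sub_self, pow_zero, mul_one]
    · intro n hn
      have h1 : (e.conj s) ^ n = e.conj (s ^ n) := (map_pow e.conjRingEquiv _ n).symm
      rw [h1, hn]
      exact map_one e.conjRingEquiv

end embed

end Cfsg.Agent.Helper21.OC
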