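import Mathlib
import Cfsg.Agent.Helper21.OCb
import Cfsg.Agent.Helper12.SympConjA
import Cfsg.Agent.S2562

set_option autoImplicit false
set_option linter.unusedSectionVars false

/-! The type of a quadratic space carrying a fixed-point-free isometry of odd prime order. -/

namespace Cfsg.Agent.Helper21.OC

open Module Polynomial Cfsg.Agent.Helper12.SympConj

section rev

variable {F : Type*} [Field F] {V : Type*} [AddCommGroup V] [Module F V]

/-- evaluation of the reversed polynomial at an endomorphism of finite order -/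
theorem aeval_reverse (γ : Module.End F V) (r : ℕ) (hr : 1 ≤ r) (hγ : γ ^ r = 1) (f : F[X]) :
    γ ^ f.natDegree * aeval (γ ^ (r - 1)) f = aeval γ f.reverse := by
  have hinv : ∀ j : ℕ, γ ^ j * (γ ^ (r - 1)) ^ j = 1 := by
    intro j
    rw [← pow_mul, ← pow_add]
    have : j + (r - 1) * j = r * j := by
      obtain ⟨t, rfl⟩ : ∃ t, r = t + 1 := ⟨r - 1, by omega⟩
      simp only [Nat.add_sub_cancel]
      ring
    rw [this, pow_mul, hγ, one_pow]
  set N := f.natDegree with hN
  have h1 : aeval (γ ^ (r - 1)) f = ∑ j ∈ Finset.range (N + 1), f.coeff j • (γ ^ (r - 1)) ^ j :=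
    aeval_eq_sum_range' (by omega) _
  have h2 : aeval γ f.reverse = ∑ j ∈ Finset.range (N + 1), f.reverse.coeff j • γ ^ j :=
    aeval_eq_sum_range' (by have := reverse_natDegree_le f; omega) _
  rw [h1, h2, Finset.mul_sum, ← Finset.sum_range_reflect]
  apply Finset.sum_congr rfl
  intro j hj
  rw [Finset.mem_range] at hj
  have hj' : j ≤ N := by omega
  simp only [Nat.add_sub_cancel]
  rw [coeff_reverse, ← hN, revAt_le hj', mul_smul_comm]
  congr 1
  have e : N = j + (N - j) := by omega
  conv_lhs => rw [e, pow_add, Nat.add_sub_cancel_left, mul_assoc, hinv, mul_one]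

end rev

section ts

variable {F : Type*} [Field F] {V : Type*} [AddCommGroup V] [Module F V] [FiniteDimensional F V]

/-- the kernel of `f⁺(γ)` is totally singular when `f⁻(γ⁻¹)` kills it and `f⁺`, `f⁻` are
coprime -/
theorem ker_singular (Q : QuadraticForm F V) (γ : Module.End F V) (hγ : ∀ v, Q (γ v) = Q v)
    (r : ℕ) (hr : 2 ≤ r) (hγr : γ ^ r = 1) (fp fm : F[X]) (hcop : IsCoprime fp fm)
    (hrev : ∃ c : F, fm.reverse = C c * fp) (h1 : fp.eval 1 ≠ 0) :
    ∀ v ∈ LinearMap.ker (aeval γ fp), Q v = 0 := by
  have hI : IsIsom (QuadraticMap.polarBilin Q) γ r := by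
    refine ⟨fun x y => ?_, hγr, hr⟩
    rw [QuadraticMap.polarBilin_apply_apply, QuadraticMap.polarBilin_apply_apply]
    exact polar_of_isom γ hγ x y
  obtain ⟨c, hc⟩ := hrev
  -- `fm(γ⁻¹)` kills the kernel
  have hkill : ∀ v ∈ LinearMap.ker (aeval γ fp), aeval (γ ^ (r - 1)) fm v = 0 := by
    intro v hv
    rw [LinearMap.mem_ker] at hv
    have h2 := aeval_reverse γ r (by omega) hγr fm
    have h3 : (γ ^ fm.natDegree * aeval (γ ^ (r - 1)) fm) v = 0 := by
      rw [h2, hc, map_mul, aeval_C, Module.End.mul_apply, hv, map_zero]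
    rw [Module.End.mul_apply] at h3
    have hinj : Function.Injective (γ ^ fm.natDegree) := by
      have : Function.Injective γ := hI.injective
      rw [Module.End.coe_pow]
      exact this.iterate _
    exact hinj (by rw [h3, map_zero])
  -- the polar form vanishes on the kernel
  have hpol : ∀ v ∈ LinearMap.ker (aeval γ fp), ∀ w ∈ LinearMap.ker (aeval γ fp),
      QuadraticMap.polar Q v w = 0 := by
    intro v hv w hw
    obtain ⟨a, b, hab⟩ := hcop
    have hw' : w = aeval γ fm (aeval γ b w) := by
      have h4 : aeval γ (a * fp + b * fm) w = w := by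
        rw [hab, map_one, Module.End.one_apply]
      rw [map_add, map_mul, map_mul, LinearMap.add_apply, Module.End.mul_apply,
        Module.End.mul_apply, LinearMap.mem_ker.1 hw, map_zero, zero_add] at h4
      rw [← Module.End.mul_apply, ← map_mul, mul_comm, map_mul, Module.End.mul_apply]
      exact h4.symm
    rw [hw', ← QuadraticMap.polarBilin_apply_apply, hI.adj', aeval_tw, hkill v hv]
    simp
  intro v hv
  have h2Q : (2 : F) * Q v = 0 := by
    have := hpol v hv v hv
    rw [QuadraticMap.polar_self] at this
    simpa using this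
  by_cases h2 : (2 : F) = 0
  · -- characteristic two: `Q(a(γ)v) = a(1)² Q(v)`
    have hinvt : ∀ x ∈ LinearMap.ker (aeval γ fp), γ x ∈ LinearMap.ker (aeval γ fp) := by
      intro x hx
      rw [LinearMap.mem_ker] at hx ⊢
      have : aeval γ fp (γ x) = γ (aeval γ fp x) := by
        have e : (aeval γ fp) * γ = γ * (aeval γ fp) := by
          have h := congrArg (aeval γ) (Polynomial.commute_X fp).eq
          rw [map_mul, map_mul, aeval_X] at h
          exact h.symm
        exact congrFun (congrArg DFunLike.coe e) x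
      rw [this, hx, map_zero]
    have key : ∀ a : F[X], Q (aeval γ a v) = (a.eval 1) ^ 2 * Q v := by
      intro a
      induction a using Polynomial.induction_on' with
      | add p q hp hq =>
        rw [map_add, LinearMap.add_apply]
        have hsum : Q (aeval γ p v + aeval γ q v) = Q (aeval γ p v) + Q (aeval γ q v) := by
          have h5 := hpol _ (aeval_mem hinvt p hv) _ (aeval_mem hinvt q hv)
          unfold QuadraticMap.polar at h5
          linear_combination h5
        rw [hsum, hp, hq, eval_add]
        linear_combination (-(eval 1 p * eval 1 q * Q v)) * h2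
      | monomial n c =>
        rw [aeval_monomial, Algebra.algebraMap_eq_smul_one, smul_mul_assoc, one_mul,
          LinearMap.smul_apply, QuadraticMap.map_smul, eval_monomial, one_pow, mul_one, smul_eq_mul]
        congr 1
        · ring
        · clear c
          induction n with
          | zero => simp
          | succ n ih => rw [pow_succ', Module.End.mul_apply, hγ, ih]
    have h6 := key fp
    rw [LinearMap.mem_ker.1 hv, QuadraticMap.map_zero] at h6
    rcases mul_eq_zero.1 h6.symm with h7 | h7
    · exact absurd ((pow_eq_zero_iff (two_ne_zero)).1 h7) h1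
    · exact h7
  · rcases mul_eq_zero.1 h2Q with h7 | h7
    · exact absurd h7 h2
    · exact h7

/-- **Plus type from a pair of dual kernels.** -/
theorem plus_of_dual_kernels (Q : QuadraticForm F V)
    (hQ : (QuadraticMap.polarBilin Q).Nondegenerate) (γ : Module.End F V)
    (hγ : ∀ v, Q (γ v) = Q v) (r : ℕ) (hr : 2 ≤ r) (hγr : γ ^ r = 1) (fp fm : F[X])
    (hcop : IsCoprime fp fm) (hann : aeval γ (fp * fm) = 0)
    (hrev : ∃ c : F, fm.reverse = C c * fp) (hrev' : ∃ c : F, fp.reverse = C c * fm)
    (h1 : fp.eval 1 ≠ 0) (h1' : fm.eval 1 ≠ 0) : Plus Q := by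
  have hs1 := ker_singular Q γ hγ r hr hγr fp fm hcop hrev h1
  have hs2 := ker_singular Q γ hγ r hr hγr fm fp hcop.symm hrev' h1'
  have hsup := Polynomial.sup_ker_aeval_eq_ker_aeval_mul_of_coprime γ hcop
  have hinf := Polynomial.disjoint_ker_aeval_of_isCoprime γ hcop
  rw [hann, LinearMap.ker_zero] at hsup
  have hd := Submodule.finrank_sup_add_finrank_inf_eq (LinearMap.ker (aeval γ fp))
    (LinearMap.ker (aeval γ fm))
  rw [hsup, hinf.eq_bot, finrank_bot, add_zero, finrank_top] at hd
  have e1 := Cfsg.Agent.S2562.finrank_le_of_singular Q hQ _ hs1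
  have e2 := Cfsg.Agent.S2562.finrank_le_of_singular Q hQ _ hs2
  exact ⟨LinearMap.ker (aeval γ fp), hs1, by omega⟩

end ts

end Cfsg.Agent.Helper21.OC
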