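import Mathlib
import Cfsg.Agent.Helper21.OCc

set_option autoImplicit false
set_option linter.unusedSectionVars false

/-! The type of a quadratic space with a fixed-point-free isometry of odd prime order `r`, when the
order of `q` modulo `r` is even: counting singular vectors. -/

namespace Cfsg.Agent.Helper21.OC

open Module Polynomial

section fpf

variable {F : Type*} [Field F] [Fintype F] {V : Type*} [AddCommGroup V] [Module F V]
  [FiniteDimensional F V]

/-- a fixed-point-free isometry of prime order `r`: the number of singular vectors is `1` mod `r` -/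
theorem nsing_modEq_one (Q : QuadraticForm F V) (γ : Module.End F V) (hγ : ∀ v, Q (γ v) = Q v)
    (r : ℕ) [Fact r.Prime] (hγr : γ ^ r = 1) (hfpf : ∀ v, γ v = v → v = 0) :
    nsing Q ≡ 1 [MOD r] := by
  classical
  have : Finite V := Module.finite_of_finite F
  letI : Fintype {v : V // Q v = 0} := Fintype.ofFinite _
  let f : Function.End {v : V // Q v = 0} := fun x => ⟨γ x.1, by rw [hγ]; exact x.2⟩
  have hpow : ∀ (n : ℕ) (x : {v : V // Q v = 0}), ((f ^ n) x).1 = (γ ^ n) x.1 := by
    intro n
    induction n with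
    | zero => intro x; rfl
    | succ n ih =>
      intro x
      rw [pow_succ', pow_succ', Module.End.mul_apply, ← ih]
      rfl
  have hfr : f ^ r ^ 1 = 1 := by
    rw [pow_one]
    funext x
    apply Subtype.ext
    rw [hpow, hγr]
    rfl
  have h1 := Equiv.Perm.card_fixedPoints_modEq (p := r) (n := 1) hfr
  have hfix : Fintype.card (Function.fixedPoints f) = 1 := by
    rw [Fintype.card_eq_one_iff]
    refine ⟨⟨⟨0, map_zero Q⟩, ?_⟩, ?_⟩
    · show f ⟨0, map_zero Q⟩ = ⟨0, map_zero Q⟩
      apply Subtype.ext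
      show γ 0 = 0
      exact map_zero γ
    · rintro ⟨⟨x, hx⟩, hxf⟩
      apply Subtype.ext
      apply Subtype.ext
      show x = 0
      apply hfpf
      have := congrArg Subtype.val (show f ⟨x, hx⟩ = ⟨x, hx⟩ from hxf)
      exact this
  rw [hfix] at h1
  unfold nsing
  rw [Nat.card_eq_fintype_card]
  exact h1

/-- **The type of a space with a fixed-point-free isometry of order `r`, `ord_r(q)` even.** -/
theorem plus_iff_even_of_fpf (Q : QuadraticForm F V)
    (hQ : (QuadraticMap.polarBilin Q).Nondegenerate) {m : ℕ} (hm : 1 ≤ m)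
    (hV : finrank F V = 2 * m) (γ : Module.End F V) (hγ : ∀ v, Q (γ v) = Q v)
    (r : ℕ) [Fact r.Prime] (hr2 : r ≠ 2) (hγr : γ ^ r = 1) (hfpf : ∀ v, γ v = v → v = 0)
    (i : ℕ) (hi : i = orderOf ((Fintype.card F : ℕ) : ZMod r)) (hie : Even i)
    (hdvd : i ∣ 2 * m) : Plus Q ↔ Even (2 * m / i) := by
  have hr : r.Prime := Fact.out
  have hns := nsing_modEq_one Q γ hγ r hγr hfpf
  have hnz : ((nsing Q : ℕ) : ZMod r) = 1 := by
    have := (ZMod.natCast_eq_natCast_iff _ _ _).2 hns
    simpa using this
  set q : ZMod r := ((Fintype.card F : ℕ) : ZMod r) with hq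
  have hq2m : q ^ (2 * m) = 1 := by
    rw [← orderOf_dvd_iff_pow_eq_one, ← hi]
    exact hdvd
  have hq1 : q ≠ 1 := by
    intro h
    rw [h, orderOf_one] at hi
    rw [hi] at hie
    exact absurd hie (by decide)
  have hipos : 0 < i := by
    rcases Nat.eq_zero_or_pos i with h | h
    · rw [h, zero_dvd_iff] at hdvd
      omega
    · exact h
  have h2ne : (2 : ZMod r) ≠ 0 := by
    intro h
    have h2 : ((2 : ℕ) : ZMod r) = 0 := by exact_mod_cast h
    rw [ZMod.natCast_eq_zero_iff] at h2
    exact hr2 ((Nat.prime_dvd_prime_iff_eq hr Nat.prime_two).1 h2)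
  have heven_iff : Even (2 * m / i) ↔ q ^ m = 1 := by
    rw [← orderOf_dvd_iff_pow_eq_one, ← hi]
    obtain ⟨c, hc⟩ := hdvd
    rw [hc, Nat.mul_div_cancel_left _ hipos]
    constructor
    · rintro ⟨d, rfl⟩
      exact ⟨d, by
        have : 2 * m = 2 * (i * d) := by rw [hc]; ring
        omega⟩
    · rintro ⟨d, rfl⟩
      have : i * c = i * (2 * d) := by rw [← hc]; ring
      have := Nat.eq_of_mul_eq_mul_left hipos this
      exact ⟨d, by omega⟩
  rw [heven_iff]
  constructor
  · intro hp
    have h1 := nsing_of_plus hV Q hQ hp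
    have h2 := congrArg (Nat.cast : ℕ → ZMod r) h1
    push_cast at h2
    rw [hnz, ← hq, hq2m] at h2
    have h3 : (q - 1) * (1 - q ^ m) = 0 := by
      rw [pow_succ] at h2
      linear_combination h2
    rcases mul_eq_zero.1 h3 with h4 | h4
    · exact absurd (sub_eq_zero.1 h4) hq1
    · exact (sub_eq_zero.1 h4).symm
  · intro hqm
    by_contra hp
    have h1 := nsing_of_not_plus hm hV Q hQ hp
    have h2 := congrArg (Nat.cast : ℕ → ZMod r) h1
    push_cast at h2
    rw [hnz, ← hq] at h2
    have e1 : q * q ^ (2 * m - 1) = 1 := by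
      rw [← pow_succ', show 2 * m - 1 + 1 = 2 * m by omega, hq2m]
    have e2 : q * q ^ (m - 1) = 1 := by
      rw [← pow_succ', show m - 1 + 1 = m by omega, hqm]
    have h3 : q * (1 + q ^ m) = q * (q ^ (2 * m - 1) + q ^ (m - 1)) := by rw [h2]
    rw [mul_add, mul_add, e1, e2, hqm] at h3
    have h4 : (q - 1) * 2 = 0 := by linear_combination h3
    rcases mul_eq_zero.1 h4 with h5 | h5
    · exact hq1 (sub_eq_zero.1 h5)
    · exact h2ne h5

end fpf

end Cfsg.Agent.Helper21.OC
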