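import Mathlib
import Cfsg.Agent.Helper21.OCd
import Cfsg.Agent.Helper12.SpPrimeG

set_option autoImplicit false
set_option linter.unusedSectionVars false

/-! From a fixed-point-free symplectic isometry of odd order to an orthogonal one: the quadratic
form `Q(x) = ω(s x, x)`. Abstract existence of orthogonal isometries with a prescribed tuple. -/

namespace Cfsg.Agent.Helper21.OC

open Module Polynomial Cfsg.Agent.Helper12.POC Cfsg.Agent.Helper12.SpPrime

section trick

variable {F : Type*} [Field F] {W : Type*} [AddCommGroup W] [Module F W]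

theorem pow_invariant (ω : LinearMap.BilinForm F W) (s : Module.End F W)
    (hs : ∀ x y, ω (s x) (s y) = ω x y) (n : ℕ) (x y : W) :
    ω ((s ^ n) x) ((s ^ n) y) = ω x y := by
  induction n generalizing x y with
  | zero => simp
  | succ n ih => rw [pow_succ, Module.End.mul_apply, Module.End.mul_apply, ih, hs]

/-- the quadratic form `x ↦ ω(s x, x)` of a fixed-point-free isometry `s` of odd order of an
alternating space -/
theorem exists_quadratic_of_alt (ω : LinearMap.BilinForm F W) (hω : ω.IsAlt)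
    (hnd : ω.Nondegenerate) (s : Module.End F W) (hs : ∀ x y, ω (s x) (s y) = ω x y)
    (r : ℕ) (hr : Odd r) (hsr : s ^ r = 1) (hfpf : ∀ x, s x = x → x = 0) :
    ∃ Q : QuadraticForm F W, (QuadraticMap.polarBilin Q).Nondegenerate ∧
      ∀ x, Q (s x) = Q x := by
  refine ⟨(ω.compLeft s).toQuadraticMap, ?_, ?_⟩
  · rw [nondeg_iff]
    intro x hx
    obtain ⟨t, ht⟩ := hr
    have hinv : s ^ (r - 1) * s = 1 := by
      rw [← pow_succ, show r - 1 + 1 = r by omega, hsr]
    -- `ω (s x - s⁻¹ x, y) = 0`
    have h1 : ∀ y, ω (s x - (s ^ (r - 1)) x) y = 0 := by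
      intro y
      have h2 := hx y
      rw [LinearMap.BilinMap.polar_toQuadraticMap, LinearMap.BilinForm.compLeft_apply,
        LinearMap.BilinForm.compLeft_apply] at h2
      have h3 : ω (s y) x = - ω ((s ^ (r - 1)) x) y := by
        rw [← hω.neg_eq, neg_inj, ← pow_invariant ω s hs (r - 1) x (s y), ← Module.End.mul_apply,
          hinv, Module.End.one_apply]
      rw [h3] at h2
      rw [map_sub, LinearMap.sub_apply]
      linear_combination h2
    have h4 : s x = (s ^ (r - 1)) x := sub_eq_zero.1 (hnd.1 _ h1)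
    have h5 : (s ^ 2) x = x := by
      rw [pow_two, Module.End.mul_apply, h4, ← Module.End.mul_apply, ← pow_succ',
        show r - 1 + 1 = r by omega, hsr, Module.End.one_apply]
    have h6 : ∀ n : ℕ, ((s ^ 2) ^ n) x = x := by
      intro n
      induction n with
      | zero => simp
      | succ n ih => rw [pow_succ, Module.End.mul_apply, h5, ih]
    apply hfpf
    have h7 : (s ^ r) x = x := by rw [hsr, Module.End.one_apply]
    rw [ht, pow_succ', pow_mul, Module.End.mul_apply, h6] at h7
    exact h7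
  · intro x
    rw [LinearMap.BilinMap.toQuadraticMap_apply, LinearMap.BilinMap.toQuadraticMap_apply,
      LinearMap.BilinForm.compLeft_apply, LinearMap.BilinForm.compLeft_apply, hs]

end trick

section fpf

variable {F : Type*} [Field F] {V : Type*} [AddCommGroup V] [Module F V] [FiniteDimensional F V]

theorem fpf_of_eval_one_ne_zero (γ : Module.End F V)
    (h : (LinearMap.charpoly γ).eval 1 ≠ 0) : ∀ v, γ v = v → v = 0 := by
  intro v hv
  by_contra hv0
  apply h
  have h1 : Module.End.HasEigenvalue γ 1 := by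
    apply Module.End.hasEigenvalue_of_hasEigenvector (x := v)
    refine ⟨?_, hv0⟩
    rw [Module.End.mem_eigenspace_iff, one_smul]
    exact hv
  exact (Module.End.hasEigenvalue_iff_isRoot_charpoly γ 1).1 h1

end fpf

section tuple

variable {K : Type*} [Field K] {S : Finset K[X]} {i : ℕ}

/-- the tuple polynomial without the factor `X - 1` does not vanish at `1` -/
theorem tuplePoly_eval_one (hS : FactorSet S i) (a : S → ℕ) :
    (tuplePoly S i (i * ∑ P, a P) a).eval 1 ≠ 0 := by
  rw [tuplePoly, Nat.sub_self, pow_zero, one_mul, eval_prod]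
  apply Finset.prod_ne_zero_iff.2
  intro P _
  rw [eval_pow]
  apply pow_ne_zero
  apply eval_one_ne_zero (hS.monic P P.2) (hS.irred P P.2)
  intro h
  exact hS.notMem (h ▸ P.2)

end tuple

section exist

universe u

variable {K : Type u} [Field K] [Fintype K]

/-- **Abstract orthogonal isometries with a prescribed tuple**: a nondegenerate quadratic space of
dimension `2k = i ∑ a` with a fixed-point-free isometry of order `r` whose characteristic
polynomial is the tuple polynomial of `a`. -/
theorem exists_space_of_tuple (p : ℕ) [Fact p.Prime] [CharP K p] (k r : ℕ) (hr : r.Prime)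
    (hr2 : r ≠ 2) {S : Finset K[X]} {i : ℕ} (hS : FactorSet S i)
    (hSd : ∀ P ∈ S, P ∣ (X ^ r - 1 : K[X])) (hc : ∀ P ∈ S, recip P ∈ S) (a : S → ℕ) (ha0 : a ≠ 0)
    (hinv : (fun P => a (starPerm hS hc P)) = a) (ha : i * ∑ P, a P = 2 * k) :
    ∃ (Q₀ : QuadraticForm K (Fin k ⊕ Fin k → K)) (s : Module.End K (Fin k ⊕ Fin k → K)),
      (QuadraticMap.polarBilin Q₀).Nondegenerate ∧ (∀ w, Q₀ (s w) = Q₀ w) ∧ s ^ r = 1 ∧
      LinearMap.charpoly s = tuplePoly S i (2 * k) a ∧ (∀ w, s w = w → w = 0) := by
  obtain ⟨g, hg1, hg2⟩ := exists_sp_order_eq p k r hr hS hSd hc a ha0 hinv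
    (by rw [ha, Nat.sub_self]; exact ⟨0, rfl⟩) ha.le
  set s : Module.End K (Fin k ⊕ Fin k → K) :=
    Matrix.toLin' (g : Matrix (Fin k ⊕ Fin k) (Fin k ⊕ Fin k) K) with hs
  have hsr : s ^ r = 1 := by
    have h1 := coe_pow_orderOf g
    rw [hg2] at h1
    rw [hs, ← Matrix.toLin'_pow, h1, Matrix.toLin'_one]
    rfl
  have hcp : LinearMap.charpoly s = tuplePoly S i (2 * k) a := by
    rw [hs, Matrix.charpoly_toLin', hg1]
  have hfpf : ∀ w, s w = w → w = 0 := by
    apply fpf_of_eval_one_ne_zero
    rw [hcp, ← ha]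
    exact tuplePoly_eval_one hS a
  have hisom : ∀ x y, Cfsg.Agent.Helper28.SympFrame.sB k K (s x) (s y) =
      Cfsg.Agent.Helper28.SympFrame.sB k K x y := by
    intro x y
    rw [Cfsg.Agent.Helper28.SympFrame.sB_apply, Cfsg.Agent.Helper28.SympFrame.sB_apply, hs,
      Matrix.toLin'_apply, Matrix.toLin'_apply]
    exact (Cfsg.Agent.Helper28.mem_symplecticGroup_iff_preserves _).1 g.2 x y
  obtain ⟨Q₀, hQ₀, hQs⟩ := exists_quadratic_of_alt (Cfsg.Agent.Helper28.SympFrame.sB k K)
    (Cfsg.Agent.Helper28.SympFrame.sB_isAlt k K) (Cfsg.Agent.Helper28.SympFrame.sB_nondeg k K) s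
    hisom r (hr.odd_of_ne_two hr2) hsr hfpf
  exact ⟨Q₀, s, hQ₀, hQs, hsr, hcp, hfpf⟩

end exist

end Cfsg.Agent.Helper21.OC
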