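import Mathlib
import Cfsg.Agent.Helper21.OCe

set_option autoImplicit false
set_option linter.unusedSectionVars false

/-! A fixed-point-free isometry of odd prime order `r` with `ord_r(q)` odd lives on a space of
Plus type: the half-system decomposition. -/

namespace Cfsg.Agent.Helper21.OC

open Module Polynomial Cfsg.Agent.Helper12.POC Cfsg.Agent.Helper12.SpPrime

section half

variable {K : Type*} [Field K] {S : Finset K[X]} {i : ℕ}

theorem prod_coeff_zero_ne {ι : Type*} (T : Finset ι) (f : ι → K[X])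
    (h : ∀ j ∈ T, (f j).coeff 0 ≠ 0) : (∏ j ∈ T, f j).coeff 0 ≠ 0 := by
  rw [coeff_zero_eq_eval_zero, eval_prod]
  apply Finset.prod_ne_zero_iff.2
  intro j hj
  rw [← coeff_zero_eq_eval_zero]
  exact h j hj

/-- the reverse of the product over a half system is the product over the other half, up to a
constant -/
theorem reverse_half (hS : FactorSet S i) (hc : ∀ P ∈ S, recip P ∈ S) (T : Finset S) :
    ∃ c : K, c ≠ 0 ∧ (∏ P ∈ T, (P : K[X])).reverse =
      C c * ∏ P ∈ T, ((starPerm hS hc P : S) : K[X]) := by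
  refine ⟨∏ P ∈ T, (P : K[X]).coeff 0, ?_, ?_⟩
  · apply Finset.prod_ne_zero_iff.2
    intro P _
    exact hS.coeff_zero P P.2
  · rw [← mirror_eq_reverse (prod_coeff_zero_ne T _ (fun P _ => hS.coeff_zero P P.2)),
      mirror_prod']
    have h1 : ∀ P ∈ T, (P : K[X]).mirror =
        C ((P : K[X]).coeff 0) * ((starPerm hS hc P : S) : K[X]) := by
      intro P _
      rw [mirror_eq_C_mul_recip (hS.coeff_zero P P.2), starPerm_apply]
    rw [Finset.prod_congr rfl h1, Finset.prod_mul_distrib, ← map_prod]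

end half

section odd

variable {K : Type*} [Field K] {V : Type*} [AddCommGroup V] [Module K V] [FiniteDimensional K V]
  {S : Finset K[X]} {i : ℕ}

/-- a fixed-point-free endomorphism with `γ ^ r = 1` is annihilated by the product of the factor
set -/
theorem aeval_prod_eq_zero (hS : FactorSet S i) (r : ℕ) (hrK : (r : K) ≠ 0)
    (hSN : ∀ Q : K[X], Q.Monic → Irreducible Q → Q ∣ (X ^ r - 1 : K[X]) → Q = X - C 1 ∨ Q ∈ S)
    (γ : Module.End K V) (hγr : γ ^ r = 1) (hfpf : ∀ v, γ v = v → v = 0) :
    aeval γ (∏ P : S, (P : K[X])) = 0 := by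
  classical
  have hsq : Squarefree (X ^ r - C (1 : K)) :=
    (Polynomial.separable_X_pow_sub_C (1 : K) hrK one_ne_zero).squarefree
  rw [map_one] at hsq
  have hN0 : ((X - C 1) * ∏ P : S, (P : K[X])) ≠ 0 := by
    apply mul_ne_zero (X_sub_C_ne_zero 1)
    apply Finset.prod_ne_zero_iff.2
    intro P _
    exact (hS.monic P P.2).ne_zero
  have hdvd : (X ^ r - 1 : K[X]) ∣ (X - C 1) * ∏ P : S, (P : K[X]) := by
    apply dvd_of_squarefree_of_forall_irreducible_dvd hsq hN0
    intro Q hQ hQd
    have hQ0 : Q ≠ 0 := hQ.ne_zero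
    have hass : Associated (normalize Q) Q := normalize_associated Q
    have hQ' : Irreducible (normalize Q) := hass.symm.irreducible hQ
    rcases hSN (normalize Q) (monic_normalize hQ0) hQ' (hass.dvd.trans hQd) with h | h
    · exact hass.symm.dvd.trans (h ▸ Dvd.intro _ rfl)
    · apply hass.symm.dvd.trans
      apply Dvd.dvd.mul_left
      have hmemS : (⟨normalize Q, h⟩ : S) ∈ (Finset.univ : Finset S) := Finset.mem_univ _
      have h5 := Finset.dvd_prod_of_mem (fun P : S => (P : K[X])) hmemS
      exact h5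
  obtain ⟨u, hu⟩ := hdvd
  have h0 : aeval γ ((X - C 1) * ∏ P : S, (P : K[X])) = 0 := by
    rw [hu, map_mul, map_sub, map_pow, aeval_X, map_one, hγr, sub_self, zero_mul]
  apply LinearMap.ext
  intro v
  rw [LinearMap.zero_apply]
  apply hfpf
  have h1 := congrFun (congrArg DFunLike.coe h0) v
  rw [map_mul, Module.End.mul_apply, map_sub, aeval_X, aeval_C, LinearMap.sub_apply,
    LinearMap.zero_apply, sub_eq_zero] at h1
  simpa using h1

/-- **`ord_r(q)` odd: the space of a fixed-point-free isometry of order `r` is of Plus type.** -/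
theorem plus_of_odd (Q : QuadraticForm K V) (hQ : (QuadraticMap.polarBilin Q).Nondegenerate)
    (γ : Module.End K V) (hγ : ∀ v, Q (γ v) = Q v) (r : ℕ) (hr : 2 ≤ r) (hrK : (r : K) ≠ 0)
    (hγr : γ ^ r = 1) (hfpf : ∀ v, γ v = v → v = 0) (hS : FactorSet S i)
    (hSN : ∀ Q : K[X], Q.Monic → Irreducible Q → Q ∣ (X ^ r - 1 : K[X]) → Q = X - C 1 ∨ Q ∈ S)
    (hc : ∀ P ∈ S, recip P ∈ S) (hfix : ∀ P : S, starPerm hS hc P ≠ P) : Plus Q := by
  classical
  set σ := starPerm hS hc with hσ
  have hσσ := starPerm_starPerm hS hc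
  set T := halfSystem σ with hT
  have hmem := mem_halfSystem_iff σ hσσ hfix
  set fp : K[X] := ∏ P ∈ T, (P : K[X]) with hfp
  set fm : K[X] := ∏ P ∈ T, ((σ P : S) : K[X]) with hfm
  -- the product of both halves is the full product
  have hfull : fp * fm = ∏ P : S, (P : K[X]) := by
    rw [← Finset.prod_mul_prod_compl T (fun P : S => (P : K[X]))]
    congr 1
    apply Finset.prod_bij (fun P _ => σ P)
    · intro P hP
      rw [Finset.mem_compl, hmem, not_not]
      exact hP
    · intro P _ P' _ h
      exact σ.injective h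
    · intro P hP
      rw [Finset.mem_compl] at hP
      refine ⟨σ P, ?_, hσσ P⟩
      rw [hmem]
      exact hP
    · intro P _
      rfl
  have hann : aeval γ (fp * fm) = 0 := by
    rw [hfull]
    exact aeval_prod_eq_zero hS r hrK hSN γ hγr hfpf
  have hcop : IsCoprime fp fm := by
    apply IsCoprime.prod_left
    intro P hP
    apply IsCoprime.prod_right
    intro P' hP'
    rw [(hS.irred P P.2).coprime_iff_not_dvd]
    apply not_dvd_of_ne (hS.monic P P.2) (hS.irred P P.2) (hS.monic _ (σ P').2)
      (hS.irred _ (σ P').2)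
    intro h
    have h1 : P = σ P' := Subtype.ext h
    have h2 : σ P' ∈ T := h1 ▸ hP
    rw [hmem] at h2
    exact h2 hP'
  obtain ⟨c, hc0, hrev'⟩ := reverse_half hS hc T
  -- reverse of the other half
  have hrev : ∃ c' : K, fm.reverse = C c' * fp := by
    obtain ⟨c', _, h⟩ := reverse_half hS hc (T.map σ.toEmbedding)
    refine ⟨c', ?_⟩
    have e1 : ∏ P ∈ T.map σ.toEmbedding, (P : K[X]) = fm := by
      rw [Finset.prod_map]
      rfl
    have e2 : ∏ P ∈ T.map σ.toEmbedding, ((σ P : S) : K[X]) = fp := by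
      rw [Finset.prod_map]
      apply Finset.prod_congr rfl
      intro P _
      show ((σ (σ P) : S) : K[X]) = _
      rw [hσσ]
    rw [e1, e2] at h
    exact h
  have h1 : fp.eval 1 ≠ 0 := by
    rw [hfp, eval_prod]
    apply Finset.prod_ne_zero_iff.2
    intro P _
    apply eval_one_ne_zero (hS.monic P P.2) (hS.irred P P.2)
    intro h
    exact hS.notMem (h ▸ P.2)
  have h1' : fm.eval 1 ≠ 0 := by
    rw [hfm, eval_prod]
    apply Finset.prod_ne_zero_iff.2
    intro P _
    apply eval_one_ne_zero (hS.monic _ (σ P).2) (hS.irred _ (σ P).2)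
    intro h
    exact hS.notMem (h ▸ (σ P).2)
  exact plus_of_dual_kernels Q hQ γ hγ r hr hγr fp fm hcop hann hrev ⟨c, hrev'⟩ h1 h1'

end odd

end Cfsg.Agent.Helper21.OC
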