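import Mathlib
import Cfsg.Agent.Helper21.OCf
import Cfsg.Agent.Helper12.OrthConjD

set_option autoImplicit false
set_option linter.unusedSectionVars false

/-! Bridge between isometries as endomorphisms and the matrix group `Cfsg.isometryGroup`:
realisation of elements, conjugacy of elements of odd prime order with equal characteristic
polynomial, the invariant tuple of an element. -/

namespace Cfsg.Agent.Helper21.OC

open Module Polynomial Matrix Cfsg.Agent.Helper12.POC Cfsg.Agent.Helper12.SpPrime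

universe u

variable {F : Type u} [Field F] {ι : Type} [Fintype ι] [DecidableEq ι]

/-- the matrix of an element of the isometry group -/
abbrev mt (Q : QuadraticForm F (ι → F)) (g : ↥(Cfsg.isometryGroup F ⇑Q)) : Matrix ι ι F :=
  ((g : Matrix.GeneralLinearGroup ι F) : Matrix ι ι F)

theorem isom_toLin' (Q : QuadraticForm F (ι → F)) (g : ↥(Cfsg.isometryGroup F ⇑Q)) (x : ι → F) :
    Q (Matrix.toLin' (mt Q g) x) = Q x := by
  rw [Matrix.toLin'_apply]
  exact g.2 x x

theorem mt_pow (Q : QuadraticForm F (ι → F)) (g : ↥(Cfsg.isometryGroup F ⇑Q)) (n : ℕ) :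
    mt Q (g ^ n) = mt Q g ^ n := by
  simp only [mt, SubgroupClass.coe_pow, Units.val_pow_eq_pow_val]

theorem mt_one (Q : QuadraticForm F (ι → F)) : mt Q 1 = 1 := rfl

theorem mt_injective (Q : QuadraticForm F (ι → F)) : Function.Injective (mt Q) := by
  intro g h hgh
  apply Subtype.ext
  apply Units.ext
  exact hgh

theorem toLin'_pow_eq_one (Q : QuadraticForm F (ι → F)) (g : ↥(Cfsg.isometryGroup F ⇑Q)) (r : ℕ)
    (hg : orderOf g = r) : Matrix.toLin' (mt Q g) ^ r = 1 := by
  rw [← Matrix.toLin'_pow, ← mt_pow, ← hg, pow_orderOf_eq_one, mt_one, Matrix.toLin'_one]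
  rfl

/-- realisation of an isometry of prime order as an element of the isometry group -/
theorem exists_group_elt (Q : QuadraticForm F (ι → F)) (γ : Module.End F (ι → F))
    (hγ : ∀ v, Q (γ v) = Q v) (r : ℕ) (hr : r.Prime) (hγr : γ ^ r = 1) (hne : γ ≠ 1) :
    ∃ g : ↥(Cfsg.isometryGroup F ⇑Q), (mt Q g).charpoly = LinearMap.charpoly γ ∧
      orderOf g = r := by
  set M : Matrix ι ι F := LinearMap.toMatrix' γ with hM
  have hMr : M ^ r = 1 := by
    have h1 := map_pow (LinearMap.toMatrixAlgEquiv' (R := F) (n := ι)) γ r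
    rw [hγr, map_one] at h1
    exact h1.symm
  have h1 : M * M ^ (r - 1) = 1 := by
    rw [← pow_succ', show r - 1 + 1 = r by have := hr.pos; omega, hMr]
  have h2 : M ^ (r - 1) * M = 1 := by
    rw [← pow_succ, show r - 1 + 1 = r by have := hr.pos; omega, hMr]
  let U : Matrix.GeneralLinearGroup ι F := ⟨M, M ^ (r - 1), h1, h2⟩
  have hmem : U ∈ Cfsg.isometryGroup F ⇑Q := by
    intro u _
    show Q (M *ᵥ u) = Q u
    rw [hM, LinearMap.toMatrix'_mulVec]
    exact hγ u
  refine ⟨⟨U, hmem⟩, ?_, ?_⟩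
  · show M.charpoly = _
    rw [← Matrix.charpoly_toLin', hM, Matrix.toLin'_toMatrix']
  · have : Fact r.Prime := ⟨hr⟩
    apply orderOf_eq_prime
    · apply mt_injective Q
      rw [mt_pow, mt_one]
      exact hMr
    · intro h
      apply hne
      have h3 : M = 1 := congrArg (mt Q) h
      rw [hM] at h3
      have h4 := congrArg Matrix.toLin' h3
      rw [Matrix.toLin'_toMatrix', Matrix.toLin'_one] at h4
      exact h4

variable [Finite F]

/-- elements of odd prime order `r` (invertible in `F`) of the isometry group with the same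
characteristic polynomial are conjugate -/
theorem isConj_of_charpoly_eq (Q : QuadraticForm F (ι → F))
    (hQ : (QuadraticMap.polarBilin Q).Nondegenerate) (g h : ↥(Cfsg.isometryGroup F ⇑Q)) (r : ℕ)
    (hodd : Odd r) (hrF : (r : F) ≠ 0) (hg : orderOf g = r) (hh : orderOf h = r)
    (hc : (mt Q g).charpoly = (mt Q h).charpoly) : IsConj g h := by
  have hpg := toLin'_pow_eq_one Q g r hg
  have hph := toLin'_pow_eq_one Q h r hh
  have hsg := Cfsg.Agent.Helper12.OrthConj.isSemisimple_of_pow_eq_one _ r hrF hpg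
  have hsh := Cfsg.Agent.Helper12.OrthConj.isSemisimple_of_pow_eq_one _ r hrF hph
  have hc' : LinearMap.charpoly (Matrix.toLin' (mt Q g)) =
      LinearMap.charpoly (Matrix.toLin' (mt Q h)) := by
    rw [Matrix.charpoly_toLin', Matrix.charpoly_toLin', hc]
  obtain ⟨ψ, hψ⟩ := Cfsg.Agent.Helper12.exists_intertwining _ _ hsg hsh hc'
  obtain ⟨Φ, hΦQ, hΦ⟩ := Cfsg.Agent.Helper12.OrthConj.exists_quadratic_isometry Q hQ
    (Matrix.toLin' (mt Q g)) (Matrix.toLin' (mt Q h)) (isom_toLin' Q g) (isom_toLin' Q h) r hodd hrF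
    hpg hph ψ hψ
  have h1 : LinearMap.toMatrix' (Φ : (ι → F) →ₗ[F] (ι → F)) *
      LinearMap.toMatrix' (Φ.symm : (ι → F) →ₗ[F] (ι → F)) = 1 := by
    rw [← LinearMap.toMatrix'_comp, LinearEquiv.comp_coe, LinearEquiv.symm_trans_self,
      LinearEquiv.refl_toLinearMap, LinearMap.toMatrix'_id]
  have h2 : LinearMap.toMatrix' (Φ.symm : (ι → F) →ₗ[F] (ι → F)) *
      LinearMap.toMatrix' (Φ : (ι → F) →ₗ[F] (ι → F)) = 1 := by
    rw [← LinearMap.toMatrix'_comp, LinearEquiv.comp_coe, LinearEquiv.self_trans_symm,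
      LinearEquiv.refl_toLinearMap, LinearMap.toMatrix'_id]
  let P : Matrix.GeneralLinearGroup ι F := ⟨_, _, h1, h2⟩
  have hPmem : P ∈ Cfsg.isometryGroup F ⇑Q := by
    intro u _
    change Q (Matrix.mulVec (LinearMap.toMatrix' (Φ : (ι → F) →ₗ[F] (ι → F))) u) = Q u
    rw [LinearMap.toMatrix'_mulVec]
    exact hΦQ u
  have hcomm : LinearMap.toMatrix' (Φ : (ι → F) →ₗ[F] (ι → F)) * mt Q g =
      mt Q h * LinearMap.toMatrix' (Φ : (ι → F) →ₗ[F] (ι → F)) := by
    have e1 : mt Q g = LinearMap.toMatrix' (Matrix.toLin' (mt Q g)) :=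
      (LinearMap.toMatrix'_toLin' _).symm
    have e2 : mt Q h = LinearMap.toMatrix' (Matrix.toLin' (mt Q h)) :=
      (LinearMap.toMatrix'_toLin' _).symm
    rw [e1, e2, ← LinearMap.toMatrix'_comp, ← LinearMap.toMatrix'_comp]
    congr 1
    apply LinearMap.ext
    intro x
    exact hΦ x
  rw [isConj_iff]
  refine ⟨⟨P, hPmem⟩, ?_⟩
  rw [mul_inv_eq_iff_eq_mul]
  apply Subtype.ext
  apply Units.ext
  exact hcomm

end Cfsg.Agent.Helper21.OC
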