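import Mathlib
import Cfsg.Agent.Helper21.OCg

set_option autoImplicit false
set_option linter.unusedSectionVars false

/-! The invariant tuple of an element of odd prime order of an orthogonal group. -/

namespace Cfsg.Agent.Helper21.OC

open Module Polynomial Matrix Cfsg.Agent.Helper12.POC Cfsg.Agent.Helper12.SpPrime

universe u

section mirror

variable {K : Type*} [Field K] {S : Finset K[X]} {i : ℕ}

/-- A tuple polynomial which is palindromic up to a constant has a `recip`-invariant tuple. -/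
theorem tuple_invariant_of_mirror' (hS : FactorSet S i) (hc : ∀ P ∈ S, recip P ∈ S) (n : ℕ)
    (a : S → ℕ) (h : ∃ c : K, (tuplePoly S i n a).mirror = C c * tuplePoly S i n a) :
    (fun P => a (starPerm hS hc P)) = a := by
  obtain ⟨c, h⟩ := h
  obtain ⟨u, hu⟩ := mirror_prod_pow hS hc a
  have h1 : (tuplePoly S i n a).mirror =
      C ((-1 : K) ^ (n - i * ∑ P, a P) * u) * tuplePoly S i n (fun P => a (starPerm hS hc P)) := by
    rw [tuplePoly, mirror_mul_of_domain, hu, mirror_X_sub_one_pow, tuplePoly,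
      sum_comp_starPerm hS hc a, map_mul]
    ring
  rw [h] at h1
  have h2 := congrArg leadingCoeff h1
  rw [leadingCoeff_mul, leadingCoeff_C, (tuplePoly_monic hS n a).leadingCoeff,
    leadingCoeff_mul, leadingCoeff_C, (tuplePoly_monic hS n _).leadingCoeff, mul_one, mul_one]
    at h2
  have hc0 : c ≠ 0 := by
    rintro rfl
    rw [map_zero, zero_mul] at h
    have h3 : tuplePoly S i n a = 0 := by
      rw [← mirror_mirror (tuplePoly S i n a), h, mirror_zero]
    exact (tuplePoly_monic hS n a).ne_zero h3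
  rw [← h2] at h1
  have h4 : tuplePoly S i n a = tuplePoly S i n (fun P => a (starPerm hS hc P)) := by
    have := mul_left_cancel₀ (C_ne_zero.2 hc0) h1
    exact this
  exact (tuplePoly_injective hS n h4).symm

end mirror

variable {F : Type u} [Field F] {ι : Type} [Fintype ι] [DecidableEq ι]

/-- the characteristic polynomial of an isometry is palindromic up to a constant -/
theorem mirror_charpoly (Q : QuadraticForm F (ι → F))
    (hQ : (QuadraticMap.polarBilin Q).Nondegenerate) (g : ↥(Cfsg.isometryGroup F ⇑Q)) :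
    ∃ c : F, (mt Q g).charpoly.mirror = C c * (mt Q g).charpoly := by
  set A := mt Q g with hA
  set G := LinearMap.BilinForm.toMatrix' (QuadraticMap.polarBilin Q) with hG
  have hGdet : G.det ≠ 0 := by
    rw [← Matrix.nondegenerate_iff_det_ne_zero]
    exact LinearMap.BilinForm.nondegenerate_toMatrix'_iff.2 hQ
  -- `Aᵀ G A = G`
  have hAGA : Aᵀ * G * A = G := by
    have h1 : LinearMap.BilinForm.comp (QuadraticMap.polarBilin Q) (Matrix.toLin' A)
        (Matrix.toLin' A) = QuadraticMap.polarBilin Q := by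
      apply LinearMap.ext
      intro x
      apply LinearMap.ext
      intro y
      rw [LinearMap.BilinForm.comp_apply, QuadraticMap.polarBilin_apply_apply,
        QuadraticMap.polarBilin_apply_apply]
      exact polar_of_isom (Matrix.toLin' A) (isom_toLin' Q g) x y
    have h2 := congrArg LinearMap.BilinForm.toMatrix' h1
    rw [LinearMap.BilinForm.toMatrix'_comp, LinearMap.toMatrix'_toLin'] at h2
    exact h2
  have hAunit : IsUnit A := ⟨(g : Matrix.GeneralLinearGroup ι F), rfl⟩
  have hAdet : IsUnit A.det := (Matrix.isUnit_iff_isUnit_det A).1 hAunit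
  have hGunit : IsUnit G := (Matrix.isUnit_iff_isUnit_det G).2 (isUnit_iff_ne_zero.2 hGdet)
  obtain ⟨Gu, hGu⟩ := hGunit
  -- `A⁻¹ = G⁻¹ Aᵀ G`
  have hinv : A⁻¹ = (Gu⁻¹ : (Matrix ι ι F)ˣ).val * Aᵀ * Gu.val := by
    apply Matrix.inv_eq_left_inv
    rw [hGu, mul_assoc, mul_assoc, ← mul_assoc Aᵀ, hAGA, ← hGu, Units.inv_mul]
  have hcp : A⁻¹.charpoly = A.charpoly := by
    rw [hinv]
    have := Matrix.charpoly_units_conj' Gu Aᵀ
    rw [Matrix.coe_units_inv, this, Matrix.charpoly_transpose]
  have h3 := Matrix.charpoly_inv A hAunit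
  rw [hcp, ← Matrix.reverse_charpoly] at h3
  have hcoeff0 : A.charpoly.coeff 0 ≠ 0 := by
    intro h0
    have := Matrix.det_eq_sign_charpoly_coeff A
    rw [h0, mul_zero] at this
    exact hAdet.ne_zero this
  rw [mirror_eq_reverse hcoeff0]
  set c' : F := (-1) ^ Fintype.card ι * Ring.inverse A.det with hc'
  have hc'0 : c' ≠ 0 := by
    apply mul_ne_zero
    · exact pow_ne_zero _ (neg_ne_zero.2 one_ne_zero)
    · rw [Ring.inverse_eq_inv']
      exact inv_ne_zero hAdet.ne_zero
  refine ⟨c'⁻¹, ?_⟩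
  have h4 : A.charpoly = C c' * A.charpoly.reverse := by
    conv_lhs => rw [h3]
    rw [hc', map_mul, map_pow, map_neg, map_one]
  conv_rhs => rw [h4]
  rw [← mul_assoc, ← C_mul, inv_mul_cancel₀ hc'0, map_one, one_mul]

variable [Fintype F]

/-- **The invariant tuple of an isometry of odd prime order.** -/
theorem exists_tuple_of_isom (p : ℕ) [Fact p.Prime] [CharP F p] (Q : QuadraticForm F (ι → F))
    (hQ : (QuadraticMap.polarBilin Q).Nondegenerate) (r : ℕ) (hr : r.Prime)
    (hrp : r ≠ p) {S : Finset F[X]} {i : ℕ} (hS : FactorSet S i)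
    (hSN : ∀ P : F[X], P.Monic → Irreducible P → P ∣ (X ^ r - 1 : F[X]) → P = X - C 1 ∨ P ∈ S)
    (hc : ∀ P ∈ S, recip P ∈ S) (g : ↥(Cfsg.isometryGroup F ⇑Q)) (hg : orderOf g = r) :
    ∃ a : S → ℕ, a ≠ 0 ∧ (fun P => a (starPerm hS hc P)) = a ∧
      i * ∑ P, a P ≤ Fintype.card ι ∧
      (mt Q g).charpoly = tuplePoly S i (Fintype.card ι) a := by
  have hp : p.Prime := Fact.out
  have hrF : (r : F) ≠ 0 := by
    intro h0
    have h1 : p ∣ r := (CharP.cast_eq_zero_iff F p r).1 h0
    exact hrp ((Nat.prime_dvd_prime_iff_eq hp hr).1 h1).symm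
  have hgr : mt Q g ^ r = 1 := by
    rw [← mt_pow, ← hg, pow_orderOf_eq_one, mt_one]
  have hss : Module.End.IsSemisimple (Matrix.toLin' (mt Q g)) :=
    Cfsg.Agent.Helper12.SympConj.isSemisimple_toLin'_of_pow_eq_one _ r hrF hgr
  have hN : aeval (mt Q g) (X ^ r - 1 : F[X]) = 0 := by
    rw [map_sub, map_pow, aeval_X, map_one, hgr, sub_self]
  have hfac : ∀ P : F[X], P.Monic → Irreducible P → P ∣ (mt Q g).charpoly →
      P = X - C 1 ∨ P ∈ S := by
    intro P hPm hPi hPd
    exact hSN P hPm hPi (dvd_of_irreducible_dvd_charpoly_gen _ _ hN P hPi hPd)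
  obtain ⟨a, ha, hfa⟩ := exists_tuple hS (Fintype.card ι) _ (Matrix.charpoly_monic _)
    (Matrix.charpoly_natDegree_eq_dim _) hfac
  have hmir := mirror_charpoly Q hQ g
  rw [hfa] at hmir
  refine ⟨a, ?_, tuple_invariant_of_mirror' hS hc _ a hmir, ha, hfa⟩
  rintro rfl
  rw [tuplePoly_zero] at hfa
  have h1 : aeval (mt Q g) (X - C 1 : F[X]) = 0 := by
    apply aeval_eq_zero_of_semisimple_gen _ hss _ (X_sub_C_ne_zero 1)
    intro P hP hPd
    rw [hfa] at hPd
    exact hP.prime.dvd_of_dvd_pow hPd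
  rw [map_sub, aeval_X, aeval_C, map_one, sub_eq_zero] at h1
  have h2 : g = 1 := mt_injective Q (h1.trans (mt_one Q).symm)
  rw [h2, orderOf_one] at hg
  exact hr.one_lt.ne hg

end Cfsg.Agent.Helper21.OC
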