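import Mathlib
import Cfsg.Agent.Helper21.OCh

set_option autoImplicit false
set_option linter.unusedSectionVars false

/-! Existence of isometries with a prescribed tuple on an even-dimensional space, and the generic
bijection between classes of elements of odd prime order and admissible tuples. -/

namespace Cfsg.Agent.Helper21.OC

open Module Polynomial Matrix Cfsg.Agent.Helper12.POC Cfsg.Agent.Helper12.SpPrime

universe u

section existence

variable {K : Type u} [Field K] [Fintype K] {V : Type u} [AddCommGroup V] [Module K V]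
  [FiniteDimensional K V]

theorem natCast_ne_zero_of_prime_ne (p : ℕ) [Fact p.Prime] [CharP K p] {r : ℕ} (hr : r.Prime)
    (hrp : r ≠ p) : (r : K) ≠ 0 := by
  intro h0
  have h1 : p ∣ r := (CharP.cast_eq_zero_iff K p r).1 h0
  exact hrp ((Nat.prime_dvd_prime_iff_eq (Fact.out : p.Prime) hr).1 h1).symm

/-- **Existence of an isometry with a prescribed tuple on an even-dimensional space.** -/
theorem exists_end_of_tuple (p : ℕ) [Fact p.Prime] [CharP K p] (Q : QuadraticForm K V)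
    (hQ : (QuadraticMap.polarBilin Q).Nondegenerate) {m : ℕ} (hm : 1 ≤ m)
    (hV : finrank K V = 2 * m) (r : ℕ) (hr : r.Prime) (hr2 : r ≠ 2) (hrp : r ≠ p)
    {S : Finset K[X]} {i : ℕ} (hi : i = orderOf ((Fintype.card K : ℕ) : ZMod r)) (hipos : 0 < i)
    (hS : FactorSet S i) (hSd : ∀ P ∈ S, P ∣ (X ^ r - 1 : K[X]))
    (hSN : ∀ P : K[X], P.Monic → Irreducible P → P ∣ (X ^ r - 1 : K[X]) → P = X - C 1 ∨ P ∈ S)
    (hc : ∀ P ∈ S, recip P ∈ S) (hfix : Odd i → ∀ P : S, starPerm hS hc P ≠ P)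
    (a : S → ℕ) (ha0 : a ≠ 0) (hinv : (fun P => a (starPerm hS hc P)) = a) (k : ℕ)
    (ha : i * ∑ P, a P = 2 * k) (hkm : k ≤ m)
    (htype : k = m → (Plus Q ↔ (Odd i ∨ Even (2 * m / i)))) :
    ∃ g : Module.End K V, (∀ v, Q (g v) = Q v) ∧ g ^ r = 1 ∧
      LinearMap.charpoly g = tuplePoly S i (2 * m) a := by
  have : Fact r.Prime := ⟨hr⟩
  obtain ⟨Q₀, s, hQ₀, hs, hsr, hcp, hfpf⟩ :=
    exists_space_of_tuple p k r hr hr2 hS hSd hc a ha0 hinv ha
  have hrK := natCast_ne_zero_of_prime_ne (K := K) p hr hrp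
  have hk1 : 1 ≤ k := by
    rcases Nat.eq_zero_or_pos k with h | h
    · exfalso
      rw [h, mul_zero] at ha
      rcases mul_eq_zero.1 ha with h1 | h1
      · omega
      · apply ha0
        funext P
        exact (Finset.sum_eq_zero_iff.1 h1) P (Finset.mem_univ P)
    · exact h
  have hP₀ : Plus Q₀ ↔ (Odd i ∨ Even (2 * k / i)) := by
    by_cases hodd : Odd i
    · have := plus_of_odd Q₀ hQ₀ s hs r hr.two_le hrK hsr hfpf hS hSN hc (hfix hodd)
      tauto
    · have hie : Even i := Nat.not_odd_iff_even.1 hodd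
      have := plus_iff_even_of_fpf Q₀ hQ₀ hk1 (finrank_plus_index k) s hs r hr2 hsr hfpf i hi hie
        ⟨_, ha.symm⟩
      tauto
  have hcond : k < m ∨ (k = m ∧ (Plus Q₀ ↔ Plus Q)) := by
    rcases Nat.lt_or_ge k m with h | h
    · exact Or.inl h
    · have hkm' : k = m := le_antisymm hkm h
      refine Or.inr ⟨hkm', ?_⟩
      rw [hP₀, htype hkm', hkm']
  obtain ⟨g, hg, hgcp, hgpow⟩ :=
    exists_isometry_charpoly Q hQ hm hV Q₀ hQ₀ (finrank_plus_index k) s hs hcond
  refine ⟨g, hg, hgpow r hsr, ?_⟩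
  rw [hgcp, hcp, tuplePoly, tuplePoly, ha, Nat.sub_self, pow_zero, one_mul, mul_comm]

end existence

section generic

variable {F : Type u} [Field F] [Fintype F] {ι : Type} [Fintype ι] [DecidableEq ι]

theorem charpoly_eq_of_isConj (Q : QuadraticForm F (ι → F)) {g h : ↥(Cfsg.isometryGroup F ⇑Q)}
    (hgh : IsConj g h) : (mt Q g).charpoly = (mt Q h).charpoly := by
  obtain ⟨x, hx⟩ := isConj_iff.1 hgh
  have e1 : mt Q h = ((x : Matrix.GeneralLinearGroup ι F) : Matrix ι ι F) * mt Q g *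
      (((x : Matrix.GeneralLinearGroup ι F) : Matrix ι ι F))⁻¹ := by
    rw [← hx, ← Matrix.coe_units_inv]
    rfl
  rw [e1, Matrix.charpoly_units_conj]

/-- **Generic bijection** between the classes of elements of order `r` and the admissible
tuples. -/
theorem card_classes_eq (p : ℕ) [Fact p.Prime] [CharP F p] (Q : QuadraticForm F (ι → F))
    (hQ : (QuadraticMap.polarBilin Q).Nondegenerate) (r : ℕ) (hr : r.Prime) (hr2 : r ≠ 2)
    (hrp : r ≠ p) {S : Finset F[X]} {i : ℕ} (hS : FactorSet S i)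
    (hSN : ∀ P : F[X], P.Monic → Irreducible P → P ∣ (X ^ r - 1 : F[X]) → P = X - C 1 ∨ P ∈ S)
    (hc : ∀ P ∈ S, recip P ∈ S) (N' : ℕ)
    (hnec : ∀ g : ↥(Cfsg.isometryGroup F ⇑Q), orderOf g = r → ∀ a : S → ℕ, a ≠ 0 →
      (fun P => a (starPerm hS hc P)) = a → i * ∑ P, a P ≤ Fintype.card ι →
      (mt Q g).charpoly = tuplePoly S i (Fintype.card ι) a → i * ∑ P, a P ≤ N')
    (hex : ∀ a : S → ℕ, a ≠ 0 → (fun P => a (starPerm hS hc P)) = a → i * ∑ P, a P ≤ N' →
      ∃ g : ↥(Cfsg.isometryGroup F ⇑Q),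
        (mt Q g).charpoly = tuplePoly S i (Fintype.card ι) a ∧ orderOf g = r) :
    Nat.card {C : ConjClasses ↥(Cfsg.isometryGroup F ⇑Q) //
      ∃ g : ↥(Cfsg.isometryGroup F ⇑Q), ConjClasses.mk g = C ∧ orderOf g = r} =
    Nat.card {a : S → ℕ // a ≠ 0 ∧ (fun P => a (starPerm hS hc P)) = a ∧
      i * ∑ P, a P ≤ N'} := by
  classical
  symm
  have hrF := natCast_ne_zero_of_prime_ne (K := F) p hr hrp
  have hodd : Odd r := hr.odd_of_ne_two hr2
  have hex' : ∀ a : {a : S → ℕ // a ≠ 0 ∧ (fun P => a (starPerm hS hc P)) = a ∧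
      i * ∑ P, a P ≤ N'}, ∃ g : ↥(Cfsg.isometryGroup F ⇑Q),
        (mt Q g).charpoly = tuplePoly S i (Fintype.card ι) a.1 ∧ orderOf g = r :=
    fun a => hex a.1 a.2.1 a.2.2.1 a.2.2.2
  choose s hs1 hs2 using hex'
  apply Nat.card_eq_of_bijective (fun a => (⟨ConjClasses.mk (s a), ⟨s a, rfl, hs2 a⟩⟩ :
    {C : ConjClasses ↥(Cfsg.isometryGroup F ⇑Q) //
      ∃ g : ↥(Cfsg.isometryGroup F ⇑Q), ConjClasses.mk g = C ∧ orderOf g = r}))
  constructor
  · intro a b hab
    have h1 : ConjClasses.mk (s a) = ConjClasses.mk (s b) := congrArg Subtype.val hab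
    rw [ConjClasses.mk_eq_mk_iff_isConj] at h1
    have h3 := charpoly_eq_of_isConj Q h1
    rw [hs1, hs1] at h3
    exact Subtype.ext (tuplePoly_injective hS _ h3)
  · rintro ⟨_, g, rfl, hg⟩
    obtain ⟨a, ha0, hinv, ha, hfa⟩ := exists_tuple_of_isom p Q hQ r hr hrp hS hSN hc g hg
    have ha' := hnec g hg a ha0 hinv ha hfa
    refine ⟨⟨a, ha0, hinv, ha'⟩, ?_⟩
    apply Subtype.ext
    show ConjClasses.mk (s _) = ConjClasses.mk g
    rw [ConjClasses.mk_eq_mk_iff_isConj]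
    apply isConj_of_charpoly_eq Q hQ _ _ r hodd hrF (hs2 _) hg
    rw [hs1, hfa]

end generic

end Cfsg.Agent.Helper21.OC
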