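import Mathlib
import Cfsg.Agent.Helper21.OCi

set_option autoImplicit false
set_option linter.unusedSectionVars false

/-! Classes of elements of odd prime order in an even-dimensional orthogonal group: the bijection
with admissible tuples. -/

namespace Cfsg.Agent.Helper21.OC

open Module Polynomial Matrix Cfsg.Agent.Helper12.POC Cfsg.Agent.Helper12.SpPrime

universe u

variable {F : Type u} [Field F] [Fintype F] {ι : Type} [Fintype ι] [DecidableEq ι]

/-- an element whose tuple fills the whole space is fixed-point-free -/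
theorem fpf_of_full (Q : QuadraticForm F (ι → F)) (g : ↥(Cfsg.isometryGroup F ⇑Q))
    {S : Finset F[X]} {i : ℕ} (hS : FactorSet S i) (a : S → ℕ)
    (hfull : i * ∑ P, a P = Fintype.card ι)
    (hfa : (mt Q g).charpoly = tuplePoly S i (Fintype.card ι) a) :
    ∀ v, Matrix.toLin' (mt Q g) v = v → v = 0 := by
  apply fpf_of_eval_one_ne_zero
  rw [Matrix.charpoly_toLin', hfa, ← hfull]
  exact tuplePoly_eval_one hS a

/-- the effective bound on `i ∑ a` -/
def bound (b : Prop) [Decidable b] (i m : ℕ) : ℕ :=
  if Odd i then (if b then 2 * m else 2 * m - 2)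
  else (if i ∣ 2 * m ∧ (b ↔ Odd (2 * m / i)) then 2 * m - i else 2 * m)

theorem bound_le (b : Prop) [Decidable b] (i m : ℕ) : bound b i m ≤ 2 * m := by
  unfold bound
  split_ifs <;> omega

/-- **Even dimension: classes of elements of order `r` and admissible tuples.** -/
theorem card_classes_even (p : ℕ) [Fact p.Prime] [CharP F p] (Q : QuadraticForm F (ι → F))
    (hQ : (QuadraticMap.polarBilin Q).Nondegenerate) {m : ℕ} (hm : 1 ≤ m)
    (hcard : Fintype.card ι = 2 * m) (b : Prop) [Decidable b] (hb : Plus Q ↔ b)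
    (r : ℕ) (hr : r.Prime) (hr2 : r ≠ 2) (hrp : r ≠ p)
    {S : Finset F[X]} {i : ℕ} (hi : i = orderOf ((Fintype.card F : ℕ) : ZMod r)) (hipos : 0 < i)
    (hS : FactorSet S i) (hSd : ∀ P ∈ S, P ∣ (X ^ r - 1 : F[X]))
    (hSN : ∀ P : F[X], P.Monic → Irreducible P → P ∣ (X ^ r - 1 : F[X]) → P = X - C 1 ∨ P ∈ S)
    (hc : ∀ P ∈ S, recip P ∈ S) (hfix : Odd i → ∀ P : S, starPerm hS hc P ≠ P) :
    Nat.card {C : ConjClasses ↥(Cfsg.isometryGroup F ⇑Q) //
      ∃ g : ↥(Cfsg.isometryGroup F ⇑Q), ConjClasses.mk g = C ∧ orderOf g = r} =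
    Nat.card {a : S → ℕ // a ≠ 0 ∧ (fun P => a (starPerm hS hc P)) = a ∧
      i * ∑ P, a P ≤ bound b i m} := by
  classical
  have hrf : Fact r.Prime := ⟨hr⟩
  have hrF := natCast_ne_zero_of_prime_ne (K := F) p hr hrp
  have hσσ := starPerm_starPerm hS hc
  have hfin : finrank F (ι → F) = 2 * m := by
    rw [Module.finrank_fintype_fun_eq_card, hcard]
  -- parity of `i ∑ a`
  have heven : ∀ a : S → ℕ, (fun P => a (starPerm hS hc P)) = a → ∃ k, i * ∑ P, a P = 2 * k := by
    intro a ha
    by_cases hodd : Odd i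
    · rw [sum_eq_two_mul_sum_halfSystem (starPerm hS hc) hσσ (hfix hodd) a
        (fun x => congrFun ha x)]
      exact ⟨i * ∑ x ∈ halfSystem (starPerm hS hc), a x, by ring⟩
    · obtain ⟨c, hc'⟩ := Nat.not_odd_iff_even.1 hodd
      exact ⟨c * ∑ P, a P, by rw [hc']; ring⟩
  apply card_classes_eq p Q hQ r hr hr2 hrp hS hSN hc
  · -- necessity
    intro g hg a ha0 hinv ha hfa
    rw [hcard] at ha
    have hγ := isom_toLin' Q g
    have hγr := toLin'_pow_eq_one Q g r hg
    have hfpf : i * ∑ P, a P = 2 * m → ∀ v, Matrix.toLin' (mt Q g) v = v → v = 0 := by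
      intro hfull
      exact fpf_of_full Q g hS a (hfull.trans hcard.symm) hfa
    unfold bound
    by_cases hodd : Odd i
    · rw [if_pos hodd]
      by_cases hbb : b
      · rw [if_pos hbb]
        exact ha
      · rw [if_neg hbb]
        obtain ⟨k, hk⟩ := heven a hinv
        have hne : i * ∑ P, a P ≠ 2 * m := by
          intro hfull
          apply hbb
          rw [← hb]
          exact plus_of_odd Q hQ _ hγ r hr.two_le hrF hγr (hfpf hfull) hS hSN hc (hfix hodd)
        omega
    · rw [if_neg hodd]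
      have hie : Even i := Nat.not_odd_iff_even.1 hodd
      by_cases hcond : i ∣ 2 * m ∧ (b ↔ Odd (2 * m / i))
      · rw [if_pos hcond]
        have hne : i * ∑ P, a P ≠ 2 * m := by
          intro hfull
          have h1 := plus_iff_even_of_fpf Q hQ hm hfin _ hγ r hr2 hγr (hfpf hfull) i hi hie hcond.1
          rw [hb, hcond.2, ← Nat.not_even_iff_odd] at h1
          tauto
        obtain ⟨c, hc'⟩ := hcond.1
        rw [hc'] at ha hne ⊢
        have h2 : ∑ P, a P < c := by
          by_contra hge
          push Not at hge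
          have := Nat.mul_le_mul_left i hge
          omega
        have h3 : i * ∑ P, a P ≤ i * (c - 1) := Nat.mul_le_mul_left i (by omega)
        have h4 : i * (c - 1) = i * c - i := by
          rw [Nat.mul_sub, mul_one]
        omega
      · rw [if_neg hcond]
        exact ha
  · -- existence
    intro a ha0 hinv ha
    obtain ⟨k, hk⟩ := heven a hinv
    have hle := bound_le b i m
    have hkm : k ≤ m := by omega
    have htype : k = m → (Plus Q ↔ (Odd i ∨ Even (2 * m / i))) := by
      intro hkm'
      rw [hk, hkm'] at ha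
      unfold bound at ha
      by_cases hodd : Odd i
      · rw [if_pos hodd] at ha
        by_cases hbb : b
        · rw [hb]
          tauto
        · rw [if_neg hbb] at ha
          omega
      · rw [if_neg hodd] at ha
        have hdvd : i ∣ 2 * m := ⟨∑ P, a P, by rw [hk, hkm']⟩
        by_cases hcond : i ∣ 2 * m ∧ (b ↔ Odd (2 * m / i))
        · rw [if_pos hcond] at ha
          omega
        · rw [hb]
          have h1 : ¬ (b ↔ Odd (2 * m / i)) := fun h => hcond ⟨hdvd, h⟩
          rw [← Nat.not_even_iff_odd] at h1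
          tauto
    obtain ⟨γ, hγ, hγr, hγc⟩ := exists_end_of_tuple p Q hQ hm hfin r hr hr2 hrp hi hipos hS hSd hSN
      hc hfix a ha0 hinv k hk hkm htype
    have hne : γ ≠ 1 := by
      rintro rfl
      rw [LinearMap.charpoly_one, hfin, ← map_one C, ← tuplePoly_zero S i] at hγc
      exact ha0 (tuplePoly_injective hS _ hγc).symm
    obtain ⟨g, hg1, hg2⟩ := exists_group_elt Q γ hγ r hr hγr hne
    refine ⟨g, ?_, hg2⟩
    rw [hg1, hγc, hcard]

end Cfsg.Agent.Helper21.OC
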