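import Mathlib
import Cfsg.Agent.Helper21.OCj

set_option autoImplicit false
set_option linter.unusedSectionVars false

/-! Common setup (the factor set of `X^r - 1`) and the counting of admissible tuples. -/

namespace Cfsg.Agent.Helper21.OC

open Module Polynomial Matrix Cfsg.Agent.Helper12.POC Cfsg.Agent.Helper12.SpPrime

universe u

section setup

variable {F : Type u} [Field F] [Fintype F]

/-- the factor set of `X^r - 1` with all the properties used below -/
theorem exists_setup (p : ℕ) [Fact p.Prime] [CharP F p] (r i t : ℕ) (hr : r.Prime) (hr2 : r ≠ 2)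
    (hrp : r ≠ p) (hi : i = orderOf ((Fintype.card F : ℕ) : ZMod r)) (ht : t * i = r - 1) :
    ∃ (S : Finset F[X]) (hS : FactorSet S i) (hc : ∀ P ∈ S, recip P ∈ S),
      0 < i ∧ t = Fintype.card S ∧ (∀ P ∈ S, P ∣ (X ^ r - 1 : F[X])) ∧
      (∀ P : F[X], P.Monic → Irreducible P → P ∣ (X ^ r - 1 : F[X]) → P = X - C 1 ∨ P ∈ S) ∧
      (Odd i → ∀ P : S, starPerm hS hc P ≠ P) ∧ (¬ Odd i → ∀ P : S, starPerm hS hc P = P) := by
  classical
  obtain ⟨S, hS, hcard, hSd, hSN⟩ := exists_factorSet (K := F) p r hr hrp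
  rw [← hi] at hS hcard
  have hipos : 0 < i := by
    rcases Nat.eq_zero_or_pos i with h | h
    · rw [h, mul_zero] at hcard
      have := hr.two_le
      omega
    · exact h
  have htS : t = Fintype.card S := by
    rw [Fintype.card_coe]
    exact Nat.eq_of_mul_eq_mul_right hipos (ht.trans hcard.symm)
  have hc := recip_mem_of_factorSet hS r hr.pos hSd hSN
  have hrodd : Odd r := hr.odd_of_ne_two hr2
  refine ⟨S, hS, hc, hipos, htS, hSd, hSN, ?_, ?_⟩
  · intro hodd P h
    have h1 := congrArg (fun Q : S => (Q : F[X])) h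
    simp only [starPerm_apply] at h1
    refine recip_ne_self_of_odd r hrodd (hS.monic P P.2) (hS.irred P P.2) (hS.coeff_zero P P.2)
      (hSd P P.2) ?_ ?_ h1
    · intro h2
      exact hS.notMem (h2 ▸ P.2)
    · rw [hS.deg P P.2]
      exact hodd
  · intro hodd P
    apply Subtype.ext
    rw [starPerm_apply]
    apply recip_eq_self_of_even r hr (hS.monic P P.2) (hS.irred P P.2) (hS.coeff_zero P P.2)
      (hSd P P.2)
    · rw [← hi]
      exact Nat.not_odd_iff_even.1 hodd
    · rw [← hi]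
      exact hipos

end setup

section count

variable {ι : Type*} [Fintype ι] [DecidableEq ι]

/-- invariant tuples when the involution is trivial -/
theorem card_tuples_id (σ : Equiv.Perm ι) (hid : ∀ x, σ x = x) (i n : ℕ) (hi : 0 < i) :
    Nat.card {a : ι → ℕ // a ≠ 0 ∧ (fun x => a (σ x)) = a ∧ i * ∑ j, a j ≤ n} =
      (n / i + Fintype.card ι).choose (Fintype.card ι) - 1 := by
  rw [← card_tuples (ι := ι) i n hi]
  apply Nat.card_congr
  apply Equiv.subtypeEquivRight
  intro a
  constructor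
  · rintro ⟨h1, -, h3⟩
    exact ⟨h1, h3⟩
  · rintro ⟨h1, h3⟩
    refine ⟨h1, ?_, h3⟩
    funext P
    rw [hid P]

/-- Pascal's rule in the form used for the correction terms -/
theorem choose_pascal (n t : ℕ) (hn : 1 ≤ n) (ht : 1 ≤ t) :
    (n - 1 + t).choose t - 1 = (n + t).choose t - 1 - (n + t - 1).choose (t - 1) := by
  obtain ⟨n', rfl⟩ : ∃ n', n = n' + 1 := ⟨n - 1, by omega⟩
  obtain ⟨t', rfl⟩ : ∃ t', t = t' + 1 := ⟨t - 1, by omega⟩
  have h1 : (n' + 1 + (t' + 1)).choose (t' + 1) =
      (n' + 1 + t').choose t' + (n' + 1 + t').choose (t' + 1) := by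
    rw [show n' + 1 + (t' + 1) = (n' + 1 + t') + 1 by ring, Nat.choose_succ_succ]
  rw [h1]
  simp only [Nat.add_sub_cancel]
  rw [show n' + 1 + (t' + 1) - 1 = n' + 1 + t' by omega, show n' + (t' + 1) = n' + 1 + t' by ring]
  omega

/-- the quotient `(n - i) / i` when `i ∣ n` -/
theorem sub_div_of_dvd {i n : ℕ} (hi : 0 < i) (h : i ∣ n) : (n - i) / i = n / i - 1 := by
  obtain ⟨c, rfl⟩ := h
  rw [Nat.mul_div_cancel_left _ hi]
  rcases Nat.eq_zero_or_pos c with rfl | hc
  · simp
  · have : i * c - i = i * (c - 1) := by rw [Nat.mul_sub, mul_one]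
    rw [this, Nat.mul_div_cancel_left _ hi]

end count

end Cfsg.Agent.Helper21.OC
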