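import Mathlib
import Cfsg.Agent.Helper21.OCk

set_option autoImplicit false
set_option linter.unusedSectionVars false

/-! Classes of elements of odd prime order in `O⁺_2m(q)` and `O⁻_2m(q)`. -/

namespace Cfsg.Agent.Helper21.OC

open Module Polynomial Matrix Cfsg.Agent.Helper12.POC Cfsg.Agent.Helper12.SpPrime
  Cfsg.Agent.Helper28.Spin

universe u

variable {F : Type u} [Field F] [Fintype F]

theorem card_plus (p : ℕ) [Fact p.Prime] [CharP F p] (m r i t : ℕ) (hm : 1 ≤ m) (hr : r.Prime)
    (hr2 : r ≠ 2) (hrp : r ≠ p) (hi : i = orderOf ((Fintype.card F : ℕ) : ZMod r))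
    (ht : t * i = r - 1) :
    Nat.card {C : ConjClasses ↥(Cfsg.isometryGroup F (Cfsg.quadFormPlus m F)) //
      ∃ g : ↥(Cfsg.isometryGroup F (Cfsg.quadFormPlus m F)), ConjClasses.mk g = C ∧
        orderOf g = r} =
    if Odd i then Nat.choose (m / i + t / 2) (t / 2) - 1
    else Nat.choose (2 * m / i + t) t - 1 -
      (if i ∣ 2 * m ∧ Odd (2 * m / i) then Nat.choose (2 * m / i + t - 1) (t - 1) else 0) := by
  classical
  obtain ⟨S, hS, hc, hipos, htS, hSd, hSN, hfix, hid⟩ := exists_setup p r i t hr hr2 hrp hi ht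
  have hcardι : Fintype.card (Fin m ⊕ Fin m) = 2 * m := by
    rw [Fintype.card_sum, Fintype.card_fin]
    ring
  have key := card_classes_even p (QfPlus m F) (QfPlus_nondeg m) hm hcardι True
    (iff_true_intro (plus_QfPlus m)) r hr hr2 hrp hi hipos hS hSd hSN hc hfix
  rw [QfPlus_coe] at key
  rw [key]
  have hσσ := starPerm_starPerm hS hc
  have ht1 : 1 ≤ t := by
    rcases Nat.eq_zero_or_pos t with h | h
    · rw [h, zero_mul] at ht
      have := hr.two_le
      omega
    · exact h
  unfold bound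
  by_cases hodd : Odd i
  · rw [if_pos hodd, if_pos hodd, if_pos trivial,
      card_invariant_tuples _ hσσ (hfix hodd) i m hipos, ← htS]
  · rw [if_neg hodd, if_neg hodd]
    by_cases hcond : i ∣ 2 * m ∧ Odd (2 * m / i)
    · rw [if_pos (by simpa using hcond), if_pos hcond, card_tuples_id _ (hid hodd) i _ hipos,
        ← htS, sub_div_of_dvd hipos hcond.1]
      have hn : 1 ≤ 2 * m / i := Nat.div_pos (Nat.le_of_dvd (by omega) hcond.1) hipos
      exact choose_pascal _ t hn ht1
    · rw [if_neg (by simpa using hcond), if_neg hcond, card_tuples_id _ (hid hodd) i _ hipos,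
        ← htS, Nat.sub_zero]

/-- an anisotropic binary form has nonzero discriminant -/
theorem aniso_disc_ne_zero {a c : F} (hac : Cfsg.Agent.Helper2.Quad.Aniso a c) :
    4 * c - a ^ 2 ≠ 0 := by
  intro h
  by_cases h2 : (2 : F) = 0
  · have h4 : (4 : F) = 0 := by
      have : (4 : F) = 2 * 2 := by norm_num
      rw [this, h2, mul_zero]
    rw [h4, zero_mul, zero_sub, neg_eq_zero] at h
    have ha : a = 0 := pow_eq_zero_iff (two_ne_zero) |>.1 h
    have hchar : CharP F 2 := CharTwo.of_one_ne_zero_of_two_eq_zero one_ne_zero h2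
    obtain ⟨γ, hγ⟩ := FiniteField.isSquare_of_char_two (ringChar.eq F 2) c
    have h1 := hac γ 1 (by
      rw [ha, hγ]
      linear_combination (γ * γ) * h2)
    exact one_ne_zero h1.2
  · have h1 := hac (-a / 2) 1 (by
      field_simp
      linear_combination h)
    exact one_ne_zero h1.2

theorem pred_div (i m : ℕ) (hi : 0 < i) (hm : 1 ≤ m) :
    (m - 1) / i = if i ∣ m then m / i - 1 else m / i := by
  split_ifs with h
  · obtain ⟨c, rfl⟩ := h
    rw [Nat.mul_div_cancel_left _ hi]
    have hc : 1 ≤ c := by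
      rcases Nat.eq_zero_or_pos c with rfl | hc
      · omega
      · exact hc
    apply Nat.div_eq_of_lt_le
    · have : (c - 1) * i = i * c - i := by
        rw [Nat.sub_mul, one_mul, mul_comm]
      have h2 : i ≤ i * c := Nat.le_mul_of_pos_right i hc
      omega
    · rw [show c - 1 + 1 = c by omega, mul_comm c i]
      have h2 : 0 < i * c := Nat.mul_pos hi hc
      omega
  · have hmod : m % i ≠ 0 := fun h0 => h (Nat.dvd_of_mod_eq_zero h0)
    have h1 := Nat.div_add_mod m i
    have h3 := Nat.mod_lt m hi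
    apply Nat.div_eq_of_lt_le
    · rw [mul_comm]
      omega
    · rw [add_mul, one_mul, mul_comm]
      omega

theorem card_minus (p : ℕ) [Fact p.Prime] [CharP F p] (m r i t : ℕ) (hm : 1 ≤ m) (a c : F)
    (hac : ∀ z₁ z₂ : F, z₁ ^ 2 + a * z₁ * z₂ + c * z₂ ^ 2 = 0 → z₁ = 0 ∧ z₂ = 0)
    (hr : r.Prime) (hr2 : r ≠ 2) (hrp : r ≠ p)
    (hi : i = orderOf ((Fintype.card F : ℕ) : ZMod r)) (ht : t * i = r - 1) :
    Nat.card {C : ConjClasses ↥(Cfsg.isometryGroup F (Cfsg.quadFormMinus (m - 1) F a c)) //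
      ∃ g : ↥(Cfsg.isometryGroup F (Cfsg.quadFormMinus (m - 1) F a c)), ConjClasses.mk g = C ∧
        orderOf g = r} =
    if Odd i then Nat.choose (m / i + t / 2) (t / 2) - 1 -
      (if i ∣ m then Nat.choose (m / i + t / 2 - 1) (t / 2 - 1) else 0)
    else Nat.choose (2 * m / i + t) t - 1 -
      (if i ∣ 2 * m ∧ Even (2 * m / i) then Nat.choose (2 * m / i + t - 1) (t - 1) else 0) := by
  classical
  obtain ⟨S, hS, hc, hipos, htS, hSd, hSN, hfix, hid⟩ := exists_setup p r i t hr hr2 hrp hi ht
  have hab : Cfsg.Agent.Helper2.Quad.Aniso a c := hac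
  have hnd : (QuadraticMap.polarBilin (QfMinus (m - 1) F a c)).Nondegenerate :=
    Cfsg.Agent.S2171.QfMinus_nondeg_of _ a c (aniso_disc_ne_zero hab)
  have hcardι : Fintype.card ((Fin (m - 1) ⊕ Fin (m - 1)) ⊕ Fin 2) = 2 * m := by
    rw [Fintype.card_sum, Fintype.card_sum, Fintype.card_fin, Fintype.card_fin]
    omega
  have key := card_classes_even p (QfMinus (m - 1) F a c) hnd hm hcardι False
    (iff_false_intro (not_plus_QfMinus (m - 1) hab hnd)) r hr hr2 hrp hi hipos hS hSd hSN hc hfix
  rw [QfMinus_coe] at key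
  rw [key]
  have hσσ := starPerm_starPerm hS hc
  have ht1 : 1 ≤ t := by
    rcases Nat.eq_zero_or_pos t with h | h
    · rw [h, zero_mul] at ht
      have := hr.two_le
      omega
    · exact h
  unfold bound
  by_cases hodd : Odd i
  · rw [if_pos hodd, if_pos hodd, if_neg not_false, show 2 * m - 2 = 2 * (m - 1) by omega,
      card_invariant_tuples _ hσσ (hfix hodd) i (m - 1) hipos, ← htS, pred_div i m hipos hm]
    -- `t` is even
    have hteven : Even t := by
      have h1 : Even (t * i) := by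
        rw [ht]
        have := hr.odd_of_ne_two hr2
        obtain ⟨k, hk⟩ := this
        exact ⟨k, by omega⟩
      rcases Nat.even_mul.1 h1 with h | h
      · exact h
      · exact absurd hodd (Nat.not_odd_iff_even.2 h)
    have ht2 : 1 ≤ t / 2 := by
      obtain ⟨k, hk⟩ := hteven
      omega
    by_cases hdvd : i ∣ m
    · rw [if_pos hdvd, if_pos hdvd]
      have hn : 1 ≤ m / i := Nat.div_pos (Nat.le_of_dvd (by omega) hdvd) hipos
      exact choose_pascal _ _ hn ht2
    · rw [if_neg hdvd, if_neg hdvd, Nat.sub_zero]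
  · rw [if_neg hodd, if_neg hodd]
    by_cases hcond : i ∣ 2 * m ∧ Even (2 * m / i)
    · rw [if_pos (by simpa [Nat.not_odd_iff_even] using hcond), if_pos hcond,
        card_tuples_id _ (hid hodd) i _ hipos, ← htS, sub_div_of_dvd hipos hcond.1]
      have hn : 1 ≤ 2 * m / i := Nat.div_pos (Nat.le_of_dvd (by omega) hcond.1) hipos
      exact choose_pascal _ t hn ht1
    · rw [if_neg (by simpa [Nat.not_odd_iff_even] using hcond), if_neg hcond,
        card_tuples_id _ (hid hodd) i _ hipos, ← htS, Nat.sub_zero]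

end Cfsg.Agent.Helper21.OC
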