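import Mathlib
import Cfsg.Agent.Helper21.OCl
import Cfsg.Agent.S2614

set_option autoImplicit false
set_option linter.unusedSectionVars false

/-! Classes of elements of odd prime order in `O_(2m+1)(q)`, `q` odd. -/

namespace Cfsg.Agent.Helper21.OC

open Module Polynomial Matrix Cfsg.Agent.Helper12.POC Cfsg.Agent.Helper12.SpPrime
  Cfsg.Agent.Helper28.Spin Cfsg.Agent.S2614

universe u

section forms

variable {F : Type u} [Field F]

theorem QfOdd_apply (m : ℕ) (v : Unit ⊕ (Fin m ⊕ Fin m) → F) :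
    QfOdd m F v = v (Sum.inl ()) ^ 2 + ∑ j : Fin m, v (Sum.inr (Sum.inl j)) * v (Sum.inr (Sum.inr j)) := by
  have h := congrFun (QfOdd_coe (F := F) m) v
  rw [h]
  rfl

theorem polar_QfOdd (m : ℕ) (x y : Unit ⊕ (Fin m ⊕ Fin m) → F) :
    QuadraticMap.polar (QfOdd m F) x y =
      2 * x (Sum.inl ()) * y (Sum.inl ()) +
        ∑ j : Fin m, (x (Sum.inr (Sum.inl j)) * y (Sum.inr (Sum.inr j)) +
          y (Sum.inr (Sum.inl j)) * x (Sum.inr (Sum.inr j))) := by
  unfold QuadraticMap.polar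
  rw [QfOdd_apply, QfOdd_apply, QfOdd_apply]
  have : ∀ j : Fin m, (x + y) (Sum.inr (Sum.inl j)) * (x + y) (Sum.inr (Sum.inr j)) =
      x (Sum.inr (Sum.inl j)) * x (Sum.inr (Sum.inr j)) +
      y (Sum.inr (Sum.inl j)) * y (Sum.inr (Sum.inr j)) +
      (x (Sum.inr (Sum.inl j)) * y (Sum.inr (Sum.inr j)) +
          y (Sum.inr (Sum.inl j)) * x (Sum.inr (Sum.inr j))) := by
    intro j
    simp only [Pi.add_apply]
    ring
  rw [Finset.sum_congr rfl (fun j _ => this j)]
  simp only [Finset.sum_add_distrib, Pi.add_apply]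
  ring

theorem QfOdd_nondeg_of (h2 : (2 : F) ≠ 0) (m : ℕ) :
    (QuadraticMap.polarBilin (QfOdd m F)).Nondegenerate := by
  classical
  rw [nondeg_iff]
  intro u hu
  funext s
  rcases s with ⟨⟩ | j | j
  · have := hu (Pi.single (Sum.inl ()) 1)
    rw [polar_QfOdd] at this
    simp at this
    exact this.resolve_left h2
  · have := hu (Pi.single (Sum.inr (Sum.inr j)) 1)
    rw [polar_QfOdd] at this
    simpa [Pi.single_apply] using this
  · have := hu (Pi.single (Sum.inr (Sum.inl j)) 1)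
    rw [polar_QfOdd] at this
    simpa [Pi.single_apply] using this

/-- the plus hyperplane of the odd-dimensional space -/
def ePlus (m : ℕ) : ((Fin m ⊕ Fin m → F) × F) ≃ₗ[F] (Unit ⊕ (Fin m ⊕ Fin m) → F) where
  toFun x := Sum.elim (fun _ => x.2) x.1
  map_add' x y := by
    funext s
    rcases s with s | s <;> rfl
  map_smul' c x := by
    funext s
    rcases s with s | s <;> rfl
  invFun v := (fun s => v (Sum.inr s), v (Sum.inl ()))
  left_inv x := rfl
  right_inv v := by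
    funext s
    rcases s with ⟨⟩ | s <;> rfl

theorem ePlus_inl (m : ℕ) (x : (Fin m ⊕ Fin m → F) × F) : ePlus m x (Sum.inl ()) = x.2 := rfl

theorem ePlus_inr (m : ℕ) (x : (Fin m ⊕ Fin m → F) × F) (s : Fin m ⊕ Fin m) :
    ePlus m x (Sum.inr s) = x.1 s := rfl

theorem QfOdd_ePlus (m : ℕ) (x : (Fin m ⊕ Fin m → F) × F) :
    QfOdd m F (ePlus m x) = ((QfPlus m F).prod QuadraticMap.sq) x := by
  rw [QuadraticMap.prod_apply, QuadraticMap.sq_apply, QfOdd_apply, QfPlus_coe]
  simp only [ePlus_inl, ePlus_inr, Cfsg.quadFormPlus]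
  ring

/-- the minus hyperplane of the odd-dimensional space -/
def eMinusLin (m' : ℕ) (ν : F) :
    (((Fin m' ⊕ Fin m') ⊕ Fin 2 → F) × F) →ₗ[F] (Unit ⊕ (Fin (m' + 1) ⊕ Fin (m' + 1)) → F) where
  toFun x := Sum.elim (fun _ => x.1 (Sum.inr 0))
    (Sum.elim (Fin.cases (x.1 (Sum.inr 1) + x.2) (fun j => x.1 (Sum.inl (Sum.inl j))))
      (Fin.cases (ν * (x.1 (Sum.inr 1) - x.2)) (fun j => x.1 (Sum.inl (Sum.inr j)))))
  map_add' x y := by
    funext s
    rcases s with s | s | s
    · rfl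
    · refine Fin.cases ?_ (fun j => ?_) s
      · simp only [Sum.elim_inr, Sum.elim_inl, Fin.cases_zero, Pi.add_apply, Prod.fst_add,
          Prod.snd_add]
        ring
      · simp only [Sum.elim_inr, Sum.elim_inl, Fin.cases_succ, Pi.add_apply, Prod.fst_add]
    · refine Fin.cases ?_ (fun j => ?_) s
      · simp only [Sum.elim_inr, Fin.cases_zero, Pi.add_apply, Prod.fst_add,
          Prod.snd_add]
        ring
      · simp only [Sum.elim_inr, Fin.cases_succ, Pi.add_apply, Prod.fst_add]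
  map_smul' c x := by
    funext s
    rcases s with s | s | s
    · rfl
    · refine Fin.cases ?_ (fun j => ?_) s
      · simp only [Sum.elim_inr, Sum.elim_inl, Fin.cases_zero, Pi.smul_apply, Prod.smul_fst,
          Prod.smul_snd, smul_eq_mul, RingHom.id_apply]
        ring
      · simp only [Sum.elim_inr, Sum.elim_inl, Fin.cases_succ, Pi.smul_apply, Prod.smul_fst,
          smul_eq_mul, RingHom.id_apply]
    · refine Fin.cases ?_ (fun j => ?_) s
      · simp only [Sum.elim_inr, Fin.cases_zero, Pi.smul_apply, Prod.smul_fst,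
          Prod.smul_snd, smul_eq_mul, RingHom.id_apply]
        ring
      · simp only [Sum.elim_inr, Fin.cases_succ, Pi.smul_apply, Prod.smul_fst,
          smul_eq_mul, RingHom.id_apply]

theorem eMinusLin_inl (m' : ℕ) (ν : F) (x : ((Fin m' ⊕ Fin m') ⊕ Fin 2 → F) × F) :
    eMinusLin m' ν x (Sum.inl ()) = x.1 (Sum.inr 0) := rfl

theorem eMinusLin_inl_zero (m' : ℕ) (ν : F) (x : ((Fin m' ⊕ Fin m') ⊕ Fin 2 → F) × F) :
    eMinusLin m' ν x (Sum.inr (Sum.inl 0)) = x.1 (Sum.inr 1) + x.2 := rfl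

theorem eMinusLin_inr_zero (m' : ℕ) (ν : F) (x : ((Fin m' ⊕ Fin m') ⊕ Fin 2 → F) × F) :
    eMinusLin m' ν x (Sum.inr (Sum.inr 0)) = ν * (x.1 (Sum.inr 1) - x.2) := rfl

theorem eMinusLin_inl_succ (m' : ℕ) (ν : F) (x : ((Fin m' ⊕ Fin m') ⊕ Fin 2 → F) × F)
    (j : Fin m') :
    eMinusLin m' ν x (Sum.inr (Sum.inl j.succ)) = x.1 (Sum.inl (Sum.inl j)) := rfl

theorem eMinusLin_inr_succ (m' : ℕ) (ν : F) (x : ((Fin m' ⊕ Fin m') ⊕ Fin 2 → F) × F)
    (j : Fin m') :
    eMinusLin m' ν x (Sum.inr (Sum.inr j.succ)) = x.1 (Sum.inl (Sum.inr j)) := rfl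

theorem QfOdd_eMinusLin (m' : ℕ) (ν : F) (x : ((Fin m' ⊕ Fin m') ⊕ Fin 2 → F) × F) :
    QfOdd (m' + 1) F (eMinusLin m' ν x) =
      ((QfMinus m' F 0 ν).prod ((-ν) • QuadraticMap.sq)) x := by
  rw [QuadraticMap.prod_apply, _root_.smul_apply, QuadraticMap.sq_apply, QfOdd_apply,
    QfMinus_coe, Fin.sum_univ_succ]
  simp only [eMinusLin_inl, eMinusLin_inl_zero, eMinusLin_inr_zero, eMinusLin_inl_succ,
    eMinusLin_inr_succ, Cfsg.quadFormMinus, smul_eq_mul]
  ring

theorem eMinusLin_injective (h2 : (2 : F) ≠ 0) (m' : ℕ) {ν : F} (hν : ν ≠ 0) :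
    Function.Injective (eMinusLin m' ν) := by
  rw [← LinearMap.ker_eq_bot, LinearMap.ker_eq_bot']
  intro x hx
  have h0 := congrFun hx (Sum.inl ())
  have h1 := congrFun hx (Sum.inr (Sum.inl 0))
  have h2' := congrFun hx (Sum.inr (Sum.inr 0))
  rw [eMinusLin_inl] at h0
  rw [eMinusLin_inl_zero] at h1
  rw [eMinusLin_inr_zero] at h2'
  simp only [Pi.zero_apply] at h0 h1 h2'
  have h3 : x.1 (Sum.inr 1) - x.2 = 0 := (mul_eq_zero.1 h2').resolve_left hν
  have h4 : x.2 = 0 := by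
    have : 2 * x.2 = 0 := by linear_combination h1 - h3
    exact (mul_eq_zero.1 this).resolve_left h2
  have h5 : x.1 (Sum.inr 1) = 0 := by
    rw [h4, sub_zero] at h3
    exact h3
  apply Prod.ext
  · funext s
    rcases s with (j | j) | j
    · have := congrFun hx (Sum.inr (Sum.inl j.succ))
      rw [eMinusLin_inl_succ] at this
      exact this
    · have := congrFun hx (Sum.inr (Sum.inr j.succ))
      rw [eMinusLin_inr_succ] at this
      exact this
    · fin_cases j
      · exact h0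
      · exact h5
  · exact h4

end forms

section main

variable {F : Type u} [Field F] [Fintype F]

theorem ringChar_ne_two_of_odd_card (hq : Odd (Fintype.card F)) : ringChar F ≠ 2 := by
  intro h
  rw [FiniteField.even_card_iff_char_two] at h
  rcases hq with ⟨k, hk⟩
  omega

theorem two_ne_zero_of_odd_card (hq : Odd (Fintype.card F)) : (2 : F) ≠ 0 :=
  Ring.two_ne_zero (ringChar_ne_two_of_odd_card hq)

/-- a binary form `z₁² + ν z₂²` with `-ν` a nonsquare -/
theorem exists_aniso_diag (hq : Odd (Fintype.card F)) :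
    ∃ ν : F, ν ≠ 0 ∧ Cfsg.Agent.Helper2.Quad.Aniso (0 : F) ν := by
  obtain ⟨d, hd⟩ := FiniteField.exists_nonsquare (F := F) (ringChar_ne_two_of_odd_card hq)
  refine ⟨-d, ?_, ?_⟩
  · intro h
    apply hd
    rw [neg_eq_zero] at h
    rw [h]
    exact ⟨0, by ring⟩
  · intro z₁ z₂ h
    by_cases hz : z₂ = 0
    · subst hz
      refine ⟨?_, rfl⟩
      have : z₁ ^ 2 = 0 := by linear_combination h
      exact pow_eq_zero_iff two_ne_zero |>.1 this
    · exfalso
      apply hd
      refine ⟨z₁ / z₂, ?_⟩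
      field_simp
      linear_combination (-1 : F) * h

/-- existence of an isometry of the odd-dimensional space with a given tuple -/
theorem exists_end_odd (p : ℕ) [Fact p.Prime] [CharP F p] (hq : Odd (Fintype.card F)) (m : ℕ)
    (r : ℕ) (hr : r.Prime) (hr2 : r ≠ 2) (hrp : r ≠ p)
    {S : Finset F[X]} {i : ℕ} (hi : i = orderOf ((Fintype.card F : ℕ) : ZMod r)) (hipos : 0 < i)
    (hS : FactorSet S i) (hSd : ∀ P ∈ S, P ∣ (X ^ r - 1 : F[X]))
    (hSN : ∀ P : F[X], P.Monic → Irreducible P → P ∣ (X ^ r - 1 : F[X]) → P = X - C 1 ∨ P ∈ S)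
    (hc : ∀ P ∈ S, recip P ∈ S) (hfix : Odd i → ∀ P : S, starPerm hS hc P ≠ P)
    (a : S → ℕ) (ha0 : a ≠ 0) (hinv : (fun P => a (starPerm hS hc P)) = a) (k : ℕ)
    (ha : i * ∑ P, a P = 2 * k) (hkm : k ≤ m) :
    ∃ g : Module.End F (Unit ⊕ (Fin m ⊕ Fin m) → F),
      (∀ v, QfOdd m F (g v) = QfOdd m F v) ∧ g ^ r = 1 ∧
      LinearMap.charpoly g = tuplePoly S i (2 * m + 1) a := by
  classical
  have h2 := two_ne_zero_of_odd_card hq
  have hm : 1 ≤ m := by
    rcases Nat.eq_zero_or_pos k with hk0 | hk0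
    · exfalso
      rw [hk0, mul_zero] at ha
      have hs : ∑ P, a P = 0 := (Nat.mul_eq_zero.1 ha).resolve_left (by omega)
      apply ha0
      funext P
      exact (Finset.sum_eq_zero_iff.1 hs) P (Finset.mem_univ P)
    · omega
  have hpoly : tuplePoly S i (2 * m) a * (X - C 1) ^ 1 = tuplePoly S i (2 * m + 1) a := by
    unfold tuplePoly
    rw [show 2 * m + 1 - i * ∑ P, a P = (2 * m - i * ∑ P, a P) + 1 by omega, pow_succ]
    ring
  have hfinF : finrank F F = 1 := Module.finrank_self F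
  by_cases hcase : k = m ∧ ¬ (Odd i ∨ Even (2 * m / i))
  · -- minus hyperplane
    obtain ⟨m', rfl⟩ : ∃ m', m = m' + 1 := ⟨m - 1, by omega⟩
    obtain ⟨ν, hν, hab⟩ := exists_aniso_diag hq
    have hnd := Cfsg.Agent.S2171.QfMinus_nondeg_of m' (0 : F) ν (aniso_disc_ne_zero hab)
    have hnp := not_plus_QfMinus m' hab hnd
    have hfinW : finrank F ((Fin m' ⊕ Fin m') ⊕ Fin 2 → F) = 2 * (m' + 1) := by
      rw [Module.finrank_fintype_fun_eq_card, Fintype.card_sum, Fintype.card_sum,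
        Fintype.card_fin, Fintype.card_fin]
      ring
    obtain ⟨γ, hγ, hγr, hγc⟩ := exists_end_of_tuple p (QfMinus m' F 0 ν) hnd (m := m' + 1)
      (by omega) hfinW r hr hr2 hrp hi hipos hS hSd hSN hc hfix a ha0 hinv k ha hkm
      (fun _ => ⟨fun h => absurd h hnp, fun h => absurd h hcase.2⟩)
    have hfr : finrank F (((Fin m' ⊕ Fin m') ⊕ Fin 2 → F) × F) =
        finrank F (Unit ⊕ (Fin (m' + 1) ⊕ Fin (m' + 1)) → F) := by
      rw [Module.finrank_prod, Module.finrank_fintype_fun_eq_card,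
        Module.finrank_fintype_fun_eq_card, Module.finrank_self, Fintype.card_sum,
        Fintype.card_sum, Fintype.card_sum, Fintype.card_sum, Fintype.card_fin, Fintype.card_fin,
        Fintype.card_fin, Fintype.card_unit]
      ring
    obtain ⟨g, hg1, hg2, hg3⟩ := exists_of_prod_iso (QfOdd (m' + 1) F) (QfMinus m' F 0 ν)
      ((-ν) • QuadraticMap.sq)
      (LinearEquiv.ofInjectiveOfFinrankEq (eMinusLin m' ν) (eMinusLin_injective h2 m' hν) hfr)
      (fun x => QfOdd_eMinusLin m' ν x) γ hγ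
    refine ⟨g, hg1, hg3 r hγr, ?_⟩
    rw [hg2, hγc, hfinF, hpoly]
  · -- plus hyperplane
    have hfinW : finrank F (Fin m ⊕ Fin m → F) = 2 * m := by
      rw [Module.finrank_fintype_fun_eq_card, Fintype.card_sum, Fintype.card_fin]
      ring
    obtain ⟨γ, hγ, hγr, hγc⟩ := exists_end_of_tuple p (QfPlus m F) (QfPlus_nondeg m) hm hfinW
      r hr hr2 hrp hi hipos hS hSd hSN hc hfix a ha0 hinv k ha hkm
      (fun hk => ⟨fun _ => by
        by_contra hno
        exact hcase ⟨hk, hno⟩, fun _ => plus_QfPlus m⟩)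
    obtain ⟨g, hg1, hg2, hg3⟩ := exists_of_prod_iso (QfOdd m F) (QfPlus m F)
      (QuadraticMap.sq) (ePlus m) (fun x => QfOdd_ePlus m x) γ hγ
    refine ⟨g, hg1, hg3 r hγr, ?_⟩
    rw [hg2, hγc, hfinF, hpoly]

/-- **Odd dimension: the number of classes of elements of order `r`.** -/
theorem card_odd (p : ℕ) [Fact p.Prime] [CharP F p] (hq : Odd (Fintype.card F)) (m r i t : ℕ)
    (hr : r.Prime) (hr2 : r ≠ 2) (hrp : r ≠ p)
    (hi : i = orderOf ((Fintype.card F : ℕ) : ZMod r)) (ht : t * i = r - 1) :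
    Nat.card {C : ConjClasses ↥(Cfsg.isometryGroup F (Cfsg.quadFormOdd m F)) //
      ∃ g : ↥(Cfsg.isometryGroup F (Cfsg.quadFormOdd m F)), ConjClasses.mk g = C ∧
        orderOf g = r} =
    if Odd i then Nat.choose (m / i + t / 2) (t / 2) - 1
    else Nat.choose ((2 * m + 1) / i + t) t - 1 := by
  classical
  obtain ⟨S, hS, hc, hipos, htS, hSd, hSN, hfix, hid⟩ := exists_setup p r i t hr hr2 hrp hi ht
  have h2 := two_ne_zero_of_odd_card hq
  have hQ := QfOdd_nondeg_of h2 m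
  have hcardι : Fintype.card (Unit ⊕ (Fin m ⊕ Fin m)) = 2 * m + 1 := by
    rw [Fintype.card_sum, Fintype.card_sum, Fintype.card_fin, Fintype.card_unit]
    ring
  have hσσ := starPerm_starPerm hS hc
  have hfin : finrank F (Unit ⊕ (Fin m ⊕ Fin m) → F) = 2 * m + 1 := by
    rw [Module.finrank_fintype_fun_eq_card, hcardι]
  -- parity of `i ∑ a`
  have heven : ∀ a : S → ℕ, (fun P => a (starPerm hS hc P)) = a → ∃ k, i * ∑ P, a P = 2 * k := by
    intro a ha
    by_cases hodd : Odd i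
    · rw [sum_eq_two_mul_sum_halfSystem (starPerm hS hc) hσσ (hfix hodd) a
        (fun x => congrFun ha x)]
      exact ⟨i * ∑ x ∈ halfSystem (starPerm hS hc), a x, by ring⟩
    · obtain ⟨c, hc'⟩ := Nat.not_odd_iff_even.1 hodd
      exact ⟨c * ∑ P, a P, by rw [hc']; ring⟩
  have key := card_classes_eq p (QfOdd m F) hQ r hr hr2 hrp hS hSN hc
    (if Odd i then 2 * m else 2 * m + 1)
    (by
      intro g hg a ha0 hinv ha hfa
      rw [hcardι] at ha
      obtain ⟨k, hk⟩ := heven a hinv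
      split_ifs
      · omega
      · exact ha)
    (by
      intro a ha0 hinv ha
      obtain ⟨k, hk⟩ := heven a hinv
      have hkm : k ≤ m := by
        split_ifs at ha <;> omega
      obtain ⟨γ, hγ, hγr, hγc⟩ := exists_end_odd p hq m r hr hr2 hrp hi hipos hS hSd hSN hc hfix
        a ha0 hinv k hk hkm
      have hne : γ ≠ 1 := by
        rintro rfl
        rw [LinearMap.charpoly_one, hfin, ← map_one C, ← tuplePoly_zero S i] at hγc
        exact ha0 (tuplePoly_injective hS _ hγc).symm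
      obtain ⟨g, hg1, hg2⟩ := exists_group_elt (QfOdd m F) γ hγ r hr hγr hne
      refine ⟨g, ?_, hg2⟩
      rw [hg1, hγc, hcardι])
  rw [QfOdd_coe] at key
  rw [key]
  by_cases hodd : Odd i
  · rw [if_pos hodd, if_pos hodd, card_invariant_tuples _ hσσ (hfix hodd) i m hipos, ← htS]
  · rw [if_neg hodd, if_neg hodd, card_tuples_id _ (hid hodd) i _ hipos, ← htS]

end main

end Cfsg.Agent.Helper21.OC
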