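import Mathlib

set_option autoImplicit false
set_option linter.style.haveILetI false

namespace Cfsg.Agent.Helper21

open MonoidHom MulAction Subgroup
open scoped commutatorElement

/-- If a finset is partitioned into blocks `O c` and the product of `f` over each block is `1`,
then the product over the whole finset is `1`. -/
theorem prod_eq_one_of_blocks {X A : Type*} [DecidableEq X] [CommGroup A] (f : X → A)
    (O : X → Finset X) :
    ∀ (s : Finset X), (∀ c ∈ s, c ∈ O c) → (∀ c ∈ s, O c ⊆ s) →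
      (∀ c ∈ s, ∀ c' ∈ O c, O c' = O c) → (∀ c ∈ s, ∏ c' ∈ O c, f c' = 1) →
      ∏ c ∈ s, f c = 1 := by
  intro s
  induction s using Finset.strongInduction with
  | H s ih =>
    intro h1 h2 h3 h4
    rcases s.eq_empty_or_nonempty with rfl | ⟨c, hc⟩
    · simp
    · have hsub : O c ⊆ s := h2 c hc
      rw [← Finset.prod_sdiff hsub, h4 c hc, mul_one]
      apply ih (s \ O c)
      · refine ⟨Finset.sdiff_subset, ?_⟩
        intro hss
        have := hss hc
        rw [Finset.mem_sdiff] at this
        exact this.2 (h1 c hc)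
      · intro c' hc'
        exact h1 c' (Finset.mem_sdiff.mp hc').1
      · intro c' hc' y hy
        rw [Finset.mem_sdiff] at hc' ⊢
        refine ⟨h2 c' hc'.1 hy, ?_⟩
        intro hyc
        apply hc'.2
        have e1 : O y = O c' := h3 c' hc'.1 y hy
        have e2 : O y = O c := h3 c hc y hyc
        rw [← e2, e1]
        exact h1 c' hc'.1
      · intro c' hc' y hy
        exact h3 c' (Finset.mem_sdiff.mp hc').1 y hy
      · intro c' hc'
        exact h4 c' (Finset.mem_sdiff.mp hc').1

section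
variable {G : Type*} [Group G]

theorem smul_mk_eq_iff (H : Subgroup G) (g k : G) :
    g • (k : G ⧸ H) = (k : G ⧸ H) ↔ k⁻¹ * g * k ∈ H := by
  rw [MulAction.Quotient.smul_mk, smul_eq_mul, QuotientGroup.eq]
  constructor
  · intro h
    have := H.inv_mem h
    have e : ((g * k)⁻¹ * k)⁻¹ = k⁻¹ * g * k := by group
    rwa [e] at this
  · intro h
    have := H.inv_mem h
    have e : (k⁻¹ * g * k)⁻¹ = (g * k)⁻¹ * k := by group
    rwa [e] at this

theorem orderOf_conj_eq (g y : G) : orderOf (g⁻¹ * y * g) = orderOf y := by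
  have := orderOf_injective (MulAut.conj g⁻¹).toMonoidHom (MulAut.conj g⁻¹).injective y
  simpa using this

theorem orderOf_pow_lt_of_prime_dvd {M : Type*} [Group M] [Finite M] {p : ℕ} (hp : p.Prime)
    (v : M) (hpv : p ∣ orderOf v) (r : ℕ) (hr : p ∣ r) : orderOf (v ^ r) < orderOf v := by
  rw [orderOf_pow]
  have hpos : 0 < orderOf v := orderOf_pos v
  apply Nat.div_lt_self hpos
  have hd : p ∣ Nat.gcd (orderOf v) r := Nat.dvd_gcd hpv hr
  have hgpos : 0 < Nat.gcd (orderOf v) r := Nat.gcd_pos_of_pos_left _ hpos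
  exact lt_of_lt_of_le hp.one_lt (Nat.le_of_dvd hgpos hd)

theorem out_mk_of_fixed' {S : Subgroup G} {z : G} {c : G ⧸ S} (hc : z • c = c) :
    (Quotient.mk'' c : Quotient (orbitRel (zpowers z) (G ⧸ S))).out = c := by
  have h1 : orbitRel (zpowers z) (G ⧸ S)
      (Quotient.mk'' c : Quotient (orbitRel (zpowers z) (G ⧸ S))).out c := Quotient.mk_out' c
  rw [MulAction.orbitRel_apply] at h1
  obtain ⟨w, hw⟩ := h1
  rw [← hw]
  have hst : zpowers z ≤ MulAction.stabilizer G c := by
    rw [Subgroup.zpowers_le]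
    exact hc
  have := hst w.2
  rw [MulAction.mem_stabilizer_iff] at this
  exact this

/-- The contribution of a fixed coset to the transfer. -/
noncomputable def trF (H : Subgroup G) {A : Type*} [CommGroup A] (ϕ : H →* A) (x : G)
    (c : G ⧸ H) : A :=
  open Classical in
  if h : c.out⁻¹ * x * c.out ∈ H then ϕ ⟨c.out⁻¹ * x * c.out, h⟩ else 1

theorem trF_mk (H : Subgroup G) {A : Type*} [CommGroup A] (ϕ : H →* A) (x g : G)
    (hg : g⁻¹ * x * g ∈ H) : trF H ϕ x (g : G ⧸ H) = ϕ ⟨g⁻¹ * x * g, hg⟩ := by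
  classical
  obtain ⟨h, hh⟩ := QuotientGroup.mk_out_eq_mul H g
  have hmem : ((g : G ⧸ H).out)⁻¹ * x * (g : G ⧸ H).out ∈ H := by
    rw [hh]
    have : (g * h)⁻¹ * x * (g * h) = (h : G)⁻¹ * (g⁻¹ * x * g) * h := by group
    rw [this]
    exact H.mul_mem (H.mul_mem (H.inv_mem h.2) hg) h.2
  unfold trF
  rw [dif_pos hmem]
  have : (⟨_, hmem⟩ : ↥H) = h⁻¹ * ⟨g⁻¹ * x * g, hg⟩ * h := by
    apply Subtype.ext
    simp only [Subgroup.coe_mul, Subgroup.coe_inv]
    rw [hh]
    group
  rw [this, map_mul, map_mul, map_inv, mul_comm, ← mul_assoc, mul_inv_cancel, one_mul]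

/-- Transfer as a product over the fixed cosets, when the non-fixed orbits contribute trivially. -/
theorem transfer_eq_prod_fixed [Finite G] (H : Subgroup G) {A : Type*} [CommGroup A] (ϕ : H →* A)
    (x : G) [Fintype (G ⧸ H)] [DecidableEq (G ⧸ H)]
    (hkill : ∀ (k : G) (r : ℕ), r ≠ 1 → r ∣ orderOf x → ∀ h : k⁻¹ * x ^ r * k ∈ H,
      ϕ ⟨k⁻¹ * x ^ r * k, h⟩ = 1) :
    transfer ϕ x = ∏ c ∈ Finset.univ.filter (fun c : G ⧸ H => x • c = c), trF H ϕ x c := by
  have := Fintype.ofFinite (Quotient (orbitRel (zpowers x) (G ⧸ H)))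
  rw [transfer_eq_prod_quotient_orbitRel_zpowers_quot]
  have hfac : ∀ q : Quotient (orbitRel (zpowers x) (G ⧸ H)),
      ϕ ⟨q.out.out⁻¹ * x ^ Function.minimalPeriod (x • ·) q.out * q.out.out,
        QuotientGroup.out_conj_pow_minimalPeriod_mem H x q.out⟩ =
      if x • q.out = q.out then trF H ϕ x q.out else 1 := by
    intro q
    by_cases hfix : x • q.out = q.out
    · rw [if_pos hfix]
      have hr1 : Function.minimalPeriod (x • ·) q.out = 1 := by
        rw [Function.minimalPeriod_eq_one_iff_isFixedPt]; exact hfix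
      have hmem : q.out.out⁻¹ * x * q.out.out ∈ H := by
        have := QuotientGroup.out_conj_pow_minimalPeriod_mem H x q.out
        rwa [hr1, pow_one] at this
      have e1 : trF H ϕ x q.out = ϕ ⟨q.out.out⁻¹ * x * q.out.out, hmem⟩ := by
        have := trF_mk H ϕ x q.out.out hmem
        rwa [QuotientGroup.out_eq'] at this
      rw [e1]
      congr 1
      apply Subtype.ext
      simp only
      rw [hr1, pow_one]
    · rw [if_neg hfix]
      apply hkill
      · intro hr1
        rw [Function.minimalPeriod_eq_one_iff_isFixedPt] at hr1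
        exact hfix hr1
      · exact MulAction.period_dvd_orderOf x q.out
  rw [Finset.prod_congr rfl (fun q _ => hfac q), ← Finset.prod_filter]
  apply Finset.prod_nbij' (fun q => q.out) (fun c => Quotient.mk'' c)
  · intro q hq
    simpa using hq
  · intro c hc
    simp only [Finset.mem_filter, Finset.mem_univ, true_and] at hc ⊢
    rw [out_mk_of_fixed' hc]; exact hc
  · intro q _
    exact Quotient.out_eq' q
  · intro c hc
    simp only [Finset.mem_filter, Finset.mem_univ, true_and] at hc
    exact out_mk_of_fixed' hc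
  · intro q _
    rfl

/-- `H ∩ Stab(c)`. -/
def stabIn (H : Subgroup G) (c : G ⧸ H) : Subgroup G := H ⊓ stabilizer G c

/-- `N_H(H ∩ Stab(c))`. -/
def normStabIn (H : Subgroup G) (c : G ⧸ H) : Subgroup G :=
  H ⊓ normalizer (stabIn H c : Set G)

theorem mem_stabIn (H : Subgroup G) (c : G ⧸ H) (y : G) :
    y ∈ stabIn H c ↔ y ∈ H ∧ y • c = c := by
  rw [stabIn, Subgroup.mem_inf, MulAction.mem_stabilizer_iff]

theorem stabIn_smul (H : Subgroup G) (c : G ⧸ H) (m : G) (hm : m ∈ normStabIn H c) :
    stabIn H (m • c) = stabIn H c := by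
  obtain ⟨hmH, hmN⟩ := Subgroup.mem_inf.mp hm
  rw [Subgroup.mem_normalizer_iff] at hmN
  ext y
  constructor
  · intro hy
    rw [mem_stabIn] at hy
    have h1 : (m⁻¹ * y * m) ∈ stabIn H c := by
      rw [mem_stabIn]
      refine ⟨H.mul_mem (H.mul_mem (H.inv_mem hmH) hy.1) hmH, ?_⟩
      rw [mul_smul, mul_smul, hy.2, inv_smul_smul]
    have := (hmN (m⁻¹ * y * m)).mp h1
    have e : m * (m⁻¹ * y * m) * m⁻¹ = y := by group
    rwa [e] at this
  · intro hy
    have h1 : (m⁻¹ * y * m) ∈ stabIn H c := by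
      apply (hmN (m⁻¹ * y * m)).mpr
      have e : m * (m⁻¹ * y * m) * m⁻¹ = y := by group
      rw [e]; exact hy
    rw [mem_stabIn] at h1 hy ⊢
    refine ⟨hy.1, ?_⟩
    have := h1.2
    rw [mul_smul, mul_smul, inv_smul_eq_iff] at this
    exact this

theorem normStabIn_smul (H : Subgroup G) (c : G ⧸ H) (m : G) (hm : m ∈ normStabIn H c) :
    normStabIn H (m • c) = normStabIn H c := by
  rw [normStabIn, stabIn_smul H c m hm, ← normStabIn]

end

section
variable {G : Type*} [Group G] [Finite G] {p : ℕ} [Fact p.Prime]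

/-- Core of Grün's first theorem: a homomorphism from a Sylow `p`-subgroup `H` to an abelian group
killing `H ∩ N_G(H)'` and all `H ∩ z H' z⁻¹` kills `H ∩ G'`. -/
theorem gruen_core (H : Subgroup G) (hPG : IsPGroup p ↥H) (hidx : ¬ p ∣ H.index)
    {A : Type*} [CommGroup A] (ϕ : ↥H →* A)
    (h1 : ∀ y : ↥H,
      (y : G) ∈ ⁅Subgroup.normalizer (H : Set G), Subgroup.normalizer (H : Set G)⁆ → ϕ y = 1)
    (h2 : ∀ (z : G) (y : ↥H),
      (y : G) ∈ (⁅H, H⁆).map (MulAut.conj z).toMonoidHom → ϕ y = 1) :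
    ∀ u : ↥H, (u : G) ∈ commutator G → ϕ u = 1 := by
  classical
  have hp : p.Prime := Fact.out
  have hdvd_order : ∀ v : ↥H, v ≠ 1 → p ∣ orderOf v := by
    intro v hv
    obtain ⟨a, ha⟩ := (IsPGroup.iff_orderOf.mp hPG) v
    rcases a with _ | a
    · rw [pow_zero, orderOf_eq_one_iff] at ha
      exact absurd ha hv
    · rw [ha, pow_succ]; exact dvd_mul_left p _
  suffices hmain : ∀ n : ℕ, ∀ u : ↥H, orderOf u = n → (u : G) ∈ commutator G → ϕ u = 1 from
    fun u hu => hmain _ u rfl hu
  intro n
  induction n using Nat.strong_induction_on with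
  | _ n ih =>
  intro u hun hu
  by_cases hu1 : u = 1
  · rw [hu1, map_one]
  have IH : ∀ v : ↥H, orderOf v < orderOf u → (v : G) ∈ commutator G → ϕ v = 1 := by
    intro v hv hvc
    exact ih (orderOf v) (hun ▸ hv) v rfl hvc
  clear ih
  set x : G := (u : G) with hx
  have hxH : x ∈ H := u.2
  have hxo : orderOf x = orderOf u := Subgroup.orderOf_coe u
  have hnormal : (commutator G).Normal := inferInstance
  have := Fintype.ofFinite (G ⧸ H)
  -- transfer is trivial on u
  have hT : transfer ϕ x = 1 := by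
    have := Abelianization.commutator_subset_ker (transfer ϕ) hu
    exact MonoidHom.mem_ker.mp this
  -- conjugates of proper p-th powers are killed
  have hkillpow : ∀ (k : G) (r : ℕ), p ∣ r → ∀ h : k⁻¹ * x ^ r * k ∈ H,
      ϕ ⟨k⁻¹ * x ^ r * k, h⟩ = 1 := by
    intro k r hr h
    apply IH
    · rw [Subgroup.orderOf_mk, orderOf_conj_eq, ← hxo]
      apply orderOf_pow_lt_of_prime_dvd hp x _ r hr
      rw [hxo]; exact hdvd_order u hu1
    · have := hnormal.conj_mem (x ^ r) (pow_mem hu r) k⁻¹
      simpa using this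
  rw [transfer_eq_prod_fixed H ϕ x] at hT
  swap
  · intro k r hr1 hrd h
    apply hkillpow k r _ h
    obtain ⟨a, ha⟩ := (IsPGroup.iff_orderOf.mp hPG) u
    rw [hxo, ha] at hrd
    obtain ⟨j, _, hj⟩ := (Nat.dvd_prime_pow hp).mp hrd
    rcases j with _ | j
    · rw [pow_zero] at hj; exact absurd hj hr1
    · rw [hj, pow_succ]; exact dvd_mul_left p _
  set Fix : Finset (G ⧸ H) := Finset.univ.filter (fun c : G ⧸ H => x • c = c) with hFix
  set FixN : Finset (G ⧸ H) := Finset.univ.filter (fun c : G ⧸ H => ∀ m ∈ H, m • c = c)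
    with hFixN
  have hNsub : FixN ⊆ Fix := by
    intro c hc
    simp only [hFix, hFixN, Finset.mem_filter, Finset.mem_univ, true_and] at hc ⊢
    exact hc x hxH
  rw [← Finset.prod_sdiff hNsub] at hT
  -- (a) cosets in the normalizer contribute `ϕ u`
  have hA : ∀ c ∈ FixN, trF H ϕ x c = ϕ u := by
    intro c hc
    simp only [hFixN, Finset.mem_filter, Finset.mem_univ, true_and] at hc
    have hck : ((c.out : G) : G ⧸ H) = c := QuotientGroup.out_eq' c
    set k := c.out with hk
    have hconj : ∀ m ∈ H, k⁻¹ * m * k ∈ H := by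
      intro m hm
      have := hc m hm
      rw [← hck, smul_mk_eq_iff] at this
      exact this
    have hkN : k ∈ Subgroup.normalizer (H : Set G) := by
      have hle : H.map (MulAut.conj k⁻¹).toMonoidHom ≤ H := by
        rintro _ ⟨m, hm, rfl⟩
        have := hconj m hm
        simpa using this
      have heq : H.map (MulAut.conj k⁻¹).toMonoidHom = H := by
        apply Subgroup.eq_of_le_of_card_ge hle
        rw [Subgroup.card_map_of_injective (MulAut.conj k⁻¹).injective]
      rw [Subgroup.mem_normalizer_iff'']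
      intro h
      constructor
      · intro hh; exact hconj h hh
      · intro hh
        rw [← heq] at hh
        obtain ⟨m, hm, hmeq⟩ := hh
        have hmh : m = h := by
          apply (MulAut.conj k⁻¹).injective
          rw [MulAut.conj_apply, inv_inv]
          simpa using hmeq
        rwa [← hmh]
    have hmem : k⁻¹ * x * k ∈ H := hconj x hxH
    rw [← hck, trF_mk H ϕ x k hmem]
    have hw : x⁻¹ * (k⁻¹ * x * k) ∈ H := H.mul_mem (H.inv_mem hxH) hmem
    have e : (⟨k⁻¹ * x * k, hmem⟩ : ↥H) = u * ⟨x⁻¹ * (k⁻¹ * x * k), hw⟩ := by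
      apply Subtype.ext
      simp only [Subgroup.coe_mul]
      rw [← hx]
      group
    rw [e, map_mul, h1 ⟨_, hw⟩ ?_, mul_one]
    have e2 : x⁻¹ * (k⁻¹ * x * k) = ⁅x⁻¹, k⁻¹⁆ := by rw [commutatorElement_def]; group
    show x⁻¹ * (k⁻¹ * x * k) ∈ _
    rw [e2]
    exact Subgroup.commutator_mem_commutator (Subgroup.le_normalizer (H.inv_mem hxH))
      (inv_mem hkN)
  -- (b) their number is prime to `p`
  have hB : ¬ p ∣ FixN.card := by
    have hmod := hPG.card_modEq_card_fixedPoints (G ⧸ H)
    have hcard : Nat.card (fixedPoints ↥H (G ⧸ H)) = FixN.card := by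
      rw [← Fintype.card_coe FixN, ← Nat.card_eq_fintype_card]
      apply Nat.card_congr
      apply Equiv.subtypeEquivRight
      intro c
      simp only [hFixN, Finset.mem_filter, Finset.mem_univ, true_and, MulAction.mem_fixedPoints]
      constructor
      · intro h m hm; exact h ⟨m, hm⟩
      · intro h m; exact h m m.2
    rw [hcard] at hmod
    intro hdvd
    apply hidx
    show p ∣ Nat.card (G ⧸ H)
    exact (Nat.modEq_zero_iff_dvd.mp (hmod.trans (Nat.modEq_zero_iff_dvd.mpr hdvd)))
  -- invariance of the contributions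
  have hinv : ∀ (c : G ⧸ H) (m : G), m ∈ H → x • c = c → x • (m • c) = m • c →
      trF H ϕ x (m • c) = trF H ϕ x c := by
    intro c m hm hc hmc
    have hck : ((c.out : G) : G ⧸ H) = c := QuotientGroup.out_eq' c
    set k := c.out with hk
    rw [← hck] at hc hmc ⊢
    rw [smul_mk_eq_iff] at hc
    rw [MulAction.Quotient.smul_mk, smul_eq_mul, smul_mk_eq_iff] at hmc
    rw [MulAction.Quotient.smul_mk, smul_eq_mul, trF_mk H ϕ x (m * k) hmc, trF_mk H ϕ x k hc]
    have hw : (k⁻¹ * x * k)⁻¹ * ((m * k)⁻¹ * x * (m * k)) ∈ H := H.mul_mem (H.inv_mem hc) hmc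
    have e : (⟨(m * k)⁻¹ * x * (m * k), hmc⟩ : ↥H) =
        ⟨k⁻¹ * x * k, hc⟩ * ⟨(k⁻¹ * x * k)⁻¹ * ((m * k)⁻¹ * x * (m * k)), hw⟩ := by
      apply Subtype.ext
      simp only [Subgroup.coe_mul]
      group
    rw [e, map_mul, h2 k⁻¹ ⟨_, hw⟩ ?_, mul_one]
    refine ⟨⁅x⁻¹, m⁻¹⁆, Subgroup.commutator_mem_commutator (H.inv_mem hxH) (H.inv_mem hm), ?_⟩
    simp only [MulEquiv.coe_toMonoidHom, MulAut.conj_apply, commutatorElement_def]
    group
  -- powers are killed
  have hpowkill : ∀ (c : G ⧸ H), x • c = c → ∀ j : ℕ, 1 ≤ j → trF H ϕ x c ^ (p ^ j) = 1 := by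
    intro c hc j hj
    have hck : ((c.out : G) : G ⧸ H) = c := QuotientGroup.out_eq' c
    set k := c.out with hk
    rw [← hck] at hc ⊢
    rw [smul_mk_eq_iff] at hc
    rw [trF_mk H ϕ x k hc, ← map_pow]
    have hmem : k⁻¹ * x ^ (p ^ j) * k ∈ H := by
      have := H.pow_mem hc (p ^ j)
      have e : (k⁻¹ * x * k) ^ (p ^ j) = k⁻¹ * x ^ (p ^ j) * k := by
        have := conj_pow (a := k⁻¹) (b := x) (i := p ^ j)
        rwa [inv_inv] at this
      rwa [e] at this
    have e : (⟨k⁻¹ * x * k, hc⟩ : ↥H) ^ (p ^ j) = ⟨k⁻¹ * x ^ (p ^ j) * k, hmem⟩ := by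
      apply Subtype.ext
      simp only [Subgroup.coe_pow]
      have := conj_pow (a := k⁻¹) (b := x) (i := p ^ j)
      rwa [inv_inv] at this
    rw [e]
    apply hkillpow
    exact dvd_pow_self p (by omega)
  -- (c) the other fixed cosets contribute trivially
  have hC : ∏ c ∈ Fix \ FixN, trF H ϕ x c = 1 := by
    apply prod_eq_one_of_blocks (trF H ϕ x)
      (fun c => Finset.univ.filter (fun c' : G ⧸ H => ∃ m ∈ normStabIn H c, m • c = c'))
    · intro c _
      simp only [Finset.mem_filter, Finset.mem_univ, true_and]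
      exact ⟨1, Subgroup.one_mem _, one_smul _ _⟩
    · intro c hc c' hc'
      simp only [Finset.mem_filter, Finset.mem_univ, true_and] at hc'
      obtain ⟨m, hm, rfl⟩ := hc'
      rw [Finset.mem_sdiff] at hc ⊢
      obtain ⟨hcF, hcN⟩ := hc
      simp only [hFix, hFixN, Finset.mem_filter, Finset.mem_univ, true_and] at hcF hcN ⊢
      have hmH : m ∈ H := (Subgroup.mem_inf.mp hm).1
      constructor
      · have hxs : x ∈ stabIn H (m • c) := by
          rw [stabIn_smul H c m hm, mem_stabIn]
          exact ⟨hxH, hcF⟩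
        exact ((mem_stabIn H _ x).mp hxs).2
      · intro hall
        apply hcN
        intro h hh
        have := hall (m * h * m⁻¹) (H.mul_mem (H.mul_mem hmH hh) (H.inv_mem hmH))
        rw [mul_smul, mul_smul, inv_smul_smul] at this
        exact smul_left_cancel m this
    · intro c _ c' hc'
      simp only [Finset.mem_filter, Finset.mem_univ, true_and] at hc'
      obtain ⟨m, hm, rfl⟩ := hc'
      ext y
      simp only [Finset.mem_filter, Finset.mem_univ, true_and]
      rw [normStabIn_smul H c m hm]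
      constructor
      · rintro ⟨n, hn, rfl⟩
        exact ⟨n * m, mul_mem hn hm, mul_smul _ _ _⟩
      · rintro ⟨n, hn, rfl⟩
        exact ⟨n * m⁻¹, mul_mem hn (inv_mem hm), by rw [mul_smul, inv_smul_smul]⟩
    · intro c hc
      rw [Finset.mem_sdiff] at hc
      obtain ⟨hcF, hcN⟩ := hc
      simp only [hFix, hFixN, Finset.mem_filter, Finset.mem_univ, true_and] at hcF hcN
      set K : Subgroup G := normStabIn H c with hK
      set O : Finset (G ⧸ H) :=
        Finset.univ.filter (fun c' : G ⧸ H => ∃ m ∈ K, m • c = c') with hO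
      have hKH : K ≤ H := inf_le_left
      have hconst : ∀ c' ∈ O, trF H ϕ x c' = trF H ϕ x c := by
        intro c' hc'
        simp only [hO, Finset.mem_filter, Finset.mem_univ, true_and] at hc'
        obtain ⟨m, hm, rfl⟩ := hc'
        apply hinv c m (hKH hm) hcF
        have hxs : x ∈ stabIn H (m • c) := by
          rw [stabIn_smul H c m hm, mem_stabIn]
          exact ⟨hxH, hcF⟩
        exact ((mem_stabIn H _ x).mp hxs).2
      rw [Finset.prod_congr rfl hconst, Finset.prod_const]
      -- the block is an orbit of the `p`-group `K`, of size `p ^ j` with `j ≥ 1`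
      have hKp : IsPGroup p ↥K := hPG.to_le hKH
      obtain ⟨j, hj⟩ := hKp.card_orbit c
      have hcardO : Nat.card (orbit ↥K c) = O.card := by
        rw [← Fintype.card_coe O, ← Nat.card_eq_fintype_card]
        apply Nat.card_congr
        apply Equiv.subtypeEquivRight
        intro c'
        simp only [hO, Finset.mem_filter, Finset.mem_univ, true_and, MulAction.mem_orbit_iff]
        constructor
        · rintro ⟨m, rfl⟩; exact ⟨m, m.2, rfl⟩
        · rintro ⟨m, hm, rfl⟩; exact ⟨⟨m, hm⟩, rfl⟩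
      rw [hcardO] at hj
      have hj1 : 1 ≤ j := by
        -- the orbit is nontrivial
        have hD : stabIn H c ≤ H := inf_le_left
        have hDne : (stabIn H c).subgroupOf H < ⊤ := by
          rw [lt_top_iff_ne_top, Ne, Subgroup.subgroupOf_eq_top]
          intro hle
          apply hcN
          intro m hm
          exact ((mem_stabIn H c m).mp (hle hm)).2
        haveI : Group.IsNilpotent ↥H := hPG.isNilpotent
        have hnc := Group.normalizerCondition_of_isNilpotent (G := ↥H) _ hDne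
        obtain ⟨m, hmN, hmD⟩ := SetLike.exists_of_lt hnc
        rw [← Subgroup.subgroupOf_normalizer_eq hD, Subgroup.mem_subgroupOf] at hmN
        rw [Subgroup.mem_subgroupOf] at hmD
        have hmK : (m : G) ∈ K := Subgroup.mem_inf.mpr ⟨m.2, hmN⟩
        have hmc : (m : G) • c ≠ c := by
          intro h
          exact hmD ((mem_stabIn H c m).mpr ⟨m.2, h⟩)
        have h2 : 1 < O.card := by
          rw [Finset.one_lt_card]
          refine ⟨(m : G) • c, ?_, c, ?_, hmc⟩
          · simp only [hO, Finset.mem_filter, Finset.mem_univ, true_and]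
            exact ⟨m, hmK, rfl⟩
          · simp only [hO, Finset.mem_filter, Finset.mem_univ, true_and]
            exact ⟨1, K.one_mem, one_smul _ _⟩
        rcases j with _ | j
        · rw [pow_zero] at hj; omega
        · omega
      rw [hj]
      exact hpowkill c hcF j hj1
  rw [hC, one_mul, Finset.prod_congr rfl hA, Finset.prod_const] at hT
  -- conclude by coprimality
  obtain ⟨a, ha⟩ := (IsPGroup.iff_orderOf.mp hPG) u
  have hd1 : orderOf (ϕ u) ∣ FixN.card := orderOf_dvd_of_pow_eq_one hT
  have hd2 : orderOf (ϕ u) ∣ p ^ a := ha ▸ orderOf_map_dvd ϕ u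
  have hcop : Nat.Coprime (p ^ a) FixN.card :=
    Nat.Coprime.pow_left a ((Nat.Prime.coprime_iff_not_dvd hp).mpr hB)
  have := Nat.dvd_gcd hd2 hd1
  rw [hcop.gcd_eq_one, Nat.dvd_one] at this
  exact orderOf_eq_one_iff.mp this

end

end Cfsg.Agent.Helper21
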