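import Cfsg.Agent.Helper21.S2286DEFS

/-! # S2286 piece FIELD1: a generator `ω` of `Fˣ` with `F_p[ω²] = F` -/

namespace Cfsg.Agent.Helper21.S2286
open Polynomial IntermediateField

theorem field_facts (p : ℕ) [Fact p.Prime] {F : Type*} [Field F] [Finite F] [CharP F p] :
    ∃ ω : Fˣ, (∀ y : Fˣ, y ∈ Subgroup.zpowers ω) ∧
      (letI := ZMod.algebra F p; Algebra.adjoin (ZMod p) {(ω : F) ^ 2} = ⊤) := by
  classical
  let _ := ZMod.algebra F p
  have := Fintype.ofFinite F
  obtain ⟨ω, hω⟩ := IsCyclic.exists_generator (α := Fˣ)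
  refine ⟨ω, hω, ?_⟩
  set lam : F := (ω : F) ^ 2 with hlam
  let E : IntermediateField (ZMod p) F := (ZMod p)⟮lam⟯
  have hE : E.toSubalgebra = Algebra.adjoin (ZMod p) {lam} :=
    adjoin_simple_toSubalgebra_of_isAlgebraic (Algebra.IsAlgebraic.isAlgebraic lam)
  suffices h : E = ⊤ by
    rw [← hE, h]; rfl
  rw [← finrank_eq_one_iff_eq_top]
  by_contra hne
  have hpos : 0 < Module.finrank E F := Module.finrank_pos
  have h2 : 2 ≤ Module.finrank E F := by omega
  set q := Fintype.card F with hq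
  set k := Fintype.card E with hk
  have hcard : q = k ^ Module.finrank E F := Module.card_eq_pow_finrank
  have hk1 : 1 < k := Fintype.one_lt_card
  have hqk : k ^ 2 ≤ q := by rw [hcard]; exact Nat.pow_le_pow_right (by omega) h2
  -- order of lam
  have hord : orderOf ω = q - 1 := by
    rw [orderOf_eq_card_of_forall_mem_zpowers hω, Nat.card_eq_fintype_card, Fintype.card_units]
  have hlamE : lam ∈ E := mem_adjoin_simple_self _ _
  have hlam0 : lam ≠ 0 := pow_ne_zero _ (Units.ne_zero ω)
  have hpow : lam ^ (k - 1) = 1 := by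
    have := FiniteField.pow_card_sub_one_eq_one (⟨lam, hlamE⟩ : E)
      (by intro h0; exact hlam0 (congrArg Subtype.val h0))
    exact congrArg Subtype.val this
  have hω2 : ω ^ (2 * (k - 1)) = 1 := by
    apply Units.ext
    rw [Units.val_pow_eq_pow_val, pow_mul, Units.val_one]
    exact hpow
  have hdvd : q - 1 ∣ 2 * (k - 1) := by
    rw [← hord]; exact orderOf_dvd_of_pow_eq_one hω2
  have hle : q - 1 ≤ 2 * (k - 1) := Nat.le_of_dvd (by omega) hdvd
  have hq1 : 1 ≤ q := Fintype.card_pos
  have h3 : q + 1 ≤ 2 * k := by omega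
  nlinarith
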