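import Cfsg.Agent.Helper21.S2286ODD
import Cfsg.Agent.Helper21.S2286FIELD1

/-! # S2286: the four cases and the final statement -/

namespace Cfsg.Agent.Helper21.S2286

open Polynomial Multiplicative

section even
variable {F : Type*} [Field F] [Finite F] [CharP F 2] (ω : Fˣ)
  (hω : ∀ y : Fˣ, y ∈ Subgroup.zpowers ω)
  (hadj : letI := ZMod.algebra F 2; Algebra.adjoin (ZMod 2) {(ω : F) ^ 2} = ⊤)

theorem even_mat (k : ℕ) (hk : ((ω : F) ^ 2) ^ k = 1 + (ω : F) ^ 2) :
    ∀ r ∈ [R1 2, R3 (k : ℤ), R4' (mcoef 2 ((ω : F) ^ 2)) (mdeg 2 ((ω : F) ^ 2)) (orderOf ω),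
        R5, R7'],
      FreeGroup.lift ![(x (1 : F)), hh ω, t0] r = 1 := by
  intro r hr
  simp only [List.mem_cons, List.not_mem_nil, or_false] at hr
  rcases hr with rfl | rfl | rfl | rfl | rfl
  · rw [lift_R1, x_pow, CharP.cast_eq_zero, zero_mul, x_zero]
  · rw [lift_R3, cj_mat, cj_mat, ← x_add, zpow_natCast, hk, zpow_one, mul_one, mul_one]
  · rw [lift_R4', prodA_mat, (mcoef_facts 2 ((ω : F) ^ 2)).2.2, x_zero, ← zpow_natCast, hh_zpow,
      zpow_natCast, pow_orderOf_eq_one, hh_one]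
  · rw [lift_R5, t0_hh]
  · rw [lift_R7']; exact braid_mat_two

include hω hadj in
theorem even_case (k : ℕ) (hk : ((ω : F) ^ 2) ^ k = 1 + (ω : F) ^ 2) :
    (∃ rels : Finset (FreeGroup (Fin 3)), rels.card ≤ 5 ∧
      Nonempty (PresentedGroup (↑rels : Set (FreeGroup (Fin 3))) ≃*
        Matrix.SpecialLinearGroup (Fin 2) F)) ∧
    (∃ rels : Finset (FreeGroup (Fin 3)), rels.card ≤ 5 ∧
      Nonempty (PresentedGroup (↑rels : Set (FreeGroup (Fin 3))) ≃*
        Matrix.ProjectiveSpecialLinearGroup (Fin 2) F)) := by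
  set L : List (FreeGroup (Fin 3)) :=
    [R1 2, R3 (k : ℤ), R4' (mcoef 2 ((ω : F) ^ 2)) (mdeg 2 ((ω : F) ^ 2)) (orderOf ω), R5, R7']
    with hLdef
  have hmat := even_mat ω k hk
  have hextract : ∀ {P : Type} [Group P] (u h t : P),
      (∀ r ∈ L, FreeGroup.lift ![u, h, t] r = 1) →
      u ^ 2 = 1 ∧ cj h u k = u * cj h u 1 ∧
      prodA h u (mcoef 2 ((ω : F) ^ 2)) (mdeg 2 ((ω : F) ^ 2) + 1) = h ^ orderOf ω ∧
      t * h * t⁻¹ = h⁻¹ ∧ u * t * u = t * u * t := by
    intro P _ u h t hL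
    exact ⟨(lift_R1 u h t 2).mp (hL (R1 2) (by simp [hLdef])),
      (lift_R3 u h t k).mp (hL (R3 (k : ℤ)) (by simp [hLdef])),
      (lift_R4' u h t _ _ _).mp
        (hL (R4' (mcoef 2 ((ω : F) ^ 2)) (mdeg 2 ((ω : F) ^ 2)) (orderOf ω)) (by simp [hLdef])),
      (lift_R5 u h t).mp (hL R5 (by simp [hLdef])),
      (lift_R7' u h t).mp (hL R7' (by simp [hLdef]))⟩
  refine ⟨?_, ?_⟩
  · have := wrap L ![(x (1 : F)), hh ω, t0] hmat
      (by
        intro P _ u h t hgen hL Φ hΦu hΦh hΦt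
        obtain ⟨r1, r3, r4, r5, r7⟩ := hextract u h t hL
        exact pipeline_even_SL ω hω hadj k hk u h t hgen r1 r3 r4 r5 r7 Φ hΦu hΦh hΦt)
    simpa [hLdef] using this
  · have := wrap L
      (fun i => (QuotientGroup.mk (![(x (1 : F)), hh ω, t0] i) :
        Matrix.ProjectiveSpecialLinearGroup (Fin 2) F))
      (by
        intro r hr
        have hcomp : FreeGroup.lift (fun i => (QuotientGroup.mk (![(x (1 : F)), hh ω, t0] i) :
            Matrix.ProjectiveSpecialLinearGroup (Fin 2) F)) =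
            (QuotientGroup.mk' (Subgroup.center (Matrix.SpecialLinearGroup (Fin 2) F))).comp
              (FreeGroup.lift ![(x (1 : F)), hh ω, t0]) := by
          ext i; simp
        rw [hcomp, MonoidHom.comp_apply, hmat r hr, map_one])
      (by
        intro P _ u h t hgen hL Φ hΦu hΦh hΦt
        obtain ⟨r1, r3, r4, r5, r7⟩ := hextract u h t hL
        exact pipeline_even_PSL ω hω hadj k hk u h t hgen r1 r3 r4 r5 r7 Φ hΦu hΦh hΦt)
    simpa [hLdef] using this

end even

section odd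
variable (p : ℕ) [Fact p.Prime] {F : Type*} [Field F] [Finite F] [CharP F p] (ω : Fˣ)
  (hω : ∀ y : Fˣ, y ∈ Subgroup.zpowers ω)
  (hadj : letI := ZMod.algebra F p; Algebra.adjoin (ZMod p) {(ω : F) ^ 2} = ⊤)

include hω hadj in
theorem case_P (hdeg : mdeg p ((ω : F) ^ 2) = 1) :
    (∃ rels : Finset (FreeGroup (Fin 3)), rels.card ≤ 5 ∧
      Nonempty (PresentedGroup (↑rels : Set (FreeGroup (Fin 3))) ≃*
        Matrix.SpecialLinearGroup (Fin 2) F)) ∧
    (∃ rels : Finset (FreeGroup (Fin 3)), rels.card ≤ 6 ∧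
      Nonempty (PresentedGroup (↑rels : Set (FreeGroup (Fin 3))) ≃*
        Matrix.ProjectiveSpecialLinearGroup (Fin 2) F)) ∧
    (p = 2 → ∃ rels : Finset (FreeGroup (Fin 3)), rels.card ≤ 5 ∧
      Nonempty (PresentedGroup (↑rels : Set (FreeGroup (Fin 3))) ≃*
        Matrix.ProjectiveSpecialLinearGroup (Fin 2) F)) := by
  have := odd_case p ω hω hadj []
    (by
      intro P _ u h t _ r1 r4
      have hp : 0 < p := (Fact.out : p.Prime).pos
      refine comm_P h u (isOfFinOrder_iff_pow_eq_one.mpr ⟨p, hp, r1⟩) ?_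
      rw [hdeg] at r4
      have hc1 : mcoef p ((ω : F) ^ 2) 1 = 1 := by
        have := (mcoef_facts p ((ω : F) ^ 2)).1
        rwa [hdeg] at this
      have : prodA h u (mcoef p ((ω : F) ^ 2)) 2 =
          u ^ (mcoef p ((ω : F) ^ 2) 0) * cj h u 1 := by
        simp [prodA, List.range_succ, hc1]
      rw [this] at r4
      have h1 : cj h u 1 = (u ^ (mcoef p ((ω : F) ^ 2) 0))⁻¹ := by
        rw [eq_inv_iff_mul_eq_one, ← r4]
        have hcm : Commute (cj h u 1) (u ^ mcoef p ((ω : F) ^ 2) 0) := by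
          have h2 : cj h u 1 = (u ^ (mcoef p ((ω : F) ^ 2) 0))⁻¹ := eq_inv_of_mul_eq_one_right r4
          rw [h2]
          exact (Commute.refl _).inv_left
        exact hcm.eq
      rw [← cj_one, h1]
      exact Subgroup.inv_mem _ (Subgroup.pow_mem _ (Subgroup.mem_zpowers u) _))
    (by intro r hr; simp at hr)
  simpa using this

include hω hadj in
theorem case_S (k : ℤ) (hk : ((ω : F) ^ 2) ^ k = 1 + (ω : F) ^ 2) :
    (∃ rels : Finset (FreeGroup (Fin 3)), rels.card ≤ 7 ∧
      Nonempty (PresentedGroup (↑rels : Set (FreeGroup (Fin 3))) ≃*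
        Matrix.SpecialLinearGroup (Fin 2) F)) ∧
    (∃ rels : Finset (FreeGroup (Fin 3)), rels.card ≤ 8 ∧
      Nonempty (PresentedGroup (↑rels : Set (FreeGroup (Fin 3))) ≃*
        Matrix.ProjectiveSpecialLinearGroup (Fin 2) F)) := by
  have := odd_case p ω hω hadj [R2, R3 k]
    (by
      intro P _ u h t hc _ _
      exact comm_S h u k ((lift_R2 u h t).mp (hc R2 (by simp)))
        ((lift_R3 u h t k).mp (hc (R3 k) (by simp))))
    (by
      intro r hr
      simp only [List.mem_cons, List.not_mem_nil, or_false] at hr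
      rcases hr with rfl | rfl
      · rw [lift_R2, cj_mat]; exact x_commute _ _
      · rw [lift_R3, cj_mat, cj_mat, ← x_add, hk, zpow_one, mul_one, mul_one])
  exact ⟨by simpa using this.1, by simpa using this.2.1⟩

include hω hadj in
theorem case_NS (k : ℤ) (hk : (ω : F) ^ (2 * k - 1) = 1 + (ω : F) ^ 2) :
    (∃ rels : Finset (FreeGroup (Fin 3)), rels.card ≤ 8 ∧
      Nonempty (PresentedGroup (↑rels : Set (FreeGroup (Fin 3))) ≃*
        Matrix.SpecialLinearGroup (Fin 2) F)) ∧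
    (∃ rels : Finset (FreeGroup (Fin 3)), rels.card ≤ 9 ∧
      Nonempty (PresentedGroup (↑rels : Set (FreeGroup (Fin 3))) ≃*
        Matrix.ProjectiveSpecialLinearGroup (Fin 2) F)) := by
  have := odd_case p ω hω hadj [R2, RNS2, RNS3 k]
    (by
      intro P _ u h t hc _ _
      exact comm_NS h u k ((lift_R2 u h t).mp (hc R2 (by simp)))
        ((lift_RNS2 u h t).mp (hc RNS2 (by simp)))
        ((lift_RNS3 u h t k).mp (hc (RNS3 k) (by simp))))
    (by
      intro r hr
      simp only [List.mem_cons, List.not_mem_nil, or_false] at hr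
      rcases hr with rfl | rfl | rfl
      · rw [lift_R2, cj_mat]; exact x_commute _ _
      · rw [lift_RNS2, cj_mat, cj_mat, ← x_add, ← x_add]; exact x_commute _ _
      · rw [lift_RNS3, cj_mat, cj_mat, cj_mat, ← x_add, ← x_add, ← x_add]
        congr 1
        have : ((ω : F) ^ 2) ^ (2 * k - 1) = ((ω : F) ^ (2 * k - 1)) ^ 2 := by
          rw [← zpow_natCast, ← zpow_natCast, ← zpow_mul, ← zpow_mul, mul_comm]
        rw [this, hk]
        simp only [zpow_one, mul_one]
        rw [zpow_ofNat]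
        ring)
  exact ⟨by simpa using this.1, by simpa using this.2.1⟩

end odd

/-- **S2286.** -/
theorem main {F : Type*} [Field F] [Fintype F] :
    (∃ rels : Finset (FreeGroup (Fin 3)), rels.card ≤ 9 ∧
      Nonempty (PresentedGroup (↑rels : Set (FreeGroup (Fin 3))) ≃*
        Matrix.SpecialLinearGroup (Fin 2) F)) ∧
    (∃ rels : Finset (FreeGroup (Fin 3)), rels.card ≤ 9 ∧
      Nonempty (PresentedGroup (↑rels : Set (FreeGroup (Fin 3))) ≃*
        Matrix.ProjectiveSpecialLinearGroup (Fin 2) F)) ∧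
    (CharP F 2 → ∃ rels : Finset (FreeGroup (Fin 3)), rels.card ≤ 5 ∧
      Nonempty (PresentedGroup (↑rels : Set (FreeGroup (Fin 3))) ≃*
        Matrix.ProjectiveSpecialLinearGroup (Fin 2) F)) := by
  obtain ⟨p, hpc⟩ := CharP.exists F
  have : Fact p.Prime := ⟨CharP.char_is_prime F p⟩
  obtain ⟨ω, hω, hadj⟩ := field_facts p (F := F)
  have weaken : ∀ {H : Type _} [Group H] {a b : ℕ}, a ≤ b →
      (∃ rels : Finset (FreeGroup (Fin 3)), rels.card ≤ a ∧
        Nonempty (PresentedGroup (↑rels : Set (FreeGroup (Fin 3))) ≃* H)) →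
      (∃ rels : Finset (FreeGroup (Fin 3)), rels.card ≤ b ∧
        Nonempty (PresentedGroup (↑rels : Set (FreeGroup (Fin 3))) ≃* H)) := by
    intro H _ a b hab ⟨rels, h1, h2⟩
    exact ⟨rels, h1.trans hab, h2⟩
  by_cases hdeg : mdeg p ((ω : F) ^ 2) = 1
  · obtain ⟨h1, h2, h3⟩ := case_P p ω hω hadj hdeg
    refine ⟨weaken (by norm_num) h1, weaken (by norm_num) h2, ?_⟩
    intro h2c
    exact h3 (CharP.eq F hpc h2c)
  · have hne : 1 + (ω : F) ^ 2 ≠ 0 := by
      intro h0
      apply hdeg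
      have : (ω : F) ^ 2 = ((-1 : ℤ) : F) := by
        rw [Int.cast_neg, Int.cast_one]
        linear_combination h0
      rw [this]
      exact mdeg_intCast p (-1)
    by_cases hp2 : p = 2
    · subst hp2
      obtain ⟨k, hk⟩ := exists_pow_eq_two ω hω (1 + (ω : F) ^ 2) hne
      obtain ⟨h1, h2⟩ := even_case ω hω hadj k hk
      exact ⟨weaken (by norm_num) h1, weaken (by norm_num) h2, fun _ => h2⟩
    · obtain ⟨K, hK⟩ := Subgroup.mem_zpowers_iff.mp (hω (Units.mk0 _ hne))
      have hK' : (ω : F) ^ K = 1 + (ω : F) ^ 2 := by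
        have := congrArg Units.val hK
        rwa [Units.val_zpow_eq_zpow_val, Units.val_mk0] at this
      have hthird : CharP F 2 → ∃ rels : Finset (FreeGroup (Fin 3)), rels.card ≤ 5 ∧
          Nonempty (PresentedGroup (↑rels : Set (FreeGroup (Fin 3))) ≃*
            Matrix.ProjectiveSpecialLinearGroup (Fin 2) F) :=
        fun h2c => absurd (CharP.eq F hpc h2c) hp2
      rcases Int.even_or_odd K with hev | hodd
      · obtain ⟨k, rfl⟩ := hev
        have hk : ((ω : F) ^ 2) ^ k = 1 + (ω : F) ^ 2 := by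
          rw [← hK', ← zpow_natCast, ← zpow_mul]
          congr 1; push_cast; ring
        obtain ⟨h1, h2⟩ := case_S p ω hω hadj k hk
        exact ⟨weaken (by norm_num) h1, weaken (by norm_num) h2, hthird⟩
      · obtain ⟨m, rfl⟩ := hodd
        have hk : (ω : F) ^ (2 * (m + 1) - 1) = 1 + (ω : F) ^ 2 := by
          rw [← hK']; congr 1; ring
        obtain ⟨h1, h2⟩ := case_NS p ω hω hadj (m + 1) hk
        exact ⟨weaken (by norm_num) h1, weaken (by norm_num) h2, hthird⟩

end Cfsg.Agent.Helper21.S2286
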