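import Mathlib
import Cfsg.Agent.Helper5.S2536Basic

set_option autoImplicit false

/-! S2536 piece SPLIT: a Hall subgroup of `Perm α` restricted to an invariant subset and to its
complement. -/

namespace Cfsg.Agent.S2536P

open Equiv Nat

universe u

namespace SPLIT

variable {α : Type u}

theorem resHom_apply (p : α → Prop) (H : Subgroup (Perm α)) (hp : Inv p H) (g : H)
    (x : {x // p x}) : ((resHom p H hp g x : {x // p x}) : α) = (g : Perm α) (x : α) := rfl

/-- an element of `H` is determined by its two restrictions -/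
theorem eq_of_res_eq (p : α → Prop) (H : Subgroup (Perm α)) (hp : Inv p H) (g g' : H)
    (h1 : resHom p H hp g = resHom p H hp g')
    (h2 : resHom (fun x => ¬ p x) H (inv_not hp) g = resHom (fun x => ¬ p x) H (inv_not hp) g') :
    g = g' := by
  apply Subtype.ext
  ext x
  by_cases hx : p x
  · have := congrArg (fun f : Perm {x // p x} => ((f ⟨x, hx⟩ : {x // p x}) : α)) h1
    simpa [resHom_apply] using this
  · have := congrArg (fun f : Perm {x // ¬ p x} => ((f ⟨x, hx⟩ : {x // ¬ p x}) : α)) h2
    simpa [resHom_apply] using this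

theorem card_dvd_mul (p : α → Prop) (H : Subgroup (Perm α)) (hp : Inv p H) :
    Nat.card H ∣ Nat.card (resGroup p H hp) * Nat.card (resGroup (fun x => ¬ p x) H (inv_not hp)) := by
  let emb : H →* (resGroup p H hp) × (resGroup (fun x => ¬ p x) H (inv_not hp)) :=
    MonoidHom.prod (resHom p H hp).rangeRestrict (resHom (fun x => ¬ p x) H (inv_not hp)).rangeRestrict
  have hemb : Function.Injective emb := by
    intro g g' h
    have h1 := congrArg (fun z => ((z.1 : resGroup p H hp) : Perm {x // p x})) h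
    have h2 := congrArg (fun z => ((z.2 : resGroup (fun x => ¬ p x) H (inv_not hp)) :
      Perm {x // ¬ p x})) h
    exact eq_of_res_eq p H hp g g' h1 h2
  have := Subgroup.card_dvd_of_injective emb hemb
  rwa [Nat.card_prod] at this

theorem card_eq_add [Finite α] (p : α → Prop) :
    Nat.card α = Nat.card {x // p x} + Nat.card {x // ¬ p x} := by
  classical
  rw [← Nat.card_sum]
  exact Nat.card_congr (Equiv.sumCompl p).symm

end SPLIT

open SPLIT in
/-- SPLIT -/
theorem split_hall {α : Type u} [Finite α] {π : Set ℕ} {H : Subgroup (Perm α)}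
    (hH : Cfsg.IsPiHall π H) (p : α → Prop) (hp : Inv p H) :
    Cfsg.IsPiHall π (resGroup p H hp) ∧ Cfsg.IsPiHall π (resGroup (fun x => ¬ p x) H (inv_not hp)) ∧
      PiPrime π ((Nat.card α).choose (Nat.card {x // p x})) ∧
      Nat.card H = Nat.card (resGroup p H hp) * Nat.card (resGroup (fun x => ¬ p x) H (inv_not hp)) := by
  classical
  set a := Nat.card {x // p x} with ha
  set b := Nat.card {x // ¬ p x} with hb
  set h₁ := Nat.card (resGroup p H hp) with hh₁
  set h₂ := Nat.card (resGroup (fun x => ¬ p x) H (inv_not hp)) with hh₂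
  have hn : Nat.card α = a + b := card_eq_add p
  -- the two images are `π`-groups
  have hd1 : h₁ ∣ Nat.card H := Subgroup.card_range_dvd (resHom p H hp)
  have hd2 : h₂ ∣ Nat.card H := Subgroup.card_range_dvd (resHom (fun x => ¬ p x) H (inv_not hp))
  have hπ1 : PiNum π h₁ := piNum_of_dvd hH.1 hd1
  have hπ2 : PiNum π h₂ := piNum_of_dvd hH.1 hd2
  obtain ⟨k, hk⟩ := card_dvd_mul p H hp
  -- orders divide the factorials
  have hda : h₁ ∣ a ! := by
    rw [ha, ← card_perm_nat]
    exact Subgroup.card_subgroup_dvd_card _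
  have hdb : h₂ ∣ b ! := by
    rw [hb, ← card_perm_nat]
    exact Subgroup.card_subgroup_dvd_card _
  obtain ⟨i₁, hi₁⟩ := hda
  obtain ⟨i₂, hi₂⟩ := hdb
  have hfac : (a + b)! = (a + b).choose a * a ! * b ! := by
    have := Nat.add_choose_mul_factorial_mul_factorial b a
    rw [add_comm b a] at this
    rw [← this]
    ring
  have hidx : Nat.card H * H.index = (a + b)! := by
    rw [Subgroup.card_mul_index, card_perm_nat, hn]
  have hHpos : 0 < Nat.card H := Nat.card_pos
  have hindex : H.index = k * i₁ * i₂ * (a + b).choose a := by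
    apply Nat.eq_of_mul_eq_mul_left hHpos
    rw [hidx, hfac, hi₁, hi₂]
    calc (a + b).choose a * (h₁ * i₁) * (h₂ * i₂)
        = (h₁ * h₂) * (i₁ * i₂ * (a + b).choose a) := by ring
      _ = Nat.card H * (k * i₁ * i₂ * (a + b).choose a) := by
        rw [hk]
        ring
  have hπ' : PiPrime π (k * i₁ * i₂ * (a + b).choose a) := hindex ▸ hH.2
  have hk' : PiPrime π k :=
    piPrime_of_dvd hπ' (Dvd.intro (i₁ * i₂ * (a + b).choose a) (by ring))
  have hi₁' : PiPrime π i₁ :=
    piPrime_of_dvd hπ' (Dvd.intro (k * i₂ * (a + b).choose a) (by ring))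
  have hi₂' : PiPrime π i₂ :=
    piPrime_of_dvd hπ' (Dvd.intro (k * i₁ * (a + b).choose a) (by ring))
  have hc' : PiPrime π ((a + b).choose a) :=
    piPrime_of_dvd hπ' (Dvd.intro_left (k * i₁ * i₂) rfl)
  have hkπ : PiNum π k := piNum_of_dvd (piNum_mul hπ1 hπ2) (Dvd.intro_left (Nat.card H) hk.symm)
  have hk1 : k = 1 := eq_one_of_piNum_of_piPrime hkπ hk'
  refine ⟨?_, ?_, ?_, ?_⟩
  · exact isPiHall_of_card (h := h₁) (i := i₁) (by rw [card_perm_nat, ← ha, hi₁]) hπ1 hi₁' rfl
  · exact isPiHall_of_card (h := h₂) (i := i₂) (by rw [card_perm_nat, ← hb, hi₂]) hπ2 hi₂' rfl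
  · rw [hn]
    exact hc'
  · rw [hk, hk1, mul_one]

end Cfsg.Agent.S2536P
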