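import Mathlib
import Cfsg.Agent.Helper5.S2536Basic

set_option autoImplicit false

/-! S2536 piece LEMW: if `s ∤ (ab)!/(a!^b b!)` then `a` is a power of `s` or `b < s`
(digit sums and Legendre's formula). -/

namespace Cfsg.Agent.S2536P

open Equiv Nat

namespace LEMW

/-- the digit sum in base `s` -/
def S (s n : ℕ) : ℕ := (Nat.digits s n).sum

theorem S_zero (s : ℕ) : S s 0 = 0 := by simp [S]

theorem S_rec {s : ℕ} (hs : 1 < s) (n : ℕ) : S s n = n % s + S s (n / s) := by
  rcases Nat.eq_zero_or_pos n with rfl | hn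
  · simp [S]
  · unfold S
    rw [Nat.digits_def' hs hn, List.sum_cons]

theorem S_le (s n : ℕ) : S s n ≤ n := Nat.digit_sum_le s n

theorem S_pos {s : ℕ} (hs : 1 < s) : ∀ n : ℕ, 0 < n → 0 < S s n := by
  intro n
  induction n using Nat.strong_induction_on with
  | _ n ih =>
    intro hn
    rw [S_rec hs n]
    by_cases h : n % s = 0
    · have hdvd : s ∣ n := Nat.dvd_of_mod_eq_zero h
      have hpos : 0 < n / s := Nat.div_pos (Nat.le_of_dvd hn hdvd) (by omega)
      have := ih (n / s) (Nat.div_lt_self hn hs) hpos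
      omega
    · omega

theorem S_add_le {s : ℕ} (hs : s.Prime) (x y : ℕ) : S s (x + y) ≤ S s x + S s y := by
  have : Fact s.Prime := ⟨hs⟩
  have h1 := _root_.sub_one_mul_padicValNat_factorial (p := s) (x + y)
  have h2 := _root_.sub_one_mul_padicValNat_factorial (p := s) x
  have h3 := _root_.sub_one_mul_padicValNat_factorial (p := s) y
  have h4 := Nat.add_choose_mul_factorial_mul_factorial x y
  have hc : (x + y).choose y ≠ 0 := (Nat.choose_pos (Nat.le_add_left y x)).ne'
  have h5 : padicValNat s (x + y)! =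
      padicValNat s ((x + y).choose y) + padicValNat s x ! + padicValNat s y ! := by
    rw [← h4, padicValNat.mul (mul_ne_zero hc (Nat.factorial_ne_zero x)) (Nat.factorial_ne_zero y),
      padicValNat.mul hc (Nat.factorial_ne_zero x)]
  have h6 : (s - 1) * padicValNat s x ! + (s - 1) * padicValNat s y ! ≤
      (s - 1) * padicValNat s (x + y)! := by
    rw [h5, mul_add, mul_add]
    have := Nat.zero_le ((s - 1) * padicValNat s ((x + y).choose y))
    omega
  rw [h1, h2, h3] at h6
  have := S_le s x
  have := S_le s y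
  have := S_le s (x + y)
  unfold S at *
  omega

theorem S_mul_self {s : ℕ} (hs : 1 < s) (x : ℕ) : S s (s * x) = S s x := by
  rw [S_rec hs (s * x), Nat.mul_mod_right, Nat.mul_div_cancel_left x (by omega), zero_add]

theorem S_mul_le_left {s : ℕ} (hs : s.Prime) (d x : ℕ) : S s (d * x) ≤ d * S s x := by
  induction d with
  | zero => simp [S_zero]
  | succ d ih =>
    rw [Nat.succ_mul, Nat.succ_mul]
    exact le_trans (S_add_le hs _ _) (Nat.add_le_add_right ih _)

theorem S_mul_le {s : ℕ} (hs : s.Prime) (a : ℕ) : ∀ b : ℕ, S s (a * b) ≤ S s a * S s b := by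
  intro b
  induction b using Nat.strong_induction_on with
  | _ b ih =>
    rcases Nat.eq_zero_or_pos b with rfl | hb
    · simp [S_zero]
    · have h1 : a * b = (b % s) * a + s * (a * (b / s)) := by
        conv_lhs => rw [← Nat.mod_add_div b s]
        ring
      have h2 := ih (b / s) (Nat.div_lt_self hb hs.one_lt)
      calc S s (a * b) = S s ((b % s) * a + s * (a * (b / s))) := by rw [← h1]
        _ ≤ S s ((b % s) * a) + S s (s * (a * (b / s))) := S_add_le hs _ _
        _ = S s ((b % s) * a) + S s (a * (b / s)) := by rw [S_mul_self hs.one_lt]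
        _ ≤ (b % s) * S s a + S s a * S s (b / s) :=
          Nat.add_le_add (S_mul_le_left hs _ _) h2
        _ = S s a * S s b := by
          rw [S_rec hs.one_lt b]
          ring

theorem eq_pow_of_S_eq_one {s : ℕ} (hs : 1 < s) : ∀ a : ℕ, S s a = 1 → ∃ k : ℕ, a = s ^ k := by
  intro a
  induction a using Nat.strong_induction_on with
  | _ a ih =>
    intro h
    have ha : 0 < a := by
      rcases Nat.eq_zero_or_pos a with rfl | ha
      · rw [S_zero] at h
        omega
      · exact ha
    rw [S_rec hs a] at h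
    have hda := Nat.mod_add_div a s
    by_cases h0 : a % s = 0
    · rw [h0, zero_add] at h
      obtain ⟨k, hk⟩ := ih (a / s) (Nat.div_lt_self ha hs) h
      refine ⟨k + 1, ?_⟩
      rw [pow_succ, ← hk, mul_comm]
      omega
    · have h1 : a % s = 1 := by omega
      have h2 : S s (a / s) = 0 := by omega
      have h3 : a / s = 0 := by
        by_contra hne
        have := S_pos hs (a / s) (Nat.pos_of_ne_zero hne)
        omega
      refine ⟨0, ?_⟩
      rw [pow_zero]
      rw [h3] at hda
      omega

theorem lt_of_S_eq {s : ℕ} (hs : 1 < s) (b : ℕ) (h : S s b = b) : b < s := by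
  rw [S_rec hs b] at h
  have hda := Nat.mod_add_div b s
  have h1 := S_le s (b / s)
  have h2 : b / s = 0 := by
    by_contra hne
    have h3 : 0 < b / s := Nat.pos_of_ne_zero hne
    have h4 : 2 * (b / s) ≤ s * (b / s) := Nat.mul_le_mul_right _ hs
    omega
  rw [h2, mul_zero, add_zero] at hda
  rw [← hda]
  exact Nat.mod_lt _ (by omega)

end LEMW

open LEMW in
/-- LEMW -/
theorem lem_w {s a b W : ℕ} (hs : s.Prime) (ha : 1 ≤ a) (hb : 1 ≤ b)
    (hW : (a * b)! = W * (a ! ^ b * b !)) (hsW : ¬ s ∣ W) : (∃ k : ℕ, a = s ^ k) ∨ b < s := by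
  have : Fact s.Prime := ⟨hs⟩
  have hW0 : W ≠ 0 := by
    rintro rfl
    rw [zero_mul] at hW
    exact Nat.factorial_ne_zero _ hW
  have hvW : padicValNat s W = 0 := padicValNat.eq_zero_of_not_dvd hsW
  have hv : padicValNat s (a * b)! = b * padicValNat s a ! + padicValNat s b ! := by
    rw [hW, padicValNat.mul hW0 (mul_ne_zero (pow_ne_zero _ (Nat.factorial_ne_zero a))
      (Nat.factorial_ne_zero b)), padicValNat.mul (pow_ne_zero _ (Nat.factorial_ne_zero a))
      (Nat.factorial_ne_zero b), padicValNat.pow, hvW, zero_add]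
  have h1 := _root_.sub_one_mul_padicValNat_factorial (p := s) (a * b)
  have h2 := _root_.sub_one_mul_padicValNat_factorial (p := s) a
  have h3 := _root_.sub_one_mul_padicValNat_factorial (p := s) b
  have h4 : a * b - S s (a * b) = b * (a - S s a) + (b - S s b) := by
    have : (s - 1) * padicValNat s (a * b)! =
        b * ((s - 1) * padicValNat s a !) + (s - 1) * padicValNat s b ! := by
      rw [hv]
      ring
    rw [h1, h2, h3] at this
    exact this
  have hA := S_le s a
  have hB := S_le s b
  have hC := S_le s (a * b)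
  have hA1 : 1 ≤ S s a := S_pos hs.one_lt a ha
  have hmul := S_mul_le hs a b
  by_cases hA2 : S s a = 1
  · left
    exact eq_pow_of_S_eq_one hs.one_lt a hA2
  · right
    apply lt_of_S_eq hs.one_lt
    by_contra hne
    have hlt : S s b < b := lt_of_le_of_ne hB hne
    -- in ℤ
    have e4 := h4
    zify [hA, hB, hC] at e4
    have e5 : (S s (a * b) : ℤ) ≤ (S s a : ℤ) * (S s b : ℤ) := by exact_mod_cast hmul
    have e6 : (2 : ℤ) ≤ (S s a : ℤ) := by
      have : 2 ≤ S s a := by omega
      exact_mod_cast this
    have e7 : (S s b : ℤ) + 1 ≤ (b : ℤ) := by exact_mod_cast hlt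
    nlinarith

end Cfsg.Agent.S2536P
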