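import Mathlib
import Cfsg.Agent.Helper5.S2536Basic
import Cfsg.Agent.Helper21.S2536LEMW
import Cfsg.Agent.Helper5.S2536NT2

set_option autoImplicit false

/-! S2536 piece ARW: the arithmetic of the wreath product case. -/

namespace Cfsg.Agent.S2536P

open Equiv Nat

namespace ARW

theorem prime_eq_of_pow_eq {p q k j a : ℕ} (hp : p.Prime) (hq : q.Prime) (ha : 2 ≤ a)
    (h1 : a = p ^ k) (h2 : a = q ^ j) : p = q := by
  have hk : k ≠ 0 := by
    rintro rfl
    rw [pow_zero] at h1
    omega
  have hd : p ∣ q ^ j := by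
    rw [← h2, h1]
    exact dvd_pow_self p hk
  exact (Nat.prime_dvd_prime_iff_eq hp hq).mp (hp.dvd_of_dvd_pow hd)

/-- `b` is a prime of `π`, the only one below `b`, and `a` is a power of it -/
theorem exists_p0 {π : Set ℕ} {a b W : ℕ} (ha : 2 ≤ a) (hb : 2 ≤ b) (hPb : PType π b)
    (hW : (a * b)! = W * (a ! ^ b * b !)) (hWπ : PiPrime π W) :
    b.Prime ∧ b ∈ π ∧ OnlyLE π b b ∧ ∃ k : ℕ, a = b ^ k := by
  have hlem : ∀ s : ℕ, s.Prime → s ∈ π → s ≤ b → ∃ k : ℕ, a = s ^ k := by
    intro s hs hsπ hsb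
    rcases lem_w hs (by omega) (by omega) hW (hWπ s hs hsπ) with h | h
    · exact h
    · omega
  rcases hPb with h | ⟨h1, h2, h3⟩ | h
  · omega
  · exact ⟨h1, h2, h3, hlem b h1 h2 le_rfl⟩
  · have hb3 : b < 3 := by
      by_contra hge
      obtain ⟨k, hk⟩ := hlem 2 Nat.prime_two (h 2 Nat.prime_two (by omega)) (by omega)
      obtain ⟨j, hj⟩ := hlem 3 Nat.prime_three (h 3 Nat.prime_three (by omega)) (by omega)
      have := prime_eq_of_pow_eq Nat.prime_two Nat.prime_three ha hk hj
      omega
    have hb2 : b = 2 := by omega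
    subst hb2
    refine ⟨Nat.prime_two, h 2 Nat.prime_two le_rfl, ?_, hlem 2 Nat.prime_two
      (h 2 Nat.prime_two le_rfl) le_rfl⟩
    intro r hr hr2 _
    have := hr.two_le
    omega

/-- for `b = 2`: the central binomial coefficient is `2 W` -/
theorem choose_eq_two_mul {a W : ℕ} (hW : (a * 2)! = W * (a ! ^ 2 * 2 !)) :
    (a + a).choose a = 2 * W := by
  have h1 := Nat.add_choose_mul_factorial_mul_factorial a a
  have h2 : a + a = a * 2 := by ring
  rw [h2] at h1
  rw [h2]
  have hpos : 0 < a ! * a ! := Nat.mul_pos (Nat.factorial_pos a) (Nat.factorial_pos a)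
  apply Nat.eq_of_mul_eq_mul_right hpos
  rw [← mul_assoc, h1, hW, Nat.factorial_two]
  ring

end ARW

open ARW in
/-- ARW -/
theorem arw {π : Set ℕ} {a b W : ℕ} (ha : 2 ≤ a) (hb : 2 ≤ b) (hTa : TType π a) (hPb : PType π b)
    (hW : (a * b)! = W * (a ! ^ b * b !)) (hWπ : PiPrime π W) (h2 : Two π (a * b))
    (hn : NotAll π (a * b)) : a = 4 ∧ b = 2 ∧ Is23 π 8 := by
  obtain ⟨hbp, hbπ, hbo, k, hk⟩ := exists_p0 ha hb hPb hW hWπ
  rcases hTa with h | ⟨s, k', hs, hsπ, hsk, hso⟩ | ⟨_, hall⟩ | ⟨ha8, h23⟩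
  · omega
  · -- only one prime of `π` below `a`
    exfalso
    have hsb : s = b := prime_eq_of_pow_eq hs hbp ha hsk hk
    subst hsb
    obtain ⟨r, r', hr, hr', hne, hrπ, hr'π, hrn, hr'n⟩ := h2
    -- a prime `q ∈ π`, `q ≠ s`, `q ≤ a b`
    obtain ⟨q, hq, hqπ, hqs, hqn⟩ : ∃ q : ℕ, q.Prime ∧ q ∈ π ∧ q ≠ s ∧ q ≤ a * s := by
      by_cases h : r = s
      · exact ⟨r', hr', hr'π, fun h' => hne (h.trans h'.symm), hr'n⟩
      · exact ⟨r, hr, hrπ, h, hrn⟩
    have hqa : ¬ q ≤ a := fun h => hqs (hso q hq h hqπ)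
    have hqb : ¬ q ≤ s := fun h => hqs (hbo q hq h hqπ)
    have hdvd : q ∣ (a * s)! := (Nat.Prime.dvd_factorial hq).mpr hqn
    rw [hW] at hdvd
    rcases (Nat.Prime.dvd_mul hq).mp hdvd with h | h
    · exact hWπ q hq hqπ h
    · rcases (Nat.Prime.dvd_mul hq).mp h with h | h
      · exact hqa ((Nat.Prime.dvd_factorial hq).mp (hq.dvd_of_dvd_pow h))
      · exact hqb ((Nat.Prime.dvd_factorial hq).mp h)
  · -- all primes below `a` are in `π`
    have h2π : 2 ∈ π := hall 2 Nat.prime_two ha
    have hb2 : b = 2 := (hbo 2 Nat.prime_two hb h2π).symm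
    subst hb2
    have hc := choose_eq_two_mul hW
    have hk1 : k ≠ 0 := by
      rintro rfl
      rw [pow_zero] at hk
      omega
    rcases Nat.lt_or_ge k 3 with hk3 | hk3
    · have hk12 : k = 1 ∨ k = 2 := by omega
      rcases hk12 with rfl | rfl
      · -- `a = 2`
        exfalso
        have ha2 : a = 2 := by rw [hk]; norm_num
        subst ha2
        obtain ⟨r, r', hr, hr', hne, hrπ, hr'π, hrn, hr'n⟩ := h2
        obtain ⟨t, ht, htn, htπ⟩ := hn
        have hcases : ∀ x : ℕ, x.Prime → x ≤ 2 * 2 → x = 2 ∨ x = 3 := by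
          intro x hx hx4
          have := hx.two_le
          have h4 : x ≠ 4 := by
            rintro rfl
            exact absurd hx (by norm_num)
          omega
        have h3π : 3 ∈ π := by
          rcases hcases r hr hrn with rfl | rfl
          · rcases hcases r' hr' hr'n with rfl | rfl
            · exact absurd rfl hne
            · exact hr'π
          · exact hrπ
        rcases hcases t ht htn with rfl | rfl
        · exact htπ h2π
        · exact htπ h3π
      · -- `a = 4`
        have ha4 : a = 4 := by rw [hk]; norm_num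
        subst ha4
        refine ⟨rfl, rfl, ?_⟩
        have hW35 : W = 35 := by
          have : (4 + 4).choose 4 = 70 := by decide
          omega
        subst hW35
        intro r hr hr8
        have h3π : 3 ∈ π := hall 3 Nat.prime_three (by norm_num)
        have hcases : r = 2 ∨ r = 3 ∨ r = 5 ∨ r = 7 := by
          have := hr.two_le
          have h4 : r ≠ 4 := by rintro rfl; exact absurd hr (by norm_num)
          have h6 : r ≠ 6 := by rintro rfl; exact absurd hr (by norm_num)
          have h8 : r ≠ 8 := by rintro rfl; exact absurd hr (by norm_num)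
          omega
        rcases hcases with rfl | rfl | rfl | rfl
        · exact ⟨fun _ => Or.inl rfl, fun _ => h2π⟩
        · exact ⟨fun _ => Or.inr rfl, fun _ => h3π⟩
        · constructor
          · intro h
            exact absurd (by norm_num : 5 ∣ 35) (hWπ 5 hr h)
          · intro h
            omega
        · constructor
          · intro h
            exact absurd (by norm_num : 7 ∣ 35) (hWπ 7 hr h)
          · intro h
            omega
    · -- `a = 2 ^ k`, `k ≥ 3`
      exfalso
      obtain ⟨t, ht, ht2, hta, htd⟩ := nt2 hk3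
      rw [← hk, hc] at htd
      have htπ : t ∈ π := hall t ht (hk ▸ hta)
      rcases (Nat.Prime.dvd_mul ht).mp htd with h | h
      · exact ht2 ((Nat.prime_dvd_prime_iff_eq ht Nat.prime_two).mp h)
      · exact hWπ t ht htπ h
  · -- `a = 8`, `π_8 = {2, 3}`
    exfalso
    subst ha8
    have h2π : 2 ∈ π := (h23 2 Nat.prime_two (by norm_num)).mpr (Or.inl rfl)
    have h3π : 3 ∈ π := (h23 3 Nat.prime_three (by norm_num)).mpr (Or.inr rfl)
    have hb2 : b = 2 := (hbo 2 Nat.prime_two hb h2π).symm
    subst hb2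
    have hc := choose_eq_two_mul hW
    have hW' : W = 6435 := by
      have : (8 + 8).choose 8 = 12870 := by decide
      omega
    subst hW'
    exact hWπ 3 Nat.prime_three h3π (by norm_num)

end Cfsg.Agent.S2536P
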