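import Mathlib
import Cfsg.Agent.Helper5.S2536Basic

set_option autoImplicit false

/-! S2536 piece BLOCKSYS: a transitive imprimitive group has an equivariant map onto a smaller
primitive action. -/

namespace Cfsg.Agent.S2536P

open Equiv Nat

universe u

/-- BLOCKSYS -/
theorem blocksys {α : Type u} [Finite α] {H : Subgroup (Perm α)}
    (htr : MulAction.IsPretransitive H α) (hnp : ¬ MulAction.IsPreprimitive H α) :
    ∃ (β : Type u) (_ : Finite β) (f : α → β) (ρ : H →* Perm β),
      Function.Surjective f ∧ (∀ (h : H) (x : α), f ((h : Perm α) x) = ρ h (f x)) ∧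
      MulAction.IsPreprimitive ρ.range β ∧ 2 ≤ Nat.card β ∧ Nat.card β < Nat.card α := by
  classical
  -- `α` is nontrivial
  have hnt : Nontrivial α := by
    by_contra h
    rw [not_nontrivial_iff_subsingleton] at h
    exact hnp MulAction.IsPreprimitive.of_subsingleton
  obtain ⟨a₀⟩ : Nonempty α := inferInstance
  set S : Subgroup H := MulAction.stabilizer H a₀ with hS
  have hSnc : ¬ IsCoatom S := fun h =>
    hnp ((MulAction.isCoatom_stabilizer_iff_preprimitive H a₀).mp h)
  have hsmul : ∀ (h : H) (x : α), h • x = (h : Perm α) x := fun _ _ => rfl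
  -- `S ≠ ⊤`
  have hStop : S ≠ ⊤ := by
    intro h
    obtain ⟨x, hx⟩ := exists_ne a₀
    obtain ⟨g, hg⟩ := MulAction.exists_smul_eq H a₀ x
    have : g ∈ S := by rw [h]; exact Subgroup.mem_top g
    rw [hS, MulAction.mem_stabilizer_iff] at this
    exact hx (hg.symm.trans this)
  obtain ⟨K, hK, hSK⟩ := (eq_top_or_exists_le_coatom S).resolve_left hStop
  have hSK' : S ≠ K := fun h => hSnc (h ▸ hK)
  -- an element of `K` outside `S`
  obtain ⟨k₀, hk₀K, hk₀S⟩ : ∃ k ∈ K, k ∉ S := by
    by_contra h
    push Not at h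
    exact hSK' (le_antisymm hSK h)
  -- an element outside `K`
  obtain ⟨g₀, hg₀⟩ : ∃ g : H, g ∉ K := by
    by_contra h
    push Not at h
    exact hK.1 (eq_top_iff.mpr fun g _ => h g)
  -- the map
  have hex : ∀ x : α, ∃ g : H, g • a₀ = x := fun x => MulAction.exists_smul_eq H a₀ x
  let f : α → H ⧸ K := fun x => ((Classical.choose (hex x) : H) : H ⧸ K)
  have hf : ∀ (g : H), f (g • a₀) = (g : H ⧸ K) := by
    intro g
    have h1 := Classical.choose_spec (hex (g • a₀))
    show ((Classical.choose (hex (g • a₀)) : H) : H ⧸ K) = (g : H ⧸ K)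
    rw [QuotientGroup.eq]
    apply hSK
    rw [hS, MulAction.mem_stabilizer_iff, mul_smul, inv_smul_eq_iff]
    exact h1.symm
  let ρ : H →* Perm (H ⧸ K) := MulAction.toPermHom H (H ⧸ K)
  have hρ : ∀ (h : H) (c : H ⧸ K), ρ h c = h • c := fun _ _ => rfl
  refine ⟨H ⧸ K, inferInstance, f, ρ, ?_, ?_, ?_, ?_, ?_⟩
  · -- surjective
    intro c
    induction c using QuotientGroup.induction_on with
    | H g => exact ⟨g • a₀, hf g⟩
  · -- equivariant
    intro h x
    obtain ⟨g, rfl⟩ := hex x
    rw [← hsmul, ← mul_smul, hf, hf, hρ]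
    rfl
  · -- primitive
    haveI : Nontrivial (H ⧸ K) := by
      refine ⟨⟨((1 : H) : H ⧸ K), (g₀ : H ⧸ K), ?_⟩⟩
      intro h
      rw [QuotientGroup.eq, inv_one, one_mul] at h
      exact hg₀ h
    have hprimH : MulAction.IsPreprimitive H (H ⧸ K) := by
      rw [← MulAction.isCoatom_stabilizer_iff_preprimitive H (((1 : H) : H ⧸ K)),
        MulAction.stabilizer_quotient]
      exact hK
    let F : (H ⧸ K) →ₑ[⇑ρ.rangeRestrict] (H ⧸ K) :=
      { toFun := id
        map_smul' := fun _ _ => rfl }
    exact MulAction.IsPreprimitive.of_surjective (f := F) Function.surjective_id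
  · -- `2 ≤ card β`
    haveI : Nontrivial (H ⧸ K) := by
      refine ⟨⟨((1 : H) : H ⧸ K), (g₀ : H ⧸ K), ?_⟩⟩
      intro h
      rw [QuotientGroup.eq, inv_one, one_mul] at h
      exact hg₀ h
    exact Finite.one_lt_card
  · -- `card β < card α`
    haveI := Fintype.ofFinite α
    haveI := Fintype.ofFinite (H ⧸ K)
    rw [Nat.card_eq_fintype_card, Nat.card_eq_fintype_card]
    apply Fintype.card_lt_of_surjective_not_injective f
    · intro c
      induction c using QuotientGroup.induction_on with
      | H g => exact ⟨g • a₀, hf g⟩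
    · intro hinj
      have h1 : f (k₀ • a₀) = f ((1 : H) • a₀) := by
        rw [hf, hf, QuotientGroup.eq]
        exact K.mul_mem (K.inv_mem hk₀K) K.one_mem
      have h2 := hinj h1
      rw [one_smul] at h2
      exact hk₀S (by rw [hS, MulAction.mem_stabilizer_iff]; exact h2)

end Cfsg.Agent.S2536P
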