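import Mathlib
import Cfsg.Agent.Helper5.S2536Basic

set_option autoImplicit false

/-! S2536 piece WNUM: `(ab)! = wnum a b * (a!^b * b!)`. -/

namespace Cfsg.Agent.S2536P

open Equiv Nat

/-- WNUM: `wnum a b` (in Defs) is the index of `S_a ≀ S_b` in `S_{ab}` -/
theorem factorial_mul_eq_wnum {a : ℕ} (ha : 1 ≤ a) (b : ℕ) :
    (a * b)! = wnum a b * (a ! ^ b * b !) := by
  obtain ⟨a', rfl⟩ : ∃ a', a = a' + 1 := ⟨a - 1, by omega⟩
  induction b with
  | zero => simp [wnum]
  | succ b ih =>
    have hw : wnum (a' + 1) (b + 1) =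
        wnum (a' + 1) b * ((a' + 1) * (b + 1) - 1).choose (a' + 1 - 1) := by
      unfold wnum
      rw [Finset.prod_range_succ]
    set n := (a' + 1) * (b + 1) - 1 with hn
    have hn1 : n + 1 = (a' + 1) * (b + 1) := by
      have : 1 ≤ (a' + 1) * (b + 1) := Nat.mul_pos (by omega) (by omega)
      omega
    have h1 := Nat.add_one_mul_choose_eq n a'
    have h2 := Nat.add_choose_mul_factorial_mul_factorial ((a' + 1) * b) (a' + 1)
    have h3 : (a' + 1) * b + (a' + 1) = n + 1 := by rw [hn1]; ring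
    rw [h3] at h2
    -- `(n+1).choose (a'+1) = (b+1) * n.choose a'`
    have h4 : (n + 1).choose (a' + 1) = (b + 1) * n.choose a' := by
      have : (n + 1).choose (a' + 1) * (a' + 1) = (b + 1) * n.choose a' * (a' + 1) := by
        rw [← h1, hn1]
        ring
      exact Nat.eq_of_mul_eq_mul_right (by omega) this
    rw [hw, Nat.add_sub_cancel, ← hn1, ← h2, h4, ih, Nat.factorial_succ b, pow_succ]
    ring

end Cfsg.Agent.S2536P
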