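import Cfsg.Agent.Helper11.S3786Defs

/-! Board `s3786pieces`, row COPR: coprime action on a group of class `≤ 2`. -/

set_option autoImplicit false

namespace Cfsg.Agent.S3786P

open Subgroup

/-- coprime action, elementwise: if `x a x⁻¹ = a z` with `z` of order dividing `n` commuting with `x`, and the
order of `x` is prime to `n`, then `x` commutes with `a` -/
theorem COPR_aux_coprime {H : Type*} [Group H] {n : ℕ} (x a : H) (hx : (orderOf x).Coprime n)
    (hzn : (a⁻¹ * (x * a * x⁻¹)) ^ n = 1)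
    (hzx : x * (a⁻¹ * (x * a * x⁻¹)) = (a⁻¹ * (x * a * x⁻¹)) * x) : x * a = a * x := by
  set z := a⁻¹ * (x * a * x⁻¹) with hz
  have hxa : x * a * x⁻¹ = a * z := by rw [hz]; group
  have hzx' : x * z * x⁻¹ = z := by rw [hzx]; group
  have hzk : ∀ k : ℕ, x * z ^ k * x⁻¹ = z ^ k := by
    intro k
    rw [← conj_pow, hzx']
  have hpow : ∀ k : ℕ, x ^ k * a * (x ^ k)⁻¹ = a * z ^ k := by
    intro k
    induction k with
    | zero => simp
    | succ k ih =>
      calc x ^ (k + 1) * a * (x ^ (k + 1))⁻¹ = x * (x ^ k * a * (x ^ k)⁻¹) * x⁻¹ := by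
            rw [pow_succ']; group
        _ = x * (a * z ^ k) * x⁻¹ := by rw [ih]
        _ = (x * a * x⁻¹) * (x * z ^ k * x⁻¹) := by group
        _ = a * z * z ^ k := by rw [hxa, hzk]
        _ = a * z ^ (k + 1) := by rw [pow_succ']; group
  have h1 := hpow (orderOf x)
  rw [pow_orderOf_eq_one] at h1
  have h2 : z ^ orderOf x = 1 := by
    have : a = a * z ^ orderOf x := by simpa using h1
    exact (mul_eq_left (a := a)).1 this.symm
  have h3 : orderOf z ∣ Nat.gcd (orderOf x) n :=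
    Nat.dvd_gcd (orderOf_dvd_of_pow_eq_one h2) (orderOf_dvd_of_pow_eq_one hzn)
  have hx1 : Nat.gcd (orderOf x) n = 1 := hx
  rw [hx1, Nat.dvd_one, orderOf_eq_one_iff] at h3
  rw [h3, mul_one] at hxa
  calc x * a = (x * a * x⁻¹) * x := by group
    _ = a * x := by rw [hxa]

/-- K5a. Coprime action on a group of class ≤ 2: a `p`-element normalising the `q`-group `C`, centralising `Z(C)` and `C/Z(C)`,
centralises `C`. -/
theorem COPR {H : Type*} [Group H] [Finite H] (q : ℕ) [Fact q.Prime] (C : Subgroup H) (hC : IsPGroup q C) (t : H)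
    (ht : (orderOf t).Coprime q) (htC : t ∈ normalizer (C : Set H))
    (h1 : ∀ a ∈ C, a ∈ centralizer (C : Set H) → t * a = a * t)
    (h2 : ∀ a ∈ C, t * a * t⁻¹ * a⁻¹ ∈ centralizer (C : Set H)) : t ∈ centralizer (C : Set H) := by
  rw [mem_centralizer_iff]
  intro a ha
  -- `w = t a t⁻¹ a⁻¹ ∈ Z(C)`
  have hwZ : t * a * t⁻¹ * a⁻¹ ∈ centralizer (C : Set H) := h2 a ha
  have hwC : t * a * t⁻¹ * a⁻¹ ∈ C :=
    C.mul_mem ((mem_normalizer_iff.1 htC a).1 ha) (C.inv_mem ha)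
  have hcomm : a * (t * a * t⁻¹ * a⁻¹) = (t * a * t⁻¹ * a⁻¹) * a := (mem_centralizer_iff.1 hwZ) a ha
  have hz : a⁻¹ * (t * a * t⁻¹) = t * a * t⁻¹ * a⁻¹ := by
    calc a⁻¹ * (t * a * t⁻¹) = a⁻¹ * ((t * a * t⁻¹ * a⁻¹) * a) := by group
      _ = a⁻¹ * (a * (t * a * t⁻¹ * a⁻¹)) := by rw [hcomm]
      _ = t * a * t⁻¹ * a⁻¹ := by group
  obtain ⟨j, hj⟩ := hC ⟨_, hwC⟩
  have hj' : (t * a * t⁻¹ * a⁻¹) ^ q ^ j = 1 := by
    have := congrArg Subtype.val hj
    simpa using this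
  have hta : t * a = a * t := by
    refine COPR_aux_coprime (n := q ^ j) t a (Nat.Coprime.pow_right j ht) ?_ ?_
    · rw [hz]; exact hj'
    · rw [hz]; exact h1 _ hwC hwZ
  exact hta.symm

end Cfsg.Agent.S3786P
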