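import Mathlib
import Cfsg.Agent.Helper5.HHTn
import Cfsg.Agent.Helper11.S3786Defs

/-! Board `s3786pieces`, row EXC (core): an exceptional element `x` (minimal polynomial of degree `< p^n`) cannot act
on a relative critical subgroup `Qs` of an `x`-invariant `q`-group `R` (`q` odd or `R` abelian).
This is the body of `Helper5.HHT.thmB_rep` with the critical subgroup given as a hypothesis. -/

set_option autoImplicit false

namespace Cfsg.Agent.S3786P

open Subgroup Module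
open Cfsg.Agent.Helper5.HHT
open scoped Pointwise

/-- EXC (core): the conclusion of row CRITREL is contradictory for an exceptional `x`. -/
theorem EXC_aux_core {F : Type*} [Field F] {p : ℕ} [Fact p.Prime] [CharP F p] {V : Type*} [AddCommGroup V] [Module F V]
    [FiniteDimensional F V] [Nontrivial V] {H : Type*} [Group H] [Finite H] (ρ₀ : Representation F H V)
    (hρ₀ : Function.Injective ρ₀) (hp2 : p ≠ 2) (xH : H) (n : ℕ) (hn1 : 1 ≤ n) (hordH : orderOf xH = p ^ n)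
    (r : ℕ) (hr : (ρ₀ xH - 1) ^ r = 0) (hrn : r < p ^ n) (q : ℕ) (hq : q.Prime) (hqp : q ≠ p) (R : Subgroup H)
    (hR : IsPGroup q R) (hab : q ≠ 2 ∨ ∀ a ∈ R, ∀ b ∈ R, a * b = b * a)
    (Qs : Subgroup H) (hQsR : Qs ≤ R) (hQne : Qs ≠ ⊥) (hxnorm : xH ∈ normalizer (Qs : Set H))
    (hZ : ∀ j, 0 < j → j < p ^ n → ∀ g ∈ Qs, xH ^ j * g = g * xH ^ j → ∀ h ∈ Qs, g * h = h * g)
    (hgen : Qs ≤ closure {z | ∃ (i : ℕ), ∃ g ∈ Qs,
      z = (xH ^ (p ^ (n - 1))) ^ i * g * ((xH ^ (p ^ (n - 1))) ^ i)⁻¹ * g⁻¹}) : False := by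
  classical
  have hp := (Fact.out : p.Prime)
  have hQq : IsPGroup q Qs := hR.to_le hQsR
  have hqf : Fact q.Prime := ⟨hq⟩
  have hxN : xH ^ (p ^ n) = 1 := by rw [← hordH]; exact pow_orderOf_eq_one xH
  -- the representation
  let K := AlgebraicClosure F
  set ρ : Representation K H (Fin (finrank F V) → K) :=
    ((baseChangeHom (F := F) (V := V) K : _ →* _).comp ρ₀) with hρ
  have hρinj : Function.Injective ρ := fun a b hab =>
    hρ₀ (baseChangeHom_injective (F := F) (V := V) K hab)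
  have hfin : Fintype Qs := Fintype.ofFinite Qs
  set σ : Representation K Qs (Fin (finrank F V) → K) := ρ.comp Qs.subtype with hσ
  set α : MulAut Qs := Cfsg.Agent.Lead.conjEquiv Qs ⟨xH, hxnorm⟩ with hα
  have hαpow : ∀ (i : ℕ) (g : Qs), (((α ^ i) g : Qs) : H) = xH ^ i * g * (xH ^ i)⁻¹ :=
    fun i g => conjEquiv_pow_apply Qs ⟨xH, hxnorm⟩ i g
  have hαN : α ^ (p ^ n) = 1 := by
    refine MulEquiv.ext fun g => Subtype.ext ?_
    rw [hαpow, hxN, one_mul, inv_one, mul_one]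
    rfl
  have hAN : ρ xH ^ (p ^ n) = 1 := by rw [← map_pow, hxN, map_one]
  have hA : ∀ g : Qs, ρ xH * σ g = σ (α g) * ρ xH := by
    intro g
    show ρ xH * ρ g.1 = ρ (α g).1 * ρ xH
    have h1 : ((α g : Qs) : H) = xH * g * xH⁻¹ := by
      have := hαpow 1 g
      rwa [pow_one, pow_one] at this
    rw [h1, ← map_mul, ← map_mul]
    congr 1
    group
  have hZ' : ∀ j, 0 < j → j < p ^ n → ∀ g : Qs, (α ^ j) g = g → ∀ h : Qs, g * h = h * g := by
    intro j hj0 hjn g hg h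
    have h1 : xH ^ j * g.1 = g.1 * xH ^ j := by
      have := congrArg Subtype.val hg
      rw [hαpow] at this
      calc xH ^ j * g.1 = (xH ^ j * g.1 * (xH ^ j)⁻¹) * xH ^ j := by group
        _ = g.1 * xH ^ j := by rw [this]
    exact Subtype.ext (hZ j hj0 hjn g.1 g.2 h1 h.1 h.2)
  have hgen' : Subgroup.closure {z : Qs | ∃ (i : ℕ) (g : Qs),
      z = ((α ^ (p ^ (n - 1))) ^ i) g * g⁻¹} = ⊤ := by
    rw [eq_top_iff]
    intro g _
    have hg := hgen g.2
    have hsub : {z : H | ∃ (i : ℕ), ∃ g ∈ Qs,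
        z = (xH ^ (p ^ (n - 1))) ^ i * g * ((xH ^ (p ^ (n - 1))) ^ i)⁻¹ * g⁻¹} ⊆
        Qs.subtype '' {z : Qs | ∃ (i : ℕ) (g : Qs), z = ((α ^ (p ^ (n - 1))) ^ i) g * g⁻¹} := by
      rintro _ ⟨i, g', hg', rfl⟩
      refine ⟨((α ^ (p ^ (n - 1))) ^ i) ⟨g', hg'⟩ * (⟨g', hg'⟩ : Qs)⁻¹, ⟨i, ⟨g', hg'⟩, rfl⟩, ?_⟩
      rw [← pow_mul, Subgroup.coe_subtype, Subgroup.coe_mul, hαpow, pow_mul]
      rfl
    have h2 := Subgroup.closure_mono hsub hg
    rw [← MonoidHom.map_closure] at h2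
    obtain ⟨g', hg', hgg'⟩ := h2
    have : g' = g := Subtype.ext hgg'
    rw [← this]; exact hg'
  have hnt : ∃ g : Qs, σ g ≠ 1 := by
    obtain ⟨g, hg1⟩ := (Subgroup.ne_bot_iff_exists_ne_one.mp hQne)
    refine ⟨g, ?_⟩
    intro h
    apply hg1
    have h3 : ρ g.1 = ρ 1 := by rw [map_one]; exact h
    exact Subtype.ext (by rw [hρinj h3]; rfl)
  have hrK : (ρ xH - 1) ^ r = 0 := by
    have h1 : ρ xH - 1 = baseChangeHom K (ρ₀ xH - 1) := by
      rw [map_sub, map_one]; rfl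
    rw [h1, ← map_pow, hr, map_zero]
  rcases thmB_abstract p q (Ne.symm hqp) hQq σ α (ρ xH) n hn1 hαN hAN hA hZ' hgen' hnt r hrK
    with h | ⟨n₀, m, h1, h2, h3, h4, h5, h6⟩
  · omega
  · -- `p ^ n₀ - 1 = q ^ m` is even, so `q = 2`, so `R` is abelian
    have hpodd : Odd p := hp.odd_of_ne_two hp2
    have hpowodd : Odd (p ^ n₀) := hpodd.pow
    have hpos : 0 < p ^ n₀ := pow_pos hp.pos _
    have heven : Even (q ^ m) := by
      rw [← h4]
      rcases hpowodd with ⟨k, hk⟩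
      exact ⟨k, by omega⟩
    have hq2 : q = 2 := by
      have : Even q := (Nat.even_pow.1 heven).1
      exact (Nat.Prime.even_iff hq).1 this
    rcases hab with hne | hcomm
    · exact hne hq2
    · apply h5
      intro g h
      exact Subtype.ext (hcomm g.1 (hQsR g.2) h.1 (hQsR h.2))

end Cfsg.Agent.S3786P
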