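import Mathlib
import Cfsg.Agent.Helper11.S3786Defs
import Cfsg.Agent.Helper21.S3786EXCcore
import Cfsg.Agent.Helper1.S3786CRITREL

/-! Board `s3786pieces`, row EXC: for an exceptional `x`, `x^{p^{n-1}}` centralises every `x`-invariant `q`-group `R`
(`q` odd, or `R` abelian). -/

set_option autoImplicit false

namespace Cfsg.Agent.S3786P

open Subgroup

/-- A2. (Body of `Helper5.HHT.thmB_rep` with `CRITREL` instead of `exists_critical_subgroup`, then `thmB_abstract`: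
`p^n ≤ r` is excluded by `hrn`; the exceptional alternative needs `Qs` nonabelian and `p^{n₀} - 1 = q^m`, even, so `q = 2`.) -/
theorem EXC {F : Type*} [Field F] {p : ℕ} [Fact p.Prime] [CharP F p] {V : Type*} [AddCommGroup V] [Module F V]
    [FiniteDimensional F V] [Nontrivial V] {H : Type*} [Group H] [Finite H] (ρ₀ : Representation F H V)
    (hρ₀ : Function.Injective ρ₀) (hp2 : p ≠ 2) (x : H) (n : ℕ) (hn : 1 ≤ n) (hx : orderOf x = p ^ n)
    (r : ℕ) (hr : (ρ₀ x - 1) ^ r = 0) (hrn : r < p ^ n) (q : ℕ) (hq : q.Prime) (hqp : q ≠ p) (R : Subgroup H)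
    (hR : IsPGroup q R) (hxR : x ∈ normalizer (R : Set H)) (hab : q ≠ 2 ∨ ∀ a ∈ R, ∀ b ∈ R, a * b = b * a) :
    x ^ (p ^ (n - 1)) ∈ centralizer (R : Set H) := by
  by_contra hnc
  obtain ⟨Qs, hQsR, hQne, hxnorm, hZ, hgen⟩ := CRITREL p x n hn hx q hq hqp R hR hxR hnc
  exact EXC_aux_core ρ₀ hρ₀ hp2 x n hn hx r hr hrn q hq hqp R hR hab Qs hQsR hQne hxnorm hZ hgen

end Cfsg.Agent.S3786P
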