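import Mathlib
import Cfsg.Agent.Helper11.S4409Defs

/-! Board `s4409pieces`, row 3SUB (helper21): the three subgroups lemma in the form used for `[P,K] = P`. -/

set_option autoImplicit false
set_option linter.unusedVariables false

namespace Cfsg.Agent.S4409P

open Subgroup
open scoped commutatorElement

variable {S : Type*} [Group S] [Finite S]

/-- 3SUB : three subgroups lemma (`Subgroup.commutator_commutator_eq_bot_of_rotate`). -/
theorem le_centralizer_of_comm_eq_bot (P K Y : Subgroup S) (hPK : ⁅P, K⁆ = P) (hYP : Y ≤ P)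
    (hPY : P ≤ normalizer (Y : Set S)) (hYK : ⁅Y, K⁆ = ⊥) : Y ≤ centralizer (P : Set S) := by
  have h1 : ⁅⁅Y, K⁆, P⁆ = ⊥ := by rw [hYK]; exact Subgroup.commutator_bot_left P
  have hPYle : ⁅P, Y⁆ ≤ Y := by
    rw [Subgroup.commutator_le]
    intro x hx y hy
    rw [commutatorElement_def]
    have h2 : x * y * x⁻¹ ∈ Y := (Subgroup.mem_normalizer_iff.mp (hPY hx) y).mp hy
    exact Y.mul_mem h2 (Y.inv_mem hy)
  have h2 : ⁅⁅P, Y⁆, K⁆ = ⊥ := by
    rw [eq_bot_iff, ← hYK]
    exact Subgroup.commutator_mono hPYle le_rfl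
  have h3 : ⁅⁅K, P⁆, Y⁆ = ⊥ := Subgroup.commutator_commutator_eq_bot_of_rotate h2 h1
  rw [Subgroup.commutator_comm K P, hPK, Subgroup.commutator_comm] at h3
  exact Subgroup.commutator_eq_bot_iff_le_centralizer.mp h3

end Cfsg.Agent.S4409P
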