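import Mathlib
import Cfsg.Agent.Helper11.S4409Defs

/-! Board `s4409pieces`, row E1 (helper21), core: an extraspecial `2`-group of order `≥ 16` contains a non-cyclic abelian
subgroup of order `≥ 8`.  The rows AB8 and F4 enter the core as hypotheses. -/

set_option autoImplicit false
set_option linter.unusedVariables false

namespace Cfsg.Agent.S4409P

open Subgroup
open scoped commutatorElement

/-- type-level core: centre of order `2`, squares and commutators central, order `≥ 16`. -/
theorem E1_aux_type (Q : Type*) [Group Q] [Finite Q] (hz : Nat.card (Subgroup.center Q) = 2)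
    (hsq : ∀ g : Q, g * g ∈ Subgroup.center Q) (hcomm : ∀ g h : Q, ⁅g, h⁆ ∈ Subgroup.center Q)
    (h16 : 16 ≤ Nat.card Q) :
    ∃ B : Subgroup Q, IsMulCommutative ↥B ∧ 8 ≤ Nat.card ↥B ∧ ¬ IsCyclic ↥B := by
  classical
  have hz2 : ∀ z₁ ∈ Subgroup.center Q, ∀ z₂ ∈ Subgroup.center Q, z₁ ≠ 1 → z₂ ≠ 1 → z₁ = z₂ := by
    intro z₁ h₁ z₂ h₂ n₁ n₂
    obtain ⟨y, hy, huniq⟩ := (Nat.card_eq_two_iff' (1 : Subgroup.center Q)).mp hz
    have e1 := huniq ⟨z₁, h₁⟩ (by intro h; exact n₁ (congrArg Subtype.val h))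
    have e2 := huniq ⟨z₂, h₂⟩ (by intro h; exact n₂ (congrArg Subtype.val h))
    exact congrArg Subtype.val (e1.trans e2.symm)
  have hzsq : ∀ z ∈ Subgroup.center Q, z * z = 1 := by
    intro z hzc
    by_cases h1 : z = 1
    · rw [h1, mul_one]
    · by_contra h2
      have := hz2 (z * z) (Subgroup.mul_mem _ hzc hzc) z hzc h2 h1
      apply h1
      have e : z = z⁻¹ * (z * z) := by group
      rw [e, this]; group
  have hexp4 : ∀ g : Q, g ^ 4 = 1 := by
    intro g
    have := hzsq (g * g) (hsq g)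
    have e : g ^ 4 = g * g * (g * g) := by
      rw [pow_succ, pow_succ, pow_succ, pow_one, mul_assoc, mul_assoc]
    rw [e, this]
  obtain ⟨x, hx⟩ : ∃ x : Q, x ∉ Subgroup.center Q := by
    by_contra h
    push Not at h
    have h1 : Subgroup.center Q = ⊤ := eq_top_iff.mpr (fun g _ => h g)
    rw [h1, Subgroup.card_top] at hz
    omega
  obtain ⟨a, ha⟩ : ∃ a, a * x ≠ x * a := by
    by_contra h
    push Not at h
    exact hx (Subgroup.mem_center_iff.mpr h)
  have memC : ∀ g, g ∈ Subgroup.centralizer ({x} : Set Q) ↔ g * x = x * g := by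
    intro g
    rw [Subgroup.mem_centralizer_iff]
    constructor
    · intro h; exact (h x (Set.mem_singleton x)).symm
    · intro h y hy
      rw [Set.mem_singleton_iff] at hy
      rw [hy]; exact h.symm
  have key : ∀ g h, g ∉ Subgroup.centralizer ({x} : Set Q) → h ∉ Subgroup.centralizer ({x} : Set Q) →
      ⁅g, x⁆ = ⁅h, x⁆ := by
    intro g h hg hh
    apply hz2 _ (hcomm g x) _ (hcomm h x)
    · intro h1; apply hg; rw [memC]; exact commutatorElement_eq_one_iff_mul_comm.mp h1
    · intro h1; apply hh; rw [memC]; exact commutatorElement_eq_one_iff_mul_comm.mp h1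
  have hidx : (Subgroup.centralizer ({x} : Set Q)).index = 2 := by
    rw [Subgroup.index_eq_two_iff]
    refine ⟨a, fun b => ?_⟩
    have ha' : a ∉ Subgroup.centralizer ({x} : Set Q) := fun h => ha ((memC a).mp h)
    by_cases hb : b ∈ Subgroup.centralizer ({x} : Set Q)
    · right
      refine ⟨hb, ?_⟩
      intro hba
      apply ha'
      have := Subgroup.mul_mem _ (Subgroup.inv_mem _ hb) hba
      rwa [inv_mul_cancel_left] at this
    · left
      refine ⟨?_, hb⟩
      have hb' : b⁻¹ ∉ Subgroup.centralizer ({x} : Set Q) := fun h => hb (by simpa using Subgroup.inv_mem _ h)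
      have e := key b⁻¹ a hb' ha'
      rw [memC]
      rw [commutatorElement_def, commutatorElement_def, inv_inv] at e
      have e2 : b⁻¹ * x * b = a * x * a⁻¹ := mul_right_cancel e
      calc b * a * x = b * (a * x * a⁻¹) * a := by group
        _ = b * (b⁻¹ * x * b) * a := by rw [e2]
        _ = x * (b * a) := by group
  have hcard : Nat.card ↥(Subgroup.centralizer ({x} : Set Q)) * 2 = Nat.card Q := by
    rw [← hidx]; exact Subgroup.card_mul_index _
  have hC8 : 8 ≤ Nat.card ↥(Subgroup.centralizer ({x} : Set Q)) := by omega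
  have hncyc : ∀ B : Subgroup Q, 8 ≤ Nat.card ↥B → ¬ IsCyclic ↥B := by
    intro B hB hcyc
    have h1 : Monoid.exponent ↥B = Nat.card ↥B := IsCyclic.exponent_eq_card
    have h2 : Monoid.exponent ↥B ∣ 4 := Monoid.exponent_dvd_of_forall_pow_eq_one (fun g => by
      apply Subtype.ext
      rw [Subgroup.coe_pow, Subgroup.coe_one]
      exact hexp4 g.1)
    have := Nat.le_of_dvd (by norm_num) h2
    omega
  have hlt : ∀ H K : Subgroup Q, H ≤ K → (∃ g ∈ K, g ∉ H) → 2 * Nat.card ↥H ≤ Nat.card ↥K := by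
    rintro H K hHK ⟨g, hgK, hgH⟩
    obtain ⟨m, hm⟩ := Subgroup.card_dvd_of_le hHK
    have hpos : 0 < Nat.card ↥H := Nat.card_pos
    have hposK : 0 < Nat.card ↥K := Nat.card_pos
    rcases m with _ | _ | m
    · rw [mul_zero] at hm; omega
    · exfalso; apply hgH
      have : H = K := Subgroup.eq_of_le_of_card_ge hHK (by omega)
      rw [this]; exact hgK
    · rw [hm]; nlinarith
  by_cases hCab : ∀ u ∈ Subgroup.centralizer ({x} : Set Q), ∀ v ∈ Subgroup.centralizer ({x} : Set Q), u * v = v * u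
  · exact ⟨_, ⟨⟨fun u v => Subtype.ext (hCab u.1 u.2 v.1 v.2)⟩⟩, hC8, hncyc _ hC8⟩
  · push Not at hCab
    obtain ⟨y, hyC, v, hvC, hyv⟩ := hCab
    have hyZC : y ∉ Subgroup.centralizer ({x} : Set Q) ⊓
        Subgroup.centralizer ((Subgroup.centralizer ({x} : Set Q) : Subgroup Q) : Set Q) := by
      intro h
      have := (Subgroup.mem_centralizer_iff.mp h.2) v hvC
      exact hyv this.symm
    have hk : ∀ u ∈ (((Subgroup.centralizer ({x} : Set Q) ⊓
        Subgroup.centralizer ((Subgroup.centralizer ({x} : Set Q) : Subgroup Q) : Set Q) : Subgroup Q) : Set Q) ∪ {y}),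
        ∀ v ∈ (((Subgroup.centralizer ({x} : Set Q) ⊓
        Subgroup.centralizer ((Subgroup.centralizer ({x} : Set Q) : Subgroup Q) : Set Q) : Subgroup Q) : Set Q) ∪ {y}),
        u * v = v * u := by
      rintro u (hu | hu) v (hv | hv)
      · exact ((Subgroup.mem_centralizer_iff.mp hu.2) v hv.1).symm
      · rw [Set.mem_singleton_iff] at hv
        rw [hv]
        exact ((Subgroup.mem_centralizer_iff.mp hu.2) y hyC).symm
      · rw [Set.mem_singleton_iff] at hu
        rw [hu]
        exact (Subgroup.mem_centralizer_iff.mp hv.2) y hyC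
      · rw [Set.mem_singleton_iff] at hu hv
        rw [hu, hv]
    have hBab := Subgroup.isMulCommutative_closure hk
    have h1 : 2 * Nat.card ↥(Subgroup.center Q) ≤ Nat.card ↥(Subgroup.centralizer ({x} : Set Q) ⊓
        Subgroup.centralizer ((Subgroup.centralizer ({x} : Set Q) : Subgroup Q) : Set Q) : Subgroup Q) := by
      apply hlt
      · intro z hzc
        rw [Subgroup.mem_inf]
        refine ⟨(memC z).mpr (Subgroup.mem_center_iff.mp hzc x).symm, ?_⟩
        rw [Subgroup.mem_centralizer_iff]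
        intro h _
        exact Subgroup.mem_center_iff.mp hzc h
      · refine ⟨x, ?_, hx⟩
        rw [Subgroup.mem_inf]
        refine ⟨(memC x).mpr rfl, ?_⟩
        rw [Subgroup.mem_centralizer_iff]
        intro h hh
        exact (memC h).mp hh
    have h2 : 2 * Nat.card ↥(Subgroup.centralizer ({x} : Set Q) ⊓
        Subgroup.centralizer ((Subgroup.centralizer ({x} : Set Q) : Subgroup Q) : Set Q) : Subgroup Q) ≤
        Nat.card ↥(Subgroup.closure ((((Subgroup.centralizer ({x} : Set Q) ⊓
        Subgroup.centralizer ((Subgroup.centralizer ({x} : Set Q) : Subgroup Q) : Set Q) : Subgroup Q) : Set Q) ∪ {y}))) := by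
      apply hlt
      · intro z hzc
        exact Subgroup.subset_closure (Or.inl hzc)
      · exact ⟨y, Subgroup.subset_closure (Or.inr (Set.mem_singleton y)), hyZC⟩
    have hB8 : 8 ≤ Nat.card ↥(Subgroup.closure ((((Subgroup.centralizer ({x} : Set Q) ⊓
        Subgroup.centralizer ((Subgroup.centralizer ({x} : Set Q) : Subgroup Q) : Set Q) : Subgroup Q) : Set Q) ∪ {y}))) := by
      omega
    exact ⟨_, hBab, hB8, hncyc _ hB8⟩

variable {S : Type*} [Group S] [Finite S]

/-- E1, core: rows AB8 (`hAB8`) and F4 (`hF4`) as hypotheses. -/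
theorem E1_aux_core (P : Subgroup S) (hP : IsPGroup 2 ↥P) (hs : SpecialInt P) (hz : Nat.card ↥(Zc P) = 2)
    (h16 : 16 ≤ Nat.card ↥P)
    (hAB8 : ∀ B : Subgroup S, IsPGroup 2 ↥B → IsAb B → ¬ IsCyclic ↥B → 8 ≤ Nat.card ↥B → HasA B)
    (hF4 : ∀ x ∈ P, x * x ∈ Fr P) : HasA P := by
  have hcen : ∀ g : ↥P, g ∈ Subgroup.center ↥P ↔ (g : S) ∈ Zc P := by
    intro g
    rw [Subgroup.mem_center_iff, mem_Zc]
    constructor
    · intro h
      refine ⟨g.2, fun y hy => ?_⟩
      exact congrArg Subtype.val (h ⟨y, hy⟩)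
    · intro h y
      exact Subtype.ext (h.2 y.1 y.2)
  have hmap : (Subgroup.center ↥P).map P.subtype = Zc P := by
    ext s
    constructor
    · rintro ⟨g, hg, rfl⟩
      exact (hcen g).mp hg
    · intro hs'
      exact ⟨⟨s, Zc_le P hs'⟩, (hcen _).mpr hs', rfl⟩
  have hz' : Nat.card ↥(Subgroup.center ↥P) = 2 := by
    rw [← hz, ← hmap]
    exact (Subgroup.card_map_of_injective P.subtype_injective).symm
  have hsq : ∀ g : ↥P, g * g ∈ Subgroup.center ↥P := by
    intro g
    rw [hcen]
    have := hF4 g.1 g.2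
    rw [hs.1] at this
    exact this
  have hcomm : ∀ g h : ↥P, ⁅g, h⁆ ∈ Subgroup.center ↥P := by
    intro g h
    rw [hcen]
    have : ⁅(g : S), (h : S)⁆ ∈ Der P := Subgroup.commutator_mem_commutator g.2 h.2
    rw [hs.2] at this
    simpa [commutatorElement_def] using this
  obtain ⟨B, hBab, hB8, hBnc⟩ := E1_aux_type ↥P hz' hsq hcomm h16
  have hBP : B.map P.subtype ≤ P := by
    rintro _ ⟨g, _, rfl⟩
    exact g.2
  have hcard : Nat.card ↥(B.map P.subtype) = Nat.card ↥B :=
    Subgroup.card_map_of_injective P.subtype_injective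
  have hHasA : HasA (B.map P.subtype) := by
    apply hAB8
    · exact hP.to_le hBP
    · rintro _ ⟨g, hg, rfl⟩ _ ⟨h, hh, rfl⟩
      have := hBab.is_comm.comm ⟨g, hg⟩ ⟨h, hh⟩
      have h2 := congrArg (fun t : ↥B => ((t : ↥P) : S)) this
      simpa using h2
    · intro hcyc
      apply hBnc
      have e : ↥B ≃* ↥(B.map P.subtype) := B.equivMapOfInjective P.subtype P.subtype_injective
      exact isCyclic_of_surjective e.symm e.symm.surjective
    · rw [hcard]; exact hB8
  exact hHasA.mono hBP

end Cfsg.Agent.S4409P
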