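import Mathlib
import Cfsg.Agent.Helper11.S4409Defs
import Cfsg.Agent.Helper21.S4409E1core
import Cfsg.Agent.Helper9.S4409F
import Cfsg.Agent.Helper4.S4409AB8

/-! Board `s4409pieces`, row E1 (helper21): an extraspecial `2`-group of order `≥ 16` has `HasA`. -/

set_option autoImplicit false
set_option linter.unusedVariables false

namespace Cfsg.Agent.S4409P

open Subgroup
open scoped commutatorElement

variable {S : Type*} [Group S] [Finite S]

/-- E1 -/
theorem es_hasA (P : Subgroup S) (hP : IsPGroup 2 ↥P) (hs : SpecialInt P) (hz : Nat.card ↥(Zc P) = 2)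
    (h16 : 16 ≤ Nat.card ↥P) : HasA P :=
  E1_aux_core P hP hs hz h16 (fun B hB hc hnc h8 => hasA_of_abelian B hB hc hnc h8)
    (fun x hx => sq_mem_fr P hP hx)

end Cfsg.Agent.S4409P
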