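import Mathlib
import Cfsg.Prelude.Def_GeometricClasses
import Cfsg.Agent.Helper2.S5886.Defs

/-! # S5886, piece KTRANS2 (driver helper2): a `K`-transvection fixing `v` and moving `w` to `w + b v`. -/

set_option autoImplicit false

namespace Cfsg.Agent.S5886P

variable {F K V : Type*} [Field F] [Field K] [Algebra F K]
  [AddCommGroup V] [Module F V] [Module K V] [IsScalarTower F K V]

/-- the `F`-linear map `x ↦ x + ψ x • u`. -/
noncomputable def KTRANS2.tvMap (ψ : V →ₗ[K] K) (u : V) : V →ₗ[F] V :=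
  LinearMap.id + ((LinearMap.toSpanSingleton K V u).comp ψ).restrictScalars F

theorem KTRANS2.tvMap_apply (ψ : V →ₗ[K] K) (u : V) (x : V) :
    KTRANS2.tvMap (F := F) ψ u x = x + ψ x • u := by
  simp [KTRANS2.tvMap]

/-- the `K`-transvection `x ↦ x + ψ x • u` (`ψ u = 0`) as an `F`-linear equivalence. -/
noncomputable def KTRANS2.tvEquiv (ψ : V →ₗ[K] K) (u : V) (hu : ψ u = 0) : V ≃ₗ[F] V :=
  LinearEquiv.ofLinear (KTRANS2.tvMap (F := F) ψ u) (KTRANS2.tvMap (F := F) (-ψ) u)
    (by
      apply LinearMap.ext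
      intro x
      simp only [LinearMap.comp_apply, KTRANS2.tvMap_apply, LinearMap.id_apply, map_add, map_smul,
        LinearMap.neg_apply, hu, smul_eq_mul, mul_zero, add_zero, neg_zero]
      rw [add_assoc, ← add_smul]
      simp)
    (by
      apply LinearMap.ext
      intro x
      simp only [LinearMap.comp_apply, KTRANS2.tvMap_apply, LinearMap.id_apply, map_add, map_smul,
        LinearMap.neg_apply, hu, smul_eq_mul, mul_zero, add_zero, neg_zero]
      rw [add_assoc, ← add_smul]
      simp)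

theorem KTRANS2.tvEquiv_apply (ψ : V →ₗ[K] K) (u : V) (hu : ψ u = 0) (x : V) :
    KTRANS2.tvEquiv (F := F) ψ u hu x = x + ψ x • u := by
  simp [KTRANS2.tvEquiv, KTRANS2.tvMap_apply]

/-- KTRANS2 : a `K`-transvection fixing `v` and moving `w` to `w + b v`. -/
theorem KTRANS2 [Finite K] [Finite V] (v w : V) (hw : w ∉ Kline (F := F) (K := K) v) (b : F) :
    ∃ t : V ≃ₗ[F] V, IsKTv (K := K) t ∧ t v = v ∧ t w = w + b • v := by
  have hw' : w ∉ Submodule.span K {v} := hw
  obtain ⟨f, hf, hf'⟩ := Submodule.exists_dual_map_eq_bot_of_notMem hw' inferInstance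
  have hfv : f v = 0 := by
    have : f v ∈ (Submodule.span K {v}).map f := Submodule.mem_map_of_mem (Submodule.mem_span_singleton_self v)
    rw [hf'] at this
    simpa using this
  set ψ : V →ₗ[K] K := (algebraMap F K b * (f w)⁻¹) • f with hψ
  have hψv : ψ v = 0 := by simp [hψ, hfv]
  have hψw : ψ w = algebraMap F K b := by
    simp only [hψ, LinearMap.smul_apply, smul_eq_mul]
    rw [mul_assoc, inv_mul_cancel₀ hf, mul_one]
  refine ⟨KTRANS2.tvEquiv (F := F) ψ v hψv, ⟨ψ, v, hψv, fun x => KTRANS2.tvEquiv_apply ψ v hψv x⟩, ?_, ?_⟩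
  · rw [KTRANS2.tvEquiv_apply, hψv, zero_smul, add_zero]
  · rw [KTRANS2.tvEquiv_apply, hψw, algebraMap_smul]

end Cfsg.Agent.S5886P
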