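import Mathlib
import Cfsg.Prelude.Def_BaumannBlocks

/-! Board `blkpieces`, piece IRRALT: the even-weight submodule of `𝔽₂ⁿ`, `n = 2m+1`, has no proper nonzero additive
subgroup invariant under `Alt(n)`. -/

set_option autoImplicit false

namespace Cfsg.Agent.BLK

open Cfsg

/-- the standard basis vector -/
def IRRALT_e {n : ℕ} (a : Fin n) : Fin n → ZMod 2 := Pi.single a 1

theorem IRRALT_e_apply {n : ℕ} (a x : Fin n) : IRRALT_e a x = if x = a then 1 else 0 := by
  unfold IRRALT_e
  rw [Pi.single_apply]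

/-- the permutation action moves basis vectors -/
theorem IRRALT_act_e {n : ℕ} (σ : Equiv.Perm (Fin n)) (a : Fin n) :
    (fun x => IRRALT_e a (σ⁻¹ x)) = IRRALT_e (σ a) := by
  funext x
  rw [IRRALT_e_apply, IRRALT_e_apply]
  by_cases h : x = σ a
  · rw [if_pos h, if_pos]
    rw [h]
    exact σ.symm_apply_apply a
  · rw [if_neg h, if_neg]
    intro h'
    apply h
    rw [← h']
    exact (σ.apply_symm_apply x).symm

/-- values in `ZMod 2` -/
theorem IRRALT_zmod2 (c : ZMod 2) : c = 0 ∨ c = 1 := by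
  fin_cases c
  · left; rfl
  · right; rfl

theorem IRRALT_add_self (c : ZMod 2) : c + c = 0 := by
  rcases IRRALT_zmod2 c with h | h <;> rw [h] <;> decide

/-- a pair `e_a + e_b` can be moved to any other pair by an even permutation -/
theorem IRRALT_move {n : ℕ} (a b c d : Fin n) (hab : a ≠ b) (hcd : c ≠ d) :
    ∃ σ ∈ alternatingGroup (Fin n), (σ a = c ∧ σ b = d) ∨ (σ a = d ∧ σ b = c) := by
  classical
  set b₁ : Fin n := Equiv.swap a c b with hb₁
  have hb₁c : b₁ ≠ c := by
    intro h
    apply hab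
    have : Equiv.swap a c b = Equiv.swap a c a := by rw [← hb₁, h, Equiv.swap_apply_left]
    exact ((Equiv.swap a c).injective this).symm
  set τ : Equiv.Perm (Fin n) := Equiv.swap b₁ d * Equiv.swap a c with hτ
  have hτa : τ a = c := by
    rw [hτ, Equiv.Perm.mul_apply, Equiv.swap_apply_left]
    exact Equiv.swap_apply_of_ne_of_ne hb₁c.symm hcd
  have hτb : τ b = d := by
    rw [hτ, Equiv.Perm.mul_apply, ← hb₁, Equiv.swap_apply_left]
  rcases Int.units_eq_one_or (Equiv.Perm.sign τ) with h | h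
  · exact ⟨τ, Equiv.Perm.mem_alternatingGroup.2 h, Or.inl ⟨hτa, hτb⟩⟩
  · refine ⟨τ * Equiv.swap a b, ?_, Or.inr ⟨?_, ?_⟩⟩
    · rw [Equiv.Perm.mem_alternatingGroup, Equiv.Perm.sign_mul, h, Equiv.Perm.sign_swap hab]
      rfl
    · rw [Equiv.Perm.mul_apply, Equiv.swap_apply_left, hτb]
    · rw [Equiv.Perm.mul_apply, Equiv.swap_apply_right, hτa]

/-- every even-weight vector is a sum of vectors `e_x + e_o` -/
theorem IRRALT_span {n : ℕ} (o : Fin n) (N : AddSubgroup (Fin n → ZMod 2))
    (hpair : ∀ x : Fin n, IRRALT_e x + IRRALT_e o ∈ N)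
    (v : Fin n → ZMod 2) (hv : ∑ i, v i = 0) : v ∈ N := by
  have hrep : v = ∑ x, v x • (IRRALT_e x + IRRALT_e o) := by
    funext y
    rw [Finset.sum_apply]
    have h1 : ∀ x : Fin n, (v x • (IRRALT_e x + IRRALT_e o)) y
        = (if y = x then v x else 0) + v x * IRRALT_e o y := by
      intro x
      rw [Pi.smul_apply, Pi.add_apply, smul_eq_mul, mul_add, IRRALT_e_apply]
      congr 1
      split_ifs <;> simp
    rw [Finset.sum_congr rfl (fun x _ => h1 x), Finset.sum_add_distrib, ← Finset.sum_mul, hv, zero_mul,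
      add_zero, Finset.sum_ite_eq Finset.univ y v, if_pos (Finset.mem_univ y)]
  rw [hrep]
  apply AddSubgroup.sum_mem
  intro x _
  rcases IRRALT_zmod2 (v x) with h | h
  · rw [h, zero_smul]; exact N.zero_mem
  · rw [h, one_smul]; exact hpair x

/-- IRRALT: the even-weight submodule of `𝔽₂ⁿ`, `n = 2m+1`, has no proper nonzero additive subgroup invariant under
`Alt(n)`. -/
theorem IRRALT (m : ℕ) (N : AddSubgroup (Fin (2 * m + 1) → ZMod 2))
    (hev : ∀ v ∈ N, ∑ i, v i = 0)
    (hN : ∀ σ ∈ alternatingGroup (Fin (2 * m + 1)), ∀ v ∈ N, (fun i => v (σ⁻¹ i)) ∈ N) :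
    N = ⊥ ∨ ∀ v : Fin (2 * m + 1) → ZMod 2, ∑ i, v i = 0 → v ∈ N := by
  classical
  by_cases hbot : N = ⊥
  · exact Or.inl hbot
  right
  -- a nonzero vector of `N`
  obtain ⟨v, hvN, hv0⟩ : ∃ v ∈ N, v ≠ 0 := by
    by_contra hcon
    push Not at hcon
    apply hbot
    rw [eq_bot_iff]
    intro x hx
    rw [AddSubgroup.mem_bot]
    exact hcon x hx
  -- a coordinate equal to one
  obtain ⟨i, hi⟩ : ∃ i, v i = 1 := by
    by_contra hcon
    push Not at hcon
    apply hv0
    funext x
    rcases IRRALT_zmod2 (v x) with h | h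
    · exact h
    · exact absurd h (hcon x)
  -- a coordinate equal to zero
  obtain ⟨j, hj⟩ : ∃ j, v j = 0 := by
    by_contra hcon
    push Not at hcon
    have hall : ∀ x, v x = 1 := by
      intro x
      rcases IRRALT_zmod2 (v x) with h | h
      · exact absurd h (hcon x)
      · exact h
    have hsum := hev v hvN
    rw [Finset.sum_congr rfl (fun x _ => hall x), Finset.sum_const, Finset.card_univ, Fintype.card_fin,
      nsmul_eq_mul, mul_one] at hsum
    have h2 : ((2 * m + 1 : ℕ) : ZMod 2) = 1 := by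
      push_cast
      have : (2 : ZMod 2) = 0 := by decide
      rw [this, zero_mul, zero_add]
    rw [h2] at hsum
    exact one_ne_zero hsum
  have hij : i ≠ j := by
    intro h
    rw [h, hj] at hi
    exact zero_ne_one hi
  -- a third coordinate
  obtain ⟨k, hki, hkj⟩ : ∃ k : Fin (2 * m + 1), k ≠ i ∧ k ≠ j := by
    have hcard : 2 < Fintype.card (Fin (2 * m + 1)) := by
      rw [Fintype.card_fin]
      have hm : m ≠ 0 := by
        intro hm
        subst hm
        apply hij
        apply Fin.ext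
        have h1 := i.isLt
        have h2 := j.isLt
        omega
      omega
    have hlt : ({i, j} : Finset (Fin (2 * m + 1))).card < Fintype.card (Fin (2 * m + 1)) := by
      rw [Finset.card_pair hij]
      exact hcard
    obtain ⟨k, hk⟩ := Finset.exists_mem_notMem_of_card_lt_card (s := ({i, j} : Finset _)) (t := Finset.univ)
      (by rw [Finset.card_univ]; exact hlt)
    refine ⟨k, ?_, ?_⟩
    · intro h; apply hk.2; rw [h]; exact Finset.mem_insert_self _ _
    · intro h; apply hk.2; rw [h]; exact Finset.mem_insert_of_mem (Finset.mem_singleton_self _)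
  -- the three-cycle `ρ : i → j → k → i`
  set ρ : Equiv.Perm (Fin (2 * m + 1)) := Equiv.swap i j * Equiv.swap j k with hρ
  have hρi : ρ i = j := by
    rw [hρ, Equiv.Perm.mul_apply, Equiv.swap_apply_of_ne_of_ne hij hki.symm, Equiv.swap_apply_left]
  have hρj : ρ j = k := by
    rw [hρ, Equiv.Perm.mul_apply, Equiv.swap_apply_left, Equiv.swap_apply_of_ne_of_ne hki hkj]
  have hρk : ρ k = i := by
    rw [hρ, Equiv.Perm.mul_apply, Equiv.swap_apply_right, Equiv.swap_apply_right]
  have hρx : ∀ x, x ≠ i → x ≠ j → x ≠ k → ρ x = x := by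
    intro x hxi hxj hxk
    rw [hρ, Equiv.Perm.mul_apply, Equiv.swap_apply_of_ne_of_ne hxj hxk,
      Equiv.swap_apply_of_ne_of_ne hxi hxj]
  have hρalt : ρ⁻¹ ∈ alternatingGroup (Fin (2 * m + 1)) := by
    apply Subgroup.inv_mem
    rw [Equiv.Perm.mem_alternatingGroup, hρ, Equiv.Perm.sign_mul, Equiv.Perm.sign_swap hij,
      Equiv.Perm.sign_swap hkj.symm]
    rfl
  -- `w = v + ρ⁻¹·v`
  have hw : v + (fun x => v (ρ x)) ∈ N := by
    have h := hN ρ⁻¹ hρalt v hvN
    rw [inv_inv] at h
    exact N.add_mem hvN h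
  -- some pair `e_a + e_b` lies in `N`
  obtain ⟨a, b, hab, hpair⟩ : ∃ a b : Fin (2 * m + 1), a ≠ b ∧ IRRALT_e a + IRRALT_e b ∈ N := by
    rcases IRRALT_zmod2 (v k) with hk0 | hk1
    · refine ⟨i, k, hki.symm, ?_⟩
      have heq : v + (fun x => v (ρ x)) = IRRALT_e i + IRRALT_e k := by
        funext x
        rw [Pi.add_apply, Pi.add_apply, IRRALT_e_apply, IRRALT_e_apply]
        by_cases hxi : x = i
        · rw [hxi, hρi, hi, hj, if_pos rfl, if_neg hki.symm]
        by_cases hxj : x = j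
        · rw [hxj, hρj, hj, hk0, if_neg hij.symm, if_neg hkj.symm]
        by_cases hxk : x = k
        · rw [hxk, hρk, hk0, hi, if_neg hki, if_pos rfl]
        · rw [hρx x hxi hxj hxk, if_neg hxi, if_neg hxk, IRRALT_add_self]
          rfl
      rw [← heq]; exact hw
    · refine ⟨i, j, hij, ?_⟩
      have heq : v + (fun x => v (ρ x)) = IRRALT_e i + IRRALT_e j := by
        funext x
        rw [Pi.add_apply, Pi.add_apply, IRRALT_e_apply, IRRALT_e_apply]
        by_cases hxi : x = i
        · rw [hxi, hρi, hi, hj, if_pos rfl, if_neg hij]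
        by_cases hxj : x = j
        · rw [hxj, hρj, hj, hk1, if_neg hij.symm, if_pos rfl]
        by_cases hxk : x = k
        · rw [hxk, hρk, hk1, hi, if_neg hki, if_neg hkj]
          decide
        · rw [hρx x hxi hxj hxk, if_neg hxi, if_neg hxj, IRRALT_add_self]
          rfl
      rw [← heq]; exact hw
  -- all pairs lie in `N`
  have hall : ∀ c d : Fin (2 * m + 1), c ≠ d → IRRALT_e c + IRRALT_e d ∈ N := by
    intro c d hcd
    obtain ⟨σ, hσ, h⟩ := IRRALT_move a b c d hab hcd
    have h1 := hN σ hσ _ hpair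
    have h2 : (fun x => (IRRALT_e a + IRRALT_e b) (σ⁻¹ x)) = IRRALT_e (σ a) + IRRALT_e (σ b) := by
      rw [← IRRALT_act_e σ a, ← IRRALT_act_e σ b]
      rfl
    rw [h2] at h1
    rcases h with ⟨ha, hb⟩ | ⟨ha, hb⟩
    · rwa [ha, hb] at h1
    · rw [ha, hb] at h1
      rw [add_comm (IRRALT_e c) (IRRALT_e d)]
      exact h1
  intro u hu
  apply IRRALT_span i N _ u hu
  intro x
  by_cases hx : x = i
  · rw [hx]
    have : IRRALT_e i + IRRALT_e i = (0 : Fin (2 * m + 1) → ZMod 2) := by
      funext y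
      rw [Pi.add_apply, IRRALT_add_self]
      rfl
    rw [this]
    exact N.zero_mem
  · exact hall x i hx

end Cfsg.Agent.BLK
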