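import Cfsg.Agent.Helper21.JO3

/-!
# An invariant symmetric form for a Jordan block of odd size, odd characteristic (helper21)
-/

set_option autoImplicit false
set_option linter.unusedSectionVars false

namespace Cfsg.Agent.Helper21.JO

open Matrix Cfsg.Agent.Helper21.JS Cfsg.Agent.Helper21.JC

variable {F : Type*} [Field F] (j : ℕ)

/-- the signed flip -/
def symB (F : Type*) [Field F] (j : ℕ) : Matrix (Fin j) (Fin j) F :=
  Matrix.of fun a b => if (a : ℕ) + (b : ℕ) + 1 = j then (-1) ^ (a : ℕ) else 0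

theorem symB_apply (a b : Fin j) :
    symB F j a b = if (a : ℕ) + (b : ℕ) + 1 = j then (-1) ^ (a : ℕ) else 0 := rfl

theorem neg_one_pow_eq_of_add_even {a b : ℕ} (h : Even (a + b)) : ((-1 : F)) ^ a = (-1) ^ b := by
  have h1 : ((-1 : F)) ^ a * (-1) ^ b = 1 := by
    rw [← pow_add]
    exact h.neg_one_pow
  have h2 : ((-1 : F)) ^ b * (-1) ^ b = 1 := by
    rw [← pow_add]
    exact (Even.add_self b).neg_one_pow
  have h3 : ((-1 : F)) ^ b ≠ 0 := pow_ne_zero _ (neg_ne_zero.2 one_ne_zero)
  exact mul_right_cancel₀ h3 (h1.trans h2.symm)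

theorem symB_transpose (hj : Odd j) : (symB F j)ᵀ = symB F j := by
  ext a b
  rw [Matrix.transpose_apply, symB_apply, symB_apply]
  by_cases h : (a : ℕ) + (b : ℕ) + 1 = j
  · rw [if_pos h, if_pos (by omega)]
    apply neg_one_pow_eq_of_add_even
    obtain ⟨c, hc⟩ := hj
    exact ⟨c, by omega⟩
  · rw [if_neg h, if_neg (by omega)]

theorem symB_mul_self (hj : Odd j) : symB F j * symB F j = 1 := by
  ext a b
  rw [Matrix.mul_apply, Matrix.one_apply]
  have ha := a.2
  rw [Finset.sum_eq_single (⟨j - 1 - (a : ℕ), by omega⟩ : Fin j)]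
  · rw [symB_apply, symB_apply, if_pos (by simp only; omega)]
    by_cases hab : a = b
    · subst hab
      rw [if_pos rfl, if_pos (by simp only; omega), ← pow_add]
      apply Even.neg_one_pow
      obtain ⟨c, hc⟩ := hj
      exact ⟨c, by simp only; omega⟩
    · have : (a : ℕ) ≠ (b : ℕ) := fun h => hab (Fin.ext h)
      rw [if_neg hab, if_neg (by simp only; omega), mul_zero]
  · intro c _ hc
    rw [symB_apply, if_neg, zero_mul]
    intro h
    apply hc
    apply Fin.ext
    simp only
    omega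
  · intro h
    exact absurd (Finset.mem_univ _) h

theorem shW_symB : (shW F j)ᵀ * symB F j = -(symB F j * shW F j) := by
  ext a b
  rw [Matrix.neg_apply, Matrix.mul_apply, Matrix.mul_apply]
  have ha := a.2
  have hb := b.2
  by_cases h : (a : ℕ) + (b : ℕ) + 2 = j
  · rw [Finset.sum_eq_single (⟨(a : ℕ) + 1, by omega⟩ : Fin j),
      Finset.sum_eq_single (⟨(b : ℕ) + 1, by omega⟩ : Fin j)]
    · rw [Matrix.transpose_apply, shW_apply, shW_apply, symB_apply, symB_apply]
      rw [if_pos rfl, if_pos (by simp only; omega), if_pos (by simp only; omega), if_pos rfl]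
      simp only
      rw [pow_succ]
      ring
    · intro c _ hc
      rw [shW_apply, if_neg, mul_zero]
      intro h'
      exact hc (Fin.ext h')
    · intro h'
      exact absurd (Finset.mem_univ _) h'
    · intro c _ hc
      rw [Matrix.transpose_apply, shW_apply, if_neg, zero_mul]
      intro h'
      exact hc (Fin.ext h')
    · intro h'
      exact absurd (Finset.mem_univ _) h'
  · rw [Finset.sum_eq_zero, Finset.sum_eq_zero, neg_zero]
    · intro c _
      rw [shW_apply, symB_apply]
      by_cases h1 : (c : ℕ) = (b : ℕ) + 1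
      · rw [if_neg (by omega), zero_mul]
      · rw [if_neg h1, mul_zero]
    · intro c _
      rw [Matrix.transpose_apply, shW_apply, symB_apply]
      by_cases h1 : (c : ℕ) = (a : ℕ) + 1
      · rw [if_pos h1, if_neg (by omega), mul_zero]
      · rw [if_neg h1, zero_mul]

/-- a Jordan block of odd size preserves a nondegenerate symmetric form (odd characteristic) -/
theorem goodS_jordanBlock_odd (h2 : (2 : F) ≠ 0) (hj : Odd j) :
    GoodS (Cfsg.jordanBlock j F) := by
  have hj0 : 0 < j := hj.pos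
  obtain ⟨W, hW⟩ : ∃ W : Matrix (Fin j) (Fin j) F, W = shW F j := ⟨_, rfl⟩
  obtain ⟨B, hB⟩ : ∃ B : Matrix (Fin j) (Fin j) F, B = symB F j := ⟨_, rfl⟩
  have hWB : Wᵀ * B = -(B * W) := by rw [hW, hB, shW_symB]
  have hBs : Bᵀ = B := by rw [hB, symB_transpose j hj]
  have hBu : IsUnit B := by
    rw [hB]
    exact ⟨⟨symB F j, symB F j, symB_mul_self j hj, symB_mul_self j hj⟩, rfl⟩
  have hWpow : W ^ j = 0 := by rw [hW, shW]; exact jordanBlock_nil j
  have hWrank : W.rank + 1 = j := by rw [hW, shW]; exact jordanBlock_rank j hj0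
  have hnil : IsNilpotent W := ⟨j, hWpow⟩
  obtain ⟨⟨P, V, hPV, hVP⟩, hP⟩ := hnil.isUnit_one_sub
  simp only at hP
  rw [hP] at hPV hVP
  have hcV : W * V = V * W := by
    have hcc : W * (1 - W) = (1 - W) * W := by noncomm_ring
    calc W * V = (V * (1 - W)) * (W * V) := by rw [hVP, Matrix.one_mul]
      _ = V * ((1 - W) * W) * V := by simp only [Matrix.mul_assoc]
      _ = V * (W * (1 - W)) * V := by rw [hcc]
      _ = V * W * ((1 - W) * V) := by simp only [Matrix.mul_assoc]
      _ = V * W := by rw [hPV, Matrix.mul_one]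
  have e1 : (1 + W)ᵀ * B = B * (1 - W) := by
    rw [Matrix.transpose_add, Matrix.transpose_one, Matrix.add_mul, Matrix.one_mul, hWB,
      Matrix.mul_sub, Matrix.mul_one]
    abel
  have e2 : (1 - W)ᵀ * B = B * (1 + W) := by
    rw [Matrix.transpose_sub, Matrix.transpose_one, Matrix.sub_mul, Matrix.one_mul, hWB,
      Matrix.mul_add, Matrix.mul_one]
    abel
  have e3 : Vᵀ * B * (1 + W) = B := by
    rw [Matrix.mul_assoc, ← e2, ← Matrix.mul_assoc, ← Matrix.transpose_mul, hPV,
      Matrix.transpose_one, Matrix.one_mul]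
  have hU : GoodS ((1 + W) * V) := by
    refine ⟨B, hBu, hBs, ?_⟩
    calc ((1 + W) * V)ᵀ * B * ((1 + W) * V)
        = Vᵀ * ((1 + W)ᵀ * B) * (1 + W) * V := by
          rw [Matrix.transpose_mul]
          simp only [Matrix.mul_assoc]
      _ = Vᵀ * B * ((1 - W) * (1 + W)) * V := by
          rw [e1]
          simp only [Matrix.mul_assoc]
      _ = Vᵀ * B * ((1 + W) * (1 - W)) * V := by
          rw [show (1 - W) * (1 + W) = (1 + W) * (1 - W) by noncomm_ring]
      _ = (Vᵀ * B * (1 + W)) * ((1 - W) * V) := by simp only [Matrix.mul_assoc]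
      _ = B := by rw [e3, hPV, Matrix.mul_one]
  have hU1 : (1 + W) * V - 1 = W * (2 * V) := by
    calc (1 + W) * V - 1 = (1 + W) * V - (1 - W) * V := by rw [hPV]
      _ = W * (2 * V) := by noncomm_ring
  have hunit2 : IsUnit (2 : Matrix (Fin j) (Fin j) F) := by
    have := (IsUnit.mk0 (2 : F) h2).map (algebraMap F (Matrix (Fin j) (Fin j) F))
    rwa [map_ofNat] at this
  have hVunit : IsUnit V := ⟨⟨V, 1 - W, hVP, hPV⟩, rfl⟩
  have hnil' : ((1 + W) * V - 1) ^ j = 0 := by
    have hcomm : Commute W (2 * V) := (Commute.ofNat_right W 2).mul_right hcV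
    rw [hU1, hcomm.mul_pow, hWpow, Matrix.zero_mul]
  have hreg' : ((1 + W) * V - 1).rank + 1 = j := by
    rw [hU1, Matrix.rank_mul_eq_left_of_isUnit_det (2 * V) W
      ((Matrix.isUnit_iff_isUnit_det _).mp (hunit2.mul hVunit)), hWrank]
  obtain ⟨h, h', hh', h'h, hconj⟩ := exists_conj_of_reg j hj0 (Fintype.card_fin j)
    ((1 + W) * V) (Cfsg.jordanBlock j F) hnil' hreg' (jordanBlock_nil j) (jordanBlock_rank j hj0)
  rw [hconj]
  exact hU.conj hh' h'h

end Cfsg.Agent.Helper21.JO
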