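import Cfsg.Agent.Helper21.NS3
import Cfsg.Agent.Helper21.JO4

/-!
# Unitary regular unipotent matrices (helper21)

For every `j ≥ 1` there is a regular unipotent `j × j` matrix preserving the standard
Hermitian form: Cayley transform of the nilpotent shift with respect to the signed flip form,
followed by a change of basis to the standard form (`exists_norm_commuting`).
-/

set_option autoImplicit false
set_option linter.unusedSectionVars false

namespace Cfsg.Agent.Helper21.UJ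

open Matrix Cfsg.Agent.Helper21.JS Cfsg.Agent.Helper21.JO Cfsg.Agent.Helper21.NS

variable {K : Type*} [Field K] (σ : K →+* K)

section general

variable {n : Type*} [Fintype n] [DecidableEq n]

theorem cstar_smul (a : K) (M : Matrix n n K) : cstar σ (a • M) = σ a • cstar σ M := by
  ext i k
  simp only [cstar, Matrix.transpose_apply, Matrix.map_apply, Matrix.smul_apply, smul_eq_mul,
    map_mul]

theorem cstar_sub (M N : Matrix n n K) : cstar σ (M - N) = cstar σ M - cstar σ N := by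
  rw [sub_eq_add_neg, cstar_add, cstar_neg, ← sub_eq_add_neg]

/-- unitarity in terms of `cstar` -/
theorem unitary_iff_cstar (M : Matrix n n K) : Mᵀ * M.map σ = 1 ↔ cstar σ M * M = 1 := by
  constructor
  · intro h
    have := congrArg Matrix.transpose h
    rw [Matrix.transpose_mul, Matrix.transpose_transpose, Matrix.transpose_one] at this
    exact this
  · intro h
    have := congrArg Matrix.transpose h
    rw [Matrix.transpose_mul, Matrix.transpose_one] at this
    rw [cstar, Matrix.transpose_transpose] at this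
    exact this

theorem conj_pow {c cinv : Matrix n n K} (h : cinv * c = 1) (M : Matrix n n K) (k : ℕ) :
    (c * M * cinv) ^ k = c * M ^ k * cinv ∨ k = 0 := by
  induction k with
  | zero => right; rfl
  | succ k ih =>
    left
    rcases ih with ih | rfl
    · rw [pow_succ, ih, pow_succ]
      calc c * M ^ k * cinv * (c * M * cinv) = c * M ^ k * (cinv * c) * M * cinv := by
            simp only [Matrix.mul_assoc]
        _ = c * (M ^ k * M) * cinv := by rw [h, Matrix.mul_one]; simp only [Matrix.mul_assoc]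
    · simp

/-- a matrix preserving a nondegenerate Hermitian form is conjugate to a unitary matrix -/
theorem exists_unitary_conj_of_form [Finite K] (hσ2 : ∀ a, σ (σ a) = a) (ξ0 : K)
    (hξ0 : σ ξ0 ≠ ξ0) (U H Hinv : Matrix n n K) (hH1 : H * Hinv = 1) (hH2 : Hinv * H = 1)
    (hHs : cstar σ H = H) (hinv : cstar σ U * H * U = H) :
    ∃ c cinv : Matrix n n K, c * cinv = 1 ∧ cinv * c = 1 ∧
      cstar σ (c * U * cinv) * (c * U * cinv) = 1 := by
  obtain ⟨c, hc, -⟩ := exists_norm_commuting σ hσ2 ξ0 hξ0 H Hinv hH1 hH2 hHs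
  have hc1 : (Hinv * cstar σ c) * c = 1 := by rw [Matrix.mul_assoc, hc, hH2]
  have hc2 : c * (Hinv * cstar σ c) = 1 := mul_eq_one_comm.1 hc1
  refine ⟨c, Hinv * cstar σ c, hc2, hc1, ?_⟩
  obtain ⟨d, hd⟩ : ∃ d : Matrix n n K, d = Hinv * cstar σ c := ⟨_, rfl⟩
  rw [← hd] at hc1 hc2 ⊢
  have h3 : cstar σ d * cstar σ c = 1 := by rw [← cstar_mul, hc2, cstar_one]
  calc cstar σ (c * U * d) * (c * U * d)
      = cstar σ d * (cstar σ U * (cstar σ c * c) * U) * d := by
        rw [cstar_mul, cstar_mul]; simp only [Matrix.mul_assoc]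
    _ = cstar σ d * (cstar σ c * c) * d := by rw [hc, hinv]
    _ = (cstar σ d * cstar σ c) * (c * d) := by simp only [Matrix.mul_assoc]
    _ = 1 := by rw [h3, hc2, Matrix.one_mul]

end general

section block

variable (j : ℕ)

theorem symB_mul_transpose : symB K j * (symB K j)ᵀ = 1 := by
  ext a b
  rw [Matrix.mul_apply, Matrix.one_apply]
  have ha := a.2
  rw [Finset.sum_eq_single (⟨j - 1 - (a : ℕ), by omega⟩ : Fin j)]
  · rw [Matrix.transpose_apply, symB_apply, symB_apply, if_pos (by simp only; omega)]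
    by_cases hab : a = b
    · subst hab
      rw [if_pos rfl, if_pos (by simp only; omega), ← pow_add]
      exact (Even.add_self _).neg_one_pow
    · have : (a : ℕ) ≠ (b : ℕ) := fun h => hab (Fin.ext h)
      rw [if_neg hab, if_neg (by simp only; omega), mul_zero]
  · intro c _ hc
    rw [symB_apply, if_neg, zero_mul]
    intro h
    apply hc
    apply Fin.ext
    simp only
    omega
  · intro h
    exact absurd (Finset.mem_univ _) h

theorem symB_transpose_gen : (symB K j)ᵀ = ((-1 : K) ^ (j + 1)) • symB K j := by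
  ext a b
  rw [Matrix.transpose_apply, Matrix.smul_apply, symB_apply, symB_apply, smul_eq_mul]
  by_cases h : (a : ℕ) + (b : ℕ) + 1 = j
  · rw [if_pos h, if_pos (by omega), ← pow_add]
    apply neg_one_pow_eq_of_add_even
    exact ⟨(a : ℕ) + (b : ℕ) + 1, by omega⟩
  · rw [if_neg h, if_neg (by omega), mul_zero]

theorem symB_map : (symB K j).map σ = symB K j := by
  ext a b
  rw [Matrix.map_apply, symB_apply]
  split_ifs
  · rw [map_pow, map_neg, map_one]
  · rw [map_zero]

theorem shW_map : (shW K j).map σ = shW K j := by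
  ext a b
  rw [Matrix.map_apply, shW_apply]
  split_ifs
  · rw [map_one]
  · rw [map_zero]

theorem exists_theta (hσ2 : ∀ a, σ (σ a) = a) (ξ0 : K) (hξ0 : σ ξ0 ≠ ξ0) :
    ∃ θ : K, θ ≠ 0 ∧ σ θ = (-1) ^ (j + 1) * θ := by
  rcases Nat.even_or_odd j with hj | hj
  · refine ⟨ξ0 - σ ξ0, fun h => hξ0 (sub_eq_zero.1 h).symm, ?_⟩
    rw [(hj.add_one).neg_one_pow, map_sub, hσ2]
    ring
  · refine ⟨1, one_ne_zero, ?_⟩
    rw [(hj.add_one).neg_one_pow, map_one, one_mul]

theorem exists_mu (hσ2 : ∀ a, σ (σ a) = a) (ξ0 : K) (hξ0 : σ ξ0 ≠ ξ0) :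
    ∃ μ : K, μ + σ μ = 1 := by
  have hne : ξ0 - σ ξ0 ≠ 0 := fun h => hξ0 (sub_eq_zero.1 h).symm
  refine ⟨ξ0 / (ξ0 - σ ξ0), ?_⟩
  have hne' : σ ξ0 - ξ0 ≠ 0 := fun h => hξ0 (sub_eq_zero.1 h)
  rw [map_div₀, map_sub, hσ2]
  field_simp
  ring

/-- the Cayley transform of the shift preserves the (skew-)Hermitian flip form -/
theorem exists_form_block [Finite K] (hσ2 : ∀ a, σ (σ a) = a) (ξ0 : K) (hξ0 : σ ξ0 ≠ ξ0)
    (hj : 0 < j) :
    ∃ U H Hinv : Matrix (Fin j) (Fin j) K, H * Hinv = 1 ∧ Hinv * H = 1 ∧ cstar σ H = H ∧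
      cstar σ U * H * U = H ∧ (U - 1) ^ j = 0 ∧ (U - 1).rank + 1 = j := by
  obtain ⟨θ, hθ0, hθ⟩ := exists_theta σ j hσ2 ξ0 hξ0
  obtain ⟨μ, hμ⟩ := exists_mu σ hσ2 ξ0 hξ0
  obtain ⟨W, hW⟩ : ∃ W : Matrix (Fin j) (Fin j) K, W = shW K j := ⟨_, rfl⟩
  obtain ⟨S, hS⟩ : ∃ S : Matrix (Fin j) (Fin j) K, S = symB K j := ⟨_, rfl⟩
  have hWS : Wᵀ * S = -(S * W) := by rw [hW, hS, shW_symB]
  have hSS : S * Sᵀ = 1 := by rw [hS, symB_mul_transpose]
  have hSt : Sᵀ = ((-1 : K) ^ (j + 1)) • S := by rw [hS, symB_transpose_gen]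
  have hScs : cstar σ S = Sᵀ := by rw [cstar, hS, symB_map]
  have hWcs : cstar σ W = Wᵀ := by rw [cstar, hW, shW_map]
  have hWpow : W ^ j = 0 := by rw [hW, shW]; exact jordanBlock_nil j
  have hWrank : W.rank + 1 = j := by rw [hW, shW]; exact jordanBlock_rank j hj
  have hsq : ((-1 : K) ^ (j + 1)) * ((-1 : K) ^ (j + 1)) = 1 := by
    rw [← pow_add]
    exact (Even.add_self _).neg_one_pow
  obtain ⟨H, hH⟩ : ∃ H : Matrix (Fin j) (Fin j) K, H = θ • S := ⟨_, rfl⟩
  have hH1 : H * (θ⁻¹ • Sᵀ) = 1 := by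
    rw [hH, Matrix.smul_mul, Matrix.mul_smul, hSS, smul_smul, mul_inv_cancel₀ hθ0, one_smul]
  have hH2 : (θ⁻¹ • Sᵀ) * H = 1 := mul_eq_one_comm.1 hH1
  have hHs : cstar σ H = H := by
    rw [hH, cstar_smul, hScs, hSt, hθ, smul_smul]
    congr 1
    calc (-1 : K) ^ (j + 1) * θ * (-1) ^ (j + 1)
        = ((-1 : K) ^ (j + 1) * (-1) ^ (j + 1)) * θ := by ring
      _ = θ := by rw [hsq, one_mul]
  -- the Cayley transform
  have hnil : IsNilpotent (σ μ • W) := by
    refine ⟨j, ?_⟩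
    rw [smul_pow, hWpow, smul_zero]
  obtain ⟨⟨P, V, hPV, hVP⟩, hP⟩ := hnil.isUnit_one_sub
  simp only at hP
  rw [hP] at hPV hVP
  have hcV : W * V = V * W := by
    have hcc : W * (1 - σ μ • W) = (1 - σ μ • W) * W := by
      rw [Matrix.mul_sub, Matrix.sub_mul, Matrix.mul_one, Matrix.one_mul, Matrix.mul_smul,
        Matrix.smul_mul]
    calc W * V = (V * (1 - σ μ • W)) * (W * V) := by rw [hVP, Matrix.one_mul]
      _ = V * ((1 - σ μ • W) * W) * V := by simp only [Matrix.mul_assoc]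
      _ = V * (W * (1 - σ μ • W)) * V := by rw [hcc]
      _ = V * W * ((1 - σ μ • W) * V) := by simp only [Matrix.mul_assoc]
      _ = V * W := by rw [hPV, Matrix.mul_one]
  have e1 : cstar σ (1 + μ • W) * H = H * (1 - σ μ • W) := by
    rw [cstar_add, cstar_one, cstar_smul, hWcs, hH, Matrix.add_mul, Matrix.one_mul,
      Matrix.smul_mul, Matrix.mul_smul, hWS, Matrix.mul_sub, Matrix.mul_one, Matrix.mul_smul,
      Matrix.smul_mul]
    module
  have e2 : cstar σ (1 - σ μ • W) * H = H * (1 + μ • W) := by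
    rw [cstar_sub, cstar_one, cstar_smul, hσ2, hWcs, hH, Matrix.sub_mul, Matrix.one_mul,
      Matrix.smul_mul, Matrix.mul_smul, hWS, Matrix.mul_add, Matrix.mul_one, Matrix.mul_smul,
      Matrix.smul_mul]
    module
  have e3 : cstar σ V * H * (1 + μ • W) = H := by
    rw [Matrix.mul_assoc, ← e2, ← Matrix.mul_assoc, ← cstar_mul, hPV, cstar_one, Matrix.one_mul]
  have hcomm2 : (1 - σ μ • W) * (1 + μ • W) = (1 + μ • W) * (1 - σ μ • W) := by
    simp only [Matrix.mul_sub, Matrix.sub_mul, Matrix.mul_add, Matrix.add_mul, Matrix.mul_one,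
      Matrix.one_mul, Matrix.mul_smul, Matrix.smul_mul]
    module
  have hU : cstar σ ((1 + μ • W) * V) * H * ((1 + μ • W) * V) = H := by
    calc cstar σ ((1 + μ • W) * V) * H * ((1 + μ • W) * V)
        = cstar σ V * (cstar σ (1 + μ • W) * H) * (1 + μ • W) * V := by
          rw [cstar_mul]
          simp only [Matrix.mul_assoc]
      _ = cstar σ V * H * ((1 - σ μ • W) * (1 + μ • W)) * V := by
          rw [e1]
          simp only [Matrix.mul_assoc]
      _ = cstar σ V * H * ((1 + μ • W) * (1 - σ μ • W)) * V := by rw [hcomm2]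
      _ = (cstar σ V * H * (1 + μ • W)) * ((1 - σ μ • W) * V) := by
          simp only [Matrix.mul_assoc]
      _ = H := by rw [e3, hPV, Matrix.mul_one]
  have hU1 : (1 + μ • W) * V - 1 = W * V := by
    calc (1 + μ • W) * V - 1 = (1 + μ • W) * V - (1 - σ μ • W) * V := by rw [hPV]
      _ = ((μ + σ μ) • W) * V := by
          rw [← Matrix.sub_mul]
          congr 1
          module
      _ = W * V := by rw [hμ, one_smul]
  have hVunit : IsUnit V := ⟨⟨V, 1 - σ μ • W, hVP, hPV⟩, rfl⟩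
  refine ⟨(1 + μ • W) * V, H, θ⁻¹ • Sᵀ, hH1, hH2, hHs, hU, ?_, ?_⟩
  · have hcomm : Commute W V := hcV
    rw [hU1, hcomm.mul_pow, hWpow, Matrix.zero_mul]
  · rw [hU1, Matrix.rank_mul_eq_left_of_isUnit_det V W
      ((Matrix.isUnit_iff_isUnit_det _).mp hVunit), hWrank]

/-- a regular unipotent unitary matrix of every size -/
theorem exists_unitary_block [Finite K] (hσ2 : ∀ a, σ (σ a) = a) (ξ0 : K) (hξ0 : σ ξ0 ≠ ξ0)
    (hj : 0 < j) :
    ∃ x : Matrix (Fin j) (Fin j) K, xᵀ * x.map σ = 1 ∧ (x - 1) ^ j = 0 ∧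
      (x - 1).rank + 1 = j := by
  obtain ⟨U, H, Hinv, hH1, hH2, hHs, hU, hnil, hrank⟩ := exists_form_block σ j hσ2 ξ0 hξ0 hj
  obtain ⟨c, cinv, hc1, hc2, hx⟩ :=
    exists_unitary_conj_of_form σ hσ2 ξ0 hξ0 U H Hinv hH1 hH2 hHs hU
  have hx1 : c * U * cinv - 1 = c * (U - 1) * cinv := by
    rw [Matrix.mul_sub, Matrix.sub_mul, Matrix.mul_one, hc1]
  have hcu : IsUnit c := ⟨⟨c, cinv, hc1, hc2⟩, rfl⟩
  have hcinvu : IsUnit cinv := ⟨⟨cinv, c, hc2, hc1⟩, rfl⟩
  refine ⟨c * U * cinv, (unitary_iff_cstar σ _).2 hx, ?_, ?_⟩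
  · rw [hx1]
    rcases conj_pow hc2 (U - 1) j with h | h
    · rw [h, hnil, Matrix.mul_zero, Matrix.zero_mul]
    · omega
  · rw [hx1, Matrix.rank_mul_eq_left_of_isUnit_det cinv _
      ((Matrix.isUnit_iff_isUnit_det _).mp hcinvu),
      Matrix.rank_mul_eq_right_of_isUnit_det c _ ((Matrix.isUnit_iff_isUnit_det _).mp hcu)]
    exact hrank

end block

end Cfsg.Agent.Helper21.UJ
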