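import Cfsg.Agent.Helper21.NS1

/-!
# Hermitian units are norms inside their double centraliser (helper21)
-/

set_option autoImplicit false
set_option linter.unusedSectionVars false

namespace Cfsg.Agent.Helper21.NS

open Matrix

variable {K : Type*} [Field K] {n : Type*} [Fintype n] [DecidableEq n] (σ : K →+* K)

/-- conjugate transpose -/
def cstar (M : Matrix n n K) : Matrix n n K := (M.map σ)ᵀ

theorem cstar_mul (M N : Matrix n n K) : cstar σ (M * N) = cstar σ N * cstar σ M := by
  rw [cstar, Matrix.map_mul, Matrix.transpose_mul]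
  rfl

theorem cstar_add (M N : Matrix n n K) : cstar σ (M + N) = cstar σ M + cstar σ N := by
  rw [cstar, Matrix.map_add σ (map_add σ), Matrix.transpose_add]
  rfl

theorem cstar_zero : cstar σ (0 : Matrix n n K) = 0 := by
  rw [cstar, Matrix.map_zero σ (map_zero σ), Matrix.transpose_zero]

theorem cstar_one : cstar σ (1 : Matrix n n K) = 1 := by
  rw [cstar, Matrix.map_one σ (map_zero σ) (map_one σ), Matrix.transpose_one]

theorem cstar_neg (M : Matrix n n K) : cstar σ (-M) = -cstar σ M := by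
  ext i j
  simp [cstar]

theorem cstar_smul_one (a : K) : cstar σ (a • (1 : Matrix n n K)) = σ a • (1 : Matrix n n K) := by
  ext i j
  simp only [cstar, Matrix.transpose_apply, Matrix.map_apply, Matrix.smul_apply, Matrix.one_apply,
    smul_eq_mul]
  by_cases h : i = j
  · subst h
    simp
  · have h' : ¬ j = i := fun hh => h hh.symm
    simp [h, h']

theorem cstar_cstar (hσ2 : ∀ a, σ (σ a) = a) (M : Matrix n n K) : cstar σ (cstar σ M) = M := by
  ext i j
  simp [cstar, hσ2]

/-- the double centraliser of `H` -/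
def dcRing (H : Matrix n n K) : Subring (Matrix n n K) :=
  Subring.centralizer (Subring.centralizer ({H} : Set (Matrix n n K)) : Set (Matrix n n K))

theorem mem_dcRing_iff (H x : Matrix n n K) :
    x ∈ dcRing H ↔ ∀ y : Matrix n n K, H * y = y * H → y * x = x * y := by
  rw [dcRing, Subring.mem_centralizer_iff]
  constructor
  · intro h y hy
    apply h
    rw [SetLike.mem_coe, Subring.mem_centralizer_iff]
    intro g hg
    rw [Set.mem_singleton_iff] at hg
    rw [hg]
    exact hy
  · intro h y hy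
    apply h
    rw [SetLike.mem_coe, Subring.mem_centralizer_iff] at hy
    exact hy H rfl

theorem self_mem_dcRing (H : Matrix n n K) : H ∈ dcRing H := by
  rw [mem_dcRing_iff]
  intro y hy
  exact hy.symm

theorem smul_one_mem_dcRing (H : Matrix n n K) (a : K) : a • (1 : Matrix n n K) ∈ dcRing H := by
  rw [mem_dcRing_iff]
  intro y _
  rw [Matrix.mul_smul, Matrix.smul_mul, Matrix.mul_one, Matrix.one_mul]

theorem comm_of_mem_dcRing {H x : Matrix n n K} (hx : x ∈ dcRing H) : H * x = x * H := by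
  rw [mem_dcRing_iff] at hx
  exact hx H rfl

theorem mul_comm_of_mem_dcRing {H x y : Matrix n n K} (hx : x ∈ dcRing H) (hy : y ∈ dcRing H) :
    x * y = y * x := by
  rw [mem_dcRing_iff] at hy
  exact hy x (comm_of_mem_dcRing hx)

/-- the double centraliser as a commutative ring -/
@[reducible] def dcComm (H : Matrix n n K) : CommRing ↥(dcRing H) :=
  { (inferInstance : Ring ↥(dcRing H)) with
    mul_comm := fun a b => Subtype.ext (mul_comm_of_mem_dcRing a.2 b.2) }

theorem cstar_mem_dcRing (hσ2 : ∀ a, σ (σ a) = a) {H x : Matrix n n K} (hH : cstar σ H = H)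
    (hx : x ∈ dcRing H) : cstar σ x ∈ dcRing H := by
  rw [mem_dcRing_iff] at hx ⊢
  intro y hy
  have h1 : H * cstar σ y = cstar σ y * H := by
    have := congrArg (cstar σ) hy
    rw [cstar_mul, cstar_mul, hH] at this
    exact this.symm
  have h2 := congrArg (cstar σ) (hx _ h1)
  rw [cstar_mul, cstar_mul, cstar_cstar σ hσ2] at h2
  exact h2.symm

/-- **Norm surjectivity for matrices**: an invertible Hermitian matrix `H` is of the form
`c* c` with `c` commuting with everything that commutes with `H`. -/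
theorem exists_norm_commuting [Finite K] (hσ2 : ∀ a, σ (σ a) = a) (ξ0 : K) (hξ0 : σ ξ0 ≠ ξ0)
    (H Hinv : Matrix n n K) (hH1 : H * Hinv = 1) (hH2 : Hinv * H = 1) (hHs : cstar σ H = H) :
    ∃ c : Matrix n n K, cstar σ c * c = H ∧
      ∀ A : Matrix n n K, A * H = H * A → A * c = c * A := by
  have hinv_mem : Hinv ∈ dcRing H := by
    rw [mem_dcRing_iff]
    intro y hy
    calc y * Hinv = (Hinv * H) * y * Hinv := by rw [hH2, Matrix.one_mul]
      _ = Hinv * (H * y) * Hinv := by simp only [Matrix.mul_assoc]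
      _ = Hinv * (y * H) * Hinv := by rw [hy]
      _ = Hinv * y * (H * Hinv) := by simp only [Matrix.mul_assoc]
      _ = Hinv * y := by rw [hH1, Matrix.mul_one]
  let _ : CommRing ↥(dcRing H) := dcComm H
  let τ : ↥(dcRing H) →+* ↥(dcRing H) :=
    { toFun := fun x => ⟨cstar σ x.1, cstar_mem_dcRing σ hσ2 hHs x.2⟩
      map_one' := Subtype.ext (cstar_one σ)
      map_mul' := fun x y => Subtype.ext (by
        show cstar σ (x.1 * y.1) = cstar σ x.1 * cstar σ y.1
        rw [cstar_mul]
        exact mul_comm_of_mem_dcRing (cstar_mem_dcRing σ hσ2 hHs y.2)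
          (cstar_mem_dcRing σ hσ2 hHs x.2))
      map_zero' := Subtype.ext (cstar_zero σ)
      map_add' := fun x y => Subtype.ext (cstar_add σ x.1 y.1) }
  have hτval : ∀ x : ↥(dcRing H), (τ x).1 = cstar σ x.1 := fun x => rfl
  have hτ : ∀ x, τ (τ x) = x := fun x => Subtype.ext (by rw [hτval, hτval, cstar_cstar σ hσ2])
  have hne : ξ0 - σ ξ0 ≠ 0 := fun h => hξ0 (sub_eq_zero.1 h).symm
  have hξ : IsUnit ((⟨ξ0 • 1, smul_one_mem_dcRing H ξ0⟩ : ↥(dcRing H))
      - τ ⟨ξ0 • 1, smul_one_mem_dcRing H ξ0⟩) := by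
    refine ⟨⟨_, ⟨(ξ0 - σ ξ0)⁻¹ • 1, smul_one_mem_dcRing H _⟩, ?_, ?_⟩, rfl⟩
    · apply Subtype.ext
      show (ξ0 • (1 : Matrix n n K) - cstar σ (ξ0 • 1)) * ((ξ0 - σ ξ0)⁻¹ • 1) = 1
      rw [cstar_smul_one, ← sub_smul, Matrix.smul_mul, Matrix.mul_smul, Matrix.mul_one, smul_smul,
        mul_inv_cancel₀ hne, one_smul]
    · apply Subtype.ext
      show ((ξ0 - σ ξ0)⁻¹ • 1) * (ξ0 • (1 : Matrix n n K) - cstar σ (ξ0 • 1)) = 1
      rw [cstar_smul_one, ← sub_smul, Matrix.smul_mul, Matrix.mul_smul, Matrix.mul_one, smul_smul,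
        inv_mul_cancel₀ hne, one_smul]
  have hh : IsUnit (⟨H, self_mem_dcRing H⟩ : ↥(dcRing H)) :=
    ⟨⟨_, ⟨Hinv, hinv_mem⟩, Subtype.ext hH1, Subtype.ext hH2⟩, rfl⟩
  have hfix : τ ⟨H, self_mem_dcRing H⟩ = ⟨H, self_mem_dcRing H⟩ := Subtype.ext hHs
  have : Finite (Matrix n n K) := by
    unfold Matrix
    infer_instance
  obtain ⟨c, hc⟩ := norm_surj τ hτ _ hξ _ hh hfix
  refine ⟨c.1, ?_, ?_⟩
  · have := congrArg Subtype.val hc
    exact this
  · intro A hA
    have := (mem_dcRing_iff H c.1).1 c.2 A hA.symm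
    exact this

end Cfsg.Agent.Helper21.NS
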