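import Mathlib
import Cfsg.Agent.Helper28.Siegel2
import Cfsg.Agent.Helper12.OrthGenC

set_option autoImplicit false
set_option linter.unusedSectionVars false
set_option linter.unusedVariables false

/-!
# The Siegel group is transitive on hyperbolic frames up to scalars (helper21; form-generic)

`Q` a quadratic form on `ι → F` with non-degenerate polar form, `fr : HFrame Q r` a hyperbolic frame
(`r` mutually orthogonal hyperbolic pairs), `w₀` a nonsingular vector orthogonal to the frame.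
For every isometry `g` there is `s ∈ S Q` (the group generated by the Siegel transformations) such that
`s * g` stabilises all the lines `⟨e_i⟩`, `⟨f_i⟩` of the frame (`exists_S_frame`).
-/

namespace Cfsg.Agent.OrthBN

open Matrix Cfsg.Agent.Helper28.Sg Cfsg.Agent.Helper28.Spin Cfsg.Agent.Helper12.OrthGen

variable {F : Type*} [Field F] {ι : Type} [Fintype ι] [DecidableEq ι]
  {Q : QuadraticForm F (ι → F)}

/-- a Siegel transformation fixes the vectors orthogonal to both of its parameters -/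
theorem siegO_fixes {u v x : ι → F} (hu : Q u = 0) (huv : B Q u v = 0) (hux : B Q u x = 0)
    (hvx : B Q v x = 0) : mt Q (siegO Q u v hu huv) *ᵥ x = x := by
  rw [siegO_mulVec, hux, hvx]
  simp

/-- moving a singular vector `x` with `B(e,x) ≠ 0` to a multiple of `f` by a Siegel transformation
attached to `e` -/
theorem move_to_f {e f : ι → F} (hp : HypPair Q e f) {x : ι → F} (hx : Q x = 0)
    (hβ : B Q e x ≠ 0) :
    ∃ (y : ι → F) (hy : B Q e y = 0),
      mt Q (siegO Q e y hp.Qe hy) *ᵥ x = B Q e x • f ∧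
      ∀ z : ι → F, B Q z e = 0 → B Q z f = 0 → B Q z x = 0 → B Q z y = 0 := by
  set α := B Q f x with hα
  set β := B Q e x with hβdef
  set v : ι → F := x - α • e - β • f with hv
  have hBee := hp.Bee
  have hBff := hp.Bff
  have hBef := hp.Bef
  have hBfe := hp.Bfe
  simp only [B] at hBee hBff hBef hBfe
  have hev : B Q e v = 0 := by
    simp only [hv, B, QuadraticMap.polar_sub_right, QuadraticMap.polar_smul_right, smul_eq_mul,
      hBee, hBef]
    show β - α * 0 - β * 1 = 0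
    ring
  have hfv : B Q f v = 0 := by
    simp only [hv, B, QuadraticMap.polar_sub_right, QuadraticMap.polar_smul_right, smul_eq_mul,
      hBfe, hBff]
    show α - α * 1 - β * 0 = 0
    ring
  have hxdec : x = α • e + β • f + v := by rw [hv]; module
  have hQv : Q v = -(α * β) := by
    have h1 := hp.Q_decomp α β hev hfv
    rw [← hxdec, hx] at h1
    linear_combination -h1
  have hvx : B Q v x = 2 * Q v := by
    have hve : B Q v e = 0 := by rw [B_comm]; exact hev
    have hvf : B Q v f = 0 := by rw [B_comm]; exact hfv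
    have hvv : B Q v v = 2 * Q v := B_self Q v
    simp only [B] at hve hvf hvv
    conv_lhs => rw [hxdec]
    simp only [B, QuadraticMap.polar_add_right, QuadraticMap.polar_smul_right, smul_eq_mul, hve, hvf,
      hvv]
    ring
  have hy : B Q e (-(β⁻¹) • v) = 0 := B_smul_right_zero Q _ hev
  refine ⟨-(β⁻¹) • v, hy, ?_, ?_⟩
  · have h1 : B Q (-(β⁻¹) • v) x = -(β⁻¹) * (2 * Q v) := by
      show QuadraticMap.polar ⇑Q (-(β⁻¹) • v) x = _
      rw [QuadraticMap.polar_smul_left, smul_eq_mul]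
      show -(β⁻¹) * B Q v x = _
      rw [hvx]
    have h2 : Q (-(β⁻¹) • v) = β⁻¹ * β⁻¹ * Q v := by
      rw [Q_smul]; ring
    have hβ' : β ≠ 0 := hβ
    have key : x + β • (-(β⁻¹) • v) - B Q (-(β⁻¹) • v) x • e - (Q (-(β⁻¹) • v) * β) • e = β • f := by
      rw [h1, h2, hQv]
      have e1 : β • (-(β⁻¹) • v) = -v := by
        rw [smul_smul, mul_neg, mul_inv_cancel₀ hβ']; simp
      have e2 : (-(β⁻¹) * (2 * -(α * β))) = 2 * α := by field_simp
      have e3 : (β⁻¹ * β⁻¹ * -(α * β) * β) = -α := by field_simp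
      rw [e1, e2, e3]
      conv_lhs => rw [hxdec]
      module
    rw [siegO_mulVec]
    exact key
  · intro z hze hzf hzx
    show QuadraticMap.polar ⇑Q z (-(β⁻¹) • v) = 0
    rw [QuadraticMap.polar_smul_right, hv]
    simp only [B] at hze hzf hzx
    simp only [QuadraticMap.polar_sub_right, QuadraticMap.polar_smul_right, hze, hzf, hzx]
    simp

variable {r : ℕ}

/-- `x` is orthogonal to the first `k` pairs of the frame -/
def Perp (fr : HFrame Q r) (k : ℕ) (x : ι → F) : Prop :=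
  ∀ i : Fin r, i.val < k → B Q (fr.e i) x = 0 ∧ B Q (fr.f i) x = 0

/-- `s` fixes the first `k` pairs of the frame -/
def Fixes (fr : HFrame Q r) (k : ℕ) (s : ↥(Cfsg.isometryGroup F ⇑Q)) : Prop :=
  ∀ i : Fin r, i.val < k → mt Q s *ᵥ fr.e i = fr.e i ∧ mt Q s *ᵥ fr.f i = fr.f i

theorem Fixes.mul {fr : HFrame Q r} {k : ℕ} {s t : ↥(Cfsg.isometryGroup F ⇑Q)}
    (hs : Fixes fr k s) (ht : Fixes fr k t) : Fixes fr k (s * t) := by
  intro i hi
  rw [mt_mul_mulVec, mt_mul_mulVec, (ht i hi).1, (ht i hi).2]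
  exact hs i hi

theorem fixes_siegO {fr : HFrame Q r} {k : ℕ} {u v : ι → F} (hu : Q u = 0) (huv : B Q u v = 0)
    (hpu : Perp fr k u) (hpv : Perp fr k v) : Fixes fr k (siegO Q u v hu huv) := by
  intro i hi
  constructor
  · apply siegO_fixes
    · rw [B_comm]; exact (hpu i hi).1
    · rw [B_comm]; exact (hpv i hi).1
  · apply siegO_fixes
    · rw [B_comm]; exact (hpu i hi).2
    · rw [B_comm]; exact (hpv i hi).2

theorem Perp.of_fixes {fr : HFrame Q r} {k : ℕ} {s : ↥(Cfsg.isometryGroup F ⇑Q)} (hs : Fixes fr k s)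
    {x : ι → F} (hx : Perp fr k x) : Perp fr k (mt Q s *ᵥ x) := by
  intro i hi
  constructor
  · have := B_isom Q s (fr.e i) x
    rw [(hs i hi).1] at this
    rw [this]; exact (hx i hi).1
  · have := B_isom Q s (fr.f i) x
    rw [(hs i hi).2] at this
    rw [this]; exact (hx i hi).2

theorem perp_e {fr : HFrame Q r} (k : Fin r) : Perp fr k.val (fr.e k) := by
  intro i hi
  have hne : i ≠ k := fun h => by rw [h] at hi; exact lt_irrefl _ hi
  exact ⟨fr.Bee i k, by rw [fr.Bfe, if_neg hne]⟩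

theorem perp_f {fr : HFrame Q r} (k : Fin r) : Perp fr k.val (fr.f k) := by
  intro i hi
  have hne : i ≠ k := fun h => by rw [h] at hi; exact lt_irrefl _ hi
  exact ⟨by rw [fr.Bef, if_neg hne], fr.Bff i k⟩

/-- the target of the moving lemmas -/
def Good (fr : HFrame Q r) (k : Fin r) (x : ι → F) : Prop :=
  ∃ s : ↥(Cfsg.isometryGroup F ⇑Q), s ∈ S Q ∧ Fixes fr k.val s ∧ ∃ c : F, mt Q s *ᵥ x = c • fr.e k

theorem Good.of_step {fr : HFrame Q r} {k : Fin r} {x : ι → F} {s₁ : ↥(Cfsg.isometryGroup F ⇑Q)}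
    (hs₁ : s₁ ∈ S Q) (hf₁ : Fixes fr k.val s₁) (h : Good fr k (mt Q s₁ *ᵥ x)) : Good fr k x := by
  obtain ⟨s, hs, hf, c, hc⟩ := h
  refine ⟨s * s₁, (S Q).mul_mem hs hs₁, hf.mul hf₁, c, ?_⟩
  rw [mt_mul_mulVec]; exact hc

/-- case A: `B(f_k, x) ≠ 0` -/
theorem good_of_Bf_ne {fr : HFrame Q r} (k : Fin r) {x : ι → F} (hx : Q x = 0)
    (hp : Perp fr k.val x) (h : B Q (fr.f k) x ≠ 0) : Good fr k x := by
  obtain ⟨y, hy, hmove, hperp⟩ := move_to_f (fr.hypPair k).symm hx h
  refine ⟨siegO Q (fr.f k) y (fr.hypPair k).symm.Qe hy, siegO_mem_S Q _ _ _ _, ?_, _, hmove⟩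
  apply fixes_siegO _ _ (perp_f k)
  intro i hi
  have h1 := perp_e (fr := fr) k i hi
  have h2 := perp_f (fr := fr) k i hi
  exact ⟨hperp _ h2.1 h1.1 (hp i hi).1, hperp _ h2.2 h1.2 (hp i hi).2⟩

/-- case B: `B(e_k, x) ≠ 0` -/
theorem good_of_Be_ne {fr : HFrame Q r} (k : Fin r) {w₀ : ι → F} (hw₀ : Q w₀ ≠ 0)
    (hwe : B Q (fr.e k) w₀ = 0) (hwf : B Q (fr.f k) w₀ = 0) (hwp : Perp fr k.val w₀)
    {x : ι → F} (hx : Q x = 0) (hp : Perp fr k.val x) (h : B Q (fr.e k) x ≠ 0) : Good fr k x := by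
  obtain ⟨y, hy, hmove, hperp⟩ := move_to_f (fr.hypPair k) hx h
  have hfix1 : Fixes fr k.val (siegO Q (fr.e k) y (fr.hypPair k).Qe hy) := by
    apply fixes_siegO _ _ (perp_e k)
    intro i hi
    have h1 := perp_e (fr := fr) k i hi
    have h2 := perp_f (fr := fr) k i hi
    exact ⟨hperp _ h1.1 h2.1 (hp i hi).1, hperp _ h1.2 h2.2 (hp i hi).2⟩
  apply Good.of_step (siegO_mem_S Q _ _ _ _) hfix1
  rw [hmove]
  -- now the vector is `β • f_k`; apply `E(e_k, w₀)`
  have hfix2 : Fixes fr k.val (siegO Q (fr.e k) w₀ (fr.hypPair k).Qe hwe) :=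
    fixes_siegO _ _ (perp_e k) hwp
  apply Good.of_step (siegO_mem_S Q _ _ _ _) hfix2
  set x' := mt Q (siegO Q (fr.e k) w₀ (fr.hypPair k).Qe hwe) *ᵥ (B Q (fr.e k) x • fr.f k) with hx'
  have hQx' : Q x' = 0 := by
    rw [hx', Q_isom, Q_smul, (fr.hypPair k).Qf, mul_zero]
  have hpx' : Perp fr k.val x' := by
    rw [hx']
    apply Perp.of_fixes hfix2
    intro i hi
    have h2 := perp_f (fr := fr) k i hi
    constructor
    · show QuadraticMap.polar ⇑Q _ (_ • _) = 0
      rw [QuadraticMap.polar_smul_right]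
      have := h2.1
      simp only [B] at this
      rw [this, smul_zero]
    · show QuadraticMap.polar ⇑Q _ (_ • _) = 0
      rw [QuadraticMap.polar_smul_right]
      have := h2.2
      simp only [B] at this
      rw [this, smul_zero]
  apply good_of_Bf_ne k hQx' hpx'
  have hval : x' = B Q (fr.e k) x • (fr.f k + w₀ - Q w₀ • fr.e k) := by
    rw [hx', Matrix.mulVec_smul, siegO_mulVec, (fr.hypPair k).Bef, B_comm Q w₀ (fr.f k), hwf]
    congr 1
    module
  rw [hval]
  have h1 := (fr.hypPair k).Bff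
  have h2 := (fr.hypPair k).Bfe
  simp only [B] at h1 h2 hwf
  show QuadraticMap.polar ⇑Q (fr.f k) (_ • _) ≠ 0
  rw [QuadraticMap.polar_smul_right, QuadraticMap.polar_sub_right, QuadraticMap.polar_add_right,
    QuadraticMap.polar_smul_right, h1, h2, hwf]
  simp only [smul_eq_mul, zero_add, mul_one, zero_sub]
  exact mul_ne_zero h (neg_ne_zero.mpr hw₀)

/-- the projection away from the pairs `≤ k` -/
theorem exists_proj (fr : HFrame Q r) (k : Fin r) (y₀ : ι → F) :
    ∃ y : ι → F, (∀ i : Fin r, i.val ≤ k.val → B Q (fr.e i) y = 0 ∧ B Q (fr.f i) y = 0) ∧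
      ∀ x : ι → F, (∀ i : Fin r, i.val ≤ k.val → B Q (fr.e i) x = 0 ∧ B Q (fr.f i) x = 0) →
        B Q x y = B Q x y₀ := by
  classical
  set T : Finset (Fin r) := Finset.univ.filter (fun j => j.val ≤ k.val) with hT
  refine ⟨y₀ - ∑ j ∈ T, (B Q (fr.f j) y₀ • fr.e j + B Q (fr.e j) y₀ • fr.f j), ?_, ?_⟩
  · intro i hi
    have hiT : i ∈ T := by rw [hT, Finset.mem_filter]; exact ⟨Finset.mem_univ _, hi⟩
    constructor
    · show QuadraticMap.polar ⇑Q (fr.e i) _ = 0
      rw [QuadraticMap.polar_sub_right]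
      have := HFrame.B_sum_right (Q := Q) (fr.e i) T (fun j => B Q (fr.f j) y₀ • fr.e j + B Q (fr.e j) y₀ • fr.f j)
      simp only [B] at this
      rw [this, Finset.sum_eq_single i]
      · have h1 := fr.Bee i i
        have h2 := fr.Bef i i
        simp only [B] at h1 h2
        rw [QuadraticMap.polar_add_right, QuadraticMap.polar_smul_right, QuadraticMap.polar_smul_right,
          h1, h2]
        simp
      · intro j _ hji
        have h1 := fr.Bee i j
        have h2 := fr.Bef i j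
        simp only [B] at h1 h2
        rw [QuadraticMap.polar_add_right, QuadraticMap.polar_smul_right, QuadraticMap.polar_smul_right,
          h1, h2, if_neg (fun h => hji h.symm)]
        simp
      · intro h; exact absurd hiT h
    · show QuadraticMap.polar ⇑Q (fr.f i) _ = 0
      rw [QuadraticMap.polar_sub_right]
      have := HFrame.B_sum_right (Q := Q) (fr.f i) T (fun j => B Q (fr.f j) y₀ • fr.e j + B Q (fr.e j) y₀ • fr.f j)
      simp only [B] at this
      rw [this, Finset.sum_eq_single i]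
      · have h1 := fr.Bfe i i
        have h2 := fr.Bff i i
        simp only [B] at h1 h2
        rw [QuadraticMap.polar_add_right, QuadraticMap.polar_smul_right, QuadraticMap.polar_smul_right,
          h1, h2]
        simp
      · intro j _ hji
        have h1 := fr.Bfe i j
        have h2 := fr.Bff i j
        simp only [B] at h1 h2
        rw [QuadraticMap.polar_add_right, QuadraticMap.polar_smul_right, QuadraticMap.polar_smul_right,
          h1, h2, if_neg (fun h => hji h.symm)]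
        simp
      · intro h; exact absurd hiT h
  · intro x hx
    show QuadraticMap.polar ⇑Q x _ = QuadraticMap.polar ⇑Q x y₀
    rw [QuadraticMap.polar_sub_right]
    have := HFrame.B_sum_right (Q := Q) x T (fun j => B Q (fr.f j) y₀ • fr.e j + B Q (fr.e j) y₀ • fr.f j)
    simp only [B] at this
    rw [this, Finset.sum_eq_zero, sub_zero]
    intro j hj
    rw [hT, Finset.mem_filter] at hj
    have h1 : B Q x (fr.e j) = 0 := by rw [B_comm]; exact (hx j hj.2).1
    have h2 : B Q x (fr.f j) = 0 := by rw [B_comm]; exact (hx j hj.2).2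
    simp only [B] at h1 h2
    rw [QuadraticMap.polar_add_right, QuadraticMap.polar_smul_right, QuadraticMap.polar_smul_right,
      h1, h2]
    simp

/-- MOVE: a nonzero singular vector orthogonal to the first `k` pairs is moved into `⟨e_k⟩` by an element
of `S` fixing the first `k` pairs -/
theorem good_of_singular (hQ : (QuadraticMap.polarBilin Q).Nondegenerate) (fr : HFrame Q r) (k : Fin r)
    {w₀ : ι → F} (hw₀ : Q w₀ ≠ 0) (hwe : B Q (fr.e k) w₀ = 0) (hwf : B Q (fr.f k) w₀ = 0)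
    (hwp : Perp fr k.val w₀) {x : ι → F} (hx : Q x = 0) (hx0 : x ≠ 0) (hp : Perp fr k.val x) :
    Good fr k x := by
  by_cases hA : B Q (fr.f k) x ≠ 0
  · exact good_of_Bf_ne k hx hp hA
  by_cases hB : B Q (fr.e k) x ≠ 0
  · exact good_of_Be_ne k hw₀ hwe hwf hwp hx hp hB
  push Not at hA hB
  -- case C
  obtain ⟨y₀, hy₀⟩ : ∃ y₀, B Q x y₀ ≠ 0 := by
    by_contra hcon
    push Not at hcon
    apply hx0
    apply hQ.1
    intro y
    exact hcon y
  have hxk : ∀ i : Fin r, i.val ≤ k.val → B Q (fr.e i) x = 0 ∧ B Q (fr.f i) x = 0 := by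
    intro i hi
    rcases lt_or_eq_of_le hi with h | h
    · exact hp i h
    · have : i = k := Fin.ext h
      rw [this]; exact ⟨hB, hA⟩
  obtain ⟨y, hy, hxy⟩ := exists_proj fr k y₀
  have hxy' : B Q x y ≠ 0 := by rw [hxy x hxk]; exact hy₀
  have hfy : B Q (fr.f k) y = 0 := (hy k le_rfl).2
  have hpy : Perp fr k.val y := fun i hi => hy i hi.le
  have hfix : Fixes fr k.val (siegO Q (fr.f k) y (fr.hypPair k).Qf hfy) :=
    fixes_siegO _ _ (perp_f k) hpy
  apply Good.of_step (siegO_mem_S Q _ _ _ _) hfix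
  set x' := mt Q (siegO Q (fr.f k) y (fr.hypPair k).Qf hfy) *ᵥ x with hx'
  have hQx' : Q x' = 0 := by rw [hx', Q_isom]; exact hx
  have hpx' : Perp fr k.val x' := Perp.of_fixes hfix hp
  apply good_of_Be_ne k hw₀ hwe hwf hwp hQx' hpx'
  have hval : x' = x - B Q y x • fr.f k := by
    rw [hx', siegO_mulVec, hA]
    simp
  rw [hval]
  have h1 := (fr.hypPair k).Bef
  simp only [B] at h1 hB
  show QuadraticMap.polar ⇑Q (fr.e k) (_ - _ • _) ≠ 0
  rw [QuadraticMap.polar_sub_right, QuadraticMap.polar_smul_right, hB, h1]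
  simp only [smul_eq_mul, mul_one, zero_sub, ne_eq, neg_eq_zero]
  rw [B_comm]; exact hxy'

/-- scalars of an isometry on a hyperbolic pair are nonzero -/
theorem scalar_ne_zero {e f : ι → F} (hp : HypPair Q e f) (g : ↥(Cfsg.isometryGroup F ⇑Q)) {c : F}
    (hc : mt Q g *ᵥ e = c • e) : c ≠ 0 := by
  intro h0
  have h1 := B_isom Q g e f
  rw [hc, h0, zero_smul, hp.Bef] at h1
  have : B Q (0 : ι → F) (mt Q g *ᵥ f) = 0 := QuadraticMap.polar_zero_left _ _
  rw [this] at h1
  exact zero_ne_one h1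

/-- DECOMP (generic): the Siegel group is transitive on hyperbolic frames up to scalars -/
theorem exists_S_lines (hQ : (QuadraticMap.polarBilin Q).Nondegenerate) (fr : HFrame Q r)
    {w₀ : ι → F} (hw₀ : Q w₀ ≠ 0) (hwV : fr.InV0 w₀) (g : ↥(Cfsg.isometryGroup F ⇑Q)) :
    ∀ k : ℕ, k ≤ r → ∃ s : ↥(Cfsg.isometryGroup F ⇑Q), s ∈ S Q ∧ ∀ i : Fin r, i.val < k →
      (∃ c : F, mt Q (s * g) *ᵥ fr.e i = c • fr.e i) ∧
      (∃ c : F, mt Q (s * g) *ᵥ fr.f i = c • fr.f i) := by
  intro k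
  induction k with
  | zero =>
    intro _
    exact ⟨1, (S Q).one_mem, fun i hi => absurd hi (Nat.not_lt_zero _)⟩
  | succ k ih =>
    intro hk
    obtain ⟨s, hs, hlines⟩ := ih (Nat.le_of_succ_le hk)
    set kk : Fin r := ⟨k, hk⟩ with hkk
    set g' := s * g with hg'
    have hwp : Perp fr kk.val w₀ := fun i _ => hwV i
    -- orthogonality of images to the handled pairs
    have hperp_of : ∀ (h : ↥(Cfsg.isometryGroup F ⇑Q)),
        (∀ i : Fin r, i.val < k → (∃ c : F, mt Q h *ᵥ fr.e i = c • fr.e i) ∧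
          (∃ c : F, mt Q h *ᵥ fr.f i = c • fr.f i)) →
        ∀ z : ι → F, (∀ i : Fin r, i.val < k → B Q (fr.e i) z = 0 ∧ B Q (fr.f i) z = 0) →
          Perp fr kk.val (mt Q h *ᵥ z) := by
      intro h hh z hz i hi
      obtain ⟨⟨c, hc⟩, ⟨c', hc'⟩⟩ := hh i hi
      have hc0 := scalar_ne_zero (fr.hypPair i) h hc
      have hc0' := scalar_ne_zero (fr.hypPair i).symm h hc'
      constructor
      · have h1 := B_isom Q h (fr.e i) z
        rw [hc, (hz i hi).1] at h1
        have h2 : B Q (c • fr.e i) (mt Q h *ᵥ z) = c * B Q (fr.e i) (mt Q h *ᵥ z) := by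
          show QuadraticMap.polar ⇑Q (c • fr.e i) _ = _
          rw [QuadraticMap.polar_smul_left, smul_eq_mul]
        rw [h2] at h1
        exact (mul_eq_zero.mp h1).resolve_left hc0
      · have h1 := B_isom Q h (fr.f i) z
        rw [hc', (hz i hi).2] at h1
        have h2 : B Q (c' • fr.f i) (mt Q h *ᵥ z) = c' * B Q (fr.f i) (mt Q h *ᵥ z) := by
          show QuadraticMap.polar ⇑Q (c' • fr.f i) _ = _
          rw [QuadraticMap.polar_smul_left, smul_eq_mul]
        rw [h2] at h1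
        exact (mul_eq_zero.mp h1).resolve_left hc0'
    have hek : ∀ i : Fin r, i.val < k → B Q (fr.e i) (fr.e kk) = 0 ∧ B Q (fr.f i) (fr.e kk) = 0 :=
      fun i hi => perp_e (fr := fr) kk i hi
    have hfk : ∀ i : Fin r, i.val < k → B Q (fr.e i) (fr.f kk) = 0 ∧ B Q (fr.f i) (fr.f kk) = 0 :=
      fun i hi => perp_f (fr := fr) kk i hi
    -- step 1: move `g' e_k` into `⟨e_k⟩`
    set u := mt Q g' *ᵥ fr.e kk with hu
    have hQu : Q u = 0 := by rw [hu, Q_isom]; exact fr.Qe kk
    have hu0 : u ≠ 0 := by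
      intro h0
      have h1 := B_isom Q g' (fr.e kk) (fr.f kk)
      rw [← hu, h0, (fr.hypPair kk).Bef] at h1
      have : B Q (0 : ι → F) (mt Q g' *ᵥ fr.f kk) = 0 := QuadraticMap.polar_zero_left _ _
      rw [this] at h1
      exact zero_ne_one h1
    have hpu : Perp fr kk.val u := hperp_of g' hlines _ hek
    obtain ⟨s₁, hs₁, hf₁, c, hc⟩ := good_of_singular hQ fr kk hw₀ (hwV kk).1 (hwV kk).2 hwp hQu hu0 hpu
    set g'' := s₁ * g' with hg''
    have hlines'' : ∀ i : Fin r, i.val < k → (∃ c : F, mt Q g'' *ᵥ fr.e i = c • fr.e i) ∧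
        (∃ c : F, mt Q g'' *ᵥ fr.f i = c • fr.f i) := by
      intro i hi
      obtain ⟨⟨c₁, hc₁⟩, ⟨c₂, hc₂⟩⟩ := hlines i hi
      refine ⟨⟨c₁, ?_⟩, ⟨c₂, ?_⟩⟩
      · rw [hg'', mt_mul_mulVec, hc₁, Matrix.mulVec_smul, (hf₁ i hi).1]
      · rw [hg'', mt_mul_mulVec, hc₂, Matrix.mulVec_smul, (hf₁ i hi).2]
    have hek'' : mt Q g'' *ᵥ fr.e kk = c • fr.e kk := by
      rw [hg'', mt_mul_mulVec]; exact hc
    have hc0 : c ≠ 0 := scalar_ne_zero (fr.hypPair kk) g'' hek''
    -- step 2: move `g'' f_k` into `⟨f_k⟩`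
    set x := mt Q g'' *ᵥ fr.f kk with hx
    have hQx : Q x = 0 := by rw [hx, Q_isom]; exact fr.Qf kk
    have hpx : Perp fr kk.val x := hperp_of g'' hlines'' _ hfk
    have hβ : B Q (fr.e kk) x ≠ 0 := by
      have h1 := B_isom Q g'' (fr.e kk) (fr.f kk)
      rw [hek'', (fr.hypPair kk).Bef] at h1
      have h2 : B Q (c • fr.e kk) x = c * B Q (fr.e kk) x := by
        show QuadraticMap.polar ⇑Q (c • fr.e kk) _ = _
        rw [QuadraticMap.polar_smul_left, smul_eq_mul]
      rw [← hx, h2] at h1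
      intro h0
      rw [h0, mul_zero] at h1
      exact zero_ne_one h1
    obtain ⟨y, hy, hmove, hperp⟩ := move_to_f (fr.hypPair kk) hQx hβ
    set s₂ := siegO Q (fr.e kk) y (fr.hypPair kk).Qe hy with hs₂
    have hf₂ : Fixes fr kk.val s₂ := by
      apply fixes_siegO _ _ (perp_e kk)
      intro i hi
      have h1 := perp_e (fr := fr) kk i hi
      have h2 := perp_f (fr := fr) kk i hi
      exact ⟨hperp _ h1.1 h2.1 (hpx i hi).1, hperp _ h1.2 h2.2 (hpx i hi).2⟩
    refine ⟨s₂ * s₁ * s, (S Q).mul_mem ((S Q).mul_mem (siegO_mem_S Q _ _ _ _) hs₁) hs, ?_⟩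
    have hprod : s₂ * s₁ * s * g = s₂ * g'' := by rw [hg'', hg']; group
    intro i hi
    rw [hprod]
    rcases Nat.lt_succ_iff_lt_or_eq.mp hi with hlt | heq
    · obtain ⟨⟨c₁, hc₁⟩, ⟨c₂, hc₂⟩⟩ := hlines'' i hlt
      refine ⟨⟨c₁, ?_⟩, ⟨c₂, ?_⟩⟩
      · rw [mt_mul_mulVec, hc₁, Matrix.mulVec_smul, (hf₂ i hlt).1]
      · rw [mt_mul_mulVec, hc₂, Matrix.mulVec_smul, (hf₂ i hlt).2]
    · have hik : i = kk := Fin.ext heq
      rw [hik]
      refine ⟨⟨c, ?_⟩, ⟨B Q (fr.e kk) x, ?_⟩⟩
      · rw [mt_mul_mulVec, hek'', Matrix.mulVec_smul, hs₂, siegO_fix]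
      · rw [mt_mul_mulVec]; exact hmove

end Cfsg.Agent.OrthBN
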