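import Cfsg.Agent.Helper12.S5702Defs2
import Cfsg.Agent.Helper12.S5683COMM2
import Cfsg.Agent.Helper20.S5702RATSIEG
import Cfsg.Agent.Helper17.S5702CENTRAT
import Cfsg.Agent.Helper15.S5702RHO

/-! S5702 piece PLANERAT (helper21): an `M`-root element whose line lies in the rational plane `π` is rational. -/

set_option autoImplicit false
set_option linter.unusedSectionVars false
set_option linter.unusedVariables false

namespace Cfsg.Agent.S5702P

open Matrix Cfsg.Agent.Helper28.Sg Cfsg.Agent.Helper28.Spin Cfsg.Agent.Helper12.OrthGen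
  Cfsg.Agent.S5683P

variable {F : Type*} [Field F] {m : ℕ} {a b : F}

namespace PLANERAT

/-- an index outside the range of `κ` -/
theorem exists_not_range (hm : 4 ≤ m) (κ : Fin 3 → Fin m) : ∃ j : Fin m, ∀ k, κ k ≠ j := by
  classical
  obtain ⟨j, hj⟩ := CENTRAT.exists_not_mem (Finset.univ.image κ)
    (lt_of_le_of_lt Finset.card_image_le (by simp; omega))
  refine ⟨j, fun k hk => hj ?_⟩
  rw [← hk]
  exact Finset.mem_image_of_mem _ (Finset.mem_univ _)

theorem lin3_lr (κ : Fin 3 → Fin m) (c : Fin 3 → F) (j : Fin m) :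
    lin3 κ c (Sum.inl (Sum.inr j)) = 0 := by
  simp [lin3, ee, Finset.sum_apply]

theorem lin3_ll_of_not_range (κ : Fin 3 → Fin m) (c : Fin 3 → F) (j : Fin m)
    (hj : ∀ k, κ k ≠ j) : lin3 κ c (Sum.inl (Sum.inl j)) = 0 := by
  unfold lin3 ee
  simp only [Finset.sum_apply, Pi.smul_apply, smul_eq_mul]
  apply Finset.sum_eq_zero
  intro k _
  rw [Pi.single_apply, if_neg, mul_zero]
  intro h
  have := Sum.inl.inj (Sum.inl.inj h)
  exact hj k this.symm

theorem rat_lin3 (F₀ : Subfield F) (κ : Fin 3 → Fin m) {c : Fin 3 → F} (hc : ∀ k, c k ∈ F₀) :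
    Rat F₀ (lin3 κ c) := by
  unfold lin3
  exact Rat.sum _ (fun k _ => Rat.smul (hc k) (rat_ee _))

/-- the `2 × 2` minors: the key step -/
theorem minor_mem (hm : 4 ≤ m) (F₀ : Subfield F) (ha : a ∈ F₀) (hb : b ∈ F₀)
    (hab : 4 * b - a ^ 2 ≠ 0) (M : Subgroup (OG m F a b)) (hM : HasRatO F₀ M)
    (hR : RootRatO F₀ M) (κ : Fin 3 → Fin m) (hκ : Function.Injective κ) (x y : Fin 3 → F)
    (hmem : lin3 κ y ∈ Rad M (lin3 κ x) (Q_lin3 κ x)) (k l : Fin 3) :
    y k * x l - x k * y l ∈ F₀ := by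
  obtain ⟨j, hj⟩ := exists_not_range hm κ
  have hf : ff F (κ k) ∈ Rad M (ee F j) (Q_ee j) := by
    apply RATSIEG.mem_rad F₀ ha hb M hM _ _ (rat_ee j) (rat_ff _)
    rw [B_ee, CENTRAT.ff_lr, if_neg (fun h => hj k h.symm)]
  have h1 := COMM2.mem_rad M (v := lin3 κ x) (w := lin3 κ y) (b := ee F j) (a := ff F (κ k))
    (Q_lin3 κ x) (Q_lin3 κ y) (Q_ee j) (B_lin3_lin3 κ x y)
    (by rw [B_ee, lin3_lr]) (by rw [B_ee, lin3_lr]) hmem hf
  rw [B_lin3, B_lin3, RHO.xi3_ff κ hκ, dotProduct_single, dotProduct_single, mul_one, mul_one]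
    at h1
  have h2 := CENTRAT.rat_mod_ee hm F₀ ha hb hab M hM hR j h1
  have h3 : (y k • lin3 κ x - x k • lin3 κ y) (Sum.inl (Sum.inl j)) = 0 := by
    simp only [Pi.sub_apply, Pi.smul_apply, smul_eq_mul, lin3_ll_of_not_range κ _ j hj]
    ring
  rw [h3, zero_smul, sub_zero] at h2
  have h4 := h2 (Sum.inl (Sum.inl (κ l)))
  simp only [Pi.sub_apply, Pi.smul_apply, smul_eq_mul, RHO.lin3_apply κ hκ] at h4
  exact h4

theorem cross0 (x y : Fin 3 → F) : (x ⨯₃ y) 0 = x 1 * y 2 - x 2 * y 1 := by simp [cross_apply]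

theorem cross1 (x y : Fin 3 → F) : (x ⨯₃ y) 1 = x 2 * y 0 - x 0 * y 2 := by simp [cross_apply]

theorem cross2 (x y : Fin 3 → F) : (x ⨯₃ y) 2 = x 0 * y 1 - x 1 * y 0 := by simp [cross_apply]

theorem cross_of_minor (F₀ : Subfield F) (x y : Fin 3 → F)
    (h : ∀ k l : Fin 3, y k * x l - x k * y l ∈ F₀) : ∀ k, (x ⨯₃ y) k ∈ F₀ := by
  intro k
  fin_cases k
  · show (x ⨯₃ y) 0 ∈ F₀
    rw [cross0]
    convert h 2 1 using 1
    ring
  · show (x ⨯₃ y) 1 ∈ F₀
    rw [cross1]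
    convert h 0 2 using 1
    ring
  · show (x ⨯₃ y) 2 ∈ F₀
    rw [cross2]
    convert h 1 0 using 1
    ring

theorem minor_of_cross (F₀ : Subfield F) (x y : Fin 3 → F) (h : ∀ k, (x ⨯₃ y) k ∈ F₀)
    (k l : Fin 3) : y k * x l - x k * y l ∈ F₀ := by
  have h0 := h 0
  have h1 := h 1
  have h2 := h 2
  rw [cross0] at h0
  rw [cross1] at h1
  rw [cross2] at h2
  fin_cases k <;> fin_cases l <;> simp only [Fin.zero_eta, Fin.mk_one, Fin.reduceFinMk]
  · convert F₀.zero_mem using 1; ring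
  · convert F₀.neg_mem h2 using 1; ring
  · convert h1 using 1; ring
  · convert h2 using 1; ring
  · convert F₀.zero_mem using 1; ring
  · convert F₀.neg_mem h0 using 1; ring
  · convert F₀.neg_mem h1 using 1; ring
  · convert h0 using 1; ring
  · convert F₀.zero_mem using 1; ring

end PLANERAT

theorem PLANERAT.cross_mem (hm : 4 ≤ m) (F₀ : Subfield F) (ha : a ∈ F₀) (hb : b ∈ F₀)
    (hab : 4 * b - a ^ 2 ≠ 0) (M : Subgroup (OG m F a b)) (hM : HasRatO F₀ M)
    (hR : RootRatO F₀ M) (κ : Fin 3 → Fin m) (hκ : Function.Injective κ) (x y : Fin 3 → F)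
    (hmem : lin3 κ y ∈ Rad M (lin3 κ x) (Q_lin3 κ x)) : ∀ k, (x ⨯₃ y) k ∈ F₀ :=
  PLANERAT.cross_of_minor F₀ x y (PLANERAT.minor_mem hm F₀ ha hb hab M hM hR κ hκ x y hmem)

theorem PLANERAT.rho_mem (hm : 4 ≤ m) (F₀ : Subfield F) (ha : a ∈ F₀) (hb : b ∈ F₀)
    (hab : 4 * b - a ^ 2 ≠ 0) (M : Subgroup (OG m F a b)) (hM : HasRatO F₀ M)
    (hR : RootRatO F₀ M) (κ : Fin 3 → Fin m) (hκ : Function.Injective κ) (t : Fin 3 → F)
    (hmem : rho a b κ t ∈ M) : ∀ k, t k ∈ F₀ := by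
  have key : ∀ x y : Fin 3 → F, x ⨯₃ y = t → ∀ k, t k ∈ F₀ := by
    intro x y hxy
    have h1 : lin3 κ y ∈ Rad M (lin3 κ x) (Q_lin3 κ x) := by
      refine ⟨B_lin3_lin3 κ x y, ?_⟩
      rw [RHO.siegO_eq κ hκ, hxy]
      exact hmem
    have := PLANERAT.cross_mem hm F₀ ha hb hab M hM hR κ hκ x y h1
    rwa [hxy] at this
  by_cases h2 : t 2 = 0
  · by_cases h0 : t 0 = 0
    · by_cases h1 : t 1 = 0
      · intro k
        fin_cases k
        · show t 0 ∈ F₀
          rw [h0]; exact F₀.zero_mem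
        · show t 1 ∈ F₀
          rw [h1]; exact F₀.zero_mem
        · show t 2 ∈ F₀
          rw [h2]; exact F₀.zero_mem
      · apply key ![0, -t 2 / t 1, 1] ![t 1, -t 0, 0]
        funext k
        fin_cases k <;> simp [cross_apply] <;> field_simp
    · apply key ![-t 1 / t 0, 1, 0] ![-t 2, 0, t 0]
      funext k
      fin_cases k <;> simp [cross_apply] <;> field_simp
  · apply key ![1, 0, -t 0 / t 2] ![0, t 2, -t 1]
    funext k
    fin_cases k <;> simp [cross_apply] <;> field_simp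

theorem PLANERAT.ratLine_of_cross (F₀ : Subfield F) (κ : Fin 3 → Fin m)
    (hκ : Function.Injective κ) (x y : Fin 3 → F) (hxy : x ⨯₃ y ≠ 0)
    (hrat : ∀ k, (x ⨯₃ y) k ∈ F₀) : RatLine F₀ (lin3 κ x) (lin3 κ y) := by
  have hmin := PLANERAT.minor_of_cross F₀ x y hrat
  -- the rational vectors `y_l • lin3 x - x_l • lin3 y`
  have hvec : ∀ l : Fin 3, Rat F₀ (y l • lin3 κ x + (-x l) • lin3 κ y) := by
    intro l
    have e : y l • lin3 κ x + (-x l) • lin3 κ y = lin3 κ (y l • x - x l • y) := by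
      rw [RHO.lin3_sub, lin3_smul, lin3_smul, neg_smul, sub_eq_add_neg]
    rw [e]
    apply PLANERAT.rat_lin3
    intro i
    simp only [Pi.sub_apply, Pi.smul_apply, smul_eq_mul]
    exact hmin l i
  -- some entry of the cross product is non-zero
  obtain ⟨k, hk⟩ : ∃ k, (x ⨯₃ y) k ≠ 0 := by
    by_contra hcon
    push Not at hcon
    exact hxy (funext hcon)
  have h0' := PLANERAT.cross0 x y
  have h1' := PLANERAT.cross1 x y
  have h2' := PLANERAT.cross2 x y
  fin_cases k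
  · refine ⟨y 1, -x 1, y 2, -x 2, ?_, hvec 1, hvec 2⟩
    intro h
    apply hk
    show (x ⨯₃ y) 0 = 0
    rw [h0']
    linear_combination h
  · refine ⟨y 2, -x 2, y 0, -x 0, ?_, hvec 2, hvec 0⟩
    intro h
    apply hk
    show (x ⨯₃ y) 1 = 0
    rw [h1']
    linear_combination h
  · refine ⟨y 0, -x 0, y 1, -x 1, ?_, hvec 0, hvec 1⟩
    intro h
    apply hk
    show (x ⨯₃ y) 2 = 0
    rw [h2']
    linear_combination h

end Cfsg.Agent.S5702P
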