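import Cfsg.Agent.Helper21.SZTREMT0

set_option autoImplicit false
set_option linter.unusedSimpArgs false
set_option linter.unusedSectionVars false

/-! SZT piece REMT2: the remainders of the column orthogonality relations on the classes meeting
`A2`. -/

namespace Cfsg.Agent.SZT

open Cfsg Cfsg.Agent.Helper11.SCTI Cfsg.Agent.Helper24
open scoped Classical ComplexConjugate

universe u

variable {G : Type u} [Group G] [Fintype G]

namespace Cfg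

variable (C : Cfg G)

theorem rem_T2 {W₁ W₂ : G → ℂ} (h : C.IsRest W₁ W₂) {g : G} (hg : C.T2 g) :
    W₁ g * conj (W₁ g) + W₂ g * conj (W₂ g) = 2 := by
  obtain ⟨x, hx, hx1, hxg⟩ := id hg
  have hx1' : (⟨x, hx⟩ : C.A2) ≠ 1 := fun h => hx1 (congrArg Subtype.val h)
  rw [C.rem_eq h g g, if_pos (IsConj.refl g), REMT_card_centralizer C.sc_A2 hx hx1 hxg]
  simp only [C.cX_T2 hg, C.cF0_T2 _ hg, C.cF1_T2 _ hg, C.cF2_T2 _ ⟨x, hx⟩ hx1' hxg, map_one,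
    map_zero, map_neg, mul_zero, ite_self, Finset.sum_const_zero, neg_mul_neg]
  rw [REMT_sum_sq C.sc_A2 ⟨x, hx⟩ hx1' 4 C.REMT_N2]
  push_cast
  ring

theorem rem_one_T2 {W₁ W₂ : G → ℂ} (h : C.IsRest W₁ W₂) {g : G} (hg : C.T2 g) :
    W₁ 1 * conj (W₁ g) + W₂ 1 * conj (W₂ g) = -((C.r : ℂ) * ((C.q : ℂ) - 1)) := by
  obtain ⟨x, hx, hx1, hxg⟩ := id hg
  have hx1' : (⟨x, hx⟩ : C.A2) ≠ 1 := fun h => hx1 (congrArg Subtype.val h)
  rw [C.rem_eq h 1 g, if_neg (REM2S_not_conj_one (C.T2_odd hg).1)]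
  simp only [C.cX_one, C.cF0_one, C.cF1_one, C.cF2_one, C.cX_T2 hg, C.cF0_T2 _ hg,
    C.cF1_T2 _ hg, C.cF2_T2 _ ⟨x, hx⟩ hx1' hxg, map_one, map_zero, mul_zero, ite_self,
    Finset.sum_const_zero]
  rw [REMT_sum_conj C.sc_A2 ⟨x, hx⟩ hx1' 4 C.REMT_N2]
  simp only [map_neg, map_one]
  push_cast
  ring

end Cfg

end Cfsg.Agent.SZT
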