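import Mathlib

/-!
Brauer–Suzuki–Wall for dihedral Sylow 2-subgroups: the interface between the dihedral group and
the abstract hypotheses.
-/

set_option autoImplicit false

namespace Cfsg.Agent.Helper21.Bsw.Setup

variable {G : Type*} [Group G]

/-- `S0` is an abelian subgroup of `S` with `t` as its only involution, and every element of `S`
outside `S0` is an involution inverting `S0` and generating `S` together with `S0`. -/
structure DihPair (S S0 : Subgroup G) (t : G) : Prop where
  le : S0 ≤ S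
  mem : t ∈ S0
  comm : ∀ a ∈ S0, ∀ b ∈ S0, a * b = b * a
  invol : ∀ x ∈ S0, x * x = 1 → x = 1 ∨ x = t
  out : ∀ s ∈ S, s ∉ S0 → orderOf s = 2 ∧ (∀ x ∈ S0, s * x * s⁻¹ = x⁻¹) ∧
    ∀ a ∈ S, a ∈ S0 ∨ a * s ∈ S0
  ne : ∃ s ∈ S, s ∉ S0

end Cfsg.Agent.Helper21.Bsw.Setup
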