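import Mathlib
import Cfsg.Agent.Helper29.S2264Defs
import Cfsg.Agent.Helper7.S2264FACS
import Cfsg.Agent.Helper14.S2264EXPODVD
import Cfsg.Agent.Helper14.S2264FROBPOW

/-! S2264 + S2265, piece DVD: a good polynomial divides `X ^ N - 1` for the explicit `N`. -/

set_option autoImplicit false

namespace Cfsg.Agent.S2264P

open Polynomial
open scoped Classical

noncomputable section

variable {F : Type*} [Field F]

theorem dvd_X_pow_sub_one [Fintype F] (p : ℕ) [Fact p.Prime] [CharP F p] {μ : F[X]}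
    (hμ : Good μ) : μ ∣ X ^ (p ^ Nat.clog p (Emax μ) * Lexp μ) - 1 := by
  have hμ0 : μ ≠ 0 := hμ.monic.ne_zero
  have hp : p.Prime := Fact.out
  nth_rewrite 1 [← prod_facs hμ.monic]
  apply Finset.prod_dvd_of_coprime
  · intro f hf g hg hne
    exact IsCoprime.pow (facs_coprime hf hg hne)
  · intro f hf
    obtain ⟨hirr, hmon, _⟩ := (mem_facs hμ0).mp hf
    have h0 : f.coeff 0 ≠ 0 := coeff_zero_ne_zero_of_mem_facs hμ.coeff0 hf
    have h1 : f ∣ X ^ expo f - 1 := dvd_X_pow_expo_sub_one hirr hmon h0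
    have h2 : expo f ∣ Lexp μ := Finset.dvd_lcm hf
    obtain ⟨c, hc⟩ := h2
    have h3 : (X ^ expo f - 1 : F[X]) ∣ X ^ Lexp μ - 1 := by
      rw [hc]
      exact pow_one_sub_dvd_pow_mul_sub_one X (expo f) c
    have h4 : mult μ f ≤ p ^ Nat.clog p (Emax μ) :=
      le_trans (Finset.le_sup (f := mult μ) hf) (Nat.le_pow_clog hp.one_lt _)
    exact pow_dvd_X_pow_sub_one p (h1.trans h3) h4

end

end Cfsg.Agent.S2264P
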