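import Mathlib
import Cfsg.Agent.Helper29.S2264Defs
import Cfsg.Agent.Helper19.S2264RECIP1
import Cfsg.Agent.Helper7.S2264FACS
import Cfsg.Agent.Helper19.S2264REVFAC
import Cfsg.Agent.Helper21.S2264SELFREC

/-! S2264 + S2265, piece PAIRS: the degree bookkeeping `2 * Aw μ ≤ Σ deg` over the non-unipotent
factors. -/

set_option autoImplicit false

namespace Cfsg.Agent.S2264P

open Polynomial
open scoped Classical

noncomputable section

variable {F : Type*} [Field F]

namespace PAIRS

/-- the sum over an image is at most the sum over the set -/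
theorem sum_image_le {α : Type*} (s : Finset α) (g : α → ℕ) :
    ∑ a ∈ s.image g, a ≤ ∑ f ∈ s, g f := by
  rw [← Finset.sum_fiberwise_of_maps_to (g := g) (t := s.image g)
    (fun f hf => Finset.mem_image_of_mem g hf) g]
  apply Finset.sum_le_sum
  intro a ha
  obtain ⟨f, hf, rfl⟩ := Finset.mem_image.mp ha
  have hmem : f ∈ s.filter (fun x => g x = g f) := by simp [hf]
  exact Finset.single_le_sum (f := g) (fun _ _ => Nat.zero_le _) hmem

/-- if every fibre contains two distinct elements, twice the sum over the image is at most the sum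
over the set -/
theorem two_mul_sum_image_le {α : Type*} (s : Finset α) (g : α → ℕ) (τ : α → α)
    (hτ : ∀ f ∈ s, τ f ∈ s ∧ g (τ f) = g f ∧ τ f ≠ f) :
    2 * ∑ a ∈ s.image g, a ≤ ∑ f ∈ s, g f := by
  rw [← Finset.sum_fiberwise_of_maps_to (g := g) (t := s.image g)
    (fun f hf => Finset.mem_image_of_mem g hf) g, Finset.mul_sum]
  apply Finset.sum_le_sum
  intro a ha
  obtain ⟨f, hf, rfl⟩ := Finset.mem_image.mp ha
  obtain ⟨h1, h2, h3⟩ := hτ f hf
  have hsub : ({f, τ f} : Finset α) ⊆ s.filter (fun x => g x = g f) := by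
    intro x hx
    rcases Finset.mem_insert.mp hx with rfl | hx
    · simp [hf]
    · rw [Finset.mem_singleton] at hx
      subst hx
      simp [h1, h2]
  calc 2 * g f = ∑ x ∈ ({f, τ f} : Finset α), g x := by
        rw [Finset.sum_pair (Ne.symm h3), h2]; ring
    _ ≤ ∑ x ∈ s.filter (fun x => g x = g f), g x :=
        Finset.sum_le_sum_of_subset hsub

end PAIRS

open PAIRS in
theorem two_mul_Aw_le_sum [Fintype F] {μ : F[X]} (hμ : Good μ) :
    2 * Aw μ ≤ ∑ f ∈ Sm μ ∪ Sp μ, f.natDegree := by
  have hμ0 : μ ≠ 0 := hμ.monic.ne_zero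
  have hdisj : Disjoint (Sm μ) (Sp μ) := by
    rw [Finset.disjoint_left]
    intro f h1 h2
    have a1 := (Finset.mem_filter.mp h1).2.1
    have a2 := (Finset.mem_filter.mp h2).2
    exact a2 a1
  rw [Finset.sum_union hdisj, Aw, mul_add]
  apply Nat.add_le_add
  · -- self-reciprocal factors
    have h1 : ∑ f ∈ Sm μ, f.natDegree = 2 * ∑ f ∈ Sm μ, f.natDegree / 2 := by
      rw [Finset.mul_sum]
      apply Finset.sum_congr rfl
      intro f hf
      obtain ⟨hfac, hr, hu⟩ := Finset.mem_filter.mp hf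
      obtain ⟨hirr, hmon, _⟩ := (mem_facs hμ0).mp hfac
      obtain ⟨_, ⟨c, hc⟩, _⟩ := selfrec_even hirr hmon hr hu
      omega
    rw [h1]
    apply Nat.mul_le_mul_left
    have := sum_image_le (Sm μ) (fun f => f.natDegree / 2)
    simpa [Dm] using this
  · -- pairs `f, recip f`
    have := two_mul_sum_image_le (Sp μ) (fun f => f.natDegree) recip (by
      intro f hf
      obtain ⟨hfac, hne⟩ := Finset.mem_filter.mp hf
      obtain ⟨hirr, hmon, _⟩ := (mem_facs hμ0).mp hfac
      have h0 : f.coeff 0 ≠ 0 := coeff_zero_ne_zero_of_mem_facs hμ.coeff0 hfac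
      refine ⟨?_, natDegree_recip h0, hne⟩
      refine Finset.mem_filter.mpr ⟨recip_mem_facs hμ hfac, ?_⟩
      rw [recip_recip hmon h0]
      exact fun h => hne h.symm)
    simpa [Dp] using this

end

end Cfsg.Agent.S2264P
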