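import Mathlib
import Cfsg.Agent.Helper29.S2264Defs
import Cfsg.Agent.Helper19.S2264RECIP1
import Cfsg.Agent.Helper26.S2264RECIP2

/-! S2264 + S2265, piece MINREV: the minimal polynomial of a matrix preserving a nondegenerate
bilinear form is self-reciprocal. -/

set_option autoImplicit false

namespace Cfsg.Agent.S2264P

open Polynomial
open scoped Classical

noncomputable section

variable {F : Type*} [Field F]

namespace MINREV

variable {ι : Type*} [Fintype ι] [DecidableEq ι]

theorem aeval_transpose (M : Matrix ι ι F) (f : F[X]) :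
    aeval M.transpose f = (aeval M f).transpose := by
  induction f using Polynomial.induction_on' with
  | add p q hp hq => simp [hp, hq, Matrix.transpose_add]
  | monomial n a =>
    simp [Polynomial.aeval_monomial, Matrix.transpose_pow, Matrix.transpose_smul,
      Algebra.algebraMap_eq_smul_one]

theorem aeval_semiconj {P A B : Matrix ι ι F} (h : P * A = B * P) (f : F[X]) :
    P * aeval A f = aeval B f * P := by
  have hpow : ∀ n : ℕ, P * A ^ n = B ^ n * P := by
    intro n
    induction n with
    | zero => simp
    | succ n ih => rw [pow_succ, ← mul_assoc, ih, mul_assoc, h, ← mul_assoc, ← pow_succ]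
  induction f using Polynomial.induction_on' with
  | add p q hp hq => simp [hp, hq, mul_add, add_mul]
  | monomial n a =>
    simp only [Polynomial.aeval_monomial, Algebra.algebraMap_eq_smul_one, Matrix.smul_mul,
      Matrix.mul_smul, one_mul, hpow n]

end MINREV

open MINREV in
theorem good_minpoly {ι : Type*} [Fintype ι] [DecidableEq ι] (A P : Matrix ι ι F)
    (hP : IsUnit P.det) (h : A.transpose * P * A = P) : Good (minpoly F A) := by
  -- `A` is invertible
  have hA : IsUnit A.det := by
    have h1 := congrArg Matrix.det h
    rw [Matrix.det_mul, Matrix.det_mul, Matrix.det_transpose] at h1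
    have hP0 : P.det ≠ 0 := hP.ne_zero
    have h2 : A.det * A.det = 1 := by
      have : (A.det * A.det) * P.det = 1 * P.det := by
        rw [one_mul]; nth_rewrite 2 [← h1]; ring
      exact mul_right_cancel₀ hP0 this
    exact IsUnit.of_mul_eq_one _ h2
  have hAt : IsUnit A.transpose.det := by rwa [Matrix.det_transpose]
  have hint : IsIntegral F A := Matrix.isIntegral A
  have hmon : (minpoly F A).Monic := minpoly.monic hint
  have hne : minpoly F A ≠ 0 := hmon.ne_zero
  -- constant coefficient
  have h0 : (minpoly F A).coeff 0 ≠ 0 := by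
    intro hc
    obtain ⟨g, hg⟩ := Polynomial.X_dvd_iff.mpr hc
    have hg0 : g ≠ 0 := by
      rintro rfl
      rw [mul_zero] at hg
      exact hne hg
    have h1 : aeval A (minpoly F A) = 0 := minpoly.aeval F A
    rw [hg, map_mul, Polynomial.aeval_X] at h1
    have h2 : aeval A g = 0 := by
      have := congrArg (fun M => A⁻¹ * M) h1
      simpa [← mul_assoc, Matrix.nonsing_inv_mul A hA] using this
    have h3 : minpoly F A ∣ g := minpoly.dvd F A h2
    have h4 := Polynomial.natDegree_le_of_dvd h3 hg0
    rw [hg, Polynomial.natDegree_X_mul hg0] at h4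
    omega
  -- the intertwining relation
  have hB : P * A = (A.transpose)⁻¹ * P := by
    have := congrArg (fun M => (A.transpose)⁻¹ * M) h
    simp only [← mul_assoc, Matrix.nonsing_inv_mul A.transpose hAt, one_mul] at this
    exact this
  have h1 : aeval ((A.transpose)⁻¹) (minpoly F A) = 0 := by
    have h2 := aeval_semiconj hB (minpoly F A)
    rw [minpoly.aeval, mul_zero] at h2
    have := congrArg (fun M => M * P⁻¹) h2
    simpa [mul_assoc, Matrix.mul_nonsing_inv P hP] using this.symm
  have h2 : aeval A⁻¹ (minpoly F A) = 0 := by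
    rw [← Matrix.transpose_nonsing_inv, aeval_transpose] at h1
    simpa using congrArg Matrix.transpose h1
  -- `A` annihilates the reciprocal polynomial
  have h3 : aeval A (recip (minpoly F A)) = 0 := by
    have hu1 : (((Matrix.nonsingInvUnit A hA)⁻¹ : (Matrix ι ι F)ˣ) : Matrix ι ι F) = A⁻¹ := rfl
    have hu2 : ((((Matrix.nonsingInvUnit A hA)⁻¹)⁻¹ : (Matrix ι ι F)ˣ) : Matrix ι ι F) = A := by
      rw [inv_inv]; rfl
    have := aeval_inv_recip (R := Matrix ι ι F) h0 ((Matrix.nonsingInvUnit A hA)⁻¹) (by
      rw [hu1]; exact h2)
    rwa [hu2] at this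
  have h4 : minpoly F A ∣ recip (minpoly F A) := minpoly.dvd F A h3
  refine ⟨hmon, h0, ?_⟩
  exact Polynomial.eq_of_monic_of_dvd_of_natDegree_le hmon (recip_monic h0) h4
    (natDegree_recip h0).le

end

end Cfsg.Agent.S2264P
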