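import Mathlib
import Cfsg.Agent.Helper27.S0996Defs
import Cfsg.Agent.Helper11.S0996GS
import Cfsg.Agent.Helper24.ColumnOrth
import Cfsg.Agent.Helper24.Span
import Cfsg.Agent.Helper5.CharKer
import Cfsg.Agent.Helper8.DualGroup
import Cfsg.Agent.Helper8.Ind

set_option autoImplicit false
set_option maxHeartbeats 800000

/-!
# S0996, piece FA: for `e = 2`, `ε = -1` the exceptional characters (of degree `p - 2`) are faithful
-/

namespace Cfsg.Agent.S0996P

open Cfsg Cfsg.Agent.Helper24 Cfsg.Agent.Helper1.W2p Cfsg.Agent.Helper5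
open scoped Pointwise

universe u

variable {G : Type u} [Group G]

section L6
variable [Fintype G] [Fintype (IrrCharacter G)] {p : ℕ} [Fact p.Prime] {P : Subgroup G} {n : ℕ}
  [Fintype (Lin P)]

/-- FA -/
theorem faithful_of_eN_two (B : Basic p P n) (D : BrauerData p P) (T : Dict p P n D)
    (S : Struc p P n D) (hε : D.ε = -1) (he : eN P = 2) (ht : Nat.card D.Y = n + 1)
    (hY : ∀ ψ ∈ D.Y, D.a ψ = 1 ∧ irrDeg ψ + eN P = p) (φ₀ : Lin P) (hφ₁ : φ₀ ≠ 1)
    (hφ₀ : ∀ ψ ∈ D.Y, mult P φ₀ ψ = 1) (ψ : IrrCharacter G) (hψ : ψ ∈ D.Y) :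
    ∀ g : G, (ψ : G → ℂ) g = (ψ : G → ℂ) 1 → g = 1 := by
  classical
  intro g hg
  by_contra hg1
  have hp : p.Prime := Fact.out
  have h5 : 5 ≤ p := B.five_le
  have hεC : (D.ε : ℂ) = -1 := by rw [hε]; norm_num
  -- degrees of the exceptional characters
  have hdegY : ∀ ψ' ∈ D.Y, irrDeg ψ' = p - 2 := by
    intro ψ' hψ'
    have := (hY ψ' hψ').2
    omega
  have hψ1 : (ψ : G → ℂ) 1 = ((p : ℂ) - 2) := by
    rw [irrDeg_spec, hdegY ψ hψ, Nat.cast_sub (by omega)]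
    norm_num
  have hcf : IsClassFunction G (ψ : G → ℂ) := isClassFunction_irr ψ
  -- Step 1: `g` is `p`-regular
  have hreg : ¬ p ∣ orderOf g := by
    intro hdiv
    have hgK : g ∈ charKer ψ := (mem_charKer ψ g).mpr hg
    obtain ⟨y₀, hy₀⟩ : ∃ y₀ : G, y₀ = g ^ (orderOf g / p) := ⟨_, rfl⟩
    have hy₀ord : orderOf y₀ = p := by
      rw [hy₀]; exact orderOf_pow_orderOf_div (orderOf_pos g).ne' hdiv
    have hy₀K : y₀ ∈ charKer ψ := by rw [hy₀]; exact Subgroup.pow_mem _ hgK _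
    obtain ⟨S₀, hS₀⟩ := exists_sylow_eq B.toHyp
    -- conjugate `y₀` into `P`
    have hpg : IsPGroup p (Subgroup.zpowers y₀) := by
      apply IsPGroup.of_card (n := 1)
      rw [Nat.card_zpowers, hy₀ord, pow_one]
    obtain ⟨Q, hQ⟩ := hpg.exists_le_sylow
    obtain ⟨x, hx⟩ := MulAction.exists_smul_eq G Q S₀
    have hyP : x * y₀ * x⁻¹ ∈ P := by
      have hmem : MulAut.conj x • y₀ ∈ MulAut.conj x • (Q : Subgroup G) :=
        Subgroup.smul_mem_pointwise_smul _ _ _ (hQ (Subgroup.mem_zpowers y₀))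
      rw [← hS₀, ← hx, Sylow.smul_def, Sylow.pointwise_smul_def]
      exact hmem
    have hy1 : x * y₀ * x⁻¹ ≠ 1 := by
      intro h
      have : y₀ = 1 := by
        have h2 : y₀ = x⁻¹ * (x * y₀ * x⁻¹) * x := by group
        rw [h2, h]; group
      rw [this, orderOf_one] at hy₀ord
      exact hp.one_lt.ne hy₀ord
    obtain ⟨y, hydef⟩ : ∃ y : G, y = x * y₀ * x⁻¹ := ⟨_, rfl⟩
    rw [← hydef] at hyP hy1
    have hψy : (ψ : G → ℂ) y = (p : ℂ) - 2 := by
      rw [hydef, hcf y₀ x, ← hψ1]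
      exact (mem_charKer ψ y₀).mp hy₀K
    have hval := D.val_Y ψ hψ y hyP hy1
    rw [hψy, hεC] at hval
    have hLy : D.Lam ψ y = -((p : ℂ) - 2) := by linear_combination hval
    -- the norm relation
    have hnorm := D.Lam_norm ψ hψ
    haveI : Fintype ↥P := Fintype.ofFinite _
    rw [finsum_eq_sum_of_fintype, he] at hnorm
    have hsq : ∀ z : ↥P, D.Lam ψ (z : G) * (starRingEnd ℂ) (D.Lam ψ (z : G)) =
        ((Complex.normSq (D.Lam ψ (z : G)) : ℝ) : ℂ) := fun z => Complex.mul_conj _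
    rw [Finset.sum_congr rfl (fun z _ => hsq z), ← Complex.ofReal_sum] at hnorm
    have hnormR : ∑ z : ↥P, Complex.normSq (D.Lam ψ (z : G)) = ((p * 2 : ℕ) : ℝ) := by
      have := congrArg Complex.re hnorm
      simpa using this
    have hle := Finset.add_le_sum (s := (Finset.univ : Finset ↥P))
      (f := fun z : ↥P => Complex.normSq (D.Lam ψ (z : G)))
      (fun z _ => Complex.normSq_nonneg _) (Finset.mem_univ (1 : ↥P))
      (Finset.mem_univ (⟨y, hyP⟩ : ↥P)) (by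
        intro h
        apply hy1
        exact (congrArg Subtype.val h).symm)
    rw [hnormR] at hle
    simp only [Subgroup.coe_one] at hle
    rw [D.Lam_one ψ hψ, he, hLy] at hle
    have h1 : Complex.normSq ((2 : ℕ) : ℂ) = 4 := by
      rw [Complex.normSq_natCast]; norm_num
    have h2 : Complex.normSq (-((p : ℂ) - 2)) = ((p : ℝ) - 2) ^ 2 := by
      rw [Complex.normSq_neg]
      have : ((p : ℂ) - 2) = (((p : ℝ) - 2 : ℝ) : ℂ) := by push_cast; ring
      rw [this, Complex.normSq_ofReal]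
      ring
    rw [h1, h2] at hle
    have hpR : (5 : ℝ) ≤ p := by exact_mod_cast h5
    push_cast at hle
    nlinarith
  -- Step 2: the two characters of `X`
  have hXcard : (XF D).card = 2 := by rw [card_XF, he]
  have htrivX : trivIrr G ∈ XF D := (mem_XF D _).mpr D.triv_mem
  have herase : ((XF D).erase (trivIrr G)).card = 1 := by
    rw [Finset.card_erase_of_mem htrivX, hXcard]
  obtain ⟨χ₁, hχ₁⟩ := Finset.card_eq_one.mp herase
  have hχ₁mem : χ₁ ∈ (XF D).erase (trivIrr G) := by rw [hχ₁]; exact Finset.mem_singleton_self _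
  have hχ₁ne : χ₁ ≠ trivIrr G := (Finset.mem_erase.mp hχ₁mem).1
  have hχ₁X : χ₁ ∈ D.X := (mem_XF D _).mp (Finset.mem_erase.mp hχ₁mem).2
  have hXF : XF D = insert (trivIrr G) {χ₁} := by
    rw [← hχ₁, Finset.insert_erase htrivX]
  have hδ₁ : D.δ χ₁ = -1 := by
    rcases D.δ_pm χ₁ hχ₁X with h | h
    · exfalso
      have hmem : χ₁ ∈ Xp D := (mem_Xp D χ₁).mpr ⟨hχ₁X, h, hχ₁ne⟩
      have hpos : 0 < (Xp D).card := Finset.card_pos.mpr ⟨χ₁, hmem⟩
      have h1 := S.star_neg hε ψ hψ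
      rw [(hY ψ hψ).1, he] at h1
      have h2 : 0 < (n + 1) * (Xp D).card := Nat.mul_pos (Nat.succ_pos n) hpos
      omega
    · exact h
  -- the relation on `p`-regular elements
  have hrel : ∀ ψ' ∈ D.Y, ∀ g' : G, ¬ p ∣ orderOf g' →
      (χ₁ : G → ℂ) g' = 1 + (ψ' : G → ℂ) g' := by
    intro ψ' hψ' g' hg'
    have h1 := D.rel ψ' hψ' g' hg'
    rw [finsum_mem_eq_finite_toFinset_sum _ (Set.toFinite D.X)] at h1
    change ∑ χ ∈ XF D, (D.δ χ : ℂ) * (χ : G → ℂ) g' = _ at h1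
    rw [hXF, Finset.sum_insert (by
      rw [Finset.mem_singleton]; exact fun h => hχ₁ne h.symm), Finset.sum_singleton, D.δ_triv,
      hδ₁, hεC] at h1
    have h2 : (trivIrr G : G → ℂ) g' = 1 := rfl
    rw [h2] at h1
    push_cast at h1
    linear_combination -h1
  have hreg1 : ¬ p ∣ orderOf (1 : G) := by rw [orderOf_one]; exact hp.not_dvd_one
  have hχ₁1 : (χ₁ : G → ℂ) 1 = (p : ℂ) - 1 := by
    rw [hrel ψ hψ 1 hreg1, hψ1]; ring
  have hχ₁g : (χ₁ : G → ℂ) g = (p : ℂ) - 1 := by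
    rw [hrel ψ hψ g hreg, hg, hψ1]; ring
  have hYg : ∀ ψ' ∈ D.Y, (ψ' : G → ℂ) g = (p : ℂ) - 2 := by
    intro ψ' hψ'
    have := hrel ψ' hψ' g hreg
    rw [hχ₁g] at this
    linear_combination -this
  -- Step 3: the multiplicities of `ψ`
  have hmultψ : ∀ φ : Lin P, φ ≠ φ₀ → mult P φ ψ = 0 := by
    intro φ hφ
    have h1 := T.sumY ψ hψ
    rw [(hY ψ hψ).1, ← Finset.add_sum_erase Finset.univ _ (Finset.mem_univ φ₀), hφ₀ ψ hψ] at h1
    have h2 : ∑ x ∈ Finset.univ.erase φ₀, mult P x ψ = 0 := by omega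
    exact Finset.sum_eq_zero_iff.mp h2 φ (Finset.mem_erase.mpr ⟨hφ, Finset.mem_univ _⟩)
  -- Step 4: no conjugate of `g` lies in `N`
  have hnoN : ∀ x : G, x⁻¹ * g * x ∉ NP P := by
    intro x hmem
    obtain ⟨h, hh⟩ : ∃ h : G, h = x⁻¹ * g * x := ⟨_, rfl⟩
    rw [← hh] at hmem
    have hψh : (ψ : G → ℂ) h = (p : ℂ) - 2 := by
      have : h = x⁻¹ * g * (x⁻¹)⁻¹ := by rw [inv_inv]; exact hh
      rw [this, hcf g x⁻¹, hg, hψ1]
    have hord : orderOf h = orderOf g := by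
      have : h = MulAut.conj x⁻¹ g := by
        rw [MulAut.conj_apply, inv_inv]; exact hh
      rw [this, MulEquiv.orderOf_eq]
    have hh1 : h ≠ 1 := by
      intro h1
      apply hg1
      have h2 : g = x * h * x⁻¹ := by rw [hh]; group
      rw [h2, h1]; group
    have hhP : h ∉ P := by
      intro hP
      have h1 : orderOf (⟨h, hP⟩ : ↥P) ∣ Nat.card ↥P := orderOf_dvd_natCard _
      rw [B.card_P] at h1
      have h2 : orderOf (⟨h, hP⟩ : ↥P) = orderOf h := Subgroup.orderOf_mk h hP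
      rw [h2] at h1
      rcases (Nat.dvd_prime hp).mp h1 with h3 | h3
      · exact hh1 (orderOf_eq_one_iff.mp h3)
      · apply hreg
        rw [← hord, h3]
    have hval := T.val ψ ⟨h, hmem⟩ hhP
    rw [← Finset.add_sum_erase Finset.univ _ (Finset.mem_univ φ₀), hφ₀ ψ hψ] at hval
    have h2 : ∑ x ∈ Finset.univ.erase φ₀, (mult P x ψ : ℂ) * lam P x ⟨h, hmem⟩ = 0 := by
      apply Finset.sum_eq_zero
      intro φ hφ
      rw [hmultψ φ (Finset.mem_erase.mp hφ).1]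
      simp
    rw [h2, add_zero, Nat.cast_one, one_mul] at hval
    have hn1 : ‖lam P φ₀ ⟨h, hmem⟩‖ = 1 := by
      unfold lam
      have : Finite (QP P) := inferInstance
      exact Cfsg.Agent.Helper8.norm_hom_units φ₀ _
    have hval' : (ψ : G → ℂ) h = lam P φ₀ ⟨h, hmem⟩ := hval
    rw [← hval', hψh] at hn1
    have h3 : ((p : ℂ) - 2) = (((p : ℝ) - 2 : ℝ) : ℂ) := by push_cast; ring
    rw [h3, Complex.norm_real, Real.norm_eq_abs] at hn1
    have hpR : (5 : ℝ) ≤ p := by exact_mod_cast h5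
    rw [abs_of_nonneg (by linarith)] at hn1
    linarith
  -- Step 5: `π(g) = 0`
  have hπ : indL P (1 : Lin P) g = 0 := by
    unfold indL
    rw [Cfsg.Agent.Helper8.indFun_def]
    rw [Finset.sum_eq_zero, mul_zero]
    intro x _
    exact Cfsg.Agent.Helper8.ebz_not_mem _ _ (hnoN x)
  have hπ' : ∑ χ : IrrCharacter G, (mult P (1 : Lin P) χ : ℂ) * (χ : G → ℂ) g = 0 := by
    have h1 := congrFun (T.expand (1 : Lin P)) g
    rw [hπ, Finset.sum_apply] at h1
    rw [h1]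
    apply Finset.sum_congr rfl
    intro χ _
    rfl
  -- Step 6: column orthogonality
  have horth : ∑ χ : IrrCharacter G, (irrDeg χ : ℂ) * (χ : G → ℂ) g = 0 := by
    have h1 := sum_irr_mul_conj g (1 : G)
    rw [if_neg (by
      intro hc
      apply hg1
      exact isConj_one_left.mp hc)] at h1
    rw [← h1]
    apply Finset.sum_congr rfl
    intro χ _
    rw [irrDeg_spec, Complex.conj_natCast, mul_comm]
  -- combine
  have hcomb : ∑ χ : IrrCharacter G,
      ((irrDeg χ : ℂ) - (p : ℂ) * (mult P (1 : Lin P) χ : ℂ)) * (χ : G → ℂ) g = 0 := by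
    have : ∀ χ : IrrCharacter G,
        ((irrDeg χ : ℂ) - (p : ℂ) * (mult P (1 : Lin P) χ : ℂ)) * (χ : G → ℂ) g =
        (irrDeg χ : ℂ) * (χ : G → ℂ) g - (p : ℂ) * ((mult P (1 : Lin P) χ : ℂ) * (χ : G → ℂ) g) := by
      intro χ; ring
    rw [Finset.sum_congr rfl (fun χ _ => this χ), Finset.sum_sub_distrib, ← Finset.mul_sum, horth,
      hπ', mul_zero, sub_zero]
  have hdisj : Disjoint (XF D) (YF D) := by
    rw [Finset.disjoint_left]
    intro χ hX hY'
    exact (Set.disjoint_left.mp D.disj) ((mem_XF D χ).mp hX) ((mem_YF D χ).mp hY')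
  have hsub : ∑ χ ∈ XF D ∪ YF D,
      ((irrDeg χ : ℂ) - (p : ℂ) * (mult P (1 : Lin P) χ : ℂ)) * (χ : G → ℂ) g = 0 := by
    rw [← hcomb]
    apply Finset.sum_subset (Finset.subset_univ _)
    intro χ _ hχ
    rw [Finset.mem_union, not_or, mem_XF, mem_YF] at hχ
    rw [S.other χ hχ.1 hχ.2]
    push_cast
    ring
  rw [Finset.sum_union hdisj] at hsub
  -- the `Y` part
  have hYsum : ∑ χ ∈ YF D,
      ((irrDeg χ : ℂ) - (p : ℂ) * (mult P (1 : Lin P) χ : ℂ)) * (χ : G → ℂ) g =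
      ((n : ℂ) + 1) * (((p : ℂ) - 2) * ((p : ℂ) - 2)) := by
    have : ∀ χ ∈ YF D, ((irrDeg χ : ℂ) - (p : ℂ) * (mult P (1 : Lin P) χ : ℂ)) * (χ : G → ℂ) g =
        ((p : ℂ) - 2) * ((p : ℂ) - 2) := by
      intro χ hχ
      have hχY := (mem_YF D χ).mp hχ
      rw [S.pi_zero χ (Or.inr hχY), hYg χ hχY, hdegY χ hχY, Nat.cast_sub (by omega)]
      push_cast
      ring
    rw [Finset.sum_congr rfl this, Finset.sum_const, card_YF, ht, nsmul_eq_mul]
    push_cast
    ring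
  -- the `X` part
  have hXsum : ∑ χ ∈ XF D,
      ((irrDeg χ : ℂ) - (p : ℂ) * (mult P (1 : Lin P) χ : ℂ)) * (χ : G → ℂ) g =
      (1 - (p : ℂ)) + ((p : ℂ) - 1) * ((p : ℂ) - 1) := by
    rw [hXF, Finset.sum_insert (by
      rw [Finset.mem_singleton]; exact fun h => hχ₁ne h.symm), Finset.sum_singleton]
    have h1 : (irrDeg (trivIrr G) : ℂ) = 1 := by
      rw [← irrDeg_spec]; rfl
    have h2 : (trivIrr G : G → ℂ) g = 1 := rfl
    have h3 : (irrDeg χ₁ : ℂ) = (p : ℂ) - 1 := by rw [← irrDeg_spec, hχ₁1]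
    rw [h1, h2, T.triv_one, S.pi_zero χ₁ (Or.inl ⟨hχ₁X, hχ₁ne⟩), h3, hχ₁g]
    push_cast
    ring
  rw [hXsum, hYsum] at hsub
  -- contradiction in `ℝ`
  have hR : (1 - (p : ℝ)) + ((p : ℝ) - 1) * ((p : ℝ) - 1) +
      ((n : ℝ) + 1) * (((p : ℝ) - 2) * ((p : ℝ) - 2)) = 0 := by
    have := congrArg Complex.re hsub
    simpa using this
  have hpR : (5 : ℝ) ≤ p := by exact_mod_cast h5
  have hnR : (0 : ℝ) ≤ n := Nat.cast_nonneg n
  nlinarith [mul_nonneg (add_nonneg hnR zero_le_one) (mul_self_nonneg ((p : ℝ) - 2))]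

end L6

end Cfsg.Agent.S0996P
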