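import Mathlib
import Cfsg.Agent.Helper27.S0996Defs
import Cfsg.Agent.Helper24.Induced
import Cfsg.Agent.Helper24.Expansion
import Cfsg.Agent.Helper24.Linear
import Cfsg.Agent.Helper8.DualGroup
import Cfsg.Agent.Helper8.Ind

set_option autoImplicit false

/-!
# S0996, piece IND1: the induced characters `Λ_φ` and their multiplicities
-/

namespace Cfsg.Agent.Helper21.S0996IND1

open Cfsg Cfsg.Agent.Helper24 Cfsg.Agent.Helper1.W2p Cfsg.Agent.S0996P

universe u

variable {G : Type u} [Group G]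

/-- the monoid hom `N → ℂ` of `φ ∈ L` -/
noncomputable def lamHom (P : Subgroup G) (φ : Lin P) : ↥(NP P) →* ℂ :=
  (Units.coeHom ℂ).comp (φ.comp (QuotientGroup.mk' (P.subgroupOf (NP P))))

theorem lamHom_apply (P : Subgroup G) (φ : Lin P) (h : ↥(NP P)) : lamHom P φ h = lam P φ h := rfl

theorem isCharacter_lam (P : Subgroup G) (φ : Lin P) : IsCharacter ↥(NP P) (lam P φ) := by
  have := isCharacter_of_monoidHom (lamHom P φ)
  exact this

theorem conj_indFun [Fintype G] (T : Subgroup G) (σ : T → ℂ) (x : G) :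
    (starRingEnd ℂ) (indFun T σ x) = indFun T (fun t : T => (starRingEnd ℂ) (σ t)) x := by
  rw [Cfsg.Agent.Helper8.indFun_def, Cfsg.Agent.Helper8.indFun_def, map_mul, map_sum, map_inv₀,
    Complex.conj_natCast]
  congr 1
  refine Finset.sum_congr rfl ?_
  intro y _
  by_cases hy : y⁻¹ * x * y ∈ T
  · rw [Cfsg.Agent.Helper8.ebz_mem T σ hy, Cfsg.Agent.Helper8.ebz_mem T _ hy]
  · rw [Cfsg.Agent.Helper8.ebz_not_mem T σ hy, Cfsg.Agent.Helper8.ebz_not_mem T _ hy, map_zero]

end Cfsg.Agent.Helper21.S0996IND1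

namespace Cfsg.Agent.S0996P

open Cfsg Cfsg.Agent.Helper24 Cfsg.Agent.Helper1.W2p Cfsg.Agent.Helper21.S0996IND1

universe u

variable {G : Type u} [Group G]

section L2b
variable [Fintype G] [Fintype (IrrCharacter G)] {P : Subgroup G}

/-- IND1 -/
theorem dict0 (P : Subgroup G) : Dict0 P := by
  have hchar : ∀ φ : Lin P, IsCharacter G (indL P φ) := fun φ =>
    isCharacter_indFun (NP P) (isCharacter_lam P φ)
  have hinner : ∀ (φ : Lin P) (χ : IrrCharacter G),
      Cfsg.classInner (indL P φ) (χ : G → ℂ) = (mult P φ χ : ℂ) := by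
    intro φ χ
    obtain ⟨m, hm⟩ := IsCharacter.classInner_irr_nat (hchar φ) χ
    unfold mult
    rw [hm]
    simp
  refine ⟨hchar, hinner, ?_, ?_⟩
  · intro φ
    have h := IsCharacter.eq_sum_classInner (hchar φ)
    have h2 : (fun ψ : IrrCharacter G => Cfsg.classInner (indL P φ) (ψ : G → ℂ) • (ψ : G → ℂ)) =
        fun ψ : IrrCharacter G => (mult P φ ψ : ℂ) • (ψ : G → ℂ) := by
      funext ψ
      rw [hinner φ ψ]
    rw [h2] at h
    exact h
  · intro φ
    funext g
    unfold indL
    rw [conj_indFun]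
    congr 1
    funext t
    unfold lam
    have : Finite (QP P) := inferInstance
    rw [Cfsg.Agent.Helper8.conj_hom_units]

end L2b

end Cfsg.Agent.S0996P
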