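import Mathlib
import Cfsg.Agent.Helper27.S0996Defs
import Cfsg.Agent.Helper24.Linear
import Cfsg.Agent.Helper8.DualGroup
import Cfsg.Agent.Helper8.Ind

set_option autoImplicit false

/-!
# S0996, piece IND3: the multiplicity of the trivial character in `Λ_φ`
-/

namespace Cfsg.Agent.S0996P

open Cfsg Cfsg.Agent.Helper24 Cfsg.Agent.Helper1.W2p

universe u

variable {G : Type u} [Group G]

section L3
variable [Fintype G] [Fintype (IrrCharacter G)] {p : ℕ} [Fact p.Prime] {P : Subgroup G} {n : ℕ}
  [Fintype (Lin P)]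

/-- IND3 -/
theorem mult_triv (B : Basic p P n) (T0 : Dict0 P) :
    mult P (1 : Lin P) (trivIrr G) = 1 ∧ ∀ φ : Lin P, φ ≠ 1 → mult P φ (trivIrr G) = 0 := by
  classical
  have : Fintype ↥(NP P) := Fintype.ofFinite _
  have key : ∀ φ : Lin P, (mult P φ (trivIrr G) : ℂ) = if φ = 1 then 1 else 0 := by
    intro φ
    rw [← T0.inner φ (trivIrr G)]
    unfold indL
    rw [Cfsg.Agent.Helper8.frobenius_reciprocity (NP P) (lam P φ) _
      (isClassFunction_irr (trivIrr G))]
    have h := Cfsg.Agent.Helper8.classInner_hom_units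
      (φ.comp (QuotientGroup.mk' (P.subgroupOf (NP P)))) (1 : ↥(NP P) →* ℂˣ)
    have h2 : (fun w : ↥(NP P) => (((1 : ↥(NP P) →* ℂˣ) w : ℂˣ) : ℂ)) =
        fun h : ↥(NP P) => (trivIrr G : G → ℂ) h := by
      funext w
      simp
    rw [h2] at h
    have h3 : (fun w : ↥(NP P) =>
        (((φ.comp (QuotientGroup.mk' (P.subgroupOf (NP P)))) w : ℂˣ) : ℂ)) = lam P φ := rfl
    rw [h3] at h
    rw [h]
    have h4 : φ.comp (QuotientGroup.mk' (P.subgroupOf (NP P))) = 1 ↔ φ = 1 := by
      constructor
      · intro h5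
        apply MonoidHom.ext
        intro q
        obtain ⟨w, rfl⟩ := QuotientGroup.mk'_surjective (P.subgroupOf (NP P)) q
        have := DFunLike.congr_fun h5 w
        simpa using this
      · intro h5
        rw [h5]
        ext w
        simp
    by_cases hφ : φ = 1
    · rw [if_pos hφ, if_pos (h4.mpr hφ)]
    · rw [if_neg hφ, if_neg (fun h5 => hφ (h4.mp h5))]
  constructor
  · have := key 1
    rw [if_pos rfl] at this
    exact_mod_cast this
  · intro φ hφ
    have := key φ
    rw [if_neg hφ] at this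
    exact_mod_cast this

end L3

end Cfsg.Agent.S0996P
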