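import Mathlib
import Cfsg.Prelude.Def_Characters
import Cfsg.Agent.Helper1.W2pDefs
import Cfsg.Agent.Helper20.PermCharH
import Cfsg.Agent.Helper24.Orthogonality
import Cfsg.Agent.Helper24.Expansion
import Cfsg.Agent.Helper24.Product
import Cfsg.Agent.Helper24.RealChar

/-!
# S4707 piece MOMa: the five moment identities

`Φ₀ = 1 + χ₁` and `Φ₁ = χ₁ + Σ_Y ψ'` vanish off `reg`; taking inner products with
`1`, `ψ`, `ψ ψ̄` gives five identities for the integer valued function `x = χ₁ - 1`.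
-/

open Cfsg Cfsg.Agent.Helper24 Cfsg.Agent.Helper1.W2p MulAction

universe u v

namespace Cfsg.Agent.Helper21.S4707

/-- From `⟨f, Φ⟩ = c` and a pointwise integer formula for `f g * conj (Φ g)` supported on `reg`,
get the integer identity. -/
theorem sum_of_classInner {H : Type u} [Group H] [Fintype H]
    (reg : H → Prop) [DecidablePred reg] (f Φ : H → ℂ) (a : H → ℤ) (c : ℤ)
    (h : ∀ g, f g * (starRingEnd ℂ) (Φ g) = if reg g then (a g : ℂ) else 0)
    (hc : classInner f Φ = (c : ℂ)) :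
    (∑ g : H, if reg g then a g else 0) = c * (Fintype.card H : ℤ) := by
  unfold classInner at hc
  have hH : (Nat.card H : ℂ) ≠ 0 := by
    exact_mod_cast (Nat.card_pos (α := H)).ne'
  have h1 : ∑ g : H, f g * (starRingEnd ℂ) (Φ g) =
      (((∑ g : H, if reg g then a g else 0 : ℤ)) : ℂ) := by
    push_cast
    refine Finset.sum_congr rfl ?_
    intro g _
    rw [h g]
  rw [h1] at hc
  have h2 : (((∑ g : H, if reg g then a g else 0 : ℤ)) : ℂ) = (c : ℂ) * (Nat.card H : ℂ) := by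
    rw [← hc]
    field_simp
  rw [Nat.card_eq_fintype_card] at h2
  exact_mod_cast h2

theorem moment_identities {H : Type u} [Group H] [Fintype H] (p : ℕ) (hp5 : 5 ≤ p)
    (reg : H → Prop) [DecidablePred reg]
    (χ₁ ψ : IrrCharacter H) (Y : Finset (IrrCharacter H)) (hψY : ψ ∈ Y)
    (hχY : χ₁ ∉ Y) (hχ1 : χ₁ ≠ trivIrr H) (htY : trivIrr H ∉ Y)
    (hYcard : Y.card * 2 = p - 1)
    (x : H → ℤ) (hx : ∀ g : H, (χ₁ : H → ℂ) g = (x g : ℂ) + 1)
    (hrel : ∀ ψ' ∈ Y, ∀ g : H, reg g → (ψ' : H → ℂ) g = (x g : ℂ))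
    (hvan0 : ∀ g : H, ¬ reg g → 1 + (χ₁ : H → ℂ) g = 0)
    (hvan1 : ∀ g : H, ¬ reg g → (χ₁ : H → ℂ) g + ∑ ψ' ∈ Y, (ψ' : H → ℂ) g = 0) :
    ∃ m : ℕ,
      (∑ g : H, if reg g then (x g + 2) else 0) = (Fintype.card H : ℤ) ∧
      (∑ g : H, if reg g then x g * (x g + 2) else 0) = 0 ∧
      (∑ g : H, if reg g then x g ^ 2 * (x g + 2) else 0) = (Fintype.card H : ℤ) * (1 + m) ∧
      (∑ g : H, if reg g then ((p + 1 : ℤ) * x g + 2) else 0) = 0 ∧
      (∑ g : H, if reg g then x g * ((p + 1 : ℤ) * x g + 2) else 0) = 2 * (Fintype.card H : ℤ) := by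
  classical
  let _ : Fintype (IrrCharacter H) := Fintype.ofFinite _
  -- basic facts
  have hψ1 : ψ ≠ trivIrr H := fun h => htY (h ▸ hψY)
  have hψχ : ψ ≠ χ₁ := fun h => hχY (h ▸ hψY)
  have hYc : (Y.card : ℂ) * 2 = (p : ℂ) - 1 := by
    have h1 : 1 ≤ p := by omega
    have : ((Y.card * 2 : ℕ) : ℂ) = ((p - 1 : ℕ) : ℂ) := by rw [hYcard]
    rw [Nat.cast_sub h1] at this
    push_cast at this
    exact this
  set one : H → ℂ := (trivIrr H : H → ℂ) with hone
  have hone_apply : ∀ g, one g = 1 := fun g => rfl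
  set Φ₀ : H → ℂ := one + (χ₁ : H → ℂ) with hΦ₀
  set Φ₁ : H → ℂ := (χ₁ : H → ℂ) + ∑ ψ' ∈ Y, (ψ' : H → ℂ) with hΦ₁
  -- values of Φ₀
  have hΦ₀v : ∀ g, Φ₀ g = (x g : ℂ) + 2 := by
    intro g
    simp only [hΦ₀, Pi.add_apply, hone_apply, hx g]
    ring
  have hΦ₀n : ∀ g, ¬ reg g → Φ₀ g = 0 := by
    intro g hg
    simp only [hΦ₀, Pi.add_apply, hone_apply]
    exact hvan0 g hg
  have hΦ₁r : ∀ g, reg g → 2 * Φ₁ g = ((p : ℂ) + 1) * (x g : ℂ) + 2 := by
    intro g hg
    simp only [hΦ₁, Pi.add_apply, Finset.sum_apply]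
    rw [Finset.sum_congr rfl (fun ψ' hψ' => hrel ψ' hψ' g hg), Finset.sum_const, nsmul_eq_mul,
      hx g]
    linear_combination (x g : ℂ) * hYc
  have hΦ₁n : ∀ g, ¬ reg g → Φ₁ g = 0 := by
    intro g hg
    simp only [hΦ₁, Pi.add_apply, Finset.sum_apply]
    exact hvan1 g hg
  -- the character ψ ψ̄
  have hcψ : IsCharacter H (ψ : H → ℂ) := IsIrrCharacter.isCharacter ψ.2
  set Pa : H → ℂ := (ψ : H → ℂ) * fun g => (starRingEnd ℂ) ((ψ : H → ℂ) g) with hPa
  have hPac : IsCharacter H Pa := IsCharacter.mul hcψ (isCharacter_star hcψ)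
  obtain ⟨m, hm⟩ := IsCharacter.classInner_irr_nat hPac χ₁
  have hPa1 : classInner Pa one = 1 := by
    have : classInner Pa (fun _ => (1 : ℂ)) = classInner (ψ : H → ℂ) (ψ : H → ℂ) := by
      unfold classInner
      simp only [hPa, Pi.mul_apply, map_one, mul_one]
    rw [show one = fun _ => (1 : ℂ) from rfl, this, classInner_irr_self]
  -- inner products
  have i1 : classInner one Φ₀ = ((1 : ℤ) : ℂ) := by
    rw [hΦ₀, classInner_add_right, hone, classInner_irr_self, classInner_irr_ne (Ne.symm hχ1)]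
    simp
  have i2 : classInner (ψ : H → ℂ) Φ₀ = ((0 : ℤ) : ℂ) := by
    rw [hΦ₀, classInner_add_right, hone, classInner_irr_ne hψ1, classInner_irr_ne hψχ]
    simp
  have i3 : classInner Pa Φ₀ = ((1 + (m : ℤ) : ℤ) : ℂ) := by
    rw [hΦ₀, classInner_add_right, hPa1, hm]
    push_cast
    ring
  have i4 : classInner one Φ₁ = ((0 : ℤ) : ℂ) := by
    rw [hΦ₁, classInner_add_right, classInner_sum_right, hone, classInner_irr_ne (Ne.symm hχ1)]
    rw [Finset.sum_eq_zero]
    · simp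
    · intro ψ' hψ'
      exact classInner_irr_ne (fun h => htY (h ▸ hψ'))
  have i5 : classInner (ψ : H → ℂ) Φ₁ = ((1 : ℤ) : ℂ) := by
    rw [hΦ₁, classInner_add_right, classInner_sum_right, classInner_irr_ne hψχ,
      Finset.sum_eq_single ψ]
    · rw [classInner_irr_self]; simp
    · intro ψ' _ hne
      exact classInner_irr_ne (Ne.symm hne)
    · intro h; exact absurd hψY h
  -- doubled versions for Φ₁
  have i4' : classInner one ((2 : ℂ) • Φ₁) = ((0 : ℤ) : ℂ) := by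
    rw [classInner_smul_right, i4]; simp
  have i5' : classInner (ψ : H → ℂ) ((2 : ℂ) • Φ₁) = ((2 : ℤ) : ℂ) := by
    rw [classInner_smul_right, i5, Complex.conj_ofNat]; push_cast; ring
  have hconj_int : ∀ n : ℤ, (starRingEnd ℂ) (n : ℂ) = (n : ℂ) := fun n => map_intCast _ n
  have h2c : (starRingEnd ℂ) (2 : ℂ) = 2 := Complex.conj_ofNat 2
  refine ⟨m, ?_, ?_, ?_, ?_, ?_⟩
  · have := sum_of_classInner reg one Φ₀ (fun g => x g + 2) 1 ?_ i1
    · simpa using this
    · intro g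
      by_cases hg : reg g
      · rw [if_pos hg, hΦ₀v g, hone_apply]
        simp [h2c]
      · rw [if_neg hg, hΦ₀n g hg]; simp
  · have := sum_of_classInner reg (ψ : H → ℂ) Φ₀ (fun g => x g * (x g + 2)) 0 ?_ i2
    · simpa using this
    · intro g
      by_cases hg : reg g
      · rw [if_pos hg, hΦ₀v g, hrel ψ hψY g hg]
        simp [h2c]
      · rw [if_neg hg, hΦ₀n g hg]; simp
  · have := sum_of_classInner reg Pa Φ₀ (fun g => x g ^ 2 * (x g + 2)) (1 + (m : ℤ)) ?_ i3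
    · rw [this]; ring
    · intro g
      by_cases hg : reg g
      · rw [if_pos hg, hΦ₀v g]
        simp only [hPa, Pi.mul_apply, hrel ψ hψY g hg, map_add, map_intCast, h2c]
        push_cast
        ring
      · rw [if_neg hg, hΦ₀n g hg]; simp
  · have := sum_of_classInner reg one ((2 : ℂ) • Φ₁)
      (fun g => ((p : ℤ) + 1) * x g + 2) 0 ?_ i4'
    · simpa using this
    · intro g
      by_cases hg : reg g
      · rw [if_pos hg, Pi.smul_apply, smul_eq_mul, hΦ₁r g hg, hone_apply]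
        simp [h2c]
      · rw [if_neg hg, Pi.smul_apply, hΦ₁n g hg]; simp
  · have := sum_of_classInner reg (ψ : H → ℂ) ((2 : ℂ) • Φ₁)
      (fun g => x g * (((p : ℤ) + 1) * x g + 2)) 2 ?_ i5'
    · simpa using this
    · intro g
      by_cases hg : reg g
      · rw [if_pos hg, Pi.smul_apply, smul_eq_mul, hΦ₁r g hg, hrel ψ hψY g hg]
        simp [h2c]
      · rw [if_neg hg, Pi.smul_apply, hΦ₁n g hg]; simp

end Cfsg.Agent.Helper21.S4707
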