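import Mathlib
import Cfsg.Prelude.Def_Characters
import Cfsg.Prelude.Def_Blocks
import Cfsg.Agent.Helper24.Abelian
import Cfsg.Agent.Helper24.Linear
import Cfsg.Agent.Helper1.W2pDefs
import Cfsg.Agent.Lead.S4705Defs

set_option autoImplicit false

namespace Cfsg.Agent.Helper21.S4705ARL

/-- the case `δ = -1` over the integers -/
theorem arl_neg (P M H C A b : ℤ) (hP : 5 ≤ P) (hH : 0 < H) (hA : 1 ≤ A)
    (hC : C + 1 = A * P) (hb : |b| ≤ A - 1)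
    (hid : P * M ^ 2 * C * (C + (-1)) = H * (C - b) ^ 2) :
    H * (P - 1) ^ 2 ≤ P ^ 3 * M ^ 2 := by
  have hb' : b ≤ A - 1 := le_trans (le_abs_self b) hb
  have hC' : C = A * P - 1 := by linarith
  have hY0 : 0 ≤ A * (P - 1) := by nlinarith
  have hXY : A * (P - 1) ≤ C - b := by rw [hC']; nlinarith
  have hsq : (A * (P - 1)) ^ 2 ≤ (C - b) ^ 2 := pow_le_pow_left₀ hY0 hXY 2
  have hAP : 5 ≤ A * P := by nlinarith
  have hcc : C * (C + (-1)) ≤ A ^ 2 * P ^ 2 := by rw [hC']; nlinarith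
  have hM : 0 ≤ P * M ^ 2 := by positivity
  have h1 : H * (A * (P - 1)) ^ 2 ≤ P * M ^ 2 * (A ^ 2 * P ^ 2) := by
    calc H * (A * (P - 1)) ^ 2 ≤ H * (C - b) ^ 2 := mul_le_mul_of_nonneg_left hsq hH.le
      _ = P * M ^ 2 * (C * (C + (-1))) := by rw [← hid]; ring
      _ ≤ P * M ^ 2 * (A ^ 2 * P ^ 2) := mul_le_mul_of_nonneg_left hcc hM
  have hA2 : 0 < A ^ 2 := by positivity
  apply le_of_mul_le_mul_left _ hA2
  calc A ^ 2 * (H * (P - 1) ^ 2) = H * (A * (P - 1)) ^ 2 := by ring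
    _ ≤ P * M ^ 2 * (A ^ 2 * P ^ 2) := h1
    _ = A ^ 2 * (P ^ 3 * M ^ 2) := by ring

/-- the case `δ = 1` over the integers -/
theorem arl_pos (P M H C A b : ℤ) (hP : 5 ≤ P) (hH : 0 < H) (hA : 0 ≤ A)
    (hC : C = A * P + 1) (hb : b + 1 ≤ A)
    (hid : P * M ^ 2 * C * (C + 1) = H * (C - b) ^ 2) :
    H * (P - 1) ^ 2 ≤ P ^ 3 * M ^ 2 := by
  have hY0 : 0 < A * (P - 1) + 2 := by nlinarith
  have hXY : A * (P - 1) + 2 ≤ C - b := by rw [hC]; nlinarith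
  have hsq : (A * (P - 1) + 2) ^ 2 ≤ (C - b) ^ 2 := pow_le_pow_left₀ hY0.le hXY 2
  have hM : 0 ≤ P * M ^ 2 := by positivity
  have hAP : 0 ≤ A * P := by nlinarith
  -- p (a (p-1) + 2) ≥ (p-1)(ap+2)
  have h2 : (P - 1) * (A * P + 2) ≤ P * (A * (P - 1) + 2) := by nlinarith
  have h20 : 0 ≤ (P - 1) * (A * P + 2) := by nlinarith
  have h3 : ((P - 1) * (A * P + 2)) ^ 2 ≤ (P * (A * (P - 1) + 2)) ^ 2 := pow_le_pow_left₀ h20 h2 2
  have h4 : (P - 1) ^ 2 * ((A * P + 1) * (A * P + 2)) ≤ ((P - 1) * (A * P + 2)) ^ 2 := by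
    have : 0 ≤ (P - 1) ^ 2 * (A * P + 2) := by nlinarith
    nlinarith
  have h1 : H * (A * (P - 1) + 2) ^ 2 ≤ P * M ^ 2 * ((A * P + 1) * (A * P + 2)) := by
    calc H * (A * (P - 1) + 2) ^ 2 ≤ H * (C - b) ^ 2 := mul_le_mul_of_nonneg_left hsq hH.le
      _ = P * M ^ 2 * (C * (C + 1)) := by rw [← hid]; ring
      _ = P * M ^ 2 * ((A * P + 1) * (A * P + 2)) := by rw [hC]; ring
  have hY2 : 0 < (A * (P - 1) + 2) ^ 2 := by positivity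
  apply le_of_mul_le_mul_left _ hY2
  have hP1 : 0 ≤ (P - 1) ^ 2 := by positivity
  calc (A * (P - 1) + 2) ^ 2 * (H * (P - 1) ^ 2)
      = (H * (A * (P - 1) + 2) ^ 2) * (P - 1) ^ 2 := by ring
    _ ≤ (P * M ^ 2 * ((A * P + 1) * (A * P + 2))) * (P - 1) ^ 2 :=
        mul_le_mul_of_nonneg_right h1 hP1
    _ = P * M ^ 2 * ((P - 1) ^ 2 * ((A * P + 1) * (A * P + 2))) := by ring
    _ ≤ P * M ^ 2 * ((P * (A * (P - 1) + 2)) ^ 2) :=
        mul_le_mul_of_nonneg_left (le_trans h4 h3) hM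
    _ = (A * (P - 1) + 2) ^ 2 * (P ^ 3 * M ^ 2) := by ring

end Cfsg.Agent.Helper21.S4705ARL

namespace Cfsg.Agent.S4705P

open Cfsg Cfsg.Agent.Helper24 Cfsg.Agent.Helper1.W2p
open scoped ComplexConjugate

universe u

variable {G : Type u} [Group G] [Finite G]

/-! ### ARL -/
theorem lower_bound_arith (p c m h : ℕ) (δ b : ℤ) (hp : 5 ≤ p) (hδ : δ = 1 ∨ δ = -1)
    (hid : (p : ℤ) * (m : ℤ) ^ 2 * c * ((c : ℤ) + δ) = (h : ℤ) * ((c : ℤ) - b) ^ 2)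
    (hm : 0 < m) (hh : 0 < h)
    (hneg : δ = -1 → ∃ a : ℕ, 1 ≤ a ∧ c + 1 = a * p ∧ |b| ≤ (a : ℤ) - 1)
    (hpos : δ = 1 → ∃ a : ℕ, c = a * p + 1 ∧ b + 1 ≤ (a : ℤ)) :
    h * (p - 1) ^ 2 ≤ p ^ 3 * m ^ 2 := by
  have hP : (5 : ℤ) ≤ p := by exact_mod_cast hp
  have hH : (0 : ℤ) < h := by exact_mod_cast hh
  have h1p : 1 ≤ p := by omega
  suffices hgoal : (h : ℤ) * ((p : ℤ) - 1) ^ 2 ≤ (p : ℤ) ^ 3 * (m : ℤ) ^ 2 by
    have : ((h * (p - 1) ^ 2 : ℕ) : ℤ) ≤ ((p ^ 3 * m ^ 2 : ℕ) : ℤ) := by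
      push_cast [Nat.cast_sub h1p]
      exact hgoal
    exact_mod_cast this
  rcases hδ with hd | hd
  · obtain ⟨a, hc, hb⟩ := hpos hd
    subst hd
    refine Cfsg.Agent.Helper21.S4705ARL.arl_pos p m h c a b hP hH (by positivity) ?_ hb hid
    exact_mod_cast hc
  · obtain ⟨a, ha, hc, hb⟩ := hneg hd
    subst hd
    refine Cfsg.Agent.Helper21.S4705ARL.arl_neg p m h c a b hP hH (by exact_mod_cast ha) ?_ hb hid
    exact_mod_cast hc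

end Cfsg.Agent.S4705P
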