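import Mathlib
import Cfsg.Prelude.Def_Characters
import Cfsg.Prelude.Def_Blocks
import Cfsg.Agent.Helper24.Abelian
import Cfsg.Agent.Helper24.Linear
import Cfsg.Agent.Helper1.W2pDefs
import Cfsg.Agent.Lead.S4705Defs

set_option autoImplicit false

namespace Cfsg.Agent.Helper21.S4705INEQ

/-- polynomial core of the key inequality, after the substitution `P = 7 + s`, `K = 1 + j`. -/
theorem poly_core (P K : ℝ) (hP : 7 ≤ P) (hK : 1 ≤ K) :
    (((K + 1) ^ 2 * (P - 2) + (2 * K + 1) * (K * P + 1)) * (P - 2)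
        + (K * P + 1) * ((K + 1) * P - 1)) * P ^ 2
      < (P - 1) ^ 2 * ((K * P + 1) * ((K + 1) * P - 1) * (P - 2)) := by
  obtain ⟨s, hs, rfl⟩ : ∃ s : ℝ, 0 ≤ s ∧ P = 7 + s := ⟨P - 7, by linarith, by ring⟩
  obtain ⟨j, hj, rfl⟩ : ∃ j : ℝ, 0 ≤ j ∧ K = 1 + j := ⟨K - 1, by linarith, by ring⟩
  have h : 0 < (7 + s - 1) ^ 2 * (((1 + j) * (7 + s) + 1) * ((1 + j + 1) * (7 + s) - 1) * (7 + s - 2))
      - (((1 + j + 1) ^ 2 * (7 + s - 2) + (2 * (1 + j) + 1) * ((1 + j) * (7 + s) + 1)) * (7 + s - 2)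
        + ((1 + j) * (7 + s) + 1) * ((1 + j + 1) * (7 + s) - 1)) * (7 + s) ^ 2 := by
    ring_nf
    positivity
  linarith

/-- the numerator bound -/
theorem num_bound (A B C K n α : ℝ) (hA : 0 < A) (hC : 0 < C) (hBA : B = A + C) (hK : 1 ≤ K)
    (hn0 : 0 ≤ n) (hn : n ≤ K + 1) (_hα0 : 0 ≤ α) (hα : n - 1 ≤ α) :
    n ^ 2 * B - α ^ 2 * A ≤ (K + 1) ^ 2 * C + (2 * K + 1) * A := by
  subst hBA
  by_cases h1 : 1 ≤ n
  · have hα2 : (n - 1) ^ 2 ≤ α ^ 2 := by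
      apply pow_le_pow_left₀ (by linarith) hα
    have h2 : n ^ 2 ≤ (K + 1) ^ 2 := pow_le_pow_left₀ hn0 hn 2
    nlinarith [mul_le_mul_of_nonneg_right hα2 hA.le, mul_le_mul_of_nonneg_right h2 hC.le,
      mul_le_mul_of_nonneg_right hn hA.le]
  · rw [not_le] at h1
    have h2 : n ^ 2 ≤ 1 := by nlinarith
    have h3 : 0 ≤ α ^ 2 * A := by positivity
    have h4 : (1:ℝ) ≤ (K + 1) ^ 2 := by nlinarith
    nlinarith [mul_le_mul_of_nonneg_right h2 (by linarith : 0 ≤ A + C),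
      mul_le_mul_of_nonneg_right h4 hC.le, mul_le_mul_of_nonneg_right hK hA.le]

/-- the real-variable form of the key inequality -/
theorem key_real (P K n α : ℝ) (hp' : 7 ≤ P) (hk' : 1 ≤ K) (hn0 : 0 ≤ n) (hn : n ≤ K + 1)
    (hα0 : 0 ≤ α) (hα : n - 1 ≤ α) :
    (n ^ 2 / (K * P + 1) - α ^ 2 / ((K + 1) * P - 1) + 1 / (P - 2)) * P ^ 2
      < (P - 1) ^ 2 := by
  have hA : 0 < K * P + 1 := by nlinarith
  have hC : 0 < P - 2 := by linarith
  have hB : 0 < (K + 1) * P - 1 := by nlinarith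
  have hnum := num_bound (K * P + 1) ((K + 1) * P - 1) (P - 2) K n α
    hA hC (by ring) hk' hn0 hn hα0 hα
  have hcore := poly_core P K hp' hk'
  have hP0 : 0 < P := by linarith
  have hP2 : 0 < P ^ 2 := by positivity
  have e1 : n ^ 2 / (K * P + 1) - α ^ 2 / ((K + 1) * P - 1) + 1 / (P - 2)
      = ((n ^ 2 * ((K + 1) * P - 1) - α ^ 2 * (K * P + 1)) * (P - 2)
          + (K * P + 1) * ((K + 1) * P - 1)) / ((K * P + 1) * ((K + 1) * P - 1) * (P - 2)) := by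
    rw [div_sub_div _ _ hA.ne' hB.ne', div_add_div _ _ (mul_pos hA hB).ne' hC.ne']
    congr 1
    ring
  rw [e1, div_mul_eq_mul_div, div_lt_iff₀ (by positivity)]
  have h5 : ((n ^ 2 * ((K + 1) * P - 1) - α ^ 2 * (K * P + 1)) * (P - 2)
          + (K * P + 1) * ((K + 1) * P - 1)) * P ^ 2
      ≤ (((K + 1) ^ 2 * (P - 2) + (2 * K + 1) * (K * P + 1)) * (P - 2)
        + (K * P + 1) * ((K + 1) * P - 1)) * P ^ 2 := by
    apply mul_le_mul_of_nonneg_right _ hP2.le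
    have := mul_le_mul_of_nonneg_right hnum hC.le
    linarith
  linarith

end Cfsg.Agent.Helper21.S4705INEQ

namespace Cfsg.Agent.S4705P

open Cfsg Cfsg.Agent.Helper24 Cfsg.Agent.Helper1.W2p
open scoped ComplexConjugate

universe u

variable {G : Type u} [Group G] [Finite G]

/-! ### INEQ -/
theorem key_ineq (p k : ℕ) (hp : 7 ≤ p) (hk : 1 ≤ k) (n α : ℝ) (hn0 : 0 ≤ n) (hn : n ≤ k + 1)
    (hα0 : 0 ≤ α) (hα : n - 1 ≤ α) :
    (n ^ 2 / ((k : ℝ) * p + 1) - α ^ 2 / (((k : ℝ) + 1) * p - 1) + 1 / ((p : ℝ) - 2)) * (p : ℝ) ^ 2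
      < ((p : ℝ) - 1) ^ 2 := by
  have hp' : (7:ℝ) ≤ p := by exact_mod_cast hp
  have hk' : (1:ℝ) ≤ k := by exact_mod_cast hk
  exact Cfsg.Agent.Helper21.S4705INEQ.key_real (p : ℝ) (k : ℝ) n α hp' hk' hn0 hn hα0 hα

end Cfsg.Agent.S4705P
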