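import Mathlib
import Cfsg.Prelude.Def_Characters
import Cfsg.Prelude.Def_Blocks
import Cfsg.Agent.Helper24.Abelian
import Cfsg.Agent.Helper24.Linear

set_option autoImplicit false

/-!
# S4501 piece F1: a degree-3 character with value `-1` on `P ∖ 1` and on `(P ∖ 1) y`, `|P| = 4`
-/

namespace Cfsg.Agent.Helper21.S4501F1

open Cfsg

universe u

variable {G : Type u} [Group G]

/-- If the character sum over a finite subgroup `P` vanishes, then `∑_{t ∈ P} ρ(t) = 0`, hence
`∑_{t ∈ P} χ(t y) = 0` for every `y`. -/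
theorem sum_char_mul_eq_zero {n : ℕ} (ρ : Representation ℂ G (Fin n → ℂ)) (P : Subgroup G)
    [Fintype P] (h0 : ∑ t : P, ρ.character (t : G) = 0) (y : G) :
    ∑ t : P, ρ.character ((t : G) * y) = 0 := by
  classical
  -- the restricted representation
  let σ : Representation ℂ P (Fin n → ℂ) := ρ.comp P.subtype
  have hσ : ∀ t : P, σ t = ρ (t : G) := fun t => rfl
  have hcardne : (Nat.card P : ℂ) ≠ 0 := by
    exact_mod_cast (Nat.card_pos (α := P)).ne'
  letI : Invertible (Nat.card P : ℂ) := invertibleOfNonzero hcardne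
  have hfin : (Module.finrank ℂ (Representation.invariants σ) : ℂ) = 0 := by
    rw [← Representation.card_inv_mul_sum_char_eq_finrank σ]
    have : ∑ t : P, σ.character t = 0 := by
      rw [← h0]
      rfl
    rw [this, mul_zero]
  have hfin' : Module.finrank ℂ (Representation.invariants σ) = 0 := by exact_mod_cast hfin
  have hbot : Representation.invariants σ = ⊥ := Submodule.finrank_eq_zero.mp hfin'
  -- S = ∑ ρ t
  set S : (Fin n → ℂ) →ₗ[ℂ] (Fin n → ℂ) := ∑ t : P, ρ (t : G) with hS
  have hSinv : ∀ v, S v ∈ Representation.invariants σ := by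
    intro v s
    rw [hσ, hS, LinearMap.sum_apply, map_sum]
    have : ∀ t : P, ρ (s : G) (ρ (t : G) v) = ρ ((s * t : P) : G) v := by
      intro t
      rw [Subgroup.coe_mul, map_mul]
      rfl
    simp_rw [this]
    exact Fintype.sum_equiv (Equiv.mulLeft s) _ _ (fun t => rfl)
  have hS0 : S = 0 := by
    refine LinearMap.ext fun v => ?_
    have := hSinv v
    rw [hbot, Submodule.mem_bot] at this
    rw [this, LinearMap.zero_apply]
  have h1 : ∑ t : P, ρ.character ((t : G) * y) = LinearMap.trace ℂ _ (S ∘ₗ ρ y) := by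
    have hcomp : S ∘ₗ ρ y = ∑ t : P, (ρ (t : G) ∘ₗ ρ y) := by
      refine LinearMap.ext fun v => ?_
      simp only [hS, LinearMap.comp_apply, LinearMap.sum_apply]
    rw [hcomp, map_sum]
    refine Finset.sum_congr rfl ?_
    intro t _
    unfold Representation.character
    rw [map_mul]
    rfl
  rw [h1, hS0, LinearMap.zero_comp, map_zero]

end Cfsg.Agent.Helper21.S4501F1

namespace Cfsg.Agent.S4501P

open Cfsg Cfsg.Agent.Helper24
open scoped ComplexConjugate

universe u

variable {G : Type u} [Group G] [Finite G]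

theorem deg3_klein (ζ : IrrCharacter G) (hdeg : irrDeg ζ = 3) (P : Subgroup G)
    (hP : Nat.card P = 4) (y : G) (hy : ∀ t ∈ P, t * y = y * t)
    (hval1 : ∀ t ∈ P, t ≠ 1 → (ζ : G → ℂ) t = -1)
    (hval : ∀ t ∈ P, t ≠ 1 → (ζ : G → ℂ) (t * y) = -1) : (ζ : G → ℂ) y = 3 := by
  classical
  letI : Fintype P := Fintype.ofFinite P
  obtain ⟨n, ρ, -, hρ⟩ := ζ.2
  have hcard : (Finset.univ.erase (1 : P)).card = 3 := by
    rw [Finset.card_erase_of_mem (Finset.mem_univ _), Finset.card_univ,
      ← Nat.card_eq_fintype_card, hP]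
  have hne : ∀ t ∈ Finset.univ.erase (1 : P), ((t : P) : G) ≠ 1 := by
    intro t ht h1
    exact (Finset.mem_erase.mp ht).1 (Subtype.ext h1)
  -- the sum over P of ζ
  have h0 : ∑ t : P, ρ.character (t : G) = 0 := by
    rw [hρ, ← Finset.add_sum_erase _ _ (Finset.mem_univ (1 : P))]
    rw [Finset.sum_congr rfl (fun (t : P) ht => hval1 (t : G) t.2 (hne t ht)), Finset.sum_const,
      hcard]
    rw [Subgroup.coe_one, irrDeg_spec, hdeg]
    norm_num
  have h1 := Cfsg.Agent.Helper21.S4501F1.sum_char_mul_eq_zero ρ P h0 y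
  rw [hρ, ← Finset.add_sum_erase _ _ (Finset.mem_univ (1 : P))] at h1
  rw [Finset.sum_congr rfl (fun (t : P) ht => hval (t : G) t.2 (hne t ht)), Finset.sum_const, hcard,
    Subgroup.coe_one, one_mul] at h1
  have : (ζ : G → ℂ) y + 3 • (-1 : ℂ) = 0 := h1
  linear_combination this

end Cfsg.Agent.S4501P
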