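import Mathlib
import Cfsg.Prelude.Def_Characters
import Cfsg.Prelude.Def_Blocks
import Cfsg.Agent.Helper24.Abelian
import Cfsg.Agent.Helper24.Linear

set_option autoImplicit false

/-!
# S4501 piece F2: a degree-3 character with `ζ(J) = -1`, `ζ(Jy) = -1`, `y` of odd order
commuting with the involution `J`, `ζ(y)` real: then `ζ(y) = 3`.

Rank-one projection argument: `E = (1 + ρ J)/2` is a projection of trace `1`, `ρ y` acts on its
range by a scalar `a` with `a ^ orderOf y = 1`, `a` real, so `a = 1`.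
-/

namespace Cfsg.Agent.Helper21.S4501F2

open scoped ComplexConjugate

/-- Linear-algebra core. -/
theorem trace_add_trace_eq_two {V : Type*} [AddCommGroup V] [Module ℂ V] [FiniteDimensional ℂ V]
    (A Y : V →ₗ[ℂ] V) (hA : A * A = 1) (hAY : A * Y = Y * A)
    (htr : (Module.finrank ℂ V : ℂ) + LinearMap.trace ℂ V A = 2)
    (m : ℕ) (hm : Odd m) (hY : Y ^ m = 1)
    (hreal : conj (LinearMap.trace ℂ V Y + LinearMap.trace ℂ V (A * Y)) =
      LinearMap.trace ℂ V Y + LinearMap.trace ℂ V (A * Y)) :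
    LinearMap.trace ℂ V Y + LinearMap.trace ℂ V (A * Y) = 2 := by
  classical
  obtain ⟨E, hE⟩ : ∃ E : V →ₗ[ℂ] V, E = (1 / 2 : ℂ) • (1 + A) := ⟨_, rfl⟩
  have hEE : IsIdempotentElem E := by
    unfold IsIdempotentElem
    rw [hE, smul_mul_smul_comm]
    have : (1 + A) * (1 + A) = (2 : ℂ) • (1 + A) := by
      rw [mul_add, add_mul, add_mul, hA, one_mul, mul_one, one_mul, two_smul]
      abel
    rw [this, smul_smul]
    norm_num
  have hproj := LinearMap.IsIdempotentElem.isProj_range E hEE
  have htrE : LinearMap.trace ℂ V E = 1 := by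
    rw [hE, map_smul, map_add, LinearMap.trace_one, smul_eq_mul]
    linear_combination (1 / 2 : ℂ) * htr
  have hfin : Module.finrank ℂ (LinearMap.range E) = 1 := by
    have := hproj.trace
    rw [htrE] at this
    exact_mod_cast this.symm
  obtain ⟨v₀, hv₀, hspan⟩ := finrank_eq_one_iff'.mp hfin
  -- Y commutes with E
  have hEY : E * Y = Y * E := by
    rw [hE, smul_mul_assoc, mul_smul_comm, add_mul, mul_add, hAY, one_mul, mul_one]
  -- Y v₀ ∈ range E
  have hYv₀ : Y (v₀ : V) ∈ LinearMap.range E := by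
    obtain ⟨w, hw⟩ := v₀.2
    refine ⟨Y w, ?_⟩
    have : (E * Y) w = (Y * E) w := by rw [hEY]
    rw [Module.End.mul_apply, Module.End.mul_apply, hw] at this
    exact this
  obtain ⟨a, ha⟩ := hspan ⟨Y (v₀ : V), hYv₀⟩
  have ha' : Y (v₀ : V) = a • (v₀ : V) := by
    have := congrArg Subtype.val ha
    simpa using this.symm
  have hv₀' : (v₀ : V) ≠ 0 := fun h => hv₀ (Subtype.ext h)
  -- Y ∘ E = a • E
  have hYE : Y * E = a • E := by
    refine LinearMap.ext fun v => ?_
    obtain ⟨c, hc⟩ := hspan ⟨E v, LinearMap.mem_range_self E v⟩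
    have hc' : E v = c • (v₀ : V) := by
      have := congrArg Subtype.val hc
      simpa using this.symm
    rw [Module.End.mul_apply, LinearMap.smul_apply, hc', map_smul, ha', smul_comm]
  -- trace
  have htrace : LinearMap.trace ℂ V Y + LinearMap.trace ℂ V (A * Y) = 2 * a := by
    have h1 : LinearMap.trace ℂ V (Y * E) = a := by
      rw [hYE, map_smul, htrE, smul_eq_mul, mul_one]
    have h2 : Y * E = (1 / 2 : ℂ) • (Y + A * Y) := by
      rw [hE, mul_smul_comm, mul_add, mul_one, hAY]
    rw [h2, map_smul, map_add, smul_eq_mul] at h1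
    linear_combination 2 * h1
  -- a ^ m = 1
  have hpow : ∀ k : ℕ, (Y ^ k) (v₀ : V) = a ^ k • (v₀ : V) := by
    intro k
    induction k with
    | zero => simp
    | succ k ih =>
      rw [pow_succ, Module.End.mul_apply, ha', map_smul, ih, smul_smul, pow_succ]
      rw [mul_comm]
  have ham : a ^ m = 1 := by
    have := hpow m
    rw [hY, Module.End.one_apply] at this
    have h3 : (a ^ m - 1) • (v₀ : V) = 0 := by
      rw [sub_smul, one_smul, ← this, sub_self]
    rcases smul_eq_zero.mp h3 with h | h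
    · exact sub_eq_zero.mp h
    · exact absurd h hv₀'
  -- a real
  have hareal : conj a = a := by
    have h2a : a = (LinearMap.trace ℂ V Y + LinearMap.trace ℂ V (A * Y)) / 2 := by
      rw [htrace]; ring
    rw [h2a, map_div₀, hreal, map_ofNat]
  obtain ⟨r, hr⟩ := Complex.conj_eq_iff_real.mp hareal
  have hr1 : r ^ m = 1 := by
    rw [hr] at ham
    exact_mod_cast ham
  have hr' : r = 1 := by
    have := (hm.pow_inj (R := ℝ) (a := r) (b := 1)).mp (by rw [hr1, one_pow])
    exact this
  rw [htrace, hr, hr']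
  norm_num

end Cfsg.Agent.Helper21.S4501F2

namespace Cfsg.Agent.S4501P

open Cfsg Cfsg.Agent.Helper24
open scoped ComplexConjugate

universe u

variable {G : Type u} [Group G] [Finite G]

theorem deg3_invol (ζ : IrrCharacter G) (hdeg : irrDeg ζ = 3) (J y : G) (hJ : orderOf J = 2)
    (hcomm : J * y = y * J) (hodd : Odd (orderOf y))
    (hvalJ : (ζ : G → ℂ) J = -1)
    (hval : ∀ k : ℕ, (ζ : G → ℂ) (J * y ^ k) = -1)
    (hreal : conj ((ζ : G → ℂ) y) = (ζ : G → ℂ) y) : (ζ : G → ℂ) y = 3 := by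
  classical
  obtain ⟨n, ρ, -, hρ⟩ := ζ.2
  have hn : (Module.finrank ℂ (Fin n → ℂ) : ℂ) = 3 := by
    rw [← Representation.char_one ρ, hρ, irrDeg_spec, hdeg]
    norm_num
  have hch : ∀ g : G, LinearMap.trace ℂ (Fin n → ℂ) (ρ g) = (ζ : G → ℂ) g := by
    intro g
    rw [← hρ]
    rfl
  have hA : ρ J * ρ J = 1 := by
    rw [← map_mul, ← pow_two, ← hJ, pow_orderOf_eq_one, map_one]
  have hAY : ρ J * ρ y = ρ y * ρ J := by
    rw [← map_mul, ← map_mul, hcomm]
  have hY : ρ y ^ orderOf y = 1 := by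
    rw [← map_pow, pow_orderOf_eq_one, map_one]
  have hJy : LinearMap.trace ℂ (Fin n → ℂ) (ρ J * ρ y) = -1 := by
    rw [← map_mul, hch]
    have := hval 1
    rwa [pow_one] at this
  have key := Cfsg.Agent.Helper21.S4501F2.trace_add_trace_eq_two (ρ J) (ρ y) hA hAY
    (by rw [hch, hvalJ, hn]; norm_num) (orderOf y) hodd hY
    (by rw [hJy, hch, map_add, hreal]; simp)
  rw [hJy, hch] at key
  linear_combination key

end Cfsg.Agent.S4501P
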