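import Mathlib
import Cfsg.Prelude.Def_Characters
import Cfsg.Prelude.Def_Blocks
import Cfsg.Agent.Helper24.Abelian
import Cfsg.Agent.Helper24.Linear

set_option autoImplicit false

/-!
# S4501 piece KA: arithmetic of case A (`ε = +1`): `Q = 3`
-/

namespace Cfsg.Agent.Helper21.S4501KA

theorem not_dvd_one {r : ℕ} (hr : r.Prime) : ¬ r ∣ 1 := fun h =>
  hr.one_lt.ne' (Nat.dvd_one.mp h)

/-- a number `> 1` dividing `p^a q^b` is divisible by `p` or by `q` -/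
theorem pq_dvd_of_dvd {p q a b n : ℕ} (hp : p.Prime) (hq : q.Prime) (hn : 1 < n)
    (h : n ∣ p ^ a * q ^ b) : p ∣ n ∨ q ∣ n := by
  obtain ⟨r, hr, hrn⟩ := Nat.exists_prime_and_dvd (by omega : n ≠ 1)
  have h1 : r ∣ p ^ a * q ^ b := hrn.trans h
  rcases (Nat.Prime.dvd_mul hr).mp h1 with h2 | h2
  · have := (Nat.prime_dvd_prime_iff_eq hr hp).mp (hr.dvd_of_dvd_pow h2)
    subst this
    exact Or.inl hrn
  · have := (Nat.prime_dvd_prime_iff_eq hr hq).mp (hr.dvd_of_dvd_pow h2)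
    subst this
    exact Or.inr hrn

/-- three numbers with pairwise no common prime factor cannot all be divisible by `p` or `q` -/
theorem three_coprime {p q x y z : ℕ} (hp : p.Prime) (hq : q.Prime)
    (hx : p ∣ x ∨ q ∣ x) (hy : p ∣ y ∨ q ∣ y) (hz : p ∣ z ∨ q ∣ z)
    (hxy : ∀ r : ℕ, r.Prime → r ∣ x → r ∣ y → False)
    (hxz : ∀ r : ℕ, r.Prime → r ∣ x → r ∣ z → False)
    (hyz : ∀ r : ℕ, r.Prime → r ∣ y → r ∣ z → False) : False := by
  rcases hx with hx | hx <;> rcases hy with hy | hy <;> rcases hz with hz | hz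
  · exact hxy p hp hx hy
  · exact hxy p hp hx hy
  · exact hxz p hp hx hz
  · exact hyz q hq hy hz
  · exact hyz p hp hy hz
  · exact hxz q hq hx hz
  · exact hxy q hq hx hy
  · exact hxy q hq hx hy

end Cfsg.Agent.Helper21.S4501KA

namespace Cfsg.Agent.S4501P

open Cfsg Cfsg.Agent.Helper24
open Cfsg.Agent.Helper21.S4501KA

theorem caseA_arith (p q a b : ℕ) (hp : p.Prime) (hq : q.Prime) (hp2 : p ≠ 2) (hq2 : q ≠ 2)
    (cP m Q : ℕ) (h4P : 4 ∣ cP) (hQ1 : 1 < Q) (hQmod : 4 ∣ Q + 1)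
    (h : 8 * (4 * p ^ a * q ^ b) = m ^ 3 * cP * (Q ^ 3 - Q)) : Q = 3 := by
  obtain ⟨r, hr⟩ := hQmod
  obtain ⟨c', hc'⟩ := h4P
  have hr1 : 1 ≤ r := by omega
  obtain ⟨k, rfl⟩ : ∃ k, r = k + 1 := ⟨r - 1, by omega⟩
  have hQ : Q = 4 * k + 3 := by omega
  subst hQ
  have hcube : (4 * k + 3) ^ 3 - (4 * k + 3) = 8 * ((k + 1) * (2 * k + 1) * (4 * k + 3)) := by
    apply Nat.sub_eq_of_eq_add
    ring
  rw [hcube, hc'] at h
  have hN : p ^ a * q ^ b = m ^ 3 * c' * ((k + 1) * (2 * k + 1) * (4 * k + 3)) := by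
    have : 32 * (p ^ a * q ^ b) = 32 * (m ^ 3 * c' * ((k + 1) * (2 * k + 1) * (4 * k + 3))) := by
      calc 32 * (p ^ a * q ^ b) = 8 * (4 * p ^ a * q ^ b) := by ring
        _ = m ^ 3 * (4 * c') * (8 * ((k + 1) * (2 * k + 1) * (4 * k + 3))) := h
        _ = 32 * (m ^ 3 * c' * ((k + 1) * (2 * k + 1) * (4 * k + 3))) := by ring
    exact Nat.eq_of_mul_eq_mul_left (by norm_num) this
  by_contra hne
  have hk : 1 ≤ k := by omega
  have d1 : k + 1 ∣ p ^ a * q ^ b := by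
    rw [hN]
    exact Dvd.intro_left _ (by ring : (m ^ 3 * c' * ((2 * k + 1) * (4 * k + 3))) * (k + 1) = _)
  have d2 : 2 * k + 1 ∣ p ^ a * q ^ b := by
    rw [hN]
    exact Dvd.intro_left _ (by ring : (m ^ 3 * c' * ((k + 1) * (4 * k + 3))) * (2 * k + 1) = _)
  have d3 : 4 * k + 3 ∣ p ^ a * q ^ b := by
    rw [hN]
    exact Dvd.intro_left _ (by ring : (m ^ 3 * c' * ((k + 1) * (2 * k + 1))) * (4 * k + 3) = _)
  have e1 := pq_dvd_of_dvd hp hq (by omega : 1 < k + 1) d1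
  have e2 := pq_dvd_of_dvd hp hq (by omega : 1 < 2 * k + 1) d2
  have e3 := pq_dvd_of_dvd hp hq (by omega : 1 < 4 * k + 3) d3
  refine three_coprime hp hq e1 e2 e3 ?_ ?_ ?_
  · intro s hs h1 h2
    have h3 : s ∣ 2 * (k + 1) := dvd_mul_of_dvd_right h1 2
    have e : 2 * (k + 1) = (2 * k + 1) + 1 := by ring
    rw [e] at h3
    exact not_dvd_one hs ((Nat.dvd_add_right h2).mp h3)
  · intro s hs h1 h2
    have h3 : s ∣ 4 * (k + 1) := dvd_mul_of_dvd_right h1 4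
    have e : 4 * (k + 1) = (4 * k + 3) + 1 := by ring
    rw [e] at h3
    exact not_dvd_one hs ((Nat.dvd_add_right h2).mp h3)
  · intro s hs h1 h2
    have h3 : s ∣ 2 * (2 * k + 1) := dvd_mul_of_dvd_right h1 2
    have e : 4 * k + 3 = 2 * (2 * k + 1) + 1 := by ring
    rw [e] at h2
    exact not_dvd_one hs ((Nat.dvd_add_right h3).mp h2)

end Cfsg.Agent.S4501P
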