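import Mathlib
import Cfsg.Prelude.Def_Characters
import Cfsg.Prelude.Def_Blocks
import Cfsg.Agent.Helper24.Abelian
import Cfsg.Agent.Helper24.Linear

set_option autoImplicit false

/-!
# S4501 piece KB1: the Diophantine lemma
`u = v + w + 1`, `v, w` odd, and `u, v, w, 2u-1, 2v+1, 2w+1` all `{p,q}`-numbers ⟹ `v = w = 1`.
-/

namespace Cfsg.Agent.Helper21.S4501KB1

theorem pq_dvd {p q n : ℕ} (hn : 1 < n) (h : ∀ r : ℕ, r.Prime → r ∣ n → r = p ∨ r = q) :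
    p ∣ n ∨ q ∣ n := by
  obtain ⟨r, hr, hrn⟩ := Nat.exists_prime_and_dvd (by omega : n ≠ 1)
  rcases h r hr hrn with rfl | rfl
  · exact Or.inl hrn
  · exact Or.inr hrn

theorem not_dvd_one {r : ℕ} (hr : r.Prime) : ¬ r ∣ 1 := fun h =>
  hr.one_lt.ne' (Nat.dvd_one.mp h)

/-- both `v` and `w` divisible by the same prime `p` -/
theorem aux_same {p q v w : ℕ} (hp : p.Prime) (hq : q.Prime) (hpv : p ∣ v) (hpw : p ∣ w)
    (hu : p ∣ v + w + 1 ∨ q ∣ v + w + 1)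
    (hx2 : p ∣ 2 * v + 2 * w + 1 ∨ q ∣ 2 * v + 2 * w + 1) : False := by
  have h1 : ¬ p ∣ v + w + 1 := fun h =>
    not_dvd_one hp ((Nat.dvd_add_right (dvd_add hpv hpw)).mp h)
  have h2 : ¬ p ∣ 2 * v + 2 * w + 1 := fun h =>
    not_dvd_one hp ((Nat.dvd_add_right
      (dvd_add (dvd_mul_of_dvd_right hpv 2) (dvd_mul_of_dvd_right hpw 2))).mp h)
  have hqu : q ∣ v + w + 1 := hu.resolve_left h1
  have hqx : q ∣ 2 * v + 2 * w + 1 := hx2.resolve_left h2
  have h3 : q ∣ 2 * (v + w + 1) := dvd_mul_of_dvd_right hqu 2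
  have h4 : 2 * (v + w + 1) = (2 * v + 2 * w + 1) + 1 := by ring
  rw [h4] at h3
  exact not_dvd_one hq ((Nat.dvd_add_right hqx).mp h3)

/-- `p ∣ v`, `q ∣ w` -/
theorem aux_diff {p q v w : ℕ} (hp : p.Prime) (hq : q.Prime) (hpv : p ∣ v) (hqw : q ∣ w)
    (hx3 : p ∣ 2 * v + 1 ∨ q ∣ 2 * v + 1) (hx4 : p ∣ 2 * w + 1 ∨ q ∣ 2 * w + 1)
    (hu : p ∣ v + w + 1 ∨ q ∣ v + w + 1) : False := by
  have h1 : ¬ p ∣ 2 * v + 1 := fun h =>
    not_dvd_one hp ((Nat.dvd_add_right (dvd_mul_of_dvd_right hpv 2)).mp h)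
  have h2 : ¬ q ∣ 2 * w + 1 := fun h =>
    not_dvd_one hq ((Nat.dvd_add_right (dvd_mul_of_dvd_right hqw 2)).mp h)
  have hq3 : q ∣ 2 * v + 1 := hx3.resolve_left h1
  have hp4 : p ∣ 2 * w + 1 := hx4.resolve_right h2
  -- both divide x2 = 2v + 2w + 1
  have hqx : q ∣ 2 * v + 2 * w + 1 := by
    have : 2 * v + 2 * w + 1 = (2 * v + 1) + 2 * w := by ring
    rw [this]
    exact dvd_add hq3 (dvd_mul_of_dvd_right hqw 2)
  have hpx : p ∣ 2 * v + 2 * w + 1 := by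
    have : 2 * v + 2 * w + 1 = (2 * w + 1) + 2 * v := by ring
    rw [this]
    exact dvd_add hp4 (dvd_mul_of_dvd_right hpv 2)
  have h4 : 2 * (v + w + 1) = (2 * v + 2 * w + 1) + 1 := by ring
  rcases hu with h | h
  · have h3 : p ∣ 2 * (v + w + 1) := dvd_mul_of_dvd_right h 2
    rw [h4] at h3
    exact not_dvd_one hp ((Nat.dvd_add_right hpx).mp h3)
  · have h3 : q ∣ 2 * (v + w + 1) := dvd_mul_of_dvd_right h 2
    rw [h4] at h3
    exact not_dvd_one hq ((Nat.dvd_add_right hqx).mp h3)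

/-- the case `v = 1 < w`: the numbers `w, w+2, 2w+1, 2w+3` cannot all be `{3,s}`-numbers -/
theorem aux_one {s w : ℕ} (hs : s.Prime) (hs3 : s ≠ 3) (hs2 : s ≠ 2) (hw : 1 < w)
    (h0 : ∀ r : ℕ, r.Prime → r ∣ w → r = 3 ∨ r = s)
    (h1 : ∀ r : ℕ, r.Prime → r ∣ w + 2 → r = 3 ∨ r = s)
    (h2 : ∀ r : ℕ, r.Prime → r ∣ 2 * w + 1 → r = 3 ∨ r = s)
    (h3 : ∀ r : ℕ, r.Prime → r ∣ 2 * w + 3 → r = 3 ∨ r = s) : False := by
  have key : ∀ n : ℕ, 1 < n → (∀ r : ℕ, r.Prime → r ∣ n → r = 3 ∨ r = s) → n % 3 ≠ 0 → s ∣ n := by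
    intro n hn h hmod
    rcases pq_dvd hn h with h' | h'
    · exact absurd (Nat.mod_eq_zero_of_dvd h') hmod
    · exact h'
  have hs_three : ¬ s ∣ 3 := fun h =>
    hs3 ((Nat.prime_dvd_prime_iff_eq hs Nat.prime_three).mp h)
  have hs_two : ¬ s ∣ 2 := fun h =>
    hs2 ((Nat.prime_dvd_prime_iff_eq hs Nat.prime_two).mp h)
  have hcases : w % 3 = 0 ∨ w % 3 = 1 ∨ w % 3 = 2 := by omega
  rcases hcases with hc | hc | hc
  · have a1 : s ∣ w + 2 := key _ (by omega) h1 (by omega)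
    have a2 : s ∣ 2 * w + 1 := key _ (by omega) h2 (by omega)
    have a3 : s ∣ 2 * (w + 2) := dvd_mul_of_dvd_right a1 2
    have e : 2 * (w + 2) = (2 * w + 1) + 3 := by ring
    rw [e] at a3
    exact hs_three ((Nat.dvd_add_right a2).mp a3)
  · have a1 : s ∣ w := key _ hw h0 (by omega)
    have a2 : s ∣ 2 * w + 3 := key _ (by omega) h3 (by omega)
    exact hs_three ((Nat.dvd_add_right (dvd_mul_of_dvd_right a1 2)).mp a2)
  · have a1 : s ∣ w := key _ hw h0 (by omega)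
    have a2 : s ∣ w + 2 := key _ (by omega) h1 (by omega)
    exact hs_two ((Nat.dvd_add_right a1).mp a2)

end Cfsg.Agent.Helper21.S4501KB1

namespace Cfsg.Agent.S4501P

open Cfsg Cfsg.Agent.Helper24
open Cfsg.Agent.Helper21.S4501KB1

theorem dioph (p q : ℕ) (hp : p.Prime) (hq : q.Prime) (hp2 : p ≠ 2) (hq2 : q ≠ 2) (hpq : p ≠ q)
    (u v w : ℕ) (huvw : u = v + w + 1) (hv : Odd v) (hw : Odd w)
    (hu' : ∀ r : ℕ, r.Prime → r ∣ u → r = p ∨ r = q)
    (hv' : ∀ r : ℕ, r.Prime → r ∣ v → r = p ∨ r = q)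
    (hw' : ∀ r : ℕ, r.Prime → r ∣ w → r = p ∨ r = q)
    (hx2 : ∀ r : ℕ, r.Prime → r ∣ 2 * u - 1 → r = p ∨ r = q)
    (hx3 : ∀ r : ℕ, r.Prime → r ∣ 2 * v + 1 → r = p ∨ r = q)
    (hx4 : ∀ r : ℕ, r.Prime → r ∣ 2 * w + 1 → r = p ∨ r = q) : v = 1 ∧ w = 1 := by
  subst huvw
  have e2 : 2 * (v + w + 1) - 1 = 2 * v + 2 * w + 1 := by omega
  rw [e2] at hx2
  have hv1 : 1 ≤ v := hv.pos
  have hw1 : 1 ≤ w := hw.pos
  -- the case where one of them is 1 and the other is not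
  have one_case : ∀ w' : ℕ, 1 < w' →
      (∀ r : ℕ, r.Prime → r ∣ w' → r = p ∨ r = q) →
      (∀ r : ℕ, r.Prime → r ∣ w' + 2 → r = p ∨ r = q) →
      (∀ r : ℕ, r.Prime → r ∣ 2 * w' + 1 → r = p ∨ r = q) →
      (∀ r : ℕ, r.Prime → r ∣ 2 * w' + 3 → r = p ∨ r = q) →
      (3 = p ∨ 3 = q) → False := by
    intro w' hgt h0 h1 h2 h3 h3pq
    rcases h3pq with h | h
    · subst h
      exact aux_one hq (fun h => hpq h.symm) hq2 hgt h0 h1 h2 h3
    · subst h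
      exact aux_one hp hpq hp2 hgt (fun r hr hrn => (h0 r hr hrn).symm)
        (fun r hr hrn => (h1 r hr hrn).symm) (fun r hr hrn => (h2 r hr hrn).symm)
        (fun r hr hrn => (h3 r hr hrn).symm)
  by_cases hv3 : v = 1
  · by_cases hw3 : w = 1
    · exact ⟨hv3, hw3⟩
    · exfalso
      subst hv3
      have h3pq : 3 = p ∨ 3 = q := hx3 3 Nat.prime_three (by norm_num)
      refine one_case w (by omega) hw' ?_ hx4 ?_ h3pq
      · have : 1 + w + 1 = w + 2 := by ring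
        rwa [this] at hu'
      · have : 2 * 1 + 2 * w + 1 = 2 * w + 3 := by ring
        rwa [this] at hx2
  · by_cases hw3 : w = 1
    · exfalso
      subst hw3
      have h3pq : 3 = p ∨ 3 = q := hx4 3 Nat.prime_three (by norm_num)
      refine one_case v (by omega) hv' ?_ hx3 ?_ h3pq
      · have : v + 1 + 1 = v + 2 := by ring
        rwa [this] at hu'
      · have : 2 * v + 2 * 1 + 1 = 2 * v + 3 := by ring
        rwa [this] at hx2
    · exfalso
      have hv2 : 1 < v := by omega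
      have hw2 : 1 < w := by omega
      have du := pq_dvd (by omega : 1 < v + w + 1) hu'
      have dx2 := pq_dvd (by omega : 1 < 2 * v + 2 * w + 1) hx2
      have dx3 := pq_dvd (by omega : 1 < 2 * v + 1) hx3
      have dx4 := pq_dvd (by omega : 1 < 2 * w + 1) hx4
      rcases pq_dvd hv2 hv' with hpv | hqv
      · rcases pq_dvd hw2 hw' with hpw | hqw
        · exact aux_same hp hq hpv hpw du dx2
        · exact aux_diff hp hq hpv hqw dx3 dx4 du
      · rcases pq_dvd hw2 hw' with hpw | hqw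
        · -- q ∣ v, p ∣ w : swap roles of v and w
          have du' : p ∣ w + v + 1 ∨ q ∣ w + v + 1 := by
            have : w + v + 1 = v + w + 1 := by ring
            rw [this]; exact du
          exact aux_diff hp hq hpw hqv dx4 dx3 du'
        · exact aux_same hq hp hqv hqw du.symm dx2.symm

end Cfsg.Agent.S4501P
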