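import Mathlib
import Cfsg.Prelude.Def_Characters
import Cfsg.Prelude.Def_Blocks
import Cfsg.Agent.Helper24.Abelian
import Cfsg.Agent.Helper24.Linear

set_option autoImplicit false

/-!
# S4501 piece KB2: arithmetic of case B (`ε = -1`): the degrees are `5, 3, 3`
-/

namespace Cfsg.Agent.Helper21.S4501KB2

/-- an odd prime dividing `4 p^a q^b` is `p` or `q` -/
theorem odd_prime_dvd {p q a b r : ℕ} (hp : p.Prime) (hq : q.Prime) (hr : r.Prime) (hr2 : r ≠ 2)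
    (h : r ∣ 4 * p ^ a * q ^ b) : r = p ∨ r = q := by
  rcases (Nat.Prime.dvd_mul hr).mp h with h1 | h1
  · rcases (Nat.Prime.dvd_mul hr).mp h1 with h2 | h2
    · exfalso
      have : r ∣ 2 ^ 2 := by norm_num; exact h2
      exact hr2 ((Nat.prime_dvd_prime_iff_eq hr Nat.prime_two).mp (hr.dvd_of_dvd_pow this))
    · exact Or.inl ((Nat.prime_dvd_prime_iff_eq hr hp).mp (hr.dvd_of_dvd_pow h2))
  · exact Or.inr ((Nat.prime_dvd_prime_iff_eq hr hq).mp (hr.dvd_of_dvd_pow h1))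

/-- a prime dividing an odd number is not `2` -/
theorem ne_two_of_dvd_odd {r n : ℕ} (hn : n % 2 = 1) (h : r ∣ n) : r ≠ 2 := by
  rintro rfl
  have := Nat.mod_eq_zero_of_dvd h
  omega

end Cfsg.Agent.Helper21.S4501KB2

namespace Cfsg.Agent.S4501P

open Cfsg Cfsg.Agent.Helper24
open Cfsg.Agent.Helper21.S4501KB2

theorem caseB_degrees (p q a b : ℕ) (hp : p.Prime) (hq : q.Prime) (hp2 : p ≠ 2) (hq2 : q ≠ 2)
    (cJ cP x₂ x₃ x₄ : ℕ) (hcJ : cJ ∣ 4 * p ^ a * q ^ b) (hcP : cP ∣ 4 * p ^ a * q ^ b)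
    (hx₂ : x₂ ∣ 4 * p ^ a * q ^ b) (hx₃ : x₃ ∣ 4 * p ^ a * q ^ b) (hx₄ : x₄ ∣ 4 * p ^ a * q ^ b)
    (h1x₃ : 1 < x₃) (h1x₄ : 1 < x₄)
    (hm₂ : (4 : ℤ) ∣ (x₂ : ℤ) - 1) (hm₃ : (4 : ℤ) ∣ (x₃ : ℤ) + 1) (hm₄ : (4 : ℤ) ∣ (x₄ : ℤ) + 1)
    (hsum : 1 + x₂ = x₃ + x₄)
    (hform : ((4 * p ^ a * q ^ b : ℕ) : ℚ) =
      8 * (((x₂ : ℚ) * x₃ * x₄) / (((x₂ : ℚ) + 1) * ((x₃ : ℚ) - 1) * ((x₄ : ℚ) - 1))) *
        (cJ : ℚ) ^ 3 / (cP : ℚ) ^ 2)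
    (hdio : ∀ u v w : ℕ, u = v + w + 1 → Odd v → Odd w →
      (∀ r : ℕ, r.Prime → r ∣ u → r = p ∨ r = q) →
      (∀ r : ℕ, r.Prime → r ∣ v → r = p ∨ r = q) →
      (∀ r : ℕ, r.Prime → r ∣ w → r = p ∨ r = q) →
      (∀ r : ℕ, r.Prime → r ∣ 2 * u - 1 → r = p ∨ r = q) →
      (∀ r : ℕ, r.Prime → r ∣ 2 * v + 1 → r = p ∨ r = q) →
      (∀ r : ℕ, r.Prime → r ∣ 2 * w + 1 → r = p ∨ r = q) → v = 1 ∧ w = 1) :
    x₂ = 5 ∧ x₃ = 3 ∧ x₄ = 3 := by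
  set N : ℕ := 4 * p ^ a * q ^ b with hN
  have hNpos : 0 < N := by
    have h1 : 0 < p ^ a := pow_pos hp.pos a
    have h2 : 0 < q ^ b := pow_pos hq.pos b
    positivity
  have hcP0 : cP ≠ 0 := fun h0 => by
    rw [h0] at hcP
    exact hNpos.ne' (zero_dvd_iff.mp hcP)
  obtain ⟨k₂, hk₂⟩ := hm₂
  obtain ⟨k₃, hk₃⟩ := hm₃
  obtain ⟨k₄, hk₄⟩ := hm₄
  obtain ⟨u, hu⟩ : ∃ u, x₂ + 1 = 2 * u := ⟨(x₂ + 1) / 2, by omega⟩
  obtain ⟨v, hv⟩ : ∃ v, x₃ = 2 * v + 1 := ⟨(x₃ - 1) / 2, by omega⟩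
  obtain ⟨w, hw⟩ : ∃ w, x₄ = 2 * w + 1 := ⟨(x₄ - 1) / 2, by omega⟩
  have hx₂u : x₂ = 2 * u - 1 := by omega
  have huvw : u = v + w + 1 := by omega
  have hvodd : Odd v := Nat.odd_iff.mpr (by omega)
  have hwodd : Odd w := Nat.odd_iff.mpr (by omega)
  have huodd : u % 2 = 1 := by omega
  have hv1 : 1 ≤ v := by omega
  have hw1 : 1 ≤ w := by omega
  have hu1 : 1 ≤ u := by omega
  -- the key equation in ℕ
  have hkey : N * (u * v * w) * cP ^ 2 = x₂ * x₃ * x₄ * cJ ^ 3 := by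
    have e2 : (x₂ : ℚ) + 1 = 2 * (u : ℚ) := by exact_mod_cast hu
    have e3 : (x₃ : ℚ) - 1 = 2 * (v : ℚ) := by
      rw [hv]; push_cast; ring
    have e4 : (x₄ : ℚ) - 1 = 2 * (w : ℚ) := by
      rw [hw]; push_cast; ring
    rw [e2, e3, e4] at hform
    have hu0 : (u : ℚ) ≠ 0 := by exact_mod_cast (by omega : u ≠ 0)
    have hv0 : (v : ℚ) ≠ 0 := by exact_mod_cast (by omega : v ≠ 0)
    have hw0 : (w : ℚ) ≠ 0 := by exact_mod_cast (by omega : w ≠ 0)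
    have hc0 : (cP : ℚ) ≠ 0 := by exact_mod_cast hcP0
    have h1 : (N : ℚ) * ((u : ℚ) * v * w) * (cP : ℚ) ^ 2 =
        (x₂ : ℚ) * x₃ * x₄ * (cJ : ℚ) ^ 3 := by
      rw [hform]
      field_simp
      ring
    exact_mod_cast h1
  -- odd primes dividing N-divisors
  have hdivN : ∀ d : ℕ, d ∣ N → ∀ r : ℕ, r.Prime → r ≠ 2 → r ∣ d → r = p ∨ r = q :=
    fun d hd r hr hr2 hrd => odd_prime_dvd hp hq hr hr2 (hrd.trans hd)
  have hx₂' : ∀ r : ℕ, r.Prime → r ∣ x₂ → r = p ∨ r = q := fun r hr hrd =>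
    hdivN x₂ hx₂ r hr (ne_two_of_dvd_odd (by omega) hrd) hrd
  have hx₃' : ∀ r : ℕ, r.Prime → r ∣ x₃ → r = p ∨ r = q := fun r hr hrd =>
    hdivN x₃ hx₃ r hr (ne_two_of_dvd_odd (by omega) hrd) hrd
  have hx₄' : ∀ r : ℕ, r.Prime → r ∣ x₄ → r = p ∨ r = q := fun r hr hrd =>
    hdivN x₄ hx₄ r hr (ne_two_of_dvd_odd (by omega) hrd) hrd
  -- odd primes dividing u v w
  have huvw' : ∀ r : ℕ, r.Prime → r ≠ 2 → r ∣ u * v * w → r = p ∨ r = q := by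
    intro r hr hr2 hrd
    have h1 : r ∣ x₂ * x₃ * x₄ * cJ ^ 3 := by
      rw [← hkey]
      exact Dvd.dvd.mul_right (Dvd.dvd.mul_left hrd N) _
    rcases (Nat.Prime.dvd_mul hr).mp h1 with h2 | h2
    · rcases (Nat.Prime.dvd_mul hr).mp h2 with h3 | h3
      · rcases (Nat.Prime.dvd_mul hr).mp h3 with h4 | h4
        · exact hx₂' r hr h4
        · exact hx₃' r hr h4
      · exact hx₄' r hr h3
    · exact hdivN cJ hcJ r hr hr2 (hr.dvd_of_dvd_pow h2)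
  have hu' : ∀ r : ℕ, r.Prime → r ∣ u → r = p ∨ r = q := fun r hr hrd =>
    huvw' r hr (ne_two_of_dvd_odd huodd hrd)
      (Dvd.dvd.mul_right (Dvd.dvd.mul_right hrd v) w)
  have hv' : ∀ r : ℕ, r.Prime → r ∣ v → r = p ∨ r = q := fun r hr hrd =>
    huvw' r hr (ne_two_of_dvd_odd (Nat.odd_iff.mp hvodd) hrd)
      (Dvd.dvd.mul_right (Dvd.dvd.mul_left hrd u) w)
  have hw' : ∀ r : ℕ, r.Prime → r ∣ w → r = p ∨ r = q := fun r hr hrd =>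
    huvw' r hr (ne_two_of_dvd_odd (Nat.odd_iff.mp hwodd) hrd)
      (Dvd.dvd.mul_left hrd (u * v))
  have hres := hdio u v w huvw hvodd hwodd hu' hv' hw'
    (by rw [← hx₂u]; exact hx₂') (by rw [← hv]; exact hx₃') (by rw [← hw]; exact hx₄')
  obtain ⟨hv1', hw1'⟩ := hres
  subst hv1' hw1'
  omega

end Cfsg.Agent.S4501P
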