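import Mathlib

set_option autoImplicit false

namespace Cfsg.Agent.Helper21

open Finset
open scoped Classical

variable {X : Type*} [Group X] [Fintype X]

/-- number of elements of the finset `B` commuting with `a` -/
noncomputable def ccount (a : X) (B : Finset X) : ℕ := (B.filter (fun w => a * w = w * a)).card

/-- number of commuting pairs in `A × B` -/
noncomputable def cpairs (A B : Finset X) : ℕ := ∑ a ∈ A, ccount a B

theorem ccount_eq_sum (a : X) (B : Finset X) :
    ccount a B = ∑ w ∈ B, if a * w = w * a then 1 else 0 := by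
  unfold ccount
  rw [Finset.card_filter]

theorem cpairs_comm (A B : Finset X) : cpairs A B = cpairs B A := by
  unfold cpairs
  simp_rw [ccount_eq_sum]
  rw [Finset.sum_comm]
  refine Finset.sum_congr rfl (fun w _ => Finset.sum_congr rfl (fun a _ => ?_))
  by_cases h : a * w = w * a
  · rw [if_pos h, if_pos h.symm]
  · rw [if_neg h, if_neg (fun h' => h h'.symm)]

/-- the finset of elements of a subgroup -/
noncomputable def sset (Y : Subgroup X) : Finset X := univ.filter (fun w => w ∈ Y)

theorem mem_sset (Y : Subgroup X) (w : X) : w ∈ sset Y ↔ w ∈ Y := by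
  unfold sset; simp

/-- the finset of elements of a left coset -/
noncomputable def cosetset (Y : Subgroup X) (q : X ⧸ Y) : Finset X :=
  univ.filter (fun w => (w : X ⧸ Y) = q)

theorem mem_cosetset (Y : Subgroup X) (q : X ⧸ Y) (w : X) : w ∈ cosetset Y q ↔ (w : X ⧸ Y) = q := by
  unfold cosetset; simp

theorem ccount_coset_le (Y : Subgroup X) (a : X) (q : X ⧸ Y) :
    ccount a (cosetset Y q) ≤ ccount a (sset Y) := by
  unfold ccount
  by_cases h : ∃ w₀, a * w₀ = w₀ * a ∧ (w₀ : X ⧸ Y) = q
  · obtain ⟨w₀, hw₀, hq⟩ := h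
    apply Finset.card_le_card_of_injOn (fun w => w₀⁻¹ * w)
    · intro w hw
      rw [Finset.coe_filter] at hw
      obtain ⟨hw1, hw2⟩ := hw
      rw [mem_cosetset] at hw1
      rw [Finset.coe_filter]
      refine ⟨?_, ?_⟩
      · rw [mem_sset]
        rw [← hw1] at hq
        exact QuotientGroup.eq.mp hq
      · have h1 : a * w₀⁻¹ = w₀⁻¹ * a := by
          calc a * w₀⁻¹ = w₀⁻¹ * (w₀ * a) * w₀⁻¹ := by group
            _ = w₀⁻¹ * (a * w₀) * w₀⁻¹ := by rw [hw₀]
            _ = w₀⁻¹ * a := by group
        calc a * (w₀⁻¹ * w) = (a * w₀⁻¹) * w := by group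
          _ = w₀⁻¹ * (a * w) := by rw [h1]; group
          _ = w₀⁻¹ * (w * a) := by rw [hw2]
          _ = w₀⁻¹ * w * a := by group
    · intro w _ w' _ hww
      exact mul_left_cancel hww
  · have : (cosetset Y q).filter (fun w => a * w = w * a) = ∅ := by
      rw [Finset.filter_eq_empty_iff]
      intro w hw hcomm
      rw [mem_cosetset] at hw
      exact h ⟨w, hcomm, hw⟩
    rw [this, Finset.card_empty]
    exact Nat.zero_le _

theorem ccount_coset_eq_zero (Y : Subgroup X) (a : X) (q : X ⧸ Y)
    (h : ¬ ∃ w₀, a * w₀ = w₀ * a ∧ (w₀ : X ⧸ Y) = q) : ccount a (cosetset Y q) = 0 := by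
  unfold ccount
  rw [Finset.card_eq_zero, Finset.filter_eq_empty_iff]
  intro w hw hcomm
  rw [mem_cosetset] at hw
  exact h ⟨w, hcomm, hw⟩

theorem ccount_sset_pos (Y : Subgroup X) (a : X) : 0 < ccount a (sset Y) := by
  unfold ccount
  rw [Finset.card_pos]
  refine ⟨1, ?_⟩
  rw [Finset.mem_filter, mem_sset]
  exact ⟨Y.one_mem, by rw [mul_one, one_mul]⟩

theorem ccount_univ_eq_sum (Y : Subgroup X) (a : X) :
    ccount a univ = ∑ q : X ⧸ Y, ccount a (cosetset Y q) := by
  unfold ccount
  have h := Finset.card_eq_sum_card_fiberwise (f := fun w : X => (w : X ⧸ Y))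
    (s := univ.filter (fun w => a * w = w * a)) (t := univ) (fun _ _ => Finset.mem_univ _)
  rw [h]
  refine Finset.sum_congr rfl (fun q _ => ?_)
  congr 1
  ext w
  simp only [Finset.mem_filter, Finset.mem_univ, true_and, mem_cosetset]
  tauto

theorem card_quotient_eq_index (Y : Subgroup X) : Fintype.card (X ⧸ Y) = Y.index := by
  rw [Subgroup.index_eq_card, Nat.card_eq_fintype_card]

theorem ccount_univ_le (Y : Subgroup X) (a : X) :
    ccount a univ ≤ Y.index * ccount a (sset Y) := by
  rw [ccount_univ_eq_sum Y a, ← card_quotient_eq_index, ← Finset.card_univ, ← smul_eq_mul]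
  exact Finset.sum_le_card_nsmul _ _ _ (fun q _ => ccount_coset_le Y a q)

theorem ccount_univ_lt (Y : Subgroup X) (a : X) (q₀ : X ⧸ Y)
    (h : ¬ ∃ w₀, a * w₀ = w₀ * a ∧ (w₀ : X ⧸ Y) = q₀) :
    ccount a univ < Y.index * ccount a (sset Y) := by
  rw [ccount_univ_eq_sum Y a, ← card_quotient_eq_index, ← Finset.card_univ, ← smul_eq_mul,
    ← Finset.sum_const]
  apply Finset.sum_lt_sum (fun q _ => ccount_coset_le Y a q)
  refine ⟨q₀, Finset.mem_univ _, ?_⟩
  rw [ccount_coset_eq_zero Y a q₀ h]
  exact ccount_sset_pos Y a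

theorem cpairs_univ_le (Y : Subgroup X) (A : Finset X) :
    cpairs A univ ≤ Y.index * cpairs A (sset Y) := by
  unfold cpairs
  rw [Finset.mul_sum]
  exact Finset.sum_le_sum (fun a _ => ccount_univ_le Y a)

theorem cpairs_coset_le (Y : Subgroup X) (A : Finset X) (q : X ⧸ Y) :
    cpairs A (cosetset Y q) ≤ cpairs A (sset Y) := by
  unfold cpairs
  exact Finset.sum_le_sum (fun a _ => ccount_coset_le Y a q)

/-- commuting pairs of the whole group -/
theorem cpairs_univ_univ : cpairs (univ : Finset X) univ = Nat.card (ConjClasses X) * Nat.card X := by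
  rw [← card_comm_eq_card_conjClasses_mul_card, Nat.card_eq_fintype_card, Fintype.card_subtype]
  unfold cpairs ccount
  rw [← Finset.card_sigma]
  apply Finset.card_bij (fun p _ => (p.1, p.2))
  · rintro ⟨a, w⟩ h
    simp only [Finset.mem_sigma, Finset.mem_univ, Finset.mem_filter, true_and] at h
    simp only [Finset.mem_filter, Finset.mem_univ, true_and]
    exact h
  · rintro ⟨a, w⟩ _ ⟨a', w'⟩ _ h
    simp only [Prod.mk.injEq] at h
    obtain ⟨rfl, rfl⟩ := h
    rfl
  · rintro ⟨a, w⟩ h
    simp only [Finset.mem_filter, Finset.mem_univ, true_and] at h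
    refine ⟨⟨a, w⟩, ?_, rfl⟩
    simp only [Finset.mem_sigma, Finset.mem_univ, Finset.mem_filter, true_and]
    exact h


theorem cpairs_mono_left {A A' : Finset X} (B : Finset X) (h : A ⊆ A') : cpairs A B ≤ cpairs A' B := by
  unfold cpairs
  exact Finset.sum_le_sum_of_subset h

theorem ccount_mono {B B' : Finset X} (a : X) (h : B ⊆ B') : ccount a B ≤ ccount a B' := by
  unfold ccount
  exact Finset.card_le_card (Finset.filter_subset_filter _ h)

theorem cpairs_mono_right (A : Finset X) {B B' : Finset X} (h : B ⊆ B') : cpairs A B ≤ cpairs A B' := by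
  unfold cpairs
  exact Finset.sum_le_sum (fun a _ => ccount_mono a h)

/-- commuting pairs of a subgroup -/
theorem cpairs_sset_sset (Y : Subgroup X) :
    cpairs (sset Y) (sset Y) = Nat.card (ConjClasses Y) * Nat.card Y := by
  rw [← card_comm_eq_card_conjClasses_mul_card, Nat.card_eq_fintype_card, Fintype.card_subtype]
  unfold cpairs ccount
  rw [← Finset.card_sigma]
  symm
  apply Finset.card_bij (fun p _ => ⟨(p.1 : X), (p.2 : X)⟩)
  · rintro ⟨a, w⟩ h
    simp only [Finset.mem_filter, Finset.mem_univ, true_and] at h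
    simp only [Finset.mem_sigma, Finset.mem_filter, mem_sset]
    refine ⟨a.2, w.2, ?_⟩
    have := congrArg Subtype.val h.eq
    simpa using this
  · rintro ⟨a, w⟩ _ ⟨a', w'⟩ _ h
    simp only [Sigma.mk.injEq] at h
    obtain ⟨h1, h2⟩ := h
    have h1' : a = a' := Subtype.ext h1
    subst h1'
    have h2' : w = w' := Subtype.ext (eq_of_heq h2)
    rw [h2']
  · rintro ⟨a, w⟩ h
    simp only [Finset.mem_sigma, Finset.mem_filter, mem_sset] at h
    obtain ⟨ha, hw, hc⟩ := h
    refine ⟨(⟨a, ha⟩, ⟨w, hw⟩), ?_, rfl⟩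
    simp only [Finset.mem_filter, Finset.mem_univ, true_and]
    exact Subtype.ext hc

end Cfsg.Agent.Helper21
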