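import Mathlib
import Cfsg.Agent.S0055

/-! s3816pieces C1H core (helper21), context-free: if `K = [K,A]` is normal, `A` acts coprimely and
`M ⊴ G` contains `K'`, then `A` has no nontrivial fixed points on `K/M`
(S0055 in `G/M`: `C_{K/M}(A) ∩ [K/M,A] = 1` and `[K/M,A] = K/M`). -/

set_option autoImplicit false

namespace Cfsg.Agent.S3816P

open scoped commutatorElement

universe u

variable {G : Type u} [Group G] [Finite G]

theorem C1H_aux_core {A K M : Subgroup G} (hK : K.Normal) (hM : M.Normal) (hKA : ⁅K, A⁆ = K)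
    (hcop : (Nat.card A).Coprime (Nat.card K)) (hKM : ⁅K, K⁆ ≤ M)
    {t : G} (ht : t ∈ K) (h : ∀ a ∈ A, t⁻¹ * (a * t * a⁻¹) ∈ M) : t ∈ M := by
  have := hK
  have := hM
  let f := QuotientGroup.mk' M
  have hf : Function.Surjective f := QuotientGroup.mk'_surjective _
  -- `K/M` is commutative
  have hcomm : IsMulCommutative ↥(K.map f) := by
    refine ⟨⟨fun x y => ?_⟩⟩
    obtain ⟨x, hx⟩ := x
    obtain ⟨y, hy⟩ := y
    obtain ⟨x0, hx0, rfl⟩ := hx
    obtain ⟨y0, hy0, rfl⟩ := hy
    apply Subtype.ext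
    show f x0 * f y0 = f y0 * f x0
    have h2 : ⁅x0, y0⁆ ∈ M := hKM (Subgroup.commutator_mem_commutator hx0 hy0)
    have h3 : f ⁅x0, y0⁆ = 1 := (QuotientGroup.eq_one_iff _).mpr h2
    rw [map_commutatorElement] at h3
    exact (commutatorElement_eq_one_iff_mul_comm.mp h3)
  have hVn : (K.map f).Normal := hK.map f hf
  have hAV : A.map f ≤ Subgroup.normalizer ((K.map f : Subgroup (G ⧸ M)) : Set _) := by
    rw [Subgroup.normalizer_eq_top]
    exact le_top
  have hcop' : (Nat.card ↥(A.map f)).Coprime (Nat.card ↥(K.map f)) :=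
    Nat.Coprime.coprime_dvd_left (Subgroup.card_map_dvd A f)
      (Nat.Coprime.coprime_dvd_right (Subgroup.card_map_dvd K f) hcop)
  have h55 := (Cfsg.Agent.S0055.result (A.map f) (K.map f) hAV hcop').1
  have hc : ⁅K.map f, A.map f⁆ = K.map f := by
    rw [← Subgroup.map_commutator, hKA]
  rw [hc] at h55
  have h4 : f t ∈ (K.map f ⊓ Subgroup.centralizer ((A.map f : Subgroup _) : Set _)) ⊓ K.map f := by
    refine ⟨⟨Subgroup.mem_map_of_mem f ht, ?_⟩, Subgroup.mem_map_of_mem f ht⟩
    show f t ∈ Subgroup.centralizer ((A.map f : Subgroup _) : Set _)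
    rw [Subgroup.mem_centralizer_iff]
    rintro _ ⟨a, ha, rfl⟩
    have h5 : f (t⁻¹ * (a * t * a⁻¹)) = 1 := (QuotientGroup.eq_one_iff _).mpr (h a ha)
    show f a * f t = f t * f a
    have h6 : f (a * t) = f (t * a) := by
      have : a * t = t * (t⁻¹ * (a * t * a⁻¹)) * a := by group
      rw [this, map_mul, map_mul, h5, mul_one, ← map_mul]
    rw [← map_mul, ← map_mul, h6]
  rw [h55, Subgroup.mem_bot] at h4
  exact (QuotientGroup.eq_one_iff _).mp h4

end Cfsg.Agent.S3816P
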