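import Mathlib
import Cfsg.Agent.Helper13.S3816Defs
import Cfsg.Agent.Helper13.S3816Basic
import Cfsg.Agent.Helper22.S3816MC1
import Cfsg.Agent.Helper20.S3816PHI
import Cfsg.Agent.Helper21.S3816C1A
import Cfsg.Agent.Helper21.S3816C1Hcore
import Cfsg.Agent.Helper21.S3816C1CD
import Cfsg.Agent.Helper22.S3816C1B
import Cfsg.Agent.Helper22.S3816C1Ecore
import Cfsg.Agent.Helper8.S3816TR

/-! s3816pieces C1H (helper21): case 1: `A` has no fixed points on `K/Φ(K)`. -/

set_option autoImplicit false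

namespace Cfsg.Agent.S3816P

universe u

variable {G : Type u} [Group G] [Finite G] {p : ℕ} [Fact p.Prime] {A K N : Subgroup G}

/-- C1H -/
theorem c1_fix_mod_Phi (mc : MC p A K) (hN : MinN K N) (h1 : N ≤ Subgroup.centralizer (A : Set G))
    {t : G} (ht : t ∈ K)
    (h : ∀ a ∈ A, t⁻¹ * (a * t * a⁻¹) ∈ Phi K) : t ∈ Phi K := by
  have hKn : K.Normal := mc.normalK
  have hPn : (Phi K).Normal := by
    rw [← Subgroup.normalizer_eq_top_iff]
    have h2 : Subgroup.normalizer (K : Set G) = ⊤ := Subgroup.normalizer_eq_top_iff.mpr hKn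
    have h3 := Phi_normalizer_le K
    rw [h2] at h3
    exact top_le_iff.mp h3
  have hcop : (Nat.card A).Coprime (Nat.card K) := by
    rw [mc.hyp.card]; exact mc.hyp.cop.symm
  have hpg : IsPGroup (Nat.card N) K :=
    C1E_aux_core mc hN (c1_central mc hN h1) (c1_card mc hN h1) (c1_le_comm mc hN h1)
      (fun hXK hne hAX hNX => c1_split mc hN h1 hXK hne hAX hNX)
      (fun r _ P => center_inf_commutator_inf_sylow_le r P)
  have hKM : ⁅K, K⁆ ≤ Phi K := comm_le_Phi (c1_card mc hN h1) hpg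
  exact C1H_aux_core hKn hPn mc.comm_eq hcop hKM ht h

end Cfsg.Agent.S3816P
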