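import Mathlib

/-!
# S4411, piece CHARA: characteristic subgroups expressed via `subgroupOf`
(statements verbatim from `departures/helper3_s4411_stubs.lean.txt`)
-/

set_option autoImplicit false

namespace Cfsg.Agent.S4411P

open Cfsg

universe u

/-- an automorphism of `R` restricts to an automorphism of a characteristic subgroup `M` of `R`. -/
theorem CHARA_aux_restrict {Y : Type*} [Group Y] {M R : Subgroup Y} (hMR : M ≤ R)
    (hM : (M.subgroupOf R).Characteristic) (φ : ↥R ≃* ↥R) :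
    ∃ ψ : ↥M ≃* ↥M, ∀ m : ↥M, ((ψ m : ↥M) : Y) = ((φ ⟨(m : Y), hMR m.2⟩ : ↥R) : Y) := by
  have h1 : ∀ (χ : ↥R ≃* ↥R) (x : ↥R), (x : Y) ∈ M → ((χ x : ↥R) : Y) ∈ M := by
    intro χ x hx
    have h2 := Subgroup.characteristic_iff_le_comap.mp hM χ
    have h3 : x ∈ M.subgroupOf R := Subgroup.mem_subgroupOf.mpr hx
    exact Subgroup.mem_subgroupOf.mp (Subgroup.mem_comap.mp (h2 h3))
  refine ⟨{ toFun := fun m => ⟨((φ ⟨(m : Y), hMR m.2⟩ : ↥R) : Y), h1 φ _ m.2⟩
            invFun := fun m => ⟨((φ.symm ⟨(m : Y), hMR m.2⟩ : ↥R) : Y), h1 φ.symm _ m.2⟩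
            left_inv := ?_
            right_inv := ?_
            map_mul' := ?_ }, fun m => rfl⟩
  · intro m
    apply Subtype.ext
    simp
  · intro m
    apply Subtype.ext
    simp
  · intro a b
    apply Subtype.ext
    have h2 : (⟨((a * b : ↥M) : Y), hMR (a * b).2⟩ : ↥R) =
        (⟨(a : Y), hMR a.2⟩ : ↥R) * (⟨(b : Y), hMR b.2⟩ : ↥R) := rfl
    show ((φ ⟨((a * b : ↥M) : Y), hMR (a * b).2⟩ : ↥R) : Y) = _
    rw [h2, map_mul]
    rfl

theorem CHAR_self {Y : Type*} [Group Y] (R : Subgroup Y) : (R.subgroupOf R).Characteristic := by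
  rw [Subgroup.subgroupOf_self]
  infer_instance

theorem CHAR_trans {Y : Type*} [Group Y] {K M R : Subgroup Y} (hKM : K ≤ M) (hMR : M ≤ R)
    (hM : (M.subgroupOf R).Characteristic) (hK : (K.subgroupOf M).Characteristic) :
    (K.subgroupOf R).Characteristic := by
  rw [Subgroup.characteristic_iff_le_comap]
  intro φ x hx
  obtain ⟨ψ, hψ⟩ := CHARA_aux_restrict hMR hM φ
  have hxK : (x : Y) ∈ K := Subgroup.mem_subgroupOf.mp hx
  have h2 := Subgroup.characteristic_iff_le_comap.mp hK ψ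
  have h3 : (⟨(x : Y), hKM hxK⟩ : ↥M) ∈ K.subgroupOf M := Subgroup.mem_subgroupOf.mpr hxK
  have h4 : ((ψ ⟨(x : Y), hKM hxK⟩ : ↥M) : Y) ∈ K :=
    Subgroup.mem_subgroupOf.mp (Subgroup.mem_comap.mp (h2 h3))
  rw [hψ] at h4
  rw [Subgroup.mem_comap, Subgroup.mem_subgroupOf]
  exact h4

theorem CHAR_cent {Y : Type*} [Group Y] {K R : Subgroup Y} (hKR : K ≤ R)
    (hK : (K.subgroupOf R).Characteristic) :
    ((R ⊓ Subgroup.centralizer (K : Set Y)).subgroupOf R).Characteristic := by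
  rw [Subgroup.characteristic_iff_le_comap]
  intro φ x hx
  have hxC : (x : Y) ∈ Subgroup.centralizer (K : Set Y) := (Subgroup.mem_subgroupOf.mp hx).2
  rw [Subgroup.mem_comap, Subgroup.mem_subgroupOf, Subgroup.mem_inf]
  refine ⟨(φ x).2, ?_⟩
  show ((φ x : ↥R) : Y) ∈ Subgroup.centralizer (K : Set Y)
  rw [Subgroup.mem_centralizer_iff]
  intro k hk
  -- k = φ k'
  have h2 := Subgroup.characteristic_iff_le_comap.mp hK φ.symm
  have h3 : (⟨k, hKR hk⟩ : ↥R) ∈ K.subgroupOf R := Subgroup.mem_subgroupOf.mpr hk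
  have h4 : ((φ.symm ⟨k, hKR hk⟩ : ↥R) : Y) ∈ K :=
    Subgroup.mem_subgroupOf.mp (Subgroup.mem_comap.mp (h2 h3))
  have h5 : (φ.symm ⟨k, hKR hk⟩ : ↥R) * x = x * (φ.symm ⟨k, hKR hk⟩ : ↥R) := by
    apply Subtype.ext
    exact Subgroup.mem_centralizer_iff.mp hxC _ h4
  have h6 := congrArg φ h5
  rw [map_mul, map_mul, MulEquiv.apply_symm_apply] at h6
  exact congrArg Subtype.val h6

/-- whoever normalises `R` normalises its characteristic subgroups. -/
theorem CHAR_normalizer {Y : Type*} [Group Y] {K R : Subgroup Y} (hKR : K ≤ R)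
    (hK : (K.subgroupOf R).Characteristic) :
    Subgroup.normalizer (R : Set Y) ≤ Subgroup.normalizer (K : Set Y) := by
  intro g hg
  have hg' : g⁻¹ ∈ Subgroup.normalizer (R : Set Y) := Subgroup.inv_mem _ hg
  have hc : ∀ (a : Y), a ∈ Subgroup.normalizer (R : Set Y) → ∀ x : Y, x ∈ R → a * x * a⁻¹ ∈ R :=
    fun a ha x hx => (Subgroup.mem_normalizer_iff.mp ha x).mp hx
  -- conjugation by `a` as an automorphism of `R`
  have hconj : ∀ (a : Y), a ∈ Subgroup.normalizer (R : Set Y) →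
      ∃ φ : ↥R ≃* ↥R, ∀ x : ↥R, ((φ x : ↥R) : Y) = a * (x : Y) * a⁻¹ := by
    intro a ha
    have ha' : a⁻¹ ∈ Subgroup.normalizer (R : Set Y) := Subgroup.inv_mem _ ha
    refine ⟨{ toFun := fun x => ⟨a * (x : Y) * a⁻¹, hc a ha _ x.2⟩
              invFun := fun x => ⟨a⁻¹ * (x : Y) * a⁻¹⁻¹, hc a⁻¹ ha' _ x.2⟩
              left_inv := ?_
              right_inv := ?_
              map_mul' := ?_ }, fun x => rfl⟩
    · intro x
      apply Subtype.ext
      show a⁻¹ * (a * (x : Y) * a⁻¹) * a⁻¹⁻¹ = x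
      group
    · intro x
      apply Subtype.ext
      show a * (a⁻¹ * (x : Y) * a⁻¹⁻¹) * a⁻¹ = x
      group
    · intro x y
      apply Subtype.ext
      show a * ((x : Y) * (y : Y)) * a⁻¹ = a * (x : Y) * a⁻¹ * (a * (y : Y) * a⁻¹)
      group
  have hmove : ∀ (a : Y), a ∈ Subgroup.normalizer (R : Set Y) → ∀ k : Y, k ∈ K → a * k * a⁻¹ ∈ K := by
    intro a ha k hk
    obtain ⟨φ, hφ⟩ := hconj a ha
    have h2 := Subgroup.characteristic_iff_le_comap.mp hK φ
    have h3 : (⟨k, hKR hk⟩ : ↥R) ∈ K.subgroupOf R := Subgroup.mem_subgroupOf.mpr hk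
    have h4 : ((φ ⟨k, hKR hk⟩ : ↥R) : Y) ∈ K :=
      Subgroup.mem_subgroupOf.mp (Subgroup.mem_comap.mp (h2 h3))
    rw [hφ] at h4
    exact h4
  rw [Subgroup.mem_normalizer_iff]
  intro k
  constructor
  · exact hmove g hg k
  · intro hk
    have h2 := hmove g⁻¹ hg' _ hk
    have h3 : g⁻¹ * (g * k * g⁻¹) * g⁻¹⁻¹ = k := by group
    rw [h3] at h2
    exact h2

/-- transport of `Characteristic` along an injective homomorphism. -/
theorem CHAR_map {Y Y' : Type*} [Group Y] [Group Y'] (f : Y →* Y') (hf : Function.Injective f) {K R : Subgroup Y}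
    (hKR : K ≤ R) (hK : (K.subgroupOf R).Characteristic) :
    ((K.map f).subgroupOf (R.map f)).Characteristic := by
  rw [Subgroup.characteristic_iff_le_comap]
  intro φ' x' hx'
  have hx'K : (x' : Y') ∈ K.map f := Subgroup.mem_subgroupOf.mp hx'
  obtain ⟨k, hk, hkx⟩ := Subgroup.mem_map.mp hx'K
  let e : ↥R ≃* ↥(R.map f) := R.equivMapOfInjective f hf
  have he : ∀ r : ↥R, ((e r : ↥(R.map f)) : Y') = f (r : Y) :=
    fun r => Subgroup.coe_equivMapOfInjective_apply R f hf r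
  let φ : ↥R ≃* ↥R := e.trans (φ'.trans e.symm)
  have h2 := Subgroup.characteristic_iff_le_comap.mp hK φ
  have h3 : (⟨k, hKR hk⟩ : ↥R) ∈ K.subgroupOf R := Subgroup.mem_subgroupOf.mpr hk
  have h4 : ((φ ⟨k, hKR hk⟩ : ↥R) : Y) ∈ K :=
    Subgroup.mem_subgroupOf.mp (Subgroup.mem_comap.mp (h2 h3))
  have h5 : e ⟨k, hKR hk⟩ = x' := by
    apply Subtype.ext
    rw [he]
    exact hkx
  have h6 : e (φ ⟨k, hKR hk⟩) = φ' x' := by
    show e (e.symm (φ' (e ⟨k, hKR hk⟩))) = φ' x'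
    rw [MulEquiv.apply_symm_apply, h5]
  rw [Subgroup.mem_comap, Subgroup.mem_subgroupOf]
  show ((φ' x' : ↥(R.map f)) : Y') ∈ K.map f
  rw [← h6, he]
  exact Subgroup.mem_map_of_mem f h4

end Cfsg.Agent.S4411P
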