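import Mathlib
import Cfsg.Agent.Helper4.S5033Defs
import Cfsg.Agent.Helper5.S5033L0
import Cfsg.Agent.Helper19.S5033NC
import Cfsg.Agent.Helper9.S5033GEN
import Cfsg.Agent.Helper25.S5033R0

set_option autoImplicit false

/-! # S5033 board, piece CLAIM3: a normal subgroup meeting a member of `S` contains `G'`. -/

namespace Cfsg.Agent.S5033P

open Cfsg

variable {G : Type*} [Group G] {S : Set (Subgroup G)}

theorem CLAIM3 (H : Hyp S) {N : Subgroup G} (hN : N.Normal) {A : Subgroup G} (hA : A ∈ S)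
    (h : N ⊓ A ≠ ⊥) : commutator G ≤ N := by
  have hall := L0.inf_ne_bot H hN hA h
  refine GEN.commutator_le hN H.hS.generates ?_
  intro A' hA' B hB
  rcases H.hS.pair A' hA' B hB with h0 | h1 | h2
  · rw [h0]; exact bot_le
  · -- rank one pair
    have hMle : N ⊓ (A' ⊔ B) ≤ A' ⊔ B := inf_le_right
    have hnorm : A' ⊔ B ≤ Subgroup.normalizer ((N ⊓ (A' ⊔ B) : Subgroup G) : Set G) := by
      intro x hx
      rw [Subgroup.mem_normalizer_iff]
      intro y
      constructor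
      · rintro ⟨hy1, hy2⟩
        exact ⟨hN.conj_mem y hy1 x, (A' ⊔ B).mul_mem ((A' ⊔ B).mul_mem hx hy2) ((A' ⊔ B).inv_mem hx)⟩
      · rintro ⟨hy1, hy2⟩
        refine ⟨?_, ?_⟩
        · have := hN.conj_mem _ hy1 x⁻¹
          simpa [mul_assoc] using this
        · have := (A' ⊔ B).mul_mem ((A' ⊔ B).mul_mem ((A' ⊔ B).inv_mem hx) hy2) hx
          simpa [mul_assoc] using this
    rcases R0.dichotomy h1 hMle hnorm with h3 | h3
    · have h4 : ⁅(N ⊓ (A' ⊔ B)) ⊔ A', (N ⊓ (A' ⊔ B)) ⊔ A'⁆ ≤ N ⊓ (A' ⊔ B) :=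
        GEN.comm_sup_le (H.hS.commutative A' hA') (le_sup_left.trans hnorm)
      rw [h3] at h4
      exact (Subgroup.commutator_mono le_sup_left le_sup_right).trans (h4.trans inf_le_left)
    · exfalso
      apply hall A' hA'
      have hc := NC.inf_centralizer H.hS hA' hB h1
      rw [eq_bot_iff, ← hc]
      intro e he
      exact ⟨he.2, h3 ⟨he.1, (le_sup_left : A' ≤ A' ⊔ B) he.2⟩⟩
  · -- commutator case
    obtain ⟨_, _, h3, _⟩ := h2
    obtain ⟨a, ha, ha1⟩ : ∃ a ∈ N ⊓ A', a ≠ 1 := by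
      by_contra hcon
      push Not at hcon
      exact hall A' hA' ((Subgroup.eq_bot_iff_forall _).2 hcon)
    rw [← h3 a ha.2 ha1, Subgroup.closure_le]
    rintro _ ⟨b, _, rfl⟩
    have h5 : b * a⁻¹ * b⁻¹ ∈ N := hN.conj_mem _ (N.inv_mem ha.1) b
    have h6 : a * (b * a⁻¹ * b⁻¹) ∈ N := N.mul_mem ha.1 h5
    simpa [mul_assoc] using h6

end Cfsg.Agent.S5033P
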