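import Cfsg.Agent.Helper13.S5072Defs

/-! S5072 piece ZEX: two singular points have a common singular neighbour. -/

set_option autoImplicit false
set_option linter.unusedSectionVars false

namespace Cfsg.Agent.S5072P

open Matrix Cfsg Cfsg.Agent.Helper28.Sg Cfsg.Agent.Helper28.Spin Cfsg.Agent.Helper28.QPlus
  Cfsg.Agent.Helper28.IsoTransport

variable {F : Type*} [Field F] {m : ℕ}

namespace ZEX

theorem ne_zero_left {p r : Vm (m + 3) F} (h : SP p r) : p ≠ 0 := by
  rintro rfl
  have := (h.ind 1 0 (by simp)).1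
  exact one_ne_zero this

/-- a singular vector orthogonal to `p` with a partner orthogonal to `p` forms a singular pair
with `p` -/
theorem sp_of {p e' f' : Vm (m + 3) F} (hp : p ≠ 0) (qp : QfPlus (m + 3) F p = 0)
    (qe : QfPlus (m + 3) F e' = 0) (hef : B (QfPlus (m + 3) F) e' f' = 1)
    (hep : B (QfPlus (m + 3) F) e' p = 0) (hfp : B (QfPlus (m + 3) F) f' p = 0) : SP p e' := by
  refine ⟨fun x y hxy => ?_, qp, qe, by rw [B_comm]; exact hep⟩
  have h1 := congrArg (fun v => B (QfPlus (m + 3) F) v f') hxy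
  have hpf : QuadraticMap.polar (⇑(QfPlus (m + 3) F)) p f' = 0 := by
    have := B_comm (QfPlus (m + 3) F) p f'
    simp only [B] at this hfp
    rw [this, hfp]
  simp only [B, QuadraticMap.polar_add_left, QuadraticMap.polar_smul_left, smul_eq_mul,
    QuadraticMap.polar_zero_left] at h1 hef
  rw [hpf, hef, mul_zero, zero_add, mul_one] at h1
  subst h1
  rw [zero_smul, add_zero] at hxy
  exact ⟨(smul_eq_zero.1 hxy).resolve_right hp, rfl⟩

theorem sp_smul {p z : Vm (m + 3) F} (h : SP p z) (c : F) (hc : c ≠ 0) : SP (c • p) z := by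
  refine ⟨fun x y hxy => ?_, ?_, h.qr, ?_⟩
  · rw [smul_smul] at hxy
    obtain ⟨h1, h2⟩ := h.ind _ _ hxy
    exact ⟨(mul_eq_zero.1 h1).resolve_right hc, h2⟩
  · rw [Cfsg.Agent.Helper28.Sg.Q_smul, h.qp, mul_zero]
  · have := h.pr
    simp only [B, QuadraticMap.polar_smul_left, smul_eq_mul] at this ⊢
    rw [this, mul_zero]

end ZEX

open ZEX in
theorem exists_mid {p r p' r' : Vm (m + 3) F} (h : SP p r) (h' : SP p' r') :
    ∃ z : Vm (m + 3) F, SP p z ∧ SP p' z := by
  by_cases hind : Indep p p'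
  · obtain ⟨e', f', qe, -, hef, hep, hep', hfp, hfp'⟩ := exists_hyp_orth (nondegP m) (fr3 m) hind
    exact ⟨e', sp_of (ne_zero_left h) h.qp qe hef hep hfp,
      sp_of (ne_zero_left h') h'.qp qe hef hep' hfp'⟩
  · unfold Indep at hind
    push Not at hind
    obtain ⟨x, y, hxy, hne⟩ := hind
    have hp := ne_zero_left h
    have hp' := ne_zero_left h'
    have hy : y ≠ 0 := by
      rintro rfl
      rw [zero_smul, add_zero] at hxy
      exact hne ((smul_eq_zero.1 hxy).resolve_right hp) rfl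
    have hx : x ≠ 0 := by
      rintro rfl
      rw [zero_smul, zero_add] at hxy
      exact hy ((smul_eq_zero.1 hxy).resolve_right hp')
    have hp'eq : p' = (-(y⁻¹ * x)) • p := by
      have h1 : y • p' = -(x • p) := eq_neg_of_add_eq_zero_right hxy
      have h2 : p' = y⁻¹ • (y • p') := by rw [smul_smul, inv_mul_cancel₀ hy, one_smul]
      rw [h2, h1, smul_neg, smul_smul, neg_smul]
    obtain ⟨e', f', qe, -, hef, hep, -, hfp, -⟩ := exists_hyp_orth (nondegP m) (fr3 m) h.ind
    have h1 : SP p e' := sp_of hp h.qp qe hef hep hfp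
    refine ⟨e', h1, ?_⟩
    rw [hp'eq]
    exact sp_smul h1 _ (neg_ne_zero.2 (mul_ne_zero (inv_ne_zero hy) hx))

end Cfsg.Agent.S5072P
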