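import Mathlib
import Cfsg.Agent.Helper7.S2481Defs

/-! S2481 Hermitian chapter, piece GUISOM (driver helper7): `GU` versus isometric endomorphisms. -/

set_option autoImplicit false
set_option linter.unusedSectionVars false

namespace Cfsg.Agent.S2481P

open Polynomial

namespace GUISOM

variable {F : Type*} [Field F] [Fintype F] {n q : ℕ}

theorem mem_GU_iff (g : Matrix.GeneralLinearGroup (Fin n) F) :
    g ∈ Cfsg.GU n F q ↔ IsIsom n q (Matrix.toLin' (g : Matrix (Fin n) (Fin n) F)) := by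
  unfold Cfsg.GU Cfsg.preserving IsIsom
  simp only [Subgroup.mem_mk, Submonoid.mem_mk, Subsemigroup.mem_mk, Set.mem_ofPred_eq,
    Matrix.toLin'_apply, Units.coeHom_apply]

theorem toLin'_pow (M : Matrix (Fin n) (Fin n) F) (k : ℕ) :
    (Matrix.toLin' M) ^ k = Matrix.toLin' (M ^ k) := by
  induction k with
  | zero => rw [pow_zero, pow_zero, Matrix.toLin'_one]; rfl
  | succ k ih => rw [pow_succ, pow_succ, Matrix.toLin'_mul, ih]; rfl

theorem toLin'_pow_card (g : Matrix.GeneralLinearGroup (Fin n) F) :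
    (Matrix.toLin' (g : Matrix (Fin n) (Fin n) F)) ^
      Nat.card (Matrix.GeneralLinearGroup (Fin n) F) = 1 := by
  classical
  have h1 : g ^ Nat.card (Matrix.GeneralLinearGroup (Fin n) F) = 1 := pow_card_eq_one'
  have h2 : ((g : Matrix (Fin n) (Fin n) F)) ^ Nat.card (Matrix.GeneralLinearGroup (Fin n) F) = 1 := by
    rw [← Units.val_pow_eq_pow_val, h1, Units.val_one]
  rw [toLin'_pow, h2, Matrix.toLin'_one]
  rfl

theorem card_GL_pos : 0 < Nat.card (Matrix.GeneralLinearGroup (Fin n) F) := by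
  classical
  exact Nat.card_pos

/-- an isometric linear automorphism is (the `toLin'` of) an element of `GU` -/
theorem exists_GU_of_isometry (S : (Fin n → F) ≃ₗ[F] (Fin n → F))
    (hS : ∀ x y, Cfsg.hermForm n F q (S x) (S y) = Cfsg.hermForm n F q x y) :
    ∃ c : Matrix.GeneralLinearGroup (Fin n) F, c ∈ Cfsg.GU n F q ∧
      Matrix.toLin' (c : Matrix (Fin n) (Fin n) F) = (S : (Fin n → F) →ₗ[F] (Fin n → F)) := by
  classical
  let c : Matrix.GeneralLinearGroup (Fin n) F :=
    ⟨LinearMap.toMatrix' (S : (Fin n → F) →ₗ[F] (Fin n → F)),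
      LinearMap.toMatrix' (S.symm : (Fin n → F) →ₗ[F] (Fin n → F)),
      by rw [← LinearMap.toMatrix'_comp]; simp,
      by rw [← LinearMap.toMatrix'_comp]; simp⟩
  have hc : Matrix.toLin' (c : Matrix (Fin n) (Fin n) F) = (S : (Fin n → F) →ₗ[F] (Fin n → F)) :=
    Matrix.toLin'_toMatrix' _
  refine ⟨c, ?_, hc⟩
  rw [mem_GU_iff, hc]
  intro u v
  exact hS u v

end GUISOM

end Cfsg.Agent.S2481P
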