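import Mathlib
import Cfsg.Agent.Helper7.S2481Defs
import Cfsg.Agent.Helper7.S2481STBASIC

/-! S2481 Hermitian chapter, piece ADJ (driver helper7): `st` is the adjoint with respect to the
Hermitian form, `h (a(g) u) v = h u ((st a)(g) v)`. -/

set_option autoImplicit false

namespace Cfsg.Agent.S2481P

open Polynomial
open Cfsg.Agent.Helper2.Herm

namespace ADJ

variable {F : Type*} [Field F] [Fintype F] {n q : ℕ}

theorem adj (hF : Fintype.card F = q ^ 2) (N : ℕ) (hN : 0 < N)
    (g : Module.End F (Fin n → F)) (hg : IsIsom n q g) (hgN : g ^ N = 1) (a : F[X])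
    (u v : Fin n → F) :
    Cfsg.hermForm n F q (aeval g a u) v =
      Cfsg.hermForm n F q u (aeval g (st (cj hF) N a) v) := by
  -- the case `a = X`
  have hX : ∀ u v : Fin n → F, Cfsg.hermForm n F q (g u) v =
      Cfsg.hermForm n F q u ((g ^ (N - 1)) v) := by
    intro u v
    have h1 : g ((g ^ (N - 1)) v) = v := by
      have : g * g ^ (N - 1) = 1 := by
        rw [← pow_succ', Nat.sub_add_cancel hN, hgN]
      rw [← Module.End.mul_apply, this, Module.End.one_apply]
    conv_lhs => rw [← h1]
    exact hg u _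
  revert u v
  induction a using Polynomial.induction_on with
  | C c =>
    intro u v
    rw [STBASIC.st_C, aeval_C, aeval_C, Module.algebraMap_end_apply, Module.algebraMap_end_apply,
      hf_smul_left, hf_smul_right hF, cj_cj]
  | add a b ha hb =>
    intro u v
    rw [map_add, map_add, map_add, LinearMap.add_apply, LinearMap.add_apply, hf_add_left,
      hf_add_right hF, ha, hb]
  | monomial k c h =>
    intro u v
    have e1 : aeval g (C c * X ^ (k + 1)) u = aeval g (C c * X ^ k) (g u) := by
      rw [pow_succ, ← mul_assoc, map_mul, aeval_X, Module.End.mul_apply]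
    have e2 : aeval g (st (cj hF) N (C c * X ^ (k + 1))) v =
        (g ^ (N - 1)) (aeval g (st (cj hF) N (C c * X ^ k)) v) := by
      rw [pow_succ, ← mul_assoc, map_mul (st (cj hF) N), STBASIC.st_X, mul_comm, map_mul, map_pow,
        aeval_X, Module.End.mul_apply]
    rw [e1, e2, h, hX]

theorem adj_right (hF : Fintype.card F = q ^ 2) (N : ℕ) (hN : 0 < N)
    (g : Module.End F (Fin n → F)) (hg : IsIsom n q g) (hgN : g ^ N = 1) (b : F[X])
    (u v : Fin n → F) :
    Cfsg.hermForm n F q u (aeval g b v) =
      Cfsg.hermForm n F q (aeval g (st (cj hF) N b) u) v := by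
  rw [adj hF N hN g hg hgN]
  have h1 := STBASIC.aeval_eq_zero_of_dvd N g hgN _
    (STBASIC.st_st (cj hF) (cj_cj hF) N hN b)
  rw [map_sub, sub_eq_zero] at h1
  rw [h1]

/-- `h (a(g) u) (b(g) v) = h ((st b * a)(g) u) v` -/
theorem adj_both (hF : Fintype.card F = q ^ 2) (N : ℕ) (hN : 0 < N)
    (g : Module.End F (Fin n → F)) (hg : IsIsom n q g) (hgN : g ^ N = 1) (a b : F[X])
    (u v : Fin n → F) :
    Cfsg.hermForm n F q (aeval g a u) (aeval g b v) =
      Cfsg.hermForm n F q (aeval g (st (cj hF) N b * a) u) v := by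
  rw [adj_right hF N hN g hg hgN, map_mul, Module.End.mul_apply]

end ADJ

end Cfsg.Agent.S2481P
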