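import Mathlib
import Cfsg.Agent.Helper7.S2481Defs

/-! S2481 Hermitian chapter, piece GLUE (driver helper7): the orthogonal sum of two Hermitian frames. -/

set_option autoImplicit false

namespace Cfsg.Agent.S2481P

open Polynomial
open Cfsg.Agent.Helper2.Herm (cj)

namespace GLUE

variable {F : Type*} [Field F] [Fintype F] {n q : ℕ}

theorem glue (hF : Fintype.card F = q ^ 2) (g : Module.End F (Fin n → F))
    {ι₁ ι₂ : Type*} (p₁ : ι₁ → F[X]) (e₁ : ι₁ → ℕ) (dual₁ : ι₁ → ι₁) (v₁ : ι₁ → (Fin n → F))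
    (W₁ : Submodule F (Fin n → F))
    (p₂ : ι₂ → F[X]) (e₂ : ι₂ → ℕ) (dual₂ : ι₂ → ι₂) (v₂ : ι₂ → (Fin n → F))
    (W₂ : Submodule F (Fin n → F))
    (htd₁ : IsTypeData (cj hF) p₁ e₁ dual₁) (htd₂ : IsTypeData (cj hF) p₂ e₂ dual₂)
    (hfr₁ : HermFrame n q g W₁ p₁ e₁ dual₁ v₁) (hfr₂ : HermFrame n q g W₂ p₂ e₂ dual₂ v₂)
    (horth : ∀ x ∈ W₁, ∀ y ∈ W₂, Cfsg.hermForm n F q x y = 0) :
    IsTypeData (cj hF) (Sum.elim p₁ p₂) (Sum.elim e₁ e₂) (Sum.map dual₁ dual₂) ∧
    HermFrame n q g (W₁ ⊔ W₂) (Sum.elim p₁ p₂) (Sum.elim e₁ e₂) (Sum.map dual₁ dual₂)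
      (Sum.elim v₁ v₂) := by
  have hm₁ : ∀ (i : ι₁) (a : F[X]), aeval g a (v₁ i) ∈ W₁ := by
    intro i a
    rw [← hfr₁.span]
    exact Submodule.subset_span ⟨i, a, rfl⟩
  have hm₂ : ∀ (i : ι₂) (a : F[X]), aeval g a (v₂ i) ∈ W₂ := by
    intro i a
    rw [← hfr₂.span]
    exact Submodule.subset_span ⟨i, a, rfl⟩
  constructor
  · exact
      { monic := fun i => by rcases i with i | i <;> [exact htd₁.monic i; exact htd₂.monic i]
        irred := fun i => by rcases i with i | i <;> [exact htd₁.irred i; exact htd₂.irred i]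
        ne_X := fun i => by rcases i with i | i <;> [exact htd₁.ne_X i; exact htd₂.ne_X i]
        one_le := fun i => by rcases i with i | i <;> [exact htd₁.one_le i; exact htd₂.one_le i]
        dual_dual := fun i => by
          rcases i with i | i
          · show Sum.inl (dual₁ (dual₁ i)) = Sum.inl i
            rw [htd₁.dual_dual]
          · show Sum.inr (dual₂ (dual₂ i)) = Sum.inr i
            rw [htd₂.dual_dual]
        e_dual := fun i => by
          rcases i with i | i <;> [exact htd₁.e_dual i; exact htd₂.e_dual i]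
        p_dual := fun i => by
          rcases i with i | i <;> [exact htd₁.p_dual i; exact htd₂.p_dual i]
        fix_iff := fun i => by
          rcases i with i | i
          · show Sum.inl (dual₁ i) = Sum.inl i ↔ pdual (cj hF) (p₁ i) = p₁ i
            rw [Sum.inl.injEq]
            exact htd₁.fix_iff i
          · show Sum.inr (dual₂ i) = Sum.inr i ↔ pdual (cj hF) (p₂ i) = p₂ i
            rw [Sum.inr.injEq]
            exact htd₂.fix_iff i }
  · exact
      { ann := fun i => by rcases i with i | i <;> [exact hfr₁.ann i; exact hfr₂.ann i]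
        orth := fun i j hj a b => by
          rcases i with i | i <;> rcases j with j | j
          · exact hfr₁.orth i j (fun h => hj (by rw [h]; rfl)) a b
          · exact horth _ (hm₁ i a) _ (hm₂ j b)
          · exact Cfsg.Agent.Helper2.Herm.hf_eq_zero_of_symm hF (horth _ (hm₁ j b) _ (hm₂ i a))
          · exact hfr₂.orth i j (fun h => hj (by rw [h]; rfl)) a b
        nondeg := fun i => by
          rcases i with i | i <;> [exact hfr₁.nondeg i; exact hfr₂.nondeg i]
        span := by
          rw [← hfr₁.span, ← hfr₂.span, ← Submodule.span_union]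
          congr 1
          ext x
          constructor
          · rintro ⟨i | i, a, ha⟩
            · exact Or.inl ⟨i, a, ha⟩
            · exact Or.inr ⟨i, a, ha⟩
          · rintro (⟨i, a, ha⟩ | ⟨i, a, ha⟩)
            · exact ⟨Sum.inl i, a, ha⟩
            · exact ⟨Sum.inr i, a, ha⟩ }

end GLUE

end Cfsg.Agent.S2481P
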