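import Mathlib
import Cfsg.Agent.Helper7.S2481Defs

/-! S2481 Hermitian chapter, piece BLOCKA (driver helper7): the one-vector frame. -/

set_option autoImplicit false

namespace Cfsg.Agent.S2481P

open Polynomial
open Cfsg.Agent.Helper2.Herm (cj)

universe u

namespace BLOCKA

variable {F : Type u} [Field F] [Fintype F] {n q : ℕ}

theorem frame_of_nonisotropic (hF : Fintype.card F = q ^ 2)
    (g : Module.End F (Fin n → F))
    (p : F[X]) (hp : p.Monic) (hirr : Irreducible p) (hpX : p ≠ X)
    (hsd : pdual (cj hF) p = p) (e : ℕ) (he : 1 ≤ e) (v : Fin n → F)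
    (hv : aeval g (p ^ e) v = 0)
    (hv' : Cfsg.hermForm n F q (aeval g (p ^ (e - 1)) v) v ≠ 0) :
    IsTypeData (cj hF) (fun _ : PUnit.{u+1} => p) (fun _ => e) id ∧
    HermFrame n q g (Submodule.span F {x | ∃ a : F[X], x = aeval g a v})
      (fun _ : PUnit.{u+1} => p) (fun _ => e) id (fun _ => v) := by
  constructor
  · exact
      { monic := fun _ => hp
        irred := fun _ => hirr
        ne_X := fun _ => hpX
        one_le := fun _ => he
        dual_dual := fun _ => rfl
        e_dual := fun _ => rfl
        p_dual := fun _ => hsd.symm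
        fix_iff := fun _ => ⟨fun _ => hsd, fun _ => rfl⟩ }
  · exact
      { ann := fun _ => hv
        orth := fun i j hj => absurd (Subsingleton.elim j (id i)) hj
        nondeg := fun _ => ⟨1, by rw [one_mul]; exact hv'⟩
        span := by
          congr 1
          ext x
          constructor
          · rintro ⟨_, a, ha⟩
            exact ⟨a, ha⟩
          · rintro ⟨a, ha⟩
            exact ⟨PUnit.unit, a, ha⟩ }

end BLOCKA

end Cfsg.Agent.S2481P
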