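import Mathlib
import Cfsg.Agent.Helper7.S2481Defs

/-! S2481 Hermitian chapter, piece FITTING (driver helper7): the Fitting decomposition of an invariant
subspace with respect to `a(g)` when `ker a(g)^2 = ker a(g)`. -/

set_option autoImplicit false

namespace Cfsg.Agent.S2481P

open Polynomial

namespace FITTING

variable {F : Type*} [Field F] {n : ℕ}

/-- a `g`-invariant subspace is invariant under every polynomial in `g` -/
theorem aeval_mem {V : Type*} [AddCommGroup V] [Module F V] (g : Module.End F V) (W : Submodule F V)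
    (hinv : ∀ x ∈ W, g x ∈ W) (a : F[X]) : ∀ x ∈ W, aeval g a x ∈ W := by
  induction a using Polynomial.induction_on with
  | C c =>
    intro x hx
    rw [aeval_C]
    exact W.smul_mem c hx
  | add p q hp hq =>
    intro x hx
    rw [map_add]
    exact W.add_mem (hp x hx) (hq x hx)
  | monomial k c h =>
    intro x hx
    rw [pow_succ, ← mul_assoc, map_mul, aeval_X]
    exact h (g x) (hinv x hx)

theorem fitting (g : Module.End F (Fin n → F)) (W : Submodule F (Fin n → F))
    (hinv : ∀ x ∈ W, g x ∈ W) (a : F[X])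
    (hstab : ∀ x ∈ W, aeval g (a * a) x = 0 → aeval g a x = 0) :
    ∀ y ∈ W, ∃ y₁ ∈ W, ∃ w ∈ W, aeval g a y₁ = 0 ∧ y = y₁ + aeval g a w := by
  set A : W →ₗ[F] W := (aeval g a).restrict (aeval_mem g W hinv a) with hA
  have hAval : ∀ x : W, ((A x : W) : Fin n → F) = aeval g a (x : Fin n → F) := fun x => rfl
  have hdisj : LinearMap.ker A ⊓ LinearMap.range A = ⊥ := by
    rw [eq_bot_iff]
    rintro x ⟨hx1, ⟨w, rfl⟩⟩
    rw [SetLike.mem_coe, LinearMap.mem_ker] at hx1
    rw [Submodule.mem_bot]
    have h1 : aeval g (a * a) (w : Fin n → F) = 0 := by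
      rw [map_mul, Module.End.mul_apply, ← hAval, ← hAval, hx1]
      rfl
    have h2 := hstab w w.2 h1
    apply Subtype.ext
    rw [hAval, h2]
    rfl
  have hsum : LinearMap.ker A ⊔ LinearMap.range A = ⊤ := by
    apply Submodule.eq_top_of_finrank_eq
    have h1 := Submodule.finrank_sup_add_finrank_inf_eq (LinearMap.ker A) (LinearMap.range A)
    rw [hdisj, finrank_bot, add_zero] at h1
    rw [h1, add_comm, LinearMap.finrank_range_add_finrank_ker]
  intro y hy
  have hmem : (⟨y, hy⟩ : W) ∈ LinearMap.ker A ⊔ LinearMap.range A := by rw [hsum]; trivial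
  obtain ⟨y₁, hy₁, z, ⟨w, rfl⟩, hyz⟩ := Submodule.mem_sup.mp hmem
  rw [LinearMap.mem_ker] at hy₁
  refine ⟨y₁, y₁.2, w, w.2, ?_, ?_⟩
  · rw [← hAval, hy₁]; rfl
  · have := congrArg Subtype.val hyz
    exact this.symm

end FITTING

end Cfsg.Agent.S2481P
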