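import Mathlib
import Cfsg.Agent.Helper7.S2481Defs

/-! S2481 Hermitian chapter, piece POLAR (driver helper7): polarisation of `h (T v) v = 0`. -/

set_option autoImplicit false

namespace Cfsg.Agent.S2481P

open Polynomial
open Cfsg.Agent.Helper2.Herm

namespace POLAR

variable {F : Type*} [Field F] [Fintype F] {n q : ℕ}

/-- the involution `x ↦ x^q` is nontrivial (local copy of `FIELD.exists_ne_conj`) -/
theorem exists_ne_conj' (hF : Fintype.card F = q ^ 2) : ∃ l : F, l ^ q ≠ l := by
  classical
  by_contra hcon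
  simp only [not_exists, not_not] at hcon
  have hq := two_le_q hF
  have hne : (X ^ q - X : F[X]) ≠ 0 := FiniteField.X_pow_card_sub_X_ne_zero F (by omega)
  have hsub : (Finset.univ : Finset F) ⊆ (X ^ q - X : F[X]).roots.toFinset := by
    intro x _
    rw [Multiset.mem_toFinset, mem_roots hne, IsRoot.def, eval_sub, eval_pow, eval_X, hcon x,
      sub_self]
  have h1 := Finset.card_le_card hsub
  have h2 := Multiset.toFinset_card_le (X ^ q - X : F[X]).roots
  have h3 := Polynomial.card_roots' (X ^ q - X : F[X])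
  rw [FiniteField.X_pow_card_sub_X_natDegree_eq F (by omega)] at h3
  rw [Finset.card_univ, hF] at h1
  nlinarith

theorem polar (hF : Fintype.card F = q ^ 2) (T : Module.End F (Fin n → F))
    (W : Submodule F (Fin n → F))
    (hq : ∀ v ∈ W, Cfsg.hermForm n F q (T v) v = 0) :
    ∀ x ∈ W, ∀ y ∈ W, Cfsg.hermForm n F q (T x) y = 0 := by
  -- antisymmetry
  have hanti : ∀ x ∈ W, ∀ y ∈ W,
      Cfsg.hermForm n F q (T x) y + Cfsg.hermForm n F q (T y) x = 0 := by
    intro x hx y hy
    have h1 := hq (x + y) (W.add_mem hx hy)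
    rw [map_add, hf_add_left, hf_add_right hF, hf_add_right hF, hq x hx, hq y hy] at h1
    linear_combination h1
  intro x hx y hy
  obtain ⟨l, hl⟩ := exists_ne_conj' hF
  have h1 := hanti (l • x) (W.smul_mem l hx) y hy
  rw [map_smul, hf_smul_left, hf_smul_right hF, cj_apply] at h1
  have h2 := hanti x hx y hy
  have h3 : (l - l ^ q) * Cfsg.hermForm n F q (T x) y = 0 := by
    linear_combination h1 - l ^ q * h2
  rcases mul_eq_zero.mp h3 with h | h
  · exact absurd (sub_eq_zero.mp h).symm hl
  · exact h

end POLAR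

end Cfsg.Agent.S2481P
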