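import Mathlib
import Cfsg.Agent.Helper7.S2481Defs
import Cfsg.Agent.Helper7.S2481STBASIC
import Cfsg.Agent.Helper7.S2481PDUAL
import Cfsg.Agent.Helper7.S2481DUALST
import Cfsg.Agent.Helper21.S2481ADJ
import Cfsg.Agent.Helper21.S2481POLAR
import Cfsg.Agent.Helper21.S2481FITTING

/-! S2481 Hermitian chapter, piece NONISO (driver helper7): a self-dual primary component of maximal
exponent contains a vector `v` with `h (p^(e-1)(g) v) v ≠ 0`. -/

set_option autoImplicit false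
set_option linter.unusedSectionVars false
set_option linter.unusedVariables false

namespace Cfsg.Agent.S2481P

open Polynomial
open Cfsg.Agent.Helper2.Herm

namespace NONISO

variable {F : Type*} [Field F] [Fintype F] {n q : ℕ}

/-- `st (p^k)` acts as a multiple of `(pdual p)^k` -/
theorem aeval_st_pow (hF : Fintype.card F = q ^ 2) (N : ℕ) (hN : 0 < N)
    {V : Type*} [AddCommGroup V] [Module F V]
    (g : Module.End F V) (hgN : g ^ N = 1) (p : F[X]) (h0 : p.coeff 0 ≠ 0) (k : ℕ) :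
    ∃ w : F[X], aeval g (st (cj hF) N (p ^ k)) = aeval g (w ^ k * pdual (cj hF) p ^ k) := by
  obtain ⟨w, w', -, hw⟩ := DUALST.exists_unit_mul (cj hF) N hN p h0
  have h1 : aeval g (st (cj hF) N p) = aeval g (w * pdual (cj hF) p) := by
    have := STBASIC.aeval_eq_zero_of_dvd N g hgN _ hw
    rwa [map_sub, sub_eq_zero] at this
  refine ⟨w, ?_⟩
  rw [map_pow (st (cj hF) N), map_pow, h1, ← map_pow, mul_pow]

/-- existence of a vector of `W` pairing nontrivially with a nonzero vector of `W` -/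
theorem exists_pair (W : Submodule F (Fin n → F)) (hnd : NondegOn n q W) {x : Fin n → F}
    (hx : x ∈ W) (hx0 : x ≠ 0) : ∃ y ∈ W, Cfsg.hermForm n F q x y ≠ 0 := by
  by_contra hcon
  apply hx0
  apply hnd x hx
  intro y hy
  by_contra h
  exact hcon ⟨y, hy, h⟩

theorem exists_nonisotropic (hF : Fintype.card F = q ^ 2) (N : ℕ) (hN : 0 < N)
    (g : Module.End F (Fin n → F)) (hg : IsIsom n q g) (hgN : g ^ N = 1)
    (W : Submodule F (Fin n → F)) (hinv : ∀ x ∈ W, g x ∈ W) (hnd : NondegOn n q W)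
    (p : F[X]) (hp : p.Monic) (hirr : Irreducible p) (hpX : p ≠ X)
    (hsd : pdual (cj hF) p = p) (e : ℕ) (he : 1 ≤ e)
    (hu : ∃ u ∈ W, aeval g (p ^ e) u = 0 ∧ aeval g (p ^ (e - 1)) u ≠ 0)
    (hmax : ∀ x ∈ W, ∀ k : ℕ, aeval g (p ^ k) x = 0 → aeval g (p ^ e) x = 0) :
    ∃ v ∈ W, aeval g (p ^ e) v = 0 ∧
      Cfsg.hermForm n F q (aeval g (p ^ (e - 1)) v) v ≠ 0 := by
  by_contra hcon
  have hcon' : ∀ v ∈ W, aeval g (p ^ e) v = 0 →
      Cfsg.hermForm n F q (aeval g (p ^ (e - 1)) v) v = 0 := by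
    intro v hv hv0
    by_contra h
    exact hcon ⟨v, hv, hv0, h⟩
  obtain ⟨u, huW, hu1, hu2⟩ := hu
  have h0 : p.coeff 0 ≠ 0 := PDUAL.coeff_zero_ne_zero p hp hirr hpX
  -- polarisation on the primary component
  have hpol := POLAR.polar hF (aeval g (p ^ (e - 1))) (W ⊓ LinearMap.ker (aeval g (p ^ e)))
    (fun v hv => hcon' v hv.1 (LinearMap.mem_ker.mp hv.2))
  have hTuW : aeval g (p ^ (e - 1)) u ∈ W := FITTING.aeval_mem g W hinv _ u huW
  obtain ⟨y, hyW, hy⟩ := exists_pair W hnd hTuW hu2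
  have hstab : ∀ x ∈ W, aeval g (p ^ e * p ^ e) x = 0 → aeval g (p ^ e) x = 0 := by
    intro x hx h
    rw [← pow_add] at h
    exact hmax x hx _ h
  obtain ⟨y₁, hy₁W, w, hwW, hy₁0, hydec⟩ := FITTING.fitting g W hinv (p ^ e) hstab y hyW
  apply hy
  rw [hydec, hf_add_right hF,
    hpol u ⟨huW, LinearMap.mem_ker.mpr hu1⟩ y₁ ⟨hy₁W, LinearMap.mem_ker.mpr hy₁0⟩, zero_add,
    ADJ.adj_right hF N hN g hg hgN]
  obtain ⟨w₀, hw₀⟩ := aeval_st_pow hF N hN g hgN p h0 e
  have hkill : aeval g (st (cj hF) N (p ^ e)) (aeval g (p ^ (e - 1)) u) = 0 := by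
    rw [hw₀, hsd, ← Module.End.mul_apply, ← map_mul,
      show w₀ ^ e * p ^ e * p ^ (e - 1) = w₀ ^ e * p ^ (e - 1) * p ^ e by ring, map_mul,
      Module.End.mul_apply, hu1, map_zero]
  rw [hkill, hf_zero_left]

end NONISO

end Cfsg.Agent.S2481P
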