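import Mathlib
import Cfsg.Agent.Helper7.S2481Defs
import Cfsg.Agent.Helper7.S2481STBASIC
import Cfsg.Agent.Helper7.S2481PDUAL
import Cfsg.Agent.Helper7.S2481DUALST
import Cfsg.Agent.Helper4.S2481PRIMORTH
import Cfsg.Agent.Helper21.S2481ADJ
import Cfsg.Agent.Helper21.S2481NONISO

/-! S2481 Hermitian chapter, piece BLOCKB (driver helper7): the two-vector (hyperbolic) frame. -/

set_option autoImplicit false
set_option linter.unusedSectionVars false
set_option linter.unusedVariables false

namespace Cfsg.Agent.S2481P

open Polynomial
open Cfsg.Agent.Helper2.Herm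

universe u

namespace BLOCKB

variable {F : Type u} [Field F] [Fintype F] {n q : ℕ}

theorem frame_of_hyp_pair (hF : Fintype.card F = q ^ 2) (N : ℕ) (hN : 0 < N)
    (g : Module.End F (Fin n → F)) (hg : IsIsom n q g) (hgN : g ^ N = 1)
    (p : F[X]) (hp : p.Monic) (hirr : Irreducible p) (hpX : p ≠ X)
    (hnsd : pdual (cj hF) p ≠ p) (e : ℕ) (he : 1 ≤ e) (u v : Fin n → F)
    (hu : aeval g (p ^ e) u = 0) (hv : aeval g (pdual (cj hF) p ^ e) v = 0)
    (huv : Cfsg.hermForm n F q (aeval g (p ^ (e - 1)) u) v ≠ 0) :
    IsTypeData (cj hF) (fun b : ULift.{u} Bool => if b.down then p else pdual (cj hF) p)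
      (fun _ => e) (fun b => ⟨!b.down⟩) ∧
    HermFrame n q g
      (Submodule.span F {x | ∃ a : F[X], x = aeval g a u} ⊔
        Submodule.span F {x | ∃ a : F[X], x = aeval g a v})
      (fun b : ULift.{u} Bool => if b.down then p else pdual (cj hF) p)
      (fun _ => e) (fun b => ⟨!b.down⟩) (fun b => if b.down then u else v) := by
  have h0 : p.coeff 0 ≠ 0 := PDUAL.coeff_zero_ne_zero p hp hirr hpX
  have hdd : pdual (cj hF) (pdual (cj hF) p) = p := PDUAL.pdual_pdual (cj hF) (cj_cj hF) p hp h0
  have hmon' : (pdual (cj hF) p).Monic := PDUAL.pdual_monic (cj hF) p hp h0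
  have hirr' : Irreducible (pdual (cj hF) p) :=
    PDUAL.pdual_irreducible (cj hF) (cj_cj hF) p hp h0 hirr
  have hX' : pdual (cj hF) p ≠ X := PDUAL.pdual_ne_X (cj hF) p hp h0
  constructor
  · exact
      { monic := fun b => by
          rcases b with ⟨_ | _⟩
          · exact hmon'
          · exact hp
        irred := fun b => by
          rcases b with ⟨_ | _⟩
          · exact hirr'
          · exact hirr
        ne_X := fun b => by
          rcases b with ⟨_ | _⟩
          · exact hX'
          · exact hpX
        one_le := fun _ => he
        dual_dual := fun b => by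
          rcases b with ⟨_ | _⟩ <;> rfl
        e_dual := fun _ => rfl
        p_dual := fun b => by
          rcases b with ⟨_ | _⟩
          · exact hdd.symm
          · rfl
        fix_iff := fun b => by
          rcases b with ⟨_ | _⟩
          · constructor
            · intro h
              exact absurd (congrArg ULift.down h) (by decide)
            · intro h
              exact absurd (hdd.symm.trans h).symm hnsd
          · constructor
            · intro h
              exact absurd (congrArg ULift.down h) (by decide)
            · intro h
              exact absurd h hnsd }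
  · exact
      { ann := fun b => by
          rcases b with ⟨_ | _⟩
          · exact hv
          · exact hu
        orth := fun i j hj a b => by
          rcases i with ⟨_ | _⟩ <;> rcases j with ⟨_ | _⟩
          · -- both `v`
            apply PRIMORTH.prim_orth hF N hN g hg hgN (pdual (cj hF) p) (pdual (cj hF) p) hmon' hirr'
              hX' hmon' hirr' (by rw [hdd]; exact hnsd) e e
            · show aeval g (pdual (cj hF) p ^ e) (aeval g a v) = 0
              rw [← Module.End.mul_apply, ← map_mul, mul_comm, map_mul, Module.End.mul_apply, hv,
                map_zero]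
            · show aeval g (pdual (cj hF) p ^ e) (aeval g b v) = 0
              rw [← Module.End.mul_apply, ← map_mul, mul_comm, map_mul, Module.End.mul_apply, hv,
                map_zero]
          · exact absurd rfl hj
          · exact absurd rfl hj
          · -- both `u`
            apply PRIMORTH.prim_orth hF N hN g hg hgN p p hp hirr hpX hp hirr (Ne.symm hnsd) e e
            · show aeval g (p ^ e) (aeval g a u) = 0
              rw [← Module.End.mul_apply, ← map_mul, mul_comm, map_mul, Module.End.mul_apply, hu,
                map_zero]
            · show aeval g (p ^ e) (aeval g b u) = 0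
              rw [← Module.End.mul_apply, ← map_mul, mul_comm, map_mul, Module.End.mul_apply, hu,
                map_zero]
        nondeg := fun b => by
          rcases b with ⟨_ | _⟩
          · -- the vector `v`, paired with `u`
            obtain ⟨w₀, hw₀⟩ := NONISO.aeval_st_pow hF N hN g hgN p h0 (e - 1)
            refine ⟨w₀ ^ (e - 1), ?_⟩
            show Cfsg.hermForm n F q (aeval g (w₀ ^ (e - 1) * pdual (cj hF) p ^ (e - 1)) v) u ≠ 0
            rw [← hw₀, ← ADJ.adj_right hF N hN g hg hgN]
            intro h
            apply huv
            exact hf_eq_zero_of_symm hF h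
          · exact ⟨1, by rw [one_mul]; exact huv⟩
        span := by
          rw [← Submodule.span_union]
          congr 1
          ext x
          constructor
          · rintro ⟨⟨_ | _⟩, a, ha⟩
            · exact Or.inr ⟨a, ha⟩
            · exact Or.inl ⟨a, ha⟩
          · rintro (⟨a, ha⟩ | ⟨a, ha⟩)
            · exact ⟨⟨true⟩, a, ha⟩
            · exact ⟨⟨false⟩, a, ha⟩ }

end BLOCKB

end Cfsg.Agent.S2481P
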