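import Mathlib
import Cfsg.Agent.Helper7.S2481Defs
import Cfsg.Agent.Helper7.S2481STBASIC
import Cfsg.Agent.Helper7.S2481PDUAL
import Cfsg.Agent.Helper7.S2481DUALST
import Cfsg.Agent.Helper21.S2481ADJ
import Cfsg.Agent.Helper21.S2481FITTING
import Cfsg.Agent.Helper21.S2481NONISO

/-! S2481 Hermitian chapter, piece HYPPAIR (driver helper7): a `p`-primary vector of maximal exponent
pairs nontrivially with a `pdual p`-primary vector. -/

set_option autoImplicit false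
set_option linter.unusedSectionVars false
set_option linter.unusedVariables false

namespace Cfsg.Agent.S2481P

open Polynomial
open Cfsg.Agent.Helper2.Herm

namespace HYPPAIR

variable {F : Type*} [Field F] [Fintype F] {n q : ℕ}

theorem exists_hyp_pair (hF : Fintype.card F = q ^ 2) (N : ℕ) (hN : 0 < N)
    (g : Module.End F (Fin n → F)) (hg : IsIsom n q g) (hgN : g ^ N = 1)
    (W : Submodule F (Fin n → F)) (hinv : ∀ x ∈ W, g x ∈ W) (hnd : NondegOn n q W)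
    (p : F[X]) (hp : p.Monic) (hirr : Irreducible p) (hpX : p ≠ X) (e : ℕ) (he : 1 ≤ e)
    (hu : ∃ u ∈ W, aeval g (p ^ e) u = 0 ∧ aeval g (p ^ (e - 1)) u ≠ 0)
    (hmax : ∀ x ∈ W, ∀ k : ℕ, aeval g (pdual (cj hF) p ^ k) x = 0 →
      aeval g (pdual (cj hF) p ^ e) x = 0) :
    ∃ u ∈ W, ∃ v ∈ W, aeval g (p ^ e) u = 0 ∧ aeval g (pdual (cj hF) p ^ e) v = 0 ∧
      Cfsg.hermForm n F q (aeval g (p ^ (e - 1)) u) v ≠ 0 := by
  obtain ⟨u, huW, hu1, hu2⟩ := hu
  have h0 : p.coeff 0 ≠ 0 := PDUAL.coeff_zero_ne_zero p hp hirr hpX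
  have h0' : (pdual (cj hF) p).coeff 0 ≠ 0 := by
    rw [PDUAL.pdual_coeff_zero (cj hF) p hp h0]
    exact inv_ne_zero (by rw [cj_apply]; exact pow_ne_zero _ h0)
  have hdd : pdual (cj hF) (pdual (cj hF) p) = p := PDUAL.pdual_pdual (cj hF) (cj_cj hF) p hp h0
  have hTuW : aeval g (p ^ (e - 1)) u ∈ W := FITTING.aeval_mem g W hinv _ u huW
  obtain ⟨y, hyW, hy⟩ := NONISO.exists_pair W hnd hTuW hu2
  have hstab : ∀ x ∈ W, aeval g (pdual (cj hF) p ^ e * pdual (cj hF) p ^ e) x = 0 →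
      aeval g (pdual (cj hF) p ^ e) x = 0 := by
    intro x hx h
    rw [← pow_add] at h
    exact hmax x hx _ h
  obtain ⟨y₁, hy₁W, w, hwW, hy₁0, hydec⟩ :=
    FITTING.fitting g W hinv (pdual (cj hF) p ^ e) hstab y hyW
  refine ⟨u, huW, y₁, hy₁W, hu1, hy₁0, ?_⟩
  intro hzero
  apply hy
  rw [hydec, hf_add_right hF, hzero, zero_add, ADJ.adj_right hF N hN g hg hgN]
  obtain ⟨w₀, hw₀⟩ := NONISO.aeval_st_pow hF N hN g hgN (pdual (cj hF) p) h0' e
  have hkill : aeval g (st (cj hF) N (pdual (cj hF) p ^ e)) (aeval g (p ^ (e - 1)) u) = 0 := by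
    rw [hw₀, hdd, ← Module.End.mul_apply, ← map_mul,
      show w₀ ^ e * p ^ e * p ^ (e - 1) = w₀ ^ e * p ^ (e - 1) * p ^ e by ring, map_mul,
      Module.End.mul_apply, hu1, map_zero]
  rw [hkill, hf_zero_left]

end HYPPAIR

end Cfsg.Agent.S2481P
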