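import Mathlib

/-! s4079pieces BIN (helper21): the binomial formula for iterating an automorphism along a chain. -/

set_option autoImplicit false

namespace Cfsg.Agent.S4079P

/-- BIN: the binomial formula for iterating an automorphism along a chain
`u ↦ u u₁, u₁ ↦ u₁ u₂, u₂ ↦ u₂ u₃, u₃ ↦ u₃` with `u₁,u₂,u₃` commuting. -/
theorem BIN {L : Type*} [Group L] (a : MulAut L) (u u₁ u₂ u₃ : L) (h0 : a u = u * u₁) (h1 : a u₁ = u₁ * u₂)
    (h2 : a u₂ = u₂ * u₃) (h3 : a u₃ = u₃) (c12 : u₁ * u₂ = u₂ * u₁) (c13 : u₁ * u₃ = u₃ * u₁)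
    (c23 : u₂ * u₃ = u₃ * u₂) (k : ℕ) :
    (a ^ k) u = u * u₁ ^ k * u₂ ^ (k.choose 2) * u₃ ^ (k.choose 3) := by
  induction k with
  | zero => simp
  | succ k ih =>
    have hc12 : Commute u₁ u₂ := c12
    have hc23 : Commute u₂ u₃ := c23
    rw [pow_succ', MulAut.mul_apply, ih, map_mul, map_mul, map_mul, map_pow, map_pow, map_pow, h0, h1, h2, h3,
      hc12.mul_pow, hc23.mul_pow]
    have e2 : (k + 1).choose 2 = k + k.choose 2 := by
      rw [Nat.choose_succ_succ' k 1, Nat.choose_one_right]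
    have e3 : (k + 1).choose 3 = k.choose 2 + k.choose 3 := Nat.choose_succ_succ' k 2
    rw [e2, e3, pow_succ' u₁ k, pow_add, pow_add]
    simp only [mul_assoc]

end Cfsg.Agent.S4079P
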