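import Mathlib
import Cfsg.Agent.Helper14.S5559Defs
import Cfsg.Agent.S0029
import Cfsg.Agent.S1265
import Cfsg.Agent.Helper1.PGroup

/-!
# S5559 piece BRIDGE.F (helper21)

Faithfulness on 3-elements of the action of `H ⧸ O₂(H)` on the abelianization of `O₂(H)`, when
`F*(H) = O₂(H)`.
-/

set_option autoImplicit false

open scoped Pointwise

namespace Cfsg.Agent.S5559P

/-- `O_p(H)` is a `p`-group when `H` is finite. -/
theorem BRIDGE.F.aux_pcore (H : Type*) [Group H] [Finite H] (p : ℕ) [Fact p.Prime] :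
    IsPGroup p ↥(Cfsg.pCore p H) := by
  obtain ⟨P⟩ : Nonempty (Sylow p H) := inferInstance
  have hle : Cfsg.pCore p H ≤ (P : Subgroup H) := by
    unfold Cfsg.pCore
    apply sSup_le
    rintro N ⟨hNn, hNp⟩
    obtain ⟨Q, hQ⟩ := hNp.exists_le_sylow
    obtain ⟨g, rfl⟩ := MulAction.exists_smul_eq H Q P
    intro x hx
    have h1 : g⁻¹ * x * g ∈ (Q : Subgroup H) := by
      have := hNn.conj_mem x hx g⁻¹
      rw [inv_inv] at this
      exact hQ this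
    have h2 : MulAut.conj g • (g⁻¹ * x * g) ∈ MulAut.conj g • (Q : Subgroup H) :=
      Subgroup.smul_mem_pointwise_smul _ _ _ h1
    have h3 : MulAut.conj g • (g⁻¹ * x * g) = x := by
      rw [MulAut.smul_def, MulAut.conj_apply]; group
    rw [h3] at h2
    rw [Sylow.coe_subgroup_smul]
    exact h2
  exact P.2.to_le hle

theorem BRIDGE.F {H : Type*} [Group H] [Finite H]
    (hF : Cfsg.generalizedFittingSubgroup H = Cfsg.pCore 2 H) :
    ∀ g : H ⧸ Cfsg.pCore 2 H, g ^ 3 = 1 →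
      (∀ w : Abelianization ↥(Cfsg.pCore 2 H), rho H g w = w) → g = 1 := by
  intro g hg3 htriv
  have hV2 : IsPGroup 2 ↥(Cfsg.pCore 2 H) := BRIDGE.F.aux_pcore H 2
  obtain ⟨h, rfl⟩ := QuotientGroup.mk'_surjective (Cfsg.pCore 2 H) g
  obtain ⟨k, hk⟩ := IsPGroup.iff_card.mp hV2
  -- `h ^ 3 ∈ V`
  have h3V : h ^ 3 ∈ Cfsg.pCore 2 H := by
    rw [← QuotientGroup.eq_one_iff]
    exact hg3
  have h3n : (h ^ 3) ^ (2 ^ k) = 1 := by
    have h1 : (⟨h ^ 3, h3V⟩ : ↥(Cfsg.pCore 2 H)) ^ Nat.card ↥(Cfsg.pCore 2 H) = 1 :=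
      pow_card_eq_one'
    rw [hk] at h1
    have h2 := congrArg Subtype.val h1
    simpa using h2
  have hh'3 : (h ^ (2 ^ k * 2 ^ k)) ^ 3 = 1 := by
    calc (h ^ (2 ^ k * 2 ^ k)) ^ 3 = ((h ^ 3) ^ (2 ^ k)) ^ (2 ^ k) := by
          rw [← pow_mul, ← pow_mul, ← pow_mul]
          congr 1
          ring
      _ = 1 := by rw [h3n, one_pow]
  have hmod : 2 ^ k * 2 ^ k % 3 = 1 := by
    have h1 : 2 ^ k * 2 ^ k = 4 ^ k := by rw [← mul_pow]; norm_num
    rw [h1, Nat.pow_mod]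
    norm_num
  have hmk : QuotientGroup.mk' (Cfsg.pCore 2 H) (h ^ (2 ^ k * 2 ^ k)) =
      QuotientGroup.mk' (Cfsg.pCore 2 H) h := by
    rw [map_pow, ← Nat.mod_add_div (2 ^ k * 2 ^ k) 3, pow_add, pow_mul, hg3, one_pow, mul_one,
      hmod, pow_one]
  have hρ1 : rho H (QuotientGroup.mk' (Cfsg.pCore 2 H) h) = 1 := by
    apply MulEquiv.ext
    intro w
    exact htriv w
  -- apply S0029 to `A = ⟨h'⟩`, `K = V`
  have hAle : Subgroup.zpowers (h ^ (2 ^ k * 2 ^ k)) ≤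
      Subgroup.centralizer ((Cfsg.pCore 2 H : Subgroup H) : Set H) := by
    apply Cfsg.Agent.S0029.result
    · rw [Subgroup.normalizer_eq_top]
      exact le_top
    · have hA : Nat.card ↥(Subgroup.zpowers (h ^ (2 ^ k * 2 ^ k))) ∣ 3 := by
        rw [Nat.card_zpowers]
        exact orderOf_dvd_of_pow_eq_one hh'3
      have hΦ : Nat.card ↥(frattini ↥(Cfsg.pCore 2 H)) ∣ 2 ^ k := by
        rw [← hk]
        exact Subgroup.card_subgroup_dvd_card _
      have h32 : Nat.Coprime 3 (2 ^ k) := Nat.Coprime.pow_right k (by norm_num)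
      exact Nat.Coprime.coprime_dvd_left hA (Nat.Coprime.coprime_dvd_right hΦ h32)
    · intro a ha v hv
      obtain ⟨j, rfl⟩ := Subgroup.mem_zpowers_iff.mp ha
      have hρa : rho H (QuotientGroup.mk' (Cfsg.pCore 2 H) ((h ^ (2 ^ k * 2 ^ k)) ^ j)) = 1 := by
        rw [map_zpow, hmk, map_zpow, hρ1, one_zpow]
      have h1 := rho_mk_of H ((h ^ (2 ^ k * 2 ^ k)) ^ j) ⟨v, hv⟩
      rw [hρa] at h1
      have h2 : Abelianization.of
          ((⟨(h ^ (2 ^ k * 2 ^ k)) ^ j * v * ((h ^ (2 ^ k * 2 ^ k)) ^ j)⁻¹,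
            (Cfsg.pCore_normal 2 H).conj_mem v hv _⟩ : ↥(Cfsg.pCore 2 H)) *
            (⟨v, hv⟩ : ↥(Cfsg.pCore 2 H))⁻¹) = 1 := by
        rw [map_mul, map_inv, ← h1]
        simp
      have h3 : (⟨(h ^ (2 ^ k * 2 ^ k)) ^ j * v * ((h ^ (2 ^ k * 2 ^ k)) ^ j)⁻¹,
            (Cfsg.pCore_normal 2 H).conj_mem v hv _⟩ : ↥(Cfsg.pCore 2 H)) *
            (⟨v, hv⟩ : ↥(Cfsg.pCore 2 H))⁻¹ ∈ commutator ↥(Cfsg.pCore 2 H) := by
        rw [← Abelianization.ker_of, MonoidHom.mem_ker]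
        exact h2
      have h4 := Cfsg.Agent.Helper1.IsPGroup.commutator_le_frattini hV2 h3
      exact ⟨_, h4, rfl⟩
  have hmem : h ^ (2 ^ k * 2 ^ k) ∈ Cfsg.pCore 2 H := by
    have h1 : h ^ (2 ^ k * 2 ^ k) ∈
        Subgroup.centralizer ((Cfsg.generalizedFittingSubgroup H : Subgroup H) : Set H) := by
      rw [hF]
      exact hAle (Subgroup.mem_zpowers _)
    have h2 := Cfsg.Agent.S1265.result h1
    rw [hF] at h2
    exact h2
  rw [← hmk]
  exact (QuotientGroup.eq_one_iff _).mpr hmem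

end Cfsg.Agent.S5559P
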