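import Mathlib
import Cfsg.Prelude.Def_GeometricClasses
import Cfsg.Prelude.Def_Classical
import Cfsg.Prelude.Def_LieClassical
import Cfsg.Agent.Helper7.OrthUni3

set_option autoImplicit false
set_option linter.unusedSectionVars false
open scoped MatrixGroups Matrix

/-! S5981: tools shared by the pieces POS, STDODD, TRANSPORT: a non-degenerate quadratic form given
as a function is a `QuadraticForm`; matrices of linear equivalences. -/

namespace Cfsg.Agent.S5981P.QF

open Cfsg.Agent.Helper7.OrthUni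

variable {F : Type*} [Field F] {ι : Type} [Fintype ι] [DecidableEq ι]

/-- a non-degenerate quadratic form given as a function, as a `QuadraticForm` -/
noncomputable def toQF (Q : (ι → F) → F) (hQ : Cfsg.Geo.IsNondegenerateQuadraticForm Q) :
    QuadraticForm F (ι → F) :=
  QuadraticMap.ofPolar Q (fun a v => by rw [hQ.smul, sq, smul_eq_mul])
    (fun x x' y => hQ.polar_bilinear.add_left x x' y)
    (fun a x y => by rw [hQ.polar_bilinear.smul_left, smul_eq_mul])

@[simp] theorem toQF_apply (Q : (ι → F) → F) (hQ : Cfsg.Geo.IsNondegenerateQuadraticForm Q)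
    (v : ι → F) : toQF Q hQ v = Q v := rfl

theorem toQF_coe (Q : (ι → F) → F) (hQ : Cfsg.Geo.IsNondegenerateQuadraticForm Q) :
    ⇑(toQF Q hQ) = Q := rfl

theorem toQF_nondeg (Q : (ι → F) → F) (hQ : Cfsg.Geo.IsNondegenerateQuadraticForm Q) :
    (QuadraticMap.polarBilin (toQF Q hQ)).Nondegenerate := by
  constructor
  · intro v hv
    by_contra hne
    obtain ⟨-, ⟨y, hy⟩⟩ := hQ.nondegenerate v hne
    apply hy
    have := hv y
    rwa [QuadraticMap.polarBilin_apply_apply, toQF_coe] at this
  · intro v hv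
    by_contra hne
    obtain ⟨⟨y, hy⟩, -⟩ := hQ.nondegenerate v hne
    apply hy
    have := hv y
    rwa [QuadraticMap.polarBilin_apply_apply, toQF_coe] at this

theorem gram_det_ne_zero (Q : (ι → F) → F) (hQ : Cfsg.Geo.IsNondegenerateQuadraticForm Q) :
    (gram (toQF Q hQ)).det ≠ 0 :=
  (nondeg_iff_det _).1 (toQF_nondeg Q hQ)

/-- the Gram matrix of a scalar multiple -/
theorem gram_smul (c : F) (Q : QuadraticForm F (ι → F)) : gram (c • Q) = c • gram Q := by
  ext i j
  rw [Matrix.smul_apply, gram_apply, gram_apply, FunLike.coe_smul, QuadraticMap.polar_smul]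

theorem smul_nondeg {c : F} (hc : c ≠ 0) (Q : QuadraticForm F (ι → F))
    (h : (QuadraticMap.polarBilin Q).Nondegenerate) :
    (QuadraticMap.polarBilin (c • Q)).Nondegenerate := by
  rw [nondeg_iff_det] at h ⊢
  rw [gram_smul, Matrix.det_smul]
  exact mul_ne_zero (pow_ne_zero _ hc) h

/-- `qf M` for a similitude -/
theorem qf_simil {M U : Matrix ι ι F} {τ : F} (h : Uᵀ * M * U = τ • M) (v : ι → F) :
    qf M (U *ᵥ v) = τ * qf M v := by
  rw [qf_apply, qf_apply]
  have : (U *ᵥ v) ⬝ᵥ M *ᵥ (U *ᵥ v) = v ⬝ᵥ (Uᵀ * M * U) *ᵥ v := by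
    rw [← Matrix.mulVec_mulVec, ← Matrix.mulVec_mulVec,
      Matrix.dotProduct_mulVec v Uᵀ, Matrix.vecMul_transpose]
  rw [this, h, Matrix.smul_mulVec, dotProduct_smul, smul_eq_mul]
  ring

section mat

variable {a b : Type} [Fintype a] [DecidableEq a] [Fintype b] [DecidableEq b]

/-- the matrix of a linear equivalence -/
noncomputable def matOf (φ : (a → F) ≃ₗ[F] (b → F)) : Matrix b a F :=
  LinearMap.toMatrix' φ.toLinearMap

theorem matOf_mulVec (φ : (a → F) ≃ₗ[F] (b → F)) (v : a → F) : matOf φ *ᵥ v = φ v := by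
  rw [matOf, LinearMap.toMatrix'_mulVec]; rfl

theorem matOf_mul_symm (φ : (a → F) ≃ₗ[F] (b → F)) : matOf φ * matOf φ.symm = 1 := by
  rw [matOf, matOf, ← LinearMap.toMatrix'_comp]
  have : φ.toLinearMap ∘ₗ φ.symm.toLinearMap = LinearMap.id := by
    ext v : 1; simp
  rw [this, LinearMap.toMatrix'_id]

theorem matOf_symm_mul (φ : (a → F) ≃ₗ[F] (b → F)) : matOf φ.symm * matOf φ = 1 := by
  have := matOf_mul_symm φ.symm
  rwa [LinearEquiv.symm_symm] at this

/-- conjugation by a pair of mutually inverse rectangular matrices -/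
noncomputable def conjGL (P : Matrix b a F) (P' : Matrix a b F) (h1 : P * P' = 1)
    (h2 : P' * P = 1) (g : GL a F) : GL b F :=
  ⟨P * (g : Matrix a a F) * P', P * ((g⁻¹ : GL a F) : Matrix a a F) * P', by
    calc P * (g : Matrix a a F) * P' * (P * ((g⁻¹ : GL a F) : Matrix a a F) * P')
        = P * ((g : Matrix a a F) * ((P' * P) * ((g⁻¹ : GL a F) : Matrix a a F))) * P' := by
          simp only [Matrix.mul_assoc]
      _ = 1 := by
          rw [h2, Matrix.one_mul, ← Units.val_mul, mul_inv_cancel, Units.val_one, Matrix.mul_one,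
            h1], by
    calc P * ((g⁻¹ : GL a F) : Matrix a a F) * P' * (P * (g : Matrix a a F) * P')
        = P * (((g⁻¹ : GL a F) : Matrix a a F) * ((P' * P) * (g : Matrix a a F))) * P' := by
          simp only [Matrix.mul_assoc]
      _ = 1 := by
          rw [h2, Matrix.one_mul, ← Units.val_mul, inv_mul_cancel, Units.val_one, Matrix.mul_one,
            h1]⟩

theorem conjGL_val (P : Matrix b a F) (P' : Matrix a b F) (h1 : P * P' = 1)
    (h2 : P' * P = 1) (g : GL a F) :
    ((conjGL P P' h1 h2 g : GL b F) : Matrix b b F) = P * (g : Matrix a a F) * P' := rfl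

theorem conjGL_conjGL (P : Matrix b a F) (P' : Matrix a b F) (h1 : P * P' = 1)
    (h2 : P' * P = 1) (g : GL a F) :
    conjGL P' P h2 h1 (conjGL P P' h1 h2 g) = g := by
  apply Units.ext
  rw [conjGL_val, conjGL_val]
  calc P' * (P * (g : Matrix a a F) * P') * P
      = (P' * P) * (g : Matrix a a F) * (P' * P) := by simp only [Matrix.mul_assoc]
    _ = g := by rw [h2, Matrix.one_mul, Matrix.mul_one]

/-- the conjugation as an equivalence -/
noncomputable def conjGLEquiv (P : Matrix b a F) (P' : Matrix a b F) (h1 : P * P' = 1)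
    (h2 : P' * P = 1) : GL a F ≃ GL b F where
  toFun := conjGL P P' h1 h2
  invFun := conjGL P' P h2 h1
  left_inv := conjGL_conjGL P P' h1 h2
  right_inv := conjGL_conjGL P' P h2 h1

/-- a linear automorphism as an element of `GL` -/
noncomputable def glOf (φ : (a → F) ≃ₗ[F] (a → F)) : GL a F :=
  ⟨matOf φ, matOf φ.symm, matOf_mul_symm φ, matOf_symm_mul φ⟩

theorem glOf_val (φ : (a → F) ≃ₗ[F] (a → F)) : ((glOf φ : GL a F) : Matrix a a F) = matOf φ := rfl

theorem glOf_inv_val (φ : (a → F) ≃ₗ[F] (a → F)) :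
    (((glOf φ)⁻¹ : GL a F) : Matrix a a F) = matOf φ.symm := rfl

end mat

end Cfsg.Agent.S5981P.QF
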