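import Mathlib
import Cfsg.Prelude.Def_GeometricClasses
import Cfsg.Prelude.Def_Classical
import Cfsg.Prelude.Def_LieClassical
import Cfsg.Agent.Helper21.S5981QF
import Cfsg.Agent.Helper2.QuadOdd

set_option autoImplicit false
open scoped MatrixGroups Matrix

/-! S5981 piece STDODD: a non-degenerate form in odd dimension is a scalar multiple of a copy of the
standard one. -/

namespace Cfsg.Agent.S5981P

namespace STDODD

open Cfsg.Agent.Helper2.Quad in
/-- a non-singular form in odd characteristic has a non-degenerate polar form -/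
theorem nondeg_of_nonSing {F : Type*} [Field F] (h2 : (2 : F) ≠ 0) {ι : Type} [Fintype ι]
    [DecidableEq ι] (Q : QuadraticForm F (ι → F)) (h : NonSing Q) :
    (QuadraticMap.polarBilin Q).Nondegenerate := by
  have hl : ∀ v, (∀ w, QuadraticMap.polar Q v w = 0) → v = 0 := by
    intro v hv
    apply h v _ hv
    have := hv v
    rw [QuadraticMap.polar_self, two_smul, ← two_mul, mul_eq_zero, or_iff_right h2] at this
    exact this
  constructor
  · intro v hv
    apply hl
    intro w
    have := hv w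
    rwa [QuadraticMap.polarBilin_apply_apply] at this
  · intro v hv
    apply hl
    intro w
    have := hv w
    rwa [QuadraticMap.polarBilin_apply_apply, QuadraticMap.polar_comm] at this

end STDODD

open Cfsg.Agent.Helper7.OrthUni QF Cfsg.Agent.Helper2.Quad in
/-- STDODD: a non-degenerate form in odd dimension is a scalar multiple of a copy of the standard one -/
theorem exists_std_odd {F : Type*} [Field F] [Fintype F] (h2 : (2 : F) ≠ 0) (n m : ℕ)
    (hnm : n = 2 * m + 1) (Q : (Fin n → F) → F) (hQ : Cfsg.Geo.IsNondegenerateQuadraticForm Q) :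
    ∃ (c : F) (φ : (Fin n → F) ≃ₗ[F] (Unit ⊕ (Fin m ⊕ Fin m) → F)), c ≠ 0 ∧
      ∀ v, Cfsg.quadFormOdd m F (φ v) = c * Q v := by
  classical
  have h₀ : (QuadraticMap.polarBilin (oddModel F m).Q).Nondegenerate :=
    STDODD.nondeg_of_nonSing h2 _ (oddModel F m).nonSing
  have hδ₀ : (gram (oddModel F m).Q).det ≠ 0 := (nondeg_iff_det _).1 h₀
  have hδ₁ := gram_det_ne_zero Q hQ
  set c : F := (gram (toQF Q hQ)).det * (gram (oddModel F m).Q).det with hc
  have hc0 : c ≠ 0 := mul_ne_zero hδ₁ hδ₀
  have h₁ := smul_nondeg hc0 _ (toQF_nondeg Q hQ)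
  have hcard : Fintype.card (Fin n) = Fintype.card (Unit ⊕ (Fin m ⊕ Fin m)) := by
    simp; omega
  have hsq : IsSquare ((gram (c • toQF Q hQ)).det * (gram (oddModel F m).Q).det) := by
    rw [gram_smul, Matrix.det_smul, Fintype.card_fin]
    refine ⟨c ^ (m + 1), ?_⟩
    calc c ^ n * (gram (toQF Q hQ)).det * (gram (oddModel F m).Q).det
        = c ^ n * c := by rw [hc]; ring
      _ = c ^ (m + 1) * c ^ (m + 1) := by rw [hnm]; ring
  obtain ⟨φ, hφ⟩ := exists_isometry_of_disc h2 (c • toQF Q hQ) (oddModel F m).Q h₁ h₀ hcard hsq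
  refine ⟨c, φ, hc0, fun v => ?_⟩
  rw [quadFormOdd_eq]
  show (oddModel F m).Q (φ v) = c * Q v
  rw [hφ]
  rfl

end Cfsg.Agent.S5981P
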