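import Mathlib
import Cfsg.Prelude.Def_GeometricClasses
import Cfsg.Prelude.Def_Classical
import Cfsg.Prelude.Def_LieClassical
import Cfsg.Agent.Helper21.S5981QF

set_option autoImplicit false
open scoped MatrixGroups Matrix

/-! S5981 piece TRANSPORT: similar forms have isometry groups of the same order and equally many
singular vectors. -/

namespace Cfsg.Agent.S5981P

namespace TRANSPORT

theorem mem_isometryGroup_iff {F : Type*} [Field F] {ι : Type} [Fintype ι] [DecidableEq ι]
    (Q : (ι → F) → F) (g : GL ι F) :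
    g ∈ Cfsg.isometryGroup F Q ↔ ∀ u : ι → F, Q ((g : Matrix ι ι F) *ᵥ u) = Q u := by
  constructor
  · intro hg u
    exact hg u u
  · intro hg u _
    exact hg u

end TRANSPORT

open QF TRANSPORT in
/-- TRANSPORT: similar forms have isometry groups of the same order and equally many singular vectors -/
theorem card_eq_of_equiv {F : Type*} [Field F] [Fintype F] {n : ℕ} {ι : Type} [Fintype ι]
    [DecidableEq ι] (Q : (Fin n → F) → F) (Q₀ : (ι → F) → F) (c : F) (hc : c ≠ 0)
    (φ : (Fin n → F) ≃ₗ[F] (ι → F)) (h : ∀ v, Q₀ (φ v) = c * Q v) :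
    Nat.card (Cfsg.isometryGroup F Q₀) = Nat.card (Cfsg.isometryGroup F Q) ∧
    Nat.card {w : ι → F // w ≠ 0 ∧ Q₀ w = 0} = Nat.card {v : Fin n → F // v ≠ 0 ∧ Q v = 0} := by
  classical
  have h' : ∀ w, Q₀ w = c * Q (φ.symm w) := by
    intro w
    rw [← h, LinearEquiv.apply_symm_apply]
  constructor
  · symm
    refine Nat.card_congr (Equiv.subtypeEquiv
      (conjGLEquiv (matOf φ) (matOf φ.symm) (matOf_mul_symm φ) (matOf_symm_mul φ)) ?_)
    intro g
    rw [mem_isometryGroup_iff, mem_isometryGroup_iff]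
    show _ ↔ ∀ u, Q₀ (((conjGL (matOf φ) (matOf φ.symm) (matOf_mul_symm φ) (matOf_symm_mul φ) g :
      GL ι F) : Matrix ι ι F) *ᵥ u) = Q₀ u
    simp only [conjGL_val, ← Matrix.mulVec_mulVec, matOf_mulVec]
    constructor
    · intro hg u
      rw [h, hg, h']
    · intro hg u
      have := hg (φ u)
      rw [h, h, LinearEquiv.symm_apply_apply] at this
      exact mul_left_cancel₀ hc this
  · symm
    refine Nat.card_congr (Equiv.subtypeEquiv φ.toEquiv ?_)
    intro v
    show _ ↔ (φ v ≠ 0 ∧ Q₀ (φ v) = 0)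
    rw [h, mul_eq_zero, or_iff_right hc]
    simp

end Cfsg.Agent.S5981P
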