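import Mathlib
import Cfsg.Agent.Helper3.S5949NTS
import Cfsg.Agent.Helper17.S5949DEG
import Cfsg.Agent.Helper21.S5949Basic

/-!
# S5958, piece MODEL2: elements of order `r` of `SL_n(q)` of a single type

For a prime `r` different from the characteristic, with `c ≥ 2` the order of `q` modulo `r` and `c * m ≤ n`,
`m ≥ 1`, there is `x ∈ SL_n(q)` with `x ^ r = 1`, not a scalar, whose fixed space has dimension `n - c * m`
and which is annihilated by `g * (X - 1)` for one irreducible factor `g` of the `r`-th cyclotomic polynomial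
(adapted from `Helper14.S5949MODELCYC`).
-/

set_option autoImplicit false
set_option linter.style.haveILetI false

namespace Cfsg.Agent.S5958P

open Polynomial Cfsg.Agent.S5949P

namespace MODEL2

/-- an endomorphism `f` with `f ^ r = 1` of a space of dimension `n`, as a matrix of determinant one -/
theorem transport {F : Type*} [Field F] (n r : ℕ) {V : Type*} [AddCommGroup V] [Module F V]
    [FiniteDimensional F V] (hV : Module.finrank F V = n) (f : Module.End F V) (hf : f ^ r = 1) (k : ℕ)
    (hk : Module.finrank F (LinearMap.ker (f - 1)) = k) (hkn : k < n)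
    (hδ : ∀ δ : F, δ ^ r = 1 → δ = 1) (P : F[X]) (hP : aeval f P = 0) :
    ∃ x : Matrix.SpecialLinearGroup (Fin n) F,
      (x : Matrix (Fin n) (Fin n) F) ^ r = 1 ∧
      (∀ c : F, (x : Matrix (Fin n) (Fin n) F) ≠ c • (1 : Matrix (Fin n) (Fin n) F)) ∧
      Module.finrank F (LinearMap.ker (Matrix.toLin' (x : Matrix (Fin n) (Fin n) F) - 1)) = k ∧
      aeval (Matrix.toLin' (x : Matrix (Fin n) (Fin n) F)) P = 0 := by
  have hfin : Module.finrank F V = Module.finrank F (Fin n → F) := by rw [hV, Module.finrank_fin_fun]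
  let e : V ≃ₗ[F] (Fin n → F) := LinearEquiv.ofFinrankEq V (Fin n → F) hfin
  let φ : Module.End F (Fin n → F) := e.conjRingEquiv f
  have hφv : ∀ v, φ v = e (f (e.symm v)) := fun v => rfl
  have hφ : φ ^ r = 1 := by
    show (e.conjRingEquiv f) ^ r = 1
    rw [← map_pow, hf, map_one]
  let x0 : Matrix (Fin n) (Fin n) F := LinearMap.toMatrixAlgEquiv' φ
  have hx0 : x0 ^ r = 1 := by
    show (LinearMap.toMatrixAlgEquiv' φ) ^ r = 1
    rw [← map_pow, hφ, map_one]
  have htl : Matrix.toLin' x0 = φ := Matrix.toLin'_toMatrix' φ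
  have hdet : x0.det = 1 := by
    apply hδ
    rw [← Matrix.det_pow, hx0, Matrix.det_one]
  have hker : LinearMap.ker (φ - 1) = (LinearMap.ker (f - 1)).map (e : V →ₗ[F] (Fin n → F)) := by
    ext v
    simp only [LinearMap.mem_ker, Submodule.mem_map, LinearMap.sub_apply, Module.End.one_apply]
    constructor
    · intro hv
      refine ⟨e.symm v, ?_, e.apply_symm_apply v⟩
      apply e.injective
      rw [map_sub, map_zero, e.apply_symm_apply, ← hφv]
      exact hv
    · rintro ⟨w, hw, rfl⟩
      rw [hφv]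
      simp only [LinearEquiv.coe_coe, LinearEquiv.symm_apply_apply]
      rw [← map_sub, hw, map_zero]
  have hrank : Module.finrank F (LinearMap.ker (Matrix.toLin' x0 - 1)) = k := by
    rw [htl, hker]
    rw [LinearEquiv.finrank_map_eq]
    exact hk
  have hPφ : aeval (Matrix.toLin' x0) P = 0 := by
    rw [htl]
    apply LinearMap.ext
    intro v
    have h1 := Basic.aeval_intertwine (e : V →ₗ[F] (Fin n → F)) f φ (fun w => by
      rw [hφv]
      simp only [LinearEquiv.coe_coe, LinearEquiv.symm_apply_apply]) P (e.symm v)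
    simp only [LinearEquiv.coe_coe, LinearEquiv.apply_symm_apply] at h1
    rw [← h1, hP]
    simp
  refine ⟨⟨x0, hdet⟩, hx0, ?_, hrank, hPφ⟩
  intro c hc
  have hc' : x0 = c • (1 : Matrix (Fin n) (Fin n) F) := hc
  have hn : 0 < n := by omega
  have hcr : c ^ r = 1 := by
    have h1 := hx0
    rw [hc', _root_.smul_pow, one_pow] at h1
    have h2 := congrFun (congrFun h1 ⟨0, hn⟩) ⟨0, hn⟩
    simpa using h2
  have hc1 : c = 1 := hδ c hcr
  rw [hc1, one_smul] at hc'
  have h3 : LinearMap.ker (Matrix.toLin' x0 - 1) = ⊤ := by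
    rw [hc', Matrix.toLin'_one]
    have : (LinearMap.id : (Fin n → F) →ₗ[F] (Fin n → F)) - 1 = 0 := sub_self _
    rw [this, LinearMap.ker_zero]
  rw [h3, finrank_top, Module.finrank_fin_fun] at hrank
  omega

/-- the model endomorphism is annihilated by every polynomial vanishing at `1` and divisible by `g` -/
theorem aeval_model {F : Type*} [Field F] (g : F[X]) (a b : ℕ) (P : F[X]) (h1 : P.eval 1 = 0)
    (h2 : g ∣ P) :
    aeval (LinearMap.prodMap (LinearMap.id : (Fin a → F) →ₗ[F] (Fin a → F))
      ((LinearMap.mulLeft F (AdjoinRoot.root g)).compLeft (Fin b))) P = 0 := by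
  apply LinearMap.ext
  intro v
  apply Prod.ext
  · have h := Basic.aeval_intertwine (LinearMap.fst F (Fin a → F) (Fin b → AdjoinRoot g))
      (LinearMap.prodMap (LinearMap.id : (Fin a → F) →ₗ[F] (Fin a → F))
        ((LinearMap.mulLeft F (AdjoinRoot.root g)).compLeft (Fin b)))
      (1 : Module.End F (Fin a → F)) (fun _ => rfl) P v
    rw [LinearMap.fst_apply] at h
    have h5 : (1 : Module.End F (Fin a → F)) = algebraMap F (Module.End F (Fin a → F)) 1 :=
      (map_one _).symm
    rw [h, h5, aeval_algebraMap_apply_eq_algebraMap_eval, h1, map_zero]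
    rfl
  · funext j
    have h := Basic.aeval_intertwine
      ((LinearMap.proj j : (Fin b → AdjoinRoot g) →ₗ[F] AdjoinRoot g) ∘ₗ
        LinearMap.snd F (Fin a → F) (Fin b → AdjoinRoot g))
      (LinearMap.prodMap (LinearMap.id : (Fin a → F) →ₗ[F] (Fin a → F))
        ((LinearMap.mulLeft F (AdjoinRoot.root g)).compLeft (Fin b)))
      (LinearMap.mulLeft F (AdjoinRoot.root g)) (fun _ => rfl) P v
    have h3 : aeval (LinearMap.mulLeft F (AdjoinRoot.root g)) P = 0 := by
      have h4 : LinearMap.mulLeft F (AdjoinRoot.root g) = Algebra.lmul F (AdjoinRoot g) (AdjoinRoot.root g) :=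
        rfl
      rw [h4, aeval_algHom_apply, AdjoinRoot.aeval_eq, AdjoinRoot.mk_eq_zero.mpr h2, map_zero]
    rw [h3] at h
    exact h

end MODEL2

open MODEL2 in
/-- MODEL2 -/
theorem model_single {F : Type*} [Field F] [Fintype F] {p : ℕ} [Fact p.Prime] [CharP F p]
    (r : ℕ) [Fact r.Prime] (hrp : r ≠ p) (n m : ℕ)
    (hi2 : 2 ≤ orderOf ((Fintype.card F : ℕ) : ZMod r)) (hm : 1 ≤ m)
    (hmn : orderOf ((Fintype.card F : ℕ) : ZMod r) * m ≤ n) :
    ∃ (x : Matrix.SpecialLinearGroup (Fin n) F) (g : F[X]), Irreducible g ∧ g.Monic ∧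
      g ∣ cyclotomic r F ∧
      (x : Matrix (Fin n) (Fin n) F) ^ r = 1 ∧
      (∀ d : F, (x : Matrix (Fin n) (Fin n) F) ≠ d • (1 : Matrix (Fin n) (Fin n) F)) ∧
      Module.finrank F (LinearMap.ker (Matrix.toLin' (x : Matrix (Fin n) (Fin n) F) - 1)) =
        n - orderOf ((Fintype.card F : ℕ) : ZMod r) * m ∧
      aeval (Matrix.toLin' (x : Matrix (Fin n) (Fin n) F)) (g * (X - 1)) = 0 := by
  have hr : r.Prime := Fact.out
  set i := orderOf ((Fintype.card F : ℕ) : ZMod r) with hi
  have hnd : ¬ r ∣ Fintype.card F - 1 := by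
    intro h
    have := (orderOf_card_eq_one_iff (F := F) r).mpr h
    omega
  have hδ := (nt_coprime (F := F) r hnd).2
  -- an irreducible factor of the cyclotomic polynomial
  have hnu : ¬ IsUnit (cyclotomic r F) := by
    intro hu
    have h1 := natDegree_eq_zero_of_isUnit hu
    rw [natDegree_cyclotomic, Nat.totient_prime hr] at h1
    have := hr.two_le
    omega
  obtain ⟨g, hgm, hgi, hgd⟩ := exists_monic_irreducible_factor (cyclotomic r F) hnu
  have hdeg : g.natDegree = i := natDegree_of_dvd_cyclotomic r hrp g hgi hgd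
  haveI : Fact (Irreducible g) := ⟨hgi⟩
  have hKrank : Module.finrank F (AdjoinRoot g) = i := by
    rw [(AdjoinRoot.powerBasis' hgm).finrank, AdjoinRoot.powerBasis'_dim, hdeg]
  haveI : FiniteDimensional F (AdjoinRoot g) := (AdjoinRoot.powerBasis' hgm).finite
  -- the root
  have hgX : g ∣ X ^ r - 1 := by
    rw [← cyclotomic_prime_mul_X_sub_one F r]
    exact dvd_mul_of_dvd_left hgd _
  have hρr : (AdjoinRoot.root g) ^ r = 1 := by
    have h1 : AdjoinRoot.mk g (X ^ r - 1) = 0 := AdjoinRoot.mk_eq_zero.mpr hgX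
    rw [map_sub, map_pow, map_one, AdjoinRoot.mk_X, sub_eq_zero] at h1
    exact h1
  have hρ1 : AdjoinRoot.root g - 1 ≠ 0 := by
    intro h
    have h1 : AdjoinRoot.mk g (X - 1) = 0 := by
      rw [map_sub, map_one, AdjoinRoot.mk_X]
      exact h
    have h2 : g ∣ X - 1 := AdjoinRoot.mk_eq_zero.mp h1
    have h3 : (X - 1 : F[X]) ≠ 0 := X_sub_C_ne_zero (1 : F) |> fun h => by simpa using h
    have h4 := natDegree_le_of_dvd h2 h3
    have h5 : (X - 1 : F[X]).natDegree = 1 := by
      have := natDegree_X_sub_C (1 : F)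
      simpa using this
    omega
  -- the space and the endomorphism
  let f' : Module.End F ((Fin (n - i * m) → F) × (Fin m → AdjoinRoot g)) :=
    LinearMap.prodMap LinearMap.id ((LinearMap.mulLeft F (AdjoinRoot.root g)).compLeft (Fin m))
  have hf'v : ∀ v, f' v = (v.1, fun j => AdjoinRoot.root g * v.2 j) := fun v => rfl
  have hpow : ∀ (k : ℕ) v, (f' ^ k) v = (v.1, fun j => AdjoinRoot.root g ^ k * v.2 j) := by
    intro k
    induction k with
    | zero =>
      intro v
      simp
    | succ k ih =>
      intro v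
      rw [pow_succ', Module.End.mul_apply, ih, hf'v]
      ext j
      · rfl
      · show AdjoinRoot.root g * (AdjoinRoot.root g ^ k * v.2 j) = AdjoinRoot.root g ^ (k + 1) * v.2 j
        rw [pow_succ']
        ring
  have hf'r : f' ^ r = 1 := by
    apply LinearMap.ext
    intro v
    rw [hpow, hρr]
    simp
  have hV : Module.finrank F ((Fin (n - i * m) → F) × (Fin m → AdjoinRoot g)) = n := by
    rw [Module.finrank_prod, Module.finrank_fin_fun, Module.finrank_pi_fintype, Finset.sum_const,
      Finset.card_univ, Fintype.card_fin, smul_eq_mul, hKrank]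
    have : m * i = i * m := mul_comm _ _
    omega
  have hker : LinearMap.ker (f' - 1) =
      LinearMap.range (LinearMap.inl F (Fin (n - i * m) → F) (Fin m → AdjoinRoot g)) := by
    rw [LinearMap.range_inl]
    ext v
    simp only [LinearMap.mem_ker, LinearMap.sub_apply, Module.End.one_apply, LinearMap.snd_apply]
    rw [hf'v]
    constructor
    · intro hv
      have h2 := congrArg Prod.snd hv
      funext j
      have h3 := congrFun h2 j
      have h4 : (AdjoinRoot.root g - 1) * v.2 j = 0 := by
        have : AdjoinRoot.root g * v.2 j - v.2 j = 0 := h3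
        rw [sub_mul, one_mul]
        exact this
      rcases mul_eq_zero.mp h4 with h | h
      · exact absurd h hρ1
      · exact h
    · intro hv
      ext j
      · simp
      · show AdjoinRoot.root g * v.2 j - v.2 j = 0
        rw [hv]
        simp
  have hk : Module.finrank F (LinearMap.ker (f' - 1)) = n - i * m := by
    rw [hker, LinearMap.finrank_range_of_inj LinearMap.inl_injective, Module.finrank_fin_fun]
  have hlt : n - i * m < n := by
    have : 2 * 1 ≤ i * m := Nat.mul_le_mul hi2 hm
    omega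
  have hP : aeval f' (g * (X - 1)) = 0 :=
    aeval_model g (n - i * m) m (g * (X - 1)) (by simp) (dvd_mul_right g _)
  obtain ⟨x, hx1, hx2, hx3, hx4⟩ := transport n r hV f' hf'r (n - i * m) hk hlt hδ _ hP
  exact ⟨x, g, hgi, hgm, hgd, hx1, hx2, hx3, hx4⟩

end Cfsg.Agent.S5958P
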