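import Mathlib
import Cfsg.Agent.Helper15.Iso44Defs
import Cfsg.Agent.Helper9.WardA
import Cfsg.Agent.Helper15.Iso44Bas
import Cfsg.Agent.Helper25.Iso44INV
import Cfsg.Agent.Helper11.Iso44ALY
import Cfsg.Agent.Helper27.Iso44AT

/-! s3044pieces AM (helper21): in case A, `Y ≤ D Y_L` (Maschke in `G ⧸ Y_L`). -/

set_option autoImplicit false

namespace Cfsg.Agent.Helper15.Iso44

open Cfsg Subgroup
open scoped commutatorElement

variable {G : Type*} [Group G] [Finite G] {p : ℕ} [Fact p.Prime] {S : Sylow p G} {P : Subgroup G}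

theorem caseA_D_sup_YL (h : Ctx p S P) (hA : ⁅Ysub p P, Ysub p P⁆ ≤ YLsub p S P) :
    Ysub p P ≤ Dsub p P ⊔ YLsub p S P := by
  classical
  have hYLn : (YLsub p S P).Normal := YL_normal
  have hYn : (Ysub p P).Normal := Y_normal
  obtain ⟨t, ht, htp, hexpY⟩ := caseA_exists_t h hA
  set π : G →* G ⧸ YLsub p S P := QuotientGroup.mk' (YLsub p S P) with hπ
  have hπs : Function.Surjective π := QuotientGroup.mk'_surjective _
  have hker : π.ker = YLsub p S P := QuotientGroup.ker_mk' _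
  have hπ1 : ∀ g : G, π g = 1 ↔ g ∈ YLsub p S P := by
    intro g
    exact QuotientGroup.eq_one_iff g
  -- `V`, `B`, `U`
  have hVcomm : ∀ a ∈ (Ysub p P).map π, ∀ b ∈ (Ysub p P).map π, a * b = b * a := by
    rintro _ ⟨y₁, hy₁, rfl⟩ _ ⟨y₂, hy₂, rfl⟩
    have hc : ⁅y₁, y₂⁆ ∈ YLsub p S P := hA (Subgroup.commutator_mem_commutator hy₁ hy₂)
    have h1 : π ⁅y₁, y₂⁆ = 1 := (hπ1 _).2 hc
    rw [map_commutatorElement] at h1
    exact commutatorElement_eq_one_iff_mul_comm.1 h1
  have hVc : IsMulCommutative ↥((Ysub p P).map π) :=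
    ⟨⟨fun a b => Subtype.ext (hVcomm a a.2 b b.2)⟩⟩
  have hVexp : ∀ v ∈ (Ysub p P).map π, v ^ t = 1 := by
    rintro _ ⟨y, hy, rfl⟩
    rw [← map_pow]
    exact (hπ1 _).2 (hexpY y hy)
  have hVn : ((Ysub p P).map π).Normal := Subgroup.Normal.map hYn π hπs
  have hBV : (S : Subgroup G).map π ≤ normalizer (((Ysub p P).map π : Subgroup _) : Set _) := by
    rw [Subgroup.normalizer_eq_top]; exact le_top
  have hBp : IsPGroup p ↥((S : Subgroup G).map π) := S.2.map π
  have hcop : (Nat.card ↥((S : Subgroup G).map π)).Coprime t := by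
    obtain ⟨n, hn⟩ := IsPGroup.iff_card.1 hBp
    rw [hn]
    apply Nat.Coprime.pow_left
    exact (Nat.coprime_primes Fact.out ht).2 (Ne.symm htp)
  have hUV : (Dsub p P).map π ≤ (Ysub p P).map π := Subgroup.map_mono D_le_Y
  have hSD : (S : Subgroup G) ≤ normalizer (Dsub p P : Set G) := h.hSP.trans P_le_normalizer_D
  have hBU : (S : Subgroup G).map π ≤ normalizer (((Dsub p P).map π : Subgroup _) : Set _) := by
    rintro _ ⟨s, hs, rfl⟩
    rw [Subgroup.mem_normalizer_iff]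
    have hs' := Subgroup.mem_normalizer_iff.1 (hSD hs)
    intro x
    constructor
    · rintro ⟨d, hd, rfl⟩
      exact ⟨s * d * s⁻¹, (hs' d).1 hd, by simp⟩
    · rintro ⟨d, hd, hdx⟩
      refine ⟨s⁻¹ * d * s, ?_, ?_⟩
      · have := (hs' (s⁻¹ * d * s)).2
        apply this
        have e : s * (s⁻¹ * d * s) * s⁻¹ = d := by group
        rw [e]; exact hd
      · rw [map_mul, map_mul, hdx, map_inv]
        group
  obtain ⟨W, hWV, hBW, hUW, hUWV⟩ := Cfsg.Agent.Helper9.Ward.maschke' ht ((Ysub p P).map π)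
    ((S : Subgroup G).map π) ((Dsub p P).map π) hVexp hBV hcop hUV hBU
  -- `X` := preimage of `W`
  have hXY : W.comap π ≤ Ysub p P := by
    intro x hx
    have hx' : π x ∈ (Ysub p P).map π := hWV hx
    obtain ⟨y, hy, hyx⟩ := hx'
    have : y⁻¹ * x ∈ YLsub p S P := by
      rw [← hπ1, map_mul, map_inv, hyx]; group
    have hx2 : x = y * (y⁻¹ * x) := by group
    rw [hx2]
    exact (Ysub p P).mul_mem hy (YL_le_Y this)
  have hSX : (S : Subgroup G) ≤ normalizer ((W.comap π : Subgroup G) : Set G) := by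
    intro s hs
    rw [Subgroup.mem_normalizer_iff]
    have hs' := Subgroup.mem_normalizer_iff.1 (hBW (Subgroup.mem_map_of_mem π hs))
    intro x
    rw [Subgroup.mem_comap, Subgroup.mem_comap, map_mul, map_mul, map_inv]
    exact hs' (π x)
  rcases inv_dich h (W.comap π) hSX with hD | hL
  · -- `D ≤ X`: then `π D ≤ U ⊓ W = ⊥`
    exfalso
    apply D_not_le_L h
    intro d hd
    have h1 : π d ∈ (Dsub p P).map π ⊓ W := ⟨Subgroup.mem_map_of_mem π hd, hD hd⟩
    rw [hUW, Subgroup.mem_bot] at h1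
    exact YL_le_L ((hπ1 d).1 h1)
  · -- `X ≤ L ⊓ Y = Y_L`: then `W = ⊥`
    have hXYL : W.comap π ≤ YLsub p S P := by
      intro x hx
      have hx2 : x ∈ Lsub p S P ⊓ Ysub p P := ⟨hL hx, hXY hx⟩
      rwa [caseA_L_inf_Y h hA] at hx2
    have hW : W = ⊥ := by
      rw [eq_bot_iff]
      intro w hw
      obtain ⟨x, rfl⟩ := hπs w
      rw [Subgroup.mem_bot, hπ1]
      exact hXYL hw
    rw [hW, sup_bot_eq] at hUWV
    intro y hy
    have hy' : π y ∈ (Dsub p P).map π := by rw [hUWV]; exact Subgroup.mem_map_of_mem π hy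
    obtain ⟨d, hd, hdy⟩ := hy'
    have : d⁻¹ * y ∈ YLsub p S P := by
      rw [← hπ1, map_mul, map_inv, hdy]; group
    have hy2 : y = d * (d⁻¹ * y) := by group
    rw [hy2]
    exact Subgroup.mul_mem_sup hd this

end Cfsg.Agent.Helper15.Iso44
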