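import Mathlib
import Cfsg.Agent.Helper15.Iso44Defs
import Cfsg.Agent.Helper15.Iso44Bas
import Cfsg.Agent.Helper24.Iso44COP
import Cfsg.Agent.Helper10.Iso44CQ
import Cfsg.Agent.Helper22.Iso44AP
import Cfsg.Agent.Helper21.Iso44AM

/-! s3044pieces AD (helper21): in case A, `D = Y`. -/

set_option autoImplicit false

namespace Cfsg.Agent.Helper15.Iso44

open Cfsg Subgroup
open scoped commutatorElement

variable {G : Type*} [Group G] [Finite G] {p : ℕ} [Fact p.Prime] {S : Sylow p G} {P : Subgroup G}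

theorem caseA_Y_eq_D (h : Ctx p S P) (hA : ⁅Ysub p P, Ysub p P⁆ ≤ YLsub p S P) :
    Dsub p P = Ysub p P := by
  have hp' : PPrimeQuot p P := caseA_pprime h hA
  have hY : Ysub p P = ⁅Ysub p P, QLsub p S P⁆ ⊔ Osub p P := Y_eq_comm h hp'
  have hDY : Ysub p P ≤ Dsub p P ⊔ YLsub p S P := caseA_D_sup_YL h hA
  haveI hYLn : (YLsub p S P).Normal := YL_normal
  haveI hOn : (Osub p P).Normal := O_normal
  -- `[Y_L, Q_L] ≤ O`
  have hYLQ : ⁅YLsub p S P, QLsub p S P⁆ ≤ Osub p P := by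
    apply comm_QL_le_O (YLsub p S P) YL_le_Y YL_le_L
    · rw [Subgroup.normalizer_eq_top]; exact le_top
    · rw [Subgroup.normalizer_eq_top]; exact le_top
  -- `Q_L` normalizes `D`
  have hQLP : QLsub p S P ≤ P := (QL_le_S (S := S) (P := P)).trans h.hSP
  -- `[Y, Q_L] ≤ D ⊔ O`
  have hcomm : ⁅Ysub p P, QLsub p S P⁆ ≤ Dsub p P ⊔ Osub p P := by
    rw [Subgroup.commutator_le]
    intro y hy x hx
    obtain ⟨d, hd, z, hz, rfl⟩ := (Subgroup.mem_sup_of_normal_right).1 (hDY hy)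
    have hid : ⁅d * z, x⁆ = (d * ⁅z, x⁆ * d⁻¹) * ⁅d, x⁆ := by
      simp only [commutatorElement_def]; group
    rw [hid]
    have h1 : d * ⁅z, x⁆ * d⁻¹ ∈ Osub p P :=
      hOn.conj_mem _ (hYLQ (Subgroup.commutator_mem_commutator hz hx)) d
    have h2 : ⁅d, x⁆ ∈ Dsub p P := by
      rw [commutatorElement_def]
      have hxn : x ∈ normalizer (Dsub p P : Set G) := P_le_normalizer_D (hQLP hx)
      have hx2 : x * d⁻¹ * x⁻¹ ∈ Dsub p P :=
        (Subgroup.mem_normalizer_iff.1 hxn d⁻¹).1 ((Dsub p P).inv_mem hd)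
      have : d * x * d⁻¹ * x⁻¹ = d * (x * d⁻¹ * x⁻¹) := by group
      rw [this]
      exact (Dsub p P).mul_mem hd hx2
    rw [sup_comm]
    exact Subgroup.mul_mem_sup h1 h2
  -- `Y ≤ D ⊔ O ≤ P`
  have hYDO : Ysub p P ≤ Dsub p P ⊔ Osub p P := by
    rw [hY]
    exact sup_le hcomm le_sup_right
  have hDOP : Dsub p P ⊔ Osub p P ≤ P :=
    sup_le D_le_P ((O_le_S (S := S) (P := P)).trans h.hSP)
  have hYP : Ysub p P ≤ P := hYDO.trans hDOP
  -- `Y` is generated by its `p'`-elements, which lie in `O^p(P) = D`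
  apply le_antisymm D_le_Y
  apply Y_le_of_pprime_mem
  intro y hy hcop
  have hyP : y ∈ P := hYP hy
  unfold Dsub
  refine ⟨⟨y, hyP⟩, ?_, rfl⟩
  unfold Cfsg.pResidual
  apply Subgroup.subset_closure
  show Nat.Coprime (orderOf (⟨y, hyP⟩ : ↥P)) p
  rw [Subgroup.orderOf_mk]
  exact hcop

end Cfsg.Agent.Helper15.Iso44
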