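import Mathlib
import Cfsg.Agent.Helper15.Iso44Defs
import Cfsg.Agent.Helper15.Iso44Bas
import Cfsg.Agent.Helper7.Layer
import Cfsg.Agent.Helper7.FStar

/-! s3044pieces EFB (helper21): `layer (Y / O_p(Y)) = ⊤` ⇒ the image of `Y` in `G / O_p(G)` lies in the layer. -/

set_option autoImplicit false

namespace Cfsg.Agent.Helper15.Iso44

open Cfsg Subgroup

variable {G : Type*} [Group G] [Finite G] {p : ℕ} [Fact p.Prime] {S : Sylow p G} {P : Subgroup G}

theorem map_le_layer [hnG : (Cfsg.pCore p G).Normal] [hn : (Cfsg.pCore p ↥(Ysub p P)).Normal]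
    (hlay : Cfsg.layer (↥(Ysub p P) ⧸ Cfsg.pCore p ↥(Ysub p P)) = ⊤) :
    (Ysub p P).map (QuotientGroup.mk' (Cfsg.pCore p G)) ≤
      Cfsg.layer (G ⧸ Cfsg.pCore p G) := by
  classical
  have hYn : (Ysub p P).Normal := Y_normal
  set π : G →* G ⧸ Cfsg.pCore p G := QuotientGroup.mk' (Cfsg.pCore p G) with hπ
  have hπs : Function.Surjective π := QuotientGroup.mk'_surjective _
  -- the restriction of `π` to `Y`
  let f : ↥(Ysub p P) →* ↥((Ysub p P).map π) := π.subgroupMap (Ysub p P)
  have hf : Function.Surjective f := π.subgroupMap_surjective (Ysub p P)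
  have hker : f.ker = Cfsg.pCore p ↥(Ysub p P) := by
    ext y
    rw [MonoidHom.mem_ker]
    have h1 : f y = 1 ↔ (y : G) ∈ Cfsg.pCore p G := by
      constructor
      · intro hy
        have := congrArg Subtype.val hy
        have h2 : π (y : G) = 1 := by simpa [f] using this
        exact (QuotientGroup.eq_one_iff (y : G)).1 h2
      · intro hy
        apply Subtype.ext
        have h2 : π (y : G) = 1 := (QuotientGroup.eq_one_iff (y : G)).2 hy
        simpa [f] using h2
    rw [h1]
    have h3 : (y : G) ∈ Osub p P ↔ y ∈ Cfsg.pCore p ↥(Ysub p P) := by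
      unfold Osub Cfsg.pCoreOf
      constructor
      · rintro ⟨y', hy', hyy⟩
        have : y' = y := Subtype.ext hyy
        rw [← this]; exact hy'
      · intro hy
        exact ⟨y, hy, rfl⟩
    rw [← h3, O_eq (p := p) (P := P), Subgroup.mem_inf]
    constructor
    · intro hy; exact ⟨hy, y.2⟩
    · intro hy; exact hy.1
  let ψ : (↥(Ysub p P) ⧸ Cfsg.pCore p ↥(Ysub p P)) ≃* ↥((Ysub p P).map π) :=
    (QuotientGroup.quotientMulEquivOfEq hker.symm).trans
      (QuotientGroup.quotientKerEquivOfSurjective f hf)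
  have hlayA : Cfsg.layer ↥((Ysub p P).map π) = ⊤ := by
    rw [← Cfsg.Agent.Helper7.layer_map_equiv ψ, hlay]
    rw [← MonoidHom.range_eq_map]
    exact MonoidHom.range_eq_top.2 ψ.surjective
  have hAn : ((Ysub p P).map π).Normal := Subgroup.Normal.map hYn π hπs
  exact (Cfsg.Agent.Helper7.le_layer_of_layer_eq_top hAn.isSubnormal hlayA).1

end Cfsg.Agent.Helper15.Iso44
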