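import Mathlib
import Cfsg.Agent.Helper15.S1983Defs
import Cfsg.Agent.Helper4.S1983CLIFF
import Cfsg.Agent.Helper19.S1983NORMCOND

/-!
# S1983 piece CHAIN (helper21)

Semisimplicity for every `K` between `L` and `M`, by descending from `M` along a chain in which
every member is normal in the previous one (normalizer condition, `NORMCOND.main`) and one Clifford
step at a time (`CLIFF.step`).
-/

set_option autoImplicit false

namespace Cfsg.Agent.S1983P

/-- An irreducible module is semisimple for the whole group. -/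
theorem CHAIN.aux_top {Γ W : Type*} [Group Γ] [Group W] (ρ : Γ →* MulAut W)
    (hirr : ∀ F : Subgroup W, InvSub ρ ⊤ F → F = ⊥ ∨ F = ⊤) : SSi ρ ⊤ := by
  intro F hF
  rcases hirr F hF with h | h
  · refine ⟨⊤, ?_, ?_, ?_⟩
    · intro k _ w _
      exact Subgroup.mem_top _
    · rw [h]; exact bot_inf_eq _
    · exact sup_top_eq _
  · refine ⟨⊥, ?_, ?_, ?_⟩
    · intro k _ w hw
      rw [Subgroup.mem_bot] at hw ⊢
      rw [hw, map_one]
    · exact inf_bot_eq _
    · rw [h]; exact top_sup_eq _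

/-- The descending induction. -/
theorem CHAIN.aux_ind {Γ W : Type*} [Group Γ] [Finite Γ] [Group W] [Finite W]
    (hc : ∀ a b : W, a * b = b * a) (p : ℕ) [Fact p.Prime] (ρ : Γ →* MulAut W)
    (M L : Subgroup Γ) [M.Normal] [L.Normal]
    (hpow : ∀ m ∈ M, ∃ k : ℕ, m ^ (p ^ k) ∈ L)
    (hM : SSi ρ M) :
    ∀ n : ℕ, ∀ K : Subgroup Γ, L ≤ K → K ≤ M → Nat.card ↥M - Nat.card ↥K = n → SSi ρ K := by
  intro n
  induction n using Nat.strong_induction_on with
  | _ n ih =>
    intro K hLK hKM hn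
    by_cases hne : K = M
    · rw [hne]; exact hM
    · have hML : M ≤ Subgroup.normalizer (L : Set Γ) := by
        rw [Subgroup.normalizer_eq_top]
        exact le_top
      obtain ⟨K', hKK', hK'M, hK'N⟩ := NORMCOND.main p M L K hML hLK hKM hne hpow
      have hcard1 : Nat.card ↥K < Nat.card ↥K' := by
        have h1 : (K : Set Γ) ⊂ (K' : Set Γ) := SetLike.coe_ssubset_coe.mpr hKK'
        have h2 := Set.ncard_lt_ncard h1 (Set.toFinite _)
        rwa [← Nat.card_coe_set_eq, ← Nat.card_coe_set_eq] at h2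
      have hcard2 : Nat.card ↥K' ≤ Nat.card ↥M := Subgroup.card_le_of_le hK'M
      have hK' : SSi ρ K' :=
        ih (Nat.card ↥M - Nat.card ↥K') (by omega) K' (le_trans hLK hKK'.le) hK'M rfl
      exact CLIFF.step hc ρ K' K hKK'.le hK'N hK'

theorem CHAIN.main {Γ W : Type*} [Group Γ] [Finite Γ] [Group W] [Finite W]
    (hc : ∀ a b : W, a * b = b * a) (p : ℕ) [Fact p.Prime] (ρ : Γ →* MulAut W)
    (M L : Subgroup Γ) [M.Normal] [L.Normal] (hLM : L ≤ M)
    (hpow : ∀ m ∈ M, ∃ k : ℕ, m ^ (p ^ k) ∈ L)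
    (hirr : ∀ F : Subgroup W, InvSub ρ ⊤ F → F = ⊥ ∨ F = ⊤)
    (K : Subgroup Γ) (hLK : L ≤ K) (hKM : K ≤ M) : SSi ρ K := by
  have htop : SSi ρ ⊤ := CHAIN.aux_top ρ hirr
  have hM : SSi ρ M := by
    refine CLIFF.step hc ρ ⊤ M le_top ?_ htop
    rw [Subgroup.normalizer_eq_top]
  exact CHAIN.aux_ind hc p ρ M L hpow hM _ K hLK hKM rfl

end Cfsg.Agent.S1983P
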