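import Mathlib
import Cfsg.Prelude.Def_Classical
import Cfsg.Agent.Helper15.S2933Defs
import Cfsg.Agent.Helper26.S64A
import Cfsg.Agent.Helper26.S64C
import Cfsg.Agent.Helper8.S64B1
import Cfsg.Agent.Helper8.S64B2

set_option autoImplicit false

/-! # S2933 board, piece CASEA: in a non-abelian group of order 64 with a fixed-point-free automorphism
of order 3, a non-central involution `u` does not commute with some involution `k₀ a`,
`a ∈ {1, u, ρ u, ρ² u}` (no use of B64: the three commutators `⁅ρ^i u, k₀⁆` exhaust `Z(T)#`). -/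

namespace Cfsg.Agent.S2933P

open scoped commutatorElement
open Cfsg.Agent.Helper16.S64 Cfsg.Agent.S2933P

universe u

/-- CASEA: a non-central involution gives two non-commuting involutions. -/
theorem CASEA {T : Type u} [Group T] [Finite T] (hT : Nat.card T = 64) (hna : ¬ IsMulCommutative T)
    {ρ : MulAut T} (hf : Fpf3 ρ) (u : T) (hu : u * u = 1) (hnc : u ∉ Subgroup.center T) :
    ∃ t1 t2 : T, t1 * t1 = 1 ∧ t2 * t2 = 1 ∧ ⁅t1, t2⁆ ≠ 1 := by
  classical
  have h : Fpf3Facts ρ := Cfsg.Agent.Helper26.S64.fpf3Facts_of_fpf3 hf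
  obtain ⟨hZ, hcen⟩ := Cfsg.Agent.Helper8.S64.center_and_class hT hna h
    (fun N M hNn hN hM => Cfsg.Agent.Helper8.S64.index_ne_four h N M hNn hN hM)
  have hc : Cl2Facts ρ := Cfsg.Agent.Helper26.S64.cl2Facts h hZ hcen
  -- a partner `k` not commuting with `u`
  obtain ⟨k, hk⟩ : ∃ k : T, k * u ≠ u * k := by
    by_contra hcon
    push Not at hcon
    exact hnc (Subgroup.mem_center_iff.mpr hcon)
  set y : T := ⁅u, k⁆ with hy
  have hy1 : y ≠ 1 := by
    intro h1
    apply hk
    have : u * k * u⁻¹ * k⁻¹ = 1 := by rw [← commutatorElement_def]; exact h1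
    have h2 : u * k = k * u := by
      have := congrArg (fun t => t * k * u) this
      simpa [mul_assoc] using this
    exact h2.symm
  have hmemc : ∀ s t : T, ⁅s, t⁆ ∈ Subgroup.center T := fun s t =>
    Subgroup.mem_center_iff.mpr (fun g => (hc.central s t g).symm)
  have hyZ : y ∈ Subgroup.center T := hmemc u k
  have hρyZ : ρ y ∈ Subgroup.center T := by
    rw [hy, ← hc.rho_rho]; exact hmemc _ _
  have hρρyZ : ρ (ρ y) ∈ Subgroup.center T := by
    rw [hy, ← hc.rho_rho, ← hc.rho_rho]; exact hmemc _ _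
  have hρy1 : ρ y ≠ 1 := fun h1 => hy1 (by simpa using h1)
  have hρρy1 : ρ (ρ y) ≠ 1 := fun h1 => hρy1 (by simpa using h1)
  have hd1 : ρ y ≠ y := fun h1 => hy1 (hf.fpf y h1)
  have hd2 : ρ (ρ y) ≠ ρ y := fun h1 => hd1 (ρ.injective h1)
  have hd3 : ρ (ρ y) ≠ y := by
    intro h1
    apply hd1
    have := congrArg ρ h1
    rw [hf.cube] at this
    exact this.symm
  -- the centre is {1, y, ρ y, ρ² y}
  have hall : ∀ z ∈ Subgroup.center T, z = 1 ∨ z = y ∨ z = ρ y ∨ z = ρ (ρ y) := by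
    intro z hz
    have : Fintype (Subgroup.center T) := Fintype.ofFinite _
    let S : Finset (Subgroup.center T) :=
      {⟨1, Subgroup.one_mem _⟩, ⟨y, hyZ⟩, ⟨ρ y, hρyZ⟩, ⟨ρ (ρ y), hρρyZ⟩}
    have hS : S.card = 4 := by
      rw [Finset.card_insert_of_notMem, Finset.card_insert_of_notMem,
        Finset.card_insert_of_notMem, Finset.card_singleton]
      · simp only [Finset.mem_singleton, Subtype.mk.injEq]
        exact fun h1 => hd2 h1.symm
      · simp only [Finset.mem_insert, Finset.mem_singleton, Subtype.mk.injEq, not_or]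
        exact ⟨fun h1 => hd1 h1.symm, fun h1 => hd3 h1.symm⟩
      · simp only [Finset.mem_insert, Finset.mem_singleton, Subtype.mk.injEq, not_or]
        exact ⟨fun h1 => hy1 h1.symm, fun h1 => hρy1 h1.symm, fun h1 => hρρy1 h1.symm⟩
    have hcard : Fintype.card (Subgroup.center T) = 4 := by
      rw [← Nat.card_eq_fintype_card]; exact hZ
    have hSu : S = Finset.univ := Finset.eq_univ_of_card S (by rw [hS, hcard])
    have hzS : (⟨z, hz⟩ : Subgroup.center T) ∈ S := by rw [hSu]; exact Finset.mem_univ _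
    simp only [S, Finset.mem_insert, Finset.mem_singleton, Subtype.mk.injEq] at hzS
    exact hzS
  have hkk : k * k ∈ Subgroup.center T :=
    Subgroup.mem_center_iff.mpr (fun g => (hc.sq_central k g).symm)
  -- auxiliary facts about `u, ρ u, ρ² u`
  have hρu : ρ u * ρ u = 1 := by rw [← map_mul, hu, map_one]
  have hρρu : ρ (ρ u) * ρ (ρ u) = 1 := by rw [← map_mul, hρu, map_one]
  have hc1 : ⁅u, ρ u⁆ = 1 := Cfsg.Agent.Helper26.S64.c_eq_one_of_comm (h.comm u)
  have hc2 : ⁅u, ρ (ρ u)⁆ = 1 := by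
    apply Cfsg.Agent.Helper26.S64.c_eq_one_of_comm
    have := h.comm (ρ (ρ u))
    rw [hf.cube] at this
    exact this.symm
  have e1 : ⁅ρ u, k⁆ = ρ (ρ y) := hc.rho_left u k
  have e2 : ⁅ρ (ρ u), k⁆ = ρ y := by
    rw [hc.rho_left (ρ u) k, e1, hf.cube]
  refine ⟨u, ?_⟩
  rcases hall (k * k) hkk with hk1 | hk1 | hk1 | hk1
  · refine ⟨k, hu, hk1, hy1⟩
  · refine ⟨k * u, hu, ?_, ?_⟩
    · rw [hc.sq_mul, hk1, hu, mul_one, ← hy]
      exact hc.center_sq y hyZ
    · rw [hc.mul_right, commutatorElement_self, mul_one]; exact hy1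
  · refine ⟨k * ρ (ρ u), hu, ?_, ?_⟩
    · rw [hc.sq_mul, hk1, hρρu, mul_one, e2]
      exact hc.center_sq _ hρyZ
    · rw [hc.mul_right, hc2, mul_one]; exact hy1
  · refine ⟨k * ρ u, hu, ?_, ?_⟩
    · rw [hc.sq_mul, hk1, hρu, mul_one, e1]
      exact hc.center_sq _ hρρyZ
    · rw [hc.mul_right, hc1, mul_one]; exact hy1

end Cfsg.Agent.S2933P
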