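import Mathlib
import Cfsg.Prelude.Def_Characters
import Cfsg.Agent.Helper23.ClassProduct
import Cfsg.Agent.Helper8.CharComp
import Cfsg.Agent.Helper24.Abelian
import Cfsg.Agent.Helper24.Expansion

set_option autoImplicit false

/-! S4751 piece KEY: if `χ_P = ρ_P - 1` for an abelian subgroup `P` (so `χ_P` is multiplicity-free)
then `∑_{y ∈ P} |χ(cy)|² = |P|(|P|-1)` for every `c` centralizing `P`. -/

namespace Cfsg.Agent.S4751P

open scoped ComplexConjugate

universe u

variable {G : Type u} [Group G] [Finite G]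

namespace KEY

omit [Finite G] in
/-- the subgroup generated by a commuting set is commutative -/
theorem closure_comm {k : Set G} (hk : ∀ x ∈ k, ∀ y ∈ k, x * y = y * x) :
    ∀ a ∈ Subgroup.closure k, ∀ b ∈ Subgroup.closure k, a * b = b * a := by
  have h1 : Subgroup.closure k ≤ Subgroup.centralizer k := by
    rw [Subgroup.closure_le]
    intro x hx
    rw [SetLike.mem_coe, Subgroup.mem_centralizer_iff]
    intro y hy
    exact hk y hy x hx
  have h2 : Subgroup.closure k ≤ Subgroup.centralizer (Subgroup.closure k : Set G) := by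
    rw [Subgroup.centralizer_closure]
    exact h1
  intro a ha b hb
  have := Subgroup.mem_centralizer_iff.1 (h2 hb) a ha
  exact this

/-- a homomorphism from a finite group to `ℂ` has values of norm one -/
theorem hom_mul_conj {A : Type*} [Group A] [Finite A] (φ : A →* ℂ) (a : A) :
    φ a * conj (φ a) = 1 := by
  have hpow : φ a ^ orderOf a = 1 := by rw [← map_pow, pow_orderOf_eq_one, map_one]
  have hn : ‖φ a‖ = 1 :=
    Complex.norm_eq_one_of_pow_eq_one hpow (orderOf_pos a).ne'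
  rw [Complex.mul_conj, Complex.normSq_eq_norm_sq, hn]
  norm_num

/-- orthogonality of two homomorphisms on a finite group -/
theorem sum_hom_conj {P : Type*} [Group P] [Fintype P] (α β : P →* ℂ)
    (hβ : ∀ y, β y * conj (β y) = 1) [Decidable (∀ y, α y = β y)] :
    ∑ y : P, α y * conj (β y) = if (∀ y, α y = β y) then (Fintype.card P : ℂ) else 0 := by
  split_ifs with h
  · have : ∀ y : P, α y * conj (β y) = 1 := fun y => by rw [h y, hβ y]
    rw [Finset.sum_congr rfl (fun y _ => this y), Finset.sum_const, Finset.card_univ]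
    simp
  · push Not at h
    obtain ⟨y0, hy0⟩ := h
    have hshift : ∑ y : P, α y * conj (β y) = ∑ y : P, α (y0 * y) * conj (β (y0 * y)) :=
      (Fintype.sum_equiv (Equiv.mulLeft y0) _ _ (fun y => rfl)).symm
    have hfac : ∑ y : P, α (y0 * y) * conj (β (y0 * y)) =
        (α y0 * conj (β y0)) * ∑ y : P, α y * conj (β y) := by
      rw [Finset.mul_sum]
      refine Finset.sum_congr rfl (fun y _ => ?_)
      rw [map_mul, map_mul, map_mul]
      ring
    have hne : α y0 * conj (β y0) ≠ 1 := by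
      intro h1
      apply hy0
      have this : α y0 * conj (β y0) * β y0 = 1 * β y0 := by rw [h1]
      rw [mul_assoc, mul_comm (conj (β y0)), hβ y0, mul_one, one_mul] at this
      exact this
    have : (α y0 * conj (β y0) - 1) * ∑ y : P, α y * conj (β y) = 0 := by
      rw [sub_mul, one_mul, ← hfac, ← hshift, sub_self]
    rcases mul_eq_zero.1 this with h0 | h0
    · exact absurd (sub_eq_zero.1 h0) hne
    · exact h0

end KEY

open KEY in
/-- KEY -/
theorem key_sum (χ : G → ℂ) (hχ : Cfsg.IsCharacter G χ) (P : Subgroup G) [Fintype P]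
    (hab : ∀ a ∈ P, ∀ b ∈ P, a * b = b * a) (h1 : χ 1 = (Nat.card P : ℂ) - 1)
    (hm1 : ∀ y ∈ P, y ≠ 1 → χ y = -1) (c : G) (hc : ∀ y ∈ P, c * y = y * c) :
    ∑ y : P, χ (c * y) * conj (χ (c * y)) = (Nat.card P : ℂ) * ((Nat.card P : ℂ) - 1) := by
  classical
  -- the abelian subgroup generated by `c` and `P`
  obtain ⟨A, hAdef⟩ : ∃ A : Subgroup G, A = Subgroup.closure ({c} ∪ (P : Set G)) := ⟨_, rfl⟩
  have hcA : c ∈ A := by rw [hAdef]; exact Subgroup.subset_closure (Or.inl rfl)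
  have hPA : P ≤ A := by
    intro y hy; rw [hAdef]; exact Subgroup.subset_closure (Or.inr hy)
  have hcommA : ∀ a b : A, a * b = b * a := by
    intro a b
    apply Subtype.ext
    have hk : ∀ x ∈ ({c} ∪ (P : Set G)), ∀ y ∈ ({c} ∪ (P : Set G)), x * y = y * x := by
      rintro x (hx | hx) y (hy | hy)
      · rw [Set.mem_singleton_iff] at hx hy; rw [hx, hy]
      · rw [Set.mem_singleton_iff] at hx; rw [hx]; exact hc y hy
      · rw [Set.mem_singleton_iff] at hy; rw [hy]; exact (hc x hx).symm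
      · exact hab x hx y hy
    have ha : (a : G) ∈ Subgroup.closure ({c} ∪ (P : Set G)) := by rw [← hAdef]; exact a.2
    have hb : (b : G) ∈ Subgroup.closure ({c} ∪ (P : Set G)) := by rw [← hAdef]; exact b.2
    exact closure_comm hk a.1 ha b.1 hb
  letI : Fintype A := Fintype.ofFinite A
  letI : Fintype (Cfsg.IrrCharacter A) := Fintype.ofFinite _
  have hχA : Cfsg.IsCharacter A (fun a : A => χ (A.subtype a)) :=
    Cfsg.Agent.Helper8.isCharacter_comp A.subtype hχ
  obtain ⟨m, hm⟩ := Cfsg.Agent.Helper24.IsCharacter.exists_nat_coeff hχA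
  have hlin : ∀ ψ : Cfsg.IrrCharacter A, (ψ : A → ℂ) 1 = 1 :=
    Cfsg.Agent.Helper24.comm_iff_forall_irr_one.mp hcommA
  choose φ hφ using fun ψ : Cfsg.IrrCharacter A =>
    Cfsg.Agent.Helper23.exists_monoidHom_of_irr_one_eq_one ψ (hlin ψ)
  -- expansion of `χ` on `A`
  have hexp : ∀ a : A, χ (a : G) = ∑ ψ : Cfsg.IrrCharacter A, (m ψ : ℂ) * φ ψ a := by
    intro a
    have := congrFun hm a
    simp only [Subgroup.coe_subtype, Finset.sum_apply, Pi.smul_apply, smul_eq_mul] at this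
    rw [this]
    exact Finset.sum_congr rfl (fun ψ _ => by rw [hφ ψ a])
  set ι : P →* A := Subgroup.inclusion hPA with hι
  obtain ⟨q, hq⟩ : ∃ q : ℕ, q = Fintype.card P := ⟨_, rfl⟩
  have hqcard : Nat.card P = q := by rw [hq, Nat.card_eq_fintype_card]
  have hqpos : 0 < q := by rw [hq]; exact Fintype.card_pos
  -- the relation "same restriction to `P`"
  let R : Cfsg.IrrCharacter A → Cfsg.IrrCharacter A → Prop :=
    fun ψ ψ' => ∀ y : P, (φ ψ).comp ι y = (φ ψ').comp ι y
  have hRrefl : ∀ ψ, R ψ ψ := fun ψ y => rfl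
  -- the general formula
  have hF : ∀ d : A, ∑ y : P, χ ((d * ι y : A) : G) * conj (χ ((d * ι y : A) : G)) =
      (q : ℂ) * ∑ ψ : Cfsg.IrrCharacter A, ∑ ψ' : Cfsg.IrrCharacter A,
        if R ψ ψ' then (m ψ : ℂ) * (m ψ' : ℂ) * (φ ψ d * conj (φ ψ' d)) else 0 := by
    intro d
    have e1 : ∀ y : P, χ ((d * ι y : A) : G) * conj (χ ((d * ι y : A) : G)) =
        ∑ ψ : Cfsg.IrrCharacter A, ∑ ψ' : Cfsg.IrrCharacter A,
          ((m ψ : ℂ) * (m ψ' : ℂ) * (φ ψ d * conj (φ ψ' d))) *
            ((φ ψ).comp ι y * conj ((φ ψ').comp ι y)) := by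
      intro y
      rw [hexp, map_sum, Finset.sum_mul_sum]
      refine Finset.sum_congr rfl (fun ψ _ => Finset.sum_congr rfl (fun ψ' _ => ?_))
      rw [map_mul, map_mul, map_mul, map_mul, MonoidHom.comp_apply, MonoidHom.comp_apply,
        Complex.conj_natCast]
      ring
    rw [Finset.sum_congr rfl (fun y _ => e1 y), Finset.sum_comm, Finset.mul_sum]
    refine Finset.sum_congr rfl (fun ψ _ => ?_)
    rw [Finset.sum_comm, Finset.mul_sum]
    refine Finset.sum_congr rfl (fun ψ' _ => ?_)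
    rw [← Finset.mul_sum, sum_hom_conj ((φ ψ).comp ι) ((φ ψ').comp ι)
      (fun y => hom_mul_conj ((φ ψ').comp ι) y), ← hq]
    by_cases hR : R ψ ψ'
    · rw [if_pos hR, if_pos hR]; ring
    · rw [if_neg hR, if_neg hR]; ring
  -- `d = 1`
  have hone : (1 : A) = ⟨1, A.one_mem⟩ := rfl
  have hsumP : ∑ y : P, χ (((1 : A) * ι y : A) : G) * conj (χ (((1 : A) * ι y : A) : G)) =
      (q : ℂ) * ((q : ℂ) - 1) := by
    have e : ∀ y : P, χ (((1 : A) * ι y : A) : G) * conj (χ (((1 : A) * ι y : A) : G)) =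
        1 + if y = 1 then (((q : ℂ) - 1) * ((q : ℂ) - 1) - 1) else 0 := by
      intro y
      have hy : (((1 : A) * ι y : A) : G) = (y : G) := by
        rw [one_mul]; rfl
      rw [hy]
      by_cases h : y = 1
      · rw [if_pos h, h, Subgroup.coe_one, h1, hqcard]
        have : conj ((q : ℂ) - 1) = (q : ℂ) - 1 := by
          rw [map_sub, map_one, Complex.conj_natCast]
        rw [this]; ring
      · rw [if_neg h, hm1 y y.2 (fun h' => h (Subtype.ext h'))]
        simp
    rw [Finset.sum_congr rfl (fun y _ => e y), Finset.sum_add_distrib, Finset.sum_const,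
      Finset.card_univ, Finset.sum_ite_eq' Finset.univ (1 : P), if_pos (Finset.mem_univ _), ← hq]
    simp only [nsmul_eq_mul, mul_one]
    ring
  have hqne : (q : ℂ) ≠ 0 := by exact_mod_cast hqpos.ne'
  -- natural number identities
  have hN1 : ((∑ ψ : Cfsg.IrrCharacter A, ∑ ψ' : Cfsg.IrrCharacter A,
      if R ψ ψ' then m ψ * m ψ' else 0 : ℕ) : ℂ) = (q : ℂ) - 1 := by
    have := hF 1
    rw [hsumP] at this
    have h2 := mul_left_cancel₀ hqne this
    rw [h2]
    push_cast
    refine Finset.sum_congr rfl (fun ψ _ => Finset.sum_congr rfl (fun ψ' _ => ?_))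
    by_cases hR : R ψ ψ'
    · rw [if_pos hR, if_pos hR, map_one, map_one, map_one, mul_one, mul_one]
    · rw [if_neg hR, if_neg hR]
  have hN2 : ((∑ ψ : Cfsg.IrrCharacter A, m ψ : ℕ) : ℂ) = (q : ℂ) - 1 := by
    have := hexp 1
    rw [Subgroup.coe_one, h1, hqcard] at this
    rw [this]
    push_cast
    refine Finset.sum_congr rfl (fun ψ _ => ?_)
    rw [map_one, mul_one]
  have hN : ∑ ψ : Cfsg.IrrCharacter A, m ψ * ∑ ψ' : Cfsg.IrrCharacter A,
      (if R ψ ψ' then m ψ' else 0) = ∑ ψ : Cfsg.IrrCharacter A, m ψ := by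
    have : ((∑ ψ : Cfsg.IrrCharacter A, ∑ ψ' : Cfsg.IrrCharacter A,
      if R ψ ψ' then m ψ * m ψ' else 0 : ℕ) : ℂ) = ((∑ ψ : Cfsg.IrrCharacter A, m ψ : ℕ) : ℂ) := by
      rw [hN1, hN2]
    have h2 := Nat.cast_injective this
    rw [← h2]
    refine Finset.sum_congr rfl (fun ψ _ => ?_)
    rw [Finset.mul_sum]
    refine Finset.sum_congr rfl (fun ψ' _ => ?_)
    by_cases hR : R ψ ψ'
    · rw [if_pos hR, if_pos hR]
    · rw [if_neg hR, if_neg hR, mul_zero]
  have hMge : ∀ ψ : Cfsg.IrrCharacter A,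
      m ψ ≤ ∑ ψ' : Cfsg.IrrCharacter A, (if R ψ ψ' then m ψ' else 0) := by
    intro ψ
    have := Finset.single_le_sum (f := fun ψ' => if R ψ ψ' then m ψ' else 0)
      (fun ψ' _ => Nat.zero_le _) (Finset.mem_univ ψ)
    simp only [if_pos (hRrefl ψ)] at this
    exact this
  have hterm : ∀ ψ : Cfsg.IrrCharacter A, m ψ ≤ m ψ * ∑ ψ' : Cfsg.IrrCharacter A,
      (if R ψ ψ' then m ψ' else 0) := by
    intro ψ
    rcases Nat.eq_zero_or_pos (m ψ) with h0 | h0
    · rw [h0, zero_mul]
    · exact Nat.le_mul_of_pos_right _ (lt_of_lt_of_le h0 (hMge ψ))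
  have hteq : ∀ ψ : Cfsg.IrrCharacter A, m ψ * ∑ ψ' : Cfsg.IrrCharacter A,
      (if R ψ ψ' then m ψ' else 0) = m ψ := by
    intro ψ
    have := (Finset.sum_eq_sum_iff_of_le (fun ψ _ => hterm ψ)).1 hN.symm ψ (Finset.mem_univ ψ)
    exact this.symm
  -- uniqueness
  have huniq : ∀ ψ ψ' : Cfsg.IrrCharacter A, R ψ ψ' → m ψ ≠ 0 → m ψ' ≠ 0 → ψ = ψ' := by
    intro ψ ψ' hR h0 h0'
    by_contra hne
    have hM1 : ∑ ψ'' : Cfsg.IrrCharacter A, (if R ψ ψ'' then m ψ'' else 0) = 1 := by
      have := hteq ψ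
      have hpos : 0 < m ψ := Nat.pos_of_ne_zero h0
      exact Nat.eq_of_mul_eq_mul_left hpos (by rw [this, mul_one])
    have h2 : m ψ + m ψ' ≤ ∑ ψ'' : Cfsg.IrrCharacter A, (if R ψ ψ'' then m ψ'' else 0) := by
      have hsub : ({ψ, ψ'} : Finset (Cfsg.IrrCharacter A)) ⊆ Finset.univ := Finset.subset_univ _
      have := Finset.sum_le_sum_of_subset (f := fun ψ'' => if R ψ ψ'' then m ψ'' else 0) hsub
      rw [Finset.sum_pair hne] at this
      simp only [if_pos (hRrefl ψ), if_pos hR] at this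
      exact this
    have : 0 < m ψ := Nat.pos_of_ne_zero h0
    have : 0 < m ψ' := Nat.pos_of_ne_zero h0'
    omega
  have hm_one : ∀ ψ : Cfsg.IrrCharacter A, m ψ ≠ 0 → m ψ = 1 := by
    intro ψ h0
    have hM1 : ∑ ψ'' : Cfsg.IrrCharacter A, (if R ψ ψ'' then m ψ'' else 0) = 1 := by
      have := hteq ψ
      have hpos : 0 < m ψ := Nat.pos_of_ne_zero h0
      exact Nat.eq_of_mul_eq_mul_left hpos (by rw [this, mul_one])
    have := hMge ψ
    have hpos : 0 < m ψ := Nat.pos_of_ne_zero h0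
    omega
  -- conclusion
  let cA : A := ⟨c, hcA⟩
  have hcy : ∀ y : P, c * (y : G) = ((cA * ι y : A) : G) := fun y => rfl
  rw [Finset.sum_congr rfl (fun y _ => by rw [hcy y]), hF cA, hqcard]
  congr 1
  rw [← hN1]
  push_cast
  refine Finset.sum_congr rfl (fun ψ _ => Finset.sum_congr rfl (fun ψ' _ => ?_))
  by_cases hR : R ψ ψ'
  · rw [if_pos hR, if_pos hR]
    by_cases h0 : m ψ = 0
    · rw [h0]; simp
    by_cases h0' : m ψ' = 0
    · rw [h0']; simp
    have := huniq ψ ψ' hR h0 h0'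
    subst this
    rw [hom_mul_conj (φ ψ) cA, mul_one]
  · rw [if_neg hR, if_neg hR]

end Cfsg.Agent.S4751P
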