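import Mathlib
import Cfsg.Prelude.Def_Characters
import Cfsg.Agent.Helper23.Schur
import Cfsg.Agent.Helper24.CharBasic

set_option autoImplicit false

/-! S4751 piece ZCH: for a faithful irreducible character, `g` is central iff `|χ(g)| = χ(1)`. -/

namespace Cfsg.Agent.S4751P

open scoped ComplexConjugate

universe u

variable {G : Type u} [Group G] [Finite G]

/-- ZCH -/
theorem center_iff_norm (χ : G → ℂ) (hχ : Cfsg.IsIrrCharacter G χ)
    (hfaith : ∀ g : G, χ g = χ 1 → g = 1) (g : G) :
    g ∈ Subgroup.center G ↔ χ g * conj (χ g) = χ 1 * χ 1 := by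
  obtain ⟨n, ρ, hρ, rfl⟩ := hχ
  haveI := hρ
  have h1 : ρ.character 1 = (n : ℂ) := by
    rw [Representation.char_one]; simp
  have hfr : (Module.finrank ℂ (Fin n → ℂ) : ℝ) = (n : ℝ) := by simp
  have hnorm : ρ.character g * conj (ρ.character g) = ((‖ρ.character g‖ ^ 2 : ℝ) : ℂ) := by
    rw [Complex.mul_conj, Complex.normSq_eq_norm_sq]
  have hiff : ρ.character g * conj (ρ.character g) = ρ.character 1 * ρ.character 1 ↔
      ‖ρ.character g‖ = (n : ℝ) := by
    rw [hnorm, h1]
    constructor
    · intro h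
      have h' : (‖ρ.character g‖ ^ 2 : ℝ) = (n : ℝ) * (n : ℝ) := by
        have : (((‖ρ.character g‖ ^ 2 : ℝ) : ℂ)) = (((n : ℝ) * (n : ℝ) : ℝ) : ℂ) := by
          rw [h]; push_cast; ring
        exact_mod_cast this
      have h0 : 0 ≤ ‖ρ.character g‖ := norm_nonneg _
      have hn0 : (0 : ℝ) ≤ (n : ℝ) := Nat.cast_nonneg n
      nlinarith [sq_nonneg (‖ρ.character g‖ - n), sq_nonneg (‖ρ.character g‖ + n)]
    · intro h
      rw [h]; push_cast; ring
  rw [hiff, ← hfr, Cfsg.Agent.Helper24.norm_char_eq_iff]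
  constructor
  · intro hg
    exact Cfsg.Agent.Helper23.exists_scalar_of_mem_center ρ g hg
  · rintro ⟨c, hc⟩
    have hinj : Function.Injective ρ := by
      intro a b hab
      have h2 : ρ (a * b⁻¹) = LinearMap.id := by
        rw [map_mul, hab, ← map_mul, mul_inv_cancel, map_one]; rfl
      have h3 := (Cfsg.Agent.Helper24.char_eq_finrank_iff ρ (a * b⁻¹)).mpr h2
      have h4 : ρ.character (a * b⁻¹) = ρ.character 1 := by
        rw [h3, Representation.char_one]
      have := hfaith _ h4
      exact mul_inv_eq_one.1 this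
    rw [Subgroup.mem_center_iff]
    intro x
    apply hinj
    rw [map_mul, map_mul, hc]
    ext v
    simp
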