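import Cfsg.Agent.Helper24.S5637.Defs

set_option autoImplicit false
set_option linter.unusedSectionVars false
set_option linter.unusedVariables false

/-! # S5637 piece LIB1: `V_w` is cut out by the contractions `c_ψ`, `ψ ⊥ w`. -/

namespace Cfsg.Agent.S5637P

open Matrix Kronecker Cfsg.Agent.Helper28.SLMax Cfsg.Agent.S5634P
open scoped MatrixGroups

variable {F : Type*} [Field F] {n a b : ℕ} (e : Fin n ≃ Fin a × Fin b)

theorem LIB1 {w : Fin b → F} (hw : w ≠ 0) (x : Fin n → F) :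
    x ∈ Vw e w ↔ ∀ ψ : Fin b → F, ψ ⬝ᵥ w = 0 → cps e ψ x = 0 := by
  constructor
  · intro hx ψ hψ
    exact cps_of_mem_Vw e hψ hx
  · intro h
    have hw' : w ∉ (⊥ : Submodule F (Fin b → F)) := by
      intro h0
      exact hw ((Submodule.mem_bot F).mp h0)
    obtain ⟨ψ₀, -, h0⟩ := exists_dual (⊥ : Submodule F (Fin b → F)) w hw'
    rw [mem_Vw]
    refine ⟨cps e ψ₀ x, ?_⟩
    have hz : x - tn e (cps e ψ₀ x) w = 0 := by
      apply eq_zero_of_cps e
      intro φ
      rw [map_sub, cps_tn]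
      have h1 : (φ - (φ ⬝ᵥ w) • ψ₀) ⬝ᵥ w = 0 := by
        rw [sub_dotProduct, smul_dotProduct, h0, smul_eq_mul, mul_one, sub_self]
      have h2 := h _ h1
      rw [sub_eq_add_neg, cps_add, cps_neg, cps_smul] at h2
      rw [sub_eq_add_neg]
      exact h2
    exact sub_eq_zero.mp hz

end Cfsg.Agent.S5637P
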