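import Mathlib
import Cfsg.Agent.Helper15.S5704SEEDDefs2
import Cfsg.Agent.Helper26.S5704ROOTS
import Cfsg.Agent.Helper15.S5704SEEDLIB

/-! # S5704, chapter SEED (driver helper15), piece EGCONJ: conjugation of an `EGp` element by `XU u s`. -/

set_option autoImplicit false
set_option linter.unusedSectionVars false
set_option linter.unusedVariables false

namespace Cfsg.Agent.S5704P

open Matrix Cfsg.Agent.S5637P Cfsg.Agent.S5704S Cfsg.Agent.Helper28.Sg

variable {F : Type*} [Field F] {n a b : ℕ} (e : Fin n ≃ Fin a × Fin b)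
variable {Q : QuadraticForm F (Fin n → F)} {GU : Matrix (Fin a) (Fin a) F}
  {GW : Matrix (Fin b) (Fin b) F} {M : Subgroup (GL (Fin n) F)}

theorem EGCONJ.tu_cancel (hU : IsSymp GU) (u : Fin a → F) (s : F) (x : Fin a → F) :
    TU GU u s *ᵥ (TU GU u (-s) *ᵥ x) = x := by
  rw [TU_mulVec, TU_mulVec, bf_add_left, bf_smul_left, hU.alt, mul_zero, add_zero, add_assoc, ← add_smul]
  have h0 : -s * bf GU x u + s * bf GU x u = 0 := by ring
  rw [h0, zero_smul, add_zero]

/-- EGCONJ (M): conjugation by `XU u s` conjugates the parameters by `τ = TU GU u s` (`LIB.XU_tn`, `LIB.XU_inv`). -/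
theorem EGCONJ.main (hU : IsSymp GU) {z z1 : Fin b → F} {Θ Θ' C : Matrix (Fin a) (Fin a) F}
    {k : GL (Fin n) F} (h : EGp e GW z z1 Θ Θ' C k) (u : Fin a → F) (s : F) :
    EGp e GW z z1 (TU GU u s * Θ * TU GU u (-s)) (TU GU u s * Θ' * TU GU u (-s))
      (TU GU u s * C * TU GU u (-s)) (XU e GU u s * k * (XU e GU u s)⁻¹) := by
  intro x w
  rw [LIB.XU_inv e hU, Units.val_mul, Units.val_mul, ← Matrix.mulVec_mulVec, ← Matrix.mulVec_mulVec,
    LIB.XU_tn e hU, h, Matrix.mulVec_add, Matrix.mulVec_add, Matrix.mulVec_smul, Matrix.mulVec_smul,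
    Matrix.mulVec_add, LIB.XU_tn e hU, LIB.XU_tn e hU, LIB.XU_tn e hU, LIB.XU_tn e hU,
    EGCONJ.tu_cancel hU]
  simp only [Matrix.mulVec_mulVec, Matrix.mul_assoc]

end Cfsg.Agent.S5704P
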