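import Mathlib
import Cfsg.Agent.Helper15.S5704SEEDDefs2
import Cfsg.Agent.Helper26.S5704ROOTS
import Cfsg.Agent.Helper15.S5704SEEDLIB

/-! # S5704, chapter SEED (driver helper15), piece DICTB: the dictionary
`EGp z z5 (-c (·,u)u) (c (·,u)u) 0 = ρ(u ⊗ z, c u ⊗ z5)`. -/

set_option autoImplicit false
set_option linter.unusedSectionVars false
set_option linter.unusedVariables false

namespace Cfsg.Agent.S5704P

open Matrix Cfsg.Agent.S5637P Cfsg.Agent.S5704S Cfsg.Agent.Helper28.Sg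

variable {F : Type*} [Field F] {n a b : ℕ} (e : Fin n ≃ Fin a × Fin b)
variable {Q : QuadraticForm F (Fin n → F)} {GU : Matrix (Fin a) (Fin a) F}
  {GW : Matrix (Fin b) (Fin b) F} {M : Subgroup (GL (Fin n) F)}

theorem DICTB.pol (hT : TData Q e 1 GU GW) (u u' : Fin a → F) (w w' : Fin b → F) :
    B Q (tn e u w) (tn e u' w') = bf GU u u' * bf GW w w' := by
  have := hT.pol u w u' w'
  rw [pt_one, pt_one] at this
  exact this

theorem DICTB.sing (hT : TData Q e 1 GU GW) (u : Fin a → F) (w : Fin b → F) : Q (tn e u w) = 0 := by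
  have := hT.sing u w
  rw [pt_one] at this
  exact this

/-- DICTB (M): dictionary: `EGp z z5 (-c (·,u)u) (c (·,u)u) 0 = ρ(u ⊗ z, c u ⊗ z5)` (`LIB.inM_of_tn`, `siegO_mulVec`, `hT.pol`, `hT.sing`). -/
theorem DICTB.main (hT : TData Q e 1 GU GW) {z z5 : Fin b → F} (hz5 : bf GW z5 z = 0) (u : Fin a → F)
    (c : F) {k : GL (Fin n) F} (hk : k ∈ M)
    (hEG : EGp e GW z z5 (-(c • RK GU u u)) (c • RK GU u u) 0 k) :
    InM Q (MO Q M) (tn e u z) (c • tn e u z5) := by
  have hU := hT.sympU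
  have hW := hT.sympW
  have hp : Q (tn e u z) = 0 := DICTB.sing e hT u z
  have hpv : B Q (tn e u z) (c • tn e u z5) = 0 := by
    apply B_smul_right_zero
    rw [DICTB.pol e hT, hU.alt, zero_mul]
  have hQv : Q (c • tn e u z5) = 0 := by
    rw [QuadraticMap.map_smul, DICTB.sing e hT, smul_zero]
  apply LIB.inM_of_tn e hk hp hpv
  intro y w
  rw [siegO_mulVec, hEG, hQv, zero_mul, zero_smul, sub_zero]
  have h1 : B Q (tn e u z) (tn e y w) = bf GU u y * bf GW z w := DICTB.pol e hT u y z w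
  have h2 : B Q (c • tn e u z5) (tn e y w) = c * (bf GU u y * bf GW z5 w) := by
    rw [← tn_smul_left, DICTB.pol e hT, bf_smul_left, mul_assoc]
  rw [h1, h2]
  have h3 : (-(c • RK GU u u)) *ᵥ y = (-(c * bf GU y u)) • u := by
    rw [Matrix.neg_mulVec, Matrix.smul_mulVec, RK_mulVec, smul_smul, neg_smul]
  have h4 : (c • RK GU u u) *ᵥ y = (c * bf GU y u) • u := by
    rw [Matrix.smul_mulVec, RK_mulVec, smul_smul]
  rw [h3, h4, Matrix.zero_mulVec, tn_zero_left, add_zero, tn_smul_left, tn_smul_left, smul_smul, smul_smul,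
    smul_smul, hU.skew u y, hW.skew z w, hW.skew z5 w]
  rw [sub_eq_add_neg, ← neg_smul, add_assoc, add_assoc]
  congr 1
  rw [add_comm]
  congr 1
  · congr 1
    ring
  · congr 1
    ring

end Cfsg.Agent.S5704P
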