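import Mathlib
import Cfsg.Prelude.Def_GeometricClasses
import Cfsg.Prelude.Def_ClassicalGeometry
import Cfsg.Agent.Helper28.Spin8
import Cfsg.Agent.Helper28.CDGen

set_option autoImplicit false
set_option linter.unusedSectionVars false

/-! S5977/S5978 (half BACK): generic bookkeeping in `O(Q)/Ω(Q)` (finite field of odd order).

* `exists_combo_norm`: an orthogonal pair of non-singular vectors spans a universal plane;
* `exists_corrector`: a subgroup `C` of `O(Q)` containing all reflections in the non-singular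
  vectors of such a plane covers `O(Q)/Ω(Q)`;
* `exists_corrector_so`: an isometry of determinant `1` can be moved into `Ω` by one fixed product
  of two reflections of non-square spinor norm;
* `mem_omegaGL_iff`. -/

namespace Cfsg.Agent.S5977B

open Cfsg.Agent.Helper28 Cfsg.Agent.Helper28.Spin Cfsg.Agent.Helper28.IsoTransport

variable {F : Type*} [Field F] [Fintype F] {ι : Type} [Fintype ι] [DecidableEq ι]
  (Q : QuadraticForm F (ι → F))

/-- an orthogonal pair of non-singular vectors spans a universal plane -/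
theorem exists_combo_norm (h2 : (2 : F) ≠ 0) {u w : ι → F} (hu : Q u ≠ 0) (hw : Q w ≠ 0)
    (huw : QuadraticMap.polar ⇑Q u w = 0) (c : F) : ∃ a b : F, Q (a • u + b • w) = c := by
  have hodd : Fintype.card F % 2 = 1 := Nat.odd_iff.1 (card_odd h2)
  have hf : (Polynomial.C (Q u) * Polynomial.X ^ 2).degree = 2 :=
    Polynomial.degree_C_mul_X_pow 2 hu
  have hg : (Polynomial.C (Q w) * Polynomial.X ^ 2 - Polynomial.C c).degree = 2 := by
    have hd := Polynomial.degree_C_mul_X_pow 2 hw
    rw [Polynomial.degree_sub_C (by rw [hd]; norm_num), hd]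
    rfl
  obtain ⟨a, b, hab⟩ := FiniteField.exists_root_sum_quadratic hf hg hodd
  simp only [Polynomial.eval_mul, Polynomial.eval_C, Polynomial.eval_pow, Polynomial.eval_X,
    Polynomial.eval_sub] at hab
  refine ⟨a, b, ?_⟩
  rw [QuadraticMap.map_add (⇑Q), QuadraticMap.map_smul, QuadraticMap.map_smul,
    QuadraticMap.polar_smul_left, QuadraticMap.polar_smul_right, huw]
  simp only [smul_eq_mul, mul_zero, add_zero]
  linear_combination hab

theorem normProd_cons (v : NS Q) (L : List (NS Q)) :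
    normProd Q (v :: L) = Q v.1 * normProd Q L := by
  simp [normProd]

/-- a subgroup of `O(Q)` containing the reflections in all non-singular vectors of the span of an
orthogonal non-singular pair covers `O(Q)/Ω(Q)` -/
theorem exists_corrector (h2 : (2 : F) ≠ 0) (hQ : (QuadraticMap.polarBilin Q).Nondegenerate)
    (C : Subgroup ↥(Cfsg.isometryGroup F ⇑Q)) {u w : ι → F} (hu : Q u ≠ 0) (hw : Q w ≠ 0)
    (huw : QuadraticMap.polar ⇑Q u w = 0)
    (hC : ∀ (a b : F) (h : Q (a • u + b • w) ≠ 0), reflO Q (a • u + b • w) h ∈ C)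
    (g : ↥(Cfsg.isometryGroup F ⇑Q)) : ∃ c ∈ C, c * g ∈ Cfsg.Omega F ⇑Q := by
  obtain ⟨L, rfl⟩ := CDG.cd_list Q h2 hQ g
  have hn := normProd_ne_zero Q L
  obtain ⟨a, b, hab⟩ := exists_combo_norm Q h2 hu hw huw (normProd Q L)
  have hv : Q (a • u + b • w) ≠ 0 := by rw [hab]; exact hn
  rcases Nat.even_or_odd L.length with hev | hodd
  · by_cases hsq : IsSquare (normProd Q L)
    · exact ⟨1, C.one_mem, by rw [one_mul]; exact (prodO_mem_Omega_iff Q h2 L).2 ⟨hev, hsq⟩⟩
    · obtain ⟨a', b', hab'⟩ := exists_combo_norm Q h2 hu hw huw 1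
      have hv' : Q (a' • u + b' • w) ≠ 0 := by rw [hab']; exact one_ne_zero
      refine ⟨reflO Q _ hv' * reflO Q _ hv, C.mul_mem (hC _ _ hv') (hC _ _ hv), ?_⟩
      have : reflO Q _ hv' * reflO Q _ hv * prodO Q L =
          prodO Q (⟨_, hv'⟩ :: ⟨_, hv⟩ :: L) := by
        rw [prodO_cons, prodO_cons, mul_assoc]
      rw [this, prodO_mem_Omega_iff Q h2]
      refine ⟨?_, ?_⟩
      · simp only [List.length_cons]
        obtain ⟨k, hk⟩ := hev
        exact ⟨k + 1, by omega⟩
      · rw [normProd_cons, normProd_cons]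
        show IsSquare (Q (a' • u + b' • w) * (Q (a • u + b • w) * normProd Q L))
        rw [hab', hab, one_mul]
        exact ⟨_, rfl⟩
  · refine ⟨reflO Q _ hv, hC _ _ hv, ?_⟩
    have : reflO Q _ hv * prodO Q L = prodO Q (⟨_, hv⟩ :: L) := by rw [prodO_cons]
    rw [this, prodO_mem_Omega_iff Q h2]
    refine ⟨?_, ?_⟩
    · simp only [List.length_cons]
      obtain ⟨k, hk⟩ := hodd
      exact ⟨k + 1, by omega⟩
    · rw [normProd_cons]
      show IsSquare (Q (a • u + b • w) * normProd Q L)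
      rw [hab]
      exact ⟨_, rfl⟩

/-- the determinant of an element of `Ω` is `1` -/
theorem det_eq_one_of_mem_Omega (g : ↥(Cfsg.isometryGroup F ⇑Q))
    (hg : g ∈ Cfsg.Omega F ⇑Q) : detHom Q g = 1 :=
  hom_eq_one_of_mem_Omega Q (detHom Q) hg

/-- an isometry of determinant `1` lies in `Ω` after multiplication by `1` or by a fixed product
of two reflections with non-square product of norms -/
theorem exists_corrector_so (h2 : (2 : F) ≠ 0) (hQ : (QuadraticMap.polarBilin Q).Nondegenerate)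
    {u w : ι → F} (hu : Q u ≠ 0) (hw : Q w ≠ 0) (hns : ¬ IsSquare (Q u * Q w))
    (g : ↥(Cfsg.isometryGroup F ⇑Q)) (hdet : detHom Q g = 1) :
    g ∈ Cfsg.Omega F ⇑Q ∨ reflO Q u hu * reflO Q w hw * g ∈ Cfsg.Omega F ⇑Q := by
  obtain ⟨L, rfl⟩ := CDG.cd_list Q h2 hQ g
  have hev : Even L.length := by
    rw [detHom_prodO] at hdet
    by_contra hodd
    rw [Nat.not_even_iff_odd] at hodd
    rw [hodd.neg_one_pow] at hdet
    exact neg_one_units_ne h2 hdet
  by_cases hsq : IsSquare (normProd Q L)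
  · exact Or.inl ((prodO_mem_Omega_iff Q h2 L).2 ⟨hev, hsq⟩)
  · right
    have : reflO Q u hu * reflO Q w hw * prodO Q L = prodO Q (⟨u, hu⟩ :: ⟨w, hw⟩ :: L) := by
      rw [prodO_cons, prodO_cons, mul_assoc]
    rw [this, prodO_mem_Omega_iff Q h2]
    refine ⟨?_, ?_⟩
    · simp only [List.length_cons]
      obtain ⟨k, hk⟩ := hev
      exact ⟨k + 1, by omega⟩
    · rw [normProd_cons, normProd_cons, ← mul_assoc]
      show IsSquare (Q u * Q w * normProd Q L)
      have h1 : Q u * Q w ≠ 0 := mul_ne_zero hu hw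
      have h3 := normProd_ne_zero Q L
      by_contra hcon
      -- the product of two non-squares is a square
      have := (isSquare_mul_iff h2 h1 h3).not.1 hcon
      tauto

/-- membership in `Ω` seen in `GL` -/
theorem mem_omegaGL_iff (g : GL ι F) :
    g ∈ Cfsg.Geo.omegaGL ⇑Q ↔ ∃ h : g ∈ Cfsg.isometryGroup F ⇑Q,
      (⟨g, h⟩ : ↥(Cfsg.isometryGroup F ⇑Q)) ∈ Cfsg.Omega F ⇑Q := by
  unfold Cfsg.Geo.omegaGL
  rw [Subgroup.mem_map]
  constructor
  · rintro ⟨g', hg', rfl⟩
    exact ⟨g'.2, hg'⟩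
  · rintro ⟨h, hg⟩
    exact ⟨⟨g, h⟩, hg, rfl⟩

end Cfsg.Agent.S5977B
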