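import Mathlib
import Cfsg.Prelude.Def_Classical
import Cfsg.Prelude.Def_GeometricClasses
import Cfsg.Agent.Helper5.S5973Defs
import Cfsg.Agent.Helper7.OrthUni3
import Cfsg.Agent.Helper28.Spin6
import Cfsg.Agent.Helper28.GraphInvMinus
import Cfsg.Agent.Helper24.S5977ELTMINTOP
import Cfsg.Agent.Helper13.S5973HYPISO
import Cfsg.Agent.Helper1.S5973STD

set_option autoImplicit false
open scoped MatrixGroups

/-! S5973 + S5987, piece DISC: the Witt type from an orthogonal basis (odd characteristic). -/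

namespace Cfsg.Agent.S5973P

open Module Cfsg.Agent.Helper28 Cfsg.Agent.Helper28.Spin

namespace DISC

open Cfsg.Agent.Helper7.OrthUni

variable {F V : Type*} [Field F] [AddCommGroup V] [Module F V]

/-- the form in the coordinates of a basis -/
noncomputable def coordQ {n : Type*} [Fintype n] (Q : QuadraticForm F V) (w : Module.Basis n F V) :
    QuadraticForm F (n → F) :=
  Q.comp (w.equivFun.symm : (n → F) ≃ₗ[F] V).toLinearMap

theorem coordQ_apply {n : Type*} [Fintype n] (Q : QuadraticForm F V) (w : Module.Basis n F V)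
    (c : n → F) : coordQ Q w c = Q (w.equivFun.symm c) := rfl

theorem equivFun_symm_single {n : Type*} [Fintype n] [DecidableEq n] (w : Module.Basis n F V)
    (i : n) : w.equivFun.symm (Pi.single i 1) = w i := by
  rw [LinearEquiv.symm_apply_eq]
  funext j
  rw [Module.Basis.equivFun_apply, Module.Basis.repr_self, Finsupp.single_apply, Pi.single_apply]
  simp only [eq_comm]

theorem gram_coordQ {n : Type*} [Fintype n] [DecidableEq n] (Q : QuadraticForm F V)
    (w : Module.Basis n F V)
    (horth : ∀ i j, i ≠ j → QuadraticMap.polar Q (w i) (w j) = 0) :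
    gram (coordQ Q w) = Matrix.diagonal (fun i => 2 * Q (w i)) := by
  ext i j
  rw [gram_apply]
  have h : QuadraticMap.polar ⇑(coordQ Q w) (Pi.single i 1) (Pi.single j 1) =
      QuadraticMap.polar ⇑Q (w i) (w j) := by
    unfold QuadraticMap.polar
    rw [coordQ_apply, coordQ_apply, coordQ_apply, map_add, equivFun_symm_single,
      equivFun_symm_single]
  rw [h]
  by_cases hij : i = j
  · subst hij
    rw [Matrix.diagonal_apply_eq, QuadraticMap.polar_self]
    simp
  · rw [Matrix.diagonal_apply_ne _ hij, horth i j hij]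

end DISC

open DISC Cfsg.Agent.Helper7.OrthUni in
/-- DISC: the Witt type from an orthogonal basis -/
theorem isHyp_iff_disc {F V : Type*} [Field F] [Fintype F] (h2 : (2 : F) ≠ 0) [AddCommGroup V]
    [Module F V] [FiniteDimensional F V] (Q : QuadraticForm F V) {n : Type*} [Fintype n]
    (k : ℕ) (hn : Fintype.card n = 2 * k) (w : Module.Basis n F V)
    (horth : ∀ i j, i ≠ j → QuadraticMap.polar Q (w i) (w j) = 0) (hns : ∀ i, Q (w i) ≠ 0) :
    IsHyp Q ↔ IsSquare ((-1 : F) ^ k * ∏ i, Q (w i)) := by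
  classical
  set Q' := coordQ Q w with hQ'
  have hiso : IsHyp Q' ↔ IsHyp Q :=
    isHyp_of_isometry Q' Q (w.equivFun.symm : (n → F) ≃ₗ[F] V) (fun v => rfl)
  rw [← hiso]
  have hgram := gram_coordQ Q w horth
  have hdet : (gram Q').det = (2 : F) ^ (2 * k) * ∏ i, Q (w i) := by
    rw [hgram, Matrix.det_diagonal, Finset.prod_mul_distrib, Finset.prod_const, Finset.card_univ,
      hn]
  have hP0 : ∏ i, Q (w i) ≠ 0 := Finset.prod_ne_zero_iff.2 (fun i _ => hns i)
  have hND' : (QuadraticMap.polarBilin Q').Nondegenerate := by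
    rw [nondeg_iff_det, hdet]
    exact mul_ne_zero (pow_ne_zero _ h2) hP0
  by_cases hsq : IsSquare ((-1 : F) ^ k * ∏ i, Q (w i))
  · -- isometric to the standard plus form
    obtain ⟨hNDp, hHp⟩ := std_plus (F := F) k
    obtain ⟨s, hs⟩ := hsq
    obtain ⟨g, hg⟩ := exists_isometry_of_disc h2 Q' (QfPlus k F) hND' hNDp
      (by rw [hn, Fintype.card_sum, Fintype.card_fin]; ring)
      (by
        rw [hdet, Cfsg.Agent.S5977P.ELTMINTOP.det_gram_QfPlus]
        refine ⟨2 ^ k * s, ?_⟩
        have e2 : (2 : F) ^ (2 * k) = 2 ^ k * 2 ^ k := by rw [two_mul, pow_add]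
        rw [e2]
        linear_combination (2 ^ k * 2 ^ k : F) * hs)
    have := (isHyp_of_isometry Q' (QfPlus k F) g hg).2 hHp
    exact ⟨fun _ => ⟨s, hs⟩, fun _ => this⟩
  · -- isometric to a standard minus form
    obtain ⟨k', rfl⟩ : ∃ k', k = k' + 1 := by
      rcases k with _ | k'
      · exfalso
        apply hsq
        haveI : IsEmpty n := Fintype.card_eq_zero_iff.1 (by rw [hn])
        refine ⟨1, ?_⟩
        simp
      · exact ⟨k', rfl⟩
    obtain ⟨ν, hν⟩ := FiniteField.exists_nonsquare (F := F) (by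
      intro h
      apply h2
      have := ringChar.Nat.cast_ringChar (R := F)
      rw [h] at this
      exact_mod_cast this)
    have hν0 : ν ≠ 0 := fun h => hν (h ▸ ⟨0, by simp⟩)
    have hab : ∀ x y : F, x ^ 2 + 0 * x * y + -ν * y ^ 2 = 0 → x = 0 ∧ y = 0 := by
      intro x y hxy
      have hy : y = 0 := by
        by_contra hy
        apply hν
        refine ⟨x / y, ?_⟩
        field_simp
        linear_combination -hxy
      subst hy
      refine ⟨?_, rfl⟩
      have : x ^ 2 = 0 := by linear_combination hxy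
      exact pow_eq_zero_iff (by norm_num) |>.1 this
    obtain ⟨hNDm, hHm⟩ := std_minus (F := F) k' 0 (-ν) hab
    have hm1 : ((-1 : F) ^ (k' + 1) * ∏ i, Q (w i)) ≠ 0 :=
      mul_ne_zero (pow_ne_zero _ (neg_ne_zero.2 one_ne_zero)) hP0
    have hsq2 : IsSquare (((-1 : F) ^ (k' + 1) * ∏ i, Q (w i)) * ν) := by
      rw [isSquare_mul_iff h2 hm1 hν0]
      tauto
    obtain ⟨s, hs⟩ := hsq2
    obtain ⟨g, hg⟩ := exists_isometry_of_disc h2 Q' (QfMinus k' F 0 (-ν)) hND' hNDm
      (by rw [hn, Fintype.card_sum, Fintype.card_sum, Fintype.card_fin, Fintype.card_fin]; ring)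
      (by
        have hdm : (gram (QfMinus k' F 0 (-ν))).det = (-1) ^ k' * (4 * (-ν) - 0 ^ 2) :=
          Cfsg.Agent.Helper28.GInv.gram_minus_det (F := F) (m := k') 0 (-ν)
        rw [hdet, hdm]
        refine ⟨2 ^ (k' + 1) * 2 * s, ?_⟩
        have e2 : (2 : F) ^ (2 * (k' + 1)) = 2 ^ (k' + 1) * 2 ^ (k' + 1) := by
          rw [two_mul, pow_add]
        rw [e2]
        have e3 : (-1 : F) ^ (k' + 1) = -((-1) ^ k') := by rw [pow_succ]; ring
        rw [e3] at hs
        linear_combination (2 ^ (k' + 1) * 2 ^ (k' + 1) * 4 : F) * hs)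
    have hnot : ¬ IsHyp Q' := fun h => hHm ((isHyp_of_isometry Q' _ g hg).1 h)
    exact ⟨fun h => absurd h hnot, fun h => absurd h hsq⟩

end Cfsg.Agent.S5973P
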