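import Mathlib
import Cfsg.Prelude.Def_GeometricClasses
import Cfsg.Prelude.Def_ClassicalGeometry
import Cfsg.Agent.Helper21.S5977OmegaAdj

set_option autoImplicit false
set_option linter.unusedSectionVars false
open scoped MatrixGroups

/-! S5977/S5978 BACK, piece PLANES: an isometry with `x * x = -1` has an orthogonal basis
`(e_k, x e_k)` of non-singular vectors. -/

namespace Cfsg.Agent.S5977B

open Cfsg.Agent.Helper28 Cfsg.Agent.Helper28.Spin

namespace PLANES

variable {F : Type*} [Field F] {ι : Type} [Fintype ι] [DecidableEq ι] (Q : QuadraticForm F (ι → F))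

/-- invariance -/
def Inv (x : Matrix ι ι F) (W : Submodule F (ι → F)) : Prop := ∀ w ∈ W, x.mulVec w ∈ W

/-- non-degeneracy of the restriction -/
def ND (W : Submodule F (ι → F)) : Prop := ∀ w ∈ W, (∀ w' ∈ W, QuadraticMap.polar ⇑Q w w' = 0) → w = 0

theorem polar_x_right {x : Matrix ι ι F} (hx : ∀ v, Q (x.mulVec v) = Q v) (hxx : x * x = -1)
    (u v : ι → F) : QuadraticMap.polar ⇑Q u (x.mulVec v) = -QuadraticMap.polar ⇑Q (x.mulVec u) v := by
  have h := polar_isom Q hx u (x.mulVec v)
  rw [Matrix.mulVec_mulVec, hxx, Matrix.neg_mulVec, Matrix.one_mulVec,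
    QuadraticMap.polar_neg_right] at h
  rw [← h]

theorem polar_self_x (h2 : (2 : F) ≠ 0) {x : Matrix ι ι F} (hx : ∀ v, Q (x.mulVec v) = Q v)
    (hxx : x * x = -1) (e : ι → F) : QuadraticMap.polar ⇑Q e (x.mulVec e) = 0 := by
  have h := polar_x_right Q hx hxx e e
  rw [QuadraticMap.polar_comm (⇑Q) (x.mulVec e) e] at h
  have : (2 : F) * QuadraticMap.polar ⇑Q e (x.mulVec e) = 0 := by linear_combination h
  exact (mul_eq_zero.1 this).resolve_left h2

theorem exists_nonsingular {W : Submodule F (ι → F)} (hnd : ND Q W) (hW : W ≠ ⊥) :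
    ∃ e ∈ W, Q e ≠ 0 := by
  by_contra hcon
  push Not at hcon
  apply hW
  rw [eq_bot_iff]
  intro w hw
  rw [Submodule.mem_bot]
  apply hnd w hw
  intro w' hw'
  rw [QuadraticMap.polar, hcon _ (W.add_mem hw hw'), hcon _ hw, hcon _ hw']
  ring

/-- the induction step: splitting off a plane -/
theorem split (h2 : (2 : F) ≠ 0) {x : Matrix ι ι F} (hx : ∀ v, Q (x.mulVec v) = Q v)
    (hxx : x * x = -1) {W : Submodule F (ι → F)} (hinv : Inv x W) (hnd : ND Q W)
    (e : ι → F) (he : e ∈ W) (hQe : Q e ≠ 0) :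
    ∃ W' : Submodule F (ι → F), W' ≤ W ∧ Inv x W' ∧ ND Q W' ∧
      Module.finrank F W' + 2 = Module.finrank F W ∧
      (∀ w' ∈ W', QuadraticMap.polar ⇑Q e w' = 0 ∧ QuadraticMap.polar ⇑Q (x.mulVec e) w' = 0) ∧
      (∀ w ∈ W, ∃ a c : F, w - a • e - c • x.mulVec e ∈ W') := by
  classical
  set f : ι → F := x.mulVec e with hf
  have hfW : f ∈ W := hinv e he
  have hQf : Q f = Q e := hx e
  have hef : QuadraticMap.polar ⇑Q e f = 0 := polar_self_x Q h2 hx hxx e
  have hfe : QuadraticMap.polar ⇑Q f e = 0 := by rw [QuadraticMap.polar_comm]; exact hef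
  have hee : QuadraticMap.polar ⇑Q e e = 2 * Q e := polar_self' Q e
  have hff : QuadraticMap.polar ⇑Q f f = 2 * Q e := by rw [polar_self' Q f, hQf]
  have h2Q : (2 : F) * Q e ≠ 0 := mul_ne_zero h2 hQe
  have hxf : x.mulVec f = -e := by
    rw [hf, Matrix.mulVec_mulVec, hxx, Matrix.neg_mulVec, Matrix.one_mulVec]
  let W' : Submodule F (ι → F) :=
    { carrier := {w | w ∈ W ∧ QuadraticMap.polar ⇑Q e w = 0 ∧ QuadraticMap.polar ⇑Q f w = 0}
      add_mem' := by
        rintro a b ⟨ha, ha1, ha2⟩ ⟨hb, hb1, hb2⟩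
        refine ⟨W.add_mem ha hb, ?_, ?_⟩
        · rw [QuadraticMap.polar_add_right, ha1, hb1, add_zero]
        · rw [QuadraticMap.polar_add_right, ha2, hb2, add_zero]
      zero_mem' := ⟨W.zero_mem, by simp, by simp⟩
      smul_mem' := by
        rintro c a ⟨ha, ha1, ha2⟩
        refine ⟨W.smul_mem c ha, ?_, ?_⟩
        · rw [QuadraticMap.polar_smul_right, ha1, smul_zero]
        · rw [QuadraticMap.polar_smul_right, ha2, smul_zero] }
  have hW'le : W' ≤ W := fun w hw => hw.1
  have hdec : ∀ w ∈ W, ∃ a c : F, w - a • e - c • f ∈ W' := by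
    intro w hw
    refine ⟨QuadraticMap.polar ⇑Q e w / (2 * Q e), QuadraticMap.polar ⇑Q f w / (2 * Q e), ?_, ?_, ?_⟩
    · exact W.sub_mem (W.sub_mem hw (W.smul_mem _ he)) (W.smul_mem _ hfW)
    · rw [QuadraticMap.polar_sub_right, QuadraticMap.polar_sub_right,
        QuadraticMap.polar_smul_right, QuadraticMap.polar_smul_right, hee, hef]
      simp only [smul_eq_mul, mul_zero, sub_zero]
      field_simp
      ring
    · rw [QuadraticMap.polar_sub_right, QuadraticMap.polar_sub_right,
        QuadraticMap.polar_smul_right, QuadraticMap.polar_smul_right, hfe, hff]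
      simp only [smul_eq_mul, mul_zero, sub_zero]
      field_simp
      ring
  -- the plane
  let g : (F × F) →ₗ[F] (ι → F) :=
    (LinearMap.toSpanSingleton F (ι → F) e).coprod (LinearMap.toSpanSingleton F (ι → F) f)
  have hg : ∀ a c : F, g (a, c) = a • e + c • f := by
    intro a c
    simp [g, LinearMap.coprod_apply, LinearMap.toSpanSingleton_apply]
  have hpe : ∀ a c : F, QuadraticMap.polar ⇑Q e (g (a, c)) = a * (2 * Q e) := by
    intro a c
    rw [hg, QuadraticMap.polar_add_right, QuadraticMap.polar_smul_right,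
      QuadraticMap.polar_smul_right, hee, hef]
    simp
  have hpf : ∀ a c : F, QuadraticMap.polar ⇑Q f (g (a, c)) = c * (2 * Q e) := by
    intro a c
    rw [hg, QuadraticMap.polar_add_right, QuadraticMap.polar_smul_right,
      QuadraticMap.polar_smul_right, hfe, hff]
    simp
  have hzero : ∀ a c : F, g (a, c) ∈ W' → a = 0 ∧ c = 0 := by
    intro a c hmem
    constructor
    · have := hmem.2.1
      rw [hpe] at this
      exact (mul_eq_zero.1 this).resolve_right h2Q
    · have := hmem.2.2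
      rw [hpf] at this
      exact (mul_eq_zero.1 this).resolve_right h2Q
  have hginj : Function.Injective g := by
    rw [← LinearMap.ker_eq_bot, LinearMap.ker_eq_bot']
    rintro ⟨a, c⟩ h0
    have hmem : g (a, c) ∈ W' := by rw [h0]; exact W'.zero_mem
    obtain ⟨h1, h2'⟩ := hzero a c hmem
    rw [h1, h2']; rfl
  have hrange_le : LinearMap.range g ≤ W := by
    rintro _ ⟨⟨a, c⟩, rfl⟩
    rw [hg]
    exact W.add_mem (W.smul_mem _ he) (W.smul_mem _ hfW)
  have hsup : LinearMap.range g ⊔ W' = W := by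
    apply le_antisymm (sup_le hrange_le hW'le)
    intro w hw
    obtain ⟨a, c, hac⟩ := hdec w hw
    have : w = g (a, c) + (w - a • e - c • f) := by rw [hg]; abel
    rw [this]
    exact Submodule.add_mem_sup (LinearMap.mem_range_self g (a, c)) hac
  have hinf : LinearMap.range g ⊓ W' = ⊥ := by
    rw [eq_bot_iff]
    rintro _ ⟨⟨⟨a, c⟩, rfl⟩, hmem⟩
    obtain ⟨h1, h2'⟩ := hzero a c hmem
    rw [h1, h2']
    show g 0 ∈ ⊥
    rw [map_zero]; exact Submodule.zero_mem _
  have hrk : Module.finrank F (LinearMap.range g) = 2 := by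
    rw [LinearMap.finrank_range_of_inj hginj, Module.finrank_prod, Module.finrank_self]
  refine ⟨W', hW'le, ?_, ?_, ?_, fun w' hw' => hw'.2, hdec⟩
  · intro w hw
    refine ⟨hinv w hw.1, ?_, ?_⟩
    · rw [polar_x_right Q hx hxx, ← hf, hw.2.2, neg_zero]
    · rw [polar_x_right Q hx hxx, hxf, QuadraticMap.polar_neg_left, hw.2.1, neg_zero, neg_zero]
  · intro w' hw' hperp
    apply hnd w' hw'.1
    intro w hw
    obtain ⟨a, c, hac⟩ := hdec w hw
    have : w = a • e + c • f + (w - a • e - c • f) := by abel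
    rw [this, QuadraticMap.polar_add_right, QuadraticMap.polar_add_right, hperp _ hac,
      QuadraticMap.polar_smul_right, QuadraticMap.polar_smul_right,
      QuadraticMap.polar_comm (⇑Q) w' e, QuadraticMap.polar_comm (⇑Q) w' f, hw'.2.1, hw'.2.2]
    simp
  · have := Submodule.finrank_sup_add_finrank_inf_eq (LinearMap.range g) W'
    rw [hsup, hinf, finrank_bot, hrk] at this
    omega

/-- the inductive statement -/
theorem aux (h2 : (2 : F) ≠ 0) {x : Matrix ι ι F} (hx : ∀ v, Q (x.mulVec v) = Q v)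
    (hxx : x * x = -1) (W : Submodule F (ι → F)) (hinv : Inv x W) (hnd : ND Q W) :
    ∃ (m : ℕ) (e : Fin m → (ι → F)), (∀ k, e k ∈ W) ∧ (∀ k, Q (e k) ≠ 0) ∧
      (∀ k l, k ≠ l → QuadraticMap.polar ⇑Q (e k) (e l) = 0 ∧ QuadraticMap.polar ⇑Q (e k) (x.mulVec (e l)) = 0) ∧
      Module.finrank F W = 2 * m ∧
      ∀ w ∈ W, ∃ a c : Fin m → F, w = ∑ k, (a k • e k + c k • x.mulVec (e k)) := by
  classical
  induction hN : Module.finrank F W using Nat.strong_induction_on generalizing W with
  | _ N ih =>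
  by_cases hbot : W = ⊥
  · subst hbot
    refine ⟨0, fun k => Fin.elim0 k, fun k => Fin.elim0 k, fun k => Fin.elim0 k,
      fun k => Fin.elim0 k, ?_, ?_⟩
    · rw [← hN, finrank_bot]
    · intro w hw
      refine ⟨fun k => Fin.elim0 k, fun k => Fin.elim0 k, ?_⟩
      rw [(Submodule.mem_bot F).1 hw]
      simp
  · obtain ⟨e₀, he₀, hQe₀⟩ := exists_nonsingular Q hnd hbot
    obtain ⟨W', hW'le, hW'inv, hW'nd, hW'rk, hW'perp, hW'dec⟩ :=
      split Q h2 hx hxx hinv hnd e₀ he₀ hQe₀
    obtain ⟨m', e', hmem, hns, horth, hrk', hspan⟩ :=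
      ih (Module.finrank F W') (by omega) W' hW'inv hW'nd rfl
    have hsymm0 : ∀ u v : ι → F, QuadraticMap.polar ⇑Q u v = 0 → QuadraticMap.polar ⇑Q v u = 0 := by
      intro u v h
      rw [QuadraticMap.polar_comm]; exact h
    refine ⟨m' + 1, Fin.cons e₀ e', ?_, ?_, ?_, ?_, ?_⟩
    · intro k
      refine Fin.cases ?_ (fun k => ?_) k
      · rw [Fin.cons_zero]; exact he₀
      · rw [Fin.cons_succ]; exact hW'le (hmem k)
    · intro k
      refine Fin.cases ?_ (fun k => ?_) k
      · rw [Fin.cons_zero]; exact hQe₀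
      · rw [Fin.cons_succ]; exact hns k
    · intro k l
      refine Fin.cases ?_ (fun k => ?_) k <;> refine Fin.cases ?_ (fun l => ?_) l
      · intro h; exact absurd rfl h
      · intro _
        rw [Fin.cons_zero, Fin.cons_succ]
        exact ⟨(hW'perp _ (hmem l)).1, (hW'perp _ (hW'inv _ (hmem l))).1⟩
      · intro _
        rw [Fin.cons_zero, Fin.cons_succ]
        exact ⟨hsymm0 _ _ (hW'perp _ (hmem k)).1, hsymm0 _ _ (hW'perp _ (hmem k)).2⟩
      · intro h
        rw [Fin.cons_succ, Fin.cons_succ]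
        exact horth k l (fun h' => h (by rw [h']))
    · rw [← hN, ← hW'rk, hrk']; ring
    · intro w hw
      obtain ⟨a₀, c₀, hac⟩ := hW'dec w hw
      obtain ⟨a', c', hac'⟩ := hspan _ hac
      refine ⟨Fin.cons a₀ a', Fin.cons c₀ c', ?_⟩
      rw [Fin.sum_univ_succ]
      simp only [Fin.cons_zero, Fin.cons_succ]
      rw [← hac']
      abel

end PLANES

open PLANES in
/-- PLANES: an isometry with `x * x = -1` has an orthogonal basis `(e_k, x e_k)` of non-singular
vectors -/
theorem exists_planes {F : Type*} [Field F] (h2 : (2 : F) ≠ 0) {ι : Type} [Fintype ι]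
    [DecidableEq ι] (Q : QuadraticForm F (ι → F)) (hQ : (QuadraticMap.polarBilin Q).Nondegenerate)
    (d : ℕ) (hd : Fintype.card ι = 2 * d)
    (x : Matrix ι ι F) (hx : ∀ v, Q (x.mulVec v) = Q v) (hxx : x * x = -1) :
    ∃ b : Module.Basis (Fin d × Fin 2) F (ι → F), (∀ k, b (k, 1) = x.mulVec (b (k, 0))) ∧
      (∀ i j, i ≠ j → QuadraticMap.polar ⇑Q (b i) (b j) = 0) ∧ ∀ i, Q (b i) ≠ 0 := by
  classical
  have hndtop : ND Q ⊤ := by
    intro w _ hw
    apply hQ.1 w
    intro y
    rw [QuadraticMap.polarBilin_apply_apply]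
    exact hw y Submodule.mem_top
  obtain ⟨m, e, -, hns, horth, hrk, hspan⟩ :=
    aux Q h2 hx hxx ⊤ (fun w _ => Submodule.mem_top) hndtop
  have hm : m = d := by
    rw [finrank_top, Module.finrank_fintype_fun_eq_card, hd] at hrk
    omega
  subst hm
  set v : Fin m × Fin 2 → (ι → F) := fun i => if i.2 = 0 then e i.1 else x.mulVec (e i.1) with hv
  have hv0 : ∀ k, v (k, 0) = e k := fun k => by simp [hv]
  have hv1 : ∀ k, v (k, 1) = x.mulVec (e k) := fun k => by simp [hv]
  have hspan' : ⊤ ≤ Submodule.span F (Set.range v) := by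
    intro w _
    obtain ⟨a, c, hac⟩ := hspan w Submodule.mem_top
    rw [hac]
    apply Submodule.sum_mem
    intro k _
    apply Submodule.add_mem
    · apply Submodule.smul_mem
      apply Submodule.subset_span
      exact ⟨(k, 0), hv0 k⟩
    · apply Submodule.smul_mem
      apply Submodule.subset_span
      exact ⟨(k, 1), hv1 k⟩
  have hcard : Fintype.card (Fin m × Fin 2) = Module.finrank F (ι → F) := by
    rw [Module.finrank_fintype_fun_eq_card, hd]
    simp [mul_comm]
  set b := basisOfTopLeSpanOfCardEqFinrank v hspan' hcard with hb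
  have hbv : ∀ i, b i = v i := fun i => by rw [hb, coe_basisOfTopLeSpanOfCardEqFinrank]
  refine ⟨b, ?_, ?_, ?_⟩
  · intro k
    rw [hbv, hbv, hv0, hv1]
  · rintro ⟨k, i⟩ ⟨l, j⟩ hij
    rw [hbv, hbv]
    by_cases hkl : k = l
    · subst hkl
      have hij' : i ≠ j := fun h => hij (by rw [h])
      fin_cases i <;> fin_cases j
      · exact absurd rfl hij'
      · show QuadraticMap.polar ⇑Q (v (k, 0)) (v (k, 1)) = 0
        rw [hv0, hv1]
        exact polar_self_x Q h2 hx hxx (e k)
      · show QuadraticMap.polar ⇑Q (v (k, 1)) (v (k, 0)) = 0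
        rw [hv0, hv1, QuadraticMap.polar_comm]
        exact polar_self_x Q h2 hx hxx (e k)
      · exact absurd rfl hij'
    · fin_cases i <;> fin_cases j
      · show QuadraticMap.polar ⇑Q (v (k, 0)) (v (l, 0)) = 0
        rw [hv0, hv0]; exact (horth k l hkl).1
      · show QuadraticMap.polar ⇑Q (v (k, 0)) (v (l, 1)) = 0
        rw [hv0, hv1]; exact (horth k l hkl).2
      · show QuadraticMap.polar ⇑Q (v (k, 1)) (v (l, 0)) = 0
        rw [hv0, hv1, QuadraticMap.polar_comm]; exact (horth l k (Ne.symm hkl)).2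
      · show QuadraticMap.polar ⇑Q (v (k, 1)) (v (l, 1)) = 0
        rw [hv1, hv1, polar_isom Q hx]; exact (horth k l hkl).1
  · rintro ⟨k, i⟩
    rw [hbv]
    fin_cases i
    · show Q (v (k, 0)) ≠ 0
      rw [hv0]; exact hns k
    · show Q (v (k, 1)) ≠ 0
      rw [hv1, hx]; exact hns k

end Cfsg.Agent.S5977B
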