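import Mathlib
import Cfsg.Prelude.Def_Classical
import Cfsg.Prelude.Def_GeometricClasses
import Cfsg.Agent.Helper5.S5973Defs
import Cfsg.Agent.Helper21.S5977OmegaAdj
import Cfsg.Agent.Helper21.S5977BPLANES

set_option autoImplicit false
open scoped MatrixGroups

/-! S5973 + S5987, piece R2SPIN2: an isometry with `x * x = -1` lies in `Ω` iff `2 ^ d` is a
square. -/

namespace Cfsg.Agent.S5973P

open Module Cfsg.Agent.Helper28 Cfsg.Agent.Helper28.Spin

namespace R2SPIN2

variable {F : Type*} [Field F] {ι : Type} [Fintype ι] [DecidableEq ι]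
  (Q : QuadraticForm F (ι → F))

theorem refl_fix (e v : ι → F) (h : QuadraticMap.polar ⇑Q e v = 0) :
    (Cfsg.reflectionMatrix ⇑Q e).mulVec v = v := by
  rw [refl_mulVec, h, mul_zero, zero_smul, sub_zero]

/-- the rotation `refl (e + f) * refl e` -/
def rot (e f : ι → F) : Matrix ι ι F :=
  Cfsg.reflectionMatrix ⇑Q (e + f) * Cfsg.reflectionMatrix ⇑Q e

theorem rot_fix (e f v : ι → F) (h : QuadraticMap.polar ⇑Q e v = 0)
    (h' : QuadraticMap.polar ⇑Q f v = 0) : (rot Q e f).mulVec v = v := by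
  unfold rot
  rw [← Matrix.mulVec_mulVec, refl_fix Q e v h, refl_fix Q (e + f) v]
  rw [QuadraticMap.polar_add_left, h, h', add_zero]

theorem rot_e (h2 : (2 : F) ≠ 0) (e f : ι → F) (he : Q e ≠ 0) (hf : Q f = Q e)
    (hef : QuadraticMap.polar ⇑Q e f = 0) : (rot Q e f).mulVec e = f := by
  unfold rot
  have hee : QuadraticMap.polar ⇑Q e e = 2 * Q e := polar_self' Q e
  have hQ2 : Q (e + f) = 2 * Q e := by
    rw [QuadraticMap.map_add Q, hf, hef]; ring
  rw [← Matrix.mulVec_mulVec, refl_mulVec Q e e, hee, refl_mulVec, hQ2]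
  have h1 : (Q e)⁻¹ * (2 * Q e) = 2 := by field_simp
  rw [h1]
  have h3 : QuadraticMap.polar ⇑Q (e + f) (e - (2 : F) • e) = -(2 * Q e) := by
    rw [QuadraticMap.polar_sub_right, QuadraticMap.polar_smul_right,
      QuadraticMap.polar_add_left, hee, QuadraticMap.polar_comm Q f e, hef]
    simp only [smul_eq_mul]
    ring
  rw [h3]
  have h4 : (2 * Q e)⁻¹ * -(2 * Q e) = -1 := by
    have : (2 : F) * Q e ≠ 0 := mul_ne_zero h2 he
    field_simp
  rw [h4]
  module

theorem rot_f (h2 : (2 : F) ≠ 0) (e f : ι → F) (he : Q e ≠ 0) (hf : Q f = Q e)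
    (hef : QuadraticMap.polar ⇑Q e f = 0) : (rot Q e f).mulVec f = -e := by
  unfold rot
  have hff : QuadraticMap.polar ⇑Q f f = 2 * Q e := by rw [polar_self' Q f, hf]
  have hQ2 : Q (e + f) = 2 * Q e := by
    rw [QuadraticMap.map_add Q, hf, hef]; ring
  rw [← Matrix.mulVec_mulVec, refl_fix Q e f hef, refl_mulVec, hQ2,
    QuadraticMap.polar_add_left, hef, hff, zero_add]
  have h4 : (2 * Q e)⁻¹ * (2 * Q e) = 1 := by
    have : (2 : F) * Q e ≠ 0 := mul_ne_zero h2 he
    field_simp
  rw [h4]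
  module

section prod

variable {d : ℕ} (b : Module.Basis (Fin d × Fin 2) F (ι → F)) (x : Matrix ι ι F)

/-- product of the rotations over a list of indices -/
noncomputable def M (L : List (Fin d)) : Matrix ι ι F :=
  (L.map (fun k => rot Q (b (k, 0)) (b (k, 1)))).prod

/-- the list of reflection vectors -/
noncomputable def vs (L : List (Fin d)) : List (ι → F) :=
  L.flatMap (fun k => [b (k, 0) + b (k, 1), b (k, 0)])

theorem vs_prod (L : List (Fin d)) :
    ((vs b L).map (fun v => Cfsg.reflectionMatrix ⇑Q v)).prod = M Q b L := by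
  induction L with
  | nil => simp [vs, M]
  | cons k L ih =>
    unfold vs M at ih ⊢
    rw [List.flatMap_cons, List.map_append, List.prod_append, ih, List.map_cons, List.prod_cons]
    simp only [List.map_cons, List.map_nil, List.prod_cons, List.prod_nil, mul_one]
    rfl

theorem vs_norm (L : List (Fin d)) :
    ((vs b L).map (fun v => Q v)).prod =
      (L.map (fun k => Q (b (k, 0) + b (k, 1)) * Q (b (k, 0)))).prod := by
  induction L with
  | nil => simp [vs]
  | cons k L ih =>
    unfold vs at ih ⊢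
    rw [List.flatMap_cons, List.map_append, List.prod_append, ih, List.map_cons, List.prod_cons]
    simp only [List.map_cons, List.map_nil, List.prod_cons, List.prod_nil, mul_one]

theorem vs_length (L : List (Fin d)) : (vs b L).length = 2 * L.length := by
  induction L with
  | nil => simp [vs]
  | cons k L ih =>
    unfold vs at ih ⊢
    rw [List.flatMap_cons, List.length_append, ih, List.length_cons]
    simp only [List.length_cons, List.length_nil]
    ring

theorem vs_mem (L : List (Fin d)) (v : ι → F) (hv : v ∈ vs b L) :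
    ∃ k, v = b (k, 0) + b (k, 1) ∨ v = b (k, 0) := by
  unfold vs at hv
  rw [List.mem_flatMap] at hv
  obtain ⟨k, -, hk⟩ := hv
  refine ⟨k, ?_⟩
  simpa using hk

variable {b x}

theorem M_mulVec (h2 : (2 : F) ≠ 0) (hb1 : ∀ k, b (k, 1) = x.mulVec (b (k, 0)))
    (hxx : x * x = -1)
    (horth : ∀ i j, i ≠ j → QuadraticMap.polar ⇑Q (b i) (b j) = 0) (hns : ∀ i, Q (b i) ≠ 0)
    (hQf : ∀ k, Q (b (k, 1)) = Q (b (k, 0)))
    (L : List (Fin d)) (hL : L.Nodup) (l : Fin d) (j : Fin 2) :
    (M Q b L).mulVec (b (l, j)) = if l ∈ L then x.mulVec (b (l, j)) else b (l, j) := by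
  have hx1 : ∀ k, x.mulVec (b (k, 1)) = -b (k, 0) := by
    intro k
    rw [hb1, Matrix.mulVec_mulVec, hxx, Matrix.neg_mulVec, Matrix.one_mulVec]
  induction L with
  | nil => simp [M]
  | cons k L ih =>
    have hnd := List.nodup_cons.1 hL
    have ih' := ih hnd.2
    have hM : M Q b (k :: L) = rot Q (b (k, 0)) (b (k, 1)) * M Q b L := by
      unfold M
      rw [List.map_cons, List.prod_cons]
    rw [hM, ← Matrix.mulVec_mulVec, ih']
    by_cases hlk : l = k
    · subst hlk
      rw [if_neg hnd.1, if_pos List.mem_cons_self]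
      have hef : QuadraticMap.polar ⇑Q (b (l, 0)) (b (l, 1)) = 0 :=
        horth _ _ (by simp)
      fin_cases j
      · show (rot Q (b (l, 0)) (b (l, 1))).mulVec (b (l, 0)) = x.mulVec (b (l, 0))
        rw [rot_e Q h2 _ _ (hns _) (hQf l) hef, hb1]
      · show (rot Q (b (l, 0)) (b (l, 1))).mulVec (b (l, 1)) = x.mulVec (b (l, 1))
        rw [rot_f Q h2 _ _ (hns _) (hQf l) hef, hx1]
    · have hfix : ∀ j', (rot Q (b (k, 0)) (b (k, 1))).mulVec (b (l, j')) = b (l, j') := by
        intro j'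
        apply rot_fix
        · exact horth _ _ (by simp [Prod.ext_iff]; intro h; exact absurd h.symm hlk)
        · exact horth _ _ (by simp [Prod.ext_iff]; intro h; exact absurd h.symm hlk)
      have hmem : l ∈ k :: L ↔ l ∈ L := by
        rw [List.mem_cons]
        constructor
        · rintro (h | h)
          · exact absurd h hlk
          · exact h
        · exact Or.inr
      by_cases hlL : l ∈ L
      · rw [if_pos hlL, if_pos (hmem.2 hlL)]
        fin_cases j
        · show (rot Q (b (k, 0)) (b (k, 1))).mulVec (x.mulVec (b (l, 0))) = x.mulVec (b (l, 0))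
          rw [← hb1, hfix]
        · show (rot Q (b (k, 0)) (b (k, 1))).mulVec (x.mulVec (b (l, 1))) = x.mulVec (b (l, 1))
          rw [hx1, Matrix.mulVec_neg, hfix]
      · rw [if_neg hlL, if_neg (fun h => hlL (hmem.1 h)), hfix]

end prod

end R2SPIN2

variable {F : Type*} [Field F] [Fintype F] {ι : Type} [Fintype ι] [DecidableEq ι]

open R2SPIN2 in
/-- R2SPIN2: an isometry with `x * x = -1` lies in `Ω` iff `2 ^ d` is a square -/
theorem omega_of_sq_neg_one (h2 : (2 : F) ≠ 0) (Q : QuadraticForm F (ι → F)) (hQ : ND Q) (d : ℕ)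
    (hcard : Fintype.card ι = 2 * d) (x : GL ι F) (hx : x ∈ Cfsg.isometryGroup F ⇑Q)
    (hxx : (x : Matrix ι ι F) * (x : Matrix ι ι F) = -1) :
    x ∈ Cfsg.Geo.omegaGL ⇑Q ↔ IsSquare ((2 : F) ^ d) := by
  classical
  have hx' : ∀ v, Q ((x : Matrix ι ι F).mulVec v) = Q v :=
    (Cfsg.Agent.Helper28.IsoTransport.mem_isometryGroup_iff _ _).1 hx
  obtain ⟨b, hb1, horth, hns⟩ :=
    Cfsg.Agent.S5977B.exists_planes h2 Q hQ d hcard (x : Matrix ι ι F) hx' hxx
  have hQf : ∀ k, Q (b (k, 1)) = Q (b (k, 0)) := fun k => by rw [hb1, hx']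
  -- `x` is the product of the rotations
  have hxM : (x : Matrix ι ι F) = M Q b (List.finRange d) := by
    apply Matrix.toLin'.injective
    apply b.ext
    rintro ⟨l, j⟩
    rw [Matrix.toLin'_apply, Matrix.toLin'_apply,
      M_mulVec Q h2 hb1 hxx horth hns hQf _ (List.nodup_finRange d) l j,
      if_pos (List.mem_finRange l)]
  have hvs : ∀ v ∈ vs b (List.finRange d), Q v ≠ 0 := by
    intro v hv
    obtain ⟨k, rfl | rfl⟩ := vs_mem b _ v hv
    · have hef : QuadraticMap.polar ⇑Q (b (k, 0)) (b (k, 1)) = 0 := horth _ _ (by simp)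
      rw [QuadraticMap.map_add Q, hQf, hef, add_zero, ← two_mul]
      exact mul_ne_zero h2 (hns _)
    · exact hns _
  have hcrit := spinor_criterion Q h2 ⟨x, hx⟩ (vs b (List.finRange d)) hvs
    (by rw [vs_prod]; exact hxM)
  have hnorm : ((vs b (List.finRange d)).map (fun v => Q v)).prod =
      (2 : F) ^ d * (∏ k, Q (b (k, 0))) ^ 2 := by
    rw [vs_norm, ← Fin.prod_univ_def]
    have : ∀ k : Fin d, Q (b (k, 0) + b (k, 1)) * Q (b (k, 0)) = 2 * (Q (b (k, 0)) ^ 2) := by
      intro k
      have hef : QuadraticMap.polar ⇑Q (b (k, 0)) (b (k, 1)) = 0 := horth _ _ (by simp)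
      rw [QuadraticMap.map_add Q, hQf, hef]; ring
    rw [Finset.prod_congr rfl (fun k _ => this k), Finset.prod_mul_distrib, Finset.prod_const,
      Finset.card_univ, Fintype.card_fin, Finset.prod_pow]
  have hs0 : (∏ k, Q (b (k, 0))) ^ 2 ≠ 0 :=
    pow_ne_zero _ (Finset.prod_ne_zero_iff.2 (fun k _ => hns _))
  have h2d : (2 : F) ^ d ≠ 0 := pow_ne_zero _ h2
  have hsq : IsSquare ((2 : F) ^ d * (∏ k, Q (b (k, 0))) ^ 2) ↔ IsSquare ((2 : F) ^ d) := by
    rw [isSquare_mul_iff h2 h2d hs0]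
    have : IsSquare ((∏ k, Q (b (k, 0))) ^ 2) := ⟨_, sq _⟩
    tauto
  rw [Cfsg.Agent.S5977B.mem_omegaGL_iff]
  constructor
  · rintro ⟨h, hg⟩
    have := hcrit.1 hg
    rw [hnorm, hsq] at this
    exact this.2
  · intro h
    refine ⟨hx, hcrit.2 ⟨?_, ?_⟩⟩
    · rw [vs_length]; exact even_two_mul _
    · rw [hnorm, hsq]; exact h

end Cfsg.Agent.S5973P
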