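import Mathlib
import Cfsg.Prelude.Def_Classical
import Cfsg.Prelude.Def_GeometricClasses
import Cfsg.Agent.Helper5.S5973Defs
import Cfsg.Agent.Helper21.S5977OmegaAdj
import Cfsg.Agent.Helper21.S5977BPLANES
import Cfsg.Agent.Helper21.S5973DISC

set_option autoImplicit false
open scoped MatrixGroups

/-! S5973 + S5987, piece R2TYPE: the type of a space with an isometry `x * x = -1`, `-1` a
non-square. -/

namespace Cfsg.Agent.S5973P

open Module Cfsg.Agent.Helper28 Cfsg.Agent.Helper28.Spin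

variable {F : Type*} [Field F] [Fintype F] {ι : Type} [Fintype ι] [DecidableEq ι]

/-- R2TYPE: the type of a space with an isometry `x * x = -1`, `-1` a non-square -/
theorem type_of_sq_neg_one (h2 : (2 : F) ≠ 0) (hneg : ¬ IsSquare (-1 : F))
    (Q : QuadraticForm F (ι → F)) (hQ : ND Q) (d : ℕ) (hcard : Fintype.card ι = 2 * d)
    (x : Matrix ι ι F) (hx : ∀ v, Q (x.mulVec v) = Q v) (hxx : x * x = -1) :
    IsHyp Q ↔ Even d := by
  classical
  obtain ⟨b, hb1, horth, hns⟩ := Cfsg.Agent.S5977B.exists_planes h2 Q hQ d hcard x hx hxx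
  have hQf : ∀ k, Q (b (k, 1)) = Q (b (k, 0)) := fun k => by rw [hb1, hx]
  rw [isHyp_iff_disc h2 Q d (by rw [Fintype.card_prod, Fintype.card_fin, Fintype.card_fin,
    mul_comm]) b horth hns]
  have hprod : ∏ i, Q (b i) = (∏ k, Q (b (k, 0))) ^ 2 := by
    rw [Fintype.prod_prod_type, ← Finset.prod_pow]
    apply Finset.prod_congr rfl
    intro k _
    rw [Fin.prod_univ_two, hQf, sq]
  have hs0 : (∏ k, Q (b (k, 0))) ^ 2 ≠ 0 :=
    pow_ne_zero _ (Finset.prod_ne_zero_iff.2 (fun k _ => hns _))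
  have hm0 : (-1 : F) ^ d ≠ 0 := pow_ne_zero _ (neg_ne_zero.2 one_ne_zero)
  rw [hprod, isSquare_mul_iff h2 hm0 hs0]
  have hsq : IsSquare ((∏ k, Q (b (k, 0))) ^ 2) := ⟨_, sq _⟩
  constructor
  · intro h
    have h1 : IsSquare ((-1 : F) ^ d) := h.2 hsq
    by_contra hodd
    rw [Nat.not_even_iff_odd] at hodd
    rw [hodd.neg_one_pow] at h1
    exact hneg h1
  · intro hev
    rw [hev.neg_one_pow]
    exact ⟨fun _ => hsq, fun _ => ⟨1, by ring⟩⟩

end Cfsg.Agent.S5973P
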