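import Mathlib
import Cfsg.Prelude.Def_GeometricClasses
import Cfsg.Prelude.Def_ClassicalGeometry
import Cfsg.Agent.Helper21.S5977OmegaAdj

set_option autoImplicit false
open scoped MatrixGroups

/-! S5977/S5978 BACK, small pieces: ZPM, CONJNORM, REFLCENT, DETDIAG, COMM, ANTI. -/

namespace Cfsg.Agent.S5977B

open Cfsg.Agent.Helper28 Cfsg.Agent.Helper28.Spin

/-- ZPM: an isometry with `x ^ 2` scalar has `x * x = 1` or `x * x = -1` -/
theorem sq_eq_one_or_neg_one {F : Type*} [Field F] {ι : Type} [Fintype ι] [DecidableEq ι]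
    (Q : QuadraticForm F (ι → F)) (hQ : (QuadraticMap.polarBilin Q).Nondegenerate) [Nonempty ι]
    (x : Matrix ι ι F) (hx : ∀ v, Q (x.mulVec v) = Q v) (z : F)
    (hz : x * x = z • (1 : Matrix ι ι F)) : x * x = 1 ∨ x * x = -1 := by
  classical
  -- a non-singular vector
  have hex : ∃ v : ι → F, Q v ≠ 0 := by
    by_contra hcon
    push Not at hcon
    obtain ⟨i⟩ := ‹Nonempty ι›
    have hv : (Pi.single i (1 : F) : ι → F) ≠ 0 := by
      intro h
      have := congrFun h i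
      simp at this
    apply hv
    apply hQ.1
    intro y
    rw [QuadraticMap.polarBilin_apply_apply, QuadraticMap.polar, hcon, hcon, hcon]
    ring
  obtain ⟨v, hv⟩ := hex
  have h1 : Q (x.mulVec (x.mulVec v)) = Q v := by rw [hx, hx]
  rw [Matrix.mulVec_mulVec, hz, Matrix.smul_mulVec, Matrix.one_mulVec, QuadraticMap.map_smul,
    smul_eq_mul] at h1
  have h2 : (z * z - 1) * Q v = 0 := by linear_combination h1
  have h3 : z * z - 1 = 0 := (mul_eq_zero.1 h2).resolve_right hv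
  have h4 : (z - 1) * (z + 1) = 0 := by linear_combination h3
  rcases mul_eq_zero.1 h4 with h | h
  · left
    rw [hz, sub_eq_zero.1 h, one_smul]
  · right
    rw [hz, eq_neg_of_add_eq_zero_left h, neg_smul, one_smul]

/-- CONJNORM: transport of the normalizer along a conjugation -/
theorem conj_mem_normalizer {F : Type*} [Field F] {ι : Type} [Fintype ι] [DecidableEq ι]
    (K K' : Subalgebra F (Matrix ι ι F)) (g x : GL ι F)
    (hg : ∀ k : Matrix ι ι F, k ∈ K ↔
      (g : Matrix ι ι F) * k * ((g⁻¹ : GL ι F) : Matrix ι ι F) ∈ K')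
    (hx : x ∈ Cfsg.Geo.subalgebraNormalizer K') :
    g⁻¹ * x * g ∈ Cfsg.Geo.subalgebraNormalizer K := by
  intro k
  show k ∈ K ↔ ((g⁻¹ * x * g : GL ι F) : Matrix ι ι F) * k *
    (((g⁻¹ * x * g)⁻¹ : GL ι F) : Matrix ι ι F) ∈ K
  have hx' : ∀ k' : Matrix ι ι F, k' ∈ K' ↔
      (x : Matrix ι ι F) * k' * ((x⁻¹ : GL ι F) : Matrix ι ι F) ∈ K' := hx
  have hgg : (g : Matrix ι ι F) * ((g⁻¹ : GL ι F) : Matrix ι ι F) = 1 := by
    rw [← Units.val_mul, mul_inv_cancel, Units.val_one]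
  rw [hg k, hx' _, hg (((g⁻¹ * x * g : GL ι F) : Matrix ι ι F) * k *
    (((g⁻¹ * x * g)⁻¹ : GL ι F) : Matrix ι ι F))]
  have : (g : Matrix ι ι F) * (((g⁻¹ * x * g : GL ι F) : Matrix ι ι F) * k *
      (((g⁻¹ * x * g)⁻¹ : GL ι F) : Matrix ι ι F)) * ((g⁻¹ : GL ι F) : Matrix ι ι F) =
      (x : Matrix ι ι F) * ((g : Matrix ι ι F) * k * ((g⁻¹ : GL ι F) : Matrix ι ι F)) *
        ((x⁻¹ : GL ι F) : Matrix ι ι F) := by
    rw [mul_inv_rev, mul_inv_rev, inv_inv]
    simp only [Units.val_mul]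
    calc (g : Matrix ι ι F) * (((g⁻¹ : GL ι F) : Matrix ι ι F) * (x : Matrix ι ι F) *
          (g : Matrix ι ι F) * k * (((g⁻¹ : GL ι F) : Matrix ι ι F) *
          (((x⁻¹ : GL ι F) : Matrix ι ι F) * (g : Matrix ι ι F)))) *
          ((g⁻¹ : GL ι F) : Matrix ι ι F)
        = ((g : Matrix ι ι F) * ((g⁻¹ : GL ι F) : Matrix ι ι F)) * (x : Matrix ι ι F) *
          (g : Matrix ι ι F) * k * ((g⁻¹ : GL ι F) : Matrix ι ι F) *
          ((x⁻¹ : GL ι F) : Matrix ι ι F) * ((g : Matrix ι ι F) *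
          ((g⁻¹ : GL ι F) : Matrix ι ι F)) := by simp only [Matrix.mul_assoc]
      _ = (x : Matrix ι ι F) * ((g : Matrix ι ι F) * k * ((g⁻¹ : GL ι F) : Matrix ι ι F)) *
          ((x⁻¹ : GL ι F) : Matrix ι ι F) := by
        rw [hgg, Matrix.one_mul, Matrix.mul_one]; simp only [Matrix.mul_assoc]
  rw [this]

/-- REFLCENT: the reflection in a non-singular eigenvector of `x` commutes with `x` -/
theorem refl_commute_of_eigen {F : Type*} [Field F] {ι : Type} [Fintype ι] [DecidableEq ι]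
    (Q : QuadraticForm F (ι → F)) (x : ↥(Cfsg.isometryGroup F ⇑Q)) (v : ι → F) (hv : Q v ≠ 0)
    (ε : F) (hε : ε ≠ 0) (hxv : ((x : GL ι F) : Matrix ι ι F).mulVec v = ε • v) :
    reflO Q v hv * x = x * reflO Q v hv := by
  have hv' : Q (((x : GL ι F) : Matrix ι ι F).mulVec v) ≠ 0 := by
    rw [isom_apply]; exact hv
  have h1 := reflO_conj Q x v hv hv'
  have hv'' : Q (ε • v) ≠ 0 := by rw [← hxv]; exact hv'
  have h2 : reflO Q (((x : GL ι F) : Matrix ι ι F).mulVec v) hv' = reflO Q v hv := by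
    have : reflO Q (((x : GL ι F) : Matrix ι ι F).mulVec v) hv' = reflO Q (ε • v) hv'' := by
      congr 1
    rw [this, reflO_smul Q v hv hε hv'']
  rw [h2] at h1
  have h3 := congrArg (fun y => y * x) h1
  simp only [inv_mul_cancel_right] at h3
  exact h3

/-- DETDIAG: the determinant of a diagonalizable matrix -/
theorem det_of_eigenbasis {F : Type*} [Field F] {ι : Type} [Fintype ι] [DecidableEq ι] {n : ℕ}
    (x : Matrix ι ι F) (b : Module.Basis (Fin n) F (ι → F)) (ε : Fin n → F)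
    (hb : ∀ i, x.mulVec (b i) = ε i • b i) : x.det = ∏ i, ε i := by
  have hX : LinearMap.toMatrix b b (Matrix.toLin' x) = Matrix.diagonal ε := by
    ext i j
    rw [LinearMap.toMatrix_apply, Matrix.toLin'_apply, hb j, map_smul, Finsupp.smul_apply,
      Module.Basis.repr_self, Matrix.diagonal_apply, Finsupp.single_apply, smul_eq_mul]
    by_cases h : i = j
    · subst h; simp
    · rw [if_neg h, if_neg (fun h' => h h'.symm), mul_zero]
  rw [← LinearMap.det_toLin' x, ← LinearMap.det_toMatrix b, hX, Matrix.det_diagonal]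

/-- COMM: `J` commutes with `x` when `x` is a scalar on each pair -/
theorem commute_of_pair_struct {F : Type*} [Field F] {ι : Type} [Fintype ι] [DecidableEq ι] {d : ℕ}
    (b : Module.Basis (Fin d × Fin 2) F (ι → F)) (x J : Matrix ι ι F) (ε p t t' : Fin d → F)
    (hx : ∀ k j, x.mulVec (b (k, j)) = ε k • b (k, j))
    (h0 : ∀ k, J.mulVec (b (k, 0)) = p k • b (k, 0) + t k • b (k, 1))
    (h1 : ∀ k, J.mulVec (b (k, 1)) = t' k • b (k, 0) - p k • b (k, 1)) : x * J = J * x := by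
  apply Matrix.toLin'.injective
  apply b.ext
  rintro ⟨k, j⟩
  rw [Matrix.toLin'_apply, Matrix.toLin'_apply, ← Matrix.mulVec_mulVec, ← Matrix.mulVec_mulVec, hx,
    Matrix.mulVec_smul]
  fin_cases j
  · show x.mulVec (J.mulVec (b (k, 0))) = ε k • J.mulVec (b (k, 0))
    rw [h0, Matrix.mulVec_add, Matrix.mulVec_smul, Matrix.mulVec_smul, hx, hx]
    module
  · show x.mulVec (J.mulVec (b (k, 1))) = ε k • J.mulVec (b (k, 1))
    rw [h1, Matrix.mulVec_sub, Matrix.mulVec_smul, Matrix.mulVec_smul, hx, hx]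
    module

/-- ANTI: `J` anticommutes with `x` when `x` is `e ↦ s e'`, `e' ↦ - s e` on each pair (`s = ±1`) -/
theorem anticommute_of_pair_struct {F : Type*} [Field F] {ι : Type} [Fintype ι] [DecidableEq ι]
    {d : ℕ} (b : Module.Basis (Fin d × Fin 2) F (ι → F)) (x J : Matrix ι ι F) (s p t : Fin d → F)
    (hs : ∀ k, s k * s k = 1)
    (hx0 : ∀ k, x.mulVec (b (k, 0)) = s k • b (k, 1))
    (hx1 : ∀ k, x.mulVec (b (k, 1)) = -(s k • b (k, 0)))
    (h0 : ∀ k, J.mulVec (b (k, 0)) = p k • b (k, 0) + t k • b (k, 1))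
    (h1 : ∀ k, J.mulVec (b (k, 1)) = t k • b (k, 0) - p k • b (k, 1)) : x * J = -(J * x) := by
  apply Matrix.toLin'.injective
  apply b.ext
  rintro ⟨k, j⟩
  rw [Matrix.toLin'_apply, Matrix.toLin'_apply, Matrix.neg_mulVec, ← Matrix.mulVec_mulVec,
    ← Matrix.mulVec_mulVec]
  fin_cases j
  · show x.mulVec (J.mulVec (b (k, 0))) = -J.mulVec (x.mulVec (b (k, 0)))
    rw [h0, hx0, Matrix.mulVec_add, Matrix.mulVec_smul, Matrix.mulVec_smul, hx0, hx1,
      Matrix.mulVec_smul, h1]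
    module
  · show x.mulVec (J.mulVec (b (k, 1))) = -J.mulVec (x.mulVec (b (k, 1)))
    rw [h1, hx1, Matrix.mulVec_sub, Matrix.mulVec_smul, Matrix.mulVec_smul, hx0, hx1,
      Matrix.mulVec_neg, Matrix.mulVec_smul, h0]
    module

end Cfsg.Agent.S5977B
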