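import Mathlib
import Cfsg.Prelude.Def_GeometricClasses
import Cfsg.Prelude.Def_ClassicalGeometry
import Cfsg.Agent.Helper21.S5977OmegaAdj

set_option autoImplicit false
set_option linter.unusedSectionVars false
open scoped MatrixGroups

/-! S5977/S5978 BACK, piece EIGEN: an isometry with `x * x = 1` has an orthogonal basis of
non-singular eigenvectors. -/

namespace Cfsg.Agent.S5977B

open Cfsg.Agent.Helper28 Cfsg.Agent.Helper28.Spin

namespace EIGEN

variable {F : Type*} [Field F] {ι : Type} [Fintype ι] [DecidableEq ι] (Q : QuadraticForm F (ι → F))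

/-- invariance -/
def Inv (x : Matrix ι ι F) (W : Submodule F (ι → F)) : Prop := ∀ w ∈ W, x.mulVec w ∈ W

/-- non-degeneracy of the restriction -/
def ND (W : Submodule F (ι → F)) : Prop :=
  ∀ w ∈ W, (∀ w' ∈ W, QuadraticMap.polar ⇑Q w w' = 0) → w = 0

theorem eq_bot_of_singular {W : Submodule F (ι → F)} (hnd : ND Q W) (h : ∀ w ∈ W, Q w = 0) :
    W = ⊥ := by
  rw [eq_bot_iff]
  intro w hw
  rw [Submodule.mem_bot]
  apply hnd w hw
  intro w' hw'
  rw [QuadraticMap.polar, h _ (W.add_mem hw hw'), h _ hw, h _ hw']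
  ring

theorem polar_eigen_zero (h2 : (2 : F) ≠ 0) {x : Matrix ι ι F} (hx : ∀ v, Q (x.mulVec v) = Q v)
    {u v : ι → F} (hu : x.mulVec u = u) (hv : x.mulVec v = -v) :
    QuadraticMap.polar ⇑Q u v = 0 := by
  have h := polar_isom Q hx u v
  rw [hu, hv, QuadraticMap.polar_neg_right] at h
  have : (2 : F) * QuadraticMap.polar ⇑Q u v = 0 := by linear_combination -h
  exact (mul_eq_zero.1 this).resolve_left h2

theorem exists_nonsingular_eigen (h2 : (2 : F) ≠ 0) {x : Matrix ι ι F}
    (hx : ∀ v, Q (x.mulVec v) = Q v) (hxx : x * x = 1) {W : Submodule F (ι → F)}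
    (hinv : Inv x W) (hnd : ND Q W) (hW : W ≠ ⊥) :
    ∃ e ∈ W, ∃ ε : F, (ε = 1 ∨ ε = -1) ∧ x.mulVec e = ε • e ∧ Q e ≠ 0 := by
  by_contra hcon
  push Not at hcon
  apply hW
  apply eq_bot_of_singular Q hnd
  intro w hw
  have hxxw : x.mulVec (x.mulVec w) = w := by
    rw [Matrix.mulVec_mulVec, hxx, Matrix.one_mulVec]
  have hp : x.mulVec (w + x.mulVec w) = w + x.mulVec w := by
    rw [Matrix.mulVec_add, hxxw, add_comm]
  have hm : x.mulVec (w - x.mulVec w) = -(w - x.mulVec w) := by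
    rw [Matrix.mulVec_sub, hxxw]; abel
  have h1 : Q (w + x.mulVec w) = 0 :=
    hcon _ (W.add_mem hw (hinv w hw)) 1 (Or.inl rfl) (by rw [hp, one_smul])
  have h3 : Q (w - x.mulVec w) = 0 :=
    hcon _ (W.sub_mem hw (hinv w hw)) (-1) (Or.inr rfl) (by rw [hm, neg_one_smul])
  have h4 := polar_eigen_zero Q h2 hx hp hm
  have h5 : Q ((w + x.mulVec w) + (w - x.mulVec w)) = 0 := by
    rw [QuadraticMap.map_add (⇑Q), h1, h3, h4]; ring
  have h6 : (w + x.mulVec w) + (w - x.mulVec w) = (2 : F) • w := by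
    rw [two_smul]; abel
  rw [h6, QuadraticMap.map_smul, smul_eq_mul] at h5
  have h22 : (2 : F) * 2 ≠ 0 := mul_ne_zero h2 h2
  exact (mul_eq_zero.1 h5).resolve_left h22

/-- the induction step: splitting off a line -/
theorem split (h2 : (2 : F) ≠ 0) {x : Matrix ι ι F} (hx : ∀ v, Q (x.mulVec v) = Q v)
    {W : Submodule F (ι → F)} (hinv : Inv x W) (hnd : ND Q W)
    (e : ι → F) (he : e ∈ W) (hQe : Q e ≠ 0) (ε : F) (hε : ε ≠ 0) (hxe : x.mulVec e = ε • e) :
    ∃ W' : Submodule F (ι → F), W' ≤ W ∧ Inv x W' ∧ ND Q W' ∧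
      Module.finrank F W' + 1 = Module.finrank F W ∧
      (∀ w' ∈ W', QuadraticMap.polar ⇑Q e w' = 0) ∧
      (∀ w ∈ W, ∃ a : F, w - a • e ∈ W') := by
  classical
  have hee : QuadraticMap.polar ⇑Q e e = 2 * Q e := polar_self' Q e
  have h2Q : (2 : F) * Q e ≠ 0 := mul_ne_zero h2 hQe
  let W' : Submodule F (ι → F) :=
    { carrier := {w | w ∈ W ∧ QuadraticMap.polar ⇑Q e w = 0}
      add_mem' := by
        rintro a b ⟨ha, ha1⟩ ⟨hb, hb1⟩
        refine ⟨W.add_mem ha hb, ?_⟩
        rw [QuadraticMap.polar_add_right, ha1, hb1, add_zero]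
      zero_mem' := ⟨W.zero_mem, by simp⟩
      smul_mem' := by
        rintro c a ⟨ha, ha1⟩
        refine ⟨W.smul_mem c ha, ?_⟩
        rw [QuadraticMap.polar_smul_right, ha1, smul_zero] }
  have hW'le : W' ≤ W := fun w hw => hw.1
  have hdec : ∀ w ∈ W, ∃ a : F, w - a • e ∈ W' := by
    intro w hw
    refine ⟨QuadraticMap.polar ⇑Q e w / (2 * Q e), ?_, ?_⟩
    · exact W.sub_mem hw (W.smul_mem _ he)
    · rw [QuadraticMap.polar_sub_right, QuadraticMap.polar_smul_right, hee]
      simp only [smul_eq_mul]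
      field_simp
      ring
  let g : F →ₗ[F] (ι → F) := LinearMap.toSpanSingleton F (ι → F) e
  have hg : ∀ a : F, g a = a • e := fun a => rfl
  have hzero : ∀ a : F, g a ∈ W' → a = 0 := by
    intro a hmem
    have := hmem.2
    rw [hg, QuadraticMap.polar_smul_right, hee, smul_eq_mul] at this
    exact (mul_eq_zero.1 this).resolve_right h2Q
  have hginj : Function.Injective g := by
    rw [← LinearMap.ker_eq_bot, LinearMap.ker_eq_bot']
    intro a h0
    have hmem : g a ∈ W' := by rw [h0]; exact W'.zero_mem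
    exact hzero a hmem
  have hrange_le : LinearMap.range g ≤ W := by
    rintro _ ⟨a, rfl⟩
    rw [hg]
    exact W.smul_mem _ he
  have hsup : LinearMap.range g ⊔ W' = W := by
    apply le_antisymm (sup_le hrange_le hW'le)
    intro w hw
    obtain ⟨a, hac⟩ := hdec w hw
    have : w = g a + (w - a • e) := by rw [hg]; abel
    rw [this]
    exact Submodule.add_mem_sup (LinearMap.mem_range_self g a) hac
  have hinf : LinearMap.range g ⊓ W' = ⊥ := by
    rw [eq_bot_iff]
    rintro _ ⟨⟨a, rfl⟩, hmem⟩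
    rw [hzero a hmem, map_zero]
    exact Submodule.zero_mem _
  have hrk : Module.finrank F (LinearMap.range g) = 1 := by
    rw [LinearMap.finrank_range_of_inj hginj, Module.finrank_self]
  refine ⟨W', hW'le, ?_, ?_, ?_, fun w' hw' => hw'.2, hdec⟩
  · intro w hw
    refine ⟨hinv w hw.1, ?_⟩
    have h := polar_isom Q hx e w
    rw [hxe, QuadraticMap.polar_smul_left, hw.2, smul_eq_mul] at h
    exact (mul_eq_zero.1 h).resolve_left hε
  · intro w' hw' hperp
    apply hnd w' hw'.1
    intro w hw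
    obtain ⟨a, hac⟩ := hdec w hw
    have : w = a • e + (w - a • e) := by abel
    rw [this, QuadraticMap.polar_add_right, hperp _ hac, QuadraticMap.polar_smul_right,
      QuadraticMap.polar_comm (⇑Q) w' e, hw'.2]
    simp
  · have := Submodule.finrank_sup_add_finrank_inf_eq (LinearMap.range g) W'
    rw [hsup, hinf, finrank_bot, hrk] at this
    omega

/-- the inductive statement -/
theorem aux (h2 : (2 : F) ≠ 0) {x : Matrix ι ι F} (hx : ∀ v, Q (x.mulVec v) = Q v)
    (hxx : x * x = 1) (W : Submodule F (ι → F)) (hinv : Inv x W) (hnd : ND Q W) :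
    ∃ (m : ℕ) (e : Fin m → (ι → F)) (ε : Fin m → F), (∀ k, e k ∈ W) ∧
      (∀ k, ε k = 1 ∨ ε k = -1) ∧ (∀ k, x.mulVec (e k) = ε k • e k) ∧ (∀ k, Q (e k) ≠ 0) ∧
      (∀ k l, k ≠ l → QuadraticMap.polar ⇑Q (e k) (e l) = 0) ∧
      Module.finrank F W = m ∧
      ∀ w ∈ W, ∃ a : Fin m → F, w = ∑ k, a k • e k := by
  classical
  induction hN : Module.finrank F W using Nat.strong_induction_on generalizing W with
  | _ N ih =>
  by_cases hbot : W = ⊥
  · subst hbot
    refine ⟨0, fun k => Fin.elim0 k, fun k => Fin.elim0 k, fun k => Fin.elim0 k,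
      fun k => Fin.elim0 k, fun k => Fin.elim0 k, fun k => Fin.elim0 k, fun k => Fin.elim0 k,
      ?_, ?_⟩
    · rw [← hN, finrank_bot]
    · intro w hw
      refine ⟨fun k => Fin.elim0 k, ?_⟩
      rw [(Submodule.mem_bot F).1 hw]
      simp
  · obtain ⟨e₀, he₀, ε₀, hε₀, hxe₀, hQe₀⟩ := exists_nonsingular_eigen Q h2 hx hxx hinv hnd hbot
    have hε₀0 : ε₀ ≠ 0 := by
      rcases hε₀ with h | h <;> rw [h]
      · exact one_ne_zero
      · exact neg_ne_zero.2 one_ne_zero
    obtain ⟨W', hW'le, hW'inv, hW'nd, hW'rk, hW'perp, hW'dec⟩ :=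
      split Q h2 hx hinv hnd e₀ he₀ hQe₀ ε₀ hε₀0 hxe₀
    obtain ⟨m', e', ε', hmem, hε', hxe', hns, horth, hrk', hspan⟩ :=
      ih (Module.finrank F W') (by omega) W' hW'inv hW'nd rfl
    refine ⟨m' + 1, Fin.cons e₀ e', Fin.cons ε₀ ε', ?_, ?_, ?_, ?_, ?_, ?_, ?_⟩
    · intro k
      refine Fin.cases ?_ (fun k => ?_) k
      · rw [Fin.cons_zero]; exact he₀
      · rw [Fin.cons_succ]; exact hW'le (hmem k)
    · intro k
      refine Fin.cases ?_ (fun k => ?_) k
      · rw [Fin.cons_zero]; exact hε₀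
      · rw [Fin.cons_succ]; exact hε' k
    · intro k
      refine Fin.cases ?_ (fun k => ?_) k
      · rw [Fin.cons_zero, Fin.cons_zero]; exact hxe₀
      · rw [Fin.cons_succ, Fin.cons_succ]; exact hxe' k
    · intro k
      refine Fin.cases ?_ (fun k => ?_) k
      · rw [Fin.cons_zero]; exact hQe₀
      · rw [Fin.cons_succ]; exact hns k
    · intro k l
      refine Fin.cases ?_ (fun k => ?_) k <;> refine Fin.cases ?_ (fun l => ?_) l
      · intro h; exact absurd rfl h
      · intro _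
        rw [Fin.cons_zero, Fin.cons_succ]
        exact hW'perp _ (hmem l)
      · intro _
        rw [Fin.cons_zero, Fin.cons_succ, QuadraticMap.polar_comm]
        exact hW'perp _ (hmem k)
      · intro h
        rw [Fin.cons_succ, Fin.cons_succ]
        exact horth k l (fun h' => h (by rw [h']))
    · rw [← hN, ← hW'rk, hrk']
    · intro w hw
      obtain ⟨a₀, hac⟩ := hW'dec w hw
      obtain ⟨a', hac'⟩ := hspan _ hac
      refine ⟨Fin.cons a₀ a', ?_⟩
      rw [Fin.sum_univ_succ]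
      simp only [Fin.cons_zero, Fin.cons_succ]
      rw [← hac']
      abel

end EIGEN

open EIGEN in
/-- EIGEN: an isometry with `x * x = 1` has an orthogonal basis of non-singular eigenvectors -/
theorem exists_eigenbasis {F : Type*} [Field F] (h2 : (2 : F) ≠ 0) {ι : Type} [Fintype ι]
    [DecidableEq ι] (Q : QuadraticForm F (ι → F)) (hQ : (QuadraticMap.polarBilin Q).Nondegenerate)
    (x : Matrix ι ι F) (hx : ∀ v, Q (x.mulVec v) = Q v) (hxx : x * x = 1) :
    ∃ (b : Module.Basis (Fin (Fintype.card ι)) F (ι → F)) (ε : Fin (Fintype.card ι) → F),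
      (∀ i, ε i = 1 ∨ ε i = -1) ∧ (∀ i, x.mulVec (b i) = ε i • b i) ∧
      (∀ i j, i ≠ j → QuadraticMap.polar ⇑Q (b i) (b j) = 0) ∧ ∀ i, Q (b i) ≠ 0 := by
  classical
  have hndtop : ND Q ⊤ := by
    intro w _ hw
    apply hQ.1 w
    intro y
    rw [QuadraticMap.polarBilin_apply_apply]
    exact hw y Submodule.mem_top
  obtain ⟨m, e, ε, -, hε, hxe, hns, horth, hrk, hspan⟩ :=
    aux Q h2 hx hxx ⊤ (fun w _ => Submodule.mem_top) hndtop
  have hm : m = Fintype.card ι := by
    rw [finrank_top, Module.finrank_fintype_fun_eq_card] at hrk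
    exact hrk.symm
  subst hm
  have hspan' : ⊤ ≤ Submodule.span F (Set.range e) := by
    intro w _
    obtain ⟨a, hac⟩ := hspan w Submodule.mem_top
    rw [hac]
    apply Submodule.sum_mem
    intro k _
    apply Submodule.smul_mem
    apply Submodule.subset_span
    exact ⟨k, rfl⟩
  have hcard : Fintype.card (Fin (Fintype.card ι)) = Module.finrank F (ι → F) := by
    rw [Module.finrank_fintype_fun_eq_card, Fintype.card_fin]
  set b := basisOfTopLeSpanOfCardEqFinrank e hspan' hcard with hb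
  have hbv : ∀ i, b i = e i := fun i => by rw [hb, coe_basisOfTopLeSpanOfCardEqFinrank]
  refine ⟨b, ε, hε, ?_, ?_, ?_⟩
  · intro i; rw [hbv]; exact hxe i
  · intro i j hij; rw [hbv, hbv]; exact horth i j hij
  · intro i; rw [hbv]; exact hns i

end Cfsg.Agent.S5977B
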