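import Mathlib
import Cfsg.Prelude.Def_Classical
import Cfsg.Prelude.Def_GeometricClasses
import Cfsg.Agent.Helper5.S5973Defs
import Cfsg.Agent.Helper21.S5977OmegaAdj
import Cfsg.Agent.Helper21.S5977BEIGEN
import Cfsg.Agent.Helper12.InvClassA
import Cfsg.Agent.Helper21.S5973DISC

set_option autoImplicit false
open scoped MatrixGroups

/-! S5973 + S5987, piece INVOLOMEGA: the `-1`-eigenspace of an involution of `Ω`. -/

namespace Cfsg.Agent.S5973P

open Module Cfsg.Agent.Helper28 Cfsg.Agent.Helper28.Spin

variable {F : Type*} [Field F] [Fintype F] {ι : Type} [Fintype ι] [DecidableEq ι]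

/-- INVOLOMEGA: the `-1`-eigenspace of an involution of `Ω` -/
theorem invol_omega_type (h2 : (2 : F) ≠ 0) (Q : QuadraticForm F (ι → F)) (hQ : ND Q)
    (x : GL ι F) (hx : x ∈ Cfsg.Geo.omegaGL ⇑Q)
    (hxx : (x : Matrix ι ι F) * (x : Matrix ι ι F) = 1) :
    Even (finrank F (LinearMap.ker (Matrix.toLin' (x : Matrix ι ι F) + 1))) ∧
    (IsHyp (resQ Q (LinearMap.ker (Matrix.toLin' (x : Matrix ι ι F) + 1))) ↔
      IsSquare ((-1 : F) ^
        (finrank F (LinearMap.ker (Matrix.toLin' (x : Matrix ι ι F) + 1)) / 2))) := by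
  classical
  obtain ⟨hiso, hΩ⟩ := (Cfsg.Agent.S5977B.mem_omegaGL_iff Q x).1 hx
  have hx' : ∀ v, Q ((x : Matrix ι ι F).mulVec v) = Q v :=
    (Cfsg.Agent.Helper28.IsoTransport.mem_isometryGroup_iff _ _).1 hiso
  obtain ⟨b, ε, hε, hb, horth, hns⟩ :=
    Cfsg.Agent.S5977B.exists_eigenbasis h2 Q hQ (x : Matrix ι ι F) hx' hxx
  have hne : (1 : F) ≠ -1 := by
    intro h
    apply h2
    have : (2 : F) = 1 - (-1) := by ring
    rw [this, ← h, sub_self]
  set S : Finset (Fin (Fintype.card ι)) := Finset.univ.filter (fun i => ε i = -1) with hS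
  have hmemS : ∀ i, i ∈ S ↔ ε i = -1 := fun i => by simp [hS]
  -- `x` is the product of the reflections in `b i`, `i ∈ S`
  have hxprod : (x : Matrix ι ι F) =
      ((S.toList.map (fun i => b i)).map (fun v => Cfsg.reflectionMatrix ⇑Q v)).prod := by
    rw [List.map_map]
    apply Matrix.toLin'.injective
    apply b.ext
    intro j
    rw [Matrix.toLin'_apply, Matrix.toLin'_apply]
    have := Cfsg.Agent.Helper12.InvClass.prod_refl_apply_gen Q (fun i => b i) hns horth S.toList
      (Finset.nodup_toList S) j
    rw [show ((fun v => Cfsg.reflectionMatrix ⇑Q v) ∘ fun i => b i) =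
      fun i => Cfsg.reflectionMatrix ⇑Q (b i) from rfl, this, hb]
    by_cases hj : j ∈ S
    · rw [if_pos (Finset.mem_toList.2 hj), (hmemS j).1 hj, neg_one_smul]
    · rw [if_neg (fun h => hj (Finset.mem_toList.1 h))]
      have : ε j = 1 := (hε j).resolve_right (fun h => hj ((hmemS j).2 h))
      rw [this, one_smul]
  have hcrit := (spinor_criterion Q h2 ⟨x, hiso⟩ (S.toList.map (fun i => b i))
    (by
      intro v hv
      rw [List.mem_map] at hv
      obtain ⟨i, -, rfl⟩ := hv
      exact hns i) hxprod).1 hΩ
  rw [List.length_map, Finset.length_toList, List.map_map] at hcrit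
  rw [show ((fun v => Q v) ∘ fun i => b i) = fun i => Q (b i) from rfl,
    Finset.prod_map_toList] at hcrit
  obtain ⟨hSeven, hSsq⟩ := hcrit
  -- the `-1`-eigenspace
  set v : S → (ι → F) := fun i => b i with hv
  have hli : LinearIndependent F v :=
    b.linearIndependent.comp (fun i : S => (i : Fin (Fintype.card ι))) Subtype.val_injective
  have hker : LinearMap.ker (Matrix.toLin' (x : Matrix ι ι F) + 1) =
      Submodule.span F (Set.range v) := by
    apply le_antisymm
    · intro u hu
      rw [LinearMap.mem_ker, LinearMap.add_apply, Matrix.toLin'_apply,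
        Module.End.one_apply] at hu
      have hrepr : u = ∑ i, b.repr u i • b i := (b.sum_repr u).symm
      have h1 : ∑ i, (b.repr u i * (ε i + 1)) • b i = 0 := by
        have : (x : Matrix ι ι F).mulVec u + u = ∑ i, (b.repr u i * (ε i + 1)) • b i := by
          conv_lhs => rw [hrepr]
          rw [Matrix.mulVec_sum, ← Finset.sum_add_distrib]
          apply Finset.sum_congr rfl
          intro i _
          rw [Matrix.mulVec_smul, hb, smul_smul, ← add_smul]
          congr 1
          ring
        rw [← this, hu]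
      have h2' := Fintype.linearIndependent_iff.1 b.linearIndependent _ h1
      rw [hrepr]
      apply Submodule.sum_mem
      intro i _
      by_cases hi : i ∈ S
      · exact Submodule.smul_mem _ _ (Submodule.subset_span ⟨⟨i, hi⟩, rfl⟩)
      · have hεi : ε i = 1 := (hε i).resolve_right (fun h => hi ((hmemS i).2 h))
        have := h2' i
        rw [hεi] at this
        have h0 : b.repr u i = 0 := by
          rcases mul_eq_zero.1 this with h | h
          · exact h
          · exfalso
            apply h2
            rw [← h]; ring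
        rw [h0, zero_smul]
        exact Submodule.zero_mem _
    · rw [Submodule.span_le]
      rintro _ ⟨i, rfl⟩
      rw [SetLike.mem_coe, LinearMap.mem_ker, LinearMap.add_apply, Matrix.toLin'_apply,
        Module.End.one_apply, hv]
      simp only
      rw [hb, (hmemS i).1 i.2, neg_one_smul, neg_add_cancel]
  rw [hker]
  set bW : Module.Basis S F ↥(Submodule.span F (Set.range v)) := Module.Basis.span hli with hbW
  have hbWi : ∀ i, ((bW i : ↥(Submodule.span F (Set.range v))) : ι → F) = b i := fun i => by
    rw [hbW, Module.Basis.span_apply]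
  have hfr : finrank F ↥(Submodule.span F (Set.range v)) = S.card := by
    rw [Module.finrank_eq_card_basis bW, Fintype.card_coe]
  obtain ⟨k, hk⟩ := hSeven
  have hk2 : S.card = 2 * k := by rw [hk]; ring
  rw [hfr]
  refine ⟨⟨k, hk⟩, ?_⟩
  rw [isHyp_iff_disc h2 (resQ Q (Submodule.span F (Set.range v))) k
    (by rw [Fintype.card_coe, hk2]) bW
    (by
      intro i j hij
      have : QuadraticMap.polar ⇑(resQ Q (Submodule.span F (Set.range v))) (bW i) (bW j) =
          QuadraticMap.polar ⇑Q (b i) (b j) := by
        rw [← hbWi i, ← hbWi j]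
        exact Cfsg.Agent.Helper13.polar_comp_subtype Q _ _ _
      rw [this]
      exact horth _ _ (fun h => hij (Subtype.ext h)))
    (by
      intro i
      rw [resQ_apply, hbWi]
      exact hns _)]
  have hprod : ∏ i : S, (resQ Q (Submodule.span F (Set.range v))) (bW i) = ∏ i ∈ S, Q (b i) := by
    rw [← Finset.prod_coe_sort S (fun i => Q (b i))]
    apply Finset.prod_congr rfl
    intro i _
    rw [resQ_apply, hbWi]
  have hk' : 2 * k / 2 = k := by omega
  rw [hprod, hk2, hk']
  have hP0 : ∏ i ∈ S, Q (b i) ≠ 0 := Finset.prod_ne_zero_iff.2 (fun i _ => hns i)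
  have hm0 : (-1 : F) ^ k ≠ 0 := pow_ne_zero _ (neg_ne_zero.2 one_ne_zero)
  rw [isSquare_mul_iff h2 hm0 hP0]
  tauto

end Cfsg.Agent.S5973P
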