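import Mathlib
import Cfsg.Agent.Helper16.F3Basic
import Cfsg.Agent.Helper14.PCore
import Cfsg.Agent.S5352
import Cfsg.Agent.S5560

set_option autoImplicit false
set_option linter.style.haveILetI false

/-! Fischer rank-3 package, piece FISCH: under the hypotheses of Fischer's theorem
(no solvable normal subgroup, perfect derived group) the derived group of a group generated by a
class of 3-transpositions is non-abelian simple. -/

namespace Cfsg.Agent.Helper16.F3

variable {G : Type*} [Group G] [Finite G] {D : Set G}

namespace FISCH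

/-- transporting simplicity and non-commutativity along an equality of subgroups -/
theorem transport {G : Type*} [Group G] {H L : Subgroup G} (h : H = L) (hs : IsSimpleGroup L)
    (hn : ∃ x y : L, x * y ≠ y * x) : IsSimpleGroup H ∧ ∃ x y : H, x * y ≠ y * x := by
  subst h; exact ⟨hs, hn⟩

end FISCH

/-- FISCH -/
theorem simple_of_fischer
    (hsol : ∀ N : Subgroup G, N.Normal → Group.IsSolvable ↥N → N = ⊥)
    (hperf : ⁅commutator G, commutator G⁆ = commutator G)
    (hD : Cfsg.IsThreeTranspositionClass D) :
    IsSimpleGroup (commutator G) ∧ ∃ x y : commutator G, x * y ≠ y * x := by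
  classical
  obtain ⟨hset, ⟨d, hdD, hDeq⟩, hgen⟩ := hD
  have hD' : Cfsg.IsThreeTranspositionClass D := ⟨hset, ⟨d, hdD, hDeq⟩, hgen⟩
  have hmemD : ∀ x, x ∈ D ↔ ∃ g : G, g * d * g⁻¹ = x := by
    intro x; rw [hDeq]; show IsConj d x ↔ _; rw [isConj_iff]
  have hconj : ∀ g : G, ∀ x ∈ D, g * x * g⁻¹ ∈ D := by
    intro g x hx
    obtain ⟨c, rfl⟩ := (hmemD x).1 hx
    exact (hmemD _).2 ⟨g * c, by group⟩
  have hord : ∀ x ∈ D, orderOf x = 2 := hset.1
  have hsq : ∀ x ∈ D, x * x = 1 := by
    intro x hx
    have := pow_orderOf_eq_one x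
    rwa [hord x hx, pow_two] at this
  have hinv : ∀ x ∈ D, x⁻¹ = x := fun x hx => inv_eq_of_mul_eq_one_left (hsq x hx)
  -- the cores and the centre are trivial
  have h2 : Cfsg.pCore 2 G = ⊥ := by
    apply hsol _ (Cfsg.Agent.Helper14.pCore_normal 2)
    haveI : Fact (Nat.Prime 2) := ⟨Nat.prime_two⟩
    haveI := (Cfsg.Agent.Helper14.pCore_isPGroup (G := G) 2).isNilpotent
    infer_instance
  have h3 : Cfsg.pCore 3 G = ⊥ := by
    apply hsol _ (Cfsg.Agent.Helper14.pCore_normal 3)
    haveI : Fact (Nat.Prime 3) := ⟨Nat.prime_three⟩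
    haveI := (Cfsg.Agent.Helper14.pCore_isPGroup (G := G) 3).isNilpotent
    infer_instance
  have hZG : Subgroup.center G = ⊥ := by
    apply hsol _ inferInstance
    apply Group.isSolvable_of_comm
    rintro ⟨a, ha⟩ ⟨b, hb⟩
    apply Subtype.ext
    exact (Subgroup.mem_center_iff.1 ha b).symm
  -- `D` has two members
  have hD2 : ∃ a ∈ D, ∃ b ∈ D, a ≠ b := by
    by_contra hcon
    push Not at hcon
    have hdc : d ∈ Subgroup.center G := by
      rw [Subgroup.mem_center_iff]
      intro g
      have := hcon (g * d * g⁻¹) (hconj g d hdD) d hdD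
      calc g * d = (g * d * g⁻¹) * g := by group
        _ = d * g := by rw [this]
    rw [hZG, Subgroup.mem_bot] at hdc
    have := hord d hdD
    rw [hdc, orderOf_one] at this
    omega
  obtain ⟨L, hLn, hLq, -, hLalt⟩ :=
    Cfsg.Agent.S5352.result hD' hD2 (h2 ▸ bot_le) (h3 ▸ bot_le)
  haveI := hLn
  -- the centre of `L` is trivial
  have hZ : Subgroup.center L = ⊥ := by
    have hn : ((Subgroup.center L).map L.subtype).Normal := inferInstance
    have hs : Group.IsSolvable ↥((Subgroup.center L).map L.subtype) := by
      apply Group.isSolvable_of_comm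
      rintro ⟨_, ⟨a, ha, rfl⟩⟩ ⟨_, ⟨b, hb, rfl⟩⟩
      apply Subtype.ext
      show L.subtype a * L.subtype b = L.subtype b * L.subtype a
      rw [← map_mul, ← map_mul, (Subgroup.mem_center_iff.1 ha b).symm]
    have := hsol _ hn hs
    exact (Subgroup.map_eq_bot_iff_of_injective _ L.subtype_injective).1 this
  have hLs : IsSimpleGroup L := by
    haveI := hLq.2
    let e : L ≃* L ⧸ Subgroup.center L :=
      (QuotientGroup.quotientBot (G := L)).symm.trans (QuotientGroup.quotientMulEquivOfEq hZ.symm)
    exact e.isSimpleGroup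
  have hLperf : ⁅L, L⁆ = L := Subgroup.isPerfect_iff.1 hLq.1
  have hLle : L ≤ commutator G := by
    rw [commutator_def]
    calc L = ⁅L, L⁆ := hLperf.symm
      _ ≤ ⁅⊤, ⊤⁆ := Subgroup.commutator_mono le_top le_top
  have hLnonab : ∃ x y : L, x * y ≠ y * x := by
    by_contra hcon
    push Not at hcon
    have hb : ⁅L, L⁆ = ⊥ := by
      rw [Subgroup.commutator_eq_bot_iff_le_centralizer]
      intro x hx
      rw [Subgroup.mem_centralizer_iff]
      intro y hy
      have := hcon ⟨y, hy⟩ ⟨x, hx⟩
      exact congrArg Subtype.val this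
    rw [hLperf] at hb
    haveI := hLs
    exact (Subgroup.nontrivial_iff_ne_bot L).1 inferInstance hb
  -- `G' ≤ L`
  have hGle : commutator G ≤ L := by
    rcases hLalt with htop | halt
    · rw [htop]; exact le_top
    · obtain ⟨φ, hφdef⟩ : ∃ φ : G →* G ⧸ L, φ = QuotientGroup.mk' L := ⟨_, rfl⟩
      have hφs : Function.Surjective φ := by rw [hφdef]; exact QuotientGroup.mk'_surjective L
      have hker : φ.ker = L := by rw [hφdef]; exact QuotientGroup.ker_mk' L
      have hcomm_eq : ∀ a ∈ D, ∀ b ∈ D, Commute a b → φ a = φ b := by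
        intro a ha b hb hab
        have h1 : a * b * a⁻¹ * b⁻¹ ∈ L := by
          have : a * b * a⁻¹ * b⁻¹ = 1 := by rw [hab.eq]; group
          rw [this]; exact L.one_mem
        have h := halt a ha b hb h1
        have : φ (a⁻¹ * b) = 1 := by rw [← MonoidHom.mem_ker, hker]; exact h
        rw [map_mul, map_inv, inv_mul_eq_one] at this
        exact this
      by_cases hdL : d ∈ L
      · have : (⊤ : Subgroup G) ≤ L := by
          rw [← hgen, Subgroup.closure_le]
          intro x hx
          obtain ⟨g, rfl⟩ := (hmemD x).1 hx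
          exact hLn.conj_mem d hdL g
        exact le_trans le_top this
      · have hφd : orderOf (φ d) = 2 := by
          have h1 : φ d ≠ 1 := by
            intro h; apply hdL; rw [← hker]; exact h
          have h2 : φ d ^ 2 = 1 := by rw [← map_pow, pow_two, hsq d hdD, map_one]
          haveI : Fact (Nat.Prime 2) := ⟨Nat.prime_two⟩
          exact orderOf_eq_prime h2 h1
        have himg : ∀ a ∈ conjugatesOf (φ d), ∃ a' ∈ D, φ a' = a := by
          intro a ha
          obtain ⟨c, rfl⟩ := isConj_iff.1 (show IsConj (φ d) a from ha)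
          obtain ⟨g, rfl⟩ := hφs c
          exact ⟨g * d * g⁻¹, hconj g d hdD, by simp⟩
        have hmemc : ∀ a ∈ D, φ a ∈ conjugatesOf (φ d) := by
          intro a ha
          obtain ⟨g, rfl⟩ := (hmemD a).1 ha
          show IsConj (φ d) _
          rw [isConj_iff]
          exact ⟨φ g, by simp⟩
        have hprod : ∀ a ∈ conjugatesOf (φ d), ∀ b ∈ conjugatesOf (φ d),
            ∃ k : ℕ, orderOf (a * b) = 3 ^ k := by
          intro a ha b hb
          obtain ⟨a', ha', rfl⟩ := himg a ha
          obtain ⟨b', hb', rfl⟩ := himg b hb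
          rcases hset.2 a' ha' b' hb' with h | h
          · have hc : Commute a' b' := by
              have h1 : a' * b' * (a' * b') = 1 := by rw [← pow_two]; exact h
              have h2 : a' * b' = (a' * b')⁻¹ := eq_inv_of_mul_eq_one_left h1
              rw [mul_inv_rev, hinv a' ha', hinv b' hb'] at h2
              exact h2
            refine ⟨0, ?_⟩
            rw [hcomm_eq a' ha' b' hb' hc, ← map_mul, hsq b' hb', map_one, orderOf_one, pow_zero]
          · have h3 : (φ a' * φ b') ^ 3 = 1 := by rw [← map_mul, ← map_pow, h, map_one]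
            have := orderOf_dvd_of_pow_eq_one h3
            rcases (Nat.dvd_prime Nat.prime_three).1 this with h1 | h1
            · exact ⟨0, by rw [h1, pow_zero]⟩
            · exact ⟨1, by rw [h1, pow_one]⟩
        have hcore := Cfsg.Agent.S5560.result Nat.prime_three (by norm_num) (φ d) hφd hprod
        -- the quotient is solvable
        have hQsol : Group.IsSolvable (G ⧸ L) := by
          haveI : Fact (Nat.Prime 3) := ⟨Nat.prime_three⟩
          haveI hNn : (Cfsg.pCore 3 (G ⧸ L)).Normal := Cfsg.Agent.Helper14.pCore_normal 3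
          haveI : Group.IsNilpotent (Cfsg.pCore 3 (G ⧸ L)) :=
            (Cfsg.Agent.Helper14.pCore_isPGroup (G := G ⧸ L) 3).isNilpotent
          haveI : Group.IsSolvable (Cfsg.pCore 3 (G ⧸ L)) := inferInstance
          obtain ⟨ψ, hψdef⟩ : ∃ ψ : G →* (G ⧸ L) ⧸ Cfsg.pCore 3 (G ⧸ L),
            ψ = (QuotientGroup.mk' _).comp φ := ⟨_, rfl⟩
          have hψs : Function.Surjective ψ := by
            rw [hψdef]; exact (QuotientGroup.mk'_surjective _).comp hφs
          have hψD : ∀ a ∈ D, ψ a = ψ d := by
            intro a ha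
            have h1 : φ a * φ d ∈ Cfsg.pCore 3 (G ⧸ L) :=
              hcore (φ a) (hmemc a ha) (φ d) (hmemc d hdD)
            have h2 : ψ a * ψ d = 1 := by
              rw [hψdef]
              show QuotientGroup.mk' _ (φ a) * QuotientGroup.mk' _ (φ d) = 1
              rw [← map_mul]; exact (QuotientGroup.eq_one_iff _).2 h1
            have h3 : ψ d * ψ d = 1 := by rw [← map_mul, hsq d hdD, map_one]
            calc ψ a = ψ a * (ψ d * ψ d) := by rw [h3, mul_one]
              _ = (ψ a * ψ d) * ψ d := by rw [mul_assoc]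
              _ = ψ d := by rw [h2, one_mul]
          have hcomm : ∀ x y : (G ⧸ L) ⧸ Cfsg.pCore 3 (G ⧸ L), x * y = y * x := by
            have hz : ∀ g : G, ψ g ∈ Subgroup.zpowers (ψ d) := by
              intro g
              have hg : g ∈ Subgroup.closure D := by rw [hgen]; trivial
              have : Subgroup.closure D ≤ (Subgroup.zpowers (ψ d)).comap ψ := by
                rw [Subgroup.closure_le]
                intro a ha
                show ψ a ∈ Subgroup.zpowers (ψ d)
                rw [hψD a ha]; exact Subgroup.mem_zpowers _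
              exact this hg
            intro x y
            obtain ⟨g, rfl⟩ := hψs x
            obtain ⟨g', rfl⟩ := hψs y
            obtain ⟨m, hm⟩ := Subgroup.mem_zpowers_iff.1 (hz g)
            obtain ⟨n, hn⟩ := Subgroup.mem_zpowers_iff.1 (hz g')
            rw [← hm, ← hn, ← zpow_add, ← zpow_add, add_comm]
          haveI : Group.IsSolvable ((G ⧸ L) ⧸ Cfsg.pCore 3 (G ⧸ L)) := Group.isSolvable_of_comm hcomm
          exact Group.isSolvable_of_ker_le_range (Cfsg.pCore 3 (G ⧸ L)).subtype
            (QuotientGroup.mk' (Cfsg.pCore 3 (G ⧸ L)))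
            (by rw [QuotientGroup.ker_mk', Subgroup.range_subtype])
        have hK : (commutator G).map φ = ⊥ := by
          by_contra hne
          have := Group.IsSolvable.commutator_lt_of_ne_bot hne
          rw [← Subgroup.map_commutator, hperf] at this
          exact lt_irrefl _ this
        rw [← hker]
        exact (Subgroup.map_eq_bot_iff _).1 hK
  exact FISCH.transport (le_antisymm hGle hLle) hLs hLnonab

end Cfsg.Agent.Helper16.F3
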