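import Mathlib
import Cfsg.Agent.Helper16.S3266Defs
import Cfsg.Agent.Helper12.Mat2
import Cfsg.Agent.Helper12.PSL2Basic
import Cfsg.Agent.Helper12.SL2Torus
import Cfsg.Agent.Helper12.SL2Nonsplit

set_option autoImplicit false

namespace Cfsg.Agent.Helper21.S3266POWE

open Cfsg.Agent.Helper12

variable {F : Type*} [Field F]

/-- the cardinality of a finite field of characteristic two is even -/
theorem even_card_of_two_eq_zero [Fintype F] (h2 : (2 : F) = 0) : Even (Fintype.card F) := by
  have : CharP F 2 := CharTwo.of_one_ne_zero_of_two_eq_zero one_ne_zero h2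
  have h := FiniteField.even_card_of_char_two (ringChar.eq F 2)
  exact Nat.even_iff.mpr h

end Cfsg.Agent.Helper21.S3266POWE

namespace Cfsg.Agent.S3266P

open Cfsg.Agent.Helper12 Cfsg.Agent.Helper21.S3266POWE

variable {F : Type*} [Field F]

/-- POWE -/
theorem odd_of_trace_ne_zero [Fintype F] (h2 : (2 : F) = 0) (A C : S2 F)
    (h : (A.1 * C.1).trace ≠ 0) : Odd (orderOf (pr F A * pr F C)) := by
  have hq : Even (Fintype.card F) := even_card_of_two_eq_zero h2
  have hq1 : 1 ≤ Fintype.card F := Fintype.card_pos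
  rw [← map_mul]
  obtain ⟨M, hM⟩ : ∃ M : Matrix (Fin 2) (Fin 2) F, M = A.1 * C.1 := ⟨_, rfl⟩
  have hcoe : ((A * C : S2 F) : Matrix (Fin 2) (Fin 2) F) = M := by
    rw [hM]; rfl
  have hMdet : M.det = 1 := by rw [hM, Matrix.det_mul, A.2, C.2, one_mul]
  rw [← hM] at h
  by_cases hev : ∃ (c : F) (v : Fin 2 → F), v ≠ 0 ∧ M.mulVec v = c • v
  · obtain ⟨l, v, hv, hlv⟩ := hev
    have hroot := root_of_eigenvector M l v hv hlv
    rw [hMdet] at hroot
    -- m = τ - l
    have hlm : l * (M.trace - l) = 1 := by linear_combination -hroot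
    have hl0 : l ≠ 0 := by
      intro h0
      rw [h0, zero_mul] at hlm
      exact zero_ne_one hlm
    have hm0 : M.trace - l ≠ 0 := by
      intro h0
      rw [h0, mul_zero] at hlm
      exact zero_ne_one hlm
    have hne : l ≠ M.trace - l := by
      intro he
      apply h
      have : M.trace = 2 * l := by linear_combination -he
      rw [this, h2, zero_mul]
    have hcay := cayley2 M
    rw [hMdet, one_smul] at hcay
    have hA : M * M = (l + (M.trace - l)) • M - (1 : Matrix (Fin 2) (Fin 2) F) := by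
      rw [hcay]; congr 2; ring
    have hk : l ^ (Fintype.card F - 1) = (M.trace - l) ^ (Fintype.card F - 1) := by
      rw [FiniteField.pow_card_sub_one_eq_one l hl0, FiniteField.pow_card_sub_one_eq_one _ hm0]
    have hpow := pow_isScalar2_of_roots M l (M.trace - l) hlm hne hA (Fintype.card F - 1) hk
    have hpow' : (pr F (A * C)) ^ (Fintype.card F - 1) = 1 :=
      psl2_mk_pow_eq_one_of_scalar (A * C) _ _ (by rw [hcoe]; exact hpow)
    have hd : orderOf (pr F (A * C)) ∣ Fintype.card F - 1 := orderOf_dvd_of_pow_eq_one hpow'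
    have hodd : Odd (Fintype.card F - 1) := Nat.Even.sub_odd hq1 hq odd_one
    exact Odd.of_dvd_nat hodd hd
  · have hno : ∀ (c : F) (v : Fin 2 → F), v ≠ 0 →
        ((A * C : S2 F) : Matrix (Fin 2) (Fin 2) F).mulVec v ≠ c • v := by
      intro c v hv hcv
      rw [hcoe] at hcv
      exact hev ⟨c, v, hv, hcv⟩
    have hpow := sl2_pow_card_add_one_eq_one (A * C) hno
    have hpow' : (pr F (A * C)) ^ (Fintype.card F + 1) = 1 := by
      rw [← map_pow, hpow, map_one]
    have hd : orderOf (pr F (A * C)) ∣ Fintype.card F + 1 := orderOf_dvd_of_pow_eq_one hpow'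
    have hodd : Odd (Fintype.card F + 1) := hq.add_one
    exact Odd.of_dvd_nat hodd hd

end Cfsg.Agent.S3266P
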