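import Mathlib
import Cfsg.Agent.Helper16.S3266Defs
import Cfsg.Agent.Helper12.Mat2
import Cfsg.Agent.Helper12.PSL2Basic

set_option autoImplicit false

namespace Cfsg.Agent.Helper21.S3266POWU

open Cfsg.Agent.Helper12

variable {F : Type*} [Field F]

/-- a group element killed by an odd prime power has odd order -/
theorem odd_orderOf_of_pow_prime {G : Type*} [Group G] (x : G) (p : ℕ) (hp : p.Prime) (hp2 : p ≠ 2)
    (h : x ^ p = 1) : Odd (orderOf x) := by
  have hd : orderOf x ∣ p := orderOf_dvd_of_pow_eq_one h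
  exact Odd.of_dvd_nat (hp.odd_of_ne_two hp2) hd

/-- a unipotent-type matrix: `M = ε + N`, `N² = 0`, `ε = ±1` has `M^p = ε` in odd characteristic `p` -/
theorem pow_char_of_sq_zero (p : ℕ) [Fact p.Prime] [CharP F p]
    (N : Matrix (Fin 2) (Fin 2) F) (hN : N * N = 0) (e : Matrix (Fin 2) (Fin 2) F)
    (hcomm : Commute e N) : (e + N) ^ p = e ^ p := by
  have hp2 : 2 ≤ p := (Fact.out : p.Prime).two_le
  have hNp : N ^ p = 0 := by
    obtain ⟨k, rfl⟩ : ∃ k, p = 2 + k := ⟨p - 2, by omega⟩
    rw [pow_add, pow_two, hN, zero_mul]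
  rw [add_pow_char_of_commute (p := p) hcomm, hNp, add_zero]

end Cfsg.Agent.Helper21.S3266POWU

namespace Cfsg.Agent.S3266P

open Cfsg.Agent.Helper12 Cfsg.Agent.Helper21.S3266POWU

variable {F : Type*} [Field F]

/-- POWU -/
theorem odd_of_trace_sq [Fintype F] (h2 : (2 : F) ≠ 0) (A C : S2 F)
    (h : (A.1 * C.1).trace ^ 2 = 4) : Odd (orderOf (pr F A * pr F C)) := by
  obtain ⟨p, hpc⟩ := CharP.exists F
  have := hpc
  have hp : p.Prime := CharP.char_is_prime F p
  have : Fact p.Prime := ⟨hp⟩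
  have hp2 : p ≠ 2 := by
    intro h
    apply h2
    have := CharP.cast_eq_zero F p
    rw [h] at this
    exact_mod_cast this
  have hpodd : Odd p := hp.odd_of_ne_two hp2
  obtain ⟨M, hM⟩ : ∃ M : Matrix (Fin 2) (Fin 2) F, M = A.1 * C.1 := ⟨_, rfl⟩
  have hMdet : M.det = 1 := by rw [hM, Matrix.det_mul, A.2, C.2, one_mul]
  have hcay := cayley2 M
  rw [hMdet, one_smul] at hcay
  rw [← hM] at h
  have hτ : M.trace = 2 ∨ M.trace = -2 := by
    have : (M.trace - 2) * (M.trace + 2) = 0 := by ring_nf; rw [h]; ring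
    rcases mul_eq_zero.mp this with h' | h'
    · left; exact sub_eq_zero.mp h'
    · right; exact eq_neg_of_add_eq_zero_left h'
  rw [← map_mul]
  have hcoe : ((A * C : S2 F) : Matrix (Fin 2) (Fin 2) F) = M := by
    rw [hM]; rfl
  have hscal : ∃ c : F, ((A * C : S2 F) : Matrix (Fin 2) (Fin 2) F) ^ p
      = c • (1 : Matrix (Fin 2) (Fin 2) F) := by
    rw [hcoe]
    rcases hτ with hτ | hτ
    · refine ⟨1, ?_⟩
      have hN : (M - 1) * (M - 1) = 0 := by
        rw [sub_mul, mul_sub, mul_sub, hcay, hτ]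
        simp only [mul_one, one_mul, two_smul]
        abel
      have := pow_char_of_sq_zero p (M - 1) hN 1 (Commute.one_left _)
      rw [add_sub_cancel, one_pow] at this
      rw [this, one_smul]
    · refine ⟨-1, ?_⟩
      have hN : (M + 1) * (M + 1) = 0 := by
        rw [add_mul, mul_add, mul_add, hcay, hτ]
        simp only [mul_one, one_mul, neg_smul, two_smul]
        abel
      have := pow_char_of_sq_zero p (M + 1) hN (-1) (Commute.neg_one_left _)
      have e1 : (-1 : Matrix (Fin 2) (Fin 2) F) + (M + 1) = M := by abel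
      rw [e1, hpodd.neg_one_pow] at this
      rw [this, neg_smul, one_smul]
  obtain ⟨c, hc⟩ := hscal
  have hpow : (pr F (A * C)) ^ p = 1 := psl2_mk_pow_eq_one_of_scalar (A * C) p c hc
  exact odd_orderOf_of_pow_prime _ p hp hp2 hpow

end Cfsg.Agent.S3266P
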