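import Mathlib
import Cfsg.Prelude.Def_Classical
import Cfsg.Agent.Helper26.S5320.Defs
import Cfsg.Agent.Helper23.S5320EMB
import Cfsg.Agent.Helper23.S5320SWMEM
import Cfsg.Agent.Helper24.S5320CENTER
import Cfsg.Agent.Helper22.S5320SYLQ

/-! S5320 piece ZZ2: the preimage of the centre of `(Q ≀ 2)/Z` is `{1, z, t1, z t1}`. -/

set_option autoImplicit false
set_option linter.unusedSectionVars false
set_option linter.unusedVariables false

namespace Cfsg.Agent.S5320P

open Matrix

variable {F : Type*} [Field F]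

namespace ZZ2

theorem two_ne_zero_of_odd [Fintype F] (hodd : Fintype.card F % 2 = 1) : (2 : F) ≠ 0 := by
  intro h2
  have hch : ringChar F = 2 := by
    have : (ringChar F) ∣ 2 := by
      apply ringChar.dvd
      exact_mod_cast h2
    rcases (Nat.dvd_prime Nat.prime_two).1 this with h | h
    · exfalso
      have := CharP.ringChar_ne_one (R := F)
      exact this h
    · exact h
  have := FiniteField.even_card_of_char_two hch
  omega

theorem one_ne_neg_one (h2 : (2 : F) ≠ 0) : (1 : L F) ≠ -1 := by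
  intro h
  have h00 := congrArg (fun x : L F => (x : M2 F) 0 0) h
  simp only [Matrix.SpecialLinearGroup.coe_one, Matrix.SpecialLinearGroup.coe_neg,
    Matrix.neg_apply, Matrix.one_apply_eq] at h00
  apply h2
  linear_combination h00

/-- an element of `range emb` that is central is `emb (1, 1)` or `emb (-1, -1)`. -/
theorem emb_center {x y : L F} (h : emb (x, y) ∈ Subgroup.center (Gt F)) :
    (x = 1 ∧ y = 1) ∨ (x = -1 ∧ y = -1) := by
  rcases (mem_center_iff _).1 h with h1 | h1
  · left
    have : emb (x, y) = emb ((1 : L F), (1 : L F)) := by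
      rw [h1]
      exact (map_one emb).symm
    have := emb_injective this
    exact ⟨(Prod.mk.inj this).1, (Prod.mk.inj this).2⟩
  · right
    have : emb (x, y) = emb ((-1 : L F), (-1 : L F)) := by
      rw [h1, emb_neg_one]
    have := emb_injective this
    exact ⟨(Prod.mk.inj this).1, (Prod.mk.inj this).2⟩

theorem emb_mem_SW (Q : Subgroup (L F)) {a b : L F} (ha : a ∈ Q) (hb : b ∈ Q) :
    emb (a, b) ∈ SW Q :=
  (mem_SW_iff Q _).2 ⟨a, ha, b, hb, Or.inl rfl⟩

theorem emb_mul (a b c d : L F) : (emb (a, b) : Gt F) * emb (c, d) = emb (a * c, b * d) :=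
  (map_mul emb (a, b) (c, d)).symm

theorem emb_inv (a b : L F) : (emb (a, b) : Gt F)⁻¹ = emb (a⁻¹, b⁻¹) :=
  (map_inv emb (a, b)).symm

end ZZ2

theorem ZZ2.eq [Fintype F] (hodd : Fintype.card F % 2 = 1) (Q : Sylow 2 (L F)) (s : Gt F)
    (hs : s ∈ SW (Q : Subgroup (L F)))
    (h : ∀ r ∈ SW (Q : Subgroup (L F)), s * r * s⁻¹ * r⁻¹ ∈ Subgroup.center (Gt F)) :
    s = 1 ∨ s = zG ∨ s = t1 ∨ s = zG * t1 := by
  have h2 : (2 : F) ≠ 0 := ZZ2.two_ne_zero_of_odd hodd
  have h1n : (1 : L F) ≠ -1 := ZZ2.one_ne_neg_one h2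
  obtain ⟨a, ha, b, hb, hab | hab⟩ := (mem_SW_iff _ s).1 hs
  · -- `s = emb (a, b)`
    have hA : ∀ c ∈ (Q : Subgroup (L F)), a * c = c * a := by
      intro c hc
      have := h (emb (c, 1)) (ZZ2.emb_mem_SW _ hc (Subgroup.one_mem _))
      rw [hab, ZZ2.emb_inv, ZZ2.emb_inv, ZZ2.emb_mul, ZZ2.emb_mul, ZZ2.emb_mul] at this
      rcases ZZ2.emb_center this with ⟨h1, -⟩ | ⟨-, h1⟩
      · calc a * c = (a * c * a⁻¹ * c⁻¹) * (c * a) := by group
          _ = c * a := by rw [h1, one_mul]
      · exfalso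
        apply h1n
        rw [← h1]
        group
    have hB : ∀ c ∈ (Q : Subgroup (L F)), b * c = c * b := by
      intro c hc
      have := h (emb (1, c)) (ZZ2.emb_mem_SW _ (Subgroup.one_mem _) hc)
      rw [hab, ZZ2.emb_inv, ZZ2.emb_inv, ZZ2.emb_mul, ZZ2.emb_mul, ZZ2.emb_mul] at this
      rcases ZZ2.emb_center this with ⟨-, h1⟩ | ⟨h1, -⟩
      · calc b * c = (b * c * b⁻¹ * c⁻¹) * (c * b) := by group
          _ = c * b := by rw [h1, one_mul]
      · exfalso
        apply h1n
        rw [← h1]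
        group
    have hz : (zG : Gt F) * t1 = emb ((1 : L F), (-1 : L F)) := by
      rw [← emb_neg_one, t1, ZZ2.emb_mul]
      congr 2 <;> simp
    rcases SYLQ.center_eq hodd Q ha hA with rfl | rfl <;>
      rcases SYLQ.center_eq hodd Q hb hB with rfl | rfl
    · left
      rw [hab]
      exact map_one emb
    · right; right; right
      rw [hab, hz]
    · right; right; left
      rw [hab]
      rfl
    · right; left
      rw [hab, emb_neg_one]
  · -- `s = emb (a, b) * sig`
    exfalso
    obtain ⟨c, hc, hcc⟩ := SYLQ.exists_ord4 hodd Q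
    have := h (emb (c, 1)) (ZZ2.emb_mem_SW _ hc (Subgroup.one_mem _))
    have e1 : s * emb (c, 1) * s⁻¹ * (emb (c, 1) : Gt F)⁻¹ =
        emb (c⁻¹, b * c * b⁻¹) := by
      have e2 : s * emb (c, 1) * s⁻¹ =
          emb (a, b) * (sig * emb (c, 1) * sig⁻¹) * (emb (a, b) : Gt F)⁻¹ := by
        rw [hab]
        group
      rw [e2, sig_conj, ZZ2.emb_inv, ZZ2.emb_inv, ZZ2.emb_mul, ZZ2.emb_mul, ZZ2.emb_mul]
      congr 2
      · group
      · group
    rw [e1] at this
    have hc1 : c * c = 1 := by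
      rcases ZZ2.emb_center this with ⟨h1, -⟩ | ⟨h1, -⟩
      · have : c = 1 := by simpa using h1
        rw [this, one_mul]
      · have : c = -1 := by
          have := congrArg (fun x => x⁻¹) h1
          simpa using this
        rw [this]
        simp
    exact h1n (hc1.symm.trans hcc)

end Cfsg.Agent.S5320P
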