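import Mathlib
import Cfsg.Prelude.Def_GeometricClasses
import Cfsg.Agent.Helper2.S5886.Defs

/-! # S5886, piece LINES (driver helper2): an `F`-automorphism mapping every `K`-line into a `K`-line is
semilinear (`dim_K V ≥ 2`). -/

set_option autoImplicit false

namespace Cfsg.Agent.S5886P

variable {F K V : Type*} [Field F] [Field K] [Algebra F K]
  [AddCommGroup V] [Module F V] [Module K V] [IsScalarTower F K V]

theorem LINES.mem_Kline (v y : V) : y ∈ Kline (F := F) (K := K) v ↔ ∃ c : K, c • v = y := by
  show y ∈ Submodule.span K {v} ↔ _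
  exact Submodule.mem_span_singleton

/-- a vector outside a given `K`-line (`dim_K V ≥ 2`). -/
theorem LINES.exists_notMem (hm : 2 ≤ Module.finrank K V) (x : V) :
    ∃ z : V, z ∉ Kline (F := F) (K := K) x := by
  by_contra hall
  push Not at hall
  have htop : Submodule.span K {x} = ⊤ := by
    rw [eq_top_iff]
    intro z _
    exact hall z
  have h1 : Module.finrank K V ≤ 1 := by
    rw [← finrank_top K V, ← htop]
    have h2 := finrank_span_finset_le_card (R := K) ({x} : Finset V)
    rw [Set.finrank, Finset.coe_singleton, Finset.card_singleton] at h2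
    exact h2
  omega

/-- LINES : an `F`-automorphism mapping every `K`-line into a `K`-line is semilinear. -/
theorem LINES [Finite K] [Finite V] (hm : 2 ≤ Module.finrank K V) (g : V ≃ₗ[F] V)
    (hg : ∀ (k : K) (x : V), g (k • x) ∈ Kline (F := F) (K := K) (g x)) : g ∈ Nrm F K V := by
  classical
  have hex : ∀ (x : V) (c : K), ∃ c' : K, c' • g x = g (c • x) :=
    fun x c => (LINES.mem_Kline _ _).mp (hg c x)
  choose κ hκ using hex
  have hgne : ∀ x : V, x ≠ 0 → g x ≠ 0 := fun x hx h0 => hx ((LinearEquiv.map_eq_zero_iff g).mp h0)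
  -- independence is preserved
  have hB : ∀ x y : V, x ≠ 0 → g y ∈ Kline (F := F) (K := K) (g x) → y ∈ Kline (F := F) (K := K) x := by
    intro x y hx hy
    obtain ⟨e, he⟩ := (LINES.mem_Kline _ _).mp hy
    have hinj : Function.Injective (κ x) := by
      intro c d hcd
      have h1 : g (c • x) = g (d • x) := by rw [← hκ x c, ← hκ x d, hcd]
      have h2 : c • x = d • x := g.injective h1
      exact smul_left_injective K hx h2
    have hsurj : Function.Surjective (κ x) := Finite.surjective_of_injective hinj
    obtain ⟨c, hc⟩ := hsurj e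
    refine (LINES.mem_Kline _ _).mpr ⟨c, ?_⟩
    apply g.injective
    rw [← hκ x c, hc, he]
  have hC1 : ∀ x y : V, x ≠ 0 → y ∉ Kline (F := F) (K := K) x → ∀ c, κ x c = κ y c := by
    intro x y hx hy c
    have hgy : g y ∉ Kline (F := F) (K := K) (g x) := fun hh => hy (hB x y hx hh)
    have h1 : κ (x + y) c • (g x + g y) = κ x c • g x + κ y c • g y := by
      rw [← map_add, hκ, smul_add, map_add, hκ, hκ]
    have h2 : (κ (x + y) c - κ x c) • g x = (κ y c - κ (x + y) c) • g y := by
      rw [sub_smul, sub_smul, sub_eq_sub_iff_add_eq_add]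
      rw [smul_add] at h1
      rw [h1, add_comm]
    have h3 : κ y c - κ (x + y) c = 0 := by
      by_contra hne
      apply hgy
      refine (LINES.mem_Kline _ _).mpr ⟨(κ y c - κ (x + y) c)⁻¹ * (κ (x + y) c - κ x c), ?_⟩
      rw [mul_smul, h2, smul_smul, inv_mul_cancel₀ hne, one_smul]
    have h4 : κ (x + y) c - κ x c = 0 := by
      rw [h3, zero_smul] at h2
      rcases smul_eq_zero.mp h2 with hh | hh
      · exact hh
      · exact absurd hh (hgne x hx)
    exact (sub_eq_zero.mp h4).symm.trans (sub_eq_zero.mp h3).symm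
  have hC : ∀ x y : V, x ≠ 0 → y ≠ 0 → ∀ c, κ x c = κ y c := by
    intro x y hx hy c
    by_cases hyx : y ∈ Kline (F := F) (K := K) x
    · obtain ⟨z, hz⟩ := LINES.exists_notMem (F := F) hm x
      have hzy : z ∉ Kline (F := F) (K := K) y := by
        intro hzy
        obtain ⟨d, hd⟩ := (LINES.mem_Kline _ _).mp hyx
        obtain ⟨e, he⟩ := (LINES.mem_Kline _ _).mp hzy
        apply hz
        refine (LINES.mem_Kline _ _).mpr ⟨e * d, ?_⟩
        rw [mul_smul, hd, he]
      rw [hC1 x z hx hz c, hC1 y z hy hzy c]
    · exact hC1 x y hx hyx c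
  obtain ⟨x₀, hx₀'⟩ := LINES.exists_notMem (F := F) hm (0 : V)
  have hx₀ : x₀ ≠ 0 := by
    intro hh
    apply hx₀'
    rw [hh]
    exact Submodule.zero_mem _
  have hsemi : ∀ (c : K) (x : V), g (c • x) = κ x₀ c • g x := by
    intro c x
    by_cases hx : x = 0
    · subst hx
      simp
    · rw [← hκ x c, hC x x₀ hx hx₀ c]
  have hcancel : ∀ a b : K, a • g x₀ = b • g x₀ → a = b :=
    fun a b hab => smul_left_injective K (hgne x₀ hx₀) hab
  let σ₀ : K →ₐ[F] K :=
    { toFun := κ x₀
      map_one' := by
        apply hcancel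
        rw [hκ, one_smul, one_smul]
      map_mul' := by
        intro a b
        apply hcancel
        rw [hκ, mul_smul, hsemi a (b • x₀), ← hκ x₀ b, smul_smul]
      map_zero' := by
        apply hcancel
        rw [hκ, zero_smul, zero_smul, map_zero]
      map_add' := by
        intro a b
        apply hcancel
        rw [hκ, add_smul, add_smul, map_add, hκ, hκ]
      commutes' := by
        intro a
        apply hcancel
        rw [hκ, algebraMap_smul, algebraMap_smul, map_smul] }
  have hinj : Function.Injective σ₀ := σ₀.toRingHom.injective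
  have hbij : Function.Bijective σ₀ := ⟨hinj, Finite.surjective_of_injective hinj⟩
  refine ⟨AlgEquiv.ofBijective σ₀ hbij, fun c x => ?_⟩
  show g (c • x) = (AlgEquiv.ofBijective σ₀ hbij) c • g x
  rw [AlgEquiv.ofBijective_apply]
  exact hsemi c x

end Cfsg.Agent.S5886P
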