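import Mathlib
import Cfsg.Prelude.Def_GeometricClasses
import Cfsg.Prelude.Def_Classical
import Cfsg.Agent.Helper6.S5992Defs
import Cfsg.Agent.Helper27.Inv2Defs

/-! Inv2 sub-board, pieces SIEGEL and SIEGELM: the model Siegel involutions (`q` even). -/

set_option autoImplicit false

namespace Cfsg.Agent.Inv2P

namespace SIEGEL

open Matrix

variable {F : Type*} [Field F] (k : ℕ)

theorem revS_mulVec (y : Fin k → F) (i : Fin k) :
    (revS k F *ᵥ y) i = if i ≠ Fin.rev i then y (Fin.rev i) else 0 := by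
  simp only [Matrix.mulVec, dotProduct, revS, Matrix.of_apply]
  by_cases h : i ≠ Fin.rev i
  · rw [if_pos h]
    rw [Finset.sum_eq_single (Fin.rev i)]
    · simp [h]
    · intro j _ hj
      simp [hj]
    · intro h'; exact absurd (Finset.mem_univ _) h'
  · rw [if_neg h]
    apply Finset.sum_eq_zero
    intro j _
    simp [h]

theorem siegelX_mulVec_inl (u : Fin k ⊕ Fin k → F) (i : Fin k) :
    (siegelX k F *ᵥ u) (Sum.inl i) =
      u (Sum.inl i) + (if i ≠ Fin.rev i then u (Sum.inr (Fin.rev i)) else 0) := by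
  rw [siegelX, Matrix.fromBlocks_mulVec]
  simp only [Sum.elim_inl, Pi.add_apply, Matrix.one_mulVec, Function.comp_apply]
  rw [revS_mulVec]
  rfl

theorem siegelX_mulVec_inr (u : Fin k ⊕ Fin k → F) (i : Fin k) :
    (siegelX k F *ᵥ u) (Sum.inr i) = u (Sum.inr i) := by
  rw [siegelX, Matrix.fromBlocks_mulVec]
  simp

theorem sub_one_mulVec_inl (u : Fin k ⊕ Fin k → F) (i : Fin k) :
    ((siegelX k F - 1) *ᵥ u) (Sum.inl i) =
      (if i ≠ Fin.rev i then u (Sum.inr (Fin.rev i)) else 0) := by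
  rw [Matrix.sub_mulVec, Matrix.one_mulVec, Pi.sub_apply, siegelX_mulVec_inl]
  ring

theorem sub_one_mulVec_inr (u : Fin k ⊕ Fin k → F) (i : Fin k) :
    ((siegelX k F - 1) *ᵥ u) (Sum.inr i) = 0 := by
  rw [Matrix.sub_mulVec, Matrix.one_mulVec, Pi.sub_apply, siegelX_mulVec_inr]
  ring

/-- the cross term vanishes in characteristic two -/
theorem cross_zero (h2 : (2 : F) = 0) (y : Fin k → F) :
    ∑ i : Fin k, (if i ≠ Fin.rev i then y (Fin.rev i) else 0) * y i = 0 := by
  apply Finset.sum_involution (fun i _ => Fin.rev i)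
  · intro i _
    by_cases h : i = Fin.rev i
    · have h' : ¬ (Fin.rev i ≠ Fin.rev (Fin.rev i)) := by
        rw [Fin.rev_rev]; exact fun hh => hh h.symm
      have h1 : ¬ (i ≠ Fin.rev i) := fun hh => hh h
      rw [if_neg h1, if_neg h', zero_mul, zero_mul, add_zero]
    · have h' : Fin.rev i ≠ Fin.rev (Fin.rev i) := by
        rw [Fin.rev_rev]; exact fun hh => h hh.symm
      rw [if_pos h, if_pos h', Fin.rev_rev]
      have : y (Fin.rev i) * y i + y i * y (Fin.rev i) = 2 * (y i * y (Fin.rev i)) := by ring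
      rw [this, h2, zero_mul]
  · intro i _ hne h
    apply hne
    have : ¬ (i ≠ Fin.rev i) := fun hh => hh h.symm
    rw [if_neg this, zero_mul]
  · intro i _; exact Finset.mem_univ _
  · intro i _; exact Fin.rev_rev i

theorem card_fixed : Fintype.card {j : Fin k // j = Fin.rev j} = k % 2 := by
  rcases Nat.even_or_odd' k with ⟨c, hc | hc⟩
  · have hempty : IsEmpty {j : Fin k // j = Fin.rev j} := by
      constructor
      rintro ⟨j, hj⟩
      have := congrArg Fin.val hj
      rw [Fin.val_rev] at this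
      omega
    rw [Fintype.card_eq_zero_iff.mpr hempty]
    omega
  · have hck : c < k := by omega
    have huniq : ∀ j : Fin k, j = Fin.rev j ↔ j = ⟨c, hck⟩ := by
      intro j
      constructor
      · intro hj
        have := congrArg Fin.val hj
        rw [Fin.val_rev] at this
        apply Fin.ext
        simp only
        omega
      · rintro rfl
        apply Fin.ext
        rw [Fin.val_rev]
        simp only
        omega
    have : Fintype.card {j : Fin k // j = Fin.rev j} = Fintype.card {j : Fin k // j = ⟨c, hck⟩} :=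
      Fintype.card_congr (Equiv.subtypeEquivRight huniq)
    rw [this, Fintype.card_subtype_eq]
    omega

theorem card_moved : Fintype.card {j : Fin k // j ≠ Fin.rev j} = k - k % 2 := by
  have h := Fintype.card_subtype_compl (fun j : Fin k => j = Fin.rev j)
  rw [card_fixed, Fintype.card_fin] at h
  exact h

/-- the projection onto the moved `y`-coordinates -/
def proj (F : Type*) [Field F] (k : ℕ) :
    (Fin k ⊕ Fin k → F) →ₗ[F] ({j : Fin k // j ≠ Fin.rev j} → F) :=
  LinearMap.funLeft F F (fun j : {j : Fin k // j ≠ Fin.rev j} => (Sum.inr j.1 : Fin k ⊕ Fin k))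

theorem proj_surjective : Function.Surjective (proj F k) := by
  apply LinearMap.funLeft_surjective_of_injective
  intro a b h
  exact Subtype.ext (Sum.inr_injective h)

theorem ker_eq : LinearMap.ker (Matrix.toLin' (siegelX k F) - 1) = LinearMap.ker (proj F k) := by
  ext u
  simp only [LinearMap.mem_ker]
  have h1 : (Matrix.toLin' (siegelX k F) - 1) u = (siegelX k F - 1) *ᵥ u := by
    rw [LinearMap.sub_apply, Matrix.toLin'_apply, Matrix.sub_mulVec, Matrix.one_mulVec]
    rfl
  rw [h1]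
  constructor
  · intro h
    ext ⟨j, hj⟩
    have h3 := congrFun h (Sum.inl (Fin.rev j))
    rw [sub_one_mulVec_inl, Fin.rev_rev] at h3
    have h4 : Fin.rev j ≠ j := fun hh => hj hh.symm
    rw [if_pos h4] at h3
    simpa [proj, LinearMap.funLeft_apply] using h3
  · intro h
    ext r
    rcases r with i | i
    · rw [sub_one_mulVec_inl]
      by_cases hi : i ≠ Fin.rev i
      · rw [if_pos hi]
        have hj : Fin.rev i ≠ Fin.rev (Fin.rev i) := by
          rw [Fin.rev_rev]; exact fun hh => hi hh.symm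
        have := congrFun h ⟨Fin.rev i, hj⟩
        simpa [proj, LinearMap.funLeft_apply] using this
      · rw [if_neg hi]; rfl
    · rw [sub_one_mulVec_inr]; rfl

theorem finrank_ker :
    Module.finrank F (LinearMap.ker (Matrix.toLin' (siegelX k F) - 1)) = k + k % 2 := by
  rw [ker_eq]
  have h := LinearMap.finrank_range_add_finrank_ker (proj F k)
  rw [LinearMap.range_eq_top.mpr (proj_surjective k), finrank_top, Module.finrank_fintype_fun_eq_card,
    Module.finrank_fintype_fun_eq_card, card_moved, Fintype.card_sum, Fintype.card_fin] at h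
  have : k % 2 ≤ k := by
    rcases Nat.eq_zero_or_pos k with rfl | hk
    · simp
    · have := Nat.mod_lt k (by norm_num : 0 < 2); omega
  omega

end SIEGEL

open Matrix in
/-- SIEGEL: the Siegel involution of `Σ xᵢ yᵢ` -/
theorem siegel_facts {F : Type*} [Field F] (h2 : (2 : F) = 0) (k : ℕ) :
    siegelX k F * siegelX k F = 1 ∧
    (∀ u : Fin k ⊕ Fin k → F, Cfsg.quadFormPlus k F (siegelX k F *ᵥ u) = Cfsg.quadFormPlus k F u) ∧
    (∀ u : Fin k ⊕ Fin k → F, Cfsg.quadFormPlus k F ((siegelX k F - 1) *ᵥ u) = 0) ∧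
    Module.finrank F (LinearMap.ker (Matrix.toLin' (siegelX k F) - 1)) = k + k % 2 := by
  refine ⟨?_, ?_, ?_, SIEGEL.finrank_ker k⟩
  · rw [siegelX, Matrix.fromBlocks_multiply]
    have : (revS k F) + (revS k F) = 0 := by
      rw [← two_smul F (revS k F), h2, zero_smul]
    simp [this, ← Matrix.fromBlocks_one]
  · intro u
    simp only [Cfsg.quadFormPlus, SIEGEL.siegelX_mulVec_inl, SIEGEL.siegelX_mulVec_inr, add_mul,
      Finset.sum_add_distrib]
    rw [SIEGEL.cross_zero k h2 (fun i => u (Sum.inr i)), add_zero]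
  · intro u
    simp only [Cfsg.quadFormPlus, SIEGEL.sub_one_mulVec_inr, mul_zero, Finset.sum_const_zero]

namespace SIEGELM

open Matrix

variable {F : Type*} [Field F] (k : ℕ)

theorem mulVec_inl (u : (Fin k ⊕ Fin k) ⊕ Fin 2 → F) (r : Fin k ⊕ Fin k) :
    (siegelXM k F *ᵥ u) (Sum.inl r) = (siegelX k F *ᵥ (u ∘ Sum.inl)) r := by
  rw [siegelXM, Matrix.fromBlocks_mulVec]
  simp

theorem mulVec_inr (u : (Fin k ⊕ Fin k) ⊕ Fin 2 → F) (r : Fin 2) :
    (siegelXM k F *ᵥ u) (Sum.inr r) = u (Sum.inr r) := by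
  rw [siegelXM, Matrix.fromBlocks_mulVec]
  simp

theorem sub_one_mulVec_inl (u : (Fin k ⊕ Fin k) ⊕ Fin 2 → F) (r : Fin k ⊕ Fin k) :
    ((siegelXM k F - 1) *ᵥ u) (Sum.inl r) = ((siegelX k F - 1) *ᵥ (u ∘ Sum.inl)) r := by
  rw [Matrix.sub_mulVec, Matrix.one_mulVec, Pi.sub_apply, mulVec_inl, Matrix.sub_mulVec,
    Matrix.one_mulVec, Pi.sub_apply]
  rfl

theorem sub_one_mulVec_inr (u : (Fin k ⊕ Fin k) ⊕ Fin 2 → F) (r : Fin 2) :
    ((siegelXM k F - 1) *ᵥ u) (Sum.inr r) = 0 := by
  rw [Matrix.sub_mulVec, Matrix.one_mulVec, Pi.sub_apply, mulVec_inr]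
  ring

theorem quadFormMinus_eq (a b : F) (v : (Fin k ⊕ Fin k) ⊕ Fin 2 → F) :
    Cfsg.quadFormMinus k F a b v = Cfsg.quadFormPlus k F (v ∘ Sum.inl) +
      (v (Sum.inr 0) ^ 2 + a * v (Sum.inr 0) * v (Sum.inr 1) + b * v (Sum.inr 1) ^ 2) := rfl

/-- the projection onto the moved `y`-coordinates -/
def projM (F : Type*) [Field F] (k : ℕ) :
    ((Fin k ⊕ Fin k) ⊕ Fin 2 → F) →ₗ[F] ({j : Fin k // j ≠ Fin.rev j} → F) :=
  LinearMap.funLeft F F (fun j : {j : Fin k // j ≠ Fin.rev j} =>
    (Sum.inl (Sum.inr j.1) : (Fin k ⊕ Fin k) ⊕ Fin 2))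

theorem projM_surjective : Function.Surjective (projM F k) := by
  apply LinearMap.funLeft_surjective_of_injective
  intro a b h
  exact Subtype.ext (Sum.inr_injective (Sum.inl_injective h))

theorem ker_eq :
    LinearMap.ker (Matrix.toLin' (siegelXM k F) - 1) = LinearMap.ker (projM F k) := by
  ext u
  simp only [LinearMap.mem_ker]
  have h1 : (Matrix.toLin' (siegelXM k F) - 1) u = (siegelXM k F - 1) *ᵥ u := by
    rw [LinearMap.sub_apply, Matrix.toLin'_apply, Matrix.sub_mulVec, Matrix.one_mulVec]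
    rfl
  have h2 : (Matrix.toLin' (siegelX k F) - 1) (u ∘ Sum.inl) = (siegelX k F - 1) *ᵥ (u ∘ Sum.inl) := by
    rw [LinearMap.sub_apply, Matrix.toLin'_apply, Matrix.sub_mulVec, Matrix.one_mulVec]
    rfl
  have h3 : (u ∘ Sum.inl) ∈ LinearMap.ker (Matrix.toLin' (siegelX k F) - 1) ↔
      (u ∘ Sum.inl) ∈ LinearMap.ker (SIEGEL.proj F k) := by rw [SIEGEL.ker_eq]
  simp only [LinearMap.mem_ker] at h3
  rw [h1]
  have h4 : (siegelXM k F - 1) *ᵥ u = 0 ↔ (siegelX k F - 1) *ᵥ (u ∘ Sum.inl) = 0 := by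
    constructor
    · intro h
      ext r
      rw [← sub_one_mulVec_inl, h]; rfl
    · intro h
      ext r
      rcases r with r | r
      · rw [sub_one_mulVec_inl, h]; rfl
      · rw [sub_one_mulVec_inr]; rfl
  rw [h4, ← h2, h3]
  constructor
  · intro h
    ext j
    exact congrFun h j
  · intro h
    ext j
    exact congrFun h j

theorem finrank_ker :
    Module.finrank F (LinearMap.ker (Matrix.toLin' (siegelXM k F) - 1)) = k + k % 2 + 2 := by
  rw [ker_eq]
  have h := LinearMap.finrank_range_add_finrank_ker (projM F k)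
  rw [LinearMap.range_eq_top.mpr (projM_surjective k), finrank_top,
    Module.finrank_fintype_fun_eq_card, Module.finrank_fintype_fun_eq_card, SIEGEL.card_moved,
    Fintype.card_sum, Fintype.card_sum, Fintype.card_fin, Fintype.card_fin] at h
  have : k % 2 ≤ k := by
    rcases Nat.eq_zero_or_pos k with rfl | hk
    · simp
    · have := Nat.mod_lt k (by norm_num : 0 < 2); omega
  omega

end SIEGELM

open Matrix in
/-- SIEGELM: the same on the minus-type space -/
theorem siegelM_facts {F : Type*} [Field F] (h2 : (2 : F) = 0) (k : ℕ) (a b : F) :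
    siegelXM k F * siegelXM k F = 1 ∧
    (∀ u : (Fin k ⊕ Fin k) ⊕ Fin 2 → F,
      Cfsg.quadFormMinus k F a b (siegelXM k F *ᵥ u) = Cfsg.quadFormMinus k F a b u) ∧
    (∀ u : (Fin k ⊕ Fin k) ⊕ Fin 2 → F,
      Cfsg.quadFormMinus k F a b ((siegelXM k F - 1) *ᵥ u) = 0) ∧
    Module.finrank F (LinearMap.ker (Matrix.toLin' (siegelXM k F) - 1)) = k + k % 2 + 2 := by
  obtain ⟨hsq, hiso, hN, -⟩ := siegel_facts h2 k
  refine ⟨?_, ?_, ?_, SIEGELM.finrank_ker k⟩
  · rw [siegelXM, Matrix.fromBlocks_multiply]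
    simp [hsq, ← Matrix.fromBlocks_one]
  · intro u
    rw [SIEGELM.quadFormMinus_eq, SIEGELM.quadFormMinus_eq]
    have h1 : (siegelXM k F *ᵥ u) ∘ Sum.inl = siegelX k F *ᵥ (u ∘ Sum.inl) := by
      ext r; exact SIEGELM.mulVec_inl k u r
    rw [h1, hiso, SIEGELM.mulVec_inr, SIEGELM.mulVec_inr]
  · intro u
    rw [SIEGELM.quadFormMinus_eq]
    have h1 : ((siegelXM k F - 1) *ᵥ u) ∘ Sum.inl = (siegelX k F - 1) *ᵥ (u ∘ Sum.inl) := by
      ext r; exact SIEGELM.sub_one_mulVec_inl k u r
    rw [h1, hN, SIEGELM.sub_one_mulVec_inr, SIEGELM.sub_one_mulVec_inr]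
    ring

end Cfsg.Agent.Inv2P
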