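import Mathlib
import Cfsg.Agent.Helper17.S2560SDefs
import Cfsg.Agent.Helper28.Spin5
import Cfsg.Agent.Helper26.S2560THNEGCORE

/-! S2560 chapter (S), piece THNEG: determinant and spinor sign of `(-1)_A ⊕ 1`, from THNEGCORE. -/

set_option autoImplicit false

namespace Cfsg.Agent.S2560P

open Polynomial Cfsg.Agent.Helper2.SympInvol Cfsg.Agent.S2676P Cfsg.Agent.S2478P Cfsg.Agent.S2481P
  Cfsg.Agent.S2482P Cfsg.Agent.S2558P Cfsg.Agent.Helper28.Spin

universe u

variable {F : Type u} [Field F] [Fintype F] {ι : Type} [Fintype ι] [DecidableEq ι]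

theorem THNEG.detHom_eq (h2 : (2 : F) ≠ 0) (Q : QuadraticForm F (ι → F))
    (B : LinearMap.BilinForm F (ι → F)) (hQB : IsPolar ⇑Q B) (m : ℕ) (v : Fin m → ι → F)
    (hd : (Matrix.of fun i j => B (v i) (v j)).det ≠ 0) (x : Cfsg.isometryGroup F ⇑Q)
    (hx : ∀ i, Matrix.toLin' ((x : Matrix.GeneralLinearGroup ι F) : Matrix ι ι F) (v i) = - v i)
    (hxo : ∀ u, (∀ i, B u (v i) = 0) →
      Matrix.toLin' ((x : Matrix.GeneralLinearGroup ι F) : Matrix ι ι F) u = u) :
    detHom Q x = (-1) ^ m := by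
  obtain ⟨L, hL, hlen, -⟩ := THNEGCORE.exists_prodO h2 Q B hQB m v hd x hx hxo
  rw [hL, detHom_prodO, hlen]

/-- the sign of a product of reflections, in terms of parities -/
theorem THNEG.theta_prodO (h2 : (2 : F) ≠ 0) (Q : QuadraticForm F (ι → F)) (L : List (NS Q)) :
    theta Q (prodO Q L) =
      cPlus Q (theta Q) ^ (nPlus Q L % 2) * cMinus Q (theta Q) ^ (nMinus Q L % 2) := by
  rw [hom_prodO Q (theta Q) h2, Int.units_pow_eq_pow_mod_two (cPlus Q (theta Q)),
    Int.units_pow_eq_pow_mod_two (cMinus Q (theta Q))]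

theorem THNEG.theta_prodO_eq_iff (h2 : (2 : F) ≠ 0) (Q : QuadraticForm F (ι → F)) (L L' : List (NS Q))
    (hlen : L.length = L'.length) :
    theta Q (prodO Q L) = theta Q (prodO Q L') ↔ (Even (nMinus Q L) ↔ Even (nMinus Q L')) := by
  classical
  have e1 := nPlus_add_nMinus Q L
  have e2 := nPlus_add_nMinus Q L'
  rw [THNEG.theta_prodO h2, THNEG.theta_prodO h2]
  constructor
  · intro h
    by_contra hne
    -- the parities differ
    have hM : nMinus Q L % 2 ≠ nMinus Q L' % 2 := by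
      intro h'
      apply hne
      rw [Nat.even_iff, Nat.even_iff, h']
    have hP : nPlus Q L % 2 ≠ nPlus Q L' % 2 := by omega
    have hp0 : 0 < nPlus Q L ∨ 0 < nPlus Q L' := by omega
    have hm0 : 0 < nMinus Q L ∨ 0 < nMinus Q L' := by omega
    obtain ⟨vp, hvp⟩ : ∃ vp : NS Q, IsSquare (Q vp.1) := by
      rcases hp0 with h0 | h0
      · obtain ⟨vp, -, hvp⟩ := List.countP_pos_iff.1 h0
        exact ⟨vp, by simpa using hvp⟩
      · obtain ⟨vp, -, hvp⟩ := List.countP_pos_iff.1 h0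
        exact ⟨vp, by simpa using hvp⟩
    obtain ⟨vm, hvm⟩ : ∃ vm : NS Q, ¬ IsSquare (Q vm.1) := by
      rcases hm0 with h0 | h0
      · obtain ⟨vm, -, hvm⟩ := List.countP_pos_iff.1 h0
        exact ⟨vm, by simpa using hvm⟩
      · obtain ⟨vm, -, hvm⟩ := List.countP_pos_iff.1 h0
        exact ⟨vm, by simpa using hvm⟩
    have hprod : cPlus Q (theta Q) * cMinus Q (theta Q) = -1 := by
      rw [← cPlus_eq Q (theta Q) h2 vp hvp, ← cMinus_eq Q (theta Q) h2 vm hvm]
      apply theta_mul_of_not_isSquare Q h2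
      rw [isSquare_mul_iff h2 vp.2 vm.2]
      intro h
      exact hvm (h.1 hvp)
    have a1 : nPlus Q L % 2 = 0 ∨ nPlus Q L % 2 = 1 := by omega
    have a2 : nPlus Q L' % 2 = 0 ∨ nPlus Q L' % 2 = 1 := by omega
    have a3 : nMinus Q L % 2 = 0 ∨ nMinus Q L % 2 = 1 := by omega
    have a4 : nMinus Q L' % 2 = 0 ∨ nMinus Q L' % 2 = 1 := by omega
    rcases Int.units_eq_one_or (cPlus Q (theta Q)) with c1 | c1 <;>
      rcases Int.units_eq_one_or (cMinus Q (theta Q)) with c2 | c2 <;>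
      rw [c1, c2] at hprod h <;>
      rcases a1 with a1 | a1 <;> rcases a2 with a2 | a2 <;> rcases a3 with a3 | a3 <;>
      rcases a4 with a4 | a4 <;> rw [a1, a2, a3, a4] at h <;>
      first
        | exact absurd hprod (by decide)
        | exact absurd h (by decide)
        | omega
  · intro h
    have hM : nMinus Q L % 2 = nMinus Q L' % 2 := by
      rw [Nat.even_iff, Nat.even_iff] at h
      omega
    have hP : nPlus Q L % 2 = nPlus Q L' % 2 := by omega
    rw [hM, hP]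

theorem THNEG.theta_eq_iff (h2 : (2 : F) ≠ 0) (Q : QuadraticForm F (ι → F))
    (B : LinearMap.BilinForm F (ι → F)) (hQB : IsPolar ⇑Q B) (m : ℕ) (v v' : Fin m → ι → F)
    (hd : (Matrix.of fun i j => B (v i) (v j)).det ≠ 0)
    (hd' : (Matrix.of fun i j => B (v' i) (v' j)).det ≠ 0) (x x' : Cfsg.isometryGroup F ⇑Q)
    (hx : ∀ i, Matrix.toLin' ((x : Matrix.GeneralLinearGroup ι F) : Matrix ι ι F) (v i) = - v i)
    (hxo : ∀ u, (∀ i, B u (v i) = 0) →
      Matrix.toLin' ((x : Matrix.GeneralLinearGroup ι F) : Matrix ι ι F) u = u)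
    (hx' : ∀ i, Matrix.toLin' ((x' : Matrix.GeneralLinearGroup ι F) : Matrix ι ι F) (v' i) = - v' i)
    (hxo' : ∀ u, (∀ i, B u (v' i) = 0) →
      Matrix.toLin' ((x' : Matrix.GeneralLinearGroup ι F) : Matrix ι ι F) u = u) :
    theta Q x = theta Q x' ↔
      IsSquare ((Matrix.of fun i j => B (v i) (v j)).det * (Matrix.of fun i j => B (v' i) (v' j)).det) := by
  obtain ⟨L, hL, hlen, hsq⟩ := THNEGCORE.exists_prodO h2 Q B hQB m v hd x hx hxo
  obtain ⟨L', hL', hlen', hsq'⟩ := THNEGCORE.exists_prodO h2 Q B hQB m v' hd' x' hx' hxo'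
  rw [hL, hL', THNEG.theta_prodO_eq_iff h2 Q L L' (hlen.trans hlen'.symm)]
  rw [isSquare_mul_iff h2 (normProd_ne_zero Q L) hd, isSquare_normProd_iff Q h2] at hsq
  rw [isSquare_mul_iff h2 (normProd_ne_zero Q L') hd', isSquare_normProd_iff Q h2] at hsq'
  rw [isSquare_mul_iff h2 hd hd', ← hsq, ← hsq']

end Cfsg.Agent.S2560P
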