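import Mathlib
import Cfsg.Agent.Helper27.S3001QDefs
import Cfsg.Agent.Helper27.S3001G1

/-! S3001 quotient dictionary, board `s3001qpieces`, piece G4 (helper21): injectivity of `hat` below a complement. -/

set_option autoImplicit false
set_option linter.unusedVariables false

namespace Cfsg.Agent.S3001P

open Cfsg.Agent.S2789P Cfsg.Agent.S2999P Cfsg.Agent.S3000P
open scoped Pointwise

universe u

variable {G : Type u} [Group G]

theorem hat_eq_bot_iff {R X : Subgroup G} (hX : X ≤ NR R) : hat R X = ⊥ ↔ X ≤ R := by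
  constructor
  · intro h x hx
    have h1 : qpi R ⟨x, hX hx⟩ ∈ hat R X := qpi_mem_hat ⟨x, hX hx⟩ hx
    rw [h, Subgroup.mem_bot] at h1
    exact (qpi_eq_one_iff _).1 h1
  · intro h
    rw [Subgroup.eq_bot_iff_forall]
    intro y hy
    obtain ⟨x, hx, rfl⟩ := mem_hat.1 hy
    exact (qpi_eq_one_iff x).2 (h hx)

theorem hat_le_hat_iff {R X Y : Subgroup G} (hX : X ≤ NR R) (hY : Y ≤ NR R) : hat R X ≤ hat R Y ↔ X ≤ Y ⊔ R := by
  constructor
  · intro h x hx
    have h1 : qpi R ⟨x, hX hx⟩ ∈ hat R Y := h (qpi_mem_hat ⟨x, hX hx⟩ hx)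
    obtain ⟨y, hy, hyx⟩ := mem_hat.1 h1
    have h2 : (y : G)⁻¹ * x ∈ R := (qpi_eq_iff y ⟨x, hX hx⟩).1 hyx
    have : x = (y : G) * ((y : G)⁻¹ * x) := by group
    rw [this]
    exact Subgroup.mul_mem_sup hy h2
  · intro h z hz
    obtain ⟨x, hx, rfl⟩ := mem_hat.1 hz
    have h1 : (x : G) ∈ Y ⊔ R := h hx
    have h2 : ((Y ⊔ R : Subgroup G) : Set G) = (Y : Set G) * (R : Set G) :=
      Subgroup.coe_mul_of_left_le_normalizer_right Y R hY
    have h3 : (x : G) ∈ (Y : Set G) * (R : Set G) := by rw [← h2]; exact h1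
    obtain ⟨y, hy, r, hr, hyr⟩ := Set.mem_mul.1 h3
    have h4 : qpi R ⟨y, hY hy⟩ = qpi R x := by
      rw [qpi_eq_iff]
      have : y⁻¹ * (x : G) = r := by rw [← hyr]; group
      change y⁻¹ * (x : G) ∈ R
      rw [this]; exact hr
    rw [← h4]
    exact qpi_mem_hat ⟨y, hY hy⟩ hy

theorem hat_inj_on {R P X Y : Subgroup G} (hP : P ≤ NR R) (hPR : P ⊓ R = ⊥) (hX : X ≤ P) (hY : Y ≤ P)
    (h : hat R X = hat R Y) : X = Y := by
  have key : ∀ X Y : Subgroup G, X ≤ P → Y ≤ P → hat R X ≤ hat R Y → X ≤ Y := by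
    intro X Y hX hY hle x hx
    have h1 : x ∈ Y ⊔ R := (hat_le_hat_iff (hX.trans hP) (hY.trans hP)).1 hle hx
    have h2 : ((Y ⊔ R : Subgroup G) : Set G) = (Y : Set G) * (R : Set G) :=
      Subgroup.coe_mul_of_left_le_normalizer_right Y R (hY.trans hP)
    have h3 : x ∈ (Y : Set G) * (R : Set G) := by rw [← h2]; exact h1
    obtain ⟨y, hy, r, hr, hyr⟩ := Set.mem_mul.1 h3
    have hr' : r = y⁻¹ * x := by rw [← hyr]; group
    have hrP : r ∈ P := by
      rw [hr']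
      exact P.mul_mem (P.inv_mem (hY hy)) (hX hx)
    have hr1 : r = 1 := by
      have : r ∈ P ⊓ R := ⟨hrP, hr⟩
      rw [hPR, Subgroup.mem_bot] at this
      exact this
    rw [← hyr, hr1, mul_one]
    exact hy
  exact le_antisymm (key X Y hX hY h.le) (key Y X hY hX h.ge)

/-- every subgroup of `hat R P` is the `hat` of a (unique) subgroup of `P` -/
theorem hat_P_inf_pre {R P : Subgroup G} (hP : P ≤ NR R) {Y : Subgroup (QG R)} (hY : Y ≤ hat R P) :
    hat R (P ⊓ pre R Y) = Y := by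
  apply le_antisymm
  · intro z hz
    obtain ⟨x, hx, rfl⟩ := mem_hat.1 hz
    obtain ⟨h, hxY⟩ := mem_pre.1 hx.2
    exact hxY
  · intro y hy
    obtain ⟨x, hx, rfl⟩ := mem_hat.1 (hY hy)
    refine qpi_mem_hat x ⟨hx, ?_⟩
    exact mem_pre.2 ⟨x.2, hy⟩

end Cfsg.Agent.S3001P
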