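import Mathlib
import Cfsg.Agent.Helper20.S3912QF3

/-! s3913pieces QG2 (helper21): a subgroup of a quaternion group of order `8` is cyclic or everything. -/

set_option autoImplicit false

namespace Cfsg.Agent.S3913P

/-- QG2 (M): a subgroup of a quaternion group of order `8` is cyclic or everything. -/
theorem QG2 {P : Type*} [Group P] (e : P ≃* QuaternionGroup 2) (T : Subgroup P) :
    IsCyclic ↥T ∨ T = ⊤ := by
  classical
  haveI : Finite P := Finite.of_equiv _ e.symm.toEquiv
  have hP : Nat.card P = 8 := by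
    rw [Nat.card_congr e.toEquiv, Nat.card_eq_fintype_card, QuaternionGroup.card]
  have hdvd : Nat.card ↥T ∣ 8 := by
    rw [← hP]; exact Subgroup.card_subgroup_dvd_card T
  have hle : Nat.card ↥T ≤ 8 := Nat.le_of_dvd (by norm_num) hdvd
  have hpos : 0 < Nat.card ↥T := Nat.card_pos
  have hcases : Nat.card ↥T = 1 ∨ Nat.card ↥T = 2 ∨ Nat.card ↥T = 4 ∨ Nat.card ↥T = 8 := by
    interval_cases h : Nat.card ↥T <;> simp_all
  rcases hcases with h1 | h2 | h4 | h8
  · left
    haveI : Subsingleton ↥T := (Nat.card_eq_one_iff_unique.1 h1).1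
    exact isCyclic_of_subsingleton
  · left
    haveI : Fact (Nat.Prime 2) := ⟨Nat.prime_two⟩
    exact isCyclic_of_prime_card h2
  · left
    -- an element of order `4`
    have hex : ∃ x : ↥T, orderOf x = 4 := by
      by_contra hno
      have hall : ∀ x : ↥T, x ≠ 1 → orderOf x = 2 := by
        intro x hx
        have hd : orderOf x ∣ 4 := by
          rw [← h4]; exact orderOf_dvd_natCard x
        have hle4 : orderOf x ≤ 4 := Nat.le_of_dvd (by norm_num) hd
        have hpos' : 0 < orderOf x := orderOf_pos x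
        have hne1 : orderOf x ≠ 1 := fun h => hx (orderOf_eq_one_iff.1 h)
        have hne4 : orderOf x ≠ 4 := fun h => hno ⟨x, h⟩
        interval_cases h : orderOf x <;> simp_all
      haveI : Fintype ↥T := Fintype.ofFinite _
      have h3 : 2 < Fintype.card ↥T := by
        rw [← Nat.card_eq_fintype_card, h4]; norm_num
      rw [Fintype.two_lt_card_iff] at h3
      obtain ⟨a, b, c, hab, hac, hbc⟩ := h3
      obtain ⟨s, t, hs1, ht1, hst⟩ : ∃ s t : ↥T, s ≠ 1 ∧ t ≠ 1 ∧ s ≠ t := by
        by_cases ha : a = 1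
        · exact ⟨b, c, fun h => hab (ha.trans h.symm), fun h => hac (ha.trans h.symm), hbc⟩
        · by_cases hb : b = 1
          · exact ⟨a, c, ha, fun h => hbc (hb.trans h.symm), hac⟩
          · exact ⟨a, b, ha, hb, hab⟩
      have hs2 : orderOf (s : P) = 2 := by rw [Subgroup.orderOf_coe]; exact hall s hs1
      have ht2 : orderOf (t : P) = 2 := by rw [Subgroup.orderOf_coe]; exact hall t ht1
      have := Cfsg.Agent.S3912P.QF3 2 (by norm_num) e (s : P) (t : P) hs2 ht2
      exact hst (Subtype.ext this)
    obtain ⟨x, hx⟩ := hex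
    exact isCyclic_of_orderOf_eq_card x (by rw [hx, h4])
  · right
    apply Subgroup.eq_top_of_card_eq
    rw [h8, hP]

end Cfsg.Agent.S3913P
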