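import Mathlib
import Cfsg.Agent.Helper26.S3911Defs
import Cfsg.Agent.Helper17.S3913Defs
import Cfsg.Agent.S0001

/-! s3913pieces SZC (helper21, hedge): Schur–Zassenhaus conjugacy for two subgroups of equal order prime to `|N|`
with `A ⊔ N = B ⊔ N`. -/

set_option autoImplicit false

namespace Cfsg.Agent.S3913P

open Cfsg.Agent.S3911P Cfsg.Agent.S3913P

open scoped Pointwise

/-- inside `H = C ⊔ N` the subgroups `N` and `C` are complements when their orders are coprime. -/
theorem SZC_aux_compl {X : Type*} [Group X] [Finite X] (N C H : Subgroup X) [N.Normal]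
    (hcop : (Nat.card ↥C).Coprime (Nat.card ↥N)) (hH : C ⊔ N = H) :
    (N.subgroupOf H).IsComplement' (C.subgroupOf H) := by
  have hNH : N ≤ H := hH ▸ le_sup_right
  have hCH : C ≤ H := hH ▸ le_sup_left
  apply Subgroup.isComplement'_of_disjoint_and_mul_eq_univ
  · apply Subgroup.disjoint_of_coprime_natCard
    rw [Nat.card_congr (Subgroup.subgroupOfEquivOfLe hNH).toEquiv,
      Nat.card_congr (Subgroup.subgroupOfEquivOfLe hCH).toEquiv]
    exact hcop.symm
  · rw [Set.eq_univ_iff_forall]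
    intro x
    have hx : (x : X) ∈ N ⊔ C := by rw [sup_comm, hH]; exact x.2
    obtain ⟨n, hn, c, hc, hnc⟩ := Subgroup.mem_sup_of_normal_left.1 hx
    refine ⟨⟨n, hNH hn⟩, ?_, ⟨c, hCH hc⟩, ?_, ?_⟩
    · show (⟨n, hNH hn⟩ : ↥H) ∈ N.subgroupOf H
      rw [Subgroup.mem_subgroupOf]; exact hn
    · show (⟨c, hCH hc⟩ : ↥H) ∈ C.subgroupOf H
      rw [Subgroup.mem_subgroupOf]; exact hc
    · apply Subtype.ext
      exact hnc

/-- SZC (M/L; Schur–Zassenhaus conjugacy `Cfsg.Agent.S0001.result`): `A ⊔ N = B ⊔ N`, `|A| = |B|` prime to `|N|`. -/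
theorem SZC {X : Type*} [Group X] [Finite X] (hsol : Group.IsSolvable X) (N : Subgroup X) [N.Normal]
    (A B : Subgroup X) (h : Nat.card ↥A = Nat.card ↥B)
    (hcop : (Nat.card ↥A).Coprime (Nat.card ↥N)) (hAB : A ⊔ N = B ⊔ N) :
    ∃ g : X, B = A.map (MulAut.conj g).toMonoidHom := by
  classical
  set H : Subgroup X := A ⊔ N with hH
  have hNH : N ≤ H := le_sup_right
  have hAH : A ≤ H := le_sup_left
  have hBH : B ≤ H := by rw [hAB]; exact le_sup_left
  have : (N.subgroupOf H).Normal := Subgroup.Normal.subgroupOf inferInstance H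
  have hcA : (N.subgroupOf H).IsComplement' (A.subgroupOf H) := SZC_aux_compl N A H hcop rfl
  have hcB : (N.subgroupOf H).IsComplement' (B.subgroupOf H) :=
    SZC_aux_compl N B H (h ▸ hcop) hAB.symm
  have hcardN : Nat.card ↥(N.subgroupOf H) = Nat.card ↥N :=
    Nat.card_congr (Subgroup.subgroupOfEquivOfLe hNH).toEquiv
  have hcardA : Nat.card ↥(A.subgroupOf H) = Nat.card ↥A :=
    Nat.card_congr (Subgroup.subgroupOfEquivOfLe hAH).toEquiv
  have hidx : (N.subgroupOf H).index = Nat.card ↥(A.subgroupOf H) := by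
    have := hcA.symm.index_eq_card
    exact this
  have hcop' : (Nat.card ↥(N.subgroupOf H)).Coprime (N.subgroupOf H).index := by
    rw [hidx, hcardN, hcardA]; exact hcop.symm
  have : Group.IsSolvable X := hsol
  have hsolN : Group.IsSolvable ↥(N.subgroupOf H) := inferInstance
  obtain ⟨g, hg⟩ := Cfsg.Agent.S0001.result (N.subgroupOf H) hcop' (Or.inl hsolN)
    (A.subgroupOf H) (B.subgroupOf H) hcA hcB
  refine ⟨(g : X), ?_⟩
  ext x
  constructor
  · intro hx
    have hxH : x ∈ H := hBH hx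
    have h1 : (⟨x, hxH⟩ : ↥H) ∈ B.subgroupOf H := by
      rw [Subgroup.mem_subgroupOf]; exact hx
    rw [← hg, Subgroup.mem_pointwise_smul_iff_inv_smul_mem] at h1
    rw [Subgroup.mem_subgroupOf] at h1
    have h2 : ((g⁻¹ : ↥H) : X) * x * ((g : ↥H) : X) ∈ A := by
      have : (((MulAut.conj g)⁻¹ • (⟨x, hxH⟩ : ↥H) : ↥H) : X) = ((g⁻¹ : ↥H) : X) * x * ((g : ↥H) : X) := by
        simp [MulAut.smul_def]
      rw [← this]; exact h1
    refine ⟨((g⁻¹ : ↥H) : X) * x * ((g : ↥H) : X), h2, ?_⟩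
    simp only [MulEquiv.coe_toMonoidHom, MulAut.conj_apply, Subgroup.coe_inv]
    group
  · rintro ⟨a, ha, rfl⟩
    have haH : a ∈ H := hAH ha
    have h1 : (⟨a, haH⟩ : ↥H) ∈ A.subgroupOf H := by
      rw [Subgroup.mem_subgroupOf]; exact ha
    have h2 : MulAut.conj g • (⟨a, haH⟩ : ↥H) ∈ MulAut.conj g • A.subgroupOf H :=
      Subgroup.smul_mem_pointwise_smul _ _ _ h1
    rw [hg, Subgroup.mem_subgroupOf] at h2
    have : ((MulAut.conj g • (⟨a, haH⟩ : ↥H) : ↥H) : X) = (g : X) * a * (g : X)⁻¹ := by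
      simp [MulAut.smul_def]
    rw [this] at h2
    simpa using h2

end Cfsg.Agent.S3913P
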