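import Mathlib
import Cfsg.Agent.Helper26.S3911Defs
import Cfsg.Agent.Helper17.S3913Defs
import Cfsg.Agent.Helper3.S3913NSYL
import Cfsg.Agent.Helper9.S3913HINT
import Cfsg.Agent.Helper25.S3913COP
import Cfsg.Agent.Helper25.S3913OVER

/-! s3913pieces MID (helper21): unless `⊥ < A ⊓ O_p(G) < O_p(G)`, `A` and `B` are conjugate. -/

set_option autoImplicit false

namespace Cfsg.Agent.S3913P

open Cfsg.Agent.S3911P Cfsg.Agent.S3913P

/-- MID (M/L; SYLINT, NSYL, COP, OVER): unless `⊥ < A ⊓ O_p(G) < O_p(G)`, `A` and `B` are conjugate. -/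
theorem MID {G : Type*} [Group G] [Finite G] (hB : BProp G) (hsol : Group.IsSolvable G) (hred : Red G)
    (p : ℕ) [Fact p.Prime] (hp : Cfsg.pCore p G ≠ ⊥)
    (hq : SProp (G ⧸ Cfsg.pCore p G)) (A B : Subgroup G) (h : Nat.card ↥A = Nat.card ↥B)
    (hnot : ¬ (A ⊓ Cfsg.pCore p G ≠ ⊥ ∧ A ⊓ Cfsg.pCore p G ≠ Cfsg.pCore p G)) :
    ∃ g : G, B = A.map (MulAut.conj g).toMonoidHom := by
  classical
  obtain ⟨hsyl, -, -, -⟩ := NSYL hB hsol hred p hp
  let P : Sylow p G := default
  have hPN : (P : Subgroup G) = Cfsg.pCore p G := hsyl P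
  have hPn : (P : Subgroup G).Normal := by rw [hPN]; infer_instance
  have hcA : Nat.card ↥(A ⊓ Cfsg.pCore p G) = p ^ (Nat.card ↥A).factorization p := by
    rw [← hPN]; exact SYLINT p P hPn A
  have hcB : Nat.card ↥(B ⊓ Cfsg.pCore p G) = p ^ (Nat.card ↥B).factorization p := by
    rw [← hPN]; exact SYLINT p P hPn B
  have hcAB : Nat.card ↥(A ⊓ Cfsg.pCore p G) = Nat.card ↥(B ⊓ Cfsg.pCore p G) := by
    rw [hcA, hcB, h]
  have hpp : p.Prime := Fact.out
  by_cases hbot : A ⊓ Cfsg.pCore p G = ⊥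
  · -- `|A|` is prime to `|O_p(G)|`
    have h1 : p ^ (Nat.card ↥A).factorization p = 1 := by
      rw [← hcA, hbot, Subgroup.card_bot]
    have h0 : (Nat.card ↥A).factorization p = 0 := by
      rcases Nat.eq_zero_or_pos ((Nat.card ↥A).factorization p) with h0 | hpos
      · exact h0
      · exfalso
        have : 1 < p ^ (Nat.card ↥A).factorization p := Nat.one_lt_pow hpos.ne' hpp.one_lt
        omega
    have hndvd : ¬ p ∣ Nat.card ↥A := by
      intro hd
      have hApos : Nat.card ↥A ≠ 0 := Nat.card_pos.ne'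
      have : 0 < (Nat.card ↥A).factorization p := hpp.factorization_pos_of_dvd hApos hd
      omega
    have hNp : IsPGroup p ↥(Cfsg.pCore p G) := Cfsg.Agent.Helper14.pCore_isPGroup p
    obtain ⟨t, ht⟩ := IsPGroup.iff_card.1 hNp
    have hcop : (Nat.card ↥A).Coprime (Nat.card ↥(Cfsg.pCore p G)) := by
      rw [ht]
      apply Nat.Coprime.pow_right
      exact (Nat.Coprime.symm ((Nat.Prime.coprime_iff_not_dvd hpp).2 hndvd))
    exact COP hsol (Cfsg.pCore p G) hq A B h hcop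
  · have htop : A ⊓ Cfsg.pCore p G = Cfsg.pCore p G := by
      by_contra hne
      exact hnot ⟨hbot, hne⟩
    have hA : Cfsg.pCore p G ≤ A := inf_eq_right.1 htop
    have hB' : B ⊓ Cfsg.pCore p G = Cfsg.pCore p G := by
      apply Subgroup.eq_of_le_of_card_ge inf_le_right
      rw [← hcAB, htop]
    have hB'' : Cfsg.pCore p G ≤ B := inf_eq_right.1 hB'
    exact OVER (Cfsg.pCore p G) hq A B hA hB'' h

end Cfsg.Agent.S3913P
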