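import Mathlib
import Cfsg.Agent.Helper6.S4414Defs

/-! Board `s4414pieces`, row FIX2: a `2`-group acting on a nonzero invariant subspace in characteristic `2`
has a nonzero fixed vector. -/

set_option autoImplicit false
set_option linter.unusedSectionVars false
set_option linter.unusedVariables false

namespace Cfsg.Agent.S4414P

open Module TensorProduct Cfsg.Agent.Helper5.FrobMod Cfsg.Agent.S4414P

variable {K : Type*} [Field K] {W : Type*} [AddCommGroup W] [Module K W]
variable {G : Type*} [Group G] (σ : Representation K G W)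

/-- in characteristic `2` every vector is killed by `2` -/
theorem FIX2_aux_add_self [CharP K 2] (w : W) : w + w = 0 := by
  have h2 : (2 : K) = 0 := CharTwo.two_eq_zero
  have : (2 : K) • w = 0 := by rw [h2, zero_smul]
  rwa [two_smul] at this

/-- the additive subgroup generated by the `P`-orbit of `u` -/
def FIX2_aux_X (P : Subgroup G) (u : W) : AddSubgroup W :=
  AddSubgroup.closure (Set.range fun g : ↥P => σ (g : G) u)

theorem FIX2_aux_mem (P : Subgroup G) (u : W) : u ∈ FIX2_aux_X σ P u := by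
  refine AddSubgroup.subset_closure ⟨1, ?_⟩
  simp

theorem FIX2_aux_inv (P : Subgroup G) (u : W) (h : G) (hh : h ∈ P) (x : W)
    (hx : x ∈ FIX2_aux_X σ P u) : σ h x ∈ FIX2_aux_X σ P u := by
  unfold FIX2_aux_X at hx ⊢
  induction hx using AddSubgroup.closure_induction with
  | mem x hx =>
    obtain ⟨g, rfl⟩ := hx
    refine AddSubgroup.subset_closure ⟨⟨h, hh⟩ * g, ?_⟩
    simp [map_mul]
  | zero => rw [map_zero]; exact AddSubgroup.zero_mem _
  | add x y _ _ hx hy => rw [map_add]; exact AddSubgroup.add_mem _ hx hy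
  | neg x _ hx => rw [map_neg]; exact AddSubgroup.neg_mem _ hx

theorem FIX2_aux_le (P : Subgroup G) (U : Submodule K W) (hinv : Inv σ P U) (u : W) (hu : u ∈ U) :
    FIX2_aux_X σ P u ≤ U.toAddSubgroup := by
  unfold FIX2_aux_X
  rw [AddSubgroup.closure_le]
  rintro _ ⟨g, rfl⟩
  exact hinv g g.2 u hu

theorem FIX2_aux_finite [CharP K 2] [Finite G] (P : Subgroup G) (u : W) :
    Finite ↥(FIX2_aux_X σ P u) := by
  have : AddGroup.FG ↥(FIX2_aux_X σ P u) := by
    rw [AddGroup.fg_iff_addSubgroup_fg]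
    exact ⟨(Set.finite_range fun g : ↥P => σ (g : G) u).toFinset, by
      rw [Set.Finite.coe_toFinset]; rfl⟩
  refine AddCommGroup.finite_of_fg_isAddTorsion (G := ↥(FIX2_aux_X σ P u)) ?_
  intro x
  rw [isOfFinAddOrder_iff_nsmul_eq_zero]
  refine ⟨2, by norm_num, ?_⟩
  apply Subtype.ext
  rw [two_nsmul]
  exact FIX2_aux_add_self (K := K) (x : W)

/-- FIX2 (M) -/
theorem FIX2 [CharP K 2] [Finite G] (P : Subgroup G) (hP : IsPGroup 2 ↥P) (U : Submodule K W) (hU : U ≠ ⊥)
    (hinv : Inv σ P U) : ∃ w ∈ U, w ≠ 0 ∧ w ∈ fixOf σ P := by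
  classical
  obtain ⟨u, hu, hu0⟩ := Submodule.exists_mem_ne_zero_of_ne_bot hU
  set X := FIX2_aux_X σ P u with hX
  have : Finite ↥X := FIX2_aux_finite σ P u
  have : Fact (Nat.Prime 2) := ⟨Nat.prime_two⟩
  let act : MulAction ↥P ↥X :=
    { smul := fun g x => ⟨σ (g : G) (x : W), FIX2_aux_inv σ P u g g.2 x x.2⟩
      one_smul := fun x => by
        apply Subtype.ext
        show σ ((1 : ↥P) : G) (x : W) = x
        simp
      mul_smul := fun g h x => by
        apply Subtype.ext
        show σ ((g * h : ↥P) : G) (x : W) = σ (g : G) (σ (h : G) (x : W))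
        simp [map_mul] }
  have hsmul : ∀ (g : ↥P) (x : ↥X), ((g • x : ↥X) : W) = σ (g : G) (x : W) := fun _ _ => rfl
  -- the order of `X` is even
  have h2 : 2 ∣ Nat.card ↥X := by
    have hord : addOrderOf (⟨u, FIX2_aux_mem σ P u⟩ : ↥X) = 2 := by
      refine addOrderOf_eq_prime ?_ ?_
      · apply Subtype.ext
        rw [two_nsmul]
        exact FIX2_aux_add_self (K := K) u
      · intro h
        exact hu0 (congrArg Subtype.val h)
    rw [← hord]
    exact addOrderOf_dvd_natCard _
  have h0 : (0 : ↥X) ∈ MulAction.fixedPoints ↥P ↥X := by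
    intro g
    apply Subtype.ext
    rw [hsmul]
    simp
  obtain ⟨b, hb, hb0⟩ := hP.exists_fixed_point_of_prime_dvd_card_of_fixed_point ↥X h2 h0
  refine ⟨(b : W), FIX2_aux_le σ P U hinv u hu b.2, ?_, ?_⟩
  · intro h
    exact hb0 (Subtype.ext h.symm)
  · intro g hg
    have := hb ⟨g, hg⟩
    have h' := congrArg Subtype.val this
    rw [hsmul] at h'
    exact h'

end Cfsg.Agent.S4414P
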