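import Mathlib
import Cfsg.Prelude.Def_LieExceptional
import Cfsg.Prelude.Def_Involutions
import Cfsg.Agent.Helper18.AIDefs

set_option autoImplicit false

/-!
# S2202 piece FREE: in the TI case `K α ∩ G_β = 1`, and then `PairOK1` gives `PairOK`
-/

open Cfsg Cfsg.Agent.Helper18.AI Cfsg.Agent.Helper18.CT MulAction

namespace Cfsg.Agent.Helper21.AI

variable {G : Type*} [Group G]

/-- an involution: `w * w = 1` and `w⁻¹ = w` -/
theorem invol_facts {w : G} (hw : orderOf w = 2) : w * w = 1 ∧ w⁻¹ = w := by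
  have hw2 : w * w = 1 := by
    have := pow_orderOf_eq_one w
    rwa [hw, pow_two] at this
  exact ⟨hw2, inv_eq_of_mul_eq_one_left hw2⟩

/-- an involution mapping `α` to `β` maps `β` to `α` -/
theorem invol_swap {Ω : Type*} [MulAction G Ω] {w : G} (hw : orderOf w = 2) {α β : Ω}
    (h : w • α = β) : w • β = α := by
  rw [← h, ← mul_smul, (invol_facts hw).1, one_smul]

/-- elements of `K α ∩ G_β` and `K β ∩ G_α` commute when `K α ∩ K β = 1` -/
theorem Geo1.comm_of_ti {Ω : Type*} [MulAction G Ω]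
    {K : Ω → Subgroup G} {e : ℕ} (h : Geo1 Ω K e) {α β : Ω}
    (hti : K α ⊓ K β = ⊥) {x y : G} (hx : x ∈ K α ⊓ stabilizer G β)
    (hy : y ∈ K β ⊓ stabilizer G α) : x * y = y * x := by
  have hxβ : x • β = β := mem_stabilizer_iff.mp hx.2
  have hyα : y • α = α := mem_stabilizer_iff.mp hy.2
  have h1 : x * y * x⁻¹ ∈ K β := by
    have := h.K_conj x β y hy.1
    rwa [hxβ] at this
  have h2 : y * x⁻¹ * y⁻¹ ∈ K α := by
    have := h.K_conj y α x⁻¹ ((K α).inv_mem hx.1)
    rwa [hyα] at this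
  have h3 : x * y * x⁻¹ * y⁻¹ ∈ K α ⊓ K β := by
    refine ⟨?_, (K β).mul_mem h1 ((K β).inv_mem hy.1)⟩
    have : x * y * x⁻¹ * y⁻¹ = x * (y * x⁻¹ * y⁻¹) := by group
    rw [this]
    exact (K α).mul_mem hx.1 h2
  rw [hti, Subgroup.mem_bot] at h3
  calc x * y = (x * y * x⁻¹ * y⁻¹) * (y * x) := by group
    _ = y * x := by rw [h3, one_mul]

theorem Geo1.free_of_ti [Finite G] {Ω : Type*} [MulAction G Ω] [Finite Ω]
    {K : Ω → Subgroup G} {e : ℕ} (h : Geo1 Ω K e)
    (hp : ∀ α β : Ω, α ≠ β → PairOK1 Ω K e α β)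
    (hti : ∀ α β : Ω, α ≠ β → K α ⊓ K β = ⊥) :
    ∀ α β : Ω, α ≠ β → K α ⊓ stabilizer G β = ⊥ := by
  classical
  intro α β hab
  rw [Subgroup.eq_bot_iff_forall]
  intro x hx
  by_contra hx1
  obtain ⟨hJ, -, -, -, hD⟩ := hp α β hab
  obtain ⟨-, -, -, -, hD'⟩ := hp β α hab.symm
  have he_pos : 0 < e := by have := h.e_ge; omega
  set D₀ : Subgroup G := K α ⊓ stabilizer G β with hD₀
  set D₀' : Subgroup G := K β ⊓ stabilizer G α with hD₀'
  -- |D₀| = |D₀'|
  have hcard_eq : Nat.card ↥D₀ = Nat.card ↥D₀' := by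
    rw [inf_comm, hD] at hD'
    exact Nat.eq_of_mul_eq_mul_left he_pos hD'
  have ha_pos : 0 < Nat.card ↥D₀ := Nat.card_pos
  -- |D₀|² ≤ e |D₀|
  have hle : Nat.card ↥D₀ ≤ e := by
    let ψ : ↥D₀ × ↥D₀' → ↥(stabilizer G α ⊓ stabilizer G β) := fun p =>
      ⟨(p.1 : G) * (p.2 : G),
        ⟨(stabilizer G α).mul_mem (h.K_le α p.1.2.1) p.2.2.2,
          (stabilizer G β).mul_mem p.1.2.2 (h.K_le β p.2.2.1)⟩⟩
    have hψ : Function.Injective ψ := by
      rintro ⟨a, b⟩ ⟨a', b'⟩ hab'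
      have h0 : (a : G) * (b : G) = (a' : G) * (b' : G) := congrArg Subtype.val hab'
      have h1 : (a' : G)⁻¹ * (a : G) = (b' : G) * (b : G)⁻¹ := by
        calc (a' : G)⁻¹ * (a : G) = (a' : G)⁻¹ * ((a : G) * (b : G)) * (b : G)⁻¹ := by group
          _ = (a' : G)⁻¹ * ((a' : G) * (b' : G)) * (b : G)⁻¹ := by rw [h0]
          _ = (b' : G) * (b : G)⁻¹ := by group
      have h2 : (a' : G)⁻¹ * (a : G) ∈ K α ⊓ K β := by
        refine ⟨(K α).mul_mem ((K α).inv_mem a'.2.1) a.2.1, ?_⟩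
        rw [h1]
        exact (K β).mul_mem b'.2.1 ((K β).inv_mem b.2.1)
      rw [hti α β hab, Subgroup.mem_bot] at h2
      have h3 : (a : G) = (a' : G) := (inv_mul_eq_one.mp h2).symm
      have h4 : (b : G) = (b' : G) := by
        rw [h3] at h0
        exact mul_left_cancel h0
      exact Prod.ext (Subtype.ext h3) (Subtype.ext h4)
    have h1 := Nat.card_le_card_of_injective ψ hψ
    rw [Nat.card_prod, hD, ← hcard_eq] at h1
    exact Nat.le_of_mul_le_mul_right h1 ha_pos
  -- the map J → D₀', w ↦ w x w⁻¹, extended by none ↦ 1, is injective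
  have hxα : x ∈ K α := hx.1
  have hxβ : x • β = β := mem_stabilizer_iff.mp hx.2
  have hconj_mem : ∀ w : G, orderOf w = 2 → w • α = β → w * x * w⁻¹ ∈ D₀' := by
    intro w hw hwα
    refine ⟨?_, ?_⟩
    · have := h.K_conj w α x hxα
      rwa [hwα] at this
    · show (w * x * w⁻¹) • α = α
      rw [mul_smul, mul_smul, (invol_facts hw).2, hwα, hxβ]
      exact invol_swap hw hwα
  have hconj_ne : ∀ w : G, w * x * w⁻¹ ≠ 1 := by
    intro w hh
    apply hx1
    have : x = w⁻¹ * (w * x * w⁻¹) * w := by group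
    rw [this, hh]; group
  -- x * (w x w⁻¹) lies in K (fix w)
  have hc_mem : ∀ w : G, orderOf w = 2 → w • α = β → ∀ γ : Ω, w • γ = γ →
      x * (w * x * w⁻¹) ∈ K γ := by
    intro w hw hwα γ hγ
    have hwK : w ∈ K γ := h.K_inv γ w hw hγ
    apply h.K_cent γ w hw hwK
    have hcomm : x * (w * x * w⁻¹) = (w * x * w⁻¹) * x :=
      Geo1.comm_of_ti h (hti α β hab) hx (hconj_mem w hw hwα)
    obtain ⟨hw2, hwi⟩ := invol_facts hw
    rw [hwi] at hcomm ⊢
    -- goal: x * (w * x * w) * w = w * (x * (w * x * w))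
    calc x * (w * x * w) * w = x * w * x * (w * w) := by group
      _ = x * w * x := by rw [hw2, mul_one]
      _ = (w * w) * (x * w * x) := by rw [hw2, one_mul]
      _ = w * ((w * x * w) * x) := by group
      _ = w * (x * (w * x * w)) := by rw [hcomm]
  let J := {u : G // orderOf u = 2 ∧ u • α = β}
  have hJinj : ∀ w w' : J, (w : G) * x * (w : G)⁻¹ = (w' : G) * x * (w' : G)⁻¹ → w = w' := by
    intro w w' hww'
    obtain ⟨γ, hγ⟩ := h.inv_fix w w.2.1
    obtain ⟨γ', hγ'⟩ := h.inv_fix w' w'.2.1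
    have hc1 := hc_mem w w.2.1 w.2.2 γ hγ
    have hc2 := hc_mem w' w'.2.1 w'.2.2 γ' hγ'
    rw [← hww'] at hc2
    by_cases hγγ : γ = γ'
    · subst hγγ
      -- w, w' commute
      have hwK : (w : G) ∈ K γ := h.K_inv γ w w.2.1 hγ
      have hwK' : (w' : G) ∈ K γ := h.K_inv γ w' w'.2.1 hγ'
      have hcomm := h.K_comm γ _ hwK _ hwK'
      obtain ⟨hw2, hwi⟩ := invol_facts w.2.1
      obtain ⟨hw2', hwi'⟩ := invol_facts w'.2.1
      set t : G := (w : G) * (w' : G) with ht
      have htt : t ^ 2 = 1 := by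
        rw [pow_two, ht]
        calc (w : G) * (w' : G) * ((w : G) * (w' : G))
            = (w : G) * ((w' : G) * (w : G)) * (w' : G) := by group
          _ = (w : G) * ((w : G) * (w' : G)) * (w' : G) := by rw [← hcomm]
          _ = ((w : G) * (w : G)) * ((w' : G) * (w' : G)) := by group
          _ = 1 := by rw [hw2, hw2', one_mul]
      have htα : t • α = α := by
        rw [ht, mul_smul, w'.2.2, invol_swap w.2.1 w.2.2]
      have htβ : t • β = β := by
        rw [ht, mul_smul, invol_swap w'.2.1 w'.2.2, w.2.2]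
      by_cases ht1 : t = 1
      · apply Subtype.ext
        have : (w : G) = (w' : G)⁻¹ := eq_inv_of_mul_eq_one_left ht1
        rw [this, hwi']
      · exfalso
        have hto : orderOf t = 2 := orderOf_eq_prime htt ht1
        exact hab (h.inv_fix_unique t hto α β htα htβ)
    · exfalso
      have hc : x * ((w : G) * x * (w : G)⁻¹) ∈ K γ ⊓ K γ' := ⟨hc1, hc2⟩
      rw [hti γ γ' hγγ, Subgroup.mem_bot] at hc
      have hmem := hconj_mem w w.2.1 w.2.2
      have hinv : (w : G) * x * (w : G)⁻¹ = x⁻¹ := eq_inv_of_mul_eq_one_right hc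
      have h5 : x⁻¹ ∈ K α ⊓ K β := ⟨(K α).inv_mem hxα, hinv ▸ hmem.1⟩
      rw [hti α β hab, Subgroup.mem_bot, inv_eq_one] at h5
      exact hx1 h5
  let φ : Option J → ↥D₀' := fun o =>
    o.elim 1 (fun w => ⟨(w : G) * x * (w : G)⁻¹, hconj_mem w w.2.1 w.2.2⟩)
  have hφ : Function.Injective φ := by
    intro o o' hoo'
    cases o with
    | none =>
      cases o' with
      | none => rfl
      | some w' =>
        exfalso
        have := congrArg Subtype.val hoo'
        exact hconj_ne w' this.symm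
    | some w =>
      cases o' with
      | none =>
        exfalso
        have := congrArg Subtype.val hoo'
        exact hconj_ne w this
      | some w' =>
        have := congrArg Subtype.val hoo'
        rw [hJinj w w' this]
  have hfinJ : Finite J := inferInstanceAs (Finite {u : G // orderOf u = 2 ∧ u • α = β})
  have h6 := Nat.card_le_card_of_injective φ hφ
  rw [Finite.card_option] at h6
  have hJ' : Nat.card J = e := hJ
  rw [hJ', ← hcard_eq] at h6
  omega

theorem Geo1.pairOK_of_free {Ω : Type*} [MulAction G Ω]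
    {K : Ω → Subgroup G} {e : ℕ} (_h : Geo1 Ω K e) {α β : Ω} (_hab : α ≠ β)
    (hp : PairOK1 Ω K e α β) (hfree : K α ⊓ stabilizer G β = ⊥) : PairOK G Ω e α β := by
  obtain ⟨hJ, -, hgen, -, hD⟩ := hp
  refine ⟨?_, hJ, ?_⟩
  · rw [hD, hfree, Subgroup.card_bot, mul_one]
  · intro u hu huα d hd
    obtain ⟨c, hc, v, hv, hvα, hdc⟩ := hgen u hu huα d hd.1
    obtain ⟨hu2, hui⟩ := invol_facts hu
    obtain ⟨hv2, hvi⟩ := invol_facts hv
    have huvβ : (u * v) • β = β := by
      rw [mul_smul, invol_swap hv hvα, huα]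
    have hcβ : c ∈ stabilizer G β := by
      have hc' : c = d * (u * v)⁻¹ := by rw [hdc]; group
      rw [hc']
      exact (stabilizer G β).mul_mem hd.2
        ((stabilizer G β).inv_mem (mem_stabilizer_iff.mpr huvβ))
    have hc1 : c = 1 := by
      have : c ∈ K α ⊓ stabilizer G β := ⟨hc, hcβ⟩
      rwa [hfree, Subgroup.mem_bot] at this
    rw [hdc, hc1, one_mul, mul_inv_rev, hui, hvi]
    calc u * (u * v) * u = (u * u) * v * u := by group
      _ = v * u := by rw [hu2, one_mul]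

end Cfsg.Agent.Helper21.AI
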