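import Mathlib
import Cfsg.Prelude.Def_LieExceptional
import Cfsg.Prelude.Def_Involutions
import Cfsg.Agent.Helper18.AIDefs

set_option autoImplicit false

/-!
# S2202 piece THREEB: an element with an inverted centralizer of order `(f-1)e` fixes `≤ 2` points
-/

open Cfsg Cfsg.Agent.Helper18.AI Cfsg.Agent.Helper18.CT MulAction

namespace Cfsg.Agent.Helper21.AI

variable {G : Type*} [Group G]

theorem even_card_of_fpf_involutive {α : Type*} [Finite α] (f : α → α)
    (hf : Function.Involutive f) (hne : ∀ a, f a ≠ a) : Even (Nat.card α) := by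
  classical
  have : Fintype α := Fintype.ofFinite α
  have h2 : (hf.toPerm f) ^ 2 = 1 := by
    ext a
    simp [pow_two, hf a]
  have hs : (hf.toPerm f).support = Finset.univ := by
    ext a
    simp only [Equiv.Perm.mem_support, Function.Involutive.coe_toPerm, Finset.mem_univ, iff_true]
    exact hne a
  have := Equiv.Perm.two_dvd_card_support h2
  rw [hs, Finset.card_univ] at this
  rw [Nat.card_eq_fintype_card]
  exact even_iff_two_dvd.mpr this

theorem Geo1.card_fixedBy_le_two [Finite G] {Ω : Type*} [MulAction G Ω] [Finite Ω]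
    {K : Ω → Subgroup G} {e : ℕ} (h : Geo1 Ω K e)
    (hidx : ∀ α : Ω, (K α).relIndex (stabilizer G α) = e)
    (hfree : ∀ α β : Ω, α ≠ β → K α ⊓ stabilizer G β = ⊥)
    (g : G) (hg : g ≠ 1) (w : G) (hw : orderOf w = 2)
    (hinv : ∀ y : G, y * g = g * y → w * y * w⁻¹ = y⁻¹)
    (hfpf : ∀ δ : Ω, g • δ = δ → w • δ ≠ δ)
    (hcard : Nat.card ↥(Subgroup.centralizer ({g} : Set G)) =
      (Nat.card ↥(fixedBy Ω g) - 1) * e)
    (h2 : 2 ≤ Nat.card ↥(fixedBy Ω g)) : Nat.card ↥(fixedBy Ω g) ≤ 2 := by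
  classical
  set Y : Subgroup G := Subgroup.centralizer ({g} : Set G) with hY
  set Φ : Set Ω := fixedBy Ω g with hΦ
  set f : ℕ := Nat.card ↥Φ with hf
  have hmemY : ∀ y : G, y ∈ Y ↔ y * g = g * y := fun y =>
    Subgroup.mem_centralizer_singleton_iff
  have hmemΦ : ∀ δ : Ω, δ ∈ Φ ↔ g • δ = δ := fun δ => mem_fixedBy
  have hΦfin : Φ.Finite := Set.toFinite Φ
  have hfn : f = Φ.ncard := Nat.card_coe_set_eq Φ
  have he_pos : 0 < e := by have := h.e_ge; omega
  -- w is an involution inverting g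
  have hw2 : w * w = 1 := by
    have := pow_orderOf_eq_one w
    rwa [hw, pow_two] at this
  have hwi : w⁻¹ = w := inv_eq_of_mul_eq_one_left hw2
  have hwg : w * g * w⁻¹ = g⁻¹ := hinv g rfl
  have hgw : g * w = w * g⁻¹ := by
    have h1 : w * g⁻¹ * w⁻¹ = g := by
      have := congrArg (fun z => z⁻¹) hwg
      simpa [mul_assoc] using this
    calc g * w = (w * g⁻¹ * w⁻¹) * w := by rw [h1]
      _ = w * g⁻¹ := by group
  -- w permutes Φ
  have hwΦ : ∀ δ : Ω, δ ∈ Φ → w • δ ∈ Φ := by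
    intro δ hδ
    rw [hmemΦ] at hδ ⊢
    rw [← mul_smul, hgw, mul_smul]
    congr 1
    rw [inv_smul_eq_iff]
    exact hδ.symm
  have hww : ∀ δ : Ω, w • w • δ = δ := by
    intro δ
    rw [← mul_smul, hw2, one_smul]
  -- f is even
  have hfeven : Even f := by
    refine even_card_of_fpf_involutive (α := ↥Φ) (fun δ => ⟨w • (δ : Ω), hwΦ δ δ.2⟩) ?_ ?_
    · intro δ
      exact Subtype.ext (hww δ)
    · intro δ hδ
      have := congrArg Subtype.val hδ
      exact hfpf δ ((hmemΦ δ).mp δ.2) this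
  -- Y ∩ K δ = 1 for δ ∈ Φ
  have hYK : ∀ δ : Ω, δ ∈ Φ → ∀ a : G, a ∈ Y → a ∈ K δ → a = 1 := by
    intro δ hδ a haY haK
    have h1 : w * a * w⁻¹ = a⁻¹ := hinv a ((hmemY a).mp haY)
    have h2' : a⁻¹ ∈ K (w • δ) := h1 ▸ h.K_conj w δ a haK
    have h3 : a ∈ stabilizer G (w • δ) := by
      have := h.K_le (w • δ) h2'
      exact (Subgroup.inv_mem_iff _).mp this
    have hne : δ ≠ w • δ := fun hh => hfpf δ ((hmemΦ δ).mp hδ) hh.symm
    have h4 : a ∈ K δ ⊓ stabilizer G (w • δ) := ⟨haK, h3⟩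
    rw [hfree δ (w • δ) hne] at h4
    exact Subgroup.mem_bot.mp h4
  -- orbits of Y stay in Φ
  have horbΦ : ∀ δ : Ω, δ ∈ Φ → orbit ↥Y δ ⊆ Φ := by
    intro δ hδ x hx
    obtain ⟨y, rfl⟩ := hx
    rw [hmemΦ] at hδ ⊢
    show g • ((y : G) • δ) = (y : G) • δ
    rw [← mul_smul, ← (hmemY y).mp y.2, mul_smul, hδ]
  -- the stabilizer in Y of δ ∈ Φ has at most e elements
  have hstab : ∀ δ : Ω, δ ∈ Φ → Nat.card ↥(stabilizer ↥Y δ) ≤ e := by
    intro δ hδ
    have hq : Nat.card (↥(stabilizer G δ) ⧸ (K δ).subgroupOf (stabilizer G δ)) = e := hidx δ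
    have hfinq : Finite (↥(stabilizer G δ) ⧸ (K δ).subgroupOf (stabilizer G δ)) := by
      apply Nat.finite_of_card_ne_zero
      rw [hq]; omega
    rw [← hq]
    have hmem : ∀ y : ↥(stabilizer ↥Y δ), ((y : ↥Y) : G) ∈ stabilizer G δ := by
      intro y
      have := y.2
      rw [mem_stabilizer_iff] at this ⊢
      rwa [Subgroup.smul_def] at this
    let φ : ↥(stabilizer ↥Y δ) → ↥(stabilizer G δ) ⧸ (K δ).subgroupOf (stabilizer G δ) :=
      fun y => QuotientGroup.mk ⟨((y : ↥Y) : G), hmem y⟩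
    apply Nat.card_le_card_of_injective φ
    intro y₁ y₂ h12
    have h12' := QuotientGroup.eq.mp h12
    rw [Subgroup.mem_subgroupOf] at h12'
    have hK : ((y₁ : ↥Y) : G)⁻¹ * ((y₂ : ↥Y) : G) ∈ K δ := by
      simpa using h12'
    have hYm : ((y₁ : ↥Y) : G)⁻¹ * ((y₂ : ↥Y) : G) ∈ Y :=
      Y.mul_mem (Y.inv_mem (y₁ : ↥Y).2) (y₂ : ↥Y).2
    have := hYK δ hδ _ hYm hK
    have h5 : ((y₁ : ↥Y) : G) = ((y₂ : ↥Y) : G) := by
      have := inv_mul_eq_one.mp this
      exact this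
    exact Subtype.ext (Subtype.ext h5)
  -- sizes of orbits
  have horb : ∀ δ : Ω, δ ∈ Φ → (orbit ↥Y δ).ncard = f - 1 := by
    intro δ hδ
    have h1 : (orbit ↥Y δ).ncard * Nat.card ↥(stabilizer ↥Y δ) = Nat.card ↥Y := by
      rw [← index_stabilizer, mul_comm]
      exact Subgroup.card_mul_index _
    have hle : (orbit ↥Y δ).ncard ≤ f := by
      rw [hfn]
      exact Set.ncard_le_ncard (horbΦ δ hδ) hΦfin
    have hs := hstab δ hδ
    have hspos : 0 < Nat.card ↥(stabilizer ↥Y δ) := Nat.card_pos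
    rw [hcard] at h1
    -- f - 1 ≤ orbit
    have hge : f - 1 ≤ (orbit ↥Y δ).ncard := by
      have : (f - 1) * e ≤ (orbit ↥Y δ).ncard * e := by
        rw [← h1]
        exact Nat.mul_le_mul_left _ hs
      exact Nat.le_of_mul_le_mul_right this he_pos
    -- orbit size is odd
    have hodd : Odd ((orbit ↥Y δ).ncard) := by
      have hfo : Odd (f - 1) := by
        obtain ⟨k, hk⟩ := hfeven
        refine ⟨k - 1, ?_⟩
        omega
      have hprod : Odd ((f - 1) * e) := hfo.mul h.e_odd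
      rw [← h1] at hprod
      exact (Nat.odd_mul.mp hprod).1
    have hne : (orbit ↥Y δ).ncard ≠ f := by
      intro hh
      rw [hh] at hodd
      exact (Nat.not_even_iff_odd.mpr hodd) hfeven
    omega
  -- two disjoint orbits
  have hΦne : Φ.Nonempty := by
    rw [← Set.ncard_pos hΦfin, ← hfn]; omega
  obtain ⟨δ, hδ⟩ := hΦne
  have hlt : (orbit ↥Y δ).ncard < Φ.ncard := by
    rw [horb δ hδ, ← hfn]; omega
  obtain ⟨δ', hδ', hδ'O⟩ := Set.exists_mem_notMem_of_ncard_lt_ncard hlt (Set.toFinite _)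
  have hdisj : Disjoint (orbit ↥Y δ) (orbit ↥Y δ') := by
    rw [Set.disjoint_left]
    intro x hx hx'
    have e1 : orbit ↥Y x = orbit ↥Y δ := orbit_eq_iff.mpr hx
    have e2 : orbit ↥Y x = orbit ↥Y δ' := orbit_eq_iff.mpr hx'
    apply hδ'O
    rw [← e1, e2]
    exact mem_orbit_self δ'
  have hunion : (orbit ↥Y δ ∪ orbit ↥Y δ').ncard = (f - 1) + (f - 1) := by
    rw [Set.ncard_union_eq hdisj (Set.toFinite _) (Set.toFinite _), horb δ hδ, horb δ' hδ']
  have hsub : orbit ↥Y δ ∪ orbit ↥Y δ' ⊆ Φ := Set.union_subset (horbΦ δ hδ) (horbΦ δ' hδ')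
  have := Set.ncard_le_ncard hsub hΦfin
  rw [hunion, ← hfn] at this
  omega

end Cfsg.Agent.Helper21.AI
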