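import Mathlib
import Cfsg.Agent.Helper3.MaschkeExt

/-!
# Indecomposable coprime actions on abelian `p`-groups

Let a finite group `X` of order prime to `p` act (through endomorphisms `σ x`) on the finite
abelian `p`-group `A`.  If `A` is not the direct product of two nontrivial invariant subgroups then
every nontrivial invariant subgroup of `Ω₁(A)` is all of `Ω₁(A)`.
-/

set_option autoImplicit false
set_option linter.style.haveILetI false
set_option linter.unusedSectionVars false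
set_option linter.unusedVariables false

namespace Cfsg.Agent.Helper21.IndecAb

open Subgroup

section SM0

variable {V : Type*} [CommGroup V] [Finite V] {X : Type*} [Group X] [Finite X]

/-- Maschke for a quotient of exponent `p`. -/
theorem section_maschke₀ (σ : X → V →* V) (hσ1 : ∀ v, σ 1 v = v)
    (hσmul : ∀ a b v, σ (a * b) v = σ a (σ b v)) (p : ℕ) [Fact p.Prime]
    (hpX : ¬ p ∣ Nat.card X) (K M : Subgroup V) (hK : ∀ x, ∀ v ∈ K, σ x v ∈ K)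
    (hM : ∀ x, ∀ v ∈ M, σ x v ∈ M) (hexp : ∀ v : V, v ^ p ∈ K) :
    ∃ K₁ : Subgroup V, (∀ x, ∀ v ∈ K₁, σ x v ∈ K₁) ∧ K ≤ K₁ ∧ K₁ ⊓ M ≤ K ∧ K₁ ⊔ M = ⊤ := by
  let σ' : X → (V ⧸ K) →* (V ⧸ K) := fun x =>
    QuotientGroup.map K K (σ x) (fun v hv => hK x v hv)
  have hσ' : ∀ x (v : V), σ' x (v : V ⧸ K) = ((σ x v : V) : V ⧸ K) := fun x v => rfl
  have h1 : ∀ v : V ⧸ K, σ' 1 v = v := by
    intro v
    obtain ⟨v, rfl⟩ := QuotientGroup.mk_surjective v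
    rw [hσ', hσ1]
  have h2 : ∀ a b (v : V ⧸ K), σ' (a * b) v = σ' a (σ' b v) := by
    intro a b v
    obtain ⟨v, rfl⟩ := QuotientGroup.mk_surjective v
    rw [hσ', hσ', hσ', hσmul]
  have h3 : ∀ v : V ⧸ K, v ^ p = 1 := by
    intro v
    obtain ⟨v, rfl⟩ := QuotientGroup.mk_surjective v
    rw [← QuotientGroup.mk_pow, QuotientGroup.eq_one_iff]
    exact hexp v
  have h4 : ∀ a, ∀ w ∈ M.map (QuotientGroup.mk' K), σ' a w ∈ M.map (QuotientGroup.mk' K) := by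
    rintro a _ ⟨m, hm, rfl⟩
    exact ⟨σ a m, hM a m hm, rfl⟩
  obtain ⟨U, hU, hWU, hWU'⟩ :=
    Cfsg.Agent.Helper3.maschke_ext σ' h1 h2 p h3 hpX (M.map (QuotientGroup.mk' K)) h4
  refine ⟨U.comap (QuotientGroup.mk' K), ?_, ?_, ?_, ?_⟩
  · intro x v hv
    rw [mem_comap] at hv ⊢
    exact hU x _ hv
  · intro k hk
    rw [mem_comap]
    have : (QuotientGroup.mk' K) k = 1 := (QuotientGroup.eq_one_iff k).mpr hk
    rw [this]
    exact one_mem U
  · intro v hv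
    have h5 : (QuotientGroup.mk' K) v ∈ M.map (QuotientGroup.mk' K) ⊓ U :=
      ⟨⟨v, hv.2, rfl⟩, mem_comap.mp hv.1⟩
    rw [hWU, mem_bot] at h5
    exact (QuotientGroup.eq_one_iff v).mp h5
  · rw [eq_top_iff]
    intro v _
    have h5 : (QuotientGroup.mk' K) v ∈ M.map (QuotientGroup.mk' K) ⊔ U := by
      rw [hWU']; exact mem_top _
    obtain ⟨w, ⟨m, hm, rfl⟩, u, hu, hwu⟩ := mem_sup.mp h5
    have h6 : v = (v * m⁻¹) * m := by group
    rw [h6]
    refine mul_mem (mem_sup_left ?_) (mem_sup_right hm)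
    rw [mem_comap, map_mul, map_inv, ← hwu]
    simpa using hu

end SM0

section Main

variable {A : Type*} [CommGroup A] [Finite A] {X : Type*} [Group X] [Finite X]

/-- invariance of a subgroup under the action. -/
def Inv (σ : X → A →* A) (B : Subgroup A) : Prop := ∀ x, ∀ b ∈ B, σ x b ∈ B

theorem Inv.inf {σ : X → A →* A} {B C : Subgroup A} (hB : Inv σ B) (hC : Inv σ C) :
    Inv σ (B ⊓ C) := fun x b hb => ⟨hB x b hb.1, hC x b hb.2⟩

theorem Inv.sup {σ : X → A →* A} {B C : Subgroup A} (hB : Inv σ B) (hC : Inv σ C) :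
    Inv σ (B ⊔ C) := by
  intro x b hb
  obtain ⟨y, hy, z, hz, rfl⟩ := mem_sup.mp hb
  rw [map_mul]
  exact mul_mem (mem_sup_left (hB x y hy)) (mem_sup_right (hC x z hz))

theorem Inv.comapPow {σ : X → A →* A} {B : Subgroup A} (hB : Inv σ B) (m : ℕ) :
    Inv σ (B.comap (powMonoidHom m)) := by
  intro x b hb
  rw [mem_comap, powMonoidHom_apply] at hb ⊢
  rw [← _root_.map_pow]
  exact hB x _ hb

theorem Inv.mapPow {σ : X → A →* A} {B : Subgroup A} (hB : Inv σ B) (m : ℕ) :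
    Inv σ (B.map (powMonoidHom m)) := by
  rintro x _ ⟨b, hb, rfl⟩
  refine ⟨σ x b, hB x b hb, ?_⟩
  rw [powMonoidHom_apply, powMonoidHom_apply, _root_.map_pow]

theorem inv_bot (σ : X → A →* A) : Inv σ (⊥ : Subgroup A) := by
  intro x b hb
  rw [mem_bot] at hb ⊢
  rw [hb, map_one]

theorem inv_top (σ : X → A →* A) : Inv σ (⊤ : Subgroup A) := fun _ _ _ => mem_top _

/-- Maschke for a section of exponent `p`. -/
theorem section_maschke (σ : X → A →* A) (hσ1 : ∀ v, σ 1 v = v)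
    (hσmul : ∀ a b v, σ (a * b) v = σ a (σ b v)) (p : ℕ) [Fact p.Prime]
    (hpX : ¬ p ∣ Nat.card X) (Y K M : Subgroup A) (hKY : K ≤ Y) (hMY : M ≤ Y)
    (hY : Inv σ Y) (hK : Inv σ K) (hM : Inv σ M) (hexp : ∀ y ∈ Y, y ^ p ∈ K) :
    ∃ K₁ : Subgroup A, Inv σ K₁ ∧ K ≤ K₁ ∧ K₁ ≤ Y ∧ K₁ ⊓ M ≤ K ∧ Y ≤ K₁ ⊔ M := by
  let σY : X → Y →* Y := fun x =>
    { toFun := fun y => ⟨σ x (y : A), hY x y y.2⟩
      map_one' := Subtype.ext (map_one (σ x))
      map_mul' := fun a b => Subtype.ext (map_mul (σ x) (a : A) (b : A)) }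
  have hσY : ∀ x (y : Y), ((σY x y : Y) : A) = σ x (y : A) := fun x y => rfl
  obtain ⟨K₁', hinv, hle, hinf, hsup⟩ := section_maschke₀ σY
    (fun v => Subtype.ext (by rw [hσY, hσ1]))
    (fun a b v => Subtype.ext (by rw [hσY, hσY, hσY, hσmul])) p hpX
    (K.subgroupOf Y) (M.subgroupOf Y)
    (fun x v hv => by rw [mem_subgroupOf] at hv ⊢; rw [hσY]; exact hK x _ hv)
    (fun x v hv => by rw [mem_subgroupOf] at hv ⊢; rw [hσY]; exact hM x _ hv)
    (fun v => by rw [mem_subgroupOf, Subgroup.coe_pow]; exact hexp v v.2)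
  refine ⟨K₁'.map Y.subtype, ?_, ?_, map_subtype_le K₁', ?_, ?_⟩
  · rintro x _ ⟨k, hk, rfl⟩
    exact ⟨σY x k, hinv x k hk, rfl⟩
  · intro k hk
    exact ⟨⟨k, hKY hk⟩, hle (mem_subgroupOf.mpr hk), rfl⟩
  · rintro _ ⟨⟨k, hk, rfl⟩, hkM⟩
    have : k ∈ K₁' ⊓ M.subgroupOf Y := ⟨hk, mem_subgroupOf.mpr hkM⟩
    exact mem_subgroupOf.mp (hinf this)
  · intro y hy
    have h1 : (⟨y, hy⟩ : Y) ∈ K₁' ⊔ M.subgroupOf Y := by rw [hsup]; exact mem_top _
    obtain ⟨k, hk, m, hm, hkm⟩ := mem_sup.mp h1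
    have h2 : y = (k : A) * (m : A) := by
      have := congrArg (fun z : Y => (z : A)) hkm
      simpa using this.symm
    rw [h2]
    exact mul_mem (mem_sup_left ⟨k, hk, rfl⟩) (mem_sup_right (mem_subgroupOf.mp hm))

variable (σ : X → A →* A) (hσ1 : ∀ v, σ 1 v = v) (hσmul : ∀ a b v, σ (a * b) v = σ a (σ b v))
  (p : ℕ) [hp : Fact p.Prime] (hpX : ¬ p ∣ Nat.card X) (n : ℕ) (hexp : ∀ a : A, a ^ p ^ (n + 1) = 1)

include hσ1 hσmul hpX hexp

/-- a minimal invariant subgroup mapping onto `E` under the `p ^ n`-th power map is "homocyclic". -/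
theorem stepC (H E : Subgroup A) (hH : Inv σ H)
    (hHE : ∀ e ∈ E, ∃ h ∈ H, h ^ p ^ n = e)
    (hmin : ∀ H' : Subgroup A, Inv σ H' → H' ≤ H → (∀ e ∈ E, ∃ h ∈ H', h ^ p ^ n = e) → H ≤ H') :
    ∀ h ∈ H, h ^ p ^ n = 1 → ∃ h₁ ∈ H, h₁ ^ p = h := by
  set P : Subgroup A := H.map (powMonoidHom p) with hP
  set L : Subgroup A := H ⊓ (powMonoidHom (p ^ n) : A →* A).ker with hL
  have hPH : P ≤ H := by
    rintro _ ⟨h, hh, rfl⟩
    rw [powMonoidHom_apply]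
    exact pow_mem hh p
  have hLH : L ≤ H := inf_le_left
  have hPinv : Inv σ P := hH.mapPow p
  have hLinv : Inv σ L := by
    apply hH.inf
    have := (inv_bot σ).comapPow (p ^ n)
    exact this
  obtain ⟨H₃, hH₃inv, hPH₃, hH₃H, hinf, hsup⟩ := section_maschke σ hσ1 hσmul p hpX H P L hPH hLH
    hH hPinv hLinv (fun y hy => ⟨y, hy, rfl⟩)
  have hHH₃ : H ≤ H₃ := by
    apply hmin H₃ hH₃inv hH₃H
    intro e he
    obtain ⟨h, hh, rfl⟩ := hHE e he
    obtain ⟨h₃, hh₃, l, hl, rfl⟩ := mem_sup.mp (hsup hh)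
    refine ⟨h₃, hh₃, ?_⟩
    have hl1 : l ^ p ^ n = 1 := by
      have := (mem_inf.mp hl).2
      rwa [MonoidHom.mem_ker, powMonoidHom_apply] at this
    rw [mul_pow, hl1, mul_one]
  intro h hh h1
  have hhL : h ∈ L := mem_inf.mpr ⟨hh, by rw [MonoidHom.mem_ker, powMonoidHom_apply]; exact h1⟩
  obtain ⟨h₁, hh₁, rfl⟩ := hinf ⟨hHH₃ hh, hhL⟩
  exact ⟨h₁, hh₁, rfl⟩

/-- a "homocyclic" invariant subgroup of maximal exponent has an invariant complement. -/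
theorem exists_inv_compl (H : Subgroup A) (hH : Inv σ H)
    (hhom : ∀ h ∈ H, h ^ p ^ n = 1 → ∃ h₁ ∈ H, h₁ ^ p = h) :
    ∃ K : Subgroup A, Inv σ K ∧ H ⊓ K = ⊥ ∧ H ⊔ K = ⊤ := by
  obtain ⟨K, -, hKmax⟩ := Finite.exists_le_maximal (p := fun U : Subgroup A => Inv σ U ∧ H ⊓ U = ⊥)
    (a := ⊥) ⟨inv_bot σ, by simp⟩
  obtain ⟨hKinv, hHK⟩ := hKmax.prop
  refine ⟨K, hKinv, hHK, ?_⟩
  by_contra hne
  set N : Subgroup A := H ⊔ K with hN
  -- an element outside `N` whose `p`-th power is in `N`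
  obtain ⟨a, -, haN⟩ := SetLike.exists_of_lt (lt_top_iff_ne_top.mpr hne)
  have hex : ∃ j, a ^ p ^ j ∈ N := ⟨n + 1, by rw [hexp]; exact one_mem N⟩
  classical
  have hj0 : Nat.find hex ≠ 0 := by
    intro h0
    have := Nat.find_spec hex
    rw [h0, pow_zero, pow_one] at this
    exact haN this
  obtain ⟨j, hj⟩ := Nat.exists_eq_succ_of_ne_zero hj0
  set y := a ^ p ^ j with hy
  have hyN : y ∉ N := Nat.find_min hex (by rw [hj]; exact Nat.lt_succ_self j)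
  have hypN : y ^ p ∈ N := by
    have := Nat.find_spec hex
    rw [hj, Nat.succ_eq_add_one, pow_succ, pow_mul] at this
    exact this
  obtain ⟨h, hh, k, hk, hhk⟩ := mem_sup.mp hypN
  have hhpn : h ^ p ^ n = 1 := by
    have h1 : (y ^ p) ^ p ^ n = 1 := by rw [← pow_mul, ← pow_succ', hexp]
    rw [← hhk, mul_pow] at h1
    have h2 : h ^ p ^ n = (k ^ p ^ n)⁻¹ := eq_inv_of_mul_eq_one_left h1
    have h3 : h ^ p ^ n ∈ H ⊓ K :=
      mem_inf.mpr ⟨pow_mem hh _, by rw [h2]; exact inv_mem (pow_mem hk _)⟩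
    rw [hHK, mem_bot] at h3
    exact h3
  obtain ⟨h₁, hh₁, hh₁p⟩ := hhom h hh hhpn
  set y₁ := y * h₁⁻¹ with hy₁
  have hy₁p : y₁ ^ p = k := by
    rw [hy₁, mul_pow, inv_pow, hh₁p, ← hhk]
    rw [mul_comm h k, mul_inv_cancel_right]
  have hy₁N : y₁ ∉ N := by
    intro h'
    apply hyN
    have : y = y₁ * h₁ := by rw [hy₁]; group
    rw [this]
    exact mul_mem h' (mem_sup_left hh₁)
  set Y₁ : Subgroup A := K.comap (powMonoidHom p) with hY₁
  have hY₁inv : Inv σ Y₁ := hKinv.comapPow p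
  have hy₁Y₁ : y₁ ∈ Y₁ := by
    rw [hY₁, mem_comap, powMonoidHom_apply, hy₁p]; exact hk
  have hKY₁ : K ≤ Y₁ := by
    intro k' hk'
    rw [hY₁, mem_comap, powMonoidHom_apply]
    exact pow_mem hk' p
  set M : Subgroup A := (Y₁ ⊓ H) ⊔ K with hM
  have hMY₁ : M ≤ Y₁ := sup_le inf_le_left hKY₁
  have hMinv : Inv σ M := (hY₁inv.inf hH).sup hKinv
  obtain ⟨K₁, hK₁inv, hKK₁, hK₁Y₁, hinf, hsup⟩ := section_maschke σ hσ1 hσmul p hpX Y₁ K M hKY₁
    hMY₁ hY₁inv hKinv hMinv (fun y hy => by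
      rw [hY₁, mem_comap, powMonoidHom_apply] at hy; exact hy)
  have hHK₁ : H ⊓ K₁ = ⊥ := by
    rw [eq_bot_iff]
    intro g hg
    have h1 : g ∈ M := mem_sup_left ⟨hK₁Y₁ hg.2, hg.1⟩
    have h2 : g ∈ K := hinf ⟨hg.2, h1⟩
    rw [← hHK]
    exact ⟨hg.1, h2⟩
  have hK₁K : K₁ ≤ K := hKmax.le_of_ge ⟨hK₁inv, hHK₁⟩ hKK₁
  have h1 : y₁ ∈ K₁ ⊔ M := hsup hy₁Y₁
  have h2 : K₁ ⊔ M ≤ N := by
    apply sup_le (hK₁K.trans le_sup_right)
    exact sup_le (inf_le_right.trans le_sup_left) le_sup_right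
  exact hy₁N (h2 h1)

/-- key step: in an indecomposable group, every nontrivial invariant subgroup of the top power
subgroup contains all elements of order `p`. -/
theorem omega_le_of_indecomposable
    (hind : ∀ B C : Subgroup A, Inv σ B → Inv σ C → B ⊓ C = ⊥ → B ⊔ C = ⊤ → B = ⊥ ∨ C = ⊥)
    (E : Subgroup A) (hE : Inv σ E) (hE1 : E ≠ ⊥) (hEφ : ∀ e ∈ E, ∃ a : A, a ^ p ^ n = e) :
    ∀ a : A, a ^ p = 1 → a ∈ E := by
  obtain ⟨H, -, hHmin⟩ := Finite.exists_le_minimal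
    (p := fun U : Subgroup A => Inv σ U ∧ ∀ e ∈ E, ∃ h ∈ U, h ^ p ^ n = e) (a := ⊤)
    ⟨inv_top σ, fun e he => by obtain ⟨a, ha⟩ := hEφ e he; exact ⟨a, mem_top a, ha⟩⟩
  obtain ⟨hHinv, hHE⟩ := hHmin.prop
  have hmin : ∀ H' : Subgroup A, Inv σ H' → H' ≤ H → (∀ e ∈ E, ∃ h ∈ H', h ^ p ^ n = e) →
      H ≤ H' := fun H' h1 h2 h3 => hHmin.le_of_le ⟨h1, h3⟩ h2
  -- the image of `H` is exactly `E`
  have hφH : ∀ h ∈ H, h ^ p ^ n ∈ E := by
    have h1 : H ≤ H ⊓ E.comap (powMonoidHom (p ^ n)) := by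
      apply hmin _ (hHinv.inf (hE.comapPow _)) inf_le_left
      intro e he
      obtain ⟨h, hh, rfl⟩ := hHE e he
      exact ⟨h, mem_inf.mpr ⟨hh, by rw [mem_comap, powMonoidHom_apply]; exact he⟩, rfl⟩
    intro h hh
    have := (mem_inf.mp (h1 hh)).2
    rwa [mem_comap, powMonoidHom_apply] at this
  have hhom := stepC σ hσ1 hσmul p hpX n hexp H E hHinv hHE hmin
  obtain ⟨K, hKinv, hHK, hHK'⟩ := exists_inv_compl σ hσ1 hσmul p hpX n hexp H hHinv hhom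
  have hH1 : H ≠ ⊥ := by
    intro h
    apply hE1
    rw [eq_bot_iff]
    intro e he
    obtain ⟨h', hh', rfl⟩ := hHE e he
    rw [h, mem_bot] at hh'
    rw [hh', one_pow]
    exact one_mem _
  have hK : K = ⊥ := (hind H K hHinv hKinv hHK hHK').resolve_left hH1
  have hHtop : H = ⊤ := by rw [hK, sup_bot_eq] at hHK'; exact hHK'
  intro a ha
  have key : ∀ j, j ≤ n → ∃ b : A, b ^ p ^ j = a := by
    intro j
    induction j with
    | zero => intro _; exact ⟨a, by simp⟩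
    | succ j ih =>
      intro hj
      obtain ⟨b, hb⟩ := ih (by omega)
      have hbn : b ^ p ^ n = 1 := by
        have h1 : p ^ n = p ^ j * (p * p ^ (n - j - 1)) := by
          rw [← pow_succ', ← pow_add]; congr 1; omega
        rw [h1, pow_mul, hb, pow_mul, ha, one_pow]
      obtain ⟨c, -, hc⟩ := hhom b (by rw [hHtop]; exact mem_top b) hbn
      exact ⟨c, by rw [pow_succ', pow_mul, hc, hb]⟩
  obtain ⟨b, hb⟩ := key n le_rfl
  rw [← hb]
  exact hφH b (by rw [hHtop]; exact mem_top b)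

end Main

end Cfsg.Agent.Helper21.IndecAb
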