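import Mathlib
import Cfsg.Agent.Helper4.S0679J
import Cfsg.Agent.Helper17.S0679FIX3

set_option autoImplicit false
set_option linter.unusedSectionVars false
set_option linter.unusedVariables false

/-! # S0679, chapter (6), piece NODT (helper21): no double transposition. -/

namespace Cfsg.Agent.S0679P

open Equiv MulAction

variable {α : Type*} [Fintype α] [DecidableEq α] {G : Subgroup (Equiv.Perm α)}

/-- the shape of a permutation of cycle type `{2, 2}` -/
theorem NODT.aux_shape {s : Perm α} (hct : s.cycleType = {2, 2}) :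
    ∃ a b c d : α, a ≠ b ∧ a ≠ c ∧ a ≠ d ∧ b ≠ c ∧ b ≠ d ∧ c ≠ d ∧ s a = b ∧ s b = a ∧ s c = d ∧
      s d = c ∧ ∀ y, y ≠ a → y ≠ b → y ≠ c → y ≠ d → s y = y := by
  classical
  have hcard : s.support.card = 4 := by
    rw [← Equiv.Perm.sum_cycleType, hct]; rfl
  have hord : orderOf s = 2 := by
    rw [← Equiv.Perm.lcm_cycleType, hct]; rfl
  have hss : ∀ y, s (s y) = y := by
    intro y
    have h2 : s ^ 2 = 1 := by rw [← hord]; exact pow_orderOf_eq_one s
    have := congrArg (fun σ : Perm α => σ y) h2
    simpa [pow_two, Perm.mul_apply] using this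
  obtain ⟨a, ha⟩ : s.support.Nonempty := by
    rw [← Finset.card_pos, hcard]; norm_num
  have hab : a ≠ s a := fun h => (Perm.mem_support.mp ha) h.symm
  have hb : s a ∈ s.support := Perm.apply_mem_support.mpr ha
  obtain ⟨c, hc⟩ : (s.support \ {a, s a}).Nonempty := by
    rw [← Finset.card_pos]
    have h1 := Finset.le_card_sdiff {a, s a} s.support
    have h2 : ({a, s a} : Finset α).card ≤ 2 := Finset.card_le_two
    omega
  rw [Finset.mem_sdiff, Finset.mem_insert, Finset.mem_singleton, not_or] at hc
  obtain ⟨hcs, hca, hcb⟩ := hc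
  have hcd : c ≠ s c := fun h => (Perm.mem_support.mp hcs) h.symm
  have hds : s c ∈ s.support := Perm.apply_mem_support.mpr hcs
  have had : a ≠ s c := by
    intro h
    apply hcb
    have := congrArg s h
    rw [hss] at this
    exact this.symm
  have hbd : s a ≠ s c := fun h => hca (s.injective h).symm
  have hsub : ({a, s a, c, s c} : Finset α) ⊆ s.support := by
    intro y hy
    simp only [Finset.mem_insert, Finset.mem_singleton] at hy
    rcases hy with rfl | rfl | rfl | rfl
    · exact ha
    · exact hb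
    · exact hcs
    · exact hds
  have hcard4 : ({a, s a, c, s c} : Finset α).card = 4 := by
    rw [Finset.card_insert_of_notMem, Finset.card_insert_of_notMem, Finset.card_insert_of_notMem,
      Finset.card_singleton]
    · simpa using hcd
    · simp only [Finset.mem_insert, Finset.mem_singleton, not_or]
      exact ⟨fun h => hcb h.symm, hbd⟩
    · simp only [Finset.mem_insert, Finset.mem_singleton, not_or]
      exact ⟨hab, fun h => hca h.symm, had⟩
  have heq : ({a, s a, c, s c} : Finset α) = s.support :=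
    Finset.eq_of_subset_of_card_le hsub (by rw [hcard, hcard4])
  refine ⟨a, s a, c, s c, hab, fun h => hca h.symm, had, fun h => hcb h.symm, hbd, hcd, rfl, hss a, rfl,
    hss c, fun y h1 h2 h3 h4 => ?_⟩
  by_contra hy
  have : y ∈ s.support := Perm.mem_support.mpr hy
  rw [← heq] at this
  simp only [Finset.mem_insert, Finset.mem_singleton] at this
  rcases this with h | h | h | h
  · exact h1 h
  · exact h2 h
  · exact h3 h
  · exact h4 h

/-- NODT (M) = (6.4): no double transposition. -/
theorem NODT (h11 : Fintype.card α = 11) (h3 : IsMultiplyPretransitive G α 3)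
    (hA : ¬ alternatingGroup α ≤ G) (hord : Nat.card G = 7920) {s : Perm α} (hs : s ∈ G)
    (hct : s.cycleType = {2, 2}) : False := by
  classical
  obtain ⟨a, b, c, d, hab, hac, had, hbc, hbd, hcd, hsa, hsb, hsc, hsd, hsfix⟩ := NODT.aux_shape hct
  have h2 : IsMultiplyPretransitive G α 2 :=
    isMultiplyPretransitive_of_le (n := 3) (by norm_num) (by rw [Nat.card_eq_fintype_card, h11]; norm_num)
  -- the triple `(a, b, c)`
  have hinj : Function.Injective ![a, b, c] := by
    intro i j hij
    fin_cases i <;> fin_cases j <;> simp_all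
  let x : Fin 3 ↪ α := ⟨![a, b, c], hinj⟩
  have hd : d ∉ Set.range x := by
    rintro ⟨i, hi⟩
    fin_cases i
    · exact had hi
    · exact hbd hi
    · exact hcd hi
  obtain ⟨k, hk, hkd⟩ := FIX3 h11 h3 hord x hd
  have hkx : ∀ i, (k : Perm α) (x i) = x i := by
    intro i
    have h1 : k • x = x := hk
    have h2 := congrArg (fun y : Fin 3 ↪ α => y i) h1
    have h3 : (k • x) i = x i := h2
    rw [Function.Embedding.smul_apply] at h3
    exact h3
  set K : Perm α := (k : Perm α) with hK
  have hKa : K a = a := hkx 0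
  have hKb : K b = b := hkx 1
  have hKc : K c = c := hkx 2
  have hKia : K⁻¹ a = a := by rw [Perm.inv_eq_iff_eq, hKa]
  have hKib : K⁻¹ b = b := by rw [Perm.inv_eq_iff_eq, hKb]
  have hKic : K⁻¹ c = c := by rw [Perm.inv_eq_iff_eq, hKc]
  have hKK : ∀ y, K (K⁻¹ y) = y := fun y => by simp
  set e : α := K d with he
  have hed : e ≠ d := hkd
  have hea : e ≠ a := fun h => had (K.injective (by rw [hKa, ← h])).symm
  have heb : e ≠ b := fun h => hbd (K.injective (by rw [hKb, ← h])).symm
  have hec : e ≠ c := fun h => hcd (K.injective (by rw [hKc, ← h])).symm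
  have hKie : K⁻¹ e = d := by rw [Perm.inv_eq_iff_eq]
  -- `d' := K⁻¹ d` is outside the support of `s`
  have hd'a : K⁻¹ d ≠ a := fun h => had (by rw [Perm.inv_eq_iff_eq, hKa] at h; exact h.symm)
  have hd'b : K⁻¹ d ≠ b := fun h => hbd (by rw [Perm.inv_eq_iff_eq, hKb] at h; exact h.symm)
  have hd'c : K⁻¹ d ≠ c := fun h => hcd (by rw [Perm.inv_eq_iff_eq, hKc] at h; exact h.symm)
  have hd'd : K⁻¹ d ≠ d := fun h => hed (by rw [Perm.inv_eq_iff_eq] at h; exact h.symm)
  set t : Perm α := s * (K * s * K⁻¹) with ht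
  have htG : t ∈ G := G.mul_mem hs (G.mul_mem (G.mul_mem k.2 hs) (G.inv_mem k.2))
  have hty : ∀ y, t y = s (K (s (K⁻¹ y))) := fun y => by
    simp [ht, Perm.mul_apply]
  have hse : s e = e := hsfix e hea heb hec hed
  have htc : t c = e := by rw [hty, hKic, hsc, ← he, hse]
  have hte : t e = d := by rw [hty, hKie, hsd, hKc, hsc]
  have htd : t d = c := by
    rw [hty, hsfix _ hd'a hd'b hd'c hd'd, hKK, hsd]
  have hta : t a = a := by rw [hty, hKia, hsa, hKb, hsb]
  have htb : t b = b := by rw [hty, hKib, hsb, hKa, hsa]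
  have htfix : ∀ y, y ≠ c → y ≠ d → y ≠ e → t y = y := by
    intro y hyc hyd hye
    by_cases hya : y = a
    · rw [hya, hta]
    by_cases hyb : y = b
    · rw [hyb, htb]
    have h1 : K⁻¹ y ≠ a := fun h => hya (by rw [Perm.inv_eq_iff_eq, hKa] at h; exact h)
    have h2 : K⁻¹ y ≠ b := fun h => hyb (by rw [Perm.inv_eq_iff_eq, hKb] at h; exact h)
    have h3 : K⁻¹ y ≠ c := fun h => hyc (by rw [Perm.inv_eq_iff_eq, hKc] at h; exact h)
    have h4 : K⁻¹ y ≠ d := fun h => hye (by rw [Perm.inv_eq_iff_eq] at h; exact h)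
    rw [hty, hsfix _ h1 h2 h3 h4, hKK, hsfix y hya hyb hyc hyd]
  have hsupp : t.support = {c, d, e} := by
    ext y
    rw [Perm.mem_support]
    simp only [Finset.mem_insert, Finset.mem_singleton]
    constructor
    · intro hy
      by_contra hcon
      push Not at hcon
      exact hy (htfix y hcon.1 hcon.2.1 hcon.2.2)
    · rintro (rfl | rfl | rfl)
      · rw [htc]; exact hec
      · rw [htd]; exact hcd
      · rw [hte]; exact hed.symm
  have hcard : t.support.card = 3 := by
    rw [hsupp]
    exact Finset.card_eq_three.mpr ⟨c, d, e, hcd, hec.symm, hed.symm, rfl⟩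
  have hcyc : t.IsCycle := (card_support_eq_three_iff.mp hcard).isCycle
  exact J h11 h2 hA htG hcyc (by rw [hcard]; norm_num) (by rw [hcard]; norm_num)

end Cfsg.Agent.S0679P
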