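import Mathlib
import Cfsg.Agent.Helper14.S2481.Defs
import Cfsg.Agent.Helper14.S2481.DefsM
import Cfsg.Agent.Helper15.S2478HPROP

/-! S2481 wave 2, piece RMUL (driver helper14): orthogonal sums of realisations. -/

set_option autoImplicit false
set_option linter.unusedVariables false
set_option linter.unusedSectionVars false

namespace Cfsg.Agent.S2481P

open Polynomial DirectSum Matrix Cfsg.Agent.S2478P Cfsg.Agent.S2479P

universe u

variable {F : Type u} [Field F] {σ : F →+* F}

namespace RMUL

variable {V V' : Type u} [AddCommGroup V] [Module F V] [AddCommGroup V'] [Module F V']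

/-- the orthogonal sum of two sesquilinear forms -/
noncomputable def prodForm (B : V →ₛₗ[σ] V →ₗ[F] F) (B' : V' →ₛₗ[σ] V' →ₗ[F] F) :
    (V × V') →ₛₗ[σ] (V × V') →ₗ[F] F :=
  (B.comp (LinearMap.fst F V V')).compl₂ (LinearMap.fst F V V') +
    (B'.comp (LinearMap.snd F V V')).compl₂ (LinearMap.snd F V V')

theorem prodForm_apply (B : V →ₛₗ[σ] V →ₗ[F] F) (B' : V' →ₛₗ[σ] V' →ₗ[F] F) (x y : V × V') :
    prodForm B B' x y = B x.1 y.1 + B' x.2 y.2 := by
  simp [prodForm, LinearMap.compl₂_apply]

theorem prodForm_isSymm {B : V →ₛₗ[σ] V →ₗ[F] F} {B' : V' →ₛₗ[σ] V' →ₗ[F] F} (h : B.IsSymm)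
    (h' : B'.IsSymm) : (prodForm B B').IsSymm := by
  constructor
  intro x y
  rw [prodForm_apply, prodForm_apply, map_add, h.eq, h'.eq]

theorem prodForm_nondeg {B : V →ₛₗ[σ] V →ₗ[F] F} {B' : V' →ₛₗ[σ] V' →ₗ[F] F} (h : B.Nondegenerate)
    (h' : B'.Nondegenerate) : (prodForm B B').Nondegenerate := by
  constructor
  · intro x hx
    have h1 : x.1 = 0 := by
      apply h.1
      intro y
      have := hx (y, 0)
      rw [prodForm_apply] at this
      simpa using this
    have h2 : x.2 = 0 := by
      apply h'.1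
      intro y
      have := hx (0, y)
      rw [prodForm_apply] at this
      simpa using this
    exact Prod.ext h1 h2
  · intro y hy
    have h1 : y.1 = 0 := by
      apply h.2
      intro x
      have := hy (x, 0)
      rw [prodForm_apply] at this
      simpa using this
    have h2 : y.2 = 0 := by
      apply h'.2
      intro x
      have := hy (0, x)
      rw [prodForm_apply] at this
      simpa using this
    exact Prod.ext h1 h2

/-- the `F[X]`-module of `g.prodMap g'` is the product of the `F[X]`-modules -/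
noncomputable def aevalProd (g : V →ₗ[F] V) (g' : V' →ₗ[F] V') :
    Module.AEval' (g.prodMap g') ≃ₗ[F[X]] (Module.AEval' g × Module.AEval' g') :=
  LinearEquiv.ofAEval (g.prodMap g')
    ((Module.AEval'.of g).prodCongr (Module.AEval'.of g')) (by
      intro m
      apply Prod.ext
      · show Module.AEval'.of g (g m.1) = X • Module.AEval'.of g m.1
        rw [Module.AEval'.X_smul_of]
      · show Module.AEval'.of g' (g' m.2) = X • Module.AEval'.of g' m.2
        rw [Module.AEval'.X_smul_of])

/-- a direct sum over a disjoint union is the product of the direct sums -/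
noncomputable def sumEquiv {R : Type*} [CommRing R] {ι ι' : Type*} [Fintype ι] [Fintype ι']
    (M : ι ⊕ ι' → Type*) [∀ s, AddCommGroup (M s)] [∀ s, Module R (M s)] :
    ((⨁ i, M (Sum.inl i)) × (⨁ i, M (Sum.inr i))) ≃ₗ[R] ⨁ s, M s := by
  classical
  exact ((DirectSum.linearEquivFunOnFintype R ι (fun i => M (Sum.inl i))).prodCongr
    (DirectSum.linearEquivFunOnFintype R ι' (fun i => M (Sum.inr i)))).trans
    ((LinearEquiv.sumPiEquivProdPi R ι ι' M).symm.trans
      (DirectSum.linearEquivFunOnFintype R (ι ⊕ ι') M).symm)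

end RMUL

open RMUL

-- piece RMUL
theorem RealA.mul {n n' : ℕ} {t t' : ℕ → F[X]} (h : RealA σ n t) (h' : RealA σ n' t') :
    RealA σ (n + n') (t * t') := by
  classical
  obtain ⟨V, iV1, iV2, iV3, B, g, hBs, hBn, hfr, hiso, ⟨ι, iι, p, e, hpe, hsum, ⟨Φ⟩, ht⟩, hcp, hcent⟩ := h
  obtain ⟨V', iV1', iV2', iV3', B', g', hBs', hBn', hfr', hiso', ⟨ι', iι', p', e', hpe', hsum',
    ⟨Φ'⟩, ht'⟩, hcp', hcent'⟩ := h'
  -- the entries vanish beyond `n`, `n'`
  have hT := prod_mem_T p e n hpe hsum
  have hT' := prod_mem_T p' e' n' hpe' hsum'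
  rw [ht] at hT
  rw [ht'] at hT'
  refine ⟨V × V', inferInstance, inferInstance, inferInstance, prodForm B B', g.prodMap g',
    prodForm_isSymm hBs hBs', prodForm_nondeg hBn hBn', ?_, ?_, ?_, ?_, ?_⟩
  · rw [Module.finrank_prod, hfr, hfr']
  · intro v w
    rw [prodForm_apply, prodForm_apply]
    show B (g v.1) (g w.1) + B' (g' v.2) (g' w.2) = _
    rw [hiso, hiso']
  · refine ⟨ι ⊕ ι', inferInstance, Sum.elim p p', Sum.elim e e', ?_, ?_, ?_, ?_⟩
    · rintro (i | i)
      · exact hpe i
      · exact hpe' i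
    · rw [Fintype.sum_sum_type]
      simp only [Sum.elim_inl, Sum.elim_inr]
      rw [hsum, hsum']
    · exact ⟨(aevalProd g g').trans ((Φ.prodCongr Φ').trans
        (sumEquiv (R := F[X]) (fun s : ι ⊕ ι' =>
          F[X] ⧸ Submodule.span F[X] {Sum.elim p p' s ^ Sum.elim e e' s})))⟩
    · funext m
      rw [Pi.mul_apply, ← ht, ← ht']
      show ∏ i with Sum.elim e e' i = m, Sum.elim p p' i =
        (∏ i with e i = m, p i) * ∏ i with e' i = m, p' i
      rw [Finset.prod_filter, Finset.prod_filter, Finset.prod_filter, Fintype.prod_sum_type]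
      simp only [Sum.elim_inl, Sum.elim_inr]
      rfl
  · rw [LinearMap.charpoly_prodMap, hcp, hcp']
    -- extend both products to `range (n + n' + 1)`
    have e1 : ∏ m ∈ Finset.range (n + 1), t m ^ m = ∏ m ∈ Finset.range (n + n' + 1), t m ^ m := by
      apply Finset.prod_subset
      · intro x hx
        rw [Finset.mem_range] at hx ⊢
        omega
      · intro x _ hx
        rw [Finset.mem_range] at hx
        rw [hT.2.1 x (Or.inr (by omega)), one_pow]
    have e2 : ∏ m ∈ Finset.range (n' + 1), t' m ^ m =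
        ∏ m ∈ Finset.range (n + n' + 1), t' m ^ m := by
      apply Finset.prod_subset
      · intro x hx
        rw [Finset.mem_range] at hx ⊢
        omega
      · intro x _ hx
        rw [Finset.mem_range] at hx
        rw [hT'.2.1 x (Or.inr (by omega)), one_pow]
    rw [e1, e2, ← Finset.prod_mul_distrib]
    apply Finset.prod_congr rfl
    intro m _
    rw [Pi.mul_apply, mul_pow]
  · intro m hm z hz
    have hm' : 1 ≤ (t m * t' m).natDegree := hm
    rw [Polynomial.natDegree_mul (hT.1 m).1.ne_zero (hT'.1 m).1.ne_zero] at hm'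
    by_cases h1 : 1 ≤ (t m).natDegree
    · obtain ⟨c, hc1, hc2, hc3⟩ := hcent m h1 z hz
      refine ⟨c.prodMap LinearMap.id, ?_, ?_, ?_⟩
      · intro v w
        rw [prodForm_apply, prodForm_apply]
        show B (c v.1) (c w.1) + B' v.2 w.2 = _
        rw [hc1]
      · apply LinearMap.ext
        intro v
        apply Prod.ext
        · exact LinearMap.congr_fun hc2 v.1
        · rfl
      · rw [LinearMap.det_prodMap, hc3, LinearMap.det_id, mul_one]
    · have h2 : 1 ≤ (t' m).natDegree := by omega
      obtain ⟨c, hc1, hc2, hc3⟩ := hcent' m h2 z hz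
      refine ⟨(LinearMap.id).prodMap c, ?_, ?_, ?_⟩
      · intro v w
        rw [prodForm_apply, prodForm_apply]
        show B v.1 w.1 + B' (c v.2) (c w.2) = _
        rw [hc1]
      · apply LinearMap.ext
        intro v
        apply Prod.ext
        · rfl
        · exact LinearMap.congr_fun hc2 v.2
      · rw [LinearMap.det_prodMap, hc3, LinearMap.det_id, one_mul]

end Cfsg.Agent.S2481P
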