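import Mathlib
import Cfsg.Agent.Helper14.S2481.Defs
import Cfsg.Agent.Helper14.S2481.DefsM

/-! S2481 wave 2, piece RZERO (driver helper14): the empty tuple is realised by the zero space. -/

set_option autoImplicit false
set_option linter.unusedVariables false

namespace Cfsg.Agent.S2481P

open Polynomial DirectSum Matrix Cfsg.Agent.S2478P Cfsg.Agent.S2479P

universe u

variable {F : Type u} [Field F] {σ : F →+* F}

-- piece RZERO (`V = PUnit`)
theorem realA_zero (σ : F →+* F) : RealA σ 0 (fun _ => (1 : F[X])) := by
  classical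
  refine ⟨PUnit.{u+1}, inferInstance, inferInstance, inferInstance, 0, 0, ?_, ?_, ?_, ?_, ?_, ?_, ?_⟩
  · constructor
    intro x y
    simp
  · constructor
    · intro x _
      exact Subsingleton.elim _ _
    · intro x _
      exact Subsingleton.elim _ _
  · exact Module.finrank_zero_of_subsingleton
  · intro v w
    simp
  · refine ⟨PEmpty.{u+1}, inferInstance, PEmpty.elim, PEmpty.elim, ?_, ?_, ?_, ?_⟩
    · intro i
      exact i.elim
    · simp
    · have : Subsingleton (Module.AEval' (0 : PUnit.{u+1} →ₗ[F] PUnit.{u+1})) :=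
        (Module.AEval'.of (0 : PUnit.{u+1} →ₗ[F] PUnit.{u+1})).symm.injective.subsingleton
      exact ⟨LinearEquiv.ofSubsingleton _ _⟩
    · funext m
      simp
  · have h1 : (0 : PUnit.{u+1} →ₗ[F] PUnit.{u+1}).charpoly = 1 := by
      have hm : (0 : PUnit.{u+1} →ₗ[F] PUnit.{u+1}).charpoly.Monic := LinearMap.charpoly_monic _
      apply Polynomial.eq_one_of_monic_natDegree_zero hm
      rw [LinearMap.charpoly_natDegree]
      exact Module.finrank_zero_of_subsingleton
    rw [h1]
    simp
  · intro m hm
    exfalso
    simp [parts] at hm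

end Cfsg.Agent.S2481P
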