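import Mathlib

/-!
# S3161, piece BAER: two central extensions of an abelian group by a group of exponent 2 with
the same squaring map are isomorphic (no finiteness needed)
(blueprint `departures/helper16_S3161_blueprint.md`, item BAER)
-/

set_option autoImplicit false
set_option linter.style.haveILetI false

namespace Cfsg.Agent.S3161P

/-- In an abelian group of exponent 2 (finite or not) every subgroup has a complement. -/
theorem BAER_aux_compl {V : Type*} [CommGroup V] (hexp : ∀ v : V, v * v = 1) (W : Subgroup V) :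
    ∃ U : Subgroup V, W ⊓ U = ⊥ ∧ W ⊔ U = ⊤ := by
  obtain ⟨U, hU⟩ := zorn_le₀ {U : Subgroup V | W ⊓ U = ⊥} (by
    intro c hc hchain
    by_cases hne : c.Nonempty
    · refine ⟨sSup c, ?_, fun z hz => le_sSup hz⟩
      show W ⊓ sSup c = ⊥
      rw [eq_bot_iff]
      intro x hx
      obtain ⟨hxW, hxc⟩ := Subgroup.mem_inf.mp hx
      obtain ⟨U, hUc, hxU⟩ := (Subgroup.mem_sSup_of_directedOn hne hchain.directedOn).mp hxc
      have h1 : W ⊓ U = ⊥ := hc hUc
      rw [← h1]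
      exact ⟨hxW, hxU⟩
    · refine ⟨⊥, by simp, ?_⟩
      intro z hz
      exact absurd ⟨z, hz⟩ hne)
  have hUbot : W ⊓ U = ⊥ := hU.prop
  refine ⟨U, hUbot, ?_⟩
  rw [eq_top_iff]
  intro v _
  by_contra hv
  have hvU : v ∉ U := fun h => hv (Subgroup.mem_sup_right h)
  have hinv : ∀ x : V, x⁻¹ = x := fun x => inv_eq_of_mul_eq_one_left (hexp x)
  -- the subgroup U ⊔ ⟨v⟩
  have hmem : ∀ x : V, x ∈ U ⊔ Subgroup.zpowers v → x ∈ U ∨ x * v ∈ U := by
    intro x hx
    obtain ⟨u, hu, z, hz, rfl⟩ := Subgroup.mem_sup.mp hx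
    obtain ⟨k, rfl⟩ := Subgroup.mem_zpowers_iff.mp hz
    rcases Int.even_or_odd k with ⟨j, hj⟩ | ⟨j, hj⟩
    · left
      have h1 : v ^ k = 1 := by
        rw [hj, ← two_mul, zpow_mul, zpow_ofNat, pow_two, hexp, one_zpow]
      rw [h1, mul_one]
      exact hu
    · right
      have h1 : v ^ k = v := by
        rw [hj, zpow_add, zpow_mul, zpow_ofNat, pow_two, hexp, one_zpow, one_mul, zpow_one]
      rw [h1, mul_assoc, hexp, mul_one]
      exact hu
  have hbot : W ⊓ (U ⊔ Subgroup.zpowers v) = ⊥ := by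
    rw [eq_bot_iff]
    intro x hx
    obtain ⟨hxW, hxU⟩ := Subgroup.mem_inf.mp hx
    rcases hmem x hxU with h | h
    · rw [← hUbot]
      exact ⟨hxW, h⟩
    · exfalso
      apply hv
      have h2 : v = x⁻¹ * (x * v) := by group
      rw [h2]
      exact Subgroup.mul_mem _ (Subgroup.mem_sup_left (Subgroup.inv_mem _ hxW))
        (Subgroup.mem_sup_right h)
  have hle : U ⊔ Subgroup.zpowers v ≤ U := hU.le_of_ge hbot le_sup_left
  exact hvU (hle (Subgroup.mem_sup_right (Subgroup.mem_zpowers v)))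

/-- BAER: two central extensions with the same squaring map are isomorphic. -/
theorem BAER {T : Type*} {G : Type*} {M : Type*} [Group T] [Group G] [CommGroup M]
    (π : T →* M) (π' : G →* M) (hπ : Function.Surjective π) (hπ' : Function.Surjective π')
    (hcen : π.ker ≤ Subgroup.center T) (hcen' : π'.ker ≤ Subgroup.center G)
    (hexp : ∀ c ∈ π.ker, c * c = 1)
    (γ : T → G) (hγmul : ∀ a ∈ π.ker, ∀ b ∈ π.ker, γ (a * b) = γ a * γ b)
    (hγmem : ∀ a ∈ π.ker, γ a ∈ π'.ker) (hγinj : ∀ a ∈ π.ker, γ a = 1 → a = 1)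
    (hγsurj : ∀ b ∈ π'.ker, ∃ a ∈ π.ker, γ a = b)
    (hsq : ∀ (t : T) (g : G), π t = π' g → t * t ∈ π.ker ∧ γ (t * t) = g * g) :
    Nonempty (T ≃* G) := by
  classical
  have hγ1 : γ 1 = 1 := by
    have h1 := hγmul 1 (one_mem _) 1 (one_mem _)
    rw [mul_one] at h1
    exact (mul_eq_left.mp h1.symm)
  have hγinv : ∀ a ∈ π.ker, γ a⁻¹ = (γ a)⁻¹ := by
    intro a ha
    have h1 := hγmul a ha a⁻¹ (inv_mem ha)
    rw [mul_inv_cancel, hγ1] at h1
    exact (inv_eq_of_mul_eq_one_right h1.symm).symm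
  -- the fibre product
  let P : Subgroup (T × G) :=
    (π.comp (MonoidHom.fst T G)).eqLocus (π'.comp (MonoidHom.snd T G))
  have hP : ∀ x : T × G, x ∈ P ↔ π x.1 = π' x.2 := fun x => Iff.rfl
  have hPx : ∀ x : P, π (x : T × G).1 = π' (x : T × G).2 := fun x => (hP _).mp x.2
  -- the diagonal
  let Δ : Subgroup P :=
    { carrier := {x | (x : T × G).1 ∈ π.ker ∧ (x : T × G).2 = γ (x : T × G).1}
      one_mem' := ⟨one_mem _, hγ1.symm⟩
      mul_mem' := by
        rintro x y ⟨hx1, hx2⟩ ⟨hy1, hy2⟩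
        refine ⟨mul_mem hx1 hy1, ?_⟩
        show (x : T × G).2 * (y : T × G).2 = γ ((x : T × G).1 * (y : T × G).1)
        rw [hγmul _ hx1 _ hy1, hx2, hy2]
      inv_mem' := by
        rintro x ⟨hx1, hx2⟩
        refine ⟨inv_mem hx1, ?_⟩
        show ((x : T × G).2)⁻¹ = γ ((x : T × G).1)⁻¹
        rw [hγinv _ hx1, hx2] }
  have hΔ : ∀ x : P, x ∈ Δ ↔ (x : T × G).1 ∈ π.ker ∧ (x : T × G).2 = γ (x : T × G).1 :=
    fun x => Iff.rfl
  have hΔn : Δ.Normal := by
    constructor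
    intro n hn g
    have h1 : g * n * g⁻¹ = n := by
      obtain ⟨hn1, hn2⟩ := (hΔ n).mp hn
      have hc1 : (n : T × G).1 ∈ Subgroup.center T := hcen hn1
      have hc2 : (n : T × G).2 ∈ Subgroup.center G := by
        rw [hn2]
        exact hcen' (hγmem _ hn1)
      apply Subtype.ext
      apply Prod.ext
      · show (g : T × G).1 * (n : T × G).1 * ((g : T × G).1)⁻¹ = (n : T × G).1
        rw [Subgroup.mem_center_iff.mp hc1 _, mul_assoc, mul_inv_cancel, mul_one]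
      · show (g : T × G).2 * (n : T × G).2 * ((g : T × G).2)⁻¹ = (n : T × G).2
        rw [Subgroup.mem_center_iff.mp hc2 _, mul_assoc, mul_inv_cancel, mul_one]
    rw [h1]
    exact hn
  -- squares lie in Δ
  have hsqΔ : ∀ x : P, x * x ∈ Δ := by
    intro x
    obtain ⟨h1, h2⟩ := hsq _ _ (hPx x)
    exact (hΔ _).mpr ⟨h1, h2.symm⟩
  have hexpV : ∀ v : P ⧸ Δ, v * v = 1 := by
    intro v
    obtain ⟨x, rfl⟩ := QuotientGroup.mk_surjective v
    rw [← QuotientGroup.mk_mul, QuotientGroup.eq_one_iff]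
    exact hsqΔ x
  letI hcomm : CommGroup (P ⧸ Δ) :=
    { (inferInstance : Group (P ⧸ Δ)) with
      mul_comm := by
        intro a b
        have ha : a⁻¹ = a := inv_eq_of_mul_eq_one_left (hexpV a)
        have hb : b⁻¹ = b := inv_eq_of_mul_eq_one_left (hexpV b)
        have hab : (a * b)⁻¹ = a * b := inv_eq_of_mul_eq_one_left (hexpV (a * b))
        rw [mul_inv_rev, ha, hb] at hab
        exact hab.symm }
  -- E = ker π × ker π' inside P
  let E : Subgroup P := (π.comp ((MonoidHom.fst T G).comp P.subtype)).ker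
  have hE : ∀ x : P, x ∈ E ↔ (x : T × G).1 ∈ π.ker := fun x => Iff.rfl
  obtain ⟨U, hWU, hWU'⟩ := BAER_aux_compl hexpV (E.map (QuotientGroup.mk' Δ))
  let S₀ : Subgroup P := U.comap (QuotientGroup.mk' Δ)
  have hS₀ : ∀ x : P, x ∈ S₀ ↔ (QuotientGroup.mk x : P ⧸ Δ) ∈ U := fun x => Iff.rfl
  have hΔS : Δ ≤ S₀ := by
    intro x hx
    rw [hS₀, (QuotientGroup.eq_one_iff x).mpr hx]
    exact one_mem U
  have hSE : ∀ x : P, x ∈ S₀ → x ∈ E → x ∈ Δ := by
    intro x hxS hxE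
    have h1 : (QuotientGroup.mk x : P ⧸ Δ) ∈ E.map (QuotientGroup.mk' Δ) ⊓ U :=
      ⟨Subgroup.mem_map_of_mem (QuotientGroup.mk' Δ) hxE, (hS₀ x).mp hxS⟩
    rw [hWU, Subgroup.mem_bot] at h1
    exact (QuotientGroup.eq_one_iff x).mp h1
  have hdec : ∀ x : P, ∃ e ∈ E, ∃ s ∈ S₀, x = e * s := by
    intro x
    have h1 : (QuotientGroup.mk x : P ⧸ Δ) ∈ E.map (QuotientGroup.mk' Δ) ⊔ U := by
      rw [hWU']
      trivial
    obtain ⟨w, hw, u, hu, hwu⟩ := Subgroup.mem_sup.mp h1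
    obtain ⟨e, he, rfl⟩ := Subgroup.mem_map.mp hw
    refine ⟨e, he, e⁻¹ * x, ?_, by group⟩
    rw [hS₀, QuotientGroup.mk_mul, QuotientGroup.mk_inv, ← hwu]
    have h2 : ((QuotientGroup.mk' Δ) e)⁻¹ * ((QuotientGroup.mk' Δ) e * u) = u := by group
    rw [show (QuotientGroup.mk e : P ⧸ Δ) = (QuotientGroup.mk' Δ) e from rfl, h2]
    exact hu
  -- the two projections of S₀
  let f₁ : S₀ →* T := (MonoidHom.fst T G).comp (P.subtype.comp S₀.subtype)
  let f₂ : S₀ →* G := (MonoidHom.snd T G).comp (P.subtype.comp S₀.subtype)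
  have hf₁ : ∀ s : S₀, f₁ s = ((s : P) : T × G).1 := fun s => rfl
  have hf₂ : ∀ s : S₀, f₂ s = ((s : P) : T × G).2 := fun s => rfl
  have hinj₁ : Function.Injective f₁ := by
    rw [injective_iff_map_eq_one]
    intro s hs
    rw [hf₁] at hs
    have hsE : (s : P) ∈ E := by
      rw [hE, hs]
      exact one_mem _
    obtain ⟨h1, h2⟩ := (hΔ _).mp (hSE _ s.2 hsE)
    apply Subtype.ext
    apply Subtype.ext
    apply Prod.ext
    · exact hs
    · show ((s : P) : T × G).2 = 1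
      rw [h2, hs, hγ1]
  have hinj₂ : Function.Injective f₂ := by
    rw [injective_iff_map_eq_one]
    intro s hs
    rw [hf₂] at hs
    have hsE : (s : P) ∈ E := by
      rw [hE, MonoidHom.mem_ker, hPx, hs, map_one]
    obtain ⟨h1, h2⟩ := (hΔ _).mp (hSE _ s.2 hsE)
    have h3 : ((s : P) : T × G).1 = 1 := hγinj _ h1 (by rw [← h2, hs])
    apply Subtype.ext
    apply Subtype.ext
    apply Prod.ext
    · exact h3
    · exact hs
  have hsurj₁ : Function.Surjective f₁ := by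
    intro t
    obtain ⟨g, hg⟩ := hπ' (π t)
    obtain ⟨e, he, s, hs, hx⟩ := hdec ⟨(t, g), (hP _).mpr hg.symm⟩
    have he1 : (e : T × G).1 ∈ π.ker := (hE e).mp he
    let d : P := ⟨((e : T × G).1, γ (e : T × G).1), (hP _).mpr (by
      show π (e : T × G).1 = π' (γ (e : T × G).1)
      rw [MonoidHom.mem_ker.mp he1, MonoidHom.mem_ker.mp (hγmem _ he1)])⟩
    have hd : d ∈ Δ := (hΔ d).mpr ⟨he1, rfl⟩
    refine ⟨⟨d * s, mul_mem (hΔS hd) hs⟩, ?_⟩
    rw [hf₁]
    show (e : T × G).1 * (s : T × G).1 = t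
    have h1 := congrArg (fun y : P => (y : T × G).1) hx
    exact h1.symm
  have hsurj₂ : Function.Surjective f₂ := by
    intro g
    obtain ⟨t, ht⟩ := hπ (π' g)
    obtain ⟨e, he, s, hs, hx⟩ := hdec ⟨(t, g), (hP _).mpr ht⟩
    have he1 : (e : T × G).1 ∈ π.ker := (hE e).mp he
    have he2 : (e : T × G).2 ∈ π'.ker := by
      rw [MonoidHom.mem_ker, ← hPx e]
      exact MonoidHom.mem_ker.mp he1
    obtain ⟨a, ha, hae⟩ := hγsurj _ he2
    let d : P := ⟨(a, γ a), (hP _).mpr (by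
      show π a = π' (γ a)
      rw [MonoidHom.mem_ker.mp ha, MonoidHom.mem_ker.mp (hγmem _ ha)])⟩
    have hd : d ∈ Δ := (hΔ d).mpr ⟨ha, rfl⟩
    refine ⟨⟨d * s, mul_mem (hΔS hd) hs⟩, ?_⟩
    rw [hf₂]
    show γ a * (s : T × G).2 = g
    rw [hae]
    have h1 := congrArg (fun y : P => (y : T × G).2) hx
    exact h1.symm
  exact ⟨(MulEquiv.ofBijective f₁ ⟨hinj₁, hsurj₁⟩).symm.trans
    (MulEquiv.ofBijective f₂ ⟨hinj₂, hsurj₂⟩)⟩

end Cfsg.Agent.S3161P
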