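import Mathlib
import Cfsg.Prelude.Def_GeometricClasses
import Cfsg.Agent.Helper18.S5707.Defs

/-! S5707 piece REDSCAL: absorbing a scalar of the local Gram matrix into `c`. -/

set_option autoImplicit false

namespace Cfsg.Agent.S5707P

open Matrix

variable {F : Type*} [Field F] {k t : ℕ}

/-- piece REDSCAL (S): absorbing a scalar of the local Gram matrix into `c`. -/
theorem REDSCAL.scal {G : Matrix (Fin k) (Fin k) F} {c : F} {Q : (X k t → F) → F} (lam : F)
    (hQ : StdQ (lam • G) c Q) : StdQ G (c * lam ^ t) Q := by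
  refine ⟨hQ.smul, ?_, hQ.pure⟩
  intro v w
  have h1 : ∀ a b : X k t, (∏ i, (lam • G) (a i) (b i)) = lam ^ t * ∏ i, G (a i) (b i) := by
    intro a b
    simp only [Matrix.smul_apply, smul_eq_mul]
    rw [Finset.prod_mul_distrib, Finset.prod_const, Finset.card_univ, Fintype.card_fin]
  rw [hQ.polar v w, mul_assoc]
  congr 1
  rw [Finset.mul_sum]
  apply Finset.sum_congr rfl
  intro a _
  rw [Finset.mul_sum]
  apply Finset.sum_congr rfl
  intro b _
  rw [h1]
  ring

end Cfsg.Agent.S5707P
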