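import Mathlib
import Cfsg.Prelude.Def_GeometricClasses
import Cfsg.Agent.Helper18.S5707.Defs
import Cfsg.Agent.Helper3.S5702REDUCE

/-! S5707 piece REDSTD: transport of the statement to the standard model. -/

set_option autoImplicit false

namespace Cfsg.Agent.S5707P

open Matrix

variable {F : Type*} [Field F] {k t : ℕ}

namespace REDSTD

/-- strict inclusions and intersections are transported along an injective homomorphism -/
theorem between_map {G G' : Type*} [Group G] [Group G'] (f : G →* G') (hf : Function.Injective f)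
    {A B K' : Subgroup G} (h1 : A ⊓ B < K') (h2 : K' < B) :
    A.map f ⊓ B.map f < K'.map f ∧ K'.map f < B.map f := by
  refine ⟨?_, (Subgroup.map_lt_map_iff_of_injective hf).mpr h2⟩
  rw [← Subgroup.map_inf A B f hf]
  exact (Subgroup.map_lt_map_iff_of_injective hf).mpr h1

end REDSTD

/-- piece REDSTD (M; uses `Cfsg.Agent...map_glReindex_omegaGL`, `map_conj_omegaGL₂` of Helper3.S5702REDUCE). -/
theorem REDSTD.reduce {ι : Type} [Fintype ι] [DecidableEq ι] (Q : (ι → F) → F)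
    (hQ : Cfsg.Geo.IsNondegenerateQuadraticForm Q) (e : ι ≃ X k t) (P : GL ι F)
    (f₁ : (Fin k → F) → (Fin k → F) → F)
    (hT : Cfsg.Geo.IsTensorPowerFormStructure id (QuadraticMap.polar Q) f₁ e P)
    (hpure : ∀ xs : Fin t → (Fin k → F),
      Q (Matrix.mulVec (P : Matrix ι ι F) ((fun a : Fin t → Fin k => ∏ i, xs i (a i)) ∘ e)) = 0) :
    ∃ c : F, c ≠ 0 ∧ StdQ (Cfsg.Geo.gramMatrix f₁) c (fun v : X k t → F => Q ((P : Matrix ι ι F) *ᵥ (v ∘ e))) ∧
      ((∃ K' : Subgroup (GL (X k t) F),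
          Cfsg.Geo.tensorWreathStandard k t F ⊓
            Cfsg.Geo.omegaGL (fun v : X k t → F => Q ((P : Matrix ι ι F) *ᵥ (v ∘ e))) < K' ∧
          K' < Cfsg.Geo.omegaGL (fun v : X k t → F => Q ((P : Matrix ι ι F) *ᵥ (v ∘ e)))) →
        ∃ K : Subgroup (GL ι F), Cfsg.Geo.tensorWreathSubgroup k t e P ⊓ Cfsg.Geo.omegaGL Q < K ∧
          K < Cfsg.Geo.omegaGL Q) := by
  obtain ⟨c, hc, hform⟩ := hT
  refine ⟨c, hc, ⟨?_, ?_, hpure⟩, ?_⟩
  · intro a v
    have h1 : (P : Matrix ι ι F) *ᵥ ((a • v) ∘ e) = a • ((P : Matrix ι ι F) *ᵥ (v ∘ e)) := by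
      rw [← Matrix.mulVec_smul]
      rfl
    show Q ((P : Matrix ι ι F) *ᵥ ((a • v) ∘ e)) = a ^ 2 * Q ((P : Matrix ι ι F) *ᵥ (v ∘ e))
    rw [h1, hQ.smul]
  · intro v w
    have h1 : (P : Matrix ι ι F) *ᵥ ((v + w) ∘ e) =
        (P : Matrix ι ι F) *ᵥ (v ∘ e) + (P : Matrix ι ι F) *ᵥ (w ∘ e) := by
      rw [← Matrix.mulVec_add]
      rfl
    have h2 := hform v w
    simp only [id] at h2
    rw [← h2]
    show Q ((P : Matrix ι ι F) *ᵥ ((v + w) ∘ e)) - Q ((P : Matrix ι ι F) *ᵥ (v ∘ e)) -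
      Q ((P : Matrix ι ι F) *ᵥ (w ∘ e)) = _
    rw [h1]
    rfl
  · rintro ⟨K', hK1, hK2⟩
    -- the two transports
    have hcomp : ∀ x : ι → F, (x ∘ e.symm) ∘ e = x := by
      intro x
      funext i
      simp
    have hΩ1 : (Cfsg.Geo.omegaGL (fun v : X k t → F => Q ((P : Matrix ι ι F) *ᵥ (v ∘ e)))).map
        (Cfsg.Geo.glReindex e.symm).toMonoidHom =
        Cfsg.Geo.omegaGL (fun x : ι → F => Q ((P : Matrix ι ι F) *ᵥ x)) := by
      rw [Cfsg.Agent.S5702P.REDUCE.map_glReindex_omegaGL]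
      simp only [hcomp]
    have hΩ2 : (Cfsg.Geo.omegaGL (fun x : ι → F => Q ((P : Matrix ι ι F) *ᵥ x))).map
        (MulAut.conj P).toMonoidHom = Cfsg.Geo.omegaGL Q :=
      Cfsg.Agent.S5702P.REDUCE.map_conj_omegaGL₂ Q (fun x : ι → F => Q ((P : Matrix ι ι F) *ᵥ x)) P 1
        one_ne_zero (fun x => by rw [one_mul])
    obtain ⟨a1, a2⟩ := REDSTD.between_map (Cfsg.Geo.glReindex (F := F) e.symm).toMonoidHom
      (Cfsg.Geo.glReindex (F := F) e.symm).injective hK1 hK2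
    obtain ⟨b1, b2⟩ := REDSTD.between_map (MulAut.conj P).toMonoidHom (MulAut.conj P).injective a1 a2
    rw [hΩ1, hΩ2] at b1 b2
    exact ⟨_, b1, b2⟩

end Cfsg.Agent.S5707P
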