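import Mathlib

/-! S5980 (driver helper21): shared definitions. -/

set_option autoImplicit false

namespace Cfsg.Agent.S5980P

/-- the standard alternating `2 × 2` matrix -/
def J2 (F : Type*) [Field F] : Matrix (Fin 2) (Fin 2) F := !![0, 1; -1, 0]

variable {F : Type*} [Field F]

@[simp] theorem J2_zero_zero : J2 F 0 0 = 0 := rfl
@[simp] theorem J2_zero_one : J2 F 0 1 = 1 := rfl
@[simp] theorem J2_one_zero : J2 F 1 0 = -1 := rfl
@[simp] theorem J2_one_one : J2 F 1 1 = 0 := rfl

theorem J2_transpose : (J2 F).transpose = -J2 F := by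
  ext i j
  fin_cases i <;> fin_cases j <;> simp [J2]

theorem J2_det : (J2 F).det = 1 := by
  simp [J2, Matrix.det_fin_two]

end Cfsg.Agent.S5980P
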