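import Mathlib
import Cfsg.Prelude.Def_GeometricClasses
import Cfsg.Agent.Helper21.S5980Defs

set_option autoImplicit false
open scoped Matrix

/-! S5980 pieces GFORM1, GFORM2: Gram matrices of a symplectic form in dimension two and of a
nondegenerate symmetric form. -/

namespace Cfsg.Agent.S5980P

namespace GFORM

variable {F : Type*} [Field F] {κ : Type} [Fintype κ] [DecidableEq κ]

/-- a bilinear form as a `LinearMap.BilinForm` -/
def toBilin (f : (κ → F) → (κ → F) → F) (hf : Cfsg.Geo.IsBilinearForm f) :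
    LinearMap.BilinForm F (κ → F) :=
  LinearMap.mk₂ F f hf.add_left hf.smul_left hf.add_right hf.smul_right

theorem toBilin_apply (f : (κ → F) → (κ → F) → F) (hf : Cfsg.Geo.IsBilinearForm f) (x y : κ → F) :
    toBilin f hf x y = f x y := rfl

/-- a bilinear form in terms of its Gram matrix -/
theorem apply_eq (f : (κ → F) → (κ → F) → F) (hf : Cfsg.Geo.IsBilinearForm f) (x y : κ → F) :
    f x y = x ⬝ᵥ (Cfsg.Geo.gramMatrix f *ᵥ y) := by
  have h1 : LinearMap.BilinForm.toMatrix' (toBilin f hf) = Cfsg.Geo.gramMatrix f := by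
    ext i j
    rw [LinearMap.BilinForm.toMatrix'_apply]
    rfl
  rw [← toBilin_apply f hf, ← Matrix.toBilin'_toMatrix' (toBilin f hf), Matrix.toBilin'_apply', h1]

end GFORM

open GFORM in
/-- GFORM1: the Gram matrix of a symplectic form in dimension two -/
theorem gram_symplectic_two {F : Type*} [Field F] (f₁ : (Fin 2 → F) → (Fin 2 → F) → F)
    (hf₁ : Cfsg.Geo.IsSymplecticForm f₁) :
    ∃ t : F, t ≠ 0 ∧ Cfsg.Geo.gramMatrix f₁ = t • J2 F := by
  have h00 : Cfsg.Geo.gramMatrix f₁ 0 0 = 0 := hf₁.alternating _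
  have h11 : Cfsg.Geo.gramMatrix f₁ 1 1 = 0 := hf₁.alternating _
  have h10 : Cfsg.Geo.gramMatrix f₁ 1 0 = -Cfsg.Geo.gramMatrix f₁ 0 1 := hf₁.skew _ _
  refine ⟨Cfsg.Geo.gramMatrix f₁ 0 1, ?_, ?_⟩
  · intro h0
    have hG : Cfsg.Geo.gramMatrix f₁ = 0 := by
      ext i j
      fin_cases i <;> fin_cases j <;> simp [h00, h11, h10, h0]
    have hne : (Pi.single 0 1 : Fin 2 → F) ≠ 0 := by
      intro h
      have := congrFun h 0
      simp at this
    obtain ⟨⟨x, hx⟩, -⟩ := hf₁.nondegenerate _ hne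
    apply hx
    rw [apply_eq f₁ hf₁.bilinear, hG, Matrix.zero_mulVec, dotProduct_zero]
  · ext i j
    fin_cases i <;> fin_cases j <;> simp [h00, h11, h10, J2]

open GFORM in
/-- GFORM2: the Gram matrix of a nondegenerate symmetric form -/
theorem gram_symmetric {F : Type*} [Field F] (b : ℕ) (f₂ : (Fin b → F) → (Fin b → F) → F)
    (hf₂ : Cfsg.Geo.IsSymmetricForm f₂) :
    (Cfsg.Geo.gramMatrix f₂).transpose = Cfsg.Geo.gramMatrix f₂ ∧
      (Cfsg.Geo.gramMatrix f₂).det ≠ 0 := by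
  constructor
  · ext i j
    exact hf₂.symm _ _
  · intro hdet
    obtain ⟨v, hv0, hv⟩ := Matrix.exists_mulVec_eq_zero_iff.2 hdet
    obtain ⟨⟨x, hx⟩, -⟩ := hf₂.nondegenerate v hv0
    apply hx
    rw [apply_eq f₂ hf₂.bilinear, hv, dotProduct_zero]

end Cfsg.Agent.S5980P
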