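import Cfsg.Agent.Helper27.S5634BDefs
import Cfsg.Agent.Helper24.S5634BCMP
import Cfsg.Agent.Helper25.S5634BDUAL1
import Cfsg.Agent.Helper11.S5634BLCLA

set_option autoImplicit false
set_option linter.unusedSectionVars false
set_option linter.unusedVariables false

/-! # S5634, half `m ≥ 2`, piece B_OFFA (helper21): the good case of `OFF` -/

namespace Cfsg.Agent.S5634P

open Matrix Cfsg.Agent.Helper28.SLMax
open scoped MatrixGroups

variable {F : Type*} [Field F] {n t m : ℕ} {D : Fin t → Submodule F (Fin n → F)}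

/-- if `y` is off the line of `x ≠ 0`, then `x` is off the line of `y` -/
theorem OFFA.not_mem_span_symm {x y : Fin n → F} (hx0 : x ≠ 0) (hyx : y ∉ Submodule.span F {x}) :
    x ∉ Submodule.span F {y} := by
  intro hx
  obtain ⟨a, ha⟩ := Submodule.mem_span_singleton.1 hx
  apply hyx
  have ha0 : a ≠ 0 := by
    rintro rfl
    rw [zero_smul] at ha
    exact hx0 ha.symm
  refine Submodule.mem_span_singleton.2 ⟨a⁻¹, ?_⟩
  rw [← ha, smul_smul, inv_mul_cancel₀ ha0, one_smul]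

/-- a vector off a line is not zero -/
theorem OFFA.ne_zero_of_not_mem_span {x y : Fin n → F} (hyx : y ∉ Submodule.span F {x}) : y ≠ 0 := by
  rintro rfl
  exact hyx (Submodule.zero_mem _)

/-- `LC` with a block functional `χ` normalised by `χ w_c = 1`: the component is replaced by any `y ∈ D c ∩ ker ψ`
off its line -/
theorem OFFA.center_move (hD : Cfsg.Geo.IsMDecomposition m D) (M : Subgroup (GL (Fin n) F))
    (hHM : HH D ≤ M) {w ψ : Fin n → F} (hT : EE w ψ ∈ M) (hψw : ψ ⬝ᵥ w = 0)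
    {c : Fin t} (hc : cmp D c w ≠ 0)
    {y : Fin n → F} (hy : y ∈ D c) (hψy : ψ ⬝ᵥ y = 0) (hyw : y ∉ Submodule.span F {cmp D c w}) :
    EE y ψ ∈ M := by
  obtain ⟨χ, hχ, hχy, hχw⟩ :=
    DUAL.exists_one hD (CMP.mem hD c w) hy (OFFA.not_mem_span_symm hc hyw)
  have h1 : χ ⬝ᵥ w = 1 := by rw [DUAL.dot_cmp hD hχ w, hχw]
  have h := LC hD M hHM hT hψw hy hχ hχy hψy
  rwa [h1, one_smul] at h

theorem OFFA.off (hD : Cfsg.Geo.IsMDecomposition m D) (hm : 2 ≤ m) (M : Subgroup (GL (Fin n) F))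
    (hHM : HH D ≤ M) {w ψ : Fin n → F} (hT : EE w ψ ∈ M) (hψw : ψ ⬝ᵥ w = 0) (hψ : ψ ≠ 0)
    {c c' : Fin t} (hcc' : c ≠ c') (hc : cmp D c w ≠ 0) (hc' : cmp D c' w ≠ 0)
    {y : Fin n → F} (hy : y ∈ D c) (hψy : ψ ⬝ᵥ y = 0) (hyw : y ∉ Submodule.span F {cmp D c w}) :
    OffIn D M := by
  have hTy : EE y ψ ∈ M := OFFA.center_move hD M hHM hT hψw hc hy hψy hyw
  have hy0 : y ≠ 0 := OFFA.ne_zero_of_not_mem_span hyw
  by_cases hcase : ∃ d, d ≠ c ∧ ∃ z ∈ D d, ψ ⬝ᵥ z ≠ 0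
  · obtain ⟨d, hdc, z, hz, hψz⟩ := hcase
    obtain ⟨χ', hχ', hχ'0, hχ'z⟩ := DUAL.exists_ne hD hm d hz
    have hχ'y : χ' ⬝ᵥ y = 0 := DUAL.dot_of_mem_ne hD hχ' hy (Ne.symm hdc)
    have h := LA hD M hHM hTy hψy hz hχ' hχ'z hχ'y
    refine ⟨c, d, y, (ψ ⬝ᵥ z) • χ', Ne.symm hdc, hy, hy0, (Dl D d).smul_mem _ hχ', ?_, h⟩
    exact smul_ne_zero hψz hχ'0
  · have hψc : ψ ∈ Dl D c := DUAL.mem_of_forall hD (fun b hb y' hy' => by
      by_contra hne
      exact hcase ⟨b, hb, y', hy', hne⟩)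
    obtain ⟨y', hy', hy'w⟩ := DUAL.exists_indep hD hm c' (cmp D c' w)
    have hψy' : ψ ⬝ᵥ y' = 0 := DUAL.dot_of_mem_ne hD hψc hy' (Ne.symm hcc')
    have hTy' : EE y' ψ ∈ M := OFFA.center_move hD M hHM hT hψw hc' hy' hψy' hy'w
    exact ⟨c', c, y', ψ, Ne.symm hcc', hy', OFFA.ne_zero_of_not_mem_span hy'w, hψc, hψ, hTy'⟩

end Cfsg.Agent.S5634P
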