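import Mathlib
import Cfsg.Agent.Helper21.S2289DEFS

/-!
# S2289: the predicate "`g` is an element `u(a, ·)` of the unipotent group of the model"
-/

namespace Cfsg.Agent.Helper21.S2289

/-- `g = u(a, b)` for some valid pair `(a, b)` -/
def InU {F : Type*} [Field F] {q : ℕ} {G : Type*} [Group G] (D : U3Data F q G) (a : F) (g : G) : Prop :=
  ∃ b : F, Val q a b ∧ g = D.uG a b

theorem InU.congr {F : Type*} [Field F] {q : ℕ} {G : Type*} [Group G] {D : U3Data F q G} {a a' : F}
    {g : G} (h : InU D a g) (e : a = a') : InU D a' g := e ▸ h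

theorem inU_uG {F : Type*} [Field F] {q : ℕ} {G : Type*} [Group G] (D : U3Data F q G) {a b : F}
    (h : Val q a b) : InU D a (D.uG a b) := ⟨b, h, rfl⟩

end Cfsg.Agent.Helper21.S2289
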