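import Mathlib
import Cfsg.Agent.Helper21.S2286DEFS
import Cfsg.Agent.Helper21.S2289DEFS
import Cfsg.Agent.Helper21.S2289UDEFS
import Cfsg.Agent.Helper5.S2289MODELEV
import Cfsg.Agent.Helper5.S2289UWORD

/-!
# S2289 piece UCL: the `a`-coordinate calculus for the unipotent group of the model
-/

set_option autoImplicit false

namespace Cfsg.Agent.Helper21.S2289

open Cfsg.Agent.Helper21.S2286

section rel
variable {F : Type*} [Field F] [Fintype F] {q : ℕ} {G : Type*} [Group G] (D : U3Data F q G)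

theorem inU_one (hF : Fintype.card F = q ^ 2) : InU D 0 (1 : G) := by
  have hq : 2 ≤ q := Cfsg.Agent.Helper2.Herm.two_le_q hF
  refine ⟨0, ?_, D.u_zero.symm⟩
  unfold Val
  rw [zero_pow (by omega), zero_pow (by omega)]
  simp

theorem inU_mul (hF : Fintype.card F = q ^ 2) {a a' : F} {g g' : G} (h : InU D a g)
    (h' : InU D a' g') : InU D (a + a') (g * g') := by
  obtain ⟨b, hv, rfl⟩ := h
  obtain ⟨b', hv', rfl⟩ := h'
  exact ⟨_, val_mul hF hv hv', D.u_mul _ _ _ _ hv hv'⟩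

theorem inU_inv (hF : Fintype.card F = q ^ 2) {a : F} {g : G} (h : InU D a g) : InU D (-a) g⁻¹ := by
  obtain ⟨b, hv, rfl⟩ := h
  obtain ⟨e, hv'⟩ := uG_inv D hF hv
  exact ⟨_, hv', e⟩

theorem inU_pow (hF : Fintype.card F = q ^ 2) {a : F} {g : G} (h : InU D a g) (m : ℕ) :
    InU D (m * a) (g ^ m) := by
  obtain ⟨b, hv, rfl⟩ := h
  obtain ⟨hv', e⟩ := MODELEV.uG_pow_aux D hF hv m
  exact ⟨_, hv', e⟩

theorem inU_cj (hF : Fintype.card F = q ^ 2) (ζ : Fˣ) (i : ℤ) {a : F} {g : G} (h : InU D a g) :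
    InU D (((ζ : F) ^ 2 / (ζ : F) ^ q) ^ i * a) (cj (D.hG (ζ : F)) g i) := by
  obtain ⟨b, hv, rfl⟩ := h
  obtain ⟨e, hv'⟩ := cj_hu D hF ζ i hv
  exact ⟨_, hv', e⟩

theorem inU_prodA (hF : Fintype.card F = q ^ 2) (ζ : Fˣ) {a : F} {g : G} (h : InU D a g)
    (c : ℕ → ℕ) (n : ℕ) :
    InU D (ev ((ζ : F) ^ 2 / (ζ : F) ^ q) c n * a) (prodA (D.hG (ζ : F)) g c n) := by
  obtain ⟨b, hv, rfl⟩ := h
  obtain ⟨b', hv', e⟩ := prodA_u D hF ζ hv c n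
  exact ⟨_, hv', e⟩

theorem inU_prodA_pow (hF : Fintype.card F = q ^ 2) (ζ : Fˣ) (m : ℕ) {a : F} {g : G}
    (h : InU D a g) (c : ℕ → ℕ) (n : ℕ) :
    InU D (ev (((ζ : F) ^ 2 / (ζ : F) ^ q) ^ m) c n * a) (prodA (D.hG (ζ : F) ^ m) g c n) := by
  obtain ⟨b, hv, rfl⟩ := h
  obtain ⟨b', hv', e⟩ := prodA_u_pow D hF ζ m hv c n
  exact ⟨_, hv', e⟩

theorem inU_zW (hF : Fintype.card F = q ^ 2) (ζ : Fˣ) {a : F} {g : G} (h : InU D a g) :
    InU D 0 (zW (D.hG (ζ : F)) g) := by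
  have h1 := inU_cj D hF ζ 1 h
  have h2 := inU_mul D hF (inU_mul D hF (inU_mul D hF h h1) (inU_inv D hF h)) (inU_inv D hF h1)
  unfold zW
  exact h2.congr (by ring)

omit [Fintype F] in
theorem val_base (β₀ : F) (hβ : β₀ + β₀ ^ q = -1) : Val q 1 β₀ := by
  unfold Val
  rw [hβ, one_pow]
  ring

/-- two elements with the same `a`-coordinate differ by a word in the conjugates of `z` -/
theorem inU_zcorr (p : ℕ) [Fact p.Prime] [CharP F p] (hF : Fintype.card F = q ^ 2) (h2 : q ≠ 2)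
    (h3 : q ≠ 3) (ζ : Fˣ) (hζ : ∀ y : Fˣ, y ∈ Subgroup.zpowers ζ) (β₀ : F) (hβ : β₀ + β₀ ^ q = -1)
    {a : F} {g g' : G} (h : InU D a g) (h' : InU D a g') :
    ∃ (c : ℕ → ℕ) (n : ℕ),
      g = g' * prodA (D.hG (ζ : F)) (zW (D.hG (ζ : F)) (D.uG 1 β₀)) c n := by
  obtain ⟨b, hv, rfl⟩ := h
  obtain ⟨b', hv', rfl⟩ := h'
  exact zcorr D p hF h2 h3 ζ hζ (val_base β₀ hβ) one_ne_zero hv hv'

/-- an element with `a`-coordinate `0` is a word in the conjugates of `z` -/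
theorem inU_zero_word (p : ℕ) [Fact p.Prime] [CharP F p] (hF : Fintype.card F = q ^ 2) (h2 : q ≠ 2)
    (h3 : q ≠ 3) (ζ : Fˣ) (hζ : ∀ y : Fˣ, y ∈ Subgroup.zpowers ζ) (β₀ : F) (hβ : β₀ + β₀ ^ q = -1)
    {g : G} (h : InU D 0 g) :
    ∃ (c : ℕ → ℕ) (n : ℕ), g = prodA (D.hG (ζ : F)) (zW (D.hG (ζ : F)) (D.uG 1 β₀)) c n := by
  obtain ⟨c, n, e⟩ := inU_zcorr D p hF h2 h3 ζ hζ β₀ hβ h (inU_one D hF)
  exact ⟨c, n, by rw [e, one_mul]⟩

end rel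

end Cfsg.Agent.Helper21.S2289
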