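import Cfsg.Agent.Helper21.S2286PIPE

/-! # S2286: the concrete relator lists -/

namespace Cfsg.Agent.Helper21.S2286

open Polynomial Multiplicative

/-! ## generic wrapper -/

theorem lift_vec_eq_mk (rels : Set (FreeGroup (Fin 3))) :
    FreeGroup.lift ![(PresentedGroup.of 0 : PresentedGroup rels), PresentedGroup.of 1,
      PresentedGroup.of 2] = PresentedGroup.mk rels := by
  ext i
  fin_cases i <;> rfl

theorem closure_three (rels : Set (FreeGroup (Fin 3))) :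
    Subgroup.closure ({(PresentedGroup.of 0 : PresentedGroup rels), PresentedGroup.of 1,
      PresentedGroup.of 2} : Set (PresentedGroup rels)) = ⊤ := by
  rw [← PresentedGroup.closure_range_of rels]
  congr 1
  ext g
  simp only [Set.mem_insert_iff, Set.mem_singleton_iff, Set.mem_range]
  constructor
  · rintro (rfl | rfl | rfl)
    exacts [⟨0, rfl⟩, ⟨1, rfl⟩, ⟨2, rfl⟩]
  · rintro ⟨i, rfl⟩
    fin_cases i
    · left; rfl
    · right; left; rfl
    · right; right; rfl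

theorem wrap (L : List (FreeGroup (Fin 3))) {H : Type*} [Group H] (f : Fin 3 → H)
    (hf : ∀ r ∈ L, FreeGroup.lift f r = 1)
    (hpipe : ∀ {P : Type} [Group P] (u h t : P), Subgroup.closure ({u, h, t} : Set P) = ⊤ →
      (∀ r ∈ L, FreeGroup.lift ![u, h, t] r = 1) → ∀ Φ : P →* H, Φ u = f 0 → Φ h = f 1 →
        Φ t = f 2 → Function.Bijective Φ) :
    ∃ rels : Finset (FreeGroup (Fin 3)), rels.card ≤ L.length ∧
      Nonempty (PresentedGroup (↑rels : Set (FreeGroup (Fin 3))) ≃* H) := by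
  classical
  refine ⟨L.toFinset, List.toFinset_card_le L, ?_⟩
  have hf' : ∀ r ∈ (↑L.toFinset : Set (FreeGroup (Fin 3))), FreeGroup.lift f r = 1 := by
    intro r hr
    exact hf r (by simpa using hr)
  have hb := hpipe (P := PresentedGroup (↑L.toFinset : Set (FreeGroup (Fin 3))))
    (PresentedGroup.of 0) (PresentedGroup.of 1) (PresentedGroup.of 2) (closure_three _)
    (by
      intro r hr
      rw [lift_vec_eq_mk]
      exact PresentedGroup.one_of_mem (by simpa using hr))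
    (PresentedGroup.toGroup hf') (PresentedGroup.toGroup.of hf') (PresentedGroup.toGroup.of hf')
    (PresentedGroup.toGroup.of hf')
  exact ⟨MulEquiv.ofBijective _ hb⟩

/-! ## relators -/

def R1 (p : ℕ) : FreeGroup (Fin 3) := gU ^ p
def R2 : FreeGroup (Fin 3) := gU * cj gH gU 1 * (cj gH gU 1 * gU)⁻¹
def R3 (k : ℤ) : FreeGroup (Fin 3) := cj gH gU k * (gU * cj gH gU 1)⁻¹
def R4 (mc : ℕ → ℕ) (e : ℕ) : FreeGroup (Fin 3) := prodA gH gU mc (e + 1)
def R4' (mc : ℕ → ℕ) (e N : ℕ) : FreeGroup (Fin 3) := prodA gH gU mc (e + 1) * (gH ^ N)⁻¹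
def R5 : FreeGroup (Fin 3) := gT * gH * gT⁻¹ * gH
def R6 : FreeGroup (Fin 3) := gT * gT
def R7 : FreeGroup (Fin 3) := gT * gU * gT⁻¹ * (gU⁻¹ * gT * gU⁻¹)⁻¹
def R7' : FreeGroup (Fin 3) := gU * gT * gU * (gT * gU * gT)⁻¹
def R8 (cx : ℕ → ℕ) (nx : ℕ) (cy : ℕ → ℕ) (ny : ℕ) : FreeGroup (Fin 3) :=
  gT * prodA gH gU cx nx * gT⁻¹ * (prodA gH gU cy ny * gH * gT * prodA gH gU cy ny)⁻¹
def RNS2 : FreeGroup (Fin 3) :=
  (gU * cj gH gU 1) * (cj gH gU 1 * cj gH gU 2) * ((cj gH gU 1 * cj gH gU 2) * (gU * cj gH gU 1))⁻¹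
def RNS3 (k : ℤ) : FreeGroup (Fin 3) :=
  cj gH gU (2 * k - 1) * ((gU * cj gH gU 1) * (cj gH gU 1 * cj gH gU 2))⁻¹

section lifts
variable {P : Type*} [Group P] (u h t : P)

@[simp] theorem lift_gU : FreeGroup.lift ![u, h, t] gU = u := by simp [gU]
@[simp] theorem lift_gH : FreeGroup.lift ![u, h, t] gH = h := by simp [gH]
@[simp] theorem lift_gT : FreeGroup.lift ![u, h, t] gT = t := by simp [gT]

theorem lift_R1 (p : ℕ) : FreeGroup.lift ![u, h, t] (R1 p) = 1 ↔ u ^ p = 1 := by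
  simp [R1]
theorem lift_R2 : FreeGroup.lift ![u, h, t] R2 = 1 ↔ Commute u (cj h u 1) := by
  simp only [R2, map_mul, map_inv, map_cj, lift_gU, lift_gH, mul_inv_eq_one]
  exact Iff.rfl
theorem lift_R3 (k : ℤ) : FreeGroup.lift ![u, h, t] (R3 k) = 1 ↔ cj h u k = u * cj h u 1 := by
  simp only [R3, map_mul, map_inv, map_cj, lift_gU, lift_gH, mul_inv_eq_one]
theorem lift_R4 (mc : ℕ → ℕ) (e : ℕ) :
    FreeGroup.lift ![u, h, t] (R4 mc e) = 1 ↔ prodA h u mc (e + 1) = 1 := by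
  simp only [R4, map_prodA, lift_gU, lift_gH]
theorem lift_R4' (mc : ℕ → ℕ) (e N : ℕ) :
    FreeGroup.lift ![u, h, t] (R4' mc e N) = 1 ↔ prodA h u mc (e + 1) = h ^ N := by
  simp only [R4', map_mul, map_inv, map_pow, map_prodA, lift_gU, lift_gH, mul_inv_eq_one]
theorem lift_R5 : FreeGroup.lift ![u, h, t] R5 = 1 ↔ t * h * t⁻¹ = h⁻¹ := by
  simp only [R5, map_mul, map_inv, lift_gT, lift_gH, mul_eq_one_iff_eq_inv]
theorem lift_R6 : FreeGroup.lift ![u, h, t] R6 = 1 ↔ t * t = 1 := by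
  simp only [R6, map_mul, lift_gT]
theorem lift_R7 : FreeGroup.lift ![u, h, t] R7 = 1 ↔ t * u * t⁻¹ = u⁻¹ * t * u⁻¹ := by
  simp only [R7, map_mul, map_inv, lift_gT, lift_gU, mul_inv_eq_one]
theorem lift_R7' : FreeGroup.lift ![u, h, t] R7' = 1 ↔ u * t * u = t * u * t := by
  simp only [R7', map_mul, map_inv, lift_gT, lift_gU, mul_inv_eq_one]
theorem lift_R8 (cx : ℕ → ℕ) (nx : ℕ) (cy : ℕ → ℕ) (ny : ℕ) :
    FreeGroup.lift ![u, h, t] (R8 cx nx cy ny) = 1 ↔
      t * prodA h u cx nx * t⁻¹ = prodA h u cy ny * h * t * prodA h u cy ny := by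
  simp only [R8, map_mul, map_inv, map_prodA, lift_gT, lift_gU, lift_gH, mul_inv_eq_one]
theorem lift_RNS2 : FreeGroup.lift ![u, h, t] RNS2 = 1 ↔
    Commute (u * cj h u 1) (cj h u 1 * cj h u 2) := by
  simp only [RNS2, map_mul, map_inv, map_cj, lift_gU, lift_gH, mul_inv_eq_one]
  exact Iff.rfl
theorem lift_RNS3 (k : ℤ) : FreeGroup.lift ![u, h, t] (RNS3 k) = 1 ↔
    cj h u (2 * k - 1) = (u * cj h u 1) * (cj h u 1 * cj h u 2) := by
  simp only [RNS3, map_mul, map_inv, map_cj, lift_gU, lift_gH, mul_inv_eq_one]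

end lifts

end Cfsg.Agent.Helper21.S2286
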