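import Mathlib
import Cfsg.Agent.Helper21.S2286DEFS
import Cfsg.Agent.Helper21.S2286CASES
import Cfsg.Agent.Helper21.S2289DEFS

/-!
# S2289: parameters, the list of relations and the relator words

`eqs P u h n` is the list of the relations (pairs `lhs, rhs`) for elements `u h n` of any group; it is natural in the
group (`map_eqs`), so the relator words are `eqs P gU gH gT` in the free group.
-/

namespace Cfsg.Agent.Helper21.S2289

open Cfsg.Agent.Helper21.S2286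

/-- a word `∏ A_i^{c_i} · ∏ Z_i^{c'_i}` for an element of `U` -/
def UW {Γ : Type*} [Group Γ] (h u : Γ) (c : ℕ → ℕ) (n : ℕ) (c' : ℕ → ℕ) (n' : ℕ) : Γ :=
  prodA h u c n * prodA h (zW h u) c' n'

theorem map_UW {Γ H : Type*} [Group Γ] [Group H] (f : Γ →* H) (h u : Γ) (c : ℕ → ℕ) (n : ℕ)
    (c' : ℕ → ℕ) (n' : ℕ) : f (UW h u c n c' n') = UW (f h) (f u) c n c' n' := by
  simp only [UW, map_mul, map_prodA, map_zW]

/-- coefficients of a word for an element of `U` -/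
structure UC where
  c : ℕ → ℕ
  n : ℕ
  c' : ℕ → ℕ
  n' : ℕ

/-- the word of `UC` data -/
def UC.w {Γ : Type*} [Group Γ] (w : UC) (h u : Γ) : Γ := UW h u w.c w.n w.c' w.n'

theorem UC.map_w {Γ H : Type*} [Group Γ] [Group H] (f : Γ →* H) (w : UC) (h u : Γ) :
    f (w.w h u) = w.w (f h) (f u) := map_UW f h u _ _ _ _

/-- parameters of a rank-one relation `n X n⁻¹ = F h^m n G` -/
structure WP where
  X : UC
  Fw : UC
  m : ℕ
  Gw : UC

/-- all parameters of the presentation -/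
structure Params where
  p : ℕ
  q : ℕ
  kη : ℕ
  mcη : ℕ → ℕ
  dη : ℕ
  e₀ : ℕ → ℕ
  n₀ : ℕ
  e₁ : ℕ → ℕ
  n₁ : ℕ
  e₂ : ℕ → ℕ
  n₂ : ℕ
  zc4 : ℕ → ℕ
  zn4 : ℕ
  zc1 : ℕ → ℕ
  zn1 : ℕ
  mcμ : ℕ → ℕ
  dμ : ℕ
  zc3 : ℕ → ℕ
  zn3 : ℕ
  wz : WP
  w0 : WP
  w1 : WP
  w2 : WP
  ns : Bool
  kμ : ℕ
  zc2 : ℕ → ℕ
  zn2 : ℕ
  zc2b : ℕ → ℕ
  zn2b : ℕ
  zc2c : ℕ → ℕ
  zn2c : ℕ

section eqs
variable {Γ : Type*} [Group Γ]

/-- the rank-one relation -/
def WP.eq (w : WP) (u h n : Γ) : Γ × Γ :=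
  (n * w.X.w h u * n⁻¹, w.Fw.w h u * h ^ w.m * n * w.Gw.w h u)

/-- the relations of the Baumslag block on `U/Z` -/
def Params.eqsB (P : Params) (u h : Γ) : List (Γ × Γ) :=
  if P.ns then
    [((u * cj h u 1) * (cj h u 1 * cj h u 2) * (u * cj h u 1)⁻¹ * (cj h u 1 * cj h u 2)⁻¹,
        prodA h (zW h u) P.zc2 P.zn2),
      ((u * cj h u 1 * (cj h u 1 * cj h u 2)) * (cj h u 1 * cj h u 2 * (cj h u 2 * cj h u 3)) *
          (u * cj h u 1 * (cj h u 1 * cj h u 2))⁻¹ *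
          (cj h u 1 * cj h u 2 * (cj h u 2 * cj h u 3))⁻¹, prodA h (zW h u) P.zc2b P.zn2b),
      (cj h u (P.kμ : ℤ), (u * cj h u 1 * (cj h u 1 * cj h u 2)) *
          (cj h u 1 * cj h u 2 * (cj h u 2 * cj h u 3)) * prodA h (zW h u) P.zc2c P.zn2c)]
  else
    [(cj h u (P.kμ : ℤ), u * cj h u 1 * prodA h (zW h u) P.zc2 P.zn2)]

/-- the list of relations `lhs = rhs` -/
def Params.eqs (P : Params) (u h n : Γ) : List (Γ × Γ) :=
  [(zW h u ^ P.p, 1),
    (zW h u * cj h (zW h u) 1, cj h (zW h u) 1 * zW h u),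
    (cj h (zW h u) (P.kη : ℤ), zW h u * cj h (zW h u) 1),
    (prodA h (zW h u) P.mcη (P.dη + 1), 1),
    (h ^ (P.q ^ 2 - 1), 1),
    (n * n, 1),
    (n * h * n⁻¹, (h ^ P.q)⁻¹),
    (cj h u 0 * zW h u, zW h u * cj h u 0),
    (cj h u 1 * zW h u, zW h u * cj h u 1),
    (cj h u 2 * zW h u, zW h u * cj h u 2),
    (cj h u 3, prodA (h ^ (P.q - 1)) (cj h u 0) P.e₀ P.n₀ * prodA (h ^ (P.q - 1)) (cj h u 1) P.e₁ P.n₁ *
      prodA (h ^ (P.q - 1)) (cj h u 2) P.e₂ P.n₂ * prodA h (zW h u) P.zc4 P.zn4),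
    (u ^ P.p, prodA h (zW h u) P.zc1 P.zn1),
    (prodA h u P.mcμ (P.dμ + 1), prodA h (zW h u) P.zc3 P.zn3),
    P.wz.eq u h n, P.w0.eq u h n, P.w1.eq u h n, P.w2.eq u h n] ++ P.eqsB u h

/-- the relations hold -/
def Params.Rels (P : Params) (u h n : Γ) : Prop := ∀ e ∈ P.eqs u h n, e.1 = e.2

theorem Params.map_eqs {H : Type*} [Group H] (f : Γ →* H) (P : Params) (u h n : Γ) :
    (P.eqs u h n).map (Prod.map f f) = P.eqs (f u) (f h) (f n) := by
  unfold Params.eqs Params.eqsB WP.eq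
  split_ifs <;>
  simp only [List.map_cons, List.map_nil, Prod.map_apply, map_mul, map_inv,
    map_pow, map_one, map_cj, map_prodA, map_zW, UC.map_w, List.cons_append, List.nil_append]

theorem Params.length_eqs (P : Params) (u h n : Γ) : (P.eqs u h n).length ≤ 20 := by
  unfold Params.eqs Params.eqsB
  split_ifs <;> simp

end eqs

/-- the relator words -/
def Params.rels (P : Params) : List (FreeGroup (Fin 3)) :=
  (P.eqs gU gH gT).map fun e => e.1 * e.2⁻¹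

theorem Params.length_rels (P : Params) : P.rels.length ≤ 20 := by
  unfold Params.rels
  rw [List.length_map]
  exact P.length_eqs _ _ _

/-- the relators hold for `u h n` iff the relations do -/
theorem Params.lift_rels {Γ : Type*} [Group Γ] (P : Params) (u h n : Γ) :
    (∀ r ∈ P.rels, FreeGroup.lift ![u, h, n] r = 1) ↔ P.Rels u h n := by
  have hm := P.map_eqs (FreeGroup.lift ![u, h, n]) gU gH gT
  rw [lift_gU, lift_gH, lift_gT] at hm
  unfold Params.rels Params.Rels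
  rw [← hm]
  simp only [List.mem_map, forall_exists_index, and_imp, forall_apply_eq_imp_iff₂, map_mul, map_inv,
    mul_inv_eq_one]
  exact Iff.rfl

end Cfsg.Agent.Helper21.S2289
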