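import Mathlib
import Cfsg.Agent.Helper14.S2481.Defs
import Cfsg.Agent.Helper14.S2481.DefsM

/-! S2481 wave 2, piece MODISO (driver helper14): `b.equivFun` intertwines `g` and
`toLin' (toMatrix b b g)`, so their `F[X]`-modules are isomorphic. -/

set_option autoImplicit false
set_option linter.unusedVariables false

namespace Cfsg.Agent.S2481P

open Polynomial DirectSum Matrix Cfsg.Agent.S2478P Cfsg.Agent.S2479P

universe u

variable {F : Type u} [Field F] {σ : F →+* F}

-- piece MODISO
theorem aeval_toMatrix_equiv {V : Type*} [AddCommGroup V] [Module F V] {n : ℕ}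
    (b : Module.Basis (Fin n) F V) (g : V →ₗ[F] V) :
    Nonempty (Module.AEval' (Matrix.toLin' (LinearMap.toMatrix b b g)) ≃ₗ[F[X]] Module.AEval' g) := by
  refine ⟨LinearEquiv.ofAEval (Matrix.toLin' (LinearMap.toMatrix b b g))
    (b.equivFun.symm.trans (Module.AEval'.of g)) ?_⟩
  intro m
  rw [LinearEquiv.trans_apply, LinearEquiv.trans_apply, Module.AEval'.X_smul_of]
  congr 1
  show b.equivFun.symm (Matrix.toLin' (LinearMap.toMatrix b b g) m) = g (b.equivFun.symm m)
  rw [Matrix.toLin'_apply]
  have h1 : m = ⇑(b.repr (b.equivFun.symm m)) := by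
    have := b.equivFun.apply_symm_apply m
    rw [Module.Basis.equivFun_apply] at this
    exact this.symm
  conv_lhs => rw [h1]
  rw [LinearMap.toMatrix_mulVec_repr]
  have h2 : ⇑(b.repr (g (b.equivFun.symm m))) = b.equivFun (g (b.equivFun.symm m)) := by
    rw [Module.Basis.equivFun_apply]
  rw [h2, LinearEquiv.symm_apply_apply]

end Cfsg.Agent.S2481P
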