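import Mathlib
import Cfsg.Agent.Helper7.S5655.Defs2
import Cfsg.Agent.Helper7.S5655.MonoLib

/-! # S5655 `k = 1`, piece MONOFORM (driver helper7): an invertible monomial matrix is `mono s d` with all `d j ≠ 0`. -/

set_option autoImplicit false

namespace Cfsg.Agent.S5655K1

open Matrix
open Cfsg.Agent.S2644 Cfsg.Agent.Helper2.SUGen Cfsg.Agent.Helper28.SimMax Cfsg.Agent.MonoP

variable {K : Type*} [Field K] {q n : ℕ}

local notation "h" => Cfsg.hermForm n K q
local notation "T" => Cfsg.unitaryTransvection n q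

/-- MONOFORM (S-M): an invertible monomial matrix is `mono s d` with all `d j ≠ 0`. -/
theorem MONOFORM.exists (A A' : Matrix (Fin n) (Fin n) K) (hAA : A' * A = 1) (hA : IsMono A) :
    ∃ (s : Equiv.Perm (Fin n)) (d : Fin n → K), A = mono s d ∧ ∀ j, d j ≠ 0 := by
  obtain ⟨s, hs⟩ := hA
  refine ⟨s, fun j => A (s j) j, ?_, ?_⟩
  · ext i j
    rw [mono_apply]
    by_cases hi : i = s j
    · rw [if_pos hi, hi]
    · rw [if_neg hi, hs i j hi]
  · intro j hj
    have hj : A (s j) j = 0 := hj
    have h1 : (A' * A) j j = 1 := by rw [hAA, Matrix.one_apply_eq]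
    rw [Matrix.mul_apply] at h1
    have h0 : ∑ i, A' j i * A i j = 0 := by
      apply Finset.sum_eq_zero
      intro i _
      by_cases hi : i = s j
      · rw [hi, hj, mul_zero]
      · rw [hs i j hi, mul_zero]
    rw [h0] at h1
    exact zero_ne_one h1

end Cfsg.Agent.S5655K1
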