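import Mathlib
import Cfsg.Agent.Helper2.S2094.DefsA

set_option autoImplicit false
set_option linter.unusedSectionVars false
set_option linter.unusedVariables false

/-! S2094 chapter A, piece LYADD: additivity of the canonical lifts of the long root elements
(and the general additivity `LYADD.cl_add` of `cl (X a k ·) (X k b u)`). -/

namespace Cfsg.Agent.S2094P

open Matrix Cfsg.Agent.S3352P Cfsg.Agent.S3351P Cfsg.Agent.S2096P Cfsg.Agent.S2086P
open scoped commutatorElement

variable {n : ℕ} {F : Type*} [Field F] [Fintype F] {G : Type*} [Group G] {E : Type*} [Group E]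
  {X : J n → J n → F → G} {Ys : J n → F → G}

namespace LYADD

theorem cm_eq_comm (x y : G) : cm x y = ⁅x, y⁆ := by
  rw [cm_def, commutatorElement_def]

/-- the commutator of two long root elements, in bracket form -/
theorem comm_X (hX : DRel X) {a k b : J n} (hak : IsRoot a k) (hkb : IsRoot k b)
    (hab : IsRoot a b) (s u : F) : ⁅X a k s, X k b u⁆ = X a b (s * u) := by
  rw [← cm_eq_comm]
  exact hX.mul a k b hak hkb hab s u

/-- lifts of elements of the same long root subgroup commute -/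
theorem CL_same (ψ : E →* G)
    (hC2 : ∀ a b c d, IsRoot a b → IsRoot c d → b ≠ c → a ≠ d → a ≠ ng c → a ≠ ng d → b ≠ ng c →
      b ≠ ng d → ∀ s t : F, CL ψ (X a b s) (X c d t))
    {a b : J n} (hab : IsRoot a b) (s t : F) : CL ψ (X a b s) (X a b t) :=
  hC2 a b a b hab hab hab.1.symm hab.1 (ng_ne a).symm hab.2 hab.symm.2 (ng_ne b).symm s t

/-- lifts of `X a k s` and `X a b t` commute -/
theorem CL_row (ψ : E →* G)
    (hC2 : ∀ a b c d, IsRoot a b → IsRoot c d → b ≠ c → a ≠ d → a ≠ ng c → a ≠ ng d → b ≠ ng c →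
      b ≠ ng d → ∀ s t : F, CL ψ (X a b s) (X c d t))
    {a k b : J n} (hak : IsRoot a k) (hkb : IsRoot k b) (hab : IsRoot a b) (s t : F) :
    CL ψ (X a k s) (X a b t) :=
  hC2 a k a b hak hab hak.1.symm hab.1 (ng_ne a).symm hab.2 hak.symm.2 hkb.2 s t

/-- general additivity of the canonical commutator in the first variable -/
theorem cl_add (hX : DRel X) (ψ : E →* G) (hψ : Function.Surjective ψ)
    (hc : ψ.ker ≤ Subgroup.center E)
    (hC2 : ∀ a b c d, IsRoot a b → IsRoot c d → b ≠ c → a ≠ d → a ≠ ng c → a ≠ ng d → b ≠ ng c →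
      b ≠ ng d → ∀ s t : F, CL ψ (X a b s) (X c d t))
    {a k b : J n} (hak : IsRoot a k) (hkb : IsRoot k b) (hab : IsRoot a b) (s t u : F) :
    cl ψ hψ (X a k (s + t)) (X k b u) =
      cl ψ hψ (X a k s) (X k b u) * cl ψ hψ (X a k t) (X k b u) := by
  have h1 : CL ψ (X a k s) ⁅X a k t, X k b u⁆ := by
    rw [comm_X hX hak hkb hab]
    exact CL_row ψ hC2 hak hkb hab s (t * u)
  rw [hX.add a k hak, cl_mul_left ψ hψ hc h1]
  have h2 : CL ψ (X a b (t * u)) (X a b (s * u)) := CL_same ψ hC2 hab _ _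
  exact (h2 _ _ (by rw [map_cl, comm_X hX hak hkb hab]) (by rw [map_cl, comm_X hX hak hkb hab])).eq

end LYADD

/-- LYADD: additivity of the canonical lifts -/
theorem Y_add_of_c2 (hn : 3 ≤ n) (hX : DRel X) (ψ : E →* G) (hψ : Function.Surjective ψ)
    (hc : ψ.ker ≤ Subgroup.center E)
    (hC2 : ∀ a b c d, IsRoot a b → IsRoot c d → b ≠ c → a ≠ d → a ≠ ng c → a ≠ ng d → b ≠ ng c →
      b ≠ ng d → ∀ s t : F, CL ψ (X a b s) (X c d t))
    {a b : J n} (hab : IsRoot a b) (s t : F) :
    Y X ψ hψ hn a b (s + t) = Y X ψ hψ hn a b s * Y X ψ hψ hn a b t := by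
  unfold Y
  exact LYADD.cl_add hX ψ hψ hc hC2 (isRoot_left_th hn a b) (isRoot_th_right hn a b) hab s t 1

end Cfsg.Agent.S2094P
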