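import Mathlib
import Cfsg.Agent.Helper2.S2094.DefsA
import Cfsg.Agent.Helper23.S2094PITB
import Cfsg.Agent.Helper21.S2094LYADD
import Cfsg.Agent.Helper11.S2094CHARB

set_option autoImplicit false
set_option linter.unusedSectionVars false
set_option linter.unusedVariables false

/-! S2094 chapter A, piece LBAL: balancing the canonical commutator; with the action of the torus
elements `tX X p q lam` on the root elements (`LBAL.tX_conj_X`, `LBAL.tX_conj_Ys`). -/

namespace Cfsg.Agent.S2094P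

open Matrix Cfsg.Agent.S3352P Cfsg.Agent.S3351P Cfsg.Agent.S2096P Cfsg.Agent.S2086P
open scoped commutatorElement

variable {n : ℕ} {F : Type*} [Field F] [Fintype F] {G : Type*} [Group G] {E : Type*} [Group E]
  {X : J n → J n → F → G} {Ys : J n → F → G}

namespace LBAL

theorem tX_mem {p q : J n} (hpq : IsRoot p q) {lam : F} (hl : lam ≠ 0) :
    tX X p q lam ∈ HhB X Ys :=
  Subgroup.subset_closure (Or.inl ⟨p, q, lam, hpq, hl, rfl⟩)

theorem ev_fst (p q : J n) (t : F) : ev p q p t = t := by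
  unfold ev
  rw [if_pos (Or.inl rfl)]

theorem ev_ng_snd (p q : J n) (t : F) : ev p q (ng q) t = t := by
  unfold ev
  rw [if_pos (Or.inr rfl)]

theorem ev_snd {p q : J n} (hpq : IsRoot p q) (t : F) : ev p q q t = t⁻¹ := by
  unfold ev
  rw [if_neg, if_pos (Or.inl rfl)]
  rintro (h | h)
  · exact hpq.1 h.symm
  · exact ng_ne q h.symm

theorem ev_ng_fst {p q : J n} (hpq : IsRoot p q) (t : F) : ev p q (ng p) t = t⁻¹ := by
  unfold ev
  rw [if_neg, if_pos (Or.inr rfl)]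
  rintro (h | h)
  · exact ng_ne p h
  · exact hpq.1 (ng_injective h)

theorem ev_other {p q c : J n} (h1 : c ≠ p) (h2 : c ≠ ng q) (h3 : c ≠ q) (h4 : c ≠ ng p) (t : F) :
    ev p q c t = 1 := by
  unfold ev
  rw [if_neg, if_neg]
  · rintro (h | h)
    · exact h3 h
    · exact h4 h
  · rintro (h | h)
    · exact h1 h
    · exact h2 h

/-- the torus element `tX X p q lam` acts on the long root elements through `ev` -/
theorem tX_conj_X (π : G →* Matrix (I n) (I n) F)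
    (hπX : ∀ a b, IsRoot a b → ∀ t : F, π (X a b t) = xmB a b t)
    (hπY : ∀ a, ∀ t : F, π (Ys a t) = ymB a t) (hn : 3 ≤ n) (h2 : (2 : F) ≠ 0)
    (hB : BRel X Ys) {p q : J n} (hpq : IsRoot p q) {lam : F} (hl : lam ≠ 0) {c d : J n}
    (hcd : IsRoot c d) (u : F) :
    tX X p q lam * X c d u * (tX X p q lam)⁻¹ =
      X c d (ev p q c lam * (ev p q d lam)⁻¹ * u) := by
  rw [HhB_conj_X_eq π hπX hπY hn h2 hB (tX_mem hpq hl) hcd, pi_tX_B π hπX hpq hl]
  unfold blkB
  rw [Matrix.fromBlocks_apply₂₂, Matrix.fromBlocks_apply₂₂, Matrix.diagonal_apply_eq,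
    Matrix.diagonal_apply_eq]

/-- the torus element `tX X p q lam` acts on the short root elements through `ev` -/
theorem tX_conj_Ys (π : G →* Matrix (I n) (I n) F)
    (hπX : ∀ a b, IsRoot a b → ∀ t : F, π (X a b t) = xmB a b t)
    (hπY : ∀ a, ∀ t : F, π (Ys a t) = ymB a t) (hn : 3 ≤ n) (h2 : (2 : F) ≠ 0)
    (hB : BRel X Ys) {p q : J n} (hpq : IsRoot p q) {lam : F} (hl : lam ≠ 0) (a : J n) (u : F) :
    tX X p q lam * Ys a u * (tX X p q lam)⁻¹ = Ys a (ev p q a lam * u) := by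
  rw [HhB_conj_Ys_eq π hπX hπY hn h2 hB (tX_mem hpq hl) a, pi_tX_B π hπX hpq hl]
  unfold blkB
  rw [Matrix.fromBlocks_apply₂₂, Matrix.fromBlocks_apply₁₁, Matrix.diagonal_apply_eq,
    Matrix.one_apply_eq, inv_one, mul_one]

theorem neg_one_ne_one (h2 : (2 : F) ≠ 0) : (-1 : F) ≠ 1 := by
  intro h
  apply h2
  linear_combination -h

end LBAL

/-- LBAL: balancing the canonical commutator -/
theorem cl_bal_of_c2 (π : G →* Matrix (I n) (I n) F)
    (hπX : ∀ a b, IsRoot a b → ∀ t : F, π (X a b t) = xmB a b t)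
    (hπY : ∀ a, ∀ t : F, π (Ys a t) = ymB a t) (hn : 3 ≤ n) (h2 : (2 : F) ≠ 0)
    (hB : BRel X Ys) (ψ : E →* G) (hψ : Function.Surjective ψ)
    (hc : ψ.ker ≤ Subgroup.center E)
    (hC2 : ∀ a b c d, IsRoot a b → IsRoot c d → b ≠ c → a ≠ d → a ≠ ng c → a ≠ ng d → b ≠ ng c →
      b ≠ ng d → ∀ s t : F, CL ψ (X a b s) (X c d t))
    {a k b : J n} (hak : IsRoot a k) (hkb : IsRoot k b) (hab : IsRoot a b) (s u : F) :
    cl ψ hψ (X a k s) (X k b u) = cl ψ hψ (X a k (s * u)) (X k b 1) := by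
  have hX := hB.dX
  have hm1 : (-1 : F) ≠ 0 := neg_ne_zero.mpr one_ne_zero
  have hknb : IsRoot k (ng b) := ⟨hkb.2, by rw [ng_ng]; exact hkb.1⟩
  obtain ⟨e₀, he₀⟩ := hψ (tX X k (ng b) (-1))
  -- the characters
  have eva : ev k (ng b) a (-1 : F) = 1 :=
    LBAL.ev_other hak.1 (by rw [ng_ng]; exact hab.1) hab.2 hak.2 _
  have evk : ev k (ng b) k (-1 : F) = -1 := LBAL.ev_fst _ _ _
  have evb : ev k (ng b) b (-1 : F) = -1 := by
    have := LBAL.ev_ng_snd k (ng b) (-1 : F)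
    rwa [ng_ng] at this
  have hinv : ((-1 : F))⁻¹ = -1 := by
    rw [inv_neg, inv_one]
  have c1 : ∀ v : F, ψ e₀ * X a k v * (ψ e₀)⁻¹ = X a k (-1 * v) := by
    intro v
    rw [he₀, LBAL.tX_conj_X π hπX hπY hn h2 hB hknb hm1 hak, eva, evk, hinv, one_mul]
  have c2 : ∀ v : F, ψ e₀ * X k b v * (ψ e₀)⁻¹ = X k b v := by
    intro v
    rw [he₀, LBAL.tX_conj_X π hπX hπY hn h2 hB hknb hm1 hkb, evk, evb, hinv]
    congr 1
    ring
  have key := uniq_lift (F := F) ψ hc (V := fun s => cl ψ hψ (X a k s) (X k b u))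
    (W := fun s => cl ψ hψ (X a k (s * u)) (X k b 1)) (e₀ := e₀) (χ := -1)
    (by
      intro s
      rw [map_cl, map_cl, LYADD.comm_X hX hak hkb hab, LYADD.comm_X hX hak hkb hab, mul_one])
    (fun s t => LYADD.cl_add hX ψ hψ hc hC2 hak hkb hab s t u)
    (by
      intro s t
      show cl ψ hψ (X a k ((s + t) * u)) (X k b 1) = _
      rw [add_mul]
      exact LYADD.cl_add hX ψ hψ hc hC2 hak hkb hab (s * u) (t * u) 1)
    (LBAL.neg_one_ne_one h2)
    (by
      intro s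
      show e₀ * cl ψ hψ (X a k s) (X k b u) * e₀⁻¹ = cl ψ hψ (X a k (-1 * s)) (X k b u)
      rw [conj_cl ψ hψ hc, c1, c2])
    (by
      intro s
      show e₀ * cl ψ hψ (X a k (s * u)) (X k b 1) * e₀⁻¹ = cl ψ hψ (X a k (-1 * s * u)) (X k b 1)
      rw [conj_cl ψ hψ hc, c1, c2, mul_assoc])
  exact congrFun key s

end Cfsg.Agent.S2094P
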