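import Mathlib
import Cfsg.Agent.Helper2.S2094.DefsA
import Cfsg.Agent.Helper23.S2094PITB
import Cfsg.Agent.Helper21.S2094LYADD
import Cfsg.Agent.Helper21.S2094LBAL
import Cfsg.Agent.Helper11.S2094CHARB

set_option autoImplicit false
set_option linter.unusedSectionVars false
set_option linter.unusedVariables false

/-! S2094 chapter A, piece LYIND: the canonical commutator does not depend on the middle index. -/

namespace Cfsg.Agent.S2094P

open Matrix Cfsg.Agent.S3352P Cfsg.Agent.S3351P Cfsg.Agent.S2096P Cfsg.Agent.S2086P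
open scoped commutatorElement

variable {n : ℕ} {F : Type*} [Field F] [Fintype F] {G : Type*} [Group G] {E : Type*} [Group E]
  {X : J n → J n → F → G} {Ys : J n → F → G}

namespace LYIND

theorem ev_ne_zero (p q c : J n) {t : F} (ht : t ≠ 0) : ev p q c t ≠ 0 := by
  unfold ev
  split_ifs
  · exact ht
  · exact inv_ne_zero ht
  · exact one_ne_zero

end LYIND

/-- LYIND: the canonical commutator does not depend on the middle index -/
theorem cl_eq_Y_of_c2 (π : G →* Matrix (I n) (I n) F)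
    (hπX : ∀ a b, IsRoot a b → ∀ t : F, π (X a b t) = xmB a b t)
    (hπY : ∀ a, ∀ t : F, π (Ys a t) = ymB a t) (hn : 3 ≤ n) (h2 : (2 : F) ≠ 0)
    (hB : BRel X Ys) (ψ : E →* G) (hψ : Function.Surjective ψ)
    (hc : ψ.ker ≤ Subgroup.center E)
    (hC2 : ∀ a b c d, IsRoot a b → IsRoot c d → b ≠ c → a ≠ d → a ≠ ng c → a ≠ ng d → b ≠ ng c →
      b ≠ ng d → ∀ s t : F, CL ψ (X a b s) (X c d t))
    {a b c : J n} (hab : IsRoot a b) (hbc : IsRoot b c) (hac : IsRoot a c) (s t : F) :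
    cl ψ hψ (X a b s) (X b c t) = Y X ψ hψ hn a c (s * t) := by
  have hX := hB.dX
  have hm1 : (-1 : F) ≠ 0 := neg_ne_zero.mpr one_ne_zero
  have hbnc : IsRoot b (ng c) := ⟨hbc.2, by rw [ng_ng]; exact hbc.1⟩
  have hak : IsRoot a (th hn a c) := isRoot_left_th hn a c
  have hkc : IsRoot (th hn a c) c := isRoot_th_right hn a c
  obtain ⟨e₀, he₀⟩ := hψ (tX X b (ng c) (-1))
  obtain ⟨dk, hdk⟩ : ∃ dk : F, dk = ev b (ng c) (th hn a c) (-1 : F) := ⟨_, rfl⟩
  have hdk0 : dk ≠ 0 := by rw [hdk]; exact LYIND.ev_ne_zero _ _ _ hm1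
  -- the characters
  have eva : ev b (ng c) a (-1 : F) = 1 :=
    LBAL.ev_other hab.1 (by rw [ng_ng]; exact hac.1) hac.2 hab.2 _
  have evb : ev b (ng c) b (-1 : F) = -1 := LBAL.ev_fst _ _ _
  have evc : ev b (ng c) c (-1 : F) = -1 := by
    have := LBAL.ev_ng_snd b (ng c) (-1 : F)
    rwa [ng_ng] at this
  have hinv : ((-1 : F))⁻¹ = -1 := by
    rw [inv_neg, inv_one]
  have c1 : ∀ v : F, ψ e₀ * X a b v * (ψ e₀)⁻¹ = X a b (-1 * v) := by
    intro v
    rw [he₀, LBAL.tX_conj_X π hπX hπY hn h2 hB hbnc hm1 hab, eva, evb, hinv, one_mul]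
  have c2 : ∀ v : F, ψ e₀ * X b c v * (ψ e₀)⁻¹ = X b c v := by
    intro v
    rw [he₀, LBAL.tX_conj_X π hπX hπY hn h2 hB hbnc hm1 hbc, evb, evc, hinv]
    congr 1
    ring
  have c3 : ∀ v : F, ψ e₀ * X a (th hn a c) v * (ψ e₀)⁻¹ = X a (th hn a c) (dk⁻¹ * v) := by
    intro v
    rw [he₀, LBAL.tX_conj_X π hπX hπY hn h2 hB hbnc hm1 hak, eva, ← hdk, one_mul]
  have c4 : ∀ v : F, ψ e₀ * X (th hn a c) c v * (ψ e₀)⁻¹ = X (th hn a c) c (-dk * v) := by
    intro v
    rw [he₀, LBAL.tX_conj_X π hπX hπY hn h2 hB hbnc hm1 hkc, evc, ← hdk, hinv]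
    congr 1
    ring
  have key := uniq_lift (F := F) ψ hc (V := fun s => cl ψ hψ (X a b s) (X b c t))
    (W := fun s => Y X ψ hψ hn a c (s * t)) (e₀ := e₀) (χ := -1)
    (by
      intro s
      show ψ (cl ψ hψ (X a b s) (X b c t)) =
        ψ (cl ψ hψ (X a (th hn a c) (s * t)) (X (th hn a c) c 1))
      rw [map_cl, map_cl, LYADD.comm_X hX hab hbc hac, LYADD.comm_X hX hak hkc hac, mul_one])
    (fun s s' => LYADD.cl_add hX ψ hψ hc hC2 hab hbc hac s s' t)
    (by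
      intro s s'
      show Y X ψ hψ hn a c ((s + s') * t) = _
      rw [add_mul]
      exact Y_add_of_c2 hn hX ψ hψ hc hC2 hac (s * t) (s' * t))
    (LBAL.neg_one_ne_one h2)
    (by
      intro s
      show e₀ * cl ψ hψ (X a b s) (X b c t) * e₀⁻¹ = cl ψ hψ (X a b (-1 * s)) (X b c t)
      rw [conj_cl ψ hψ hc, c1, c2])
    (by
      intro s
      show e₀ * cl ψ hψ (X a (th hn a c) (s * t)) (X (th hn a c) c 1) * e₀⁻¹ =
        cl ψ hψ (X a (th hn a c) (-1 * s * t)) (X (th hn a c) c 1)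
      rw [conj_cl ψ hψ hc, c3, c4,
        cl_bal_of_c2 π hπX hπY hn h2 hB ψ hψ hc hC2 hak hkc hac]
      congr 2
      field_simp)
  exact congrFun key s

end Cfsg.Agent.S2094P
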