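import Mathlib
import Cfsg.Agent.Helper2.S2400.Defs
import Cfsg.Agent.Helper2.Stein.Tab
import Cfsg.Agent.Helper2.PSLM.Main
import Cfsg.Agent.S2401
import Cfsg.Prelude.Def_KGroupFacts
import Cfsg.Prelude.Def_Steinberg

set_option autoImplicit false
set_option linter.unusedSectionVars false
set_option linter.unusedVariables false

/-! S2400 piece A3EMB: lifts of root elements belonging to orthogonal roots of an `A₃`-subsystem
commute (through a homomorphism `SL₄(K) → G` and the splitting of central extensions of `SL₄(K)`). -/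

namespace Cfsg.Agent.S2400P

open scoped commutatorElement
open Cfsg.Lie Cfsg.Agent.Helper2.Stb Cfsg.Agent.Helper2.StPerf Cfsg.Agent.Helper2.Stein
open Cfsg.Agent.S2086P (CL cl map_cl cl_eq commute_comm CL_of_comm)

universe u

variable {K : Type*} [Field K] {G : Type*} [Group G] {E : Type*} [Group E]

namespace A3EMB

open Cfsg.Agent.S2086P (Root)

/-- the pull-back of `ψ` along `φ` -/
def pull {H : Type*} [Group H] (ψ : E →* G) (φ : H →* G) : Subgroup (E × H) where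
  carrier := {p | ψ p.1 = φ p.2}
  one_mem' := by simp
  mul_mem' := by
    intro a b ha hb
    simp only [Set.mem_ofPred_eq] at ha hb ⊢
    rw [Prod.fst_mul, Prod.snd_mul, map_mul, map_mul, ha, hb]
  inv_mem' := by
    intro a ha
    simp only [Set.mem_ofPred_eq] at ha ⊢
    rw [Prod.fst_inv, Prod.snd_inv, map_inv, map_inv, ha]

theorem eps_sq' {ε : ℤ} (h : ε = 1 ∨ ε = -1) : ((ε : K)) * (ε : K) = 1 := by
  rcases h with h | h <;> subst h <;> simp

/-- a homomorphism `τ : H → E` lifting `φ` -/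
theorem exists_lift_of_split [Fintype K] (ψ : E →* G) (hψ : Function.Surjective ψ)
    (hc : ψ.ker ≤ Subgroup.center E) (φ : Matrix.SpecialLinearGroup (Fin 4) K →* G)
    (hq : ¬ Cfsg.Agent.S2086P.MAIN.Exc 4 (Fintype.card K)) :
    ∃ τ : Matrix.SpecialLinearGroup (Fin 4) K →* E, ∀ g, ψ (τ g) = φ g := by
  let P := pull ψ φ
  let π : P →* Matrix.SpecialLinearGroup (Fin 4) K :=
    (MonoidHom.snd E (Matrix.SpecialLinearGroup (Fin 4) K)).comp P.subtype
  have hπ : Function.Surjective π := by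
    intro h
    obtain ⟨x, hx⟩ := hψ (φ h)
    exact ⟨⟨(x, h), hx⟩, rfl⟩
  have hker : π.ker ≤ Subgroup.center P := by
    intro p hp
    rw [MonoidHom.mem_ker] at hp
    have hp2 : p.1.2 = 1 := hp
    have hp1 : p.1.1 ∈ ψ.ker := by
      rw [MonoidHom.mem_ker]
      have := p.2
      have h' : ψ p.1.1 = φ p.1.2 := this
      rw [h', hp2, map_one]
    have hz := Subgroup.mem_center_iff.1 (hc hp1)
    rw [Subgroup.mem_center_iff]
    intro q
    apply Subtype.ext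
    apply Prod.ext
    · show q.1.1 * p.1.1 = p.1.1 * q.1.1
      exact hz q.1.1
    · show q.1.2 * p.1.2 = p.1.2 * q.1.2
      rw [hp2, mul_one, one_mul]
  obtain ⟨s, hs⟩ := Cfsg.Agent.S2086P.MAIN.exists_section (by norm_num) hq π hπ hker
  refine ⟨((MonoidHom.fst E (Matrix.SpecialLinearGroup (Fin 4) K)).comp P.subtype).comp s,
    fun g => ?_⟩
  have h1 : ψ (s g).1.1 = φ (s g).1.2 := (s g).2
  have h2 : (s g).1.2 = g := hs g
  show ψ (s g).1.1 = φ g
  rw [h1, h2]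

end A3EMB

open A3EMB in
theorem lifts_commute_of_emb [Fintype K] (hK : 3 ≤ Fintype.card K) {n : ℕ}
    {ce : ℕ → ℕ → List (ℕ × ℤ)} {ng : ℕ → ℕ} {X : ℕ → K → G}
    (hadd : ∀ r < n, ∀ t u : K, X r t * X r u = X r (t + u))
    (hcm : ∀ {r s : ℕ}, CmT n ce ng r s → ∀ t u : K, X r t * X s u = X s u * X r t)
    (hsm : ∀ {r s k : ℕ} {ε : ℤ}, SmT n ce ng r s k ε → ∀ t u : K,
      ⁅X r t, X s u⁆ = X k ((ε : K) * t * u))
    (ψ : E →* G) (hψ : Function.Surjective ψ) (hc : ψ.ker ≤ Subgroup.center E)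
    {rho : Fin 4 → Fin 4 → ℕ} {eps : Fin 4 → Fin 4 → ℤ} (hemb : EmbOK n ce ng rho eps)
    {i j k l : Fin 4} (hij : i ≠ j) (hkl : k ≠ l) (hik : i ≠ k) (hil : i ≠ l) (hjk : j ≠ k)
    (hjl : j ≠ l) {t u : K} {e1 e2 : E} (h1 : ψ e1 = X (rho i j) t) (h2 : ψ e2 = X (rho k l) u) :
    e1 * e2 = e2 * e1 := by
  classical
  obtain ⟨hE1, hE2, hE3⟩ := hemb
  obtain ⟨e, he⟩ := Cfsg.Agent.S2401.result (K := K) 4 (by norm_num)
  let f : Cfsg.Agent.S2086P.Root 4 × K → G :=
    fun p => X (rho p.1.1.1 p.1.1.2) ((eps p.1.1.1 p.1.1.2 : K) * p.2)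
  have hrels : ∀ r ∈ ({g : FreeGroup (Cfsg.Agent.S2086P.Root 4 × K) |
            ∃ (a : Cfsg.Agent.S2086P.Root 4) (t u : K),
            g = FreeGroup.of (a, t) * FreeGroup.of (a, u) * (FreeGroup.of (a, t + u))⁻¹} ∪
          {g | ∃ (a b : Cfsg.Agent.S2086P.Root 4) (t u : K), a.1.1 ≠ b.1.2 ∧ a.1.2 ≠ b.1.1 ∧
            g = FreeGroup.of (a, t) * FreeGroup.of (b, u) * (FreeGroup.of (a, t))⁻¹ * (FreeGroup.of (b, u))⁻¹} ∪
          {g | ∃ (a b : Cfsg.Agent.S2086P.Root 4) (h : a.1.1 ≠ b.1.2) (t u : K), a.1.2 = b.1.1 ∧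
            g = FreeGroup.of (a, t) * FreeGroup.of (b, u) * (FreeGroup.of (a, t))⁻¹ * (FreeGroup.of (b, u))⁻¹ *
              (FreeGroup.of (⟨(a.1.1, b.1.2), h⟩, t * u))⁻¹}), FreeGroup.lift f r = 1 := by
    rintro r ((⟨a, t, u, rfl⟩ | ⟨a, b, t, u, hab1, hab2, rfl⟩) | ⟨a, b, h, t, u, hab, rfl⟩)
    · simp only [map_mul, map_inv, FreeGroup.lift_apply_of, f]
      rw [hadd _ (hE1 _ _ a.2).1, ← mul_add, mul_inv_cancel]
    · simp only [map_mul, map_inv, FreeGroup.lift_apply_of, f]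
      have hC := hE2 a.1.1 a.1.2 b.1.1 b.1.2 a.2 b.2 hab2 hab1
      rw [hcm hC, mul_inv_cancel_right, mul_inv_cancel]
    · obtain ⟨⟨i', j'⟩, hij'⟩ := a
      obtain ⟨⟨j'', l'⟩, hjl'⟩ := b
      simp only at hij' hjl' h hab
      subst hab
      simp only [map_mul, map_inv, FreeGroup.lift_apply_of, f]
      have hS := hE3 i' j' l' hij' hjl' h
      rw [← commutatorElement_def, hsm hS]
      have s1 := eps_sq' (K := K) (hE1 i' j' hij').2
      have s2 := eps_sq' (K := K) (hE1 j' l' hjl').2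
      have : ((eps i' j' * eps j' l' * eps i' l' : ℤ) : K) * ((eps i' j' : K) * t) *
          ((eps j' l' : K) * u) = (eps i' l' : K) * (t * u) := by
        push_cast
        calc (eps i' j' : K) * (eps j' l' : K) * (eps i' l' : K) * ((eps i' j' : K) * t) *
            ((eps j' l' : K) * u)
            = ((eps i' j' : K) * (eps i' j' : K)) * ((eps j' l' : K) * (eps j' l' : K)) *
              ((eps i' l' : K) * (t * u)) := by ring
          _ = (eps i' l' : K) * (t * u) := by rw [s1, s2, one_mul, one_mul]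
      rw [this, mul_inv_cancel]
  let φ0 := PresentedGroup.toGroup hrels
  let φ : Matrix.SpecialLinearGroup (Fin 4) K →* G := φ0.comp e.symm.toMonoidHom
  have hq : ¬ Cfsg.Agent.S2086P.MAIN.Exc 4 (Fintype.card K) := by
    unfold Cfsg.Agent.S2086P.MAIN.Exc
    omega
  obtain ⟨τ, hτ⟩ := exists_lift_of_split ψ hψ hc φ hq
  -- the two generators
  let a : Cfsg.Agent.S2086P.Root 4 := ⟨(i, j), hij⟩
  let b : Cfsg.Agent.S2086P.Root 4 := ⟨(k, l), hkl⟩
  obtain ⟨A, hA⟩ : ∃ A, A = e (PresentedGroup.of (a, (eps i j : K) * t)) := ⟨_, rfl⟩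
  obtain ⟨B, hB⟩ : ∃ B, B = e (PresentedGroup.of (b, (eps k l : K) * u)) := ⟨_, rfl⟩
  have hφA : φ A = X (rho i j) t := by
    show φ0 (e.symm A) = _
    rw [hA, MulEquiv.symm_apply_apply, PresentedGroup.toGroup.of]
    show X (rho i j) ((eps i j : K) * ((eps i j : K) * t)) = _
    rw [← mul_assoc, eps_sq' (hE1 i j hij).2, one_mul]
  have hφB : φ B = X (rho k l) u := by
    show φ0 (e.symm B) = _
    rw [hB, MulEquiv.symm_apply_apply, PresentedGroup.toGroup.of]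
    show X (rho k l) ((eps k l : K) * ((eps k l : K) * u)) = _
    rw [← mul_assoc, eps_sq' (hE1 k l hkl).2, one_mul]
  have hAB : A * B = B * A := by
    rw [hA, hB, ← map_mul, ← map_mul]
    congr 1
    have hmem : FreeGroup.of (a, (eps i j : K) * t) * FreeGroup.of (b, (eps k l : K) * u) *
        (FreeGroup.of (a, (eps i j : K) * t))⁻¹ * (FreeGroup.of (b, (eps k l : K) * u))⁻¹ ∈
        ({g : FreeGroup (Cfsg.Agent.S2086P.Root 4 × K) |
            ∃ (a : Cfsg.Agent.S2086P.Root 4) (t u : K),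
            g = FreeGroup.of (a, t) * FreeGroup.of (a, u) * (FreeGroup.of (a, t + u))⁻¹} ∪
          {g | ∃ (a b : Cfsg.Agent.S2086P.Root 4) (t u : K), a.1.1 ≠ b.1.2 ∧ a.1.2 ≠ b.1.1 ∧
            g = FreeGroup.of (a, t) * FreeGroup.of (b, u) * (FreeGroup.of (a, t))⁻¹ * (FreeGroup.of (b, u))⁻¹} ∪
          {g | ∃ (a b : Cfsg.Agent.S2086P.Root 4) (h : a.1.1 ≠ b.1.2) (t u : K), a.1.2 = b.1.1 ∧
            g = FreeGroup.of (a, t) * FreeGroup.of (b, u) * (FreeGroup.of (a, t))⁻¹ * (FreeGroup.of (b, u))⁻¹ *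
              (FreeGroup.of (⟨(a.1.1, b.1.2), h⟩, t * u))⁻¹}) :=
      Or.inl (Or.inr ⟨a, b, _, _, hil, hjk, rfl⟩)
    have h1' := PresentedGroup.one_of_mem hmem
    rw [map_mul, map_mul, map_mul, map_inv, map_inv] at h1'
    exact mul_inv_eq_iff_eq_mul.1 (mul_inv_eq_one.1 h1')
  have hτAB : τ A * τ B = τ B * τ A := by rw [← map_mul, ← map_mul, hAB]
  have z1 : e1 * (τ A)⁻¹ ∈ Subgroup.center E := by
    apply hc
    rw [MonoidHom.mem_ker, map_mul, map_inv, hτ, hφA, h1, mul_inv_cancel]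
  have z2 : e2 * (τ B)⁻¹ ∈ Subgroup.center E := by
    apply hc
    rw [MonoidHom.mem_ker, map_mul, map_inv, hτ, hφB, h2, mul_inv_cancel]
  obtain ⟨x, hx⟩ : ∃ x, x = e1 * (τ A)⁻¹ := ⟨_, rfl⟩
  obtain ⟨y, hy⟩ : ∃ y, y = e2 * (τ B)⁻¹ := ⟨_, rfl⟩
  rw [← hx] at z1
  rw [← hy] at z2
  have a1 : e1 = x * τ A := by rw [hx]; group
  have a2 : e2 = y * τ B := by rw [hy]; group
  have c1 := Subgroup.mem_center_iff.1 z1
  have c2 := Subgroup.mem_center_iff.1 z2
  rw [a1, a2]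
  calc x * τ A * (y * τ B) = x * (τ A * y) * τ B := by group
    _ = x * (y * τ A) * τ B := by rw [c2 (τ A)]
    _ = (x * y) * (τ A * τ B) := by group
    _ = (x * y) * (τ B * τ A) := by rw [hτAB]
    _ = (y * x) * (τ B * τ A) := by rw [c1 y]
    _ = y * (x * τ B) * τ A := by group
    _ = y * (τ B * x) * τ A := by rw [← c1 (τ B)]
    _ = y * τ B * (x * τ A) := by group

end Cfsg.Agent.S2400P
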