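import Mathlib
import Cfsg.Prelude.Def_KGroupFacts

set_option autoImplicit false

/-! S2400 piece FIN: if every surjective central extension of a finite group `G` splits, the Schur
multiplier of `G` is trivial. -/

namespace Cfsg.Agent.S2400P

open scoped commutatorElement

universe u

namespace FIN

theorem comm_eq_of_map {Γ G : Type*} [Group Γ] [Group G] (σ : Γ →* G)
    (hc : σ.ker ≤ Subgroup.center Γ) {a a' b b' : Γ} (h1 : σ a = σ a') (h2 : σ b = σ b') :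
    ⁅a, b⁆ = ⁅a', b'⁆ := by
  have z1 : a * a'⁻¹ ∈ Subgroup.center Γ :=
    hc (by rw [MonoidHom.mem_ker, map_mul, map_inv, h1, mul_inv_cancel])
  have z2 : b * b'⁻¹ ∈ Subgroup.center Γ :=
    hc (by rw [MonoidHom.mem_ker, map_mul, map_inv, h2, mul_inv_cancel])
  obtain ⟨x, hx⟩ : ∃ x, x = a * a'⁻¹ := ⟨_, rfl⟩
  obtain ⟨y, hy⟩ : ∃ y, y = b * b'⁻¹ := ⟨_, rfl⟩
  rw [← hx] at z1
  rw [← hy] at z2
  have a1 : a = x * a' := by rw [hx]; group
  have a2 : b = y * b' := by rw [hy]; group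
  rw [Subgroup.mem_center_iff] at z1 z2
  rw [a1, a2, commutatorElement_def, commutatorElement_def]
  have e1 : (x * a')⁻¹ = a'⁻¹ * x⁻¹ := mul_inv_rev _ _
  have e2 : (y * b')⁻¹ = b'⁻¹ * y⁻¹ := mul_inv_rev _ _
  rw [e1, e2]
  have c1 : ∀ g, x * g = g * x := fun g => (z1 g).symm
  have c2 : ∀ g, y * g = g * y := fun g => (z2 g).symm
  calc x * a' * (y * b') * (a'⁻¹ * x⁻¹) * (b'⁻¹ * y⁻¹)
      = x * (a' * (y * (b' * (a'⁻¹ * (x⁻¹ * (b'⁻¹ * y⁻¹)))))) := by group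
    _ = a' * (b' * (a'⁻¹ * b'⁻¹)) * (x * x⁻¹) * (y * y⁻¹) := by
        rw [c1 (a' * (y * (b' * (a'⁻¹ * (x⁻¹ * (b'⁻¹ * y⁻¹))))))]
        have : a' * (y * (b' * (a'⁻¹ * (x⁻¹ * (b'⁻¹ * y⁻¹))))) * x
            = a' * (y * (b' * (a'⁻¹ * (x⁻¹ * (b'⁻¹ * (y⁻¹ * x)))))) := by group
        rw [this, ← c1 y⁻¹, ← mul_assoc b'⁻¹, ← c1 b'⁻¹, mul_assoc x, ← mul_assoc x⁻¹,
          inv_mul_cancel, one_mul]
        have : a' * (y * (b' * (a'⁻¹ * (b'⁻¹ * y⁻¹)))) = a' * (y * (b' * (a'⁻¹ * b'⁻¹) * y⁻¹)) := by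
          group
        rw [this, ← mul_assoc y, c2 (b' * (a'⁻¹ * b'⁻¹)), mul_assoc _ y, mul_inv_cancel,
          mul_inv_cancel, mul_one, mul_one, mul_one]
    _ = a' * b' * a'⁻¹ * b'⁻¹ := by rw [mul_inv_cancel, mul_inv_cancel]; group

end FIN

theorem hasCyclicSchur_one_of_split {G : Type u} [Group G] [Finite G]
    (hsplit : ∀ (E : Type u) [Group E] (ψ : E →* G), Function.Surjective ψ →
      ψ.ker ≤ Subgroup.center E → ∃ σ : G →* E, ∀ g, ψ (σ g) = g) :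
    Cfsg.HasCyclicSchurMultiplier G 1 := by
  refine ⟨⟨G, inferInstance, inferInstance, MonoidHom.id G, ⟨Function.surjective_id, ?_, ?_⟩, ?_⟩, ?_⟩
  · intro x hx
    rw [MonoidHom.mem_ker, MonoidHom.id_apply] at hx
    rw [hx]; exact one_mem _
  · intro x hx
    rw [MonoidHom.mem_ker, MonoidHom.id_apply] at hx
    rw [hx]; exact one_mem _
  · haveI : Subsingleton (MonoidHom.id G).ker := by
      refine ⟨fun a b => Subtype.ext ?_⟩
      have ha := a.2
      have hb := b.2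
      rw [MonoidHom.mem_ker, MonoidHom.id_apply] at ha hb
      rw [ha, hb]
    haveI : Subsingleton (Multiplicative (ZMod 1)) :=
      (inferInstance : Subsingleton (ZMod 1))
    exact ⟨{ toFun := fun _ => 1, invFun := fun _ => 1,
             left_inv := fun _ => Subsingleton.elim _ _,
             right_inv := fun _ => Subsingleton.elim _ _,
             map_mul' := fun _ _ => Subsingleton.elim _ _ }⟩
  · intro Γ _ _ σ hσ
    obtain ⟨hσs, hσc, hσd⟩ := hσ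
    obtain ⟨τ, hτ⟩ := hsplit Γ σ hσs hσc
    have hle : commutator Γ ≤ τ.range := by
      rw [commutator_eq_closure, Subgroup.closure_le]
      rintro _ ⟨γ1, γ2, rfl⟩
      refine ⟨⁅σ γ1, σ γ2⁆, ?_⟩
      rw [map_commutatorElement]
      exact FIN.comm_eq_of_map σ hσc (hτ _) (hτ _)
    have hker : ∀ k ∈ σ.ker, k = 1 := by
      intro k hk
      obtain ⟨x, hx⟩ := hle (hσd hk)
      have h1 : σ k = 1 := hk
      have hx1 : x = 1 := by rw [← hτ x, hx, h1]
      rw [← hx, hx1, map_one]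
    refine ⟨1, fun k => ⟨1, ?_⟩⟩
    apply Subtype.ext
    rw [MonoidHom.one_apply]
    exact (hker k.1 k.2).symm

end Cfsg.Agent.S2400P
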