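import Mathlib

set_option autoImplicit false

/-!
Jordan normal form of nilpotent endomorphisms, part 1: definitions and ranks of powers.
-/

namespace Cfsg.Agent.Helper21.Jordan

open Module Submodule

variable {K : Type*} [Field K]
variable {V : Type*} [AddCommGroup V] [Module K V]

/-- the family of vectors `T^j v_i`, `j < d i` -/
def fam (T : Module.End K V) {ι : Type*} (d : ι → ℕ) (v : ι → V) : (Σ i : ι, Fin (d i)) → V :=
  fun x => (T ^ (x.2 : ℕ)) (v x.1)

theorem fam_apply (T : Module.End K V) {ι : Type*} (d : ι → ℕ) (v : ι → V)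
    (x : Σ i : ι, Fin (d i)) : fam T d v x = (T ^ (x.2 : ℕ)) (v x.1) := rfl

/-- Jordan data of type `μ` for `T` on the subspace `W`. -/
def IsJordan (T : Module.End K V) (W : Submodule K V) (μ : Multiset ℕ) : Prop :=
  ∃ (ι : Type) (_ : Fintype ι) (d : ι → ℕ) (v : ι → V),
    Multiset.map d Finset.univ.val = μ ∧ (∀ i, 0 < d i) ∧
    LinearIndependent K (fam T d v) ∧ span K (Set.range (fam T d v)) = W ∧
    ∀ i, (T ^ d i) (v i) = 0

theorem pow_apply_eq_zero_of_le (T : Module.End K V) (v : V) (a b : ℕ) (hab : a ≤ b)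
    (h : (T ^ a) v = 0) : (T ^ b) v = 0 := by
  obtain ⟨c, rfl⟩ := Nat.exists_eq_add_of_le hab
  rw [add_comm, pow_add, Module.End.mul_apply, h, map_zero]

theorem finrank_range_pow {ι : Type} [Fintype ι] (T : Module.End K V) (d : ι → ℕ) (v : ι → V)
    (hli : LinearIndependent K (fam T d v)) (hspan : span K (Set.range (fam T d v)) = ⊤)
    (hkill : ∀ i, (T ^ d i) (v i) = 0) (k : ℕ) :
    finrank K (LinearMap.range (T ^ k)) = ∑ i, (d i - k) := by
  classical
  let emb : (Σ i : ι, Fin (d i - k)) → (Σ i : ι, Fin (d i)) :=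
    fun x => ⟨x.1, ⟨k + (x.2 : ℕ), by have := x.2.2; omega⟩⟩
  have emb_inj : Function.Injective emb := by
    rintro ⟨i, j⟩ ⟨i', j'⟩ h
    simp only [emb, Sigma.mk.injEq] at h
    obtain ⟨rfl, h2⟩ := h
    simp only [heq_eq_eq, Fin.mk.injEq, add_right_inj] at h2
    congr 1
    exact Fin.ext h2
  have hli' : LinearIndependent K (fam T d v ∘ emb) := hli.comp emb emb_inj
  have hrange : LinearMap.range (T ^ k) = span K (Set.range (fam T d v ∘ emb)) := by
    rw [LinearMap.range_eq_map, ← hspan, Submodule.map_span]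
    apply le_antisymm
    · rw [span_le]
      rintro _ ⟨_, ⟨⟨i, j⟩, rfl⟩, rfl⟩
      by_cases h : k + (j : ℕ) < d i
      · apply subset_span
        refine ⟨⟨i, ⟨(j : ℕ), by omega⟩⟩, ?_⟩
        simp only [Function.comp_apply, emb, fam_apply]
        rw [pow_add, Module.End.mul_apply]
      · have : (T ^ k) (fam T d v ⟨i, j⟩) = 0 := by
          rw [fam_apply, ← Module.End.mul_apply, ← pow_add]
          exact pow_apply_eq_zero_of_le T (v i) (d i) _ (by simpa using not_lt.mp h) (hkill i)
        rw [this]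
        exact zero_mem _
    · rw [span_le]
      rintro _ ⟨⟨i, j⟩, rfl⟩
      apply subset_span
      refine ⟨fam T d v ⟨i, ⟨(j : ℕ), by have := j.2; omega⟩⟩, ⟨_, rfl⟩, ?_⟩
      simp only [Function.comp_apply, emb, fam_apply]
      rw [pow_add, Module.End.mul_apply]
  rw [hrange, finrank_span_eq_card hli', Fintype.card_sigma]
  simp

end Cfsg.Agent.Helper21.Jordan
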