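import Mathlib
import Cfsg.Agent.Helper21.Jordan1

set_option autoImplicit false

/-!
Jordan normal form of nilpotent endomorphisms, part 2: existence.
-/

namespace Cfsg.Agent.Helper21.Jordan

open Module Submodule

variable {K : Type*} [Field K]
variable {V : Type*} [AddCommGroup V] [Module K V]

/-- triangularity argument -/
theorem coeff_eq_zero_of_dual (T : Module.End K V) (v : V) (m : ℕ) (hm : (T ^ m) v = 0)
    (f : Module.Dual K V) (hf : f ((T ^ (m - 1)) v) ≠ 0) (a : Fin m → K)
    (h : ∀ k : Fin m, f ((T ^ (k : ℕ)) (∑ j, a j • (T ^ (j : ℕ)) v)) = 0) : ∀ j, a j = 0 := by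
  have key : ∀ n : ℕ, ∀ j : Fin m, (j : ℕ) = n → a j = 0 := by
    intro n
    induction n using Nat.strong_induction_on with
    | _ n ih =>
      intro j hj
      have hjm := j.2
      have h1 := h ⟨m - 1 - n, by omega⟩
      simp only [map_sum, map_smul, smul_eq_mul] at h1
      rw [Finset.sum_eq_single j] at h1
      · rw [← Module.End.mul_apply, ← pow_add, show m - 1 - n + (j : ℕ) = m - 1 by omega] at h1
        rcases mul_eq_zero.mp h1 with h2 | h2
        · exact h2
        · exact absurd h2 hf
      · intro i _ hij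
        have hij' : (i : ℕ) ≠ (j : ℕ) := fun h => hij (Fin.ext h)
        rcases Nat.lt_or_gt_of_ne hij' with hlt | hgt
        · rw [ih (i : ℕ) (by omega) i rfl, zero_mul]
        · rw [← Module.End.mul_apply, ← pow_add,
            pow_apply_eq_zero_of_le T v m _ (by omega) hm, map_zero, mul_zero]
      · intro hj'
        exact absurd (Finset.mem_univ j) hj'
  intro j
  exact key j j rfl

theorem exists_split [FiniteDimensional K V] (T : Module.End K V) (hT : IsNilpotent T)
    (W : Submodule K V) (hW : ∀ x ∈ W, T x ∈ W) (hne : W ≠ ⊥) :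
    ∃ (v : V) (m : ℕ) (W' : Submodule K V), 0 < m ∧ (T ^ m) v = 0 ∧ (∀ x ∈ W', T x ∈ W') ∧
      LinearIndependent K (fun j : Fin m => (T ^ (j : ℕ)) v) ∧
      Disjoint (span K (Set.range (fun j : Fin m => (T ^ (j : ℕ)) v))) W' ∧
      span K (Set.range (fun j : Fin m => (T ^ (j : ℕ)) v)) ⊔ W' = W := by
  classical
  have hex : ∃ m, ∀ w ∈ W, (T ^ m) w = 0 := by
    obtain ⟨N, hN⟩ := hT
    exact ⟨N, fun w _ => by rw [hN]; rfl⟩
  set m := Nat.find hex with hm_def
  have hm : ∀ w ∈ W, (T ^ m) w = 0 := Nat.find_spec hex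
  have hm0 : m ≠ 0 := by
    intro h0
    apply hne
    rw [eq_bot_iff]
    intro w hw
    have := hm w hw
    rw [h0, pow_zero] at this
    simpa using this
  have hmin : ¬ ∀ w ∈ W, (T ^ (m - 1)) w = 0 := Nat.find_min hex (by omega)
  push Not at hmin
  obtain ⟨v, hvW, hv⟩ := hmin
  obtain ⟨f, hf⟩ : ∃ f : Module.Dual K V, f ((T ^ (m - 1)) v) ≠ 0 := by
    by_contra hcon
    push Not at hcon
    exact hv ((Module.forall_dual_apply_eq_zero_iff K _).mp hcon)
  let Φ : V →ₗ[K] (Fin m → K) := LinearMap.pi (fun k => f ∘ₗ (T ^ (k : ℕ)))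
  have hΦ : ∀ x, x ∈ LinearMap.ker Φ ↔ ∀ k : Fin m, f ((T ^ (k : ℕ)) x) = 0 := by
    intro x
    rw [LinearMap.mem_ker]
    constructor
    · intro h k
      have := congrFun h k
      simpa [Φ] using this
    · intro h
      funext k
      simpa [Φ] using h k
  have hpowW : ∀ (k : ℕ) (x : V), x ∈ W → (T ^ k) x ∈ W := fun k x hx =>
    Module.End.pow_apply_mem_of_forall_mem k hW x hx
  refine ⟨v, m, W ⊓ LinearMap.ker Φ, by omega, hm v hvW, ?_, ?_, ?_, ?_⟩
  · -- invariance
    rintro x ⟨hxW, hxΦ⟩
    refine ⟨hW x hxW, ?_⟩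
    rw [SetLike.mem_coe, hΦ] at hxΦ ⊢
    intro k
    rw [← Module.End.mul_apply, ← pow_succ]
    by_cases hk : (k : ℕ) + 1 < m
    · exact hxΦ ⟨(k : ℕ) + 1, hk⟩
    · have : (k : ℕ) + 1 = m := by have := k.2; omega
      rw [this, hm x hxW, map_zero]
  · -- linear independence
    rw [Fintype.linearIndependent_iff]
    intro a ha
    apply coeff_eq_zero_of_dual T v m (hm v hvW) f hf a
    intro k
    rw [ha, map_zero, map_zero]
  · -- disjointness
    rw [Submodule.disjoint_def]
    intro x hxZ hxW'
    obtain ⟨a, rfl⟩ := (Submodule.mem_span_range_iff_exists_fun K).mp hxZ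
    have ha := coeff_eq_zero_of_dual T v m (hm v hvW) f hf a ((hΦ _).mp hxW'.2)
    simp [ha]
  · -- the sum is everything
    have hZW : span K (Set.range (fun j : Fin m => (T ^ (j : ℕ)) v)) ≤ W := by
      rw [span_le]
      rintro _ ⟨j, rfl⟩
      exact hpowW _ v hvW
    have hle : span K (Set.range (fun j : Fin m => (T ^ (j : ℕ)) v)) ⊔ (W ⊓ LinearMap.ker Φ) ≤ W :=
      sup_le hZW inf_le_left
    apply Submodule.eq_of_le_of_finrank_le hle
    -- dimension count
    have hli : LinearIndependent K (fun j : Fin m => (T ^ (j : ℕ)) v) := by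
      rw [Fintype.linearIndependent_iff]
      intro a ha
      apply coeff_eq_zero_of_dual T v m (hm v hvW) f hf a
      intro k
      rw [ha, map_zero, map_zero]
    have hdisj : span K (Set.range (fun j : Fin m => (T ^ (j : ℕ)) v)) ⊓ (W ⊓ LinearMap.ker Φ)
        = ⊥ := by
      rw [← disjoint_iff, Submodule.disjoint_def]
      intro x hxZ hxW'
      obtain ⟨a, rfl⟩ := (Submodule.mem_span_range_iff_exists_fun K).mp hxZ
      have ha := coeff_eq_zero_of_dual T v m (hm v hvW) f hf a ((hΦ _).mp hxW'.2)
      simp [ha]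
    have h1 := Submodule.finrank_sup_add_finrank_inf_eq
      (span K (Set.range (fun j : Fin m => (T ^ (j : ℕ)) v))) (W ⊓ LinearMap.ker Φ)
    rw [hdisj, finrank_bot, add_zero, finrank_span_eq_card hli, Fintype.card_fin] at h1
    rw [h1]
    -- rank-nullity for Φ restricted to W
    have h2 := LinearMap.finrank_range_add_finrank_ker (Φ.domRestrict W)
    have h3 : finrank K (LinearMap.range (Φ.domRestrict W)) ≤ m := by
      have := Submodule.finrank_le (LinearMap.range (Φ.domRestrict W))
      rwa [Module.finrank_fin_fun] at this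
    have h4 : W ⊓ LinearMap.ker Φ = (LinearMap.ker (Φ.domRestrict W)).map W.subtype := by
      ext x
      simp only [Submodule.mem_inf, Submodule.mem_map, LinearMap.mem_ker,
        LinearMap.domRestrict_apply, Submodule.coe_subtype, Subtype.exists, exists_and_right,
        exists_eq_right]
      constructor
      · rintro ⟨h, h'⟩
        exact ⟨h, h'⟩
      · rintro ⟨h, h'⟩
        exact ⟨h, h'⟩
    rw [h4, Submodule.finrank_map_subtype_eq]
    omega

/-- index equivalence used to add one block -/
def optionSigmaEquiv {ι' : Type} (m : ℕ) (d' : ι' → ℕ) :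
    (Σ i : Option ι', Fin (Option.elim i m d')) ≃ Fin m ⊕ (Σ i : ι', Fin (d' i)) where
  toFun x := match x with
    | ⟨none, j⟩ => Sum.inl j
    | ⟨some i, j⟩ => Sum.inr ⟨i, j⟩
  invFun y := match y with
    | Sum.inl j => ⟨none, j⟩
    | Sum.inr ⟨i, j⟩ => ⟨some i, j⟩
  left_inv := by
    rintro ⟨(_ | i), j⟩ <;> rfl
  right_inv := by
    rintro (j | ⟨i, j⟩) <;> rfl

theorem fam_option (T : Module.End K V) {ι' : Type} (m : ℕ) (d' : ι' → ℕ) (v : V) (v' : ι' → V) :
    fam T (fun o : Option ι' => Option.elim o m d') (fun o : Option ι' => Option.elim o v v')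
      = Sum.elim (fun j : Fin m => (T ^ (j : ℕ)) v) (fam T d' v') ∘ optionSigmaEquiv m d' := by
  funext x
  rcases x with ⟨(_ | i), j⟩ <;> rfl

theorem exists_isJordan_aux [FiniteDimensional K V] (T : Module.End K V) (hT : IsNilpotent T) :
    ∀ (n : ℕ) (W : Submodule K V), (∀ x ∈ W, T x ∈ W) → finrank K W = n →
      ∃ μ, IsJordan T W μ := by
  intro n
  induction n using Nat.strong_induction_on with
  | _ n ih =>
    intro W hW hn
    by_cases hne : W = ⊥
    · subst hne
      refine ⟨0, Empty, inferInstance, fun _ => 0, fun _ => 0, by simp, fun i => i.elim, ?_, ?_,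
        fun i => i.elim⟩
      · exact linearIndependent_empty_type
      · rw [Set.range_eq_empty, span_empty]
    · obtain ⟨v, m, W', hm0, hkill, hW', hli, hdisj, hsup⟩ := exists_split T hT W hW hne
      have hrank : finrank K W = m + finrank K W' := by
        have h1 := Submodule.finrank_sup_add_finrank_inf_eq
          (span K (Set.range (fun j : Fin m => (T ^ (j : ℕ)) v))) W'
        rw [disjoint_iff.mp hdisj, finrank_bot, add_zero, finrank_span_eq_card hli,
          Fintype.card_fin, hsup] at h1
        exact h1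
      obtain ⟨μ', ι', hfin, d', v', -, hpos', hli', hspan', hkill'⟩ :=
        ih (finrank K W') (by omega) W' hW' rfl
      refine ⟨_, Option ι', inferInstance, fun o => Option.elim o m d',
        fun o => Option.elim o v v', rfl, ?_, ?_, ?_, ?_⟩
      · rintro (_ | i)
        · exact hm0
        · exact hpos' i
      · rw [fam_option]
        refine LinearIndependent.comp ?_ _ (optionSigmaEquiv m d').injective
        exact LinearIndependent.sum_type hli hli' (by rw [hspan']; exact hdisj)
      · rw [fam_option, EquivLike.range_comp, Set.Sum.elim_range, span_union, hspan', hsup]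
      · rintro (_ | i)
        · exact hkill
        · exact hkill' i

/-- **Existence of Jordan normal form** for nilpotent endomorphisms. -/
theorem exists_isJordan [FiniteDimensional K V] (T : Module.End K V) (hT : IsNilpotent T) :
    ∃ μ, IsJordan T ⊤ μ :=
  exists_isJordan_aux T hT _ ⊤ (fun _ _ => trivial) rfl

end Cfsg.Agent.Helper21.Jordan
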