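import Mathlib
import Cfsg.Agent.Helper21.Jordan2

set_option autoImplicit false

/-!
Jordan normal form of nilpotent endomorphisms, part 3: uniqueness of the type.
-/

namespace Cfsg.Agent.Helper21.Jordan

open Module Submodule

variable {K : Type*} [Field K]
variable {V : Type*} [AddCommGroup V] [Module K V]

/-- `∑ (a - k)` over a multiset -/
def subSum (μ : Multiset ℕ) (k : ℕ) : ℕ := (μ.map (fun a => a - k)).sum

theorem subSum_second_diff (μ : Multiset ℕ) (k : ℕ) :
    subSum μ k + subSum μ (k + 2) = 2 * subSum μ (k + 1) + μ.count (k + 1) := by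
  induction μ using Multiset.induction_on with
  | empty => simp [subSum]
  | cons a μ ih =>
    simp only [subSum, Multiset.map_cons, Multiset.sum_cons, Multiset.count_cons] at ih ⊢
    split_ifs with h <;> omega

theorem eq_of_subSum_eq (μ ν : Multiset ℕ) (hμ : 0 ∉ μ) (hν : 0 ∉ ν)
    (h : ∀ k, subSum μ k = subSum ν k) : μ = ν := by
  ext a
  rcases Nat.eq_zero_or_pos a with rfl | ha
  · rw [Multiset.count_eq_zero_of_notMem hμ, Multiset.count_eq_zero_of_notMem hν]
  · obtain ⟨k, rfl⟩ : ∃ k, a = k + 1 := ⟨a - 1, by omega⟩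
    have h1 := subSum_second_diff μ k
    have h2 := subSum_second_diff ν k
    rw [h k, h (k + 1), h (k + 2)] at h1
    omega

theorem IsJordan.zero_notMem {T : Module.End K V} {W : Submodule K V} {μ : Multiset ℕ}
    (h : IsJordan T W μ) : 0 ∉ μ := by
  obtain ⟨ι, _, d, v, rfl, hpos, -⟩ := h
  intro h0
  obtain ⟨i, -, hi⟩ := Multiset.mem_map.mp h0
  have := hpos i
  omega

theorem IsJordan.finrank_range_pow {T : Module.End K V} {μ : Multiset ℕ}
    (h : IsJordan T ⊤ μ) (k : ℕ) : finrank K (LinearMap.range (T ^ k)) = subSum μ k := by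
  obtain ⟨ι, _, d, v, rfl, hpos, hli, hspan, hkill⟩ := h
  rw [Jordan.finrank_range_pow T d v hli hspan hkill k, subSum, Multiset.map_map]
  rfl

theorem IsJordan.unique {T : Module.End K V} {μ ν : Multiset ℕ}
    (h : IsJordan T ⊤ μ) (h' : IsJordan T ⊤ ν) : μ = ν :=
  eq_of_subSum_eq μ ν h.zero_notMem h'.zero_notMem
    (fun k => by rw [← h.finrank_range_pow k, ← h'.finrank_range_pow k])

theorem IsJordan.sum_eq {T : Module.End K V} {μ : Multiset ℕ}
    (h : IsJordan T ⊤ μ) : μ.sum = finrank K V := by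
  have := h.finrank_range_pow 0
  simp only [subSum, Nat.sub_zero, Multiset.map_id'] at this
  rw [← this]
  have h1 : LinearMap.range (T ^ 0) = ⊤ := by
    rw [pow_zero]
    exact LinearMap.range_id
  rw [h1, finrank_top]

theorem IsJordan.pow_eq_zero_iff [FiniteDimensional K V] {T : Module.End K V} {μ : Multiset ℕ}
    (h : IsJordan T ⊤ μ) (k : ℕ) : T ^ k = 0 ↔ ∀ a ∈ μ, a ≤ k := by
  rw [← LinearMap.range_eq_bot, ← Submodule.finrank_eq_zero, h.finrank_range_pow k, subSum,
    Multiset.sum_eq_zero_iff]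
  constructor
  · intro h1 a ha
    have := h1 (a - k) (Multiset.mem_map.mpr ⟨a, ha, rfl⟩)
    omega
  · intro h1 b hb
    obtain ⟨a, ha, rfl⟩ := Multiset.mem_map.mp hb
    have := h1 a ha
    omega

theorem IsJordan.isNilpotent [FiniteDimensional K V] {T : Module.End K V} {μ : Multiset ℕ}
    (h : IsJordan T ⊤ μ) : IsNilpotent T :=
  ⟨μ.sum, (h.pow_eq_zero_iff _).mpr (fun _ ha => Multiset.le_sum_of_mem ha)⟩

end Cfsg.Agent.Helper21.Jordan
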