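import Mathlib
import Cfsg.Prelude.Def_OddOrderLocal
import Cfsg.Agent.Helper1.BG147F
import Cfsg.Agent.Helper23.ClassCount

/-!
# B&G Theorem 14.7: the counting clauses of S1434 (task T9 of helper1)

For a partner pair `(M, K)`, `(M*, K*)` the set `Ẑ = K K* \ (K ∪ K*)` is a TI-set with
normalizer `Z = K K*`, so its class support has `(k k* - k - k* + 1) |G| / (k k*)` elements,
which is more than `|G| / 2`.
-/

set_option autoImplicit false
set_option linter.unusedSectionVars false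
set_option linter.unusedVariables false

namespace Cfsg.Agent.Helper21.BG147

open Subgroup Cfsg
open Cfsg.Agent.Helper1.BG147

universe u

variable {G : Type u} [Group G] [Finite G]

/-- arithmetic: for distinct odd `k, s ≥ 3`, `2 (k-1)(s-1) > k s` -/
theorem two_mul_pred_gt {k s : ℕ} (hk : Odd k) (hs : Odd s) (hk1 : k ≠ 1) (hs1 : s ≠ 1)
    (hne : k ≠ s) : k * s < 2 * (k * s - k - s + 1) := by
  obtain ⟨a, rfl⟩ := hk
  obtain ⟨b, rfl⟩ := hs
  have ha : 1 ≤ a := by omega
  have hb : 1 ≤ b := by omega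
  have hab : a ≠ b := by omega
  have h2 : (2 * a + 1) * (2 * b + 1) = 4 * (a * b) + 2 * a + 2 * b + 1 := by ring
  rw [h2]
  have h3 : 2 * a + 2 * b + 1 < 4 * (a * b) := by
    rcases Nat.lt_or_gt_of_ne hab with h | h
    · have : 2 * b ≤ a * b * 2 := by nlinarith
      nlinarith
    · have : 2 * a ≤ a * b * 2 := by nlinarith
      nlinarith
  generalize a * b = n at *
  omega

/-- the number of elements of `Z \ (K ∪ K*)` -/
theorem ncard_zhat {K S Z : Subgroup G} (hKZ : K ≤ Z) (hSZ : S ≤ Z) (hKS : K ⊓ S = ⊥)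
    (hZ : Nat.card Z = Nat.card K * Nat.card S) (hk1 : Nat.card K ≠ 1) (hs1 : Nat.card S ≠ 1) :
    Set.ncard ((Z : Set G) \ ((K : Set G) ∪ (S : Set G))) =
      Nat.card K * Nat.card S - Nat.card K - Nat.card S + 1 := by
  have hsub : ((K : Set G) ∪ (S : Set G)) ⊆ (Z : Set G) :=
    Set.union_subset (fun x hx => hKZ hx) (fun x hx => hSZ hx)
  rw [Set.ncard_sdiff hsub (Set.toFinite _)]
  have hinter : ((K : Set G) ∩ (S : Set G)) = {1} := by
    ext x
    constructor
    · rintro ⟨h1, h2⟩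
      have : x ∈ K ⊓ S := ⟨h1, h2⟩
      rw [hKS, mem_bot] at this
      exact this
    · intro hx
      rw [Set.mem_singleton_iff] at hx
      rw [hx]
      exact ⟨K.one_mem, S.one_mem⟩
  have hun := Set.ncard_union_add_ncard_inter (K : Set G) (S : Set G)
    (Set.toFinite _) (Set.toFinite _)
  rw [hinter, Set.ncard_singleton] at hun
  have e1 : Set.ncard (Z : Set G) = Nat.card Z := by
    rw [← Nat.card_coe_set_eq]; rfl
  have e2 : Set.ncard (K : Set G) = Nat.card K := by
    rw [← Nat.card_coe_set_eq]; rfl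
  have e3 : Set.ncard (S : Set G) = Nat.card S := by
    rw [← Nat.card_coe_set_eq]; rfl
  rw [e2, e3] at hun
  rw [e1, hZ]
  have hk : 0 < Nat.card K := Nat.card_pos
  have hs : 0 < Nat.card S := Nat.card_pos
  have hk2 : 2 ≤ Nat.card K := by omega
  have hs2 : 2 ≤ Nat.card S := by omega
  have hge : Nat.card K + Nat.card S ≤ Nat.card K * Nat.card S := by
    nlinarith
  generalize Nat.card K * Nat.card S = n at *
  omega

/-- **T9**: the last two clauses of the frozen S1434 -/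
theorem s1434_count (H : Hyp2 G) {M K Ms : Subgroup G} (c : Partner M K Ms) :
    (Nat.card K * Nat.card ↥(Cfsg.sigmaCore M ⊓ centralizer (K : Set G)) *
        Set.ncard {a : G | ∃ g : G, ∃ z ∈ ((↑(K ⊔ (Cfsg.sigmaCore M ⊓ centralizer (K : Set G))) :
          Set G) \ ((K : Set G) ∪ ↑(Cfsg.sigmaCore M ⊓ centralizer (K : Set G)))),
            a = g * z * g⁻¹} =
      (Nat.card K * Nat.card ↥(Cfsg.sigmaCore M ⊓ centralizer (K : Set G)) - Nat.card K -
        Nat.card ↥(Cfsg.sigmaCore M ⊓ centralizer (K : Set G)) + 1) * Nat.card G) ∧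
    Nat.card G < 2 * Set.ncard {a : G | ∃ g : G, ∃ z ∈
      ((↑(K ⊔ (Cfsg.sigmaCore M ⊓ centralizer (K : Set G))) : Set G) \
        ((K : Set G) ∪ ↑(Cfsg.sigmaCore M ⊓ centralizer (K : Set G)))), a = g * z * g⁻¹} := by
  set S : Subgroup G := Cfsg.sigmaCore M ⊓ centralizer (K : Set G) with hS
  set Z : Subgroup G := K ⊔ S with hZ
  set W : Set G := (Z : Set G) \ ((K : Set G) ∪ (S : Set G)) with hW
  have hfam := c.mem_fam
  have hne : (Fam Z).Nonempty := ⟨M, hfam.1⟩
  -- Z ∩ M_σ = K*, Z ∩ M*_σ = K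
  have hZM : Z ⊓ Cfsg.sigmaCore M = S := c.P.zz_inf_sigmaCore
  have hZMs : Z ⊓ Cfsg.sigmaCore Ms = K := by
    have h1 := c.symm.P.zz_inf_sigmaCore
    rw [← c.eq] at h1
    rw [hZ, sup_comm]
    exact h1
  -- Ẑ ⊆ W(Z)
  have hWsub : W ⊆ WSet Z := by
    intro w hw
    refine ⟨hw.1, ?_⟩
    intro L hL hwL
    by_cases h1 : L = M
    · subst h1
      have : w ∈ Z ⊓ Cfsg.sigmaCore L := ⟨hw.1, hwL⟩
      rw [hZM] at this
      exact hw.2 (Or.inr this)
    · by_cases h2 : L = Ms
      · subst h2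
        have : w ∈ Z ⊓ Cfsg.sigmaCore L := ⟨hw.1, hwL⟩
        rw [hZMs] at this
        exact hw.2 (Or.inl this)
      · exact fam_le_two H hfam.1 hfam.2 hL c.ne (Ne.symm h1) (Ne.symm h2)
  -- Z is abelian
  have hcyc : IsCyclic ↥Z := c.isCyclic_zz H
  have hcomm : ∀ a ∈ Z, ∀ b ∈ Z, a * b = b * a := by
    intro a ha b hb
    have := hcyc.isMulCommutative.is_comm.comm (⟨a, ha⟩ : ↥Z) ⟨b, hb⟩
    exact congrArg Subtype.val this
  have hinv : ∀ w ∈ W, ∀ t ∈ Z, t * w * t⁻¹ ∈ W := by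
    intro w hw t ht
    have : t * w * t⁻¹ = w := by
      rw [hcomm t ht w hw.1]; group
    rw [this]; exact hw
  have hTI : ∀ w ∈ W, ∀ g : G, g * w * g⁻¹ ∈ W → g ∈ Z := by
    intro w hw g hg
    exact wset_TI H.h (hWsub hw) hne hg.1
  have hcount := Cfsg.Agent.Helper23.ClassCount.card_class_support Z W
    (fun w hw => hw.1) hinv hTI
  have hcardZ : Nat.card Z = Nat.card K * Nat.card S := c.P.card_zz
  have hk1 : Nat.card K ≠ 1 := fun h0 => c.P.ne (Subgroup.card_eq_one.mp h0)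
  have hs1 : Nat.card S ≠ 1 := fun h0 => c.Ps.ne (Subgroup.card_eq_one.mp h0)
  have hncW : Set.ncard W = Nat.card K * Nat.card S - Nat.card K - Nat.card S + 1 :=
    ncard_zhat le_sup_left le_sup_right c.P.K_inf_ks hcardZ hk1 hs1
  rw [hcardZ, hncW] at hcount
  refine ⟨hcount, ?_⟩
  -- density
  have hodd : Odd (Nat.card G) := H.h.hG.1
  have hkodd : Odd (Nat.card K) :=
    Odd.of_dvd_nat hodd (Subgroup.card_subgroup_dvd_card K)
  have hsodd : Odd (Nat.card S) :=
    Odd.of_dvd_nat hodd (Subgroup.card_subgroup_dvd_card S)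
  have hcop : (Nat.card K).Coprime (Nat.card S) :=
    Nat.Coprime.coprime_dvd_right (Subgroup.card_dvd_of_le inf_le_left) c.P.coprime
  have hneks : Nat.card K ≠ Nat.card S := by
    intro h0
    rw [h0, Nat.coprime_self] at hcop
    exact hs1 hcop
  have harith := two_mul_pred_gt hkodd hsodd hk1 hs1 hneks
  have hGpos : 0 < Nat.card G := Nat.card_pos
  have hkspos : 0 < Nat.card K * Nat.card S := Nat.mul_pos Nat.card_pos Nat.card_pos
  by_contra hcon
  push Not at hcon
  -- 2 N ≤ |G|  ⇒  2 (k s) N ≤ k s |G| but (k s) N = c |G| with 2 c > k s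
  have h1 : 2 * (Nat.card K * Nat.card S * Set.ncard {a : G | ∃ g : G, ∃ z ∈ W,
      a = g * z * g⁻¹}) ≤ Nat.card K * Nat.card S * Nat.card G := by
    calc 2 * (Nat.card K * Nat.card S * Set.ncard {a : G | ∃ g : G, ∃ z ∈ W, a = g * z * g⁻¹})
        = Nat.card K * Nat.card S * (2 * Set.ncard {a : G | ∃ g : G, ∃ z ∈ W,
            a = g * z * g⁻¹}) := by ring
      _ ≤ Nat.card K * Nat.card S * Nat.card G := Nat.mul_le_mul_left _ hcon
  rw [hcount] at h1
  have h2 : 2 * (Nat.card K * Nat.card S - Nat.card K - Nat.card S + 1) * Nat.card G ≤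
      Nat.card K * Nat.card S * Nat.card G := by
    calc 2 * (Nat.card K * Nat.card S - Nat.card K - Nat.card S + 1) * Nat.card G
        = 2 * ((Nat.card K * Nat.card S - Nat.card K - Nat.card S + 1) * Nat.card G) := by ring
      _ ≤ _ := h1
  have h3 := Nat.le_of_mul_le_mul_right h2 hGpos
  omega

end Cfsg.Agent.Helper21.BG147
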