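import Mathlib
import Cfsg.Agent.Helper15.Iso44Defs
import Cfsg.Agent.Helper15.Iso44Bas

/-! s3044pieces CHARPB (helper21): the preimage in `G` of a characteristic subgroup of `Y / O_p(Y)` is normal in `G`. -/

set_option autoImplicit false

namespace Cfsg.Agent.Helper15.Iso44

open Cfsg Subgroup

variable {G : Type*} [Group G] [Finite G] {p : ℕ} [Fact p.Prime] {S : Sylow p G} {P : Subgroup G}

section caseB
variable [hn : (Cfsg.pCore p ↥(Ysub p P)).Normal]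

theorem pb_normal (C : Subgroup (↥(Ysub p P) ⧸ Cfsg.pCore p ↥(Ysub p P))) [C.Characteristic] :
    (pb p P C).Normal := by
  have hYn : (Ysub p P).Normal := Y_normal
  refine ⟨fun x hx g => ?_⟩
  rw [mem_pb] at hx ⊢
  obtain ⟨hxY, hxC⟩ := hx
  have hgx : g * x * g⁻¹ ∈ Ysub p P := hYn.conj_mem x hxY g
  refine ⟨hgx, ?_⟩
  -- the automorphism of `Y` induced by `g`
  let e : ↥(Ysub p P) ≃* ↥(Ysub p P) := MulAut.conjNormal g
  have he : (Cfsg.pCore p ↥(Ysub p P)).map (e : ↥(Ysub p P) →* ↥(Ysub p P)) = Cfsg.pCore p ↥(Ysub p P) :=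
    Cfsg.Agent.Helper14.pCore_map_equiv p e
  let φ : (↥(Ysub p P) ⧸ Cfsg.pCore p ↥(Ysub p P)) ≃* (↥(Ysub p P) ⧸ Cfsg.pCore p ↥(Ysub p P)) :=
    QuotientGroup.congr (Cfsg.pCore p ↥(Ysub p P)) (Cfsg.pCore p ↥(Ysub p P)) e he
  have hφ : C.map φ.toMonoidHom = C :=
    (Subgroup.characteristic_iff_map_eq.1 inferInstance) φ
  have hval : QuotientGroup.mk' (Cfsg.pCore p ↥(Ysub p P)) ⟨g * x * g⁻¹, hgx⟩ =
      φ (QuotientGroup.mk' (Cfsg.pCore p ↥(Ysub p P)) ⟨x, hxY⟩) := by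
    rw [QuotientGroup.mk'_apply, QuotientGroup.mk'_apply, QuotientGroup.congr_mk]
    congr 1
  rw [hval, ← hφ]
  exact Subgroup.mem_map_of_mem _ hxC

end caseB

end Cfsg.Agent.Helper15.Iso44
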