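import Mathlib
import Cfsg.Prelude.Def_GeometricClasses
import Cfsg.Prelude.Def_ClassicalGeometry
import Cfsg.Agent.Helper27.S5975Defs

set_option autoImplicit false
open scoped MatrixGroups

/-! S5975 piece PERF: every functional on `K` is `a ↦ τ (c * a)`. -/

namespace Cfsg.Agent.S5975P

/-- PERF -/
theorem exists_repr_functional {F : Type*} [Field F] (d k : ℕ) (hk : 0 < k)
    (K : Subalgebra F (Matrix (Fin d ⊕ Fin d) (Fin d ⊕ Fin d) F))
    (hK : Cfsg.Geo.IsFieldSubalgebra k K)
    (τ : K →ₗ[F] F) (hτ : τ ≠ 0) (φ : K →ₗ[F] F) :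
    ∃ c : K, ∀ a : K, φ a = τ (c * a) := by
  have : Module.Finite F K := Module.finite_of_finrank_pos (by rw [hK.finrank_eq]; exact hk)
  let Ψ : K →ₗ[F] Module.Dual F K :=
    { toFun := fun c => τ ∘ₗ LinearMap.mulLeft F c
      map_add' := by
        intro c c'
        ext a
        simp [add_mul]
      map_smul' := by
        intro r c
        ext a
        simp }
  have hΨ : ∀ c a, Ψ c a = τ (c * a) := fun c a => rfl
  have hinj : Function.Injective Ψ := by
    rw [← LinearMap.ker_eq_bot, LinearMap.ker_eq_bot']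
    intro c hc
    by_contra hne
    have hne' : (c : Matrix (Fin d ⊕ Fin d) (Fin d ⊕ Fin d) F) ≠ 0 := fun h => hne (Subtype.ext h)
    obtain ⟨y, hyK, hy⟩ := hK.inv c.1 c.2 hne'
    apply hτ
    ext a
    have h1 : Ψ c (⟨y, hyK⟩ * a) = 0 := by rw [hc]; rfl
    rw [hΨ, ← mul_assoc] at h1
    have h2 : c * ⟨y, hyK⟩ = (1 : K) := Subtype.ext hy
    rw [h2, one_mul] at h1
    rw [h1]; rfl
  have hsurj : Function.Surjective Ψ :=
    (LinearMap.injective_iff_surjective_of_finrank_eq_finrank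
      (Subspace.dual_finrank_eq (K := F) (V := K)).symm).1 hinj
  obtain ⟨c, hc⟩ := hsurj φ
  exact ⟨c, fun a => by rw [← hc]; rfl⟩

end Cfsg.Agent.S5975P
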