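import Mathlib

/-!
# Stem extensions of the alternating groups, part A: the presentation and general lemmas

`rels k` is the set of relators of the Coxeter–Moser presentation of the alternating group of
degree `k + 2` on `k` generators (the first of order 3, the others involutions).
-/

set_option autoImplicit false

namespace Cfsg.Agent.Helper21.AltMult

open scoped commutatorElement

/-- The relators of the presentation of the alternating group of degree `k + 2`. -/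
def rels (k : ℕ) : Set (FreeGroup (Fin k)) :=
  {g : FreeGroup (Fin k) | ∃ i : Fin k, i.val = 0 ∧ g = FreeGroup.of i ^ 3} ∪
  {g | ∃ i : Fin k, 1 ≤ i.val ∧ g = FreeGroup.of i ^ 2} ∪
  {g | ∃ i j : Fin k, j.val = i.val + 1 ∧ g = (FreeGroup.of i * FreeGroup.of j) ^ 3} ∪
  {g | ∃ i j : Fin k, i.val + 1 < j.val ∧ g = (FreeGroup.of i * FreeGroup.of j) ^ 2}

/-- The presented group. -/
abbrev P (k : ℕ) : Type := PresentedGroup (rels k)

/-- The generators, indexed by natural numbers (trivial beyond `k`). -/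
def gen (k : ℕ) (i : ℕ) : P k := if h : i < k then PresentedGroup.of ⟨i, h⟩ else 1

theorem gen_of_lt {k i : ℕ} (h : i < k) : gen k i = PresentedGroup.of ⟨i, h⟩ := by
  simp [gen, h]

theorem gen_zero_pow {k : ℕ} (hk : 0 < k) : gen k 0 ^ 3 = 1 := by
  rw [gen_of_lt hk]
  have : (FreeGroup.of (⟨0, hk⟩ : Fin k)) ^ 3 ∈ rels k :=
    Or.inl (Or.inl (Or.inl ⟨⟨0, hk⟩, rfl, rfl⟩))
  have h := PresentedGroup.one_of_mem this
  rw [map_pow] at h
  exact h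

theorem gen_sq {k i : ℕ} (h1 : 1 ≤ i) (hi : i < k) : gen k i ^ 2 = 1 := by
  rw [gen_of_lt hi]
  have : (FreeGroup.of (⟨i, hi⟩ : Fin k)) ^ 2 ∈ rels k :=
    Or.inl (Or.inl (Or.inr ⟨⟨i, hi⟩, h1, rfl⟩))
  have h := PresentedGroup.one_of_mem this
  rw [map_pow] at h
  exact h

theorem gen_braid {k i : ℕ} (hi : i + 1 < k) : (gen k i * gen k (i + 1)) ^ 3 = 1 := by
  rw [gen_of_lt (by omega : i < k), gen_of_lt hi]
  have : (FreeGroup.of (⟨i, by omega⟩ : Fin k) * FreeGroup.of ⟨i + 1, hi⟩) ^ 3 ∈ rels k :=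
    Or.inl (Or.inr ⟨⟨i, by omega⟩, ⟨i + 1, hi⟩, rfl, rfl⟩)
  have h := PresentedGroup.one_of_mem this
  rw [map_pow, map_mul] at h
  exact h

theorem gen_far {k i j : ℕ} (hij : i + 1 < j) (hj : j < k) : (gen k i * gen k j) ^ 2 = 1 := by
  rw [gen_of_lt (by omega : i < k), gen_of_lt hj]
  have : (FreeGroup.of (⟨i, by omega⟩ : Fin k) * FreeGroup.of ⟨j, hj⟩) ^ 2 ∈ rels k :=
    Or.inr ⟨⟨i, by omega⟩, ⟨j, hj⟩, hij, rfl⟩
  have h := PresentedGroup.one_of_mem this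
  rw [map_pow, map_mul] at h
  exact h

/-- The universal property of the presentation. -/
theorem exists_hom {k : ℕ} {H : Type*} [Group H] (h : ℕ → H) (h0 : h 0 ^ 3 = 1)
    (h1 : ∀ i, 1 ≤ i → i < k → h i ^ 2 = 1)
    (h2 : ∀ i, i + 1 < k → (h i * h (i + 1)) ^ 3 = 1)
    (h3 : ∀ i j, i + 1 < j → j < k → (h i * h j) ^ 2 = 1) :
    ∃ τ : P k →* H, ∀ i, i < k → τ (gen k i) = h i := by
  have hrel : ∀ r ∈ rels k, FreeGroup.lift (fun i : Fin k => h i.val) r = 1 := by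
    intro r hr
    rcases hr with ((⟨i, hi, rfl⟩ | ⟨i, hi, rfl⟩) | ⟨i, j, hij, rfl⟩) | ⟨i, j, hij, rfl⟩
    · simp only [map_pow, FreeGroup.lift_apply_of]
      rw [hi]; exact h0
    · simp only [map_pow, FreeGroup.lift_apply_of]
      exact h1 i.val hi i.isLt
    · simp only [map_pow, map_mul, FreeGroup.lift_apply_of]
      rw [hij]
      exact h2 i.val (by have := j.isLt; omega)
    · simp only [map_pow, map_mul, FreeGroup.lift_apply_of]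
      exact h3 i.val j.val hij j.isLt
  refine ⟨PresentedGroup.toGroup hrel, ?_⟩
  intro i hi
  rw [gen_of_lt hi, PresentedGroup.toGroup.of]

/-- Two homomorphisms out of the presented group agreeing on the generators are equal. -/
theorem hom_ext {k : ℕ} {H : Type*} [Group H] (φ ψ : P k →* H)
    (h : ∀ i, i < k → φ (gen k i) = ψ (gen k i)) : φ = ψ := by
  apply PresentedGroup.ext
  intro x
  have := h x.val x.isLt
  rwa [gen_of_lt x.isLt] at this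

/-! ### Elementary consequences of the relations -/

section rel

variable {G : Type*} [Group G]

theorem inv_eq_self_of_sq {a : G} (ha : a ^ 2 = 1) : a⁻¹ = a := by
  rw [inv_eq_iff_mul_eq_one, ← pow_two, ha]

theorem comm_of_sq {a b : G} (ha : a ^ 2 = 1) (hb : b ^ 2 = 1) (hab : (a * b) ^ 2 = 1) :
    a * b = b * a := by
  have h1 : (a * b)⁻¹ = a * b := inv_eq_self_of_sq hab
  rw [mul_inv_rev, inv_eq_self_of_sq ha, inv_eq_self_of_sq hb] at h1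
  exact h1.symm

/-- `b a b⁻¹ = a⁻¹` when `b` is an involution and `(a b)² = 1`. -/
theorem conj_eq_inv_of_sq {a b : G} (hb : b ^ 2 = 1) (hab : (a * b) ^ 2 = 1) :
    b * a * b⁻¹ = a⁻¹ := by
  have h1 : a * b * (a * b) = 1 := by rw [← pow_two, hab]
  have h2 : b * a * b = a⁻¹ := by
    have : a * (b * a * b) = 1 := by simpa [mul_assoc] using h1
    exact eq_inv_of_mul_eq_one_right this
  rw [inv_eq_self_of_sq hb, h2]

end rel

section gens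

variable {k : ℕ}

theorem gen_inv {i : ℕ} (h1 : 1 ≤ i) (hi : i < k) : (gen k i)⁻¹ = gen k i :=
  inv_eq_self_of_sq (gen_sq h1 hi)

theorem gen_comm {i j : ℕ} (h1 : 1 ≤ i) (hij : i + 1 < j) (hj : j < k) :
    gen k i * gen k j = gen k j * gen k i :=
  comm_of_sq (gen_sq h1 (by omega)) (gen_sq (by omega) hj) (gen_far hij hj)

/-- `g_j g_0 g_j⁻¹ = g_0⁻¹` for `j ≥ 2`. -/
theorem gen_conj_zero {j : ℕ} (h2 : 2 ≤ j) (hj : j < k) :
    gen k j * gen k 0 * (gen k j)⁻¹ = (gen k 0)⁻¹ :=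
  conj_eq_inv_of_sq (gen_sq (by omega) hj) (gen_far (by omega) hj)

end gens

/-! ### The key lemma: a section kills the kernel of a stem extension -/

/-- Central factors do not change a commutator. -/
theorem commutatorElement_central_mul {Δ : Type*} [Group Δ] {κ₁ κ₂ : Δ}
    (c1 : ∀ ε : Δ, κ₁ * ε = ε * κ₁) (c2 : ∀ ε : Δ, κ₂ * ε = ε * κ₂) (t₁ t₂ : Δ) :
    ⁅κ₁ * t₁, κ₂ * t₂⁆ = ⁅t₁, t₂⁆ := by
  rw [commutatorElement_def, commutatorElement_def]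
  have i1 : (κ₁ * t₁)⁻¹ = κ₁⁻¹ * t₁⁻¹ := by
    rw [mul_inv_rev]
    exact ((show Commute κ₁ t₁ from c1 t₁).inv_inv).eq.symm
  have i2 : (κ₂ * t₂)⁻¹ = κ₂⁻¹ * t₂⁻¹ := by
    rw [mul_inv_rev]
    exact ((show Commute κ₂ t₂ from c2 t₂).inv_inv).eq.symm
  rw [i1, i2]
  calc κ₁ * t₁ * (κ₂ * t₂) * (κ₁⁻¹ * t₁⁻¹) * (κ₂⁻¹ * t₂⁻¹)
      = κ₁ * (t₁ * κ₂) * t₂ * κ₁⁻¹ * t₁⁻¹ * κ₂⁻¹ * t₂⁻¹ := by group
    _ = κ₁ * (κ₂ * t₁) * t₂ * κ₁⁻¹ * t₁⁻¹ * κ₂⁻¹ * t₂⁻¹ := by rw [c2 t₁]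
    _ = κ₁ * (κ₂ * (t₁ * t₂)) * κ₁⁻¹ * t₁⁻¹ * κ₂⁻¹ * t₂⁻¹ := by group
    _ = κ₁ * ((t₁ * t₂) * κ₂) * κ₁⁻¹ * t₁⁻¹ * κ₂⁻¹ * t₂⁻¹ := by rw [c2 (t₁ * t₂)]
    _ = (κ₁ * (t₁ * t₂ * κ₂)) * κ₁⁻¹ * t₁⁻¹ * κ₂⁻¹ * t₂⁻¹ := by group
    _ = ((t₁ * t₂ * κ₂) * κ₁) * κ₁⁻¹ * t₁⁻¹ * κ₂⁻¹ * t₂⁻¹ := by rw [c1 (t₁ * t₂ * κ₂)]
    _ = t₁ * t₂ * (κ₂ * t₁⁻¹) * κ₂⁻¹ * t₂⁻¹ := by group
    _ = t₁ * t₂ * (t₁⁻¹ * κ₂) * κ₂⁻¹ * t₂⁻¹ := by rw [c2 t₁⁻¹]
    _ = t₁ * t₂ * t₁⁻¹ * t₂⁻¹ := by group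


theorem ker_le_of_section {Γ Δ Q : Type*} [Group Γ] [Group Δ] [Group Q] (σ : Γ →* Q)
    (π : Γ →* Δ) (hπ : Function.Surjective π) (σ' : Δ →* Q) (hσ' : ∀ x, σ' (π x) = σ x)
    (hc : σ.ker ≤ Subgroup.center Γ) (hd : σ.ker ≤ commutator Γ) (τ : Q →* Δ)
    (hτ : ∀ q, σ' (τ q) = q) : σ.ker ≤ π.ker := by
  -- the kernel of σ' is central in Δ
  have hker' : ∀ δ : Δ, σ' δ = 1 → ∀ ε : Δ, δ * ε = ε * δ := by
    intro δ hδ ε
    obtain ⟨x, rfl⟩ := hπ δ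
    obtain ⟨y, rfl⟩ := hπ ε
    have hx : x ∈ σ.ker := by rw [MonoidHom.mem_ker, ← hσ', hδ]
    have := Subgroup.mem_center_iff.mp (hc hx) y
    rw [← map_mul, ← map_mul, this]
  -- every commutator of Δ lies in the range of τ
  have hcomm : commutator Δ ≤ τ.range := by
    rw [commutator_eq_closure, Subgroup.closure_le]
    rintro _ ⟨δ₁, δ₂, rfl⟩
    set t₁ := τ (σ' δ₁)
    set t₂ := τ (σ' δ₂)
    set κ₁ := δ₁ * t₁⁻¹ with hκ₁
    set κ₂ := δ₂ * t₂⁻¹ with hκ₂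
    have h1 : σ' κ₁ = 1 := by simp [hκ₁, t₁, hτ]
    have h2 : σ' κ₂ = 1 := by simp [hκ₂, t₂, hτ]
    have e1 : δ₁ = κ₁ * t₁ := by simp [hκ₁]
    have e2 : δ₂ = κ₂ * t₂ := by simp [hκ₂]
    have c1 := hker' κ₁ h1
    have c2 := hker' κ₂ h2
    have : ⁅δ₁, δ₂⁆ = ⁅t₁, t₂⁆ := by
      rw [e1, e2]
      exact commutatorElement_central_mul c1 c2 t₁ t₂
    rw [SetLike.mem_coe, this, ← map_commutatorElement]
    exact ⟨_, rfl⟩
  intro z hz
  have hz' : π z ∈ commutator Δ := by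
    have := Subgroup.mem_map_of_mem π (hd hz)
    have hle : (commutator Γ).map π ≤ commutator Δ := by
      rw [commutator_def, commutator_def, Subgroup.map_commutator]
      exact Subgroup.commutator_mono le_top le_top
    exact hle this
  obtain ⟨q, hq⟩ := hcomm hz'
  have : q = 1 := by
    have h := hτ q
    rw [hq, hσ', MonoidHom.mem_ker.mp hz] at h
    exact h.symm
  rw [MonoidHom.mem_ker, ← hq, this, map_one]

end Cfsg.Agent.Helper21.AltMult
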