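import Cfsg.Agent.Helper21.AltMultA

/-!
# Stem extensions of the alternating groups, part B: kernels of odd order

For `k ≥ 6` (degree at least 8) a stem extension of the presented group `P k` whose kernel has odd
order is trivial: involutions lift uniquely to involutions, and the lifts satisfy the relations.
-/

set_option autoImplicit false

namespace Cfsg.Agent.Helper21.AltMult

section generalities

variable {G : Type*} [Group G]

/-- If `y` inverts `x` and commutes with `x ^ n`, then `(x ^ n) ^ 2 = 1`. -/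
theorem pow_sq_eq_one_of_conj_inv {y x : G} (n : ℕ) (hconj : y * x * y⁻¹ = x⁻¹)
    (hcomm : y * x ^ n = x ^ n * y) : (x ^ n) ^ 2 = 1 := by
  have h1 : y * x ^ n * y⁻¹ = (x ^ n)⁻¹ := by
    rw [← conj_pow, hconj, inv_pow]
  have h2 : y * x ^ n * y⁻¹ = x ^ n := by
    rw [hcomm, mul_inv_cancel_right]
  rw [h2] at h1
  rw [pow_two]
  nth_rewrite 1 [h1]
  exact inv_mul_cancel _

theorem conj_mul_eq_inv_of_sq {a b : G} (ha : a ^ 2 = 1) (hb : b ^ 2 = 1) :
    a * (a * b) * a⁻¹ = (a * b)⁻¹ := by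
  rw [mul_inv_rev, inv_eq_self_of_sq ha, inv_eq_self_of_sq hb, ← mul_assoc, ← pow_two, ha,
    one_mul]

theorem mul_sq_eq_one_of_conj_inv {a b : G} (hb : b ^ 2 = 1) (h : b * a * b⁻¹ = a⁻¹) :
    (a * b) ^ 2 = 1 := by
  rw [inv_eq_self_of_sq hb] at h
  calc (a * b) ^ 2 = a * (b * a * b) := by rw [pow_two]; group
    _ = 1 := by rw [h, mul_inv_cancel]

theorem conj_prod_eq_inv {a b c : G} (hb : b ^ 2 = 1) (hbc : c * b = b * c)
    (hca : c * a * c⁻¹ = a⁻¹) : (b * c) * (a * b) * (b * c)⁻¹ = (a * b)⁻¹ := by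
  have hcb : c * b * c⁻¹ = b := by rw [hbc, mul_inv_cancel_right]
  calc (b * c) * (a * b) * (b * c)⁻¹ = b * (c * a * c⁻¹) * (c * b * c⁻¹) * b⁻¹ := by group
    _ = b * a⁻¹ * b * b⁻¹ := by rw [hca, hcb]
    _ = (a * b)⁻¹ := by rw [mul_inv_cancel_right, mul_inv_rev, inv_eq_self_of_sq hb]

end generalities

section lifts

variable {Γ Q : Type*} [Group Γ] [Group Q] (σ : Γ →* Q)

theorem eq_one_of_sq_of_odd (hodd : Odd (Nat.card σ.ker)) {z : Γ} (hz : z ∈ σ.ker)
    (h2 : z ^ 2 = 1) : z = 1 := by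
  have h1 : orderOf (⟨z, hz⟩ : σ.ker) ∣ 2 :=
    orderOf_dvd_of_pow_eq_one (by ext; simpa using h2)
  have h3 : orderOf (⟨z, hz⟩ : σ.ker) ∣ Nat.card σ.ker := orderOf_dvd_natCard _
  have h4 : orderOf (⟨z, hz⟩ : σ.ker) = 1 := by
    have := Nat.dvd_gcd h1 h3
    rw [Nat.Coprime.gcd_eq_one (Nat.coprime_two_left.mpr hodd)] at this
    exact Nat.dvd_one.mp this
  have := orderOf_eq_one_iff.mp h4
  exact congrArg Subtype.val this

theorem exists_invol_lift (hσ : Function.Surjective σ) (hodd : Odd (Nat.card σ.ker)) {x : Q}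
    (hx : x ^ 2 = 1) : ∃ y : Γ, σ y = x ∧ y ^ 2 = 1 := by
  obtain ⟨y₀, rfl⟩ := hσ x
  obtain ⟨m, hm⟩ := hodd
  refine ⟨y₀ ^ Nat.card σ.ker, ?_, ?_⟩
  · rw [map_pow, hm, pow_succ, pow_mul, hx, one_pow, one_mul]
  · have hmem : y₀ ^ 2 ∈ σ.ker := by rw [MonoidHom.mem_ker, map_pow, hx]
    have := pow_card_eq_one' (G := σ.ker) (x := ⟨y₀ ^ 2, hmem⟩)
    have h2 := congrArg Subtype.val this
    simp only [SubmonoidClass.coe_pow, Subgroup.coe_one] at h2
    rw [← pow_mul, mul_comm, pow_mul]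
    exact h2

theorem invol_lift_unique (hc : σ.ker ≤ Subgroup.center Γ) (hodd : Odd (Nat.card σ.ker))
    {y y' : Γ} (h : σ y = σ y') (hy : y ^ 2 = 1) (hy' : y' ^ 2 = 1) : y' = y := by
  have hz : y⁻¹ * y' ∈ σ.ker := by
    rw [MonoidHom.mem_ker, map_mul, map_inv, h, inv_mul_cancel]
  have hcz : Commute (y⁻¹ * y') y := (Subgroup.mem_center_iff.mp (hc hz) y).symm
  have h2 : (y⁻¹ * y') ^ 2 = 1 := by
    have e : y' = y * (y⁻¹ * y') := by group
    have : y' ^ 2 = y ^ 2 * (y⁻¹ * y') ^ 2 := by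
      nth_rewrite 1 [e]
      exact (hcz.symm.mul_pow 2)
    rw [hy', hy, one_mul] at this
    exact this.symm
  have := eq_one_of_sq_of_odd σ hodd hz h2
  rw [inv_mul_eq_one] at this
  exact this.symm

/-- An involution whose image commutes with the image of `x` commutes with `x`. -/
theorem conj_eq_of_invol (hc : σ.ker ≤ Subgroup.center Γ) (hodd : Odd (Nat.card σ.ker))
    {w x : Γ} (hw : w ^ 2 = 1) (hcomm : σ w * σ x = σ x * σ w) : w * x * w⁻¹ = x := by
  set ω := w * x * w⁻¹ * x⁻¹ with hω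
  have hz : ω ∈ σ.ker := by
    rw [MonoidHom.mem_ker, hω, map_mul, map_mul, map_mul, map_inv, map_inv, hcomm]
    group
  have hcz : ∀ g : Γ, ω * g = g * ω := fun g => (Subgroup.mem_center_iff.mp (hc hz) g).symm
  have e1 : w * x * w⁻¹ = ω * x := by rw [hω]; group
  have hwi : w⁻¹ = w := inv_eq_self_of_sq hw
  have e2 : x = ω ^ 2 * x := by
    calc x = w * (w * x * w⁻¹) * w⁻¹ := by
            rw [hwi]
            have : w * w = 1 := by rw [← pow_two, hw]
            calc x = (w * w) * x * (w * w) := by rw [this, one_mul, mul_one]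
              _ = w * (w * x * w) * w := by group
      _ = w * (ω * x) * w⁻¹ := by rw [e1]
      _ = (w * ω) * x * w⁻¹ := by group
      _ = (ω * w) * x * w⁻¹ := by rw [hcz w]
      _ = ω * (w * x * w⁻¹) := by group
      _ = ω * (ω * x) := by rw [e1]
      _ = ω ^ 2 * x := by rw [pow_two]; group
  have h2 : ω ^ 2 = 1 := by
    have := congrArg (· * x⁻¹) e2
    simp only [mul_inv_cancel, mul_inv_cancel_right] at this
    exact this.symm
  have := eq_one_of_sq_of_odd σ hodd hz h2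
  rw [e1, this, one_mul]

end lifts

section moregen

variable {G : Type*} [Group G]

theorem conj_eq_inv_of_prod {a b c : G} (hw : (b * c) * a * (b * c)⁻¹ = a)
    (hb : b * a * b⁻¹ = a⁻¹) : c * a * c⁻¹ = a⁻¹ := by
  have h1 : c * a * c⁻¹ = b⁻¹ * ((b * c) * a * (b * c)⁻¹) * b := by group
  rw [h1, hw]
  have h2 : b⁻¹ * a * b = (b⁻¹ * a⁻¹ * b)⁻¹ := by group
  have h3 : b⁻¹ * a⁻¹ * b = a := by
    rw [← hb]; group
  rw [h2, h3]

end moregen

/-- In the presented group, a product of two generators of index at least 2 commutes with the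
generator of order 3. -/
theorem gen_pair_comm_zero {k i j : ℕ} (hi2 : 2 ≤ i) (hj2 : 2 ≤ j) (hi : i < k) (hj : j < k) :
    (gen k i * gen k j) * gen k 0 = gen k 0 * (gen k i * gen k j) := by
  have e1 := gen_conj_zero hi2 hi
  have e2 := gen_conj_zero hj2 hj
  have e3 : gen k i * (gen k 0)⁻¹ * (gen k i)⁻¹ = gen k 0 := by
    have : gen k i * (gen k 0)⁻¹ * (gen k i)⁻¹ = (gen k i * gen k 0 * (gen k i)⁻¹)⁻¹ := by group
    rw [this, e1, inv_inv]
  calc (gen k i * gen k j) * gen k 0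
      = gen k i * (gen k j * gen k 0 * (gen k j)⁻¹) * gen k j := by group
    _ = (gen k i * (gen k 0)⁻¹ * (gen k i)⁻¹) * gen k i * gen k j := by rw [e2]; group
    _ = gen k 0 * (gen k i * gen k j) := by rw [e3]; group

/-- **Kernels of odd order.** For `k ≥ 6` a stem extension of `P k` with kernel of odd order is
trivial. -/
theorem ker_eq_bot_of_odd {k : ℕ} (hk : 6 ≤ k) {Γ : Type*} [Group Γ] (σ : Γ →* P k)
    (hσ : Function.Surjective σ) (hc : σ.ker ≤ Subgroup.center Γ) (hd : σ.ker ≤ commutator Γ)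
    (hodd : Odd (Nat.card σ.ker)) : σ.ker = ⊥ := by
  classical
  -- lifts of the involutions
  have lift : ∀ i, ∃ y : Γ, (1 ≤ i → i < k → σ y = gen k i ∧ y ^ 2 = 1) := by
    intro i
    by_cases h : 1 ≤ i ∧ i < k
    · obtain ⟨y, hy⟩ := exists_invol_lift σ hσ hodd (gen_sq h.1 h.2)
      exact ⟨y, fun _ _ => hy⟩
    · exact ⟨1, fun h1 h2 => absurd ⟨h1, h2⟩ h⟩
  choose h hh using lift
  have hσh : ∀ i, 1 ≤ i → i < k → σ (h i) = gen k i := fun i h1 h2 => (hh i h1 h2).1
  have hsq : ∀ i, 1 ≤ i → i < k → h i ^ 2 = 1 := fun i h1 h2 => (hh i h1 h2).2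
  have uniq : ∀ i, 1 ≤ i → i < k → ∀ y, σ y = gen k i → y ^ 2 = 1 → y = h i := by
    intro i h1 h2 y hy hy2
    exact invol_lift_unique σ hc hodd ((hσh i h1 h2).trans hy.symm) (hsq i h1 h2) hy2
  -- far apart involution lifts commute
  have F1 : ∀ i j, 1 ≤ i → i + 1 < j → j < k → h j * h i = h i * h j := by
    intro i j h1 hij hj
    have e : h j * h i * (h j)⁻¹ = h i := by
      apply uniq i h1 (by omega)
      · rw [map_mul, map_mul, map_inv, hσh j (by omega) hj, hσh i h1 (by omega),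
          ← gen_comm h1 hij hj, mul_inv_cancel_right]
      · rw [conj_pow, hsq i h1 (by omega), mul_one, mul_inv_cancel]
    calc h j * h i = h j * h i * (h j)⁻¹ * h j := by group
      _ = h i * h j := by rw [e]
  -- braid relations among the involution lifts
  have F2 : ∀ i, 1 ≤ i → i + 1 < k → (h i * h (i + 1)) ^ 3 = 1 := by
    intro i h1 hi
    have hz : (h i * h (i + 1)) ^ 3 ∈ σ.ker := by
      rw [MonoidHom.mem_ker, map_pow, map_mul, hσh i h1 (by omega), hσh (i + 1) (by omega) hi,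
        gen_braid hi]
    have hcz := Subgroup.mem_center_iff.mp (hc hz) (h i)
    have := pow_sq_eq_one_of_conj_inv 3
      (conj_mul_eq_inv_of_sq (hsq i h1 (by omega)) (hsq (i + 1) (by omega) hi)) hcz
    exact eq_one_of_sq_of_odd σ hodd hz this
  -- the lift of the generator of order 3
  obtain ⟨x0, hx0⟩ := hσ (gen k 0)
  set γ := h 2 * x0 * (h 2)⁻¹ * x0 with hγ
  have hγk : γ ∈ σ.ker := by
    rw [MonoidHom.mem_ker, hγ, map_mul, map_mul, map_mul, map_inv, hσh 2 (by omega) (by omega),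
      hx0, gen_conj_zero (le_refl 2) (by omega), inv_mul_cancel]
  have hcop : (Nat.card σ.ker).Coprime 2 := Nat.coprime_two_right.mpr hodd
  obtain ⟨⟨ζ, hζk⟩, hζ⟩ :=
    (Nat.Coprime.pow_left_bijective hcop).2 (⟨γ⁻¹, inv_mem hγk⟩ : σ.ker)
  have hζ2 : ζ ^ 2 = γ⁻¹ := by simpa using congrArg Subtype.val hζ
  have cζ : ∀ g : Γ, ζ * g = g * ζ := fun g => (Subgroup.mem_center_iff.mp (hc hζk) g).symm
  set h0 := x0 * ζ with hh0
  have hσ0 : σ h0 = gen k 0 := by
    rw [hh0, map_mul, hx0, MonoidHom.mem_ker.mp hζk, mul_one]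
  have inv2 : h 2 * h0 * (h 2)⁻¹ = h0⁻¹ := by
    have : h 2 * h0 * (h 2)⁻¹ * h0 = 1 := by
      calc h 2 * h0 * (h 2)⁻¹ * h0 = h 2 * x0 * (ζ * (h 2)⁻¹) * x0 * ζ := by rw [hh0]; group
        _ = h 2 * x0 * ((h 2)⁻¹ * ζ) * x0 * ζ := by rw [cζ]
        _ = h 2 * x0 * (h 2)⁻¹ * (ζ * x0) * ζ := by group
        _ = h 2 * x0 * (h 2)⁻¹ * (x0 * ζ) * ζ := by rw [cζ]
        _ = γ * ζ ^ 2 := by rw [hγ, pow_two]; group
        _ = 1 := by rw [hζ2, mul_inv_cancel]
    exact eq_inv_of_mul_eq_one_left this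
  -- transport of the inversion property between far apart indices
  have step : ∀ i j, 2 ≤ i → 2 ≤ j → i < k → j < k → (i + 1 < j ∨ j + 1 < i) →
      h i * h0 * (h i)⁻¹ = h0⁻¹ → h j * h0 * (h j)⁻¹ = h0⁻¹ := by
    intro i j hi2 hj2 hi hj hij hinv
    have hcomm : Commute (h i) (h j) := by
      rcases hij with hij | hij
      · exact (F1 i j (by omega) hij hj).symm
      · exact F1 j i (by omega) hij hi
    have hw2 : (h i * h j) ^ 2 = 1 := by
      rw [hcomm.mul_pow, hsq i (by omega) hi, hsq j (by omega) hj, one_mul]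
    have hσw : σ (h i * h j) * σ h0 = σ h0 * σ (h i * h j) := by
      rw [map_mul, hσh i (by omega) hi, hσh j (by omega) hj, hσ0]
      exact gen_pair_comm_zero hi2 hj2 hi hj
    have hw := conj_eq_of_invol σ hc hodd hw2 hσw
    exact conj_eq_inv_of_prod hw hinv
  have inv4 : ∀ j, 4 ≤ j → j < k → h j * h0 * (h j)⁻¹ = h0⁻¹ := fun j h4 hj =>
    step 2 j (le_refl 2) (by omega) (by omega) hj (Or.inl (by omega)) inv2
  have inv3 : h 3 * h0 * (h 3)⁻¹ = h0⁻¹ :=
    step 5 3 (by omega) (by omega) (by omega) (by omega) (Or.inr (by omega))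
      (inv4 5 (by omega) (by omega))
  have inv : ∀ j, 2 ≤ j → j < k → h j * h0 * (h j)⁻¹ = h0⁻¹ := by
    intro j h2 hj
    rcases Nat.lt_or_ge j 4 with h4 | h4
    · interval_cases j
      · exact inv2
      · exact inv3
    · exact inv4 j h4 hj
  -- the cube of the lift of the generator of order 3
  have F6 : h0 ^ 3 = 1 := by
    have hz : h0 ^ 3 ∈ σ.ker := by
      rw [MonoidHom.mem_ker, map_pow, hσ0, gen_zero_pow (by omega)]
    have hcz := Subgroup.mem_center_iff.mp (hc hz) (h 2)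
    exact eq_one_of_sq_of_odd σ hodd hz (pow_sq_eq_one_of_conj_inv 3 inv2 hcz)
  have F7 : ∀ j, 2 ≤ j → j < k → (h0 * h j) ^ 2 = 1 := fun j h2 hj =>
    mul_sq_eq_one_of_conj_inv (hsq j (by omega) hj) (inv j h2 hj)
  have F8 : (h0 * h 1) ^ 3 = 1 := by
    have hz : (h0 * h 1) ^ 3 ∈ σ.ker := by
      rw [MonoidHom.mem_ker, map_pow, map_mul, hσ0, hσh 1 (le_refl 1) (by omega),
        gen_braid (by omega : 0 + 1 < k)]
    have hcz := Subgroup.mem_center_iff.mp (hc hz) (h 1 * h 3)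
    have hconj := conj_prod_eq_inv (a := h0) (hsq 1 (le_refl 1) (by omega))
      (F1 1 3 (le_refl 1) (by omega) (by omega)) inv3
    exact eq_one_of_sq_of_odd σ hodd hz (pow_sq_eq_one_of_conj_inv 3 hconj hcz)
  -- the homomorphism
  set H : ℕ → Γ := fun i => if i = 0 then h0 else h i with hH
  have H0 : H 0 = h0 := by simp [hH]
  have Hpos : ∀ i, 1 ≤ i → H i = h i := by
    intro i hi
    have : i ≠ 0 := by omega
    simp [hH, this]
  obtain ⟨τ, hτ⟩ := exists_hom (k := k) H (by rw [H0]; exact F6)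
    (by intro i h1 hi; rw [Hpos i h1]; exact hsq i h1 hi)
    (by
      intro i hi
      rcases Nat.eq_zero_or_pos i with rfl | hpos
      · rw [H0, Hpos 1 (le_refl 1)]; exact F8
      · rw [Hpos i hpos, Hpos (i + 1) (by omega)]; exact F2 i hpos hi)
    (by
      intro i j hij hj
      rcases Nat.eq_zero_or_pos i with rfl | hpos
      · rw [H0, Hpos j (by omega)]; exact F7 j (by omega) hj
      · rw [Hpos i hpos, Hpos j (by omega)]
        have hcomm : Commute (h i) (h j) := (F1 i j hpos hij hj).symm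
        rw [hcomm.mul_pow, hsq i hpos (by omega), hsq j (by omega) hj, one_mul])
  have hστ : ∀ q, σ (τ q) = q := by
    have : σ.comp τ = MonoidHom.id (P k) := by
      apply hom_ext
      intro i hi
      rw [MonoidHom.comp_apply, hτ i hi, MonoidHom.id_apply]
      rcases Nat.eq_zero_or_pos i with rfl | hpos
      · rw [H0]; exact hσ0
      · rw [Hpos i hpos]; exact hσh i hpos hi
    intro q
    exact DFunLike.congr_fun this q
  have := ker_le_of_section σ (MonoidHom.id Γ) Function.surjective_id σ (fun x => rfl) hc hd τ hστ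
  rw [eq_bot_iff]
  intro z hz
  have hz' := this hz
  rw [MonoidHom.mem_ker, MonoidHom.id_apply] at hz'
  rw [Subgroup.mem_bot]
  exact hz'

end Cfsg.Agent.Helper21.AltMult
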