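import Cfsg.Agent.Helper21.AltMultB

/-!
# Stem extensions of the alternating groups, part C: kernels of order prime to 3

General lemmas: unique lifts of elements of order 3, and identities in groups.
-/

set_option autoImplicit false

namespace Cfsg.Agent.Helper21.AltMult

section idents

variable {G : Type*} [Group G]

/-- `(a⁻¹ r)² = a⁻²` when `a` inverts `r`. -/
theorem inv_mul_sq_of_conj_inv {a r : G} (h : a * r * a⁻¹ = r⁻¹) :
    (a⁻¹ * r) ^ 2 = (a ^ 2)⁻¹ := by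
  calc (a⁻¹ * r) ^ 2 = a⁻¹ * a⁻¹ * (a * r * a⁻¹) * r := by rw [pow_two]; group
    _ = a⁻¹ * a⁻¹ * r⁻¹ * r := by rw [h]
    _ = (a ^ 2)⁻¹ := by rw [pow_two]; group

/-- `(a b)² = b²` when `b` inverts `a`. -/
theorem mul_sq_eq_sq_of_conj_inv {a b : G} (h : b * a * b⁻¹ = a⁻¹) : (a * b) ^ 2 = b ^ 2 := by
  calc (a * b) ^ 2 = a * (b * a * b⁻¹) * b * b := by rw [pow_two]; group
    _ = b ^ 2 := by rw [h, pow_two]; group

theorem mul_self_mul_of_cube {x : G} (hx : x ^ 3 = 1) : x * x * x = 1 := by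
  rw [← hx, pow_succ, pow_two]

theorem inv_mul_inv_of_cube {x : G} (hx : x ^ 3 = 1) : x⁻¹ * x⁻¹ = x := by
  calc x⁻¹ * x⁻¹ = x⁻¹ * x⁻¹ * (x * x * x) := by rw [mul_self_mul_of_cube hx, mul_one]
    _ = x := by group

theorem inv_eq_sq_of_cube {x : G} (hx : x ^ 3 = 1) : x⁻¹ = x * x := by
  calc x⁻¹ = x⁻¹ * (x * x * x) := by rw [mul_self_mul_of_cube hx, mul_one]
    _ = x * x := by group

/-- In a group with `x³ = 1` and `(x y)³ = 1`, the three conjugates of `y` under `x` multiply to 1. -/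
theorem three_conj_mul {x y : G} (hx : x ^ 3 = 1) (hxy : (x * y) ^ 3 = 1) :
    (x * y * x⁻¹) * (x * (x * y * x⁻¹) * x⁻¹) * y = 1 := by
  have e : (x * y) ^ 3 = x * y * (x * y) * (x * y) := by rw [pow_succ, pow_two]
  calc (x * y * x⁻¹) * (x * (x * y * x⁻¹) * x⁻¹) * y
      = x * y * x * y * (x⁻¹ * x⁻¹) * y := by group
    _ = x * y * x * y * x * y := by rw [inv_mul_inv_of_cube hx]
    _ = (x * y) ^ 3 := by rw [e]; group
    _ = 1 := hxy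

/-- The commutator `d = a b a⁻¹ b⁻¹` has square 1 when it commutes with `b` and `b²` commutes
with `a`. -/
theorem comm_sq_eq_one {a b d : G} (hd' : d = a * b * a⁻¹ * b⁻¹) (hd : d * b = b * d)
    (hb : b ^ 2 * a = a * b ^ 2) : d ^ 2 = 1 := by
  have e1 : a * b * a⁻¹ = d * b := by rw [hd']; group
  have e2 : (d * b) ^ 2 = b ^ 2 := by
    rw [← e1, conj_pow, ← hb, mul_inv_cancel_right]
  have e3 : (d * b) ^ 2 = d ^ 2 * b ^ 2 := (show Commute d b from hd).mul_pow 2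
  rw [e3] at e2
  exact mul_eq_right.mp e2

/-- Commutator with `b⁻¹ r` when `a` commutes with `r`. -/
theorem comm_step_right {a b r d : G} (hd' : d = a * b * a⁻¹ * b⁻¹) (hr : a * r * a⁻¹ = r)
    (hd : ∀ g : G, d * g = g * d) :
    a * (b⁻¹ * r) * a⁻¹ * (b⁻¹ * r)⁻¹ = d⁻¹ := by
  have hdi : ∀ g : G, d⁻¹ * g = g * d⁻¹ := fun g =>
    ((show Commute d g from hd g).inv_left).eq
  calc a * (b⁻¹ * r) * a⁻¹ * (b⁻¹ * r)⁻¹
      = a * b⁻¹ * a⁻¹ * (a * r * a⁻¹) * r⁻¹ * b := by group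
    _ = a * b⁻¹ * a⁻¹ * r * r⁻¹ * b := by rw [hr]
    _ = b⁻¹ * (d⁻¹ * b) := by rw [hd']; group
    _ = b⁻¹ * (b * d⁻¹) := by rw [hdi b]
    _ = d⁻¹ := by group

/-- Commutator with `a⁻¹ r` when `b` commutes with `r`. -/
theorem comm_step_left {a b r d : G} (hd' : d = a * b * a⁻¹ * b⁻¹) (hr : b * r * b⁻¹ = r)
    (hd : ∀ g : G, d * g = g * d) :
    (a⁻¹ * r) * b * (a⁻¹ * r)⁻¹ * b⁻¹ = d⁻¹ := by
  have hdi : ∀ g : G, d⁻¹ * g = g * d⁻¹ := fun g =>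
    ((show Commute d g from hd g).inv_left).eq
  have hr' : r * b * r⁻¹ = b := by
    calc r * b * r⁻¹ = (b * r * b⁻¹) * b * r⁻¹ := by rw [hr]
      _ = b := by group
  calc (a⁻¹ * r) * b * (a⁻¹ * r)⁻¹ * b⁻¹ = a⁻¹ * (r * b * r⁻¹) * a * b⁻¹ := by group
    _ = a⁻¹ * b * a * b⁻¹ := by rw [hr']
    _ = a⁻¹ * (d⁻¹ * a) := by rw [hd']; group
    _ = a⁻¹ * (a * d⁻¹) := by rw [hdi a]
    _ = d⁻¹ := by group

/-- `(a b)² = d a² b²` for `d = a b a⁻¹ b⁻¹` when `a²` is central. -/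
theorem mul_sq_eq_comm_mul {a b d : G} (hd' : d = a * b * a⁻¹ * b⁻¹)
    (ha : ∀ g : G, a ^ 2 * g = g * a ^ 2) : (a * b) ^ 2 = d * a ^ 2 * b ^ 2 := by
  calc (a * b) ^ 2 = (a * b * a⁻¹ * b⁻¹) * (b * a ^ 2) * b := by rw [pow_two, pow_two]; group
    _ = d * (a ^ 2 * b) * b := by rw [← hd', ← ha b]
    _ = d * a ^ 2 * b ^ 2 := by rw [pow_two b]; group

/-- The "A₄ relation": conjugating a far involution `t` by `x y x⁻¹`. -/
theorem a4_conj {x y t : G} (hx : x ^ 3 = 1) (hy : y ^ 2 = 1) (hxy : (x * y) ^ 3 = 1)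
    (htx : t * x * t⁻¹ = x⁻¹) (hty : t * y = y * t) :
    (x * y * x⁻¹) * t * (x * y * x⁻¹)⁻¹ = y * t := by
  have e1 : (x * y * x⁻¹) * (x * (x * y * x⁻¹) * x⁻¹) * y = 1 := three_conj_mul hx hxy
  have hv' : x * (x * y * x⁻¹) * x⁻¹ = x⁻¹ * y * x := by
    calc x * (x * y * x⁻¹) * x⁻¹ = (x * x) * y * (x⁻¹ * x⁻¹) := by group
      _ = x⁻¹ * y * x := by rw [← inv_eq_sq_of_cube hx, inv_mul_inv_of_cube hx]
  rw [hv'] at e1
  have hty' : t * y * t⁻¹ = y := by rw [hty, mul_inv_cancel_right]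
  have htxi : t * x⁻¹ * t⁻¹ = x := by
    have : t * x⁻¹ * t⁻¹ = (t * x * t⁻¹)⁻¹ := by group
    rw [this, htx, inv_inv]
  have e2 : t * (x * y * x⁻¹) * t⁻¹ = x⁻¹ * y * x := by
    calc t * (x * y * x⁻¹) * t⁻¹ = (t * x * t⁻¹) * (t * y * t⁻¹) * (t * x⁻¹ * t⁻¹) := by group
      _ = x⁻¹ * y * x := by rw [htx, hty', htxi]
  have hv2 : (x⁻¹ * y * x) ^ 2 = 1 := by
    have : x⁻¹ * y * x = x⁻¹ * y * x⁻¹⁻¹ := by rw [inv_inv]
    rw [this, conj_pow, hy, mul_one, mul_inv_cancel]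
  have e3 : t * (x * y * x⁻¹)⁻¹ * t⁻¹ = x⁻¹ * y * x := by
    have : t * (x * y * x⁻¹)⁻¹ * t⁻¹ = (t * (x * y * x⁻¹) * t⁻¹)⁻¹ := by group
    rw [this, e2, inv_eq_self_of_sq hv2]
  have e4 : (x * y * x⁻¹) * (x⁻¹ * y * x) = y := by
    have : (x * y * x⁻¹) * (x⁻¹ * y * x) = ((x * y * x⁻¹) * (x⁻¹ * y * x) * y) * y⁻¹ := by group
    rw [this, e1, one_mul, inv_eq_self_of_sq hy]
  calc (x * y * x⁻¹) * t * (x * y * x⁻¹)⁻¹
      = (x * y * x⁻¹) * (t * (x * y * x⁻¹)⁻¹ * t⁻¹) * t := by group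
    _ = (x * y * x⁻¹) * (x⁻¹ * y * x) * t := by rw [e3]
    _ = y * t := by rw [e4]

end idents

section lift3

variable {Γ Q : Type*} [Group Γ] [Group Q] (σ : Γ →* Q)

theorem eq_one_of_cube (hcop : (Nat.card σ.ker).Coprime 3) {z : Γ} (hz : z ∈ σ.ker)
    (h3 : z ^ 3 = 1) : z = 1 := by
  have hinj := (Nat.Coprime.pow_left_bijective hcop).1
  have : (⟨z, hz⟩ : σ.ker) = 1 := by
    apply hinj
    ext
    simpa using h3
  exact congrArg Subtype.val this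

theorem exists_cube_lift (hσ : Function.Surjective σ) (hc : σ.ker ≤ Subgroup.center Γ)
    (hcop : (Nat.card σ.ker).Coprime 3) {x : Q} (hx : x ^ 3 = 1) :
    ∃ y : Γ, σ y = x ∧ y ^ 3 = 1 := by
  obtain ⟨y₀, rfl⟩ := hσ x
  have hmem : y₀ ^ 3 ∈ σ.ker := by rw [MonoidHom.mem_ker, map_pow, hx]
  obtain ⟨⟨ξ, hξk⟩, hξ⟩ :=
    (Nat.Coprime.pow_left_bijective hcop).2 (⟨(y₀ ^ 3)⁻¹, inv_mem hmem⟩ : σ.ker)
  have hξ3 : ξ ^ 3 = (y₀ ^ 3)⁻¹ := by simpa using congrArg Subtype.val hξ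
  have hcomm : Commute y₀ ξ := Subgroup.mem_center_iff.mp (hc hξk) y₀
  refine ⟨y₀ * ξ, ?_, ?_⟩
  · rw [map_mul, MonoidHom.mem_ker.mp hξk, mul_one]
  · rw [hcomm.mul_pow, hξ3, mul_inv_cancel]

theorem cube_lift_unique (hc : σ.ker ≤ Subgroup.center Γ) (hcop : (Nat.card σ.ker).Coprime 3)
    {y y' : Γ} (h : σ y = σ y') (hy : y ^ 3 = 1) (hy' : y' ^ 3 = 1) : y' = y := by
  have hz : y⁻¹ * y' ∈ σ.ker := by
    rw [MonoidHom.mem_ker, map_mul, map_inv, h, inv_mul_cancel]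
  have hcz : Commute (y⁻¹ * y') y := (Subgroup.mem_center_iff.mp (hc hz) y).symm
  have h3 : (y⁻¹ * y') ^ 3 = 1 := by
    have e : y' = y * (y⁻¹ * y') := by group
    have : y' ^ 3 = y ^ 3 * (y⁻¹ * y') ^ 3 := by
      nth_rewrite 1 [e]
      exact (hcz.symm.mul_pow 3)
    rw [hy', hy, one_mul] at this
    exact this.symm
  have := eq_one_of_cube σ hcop hz h3
  rw [inv_mul_eq_one] at this
  exact this.symm

end lift3

end Cfsg.Agent.Helper21.AltMult
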