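import Cfsg.Agent.Helper21.AltMultC

/-!
# Stem extensions of the alternating groups, part D: kernels of order prime to 3

A stem extension of `P k` (`k ≥ 2`) whose kernel has order prime to 3 has kernel of order at most 2.
-/

set_option autoImplicit false
set_option maxHeartbeats 1600000

namespace Cfsg.Agent.Helper21.AltMult

theorem conj_mul_of_comm {G : Type*} [Group G] {a b c : G} (hca : c * a = a * c)
    (hcb : c * b = b * c) : c * (a * b) * c⁻¹ = a * b := by
  calc c * (a * b) * c⁻¹ = (c * a) * b * c⁻¹ := by group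
    _ = a * (c * b) * c⁻¹ := by rw [hca]; group
    _ = a * b := by rw [hcb]; group

/-- The `A₄` computation: if `x³ = (x y)³ = 1` and `a = y²` is central then `a⁶ = 1`. -/
theorem a4_sq_pow {G : Type*} [Group G] {x y a : G} (hx : x ^ 3 = 1) (hxy : (x * y) ^ 3 = 1)
    (ha : a = y ^ 2) (ca : ∀ g : G, a * g = g * a) : (a ^ 2) ^ 3 = 1 := by
  have e1 := three_conj_mul hx hxy
  obtain ⟨u, hu⟩ : ∃ u, u = x * y * x⁻¹ := ⟨_, rfl⟩
  obtain ⟨v, hv⟩ : ∃ v, v = x * u * x⁻¹ := ⟨_, rfl⟩
  rw [← hu, ← hv] at e1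
  have cai : ∀ g : G, a⁻¹ * g = g * a⁻¹ := fun g => ((show Commute a g from ca g).inv_left).eq
  have hu2 : u ^ 2 = a := by
    rw [hu, conj_pow, ← ha, ← ca x, mul_inv_cancel_right]
  have hv2 : v ^ 2 = a := by
    rw [hv, conj_pow, hu2, ← ca x, mul_inv_cancel_right]
  have hv3 : v = (y * u)⁻¹ := by
    calc v = u⁻¹ * (u * v * y) * y⁻¹ := by group
      _ = (y * u)⁻¹ := by rw [e1]; group
  have e5 : (y * u) ^ 2 = a⁻¹ := by
    rw [hv3, inv_pow] at hv2
    exact inv_eq_iff_eq_inv.mp hv2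
  have hyi : y⁻¹ = y * a⁻¹ := by rw [ha]; group
  have hui : u⁻¹ = u * a⁻¹ := by rw [← hu2]; group
  have e6 : (a ^ 3)⁻¹ = y * u * y⁻¹ * u⁻¹ := by
    symm
    calc y * u * y⁻¹ * u⁻¹ = y * u * (y * a⁻¹) * (u * a⁻¹) := by rw [← hyi, ← hui]
      _ = y * u * y * (a⁻¹ * u) * a⁻¹ := by group
      _ = y * u * y * (u * a⁻¹) * a⁻¹ := by rw [cai u]
      _ = (y * u) ^ 2 * a⁻¹ * a⁻¹ := by rw [pow_two]; group
      _ = a⁻¹ * a⁻¹ * a⁻¹ := by rw [e5]
      _ = (a ^ 3)⁻¹ := by group
  have cκ : ∀ g : G, (a ^ 3)⁻¹ * g = g * (a ^ 3)⁻¹ := fun g =>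
    (((show Commute a g from ca g).pow_left 3).inv_left).eq
  have e7 : ((a ^ 3)⁻¹) ^ 2 = 1 :=
    comm_sq_eq_one e6 (cκ u) (by rw [hu2]; exact ca y)
  rw [inv_pow, inv_eq_one, ← pow_mul] at e7
  rw [← pow_mul]
  exact e7

/-- **Kernels of order prime to 3.** -/
theorem card_ker_le_two {k : ℕ} (hk : 2 ≤ k) {Γ : Type*} [Group Γ] [Finite Γ] (σ : Γ →* P k)
    (hσ : Function.Surjective σ) (hc : σ.ker ≤ Subgroup.center Γ) (hd : σ.ker ≤ commutator Γ)
    (hcop : (Nat.card σ.ker).Coprime 3) : Nat.card σ.ker ≤ 2 := by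
  classical
  have cen : ∀ z ∈ σ.ker, ∀ g : Γ, z * g = g * z := fun z hz g =>
    (Subgroup.mem_center_iff.mp (hc hz) g).symm
  -- canonical lifts of elements of order 3
  have hL : ∀ x : P k, ∃ y : Γ, x ^ 3 = 1 → (σ y = x ∧ y ^ 3 = 1) := by
    intro x
    by_cases hx : x ^ 3 = 1
    · obtain ⟨y, hy⟩ := exists_cube_lift σ hσ hc hcop hx
      exact ⟨y, fun _ => hy⟩
    · exact ⟨1, fun h => absurd h hx⟩
  choose L hL using hL
  -- the lifts of the generators
  obtain ⟨h, h_zero, h_succ⟩ : ∃ h : ℕ → Γ, h 0 = L (gen k 0) ∧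
      ∀ i, h (i + 1) = (h i)⁻¹ * L (gen k i * gen k (i + 1)) :=
    ⟨fun i => Nat.rec (L (gen k 0)) (fun i hi => hi⁻¹ * L (gen k i * gen k (i + 1))) i,
      rfl, fun i => rfl⟩
  have hρ : ∀ i, i + 1 < k → σ (L (gen k i * gen k (i + 1))) = gen k i * gen k (i + 1) ∧
      (L (gen k i * gen k (i + 1))) ^ 3 = 1 := fun i hi => hL _ (gen_braid hi)
  have hmul : ∀ i, h i * h (i + 1) = L (gen k i * gen k (i + 1)) := by
    intro i; rw [h_succ]; group
  have hσh : ∀ i, i < k → σ (h i) = gen k i := by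
    intro i
    induction i with
    | zero => intro _; rw [h_zero]; exact (hL _ (gen_zero_pow (by omega))).1
    | succ i ih =>
      intro hi
      rw [h_succ, map_mul, map_inv, ih (by omega), (hρ i hi).1]
      group
  have A0 : h 0 ^ 3 = 1 := by rw [h_zero]; exact (hL _ (gen_zero_pow (by omega))).2
  have A1 : ∀ i, i + 1 < k → (h i * h (i + 1)) ^ 3 = 1 := fun i hi => by
    rw [hmul]; exact (hρ i hi).2
  have hsqk : ∀ i, 1 ≤ i → i < k → h i ^ 2 ∈ σ.ker := by
    intro i h1 hi
    rw [MonoidHom.mem_ker, map_pow, hσh i hi, gen_sq h1 hi]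
  have A3 : ∀ i, 1 ≤ i → i + 1 < k → h (i + 1) ^ 2 = (h i ^ 2)⁻¹ := by
    intro i h1 hi
    have hconj : h i * L (gen k i * gen k (i + 1)) * (h i)⁻¹ =
        (L (gen k i * gen k (i + 1)))⁻¹ := by
      refine cube_lift_unique σ hc hcop ?_ ?_ ?_
      · rw [map_inv, map_mul, map_mul, map_inv, (hρ i hi).1, hσh i (by omega)]
        exact (conj_mul_eq_inv_of_sq (gen_sq h1 (by omega)) (gen_sq (by omega) hi)).symm
      · rw [inv_pow, (hρ i hi).2, inv_one]
      · rw [conj_pow, (hρ i hi).2, mul_one, mul_inv_cancel]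
    rw [h_succ]
    exact inv_mul_sq_of_conj_inv hconj
  -- the square of the first involution lift
  obtain ⟨a, ha⟩ : ∃ a, a = h 1 ^ 2 := ⟨_, rfl⟩
  have hak : a ∈ σ.ker := by rw [ha]; exact hsqk 1 le_rfl (by omega)
  have ca := cen a hak
  have A4 : a ^ 2 = 1 := by
    have := a4_sq_pow A0 (A1 0 (by omega)) ha ca
    exact eq_one_of_cube σ hcop (Subgroup.pow_mem _ hak 2) this
  have hai : a⁻¹ = a := inv_eq_self_of_sq A4
  -- inversion of the lift of the generator of order 3
  have inv0 : ∀ j, 2 ≤ j → j < k → h j * h 0 * (h j)⁻¹ = (h 0)⁻¹ := by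
    intro j h2 hj
    refine cube_lift_unique σ hc hcop ?_ ?_ ?_
    · rw [map_inv, map_mul, map_mul, map_inv, hσh j hj, hσh 0 (by omega)]
      exact (gen_conj_zero h2 hj).symm
    · rw [inv_pow, A0, inv_one]
    · rw [conj_pow, A0, mul_one, mul_inv_cancel]
  have A5 : ∀ j, 2 ≤ j → j < k → (h 0 * h j) ^ 2 = h j ^ 2 := fun j h2 hj =>
    mul_sq_eq_sq_of_conj_inv (inv0 j h2 hj)
  -- the commutators of far apart involution lifts
  have hDk : ∀ i j, 1 ≤ i → i + 1 < j → j < k → h i * h j * (h i)⁻¹ * (h j)⁻¹ ∈ σ.ker := by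
    intro i j h1 hij hj
    rw [MonoidHom.mem_ker, map_mul, map_mul, map_mul, map_inv, map_inv, hσh i (by omega),
      hσh j hj, gen_comm h1 hij hj]
    group
  have stepR : ∀ i j, 1 ≤ i → i + 1 < j → j + 1 < k →
      h i * h (j + 1) * (h i)⁻¹ * (h (j + 1))⁻¹ = (h i * h j * (h i)⁻¹ * (h j)⁻¹)⁻¹ := by
    intro i j h1 hij hj
    have hr : h i * L (gen k j * gen k (j + 1)) * (h i)⁻¹ = L (gen k j * gen k (j + 1)) := by
      refine cube_lift_unique σ hc hcop ?_ (hρ j hj).2 ?_
      · rw [map_mul, map_mul, map_inv, (hρ j hj).1, hσh i (by omega)]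
        exact (conj_mul_of_comm (gen_comm h1 hij (by omega)) (gen_comm h1 (by omega) hj)).symm
      · rw [conj_pow, (hρ j hj).2, mul_one, mul_inv_cancel]
    rw [h_succ j]
    exact comm_step_right rfl hr (cen _ (hDk i j h1 hij (by omega)))
  have stepL : ∀ i j, 1 ≤ i → i + 2 < j → j < k →
      h (i + 1) * h j * (h (i + 1))⁻¹ * (h j)⁻¹ = (h i * h j * (h i)⁻¹ * (h j)⁻¹)⁻¹ := by
    intro i j h1 hij hj
    have hr : h j * L (gen k i * gen k (i + 1)) * (h j)⁻¹ = L (gen k i * gen k (i + 1)) := by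
      refine cube_lift_unique σ hc hcop ?_ (hρ i (by omega)).2 ?_
      · rw [map_mul, map_mul, map_inv, (hρ i (by omega)).1, hσh j hj]
        exact (conj_mul_of_comm (gen_comm h1 (by omega) hj).symm
          (gen_comm (by omega) (by omega) hj).symm).symm
      · rw [conj_pow, (hρ i (by omega)).2, mul_one, mul_inv_cancel]
    rw [h_succ i]
    exact comm_step_left rfl hr (cen _ (hDk i j h1 (by omega) hj))
  -- the subgroup generated by the obstruction constants
  obtain ⟨d0, hd0⟩ : ∃ d0, d0 = if 4 ≤ k then h 1 * h 3 * (h 1)⁻¹ * (h 3)⁻¹ else 1 := ⟨_, rfl⟩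
  have hd0k : d0 ∈ σ.ker := by
    rw [hd0]
    split_ifs with h4
    · exact hDk 1 3 le_rfl (by omega) (by omega)
    · exact one_mem _
  set N : Subgroup Γ := Subgroup.closure {a, d0} with hN
  have hN_le : N ≤ σ.ker := by
    rw [hN, Subgroup.closure_le]
    rintro z (rfl | rfl)
    · exact hak
    · exact hd0k
  have haN : a ∈ N := Subgroup.subset_closure (by simp)
  have hd0N : d0 ∈ N := Subgroup.subset_closure (by simp)
  have hNn : N.Normal := ⟨fun n hn g => by
    have := cen n (hN_le hn) g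
    have e : g * n * g⁻¹ = n := by rw [← this, mul_inv_cancel_right]
    rw [e]; exact hn⟩
  have hsqN : ∀ i, 1 ≤ i → i < k → h i ^ 2 ∈ N := by
    intro i h1
    induction i, h1 using Nat.le_induction with
    | base => intro _; rw [← ha]; exact haN
    | succ i h1 ih =>
      intro hi
      rw [A3 i h1 hi]
      exact inv_mem (ih (by omega))
  have hDN : ∀ i, 1 ≤ i → ∀ j, i + 2 ≤ j → j < k → h i * h j * (h i)⁻¹ * (h j)⁻¹ ∈ N := by
    intro i h1
    induction i, h1 using Nat.le_induction with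
    | base =>
      intro j hj
      induction j, hj using Nat.le_induction with
      | base =>
        intro h3
        have : d0 = h 1 * h 3 * (h 1)⁻¹ * (h 3)⁻¹ := by rw [hd0, if_pos (by omega)]
        rw [← this]; exact hd0N
      | succ j hj ih =>
        intro hj1
        rw [stepR 1 j le_rfl (by omega) hj1]
        exact inv_mem (ih (by omega))
    | succ i h1 ih =>
      intro j hj hjk
      rw [stepL i j h1 (by omega) hjk]
      exact inv_mem (ih j (by omega) hjk)
  -- the quotient by `N` and the section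
  have hπ1 : ∀ x, x ∈ N → (QuotientGroup.mk' N) x = 1 := fun x hx =>
    (QuotientGroup.eq_one_iff x).mpr hx
  obtain ⟨τ, hτ⟩ := exists_hom (k := k) (fun i => (QuotientGroup.mk' N) (h i))
    (by rw [← map_pow, A0, map_one])
    (by intro i h1 hi; rw [← map_pow]; exact hπ1 _ (hsqN i h1 hi))
    (by intro i hi; rw [← map_mul, ← map_pow, A1 i hi, map_one])
    (by
      intro i j hij hj
      rcases Nat.eq_zero_or_pos i with rfl | hpos
      · rw [← map_mul, ← map_pow, A5 j (by omega) hj]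
        exact hπ1 _ (hsqN j (by omega) hj)
      · have hcomm : Commute ((QuotientGroup.mk' N) (h i)) ((QuotientGroup.mk' N) (h j)) := by
          have e : h i * h j = (h i * h j * (h i)⁻¹ * (h j)⁻¹) * (h j * h i) := by group
          show (QuotientGroup.mk' N) (h i) * (QuotientGroup.mk' N) (h j) =
            (QuotientGroup.mk' N) (h j) * (QuotientGroup.mk' N) (h i)
          rw [← map_mul, ← map_mul, e, map_mul, hπ1 _ (hDN i hpos j (by omega) hj), one_mul]
        rw [hcomm.mul_pow, ← map_pow, ← map_pow, hπ1 _ (hsqN i hpos (by omega)),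
          hπ1 _ (hsqN j (by omega) hj), one_mul])
  have hστ : ∀ q, (QuotientGroup.lift N σ hN_le) (τ q) = q := by
    have : (QuotientGroup.lift N σ hN_le).comp τ = MonoidHom.id (P k) := by
      apply hom_ext
      intro i hi
      rw [MonoidHom.comp_apply, hτ i hi, MonoidHom.id_apply]
      exact hσh i hi
    intro q
    exact DFunLike.congr_fun this q
  have hker : σ.ker ≤ N := by
    have := ker_le_of_section σ (QuotientGroup.mk' N) (QuotientGroup.mk'_surjective N)
      (QuotientGroup.lift N σ hN_le) (fun x => rfl) hc hd τ hστ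
    rwa [QuotientGroup.ker_mk'] at this
  -- every element of the kernel has square 1
  have hd0sq : d0 ^ 2 = 1 := by
    by_cases h4 : 4 ≤ k
    · have e : d0 = h 1 * h 3 * (h 1)⁻¹ * (h 3)⁻¹ := by rw [hd0, if_pos h4]
      exact comm_sq_eq_one e (cen d0 hd0k _)
        (cen _ (hsqk 3 (by omega) (by omega)) _)
    · rw [hd0, if_neg h4, one_pow]
  have hsqker : ∀ z ∈ σ.ker, z ^ 2 = 1 := by
    intro z hz
    have hzN := hker hz
    rw [hN] at hzN
    induction hzN using Subgroup.closure_induction with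
    | mem x hx =>
      rcases hx with rfl | rfl
      · exact A4
      · exact hd0sq
    | one => exact one_pow 2
    | mul x y hx hy ihx ihy =>
      have hxk : x ∈ σ.ker := hN_le (by rw [hN]; exact hx)
      have : Commute x y := cen x hxk y
      rw [this.mul_pow, ihx hxk, ihy (hN_le (by rw [hN]; exact hy)), one_mul]
    | inv x hx ih =>
      rw [inv_pow, ih (hN_le (by rw [hN]; exact hx)), inv_one]
  -- the second constant equals the first
  have hd0a : d0 = a ∨ d0 = 1 := by
    by_cases h4 : 4 ≤ k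
    · left
      have e : d0 = h 1 * h 3 * (h 1)⁻¹ * (h 3)⁻¹ := by rw [hd0, if_pos h4]
      obtain ⟨u, hu⟩ : ∃ u, u = h 0 * h 1 * (h 0)⁻¹ := ⟨_, rfl⟩
      obtain ⟨ζ, hζ⟩ : ∃ ζ, ζ = (h 1 * h 3)⁻¹ * (u * h 3 * u⁻¹) := ⟨_, rfl⟩
      have hζk : ζ ∈ σ.ker := by
        rw [MonoidHom.mem_ker, hζ, hu]
        simp only [map_mul, map_inv]
        rw [hσh 0 (by omega), hσh 1 (by omega), hσh 3 (by omega)]
        have := a4_conj (gen_zero_pow (k := k) (by omega)) (gen_sq (k := k) le_rfl (by omega))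
          (gen_braid (k := k) (i := 0) (by omega)) (gen_conj_zero (k := k) (j := 3) (by omega)
          (by omega)) (gen_comm (k := k) (i := 1) (j := 3) le_rfl (by omega) (by omega)).symm
        rw [this, inv_mul_cancel]
      have hζ2 := hsqker ζ hζk
      have e1 : u * h 3 * u⁻¹ = (h 1 * h 3) * ζ := by rw [hζ]; group
      have ca3 := cen _ (hsqk 3 (by omega) (by omega))
      have e2 : (u * h 3 * u⁻¹) ^ 2 = h 3 ^ 2 := by
        rw [conj_pow, ← ca3 u, mul_inv_cancel_right]
      have e3 : ((h 1 * h 3) * ζ) ^ 2 = d0 * a * h 3 ^ 2 := by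
        have hcomm : Commute (h 1 * h 3) ζ := (cen ζ hζk _).symm
        rw [hcomm.mul_pow, hζ2, mul_one, ha]
        exact mul_sq_eq_comm_mul e (by rw [← ha]; exact ca)
      rw [e1, e3] at e2
      have e4 : d0 * a = 1 := mul_eq_right.mp e2
      rw [← hai]
      exact eq_inv_of_mul_eq_one_left e4
    · right
      rw [hd0, if_neg h4]
  -- conclusion
  have hNle : N ≤ Subgroup.zpowers a := by
    rw [hN, Subgroup.closure_le]
    rintro z (rfl | rfl)
    · exact Subgroup.mem_zpowers _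
    · rcases hd0a with h | h
      · rw [h]; exact Subgroup.mem_zpowers _
      · rw [h]; exact one_mem _
  calc Nat.card σ.ker ≤ Nat.card (Subgroup.zpowers a) :=
        Subgroup.card_le_of_le (hker.trans hNle)
    _ = orderOf a := Nat.card_zpowers a
    _ ≤ 2 := orderOf_le_of_pow_eq_one (by norm_num) A4

end Cfsg.Agent.Helper21.AltMult
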