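import Cfsg.Agent.Helper21.AltMultD
import Cfsg.Agent.Helper11.MultCrit
import Cfsg.Agent.S3335

/-!
# Stem extensions of the alternating groups, part E: the kernel has order at most 2

For `n ≥ 4`, `n ≠ 6, 7`, the kernel of a stem extension of the alternating group of degree `n` has
order at most 2.
-/

set_option autoImplicit false
set_option maxHeartbeats 800000
set_option linter.style.haveILetI false

namespace Cfsg.Agent.Helper21.AltMult

open scoped commutatorElement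

/-- For `k ≥ 6` the kernel of a stem extension of `P k` has order prime to 3. -/
theorem coprime_three_of_large {k : ℕ} (hk : 6 ≤ k) {Γ : Type*} [Group Γ] [Finite Γ]
    (σ : Γ →* P k) (hσ : Function.Surjective σ) (hc : σ.ker ≤ Subgroup.center Γ)
    (hd : σ.ker ≤ commutator Γ) : (Nat.card σ.ker).Coprime 3 := by
  classical
  have hKpos : Nat.card σ.ker ≠ 0 := Nat.card_pos.ne'
  obtain ⟨m, hm⟩ : ∃ m, m = ordCompl[3] (Nat.card σ.ker) := ⟨_, rfl⟩
  obtain ⟨v, hv⟩ : ∃ v, v = (Nat.card σ.ker).factorization 3 := ⟨_, rfl⟩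
  have hqm : 3 ^ v * m = Nat.card σ.ker := by
    rw [hv, hm]; exact Nat.ordProj_mul_ordCompl_eq_self _ _
  have hcop : Nat.Coprime 3 m := by
    rw [hm]; exact Nat.coprime_ordCompl Nat.prime_three hKpos
  have cen : ∀ z ∈ σ.ker, ∀ g : Γ, z * g = g * z := fun z hz g =>
    (Subgroup.mem_center_iff.mp (hc hz) g).symm
  let N : Subgroup Γ :=
    { carrier := {z | z ∈ σ.ker ∧ z ^ m = 1}
      one_mem' := ⟨one_mem _, one_pow _⟩
      mul_mem' := by
        rintro x y ⟨hx, hx'⟩ ⟨hy, hy'⟩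
        refine ⟨mul_mem hx hy, ?_⟩
        rw [(show Commute x y from cen x hx y).mul_pow, hx', hy', one_mul]
      inv_mem' := by
        rintro x ⟨hx, hx'⟩
        exact ⟨inv_mem hx, by rw [inv_pow, hx', inv_one]⟩ }
  have hN_mem : ∀ z, z ∈ N ↔ z ∈ σ.ker ∧ z ^ m = 1 := fun z => Iff.rfl
  have hN_le : N ≤ σ.ker := fun z hz => hz.1
  have hNn : N.Normal := ⟨fun n hn g => by
    have := cen n (hN_le hn) g
    have e : g * n * g⁻¹ = n := by rw [← this, mul_inv_cancel_right]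
    rw [e]; exact hn⟩
  obtain ⟨σ₁, hσ₁def⟩ : ∃ σ₁ : Γ ⧸ N →* P k, σ₁ = QuotientGroup.lift N σ hN_le := ⟨_, rfl⟩
  have hσ₁mk : ∀ x : Γ, σ₁ (QuotientGroup.mk x) = σ x := fun x => by rw [hσ₁def]; rfl
  have hσ₁ : Function.Surjective σ₁ := fun p => by
    obtain ⟨x, rfl⟩ := hσ p
    exact ⟨QuotientGroup.mk x, hσ₁mk x⟩
  have hker₁ : ∀ w : Γ ⧸ N, w ∈ σ₁.ker → ∃ x ∈ σ.ker, (QuotientGroup.mk x : Γ ⧸ N) = w := by
    intro w hw
    obtain ⟨x, rfl⟩ := QuotientGroup.mk_surjective w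
    refine ⟨x, ?_, rfl⟩
    rw [MonoidHom.mem_ker, hσ₁mk] at hw
    exact hw
  have hc₁ : σ₁.ker ≤ Subgroup.center (Γ ⧸ N) := by
    intro w hw
    obtain ⟨x, hx, rfl⟩ := hker₁ w hw
    rw [Subgroup.mem_center_iff]
    intro g
    obtain ⟨y, rfl⟩ := QuotientGroup.mk_surjective g
    rw [← QuotientGroup.mk_mul, ← QuotientGroup.mk_mul, cen x hx y]
  have hd₁ : σ₁.ker ≤ commutator (Γ ⧸ N) := by
    intro w hw
    obtain ⟨x, hx, rfl⟩ := hker₁ w hw
    have h1 : (QuotientGroup.mk' N) x ∈ (commutator Γ).map (QuotientGroup.mk' N) :=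
      Subgroup.mem_map_of_mem _ (hd hx)
    have hle : (commutator Γ).map (QuotientGroup.mk' N) ≤ commutator (Γ ⧸ N) := by
      rw [commutator_def, commutator_def, Subgroup.map_commutator]
      exact Subgroup.commutator_mono le_top le_top
    exact hle h1
  have hpow : ∀ x ∈ σ.ker, x ^ Nat.card σ.ker = 1 := by
    intro x hx
    have := pow_card_eq_one' (G := σ.ker) (x := ⟨x, hx⟩)
    have h2 := congrArg Subtype.val this
    simpa using h2
  haveI : Fact (Nat.Prime 3) := ⟨Nat.prime_three⟩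
  have hp : IsPGroup 3 σ₁.ker := by
    rintro ⟨w, hw⟩
    obtain ⟨x, hx, rfl⟩ := hker₁ w hw
    refine ⟨v, ?_⟩
    ext
    rw [SubmonoidClass.coe_pow, Subgroup.coe_one, Subgroup.coe_mk, ← QuotientGroup.mk_pow,
      QuotientGroup.eq_one_iff, hN_mem]
    refine ⟨Subgroup.pow_mem _ hx _, ?_⟩
    rw [← pow_mul, hqm, hpow x hx]
  have hodd : Odd (Nat.card σ₁.ker) := by
    obtain ⟨j, hj⟩ := hp.exists_card_eq
    rw [hj]
    exact Odd.pow (by decide)
  have hbot := ker_eq_bot_of_odd hk σ₁ hσ₁ hc₁ hd₁ hodd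
  have hall : ∀ x ∈ σ.ker, x ^ m = 1 := by
    intro x hx
    have : (QuotientGroup.mk x : Γ ⧸ N) ∈ σ₁.ker := by
      rw [MonoidHom.mem_ker, hσ₁mk]; exact hx
    rw [hbot, Subgroup.mem_bot, QuotientGroup.eq_one_iff, hN_mem] at this
    exact this.2
  rw [Nat.coprime_comm, Nat.Prime.coprime_iff_not_dvd Nat.prime_three]
  intro h3
  obtain ⟨⟨x, hx⟩, hox⟩ := exists_prime_orderOf_dvd_card' (G := σ.ker) 3 h3
  have h1 : (⟨x, hx⟩ : σ.ker) ^ m = 1 := by
    ext; simpa using hall x hx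
  have h2 := orderOf_dvd_of_pow_eq_one h1
  rw [hox] at h2
  exact (Nat.Prime.coprime_iff_not_dvd Nat.prime_three).mp hcop h2

/-- If 9 does not divide the order of `Q` then the kernel of a stem extension of `Q` has order
prime to 3. -/
theorem coprime_three_of_small {Γ Q : Type*} [Group Γ] [Group Q] [Finite Γ] [Finite Q]
    (σ : Γ →* Q) (hσ : Function.Surjective σ) (hc : σ.ker ≤ Subgroup.center Γ)
    (hd : σ.ker ≤ commutator Γ) (h9 : ¬ 3 ^ 2 ∣ Nat.card Q) : (Nat.card σ.ker).Coprime 3 := by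
  classical
  haveI : Fact (Nat.Prime 3) := ⟨Nat.prime_three⟩
  let R : Sylow 3 Q := Classical.arbitrary _
  have hcyc := Cfsg.Agent.Helper11.MultCrit.isCyclic_sylow_of_sq_not_dvd 3 h9 R
  obtain ⟨⟨s, hsR⟩, hs⟩ := hcyc.exists_generator
  obtain ⟨x₁, hx₁⟩ := hσ s
  have hS : (R : Subgroup Q) ≤ Subgroup.closure ({σ x₁, σ 1} : Set Q) := by
    intro y hy
    obtain ⟨j, hj⟩ := Subgroup.mem_zpowers_iff.mp (hs ⟨y, hy⟩)
    have : y = s ^ j := by
      have := congrArg Subtype.val hj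
      simpa using this.symm
    rw [this, hx₁]
    exact Subgroup.zpow_mem _ (Subgroup.subset_closure (by simp)) j
  rw [Nat.coprime_comm, Nat.Prime.coprime_iff_not_dvd Nat.prime_three]
  intro h3
  obtain ⟨⟨a, ha⟩, hoa⟩ := exists_prime_orderOf_dvd_card' (G := σ.ker) 3 h3
  have hoa' : orderOf a = 3 := by
    rw [← hoa]; exact (Subgroup.orderOf_mk a ha).symm
  have := Cfsg.Agent.Helper11.MultBound.abelian_pair_mem σ hσ hc hd 3 (R : Subgroup Q)
    R.not_dvd_index x₁ 1 hS (by rw [map_one, mul_one, one_mul]) a ha ⟨1, by rw [hoa', pow_one]⟩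
  rw [commutatorElement_one_right, Subgroup.zpowers_one_eq_bot, Subgroup.mem_bot] at this
  rw [this, orderOf_one] at hoa'
  omega

/-- **The kernel of a stem extension of an alternating group of degree `n ≥ 4`, `n ≠ 6, 7`, has
order at most 2.** -/
theorem card_le_two_of_alternating (n : ℕ) (hn : 4 ≤ n) (h6 : n ≠ 6) (h7 : n ≠ 7)
    {Γ : Type*} [Group Γ] [Finite Γ] (Z : Subgroup Γ) [Z.Normal]
    (hZc : Z ≤ Subgroup.center Γ) (hZd : Z ≤ commutator Γ)
    (e : Γ ⧸ Z ≃* alternatingGroup (Fin n)) : Nat.card Z ≤ 2 := by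
  classical
  obtain ⟨φ⟩ := Cfsg.Agent.S3335.result n (by omega)
  have φ' : P (n - 2) ≃* alternatingGroup (Fin n) := φ
  obtain ⟨σ, hσdef⟩ : ∃ σ : Γ →* P (n - 2), σ = φ'.symm.toMonoidHom.comp
      (e.toMonoidHom.comp (QuotientGroup.mk' Z)) := ⟨_, rfl⟩
  have hσ : Function.Surjective σ := by
    rw [hσdef]
    exact φ'.symm.surjective.comp (e.surjective.comp (QuotientGroup.mk'_surjective Z))
  have hker : σ.ker = Z := by
    ext x
    rw [MonoidHom.mem_ker, hσdef]
    simp only [MonoidHom.comp_apply, MulEquiv.coe_toMonoidHom, QuotientGroup.mk'_apply]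
    rw [MulEquiv.map_eq_one_iff, MulEquiv.map_eq_one_iff, QuotientGroup.eq_one_iff]
  have hc : σ.ker ≤ Subgroup.center Γ := hker ▸ hZc
  have hd : σ.ker ≤ commutator Γ := hker ▸ hZd
  have hcop : (Nat.card σ.ker).Coprime 3 := by
    rcases Nat.lt_or_ge n 8 with h8 | h8
    · -- n = 4 or n = 5
      have hfin : Finite (P (n - 2)) := Finite.of_equiv _ φ'.symm.toEquiv
      apply coprime_three_of_small σ hσ hc hd
      have hcard : Nat.card (P (n - 2)) = Nat.card (alternatingGroup (Fin n)) :=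
        Nat.card_congr φ'.toEquiv
      haveI : Nontrivial (Fin n) := Fin.nontrivial_iff_two_le.mpr (by omega)
      rw [hcard, nat_card_alternatingGroup, Nat.card_eq_fintype_card, Fintype.card_fin]
      have : n = 4 ∨ n = 5 := by omega
      rcases this with rfl | rfl <;> decide
    · exact coprime_three_of_large (by omega) σ hσ hc hd
  have := card_ker_le_two (by omega) σ hσ hc hd hcop
  rwa [hker] at this

end Cfsg.Agent.Helper21.AltMult
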