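import Mathlib
import Cfsg.Prelude.Def_ChevB2
import Cfsg.Prelude.Def_ChevStructure
import Cfsg.Agent.Helper28.B2Defs

set_option autoImplicit false
set_option linter.unusedSimpArgs false
set_option linter.unnecessarySeqFocus false
set_option linter.unusedTactic false
set_option linter.unreachableTactic false

/-!
# S1083 piece R2A: Steinberg commutator relations for the explicit `5 × 5` root matrices of `B₂`
(brute force, roots r = 0, 1).
-/

namespace Cfsg.Agent.Helper21.B2

open Matrix Cfsg.Lie Cfsg.Agent.Helper28.Sg Cfsg.Agent.Helper28.B2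

variable {F : Type*} [Field F]

set_option maxHeartbeats 2000000 in
theorem Y_comm_0_1 (t u : F) :
    Y 1 (-u) * Y 0 (-t) * Y 1 u * Y 0 t = wordY (chevB2.commWord F 0 1 t u) := by
  have h : chevB2.commTerms 0 1 = [] := by decide
  unfold ChevalleyDatum.commWord wordY
  rw [h]
  simp only [List.map, List.prod_cons, List.prod_nil, Y]
  ext i j
  fin_cases i <;> fin_cases j <;> simp [Matrix.mul_apply, Fin.sum_univ_five] <;> try ring

set_option maxHeartbeats 2000000 in
theorem Y_comm_0_2 (t u : F) :
    Y 2 (-u) * Y 0 (-t) * Y 2 u * Y 0 t = wordY (chevB2.commWord F 0 2 t u) := by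
  have h : chevB2.commTerms 0 2 = [] := by decide
  unfold ChevalleyDatum.commWord wordY
  rw [h]
  simp only [List.map, List.prod_cons, List.prod_nil, Y]
  ext i j
  fin_cases i <;> fin_cases j <;> simp [Matrix.mul_apply, Fin.sum_univ_five] <;> try ring

set_option maxHeartbeats 2000000 in
theorem Y_comm_0_3 (t u : F) :
    Y 3 (-u) * Y 0 (-t) * Y 3 u * Y 0 t = wordY (chevB2.commWord F 0 3 t u) := by
  have h : chevB2.commTerms 0 3 = [] := by decide
  unfold ChevalleyDatum.commWord wordY
  rw [h]
  simp only [List.map, List.prod_cons, List.prod_nil, Y]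
  ext i j
  fin_cases i <;> fin_cases j <;> simp [Matrix.mul_apply, Fin.sum_univ_five] <;> try ring

set_option maxHeartbeats 2000000 in
theorem Y_comm_0_4 (t u : F) :
    Y 4 (-u) * Y 0 (-t) * Y 4 u * Y 0 t = wordY (chevB2.commWord F 0 4 t u) := by
  have h : chevB2.commTerms 0 4 = [] := by decide
  unfold ChevalleyDatum.commWord wordY
  rw [h]
  simp only [List.map, List.prod_cons, List.prod_nil, Y]
  ext i j
  fin_cases i <;> fin_cases j <;> simp [Matrix.mul_apply, Fin.sum_univ_five] <;> try ring

set_option maxHeartbeats 2000000 in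
theorem Y_comm_0_5 (t u : F) :
    Y 5 (-u) * Y 0 (-t) * Y 5 u * Y 0 t = wordY (chevB2.commWord F 0 5 t u) := by
  have h : chevB2.commTerms 0 5 = [(1, 1, 1, 1), (3, -1, 1, 2)] := by decide
  unfold ChevalleyDatum.commWord wordY
  rw [h]
  simp only [List.map, List.prod_cons, List.prod_nil, Y]
  ext i j
  fin_cases i <;> fin_cases j <;> simp [Matrix.mul_apply, Fin.sum_univ_five] <;> try ring

set_option maxHeartbeats 2000000 in
theorem Y_comm_0_6 (t u : F) :
    Y 6 (-u) * Y 0 (-t) * Y 6 u * Y 0 t = wordY (chevB2.commWord F 0 6 t u) := by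
  have h : chevB2.commTerms 0 6 = [(2, -1, 1, 1), (4, 1, 1, 2)] := by decide
  unfold ChevalleyDatum.commWord wordY
  rw [h]
  simp only [List.map, List.prod_cons, List.prod_nil, Y]
  ext i j
  fin_cases i <;> fin_cases j <;> simp [Matrix.mul_apply, Fin.sum_univ_five] <;> try ring

set_option maxHeartbeats 2000000 in
theorem Y_comm_1_0 (t u : F) :
    Y 0 (-u) * Y 1 (-t) * Y 0 u * Y 1 t = wordY (chevB2.commWord F 1 0 t u) := by
  have h : chevB2.commTerms 1 0 = [] := by decide
  unfold ChevalleyDatum.commWord wordY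
  rw [h]
  simp only [List.map, List.prod_cons, List.prod_nil, Y]
  ext i j
  fin_cases i <;> fin_cases j <;> simp [Matrix.mul_apply, Fin.sum_univ_five] <;> try ring

set_option maxHeartbeats 2000000 in
theorem Y_comm_1_2 (t u : F) :
    Y 2 (-u) * Y 1 (-t) * Y 2 u * Y 1 t = wordY (chevB2.commWord F 1 2 t u) := by
  have h : chevB2.commTerms 1 2 = [(0, 2, 1, 1)] := by decide
  unfold ChevalleyDatum.commWord wordY
  rw [h]
  simp only [List.map, List.prod_cons, List.prod_nil, Y]
  ext i j
  fin_cases i <;> fin_cases j <;> simp [Matrix.mul_apply, Fin.sum_univ_five] <;> try ring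

set_option maxHeartbeats 2000000 in
theorem Y_comm_1_3 (t u : F) :
    Y 3 (-u) * Y 1 (-t) * Y 3 u * Y 1 t = wordY (chevB2.commWord F 1 3 t u) := by
  have h : chevB2.commTerms 1 3 = [] := by decide
  unfold ChevalleyDatum.commWord wordY
  rw [h]
  simp only [List.map, List.prod_cons, List.prod_nil, Y]
  ext i j
  fin_cases i <;> fin_cases j <;> simp [Matrix.mul_apply, Fin.sum_univ_five] <;> try ring

set_option maxHeartbeats 2000000 in
theorem Y_comm_1_4 (t u : F) :
    Y 4 (-u) * Y 1 (-t) * Y 4 u * Y 1 t = wordY (chevB2.commWord F 1 4 t u) := by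
  have h : chevB2.commTerms 1 4 = [(2, 1, 1, 1), (0, 1, 2, 1)] := by decide
  unfold ChevalleyDatum.commWord wordY
  rw [h]
  simp only [List.map, List.prod_cons, List.prod_nil, Y]
  ext i j
  fin_cases i <;> fin_cases j <;> simp [Matrix.mul_apply, Fin.sum_univ_five] <;> try ring

set_option maxHeartbeats 2000000 in
theorem Y_comm_1_5 (t u : F) :
    Y 5 (-u) * Y 1 (-t) * Y 5 u * Y 1 t = wordY (chevB2.commWord F 1 5 t u) := by
  have h : chevB2.commTerms 1 5 = [(3, -2, 1, 1)] := by decide
  unfold ChevalleyDatum.commWord wordY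
  rw [h]
  simp only [List.map, List.prod_cons, List.prod_nil, Y]
  ext i j
  fin_cases i <;> fin_cases j <;> simp [Matrix.mul_apply, Fin.sum_univ_five] <;> try ring

set_option maxHeartbeats 2000000 in
theorem Y_comm_1_7 (t u : F) :
    Y 7 (-u) * Y 1 (-t) * Y 7 u * Y 1 t = wordY (chevB2.commWord F 1 7 t u) := by
  have h : chevB2.commTerms 1 7 = [(5, -1, 1, 1), (3, 1, 2, 1)] := by decide
  unfold ChevalleyDatum.commWord wordY
  rw [h]
  simp only [List.map, List.prod_cons, List.prod_nil, Y]
  ext i j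
  fin_cases i <;> fin_cases j <;> simp [Matrix.mul_apply, Fin.sum_univ_five] <;> try ring

theorem Y_comm_A (r s : ℕ) (hr : r = 0 ∨ r = 1) (hs : s < 8) (h1 : s ≠ r)
    (h2 : s ≠ 7 - r) (t u : F) :
    Y s (-u) * Y r (-t) * Y s u * Y r t = wordY (chevB2.commWord F r s t u) := by
  rcases hr with rfl | rfl
  · interval_cases s
    · exact absurd rfl h1
    · exact Y_comm_0_1 t u
    · exact Y_comm_0_2 t u
    · exact Y_comm_0_3 t u
    · exact Y_comm_0_4 t u
    · exact Y_comm_0_5 t u
    · exact Y_comm_0_6 t u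
    · exact absurd rfl h2
  · interval_cases s
    · exact Y_comm_1_0 t u
    · exact absurd rfl h1
    · exact Y_comm_1_2 t u
    · exact Y_comm_1_3 t u
    · exact Y_comm_1_4 t u
    · exact Y_comm_1_5 t u
    · exact absurd rfl h2
    · exact Y_comm_1_7 t u

end Cfsg.Agent.Helper21.B2
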