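import Mathlib
import Cfsg.Prelude.Def_ChevB2
import Cfsg.Prelude.Def_ChevStructure
import Cfsg.Agent.Helper28.B2Defs

set_option autoImplicit false
set_option linter.unusedSimpArgs false
set_option linter.unnecessarySeqFocus false
set_option linter.unusedTactic false
set_option linter.unreachableTactic false

/-!
# S1083 piece R2B: Steinberg commutator relations for the explicit `5 × 5` root matrices of `B₂`
(brute force, roots r = 2, 3).
-/

namespace Cfsg.Agent.Helper21.B2

open Matrix Cfsg.Lie Cfsg.Agent.Helper28.Sg Cfsg.Agent.Helper28.B2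

variable {F : Type*} [Field F]

set_option maxHeartbeats 2000000 in
theorem Y_comm_2_0 (t u : F) :
    Y 0 (-u) * Y 2 (-t) * Y 0 u * Y 2 t = wordY (chevB2.commWord F 2 0 t u) := by
  have h : chevB2.commTerms 2 0 = [] := by decide
  unfold ChevalleyDatum.commWord wordY
  rw [h]
  simp only [List.map, List.prod_cons, List.prod_nil, Y]
  ext i j
  fin_cases i <;> fin_cases j <;> simp [Matrix.mul_apply, Fin.sum_univ_five] <;> try ring

set_option maxHeartbeats 2000000 in
theorem Y_comm_2_1 (t u : F) :
    Y 1 (-u) * Y 2 (-t) * Y 1 u * Y 2 t = wordY (chevB2.commWord F 2 1 t u) := by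
  have h : chevB2.commTerms 2 1 = [(0, -2, 1, 1)] := by decide
  unfold ChevalleyDatum.commWord wordY
  rw [h]
  simp only [List.map, List.prod_cons, List.prod_nil, Y]
  ext i j
  fin_cases i <;> fin_cases j <;> simp [Matrix.mul_apply, Fin.sum_univ_five] <;> try ring

set_option maxHeartbeats 2000000 in
theorem Y_comm_2_3 (t u : F) :
    Y 3 (-u) * Y 2 (-t) * Y 3 u * Y 2 t = wordY (chevB2.commWord F 2 3 t u) := by
  have h : chevB2.commTerms 2 3 = [(1, 1, 1, 1), (0, -1, 2, 1)] := by decide
  unfold ChevalleyDatum.commWord wordY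
  rw [h]
  simp only [List.map, List.prod_cons, List.prod_nil, Y]
  ext i j
  fin_cases i <;> fin_cases j <;> simp [Matrix.mul_apply, Fin.sum_univ_five] <;> try ring

set_option maxHeartbeats 2000000 in
theorem Y_comm_2_4 (t u : F) :
    Y 4 (-u) * Y 2 (-t) * Y 4 u * Y 2 t = wordY (chevB2.commWord F 2 4 t u) := by
  have h : chevB2.commTerms 2 4 = [] := by decide
  unfold ChevalleyDatum.commWord wordY
  rw [h]
  simp only [List.map, List.prod_cons, List.prod_nil, Y]
  ext i j
  fin_cases i <;> fin_cases j <;> simp [Matrix.mul_apply, Fin.sum_univ_five] <;> try ring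

set_option maxHeartbeats 2000000 in
theorem Y_comm_2_6 (t u : F) :
    Y 6 (-u) * Y 2 (-t) * Y 6 u * Y 2 t = wordY (chevB2.commWord F 2 6 t u) := by
  have h : chevB2.commTerms 2 6 = [(4, -2, 1, 1)] := by decide
  unfold ChevalleyDatum.commWord wordY
  rw [h]
  simp only [List.map, List.prod_cons, List.prod_nil, Y]
  ext i j
  fin_cases i <;> fin_cases j <;> simp [Matrix.mul_apply, Fin.sum_univ_five] <;> try ring

set_option maxHeartbeats 2000000 in
theorem Y_comm_2_7 (t u : F) :
    Y 7 (-u) * Y 2 (-t) * Y 7 u * Y 2 t = wordY (chevB2.commWord F 2 7 t u) := by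
  have h : chevB2.commTerms 2 7 = [(6, 1, 1, 1), (4, -1, 2, 1)] := by decide
  unfold ChevalleyDatum.commWord wordY
  rw [h]
  simp only [List.map, List.prod_cons, List.prod_nil, Y]
  ext i j
  fin_cases i <;> fin_cases j <;> simp [Matrix.mul_apply, Fin.sum_univ_five] <;> try ring

set_option maxHeartbeats 2000000 in
theorem Y_comm_3_0 (t u : F) :
    Y 0 (-u) * Y 3 (-t) * Y 0 u * Y 3 t = wordY (chevB2.commWord F 3 0 t u) := by
  have h : chevB2.commTerms 3 0 = [] := by decide
  unfold ChevalleyDatum.commWord wordY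
  rw [h]
  simp only [List.map, List.prod_cons, List.prod_nil, Y]
  ext i j
  fin_cases i <;> fin_cases j <;> simp [Matrix.mul_apply, Fin.sum_univ_five] <;> try ring

set_option maxHeartbeats 2000000 in
theorem Y_comm_3_1 (t u : F) :
    Y 1 (-u) * Y 3 (-t) * Y 1 u * Y 3 t = wordY (chevB2.commWord F 3 1 t u) := by
  have h : chevB2.commTerms 3 1 = [] := by decide
  unfold ChevalleyDatum.commWord wordY
  rw [h]
  simp only [List.map, List.prod_cons, List.prod_nil, Y]
  ext i j
  fin_cases i <;> fin_cases j <;> simp [Matrix.mul_apply, Fin.sum_univ_five] <;> try ring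

set_option maxHeartbeats 2000000 in
theorem Y_comm_3_2 (t u : F) :
    Y 2 (-u) * Y 3 (-t) * Y 2 u * Y 3 t = wordY (chevB2.commWord F 3 2 t u) := by
  have h : chevB2.commTerms 3 2 = [(1, -1, 1, 1), (0, -1, 1, 2)] := by decide
  unfold ChevalleyDatum.commWord wordY
  rw [h]
  simp only [List.map, List.prod_cons, List.prod_nil, Y]
  ext i j
  fin_cases i <;> fin_cases j <;> simp [Matrix.mul_apply, Fin.sum_univ_five] <;> try ring

set_option maxHeartbeats 2000000 in
theorem Y_comm_3_5 (t u : F) :
    Y 5 (-u) * Y 3 (-t) * Y 5 u * Y 3 t = wordY (chevB2.commWord F 3 5 t u) := by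
  have h : chevB2.commTerms 3 5 = [] := by decide
  unfold ChevalleyDatum.commWord wordY
  rw [h]
  simp only [List.map, List.prod_cons, List.prod_nil, Y]
  ext i j
  fin_cases i <;> fin_cases j <;> simp [Matrix.mul_apply, Fin.sum_univ_five] <;> try ring

set_option maxHeartbeats 2000000 in
theorem Y_comm_3_6 (t u : F) :
    Y 6 (-u) * Y 3 (-t) * Y 6 u * Y 3 t = wordY (chevB2.commWord F 3 6 t u) := by
  have h : chevB2.commTerms 3 6 = [(5, 1, 1, 1), (7, 1, 1, 2)] := by decide
  unfold ChevalleyDatum.commWord wordY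
  rw [h]
  simp only [List.map, List.prod_cons, List.prod_nil, Y]
  ext i j
  fin_cases i <;> fin_cases j <;> simp [Matrix.mul_apply, Fin.sum_univ_five] <;> try ring

set_option maxHeartbeats 2000000 in
theorem Y_comm_3_7 (t u : F) :
    Y 7 (-u) * Y 3 (-t) * Y 7 u * Y 3 t = wordY (chevB2.commWord F 3 7 t u) := by
  have h : chevB2.commTerms 3 7 = [] := by decide
  unfold ChevalleyDatum.commWord wordY
  rw [h]
  simp only [List.map, List.prod_cons, List.prod_nil, Y]
  ext i j
  fin_cases i <;> fin_cases j <;> simp [Matrix.mul_apply, Fin.sum_univ_five] <;> try ring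

theorem Y_comm_B (r s : ℕ) (hr : r = 2 ∨ r = 3) (hs : s < 8) (h1 : s ≠ r)
    (h2 : s ≠ 7 - r) (t u : F) :
    Y s (-u) * Y r (-t) * Y s u * Y r t = wordY (chevB2.commWord F r s t u) := by
  rcases hr with rfl | rfl
  · interval_cases s
    · exact Y_comm_2_0 t u
    · exact Y_comm_2_1 t u
    · exact absurd rfl h1
    · exact Y_comm_2_3 t u
    · exact Y_comm_2_4 t u
    · exact absurd rfl h2
    · exact Y_comm_2_6 t u
    · exact Y_comm_2_7 t u
  · interval_cases s
    · exact Y_comm_3_0 t u
    · exact Y_comm_3_1 t u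
    · exact Y_comm_3_2 t u
    · exact absurd rfl h1
    · exact absurd rfl h2
    · exact Y_comm_3_5 t u
    · exact Y_comm_3_6 t u
    · exact Y_comm_3_7 t u

end Cfsg.Agent.Helper21.B2
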