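import Mathlib
import Cfsg.Agent.Helper15.BrP2
import Cfsg.Agent.Helper5.ClassMul
import Cfsg.Agent.Helper5.CentralChar
import Cfsg.Agent.Helper8.PrincipalParity
import Cfsg.Agent.Helper11.OrderP

set_option autoImplicit false
set_option linter.unusedSectionVars false

/-!
Generic tools for Brauer-style involution counting: factorizations of an element as a product of
two conjugate involutions, central involutions of Sylow `2`-subgroups, generators of Sylow
subgroups of prime order.
-/

namespace Cfsg.Agent.Helper21.BrInv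

open Cfsg Subgroup

variable {G : Type*} [Group G]

/-- If `a` and `a⁻¹ x` are involutions (or trivial), then `a` inverts `x`. -/
theorem inverts_of_sq (a x : G) (ha : a * a = 1) (hb : (a⁻¹ * x) * (a⁻¹ * x) = 1) :
    a * x * a⁻¹ = x⁻¹ := by
  have hainv : a⁻¹ = a := inv_eq_of_mul_eq_one_left ha
  rw [hainv] at hb ⊢
  have h1 : a * x * a * x = 1 := by rw [← hb]; group
  calc a * x * a = a * x * a * x * x⁻¹ := by group
    _ = x⁻¹ := by rw [h1, one_mul]

/-- A conjugate of an involution squares to `1`. -/
theorem sq_of_isConj (t b : G) (ht : orderOf t = 2) (hb : IsConj t b) : b * b = 1 := by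
  obtain ⟨g, hg⟩ := isConj_iff.mp hb
  have ht2 : t * t = 1 := by
    have := pow_orderOf_eq_one t
    rwa [ht, sq] at this
  rw [← hg]
  calc g * t * g⁻¹ * (g * t * g⁻¹) = g * (t * t) * g⁻¹ := by group
    _ = 1 := by rw [ht2]; group

/-- The number of factorizations of `x` as a product of two conjugates of an involution `t` is
at most `|C(x)|`. -/
theorem card_factorizations_le [Finite G] (x t : G) (ht : orderOf t = 2) :
    Nat.card {a : G // IsConj t a ∧ IsConj t (a⁻¹ * x)} ≤
      Nat.card (centralizer ({x} : Set G)) := by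
  by_cases hne : Nonempty {a : G // IsConj t a ∧ IsConj t (a⁻¹ * x)}
  · obtain ⟨⟨a₀, h01, h02⟩⟩ := hne
    have hinv : ∀ a : G, IsConj t a → IsConj t (a⁻¹ * x) → a * x * a⁻¹ = x⁻¹ := by
      intro a h1 h2
      exact inverts_of_sq a x (sq_of_isConj t a ht h1) (sq_of_isConj t _ ht h2)
    have h0 := hinv a₀ h01 h02
    have hmem : ∀ a : {a : G // IsConj t a ∧ IsConj t (a⁻¹ * x)},
        a₀ * (a : G) ∈ centralizer ({x} : Set G) := by
      rintro ⟨a, h1, h2⟩
      have ha := hinv a h1 h2
      rw [mem_centralizer_iff]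
      intro h hh
      rw [Set.mem_singleton_iff] at hh
      subst hh
      have e1 : a * h = h⁻¹ * a := by
        calc a * h = a * h * a⁻¹ * a := by group
          _ = h⁻¹ * a := by rw [ha]
      have e2 : a₀ * h⁻¹ = h * a₀ := by
        have : a₀ * h⁻¹ * a₀⁻¹ = h := by
          calc a₀ * h⁻¹ * a₀⁻¹ = (a₀ * h * a₀⁻¹)⁻¹ := by group
            _ = h := by rw [h0, inv_inv]
        calc a₀ * h⁻¹ = a₀ * h⁻¹ * a₀⁻¹ * a₀ := by group
          _ = h * a₀ := by rw [this]
      calc h * (a₀ * a) = (h * a₀) * a := by group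
        _ = a₀ * h⁻¹ * a := by rw [e2]
        _ = a₀ * (h⁻¹ * a) := by group
        _ = a₀ * (a * h) := by rw [e1]
        _ = a₀ * a * h := by group
    exact Nat.card_le_card_of_injective (fun a => ⟨a₀ * (a : G), hmem a⟩)
      (fun a b hab => by
        have h := congrArg Subtype.val hab
        simp only [mul_right_inj] at h
        exact Subtype.ext h)
  · rw [not_nonempty_iff] at hne
    rw [Nat.card_of_isEmpty]
    exact Nat.zero_le _

/-- A generator of a Sylow subgroup of prime order. -/
theorem exists_gen {p : ℕ} [Fact p.Prime] (P : Sylow p G) (hP : Nat.card (P : Subgroup G) = p) :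
    ∃ x : G, x ∈ (P : Subgroup G) ∧ orderOf x = p ∧ (P : Subgroup G) = zpowers x := by
  have hp : p.Prime := Fact.out
  have h1 : 1 < Nat.card (P : Subgroup G) := by rw [hP]; exact hp.one_lt
  have : Finite (P : Subgroup G) := Nat.finite_of_card_ne_zero (by omega)
  have : Nontrivial (P : Subgroup G) := Finite.one_lt_card_iff_nontrivial.mp h1
  obtain ⟨y, hy⟩ := exists_ne (1 : (P : Subgroup G))
  have hy1 : (y : G) ≠ 1 := fun h => hy (Subtype.ext h)
  refine ⟨y, y.2, ?_, Cfsg.Agent.Helper11.eq_zpowers_of_card_prime _ hP y y.2 hy1⟩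
  have h2 : orderOf y ∣ p := by
    have := orderOf_dvd_natCard y
    rwa [hP] at this
  have h3 : orderOf y ≠ 1 := fun h => hy (orderOf_eq_one_iff.mp h)
  rw [← Subgroup.orderOf_coe] at h2 h3
  rcases (Nat.dvd_prime hp).mp h2 with h | h
  · exact absurd h h3
  · exact h

/-- The centralizer of a cyclic subgroup is the centralizer of its generator. -/
theorem centralizer_zpowers (x : G) :
    centralizer ((zpowers x : Subgroup G) : Set G) = centralizer ({x} : Set G) := by
  apply le_antisymm
  · apply centralizer_le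
    intro y hy
    rw [Set.mem_singleton_iff] at hy
    rw [hy]
    exact mem_zpowers x
  · intro g hg
    rw [mem_centralizer_iff] at hg ⊢
    intro h hh
    obtain ⟨k, rfl⟩ := mem_zpowers_iff.mp hh
    have hc : Commute x g := hg x rfl
    exact (hc.zpow_left k).eq

/-- An involution whose centralizer contains a Sylow `2`-subgroup. -/
theorem exists_central_involution [Finite G] (h2 : 2 ∣ Nat.card G) (S : Sylow 2 G) :
    ∃ z : G, orderOf z = 2 ∧ (S : Subgroup G) ≤ centralizer ({z} : Set G) := by
  have : Fact (Nat.Prime 2) := ⟨Nat.prime_two⟩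
  have hS2 : 2 ∣ Nat.card (S : Subgroup G) := S.dvd_card_of_dvd_card h2
  have hnt : Nontrivial (S : Subgroup G) := by
    rw [← Finite.one_lt_card_iff_nontrivial]
    have : 0 < Nat.card (S : Subgroup G) := Nat.card_pos
    exact lt_of_lt_of_le (by norm_num) (Nat.le_of_dvd this hS2)
  have hc : Nontrivial (center (S : Subgroup G)) := S.isPGroup'.center_nontrivial
  have h2c : 2 ∣ Nat.card (center (S : Subgroup G)) := by
    obtain ⟨n, hn⟩ := (S.isPGroup'.to_subgroup (center (S : Subgroup G))).exists_card_eq
    have hn0 : n ≠ 0 := by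
      intro h
      rw [h, pow_zero] at hn
      have := Finite.one_lt_card_iff_nontrivial.mpr hc
      omega
    rw [hn]
    exact dvd_pow_self 2 hn0
  obtain ⟨z, hz⟩ := exists_prime_orderOf_dvd_card' 2 h2c
  refine ⟨((z : (S : Subgroup G)) : G), ?_, ?_⟩
  · rw [Subgroup.orderOf_coe, Subgroup.orderOf_coe]
    exact hz
  · intro s hs
    rw [mem_centralizer_iff]
    intro h hh
    rw [Set.mem_singleton_iff] at hh
    subst hh
    have hz' := z.2
    rw [mem_center_iff] at hz'
    have := hz' ⟨s, hs⟩
    have h3 := congrArg (Subtype.val) this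
    simpa using h3.symm

end Cfsg.Agent.Helper21.BrInv
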