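import Mathlib
import Cfsg.Agent.Helper21.BrInv
import Cfsg.Agent.Helper24.RealChar
import Cfsg.Agent.Helper24.Integrality
import Cfsg.Agent.Helper24.Span

set_option autoImplicit false
set_option linter.unusedSectionVars false

/-!
Characters at an element `x` of prime order `p` all of whose generators are conjugate: the values
are rational integers congruent to the degree mod `p`.  Sorted extraction of four elements of a
finset.  Integrality of central characters.
-/

namespace Cfsg.Agent.Helper21.BrRat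

open Cfsg Subgroup Cfsg.Agent.Helper24 Cfsg.Agent.Helper5 Cfsg.Agent.Helper15.BrP

variable {G : Type*} [Group G] [Finite G]

/-- Irreducible characters are constant on conjugacy classes. -/
theorem irr_apply_of_isConj (ψ : IrrCharacter G) {g h : G} (hc : IsConj g h) :
    (ψ : G → ℂ) g = (ψ : G → ℂ) h := by
  obtain ⟨c, hc⟩ := isConj_iff.mp hc
  rw [← hc]
  exact (isClassFunction_irr ψ g c).symm

/-- If all elements of order `p` are conjugate to `x`, then every irreducible character takes an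
integer value at `x`, congruent to its degree mod `p`. -/
theorem exists_int_value (p : ℕ) [hp : Fact p.Prime] (x : G) (hx : orderOf x = p)
    (hconj : ∀ y : G, orderOf y = p → IsConj y x) (ψ : IrrCharacter G) :
    ∃ k : ℤ, (ψ : G → ℂ) x = (k : ℂ) ∧ (irrDeg ψ : ℤ) ≡ k [ZMOD p] := by
  have hp' := hp.out
  have hval : ∀ k : ℕ, ¬ p ∣ k → (ψ : G → ℂ) ((x * 1) ^ k) = (ψ : G → ℂ) x := by
    intro k hk
    rw [mul_one]
    apply irr_apply_of_isConj
    apply hconj
    have hcop : Nat.Coprime (orderOf x) k := by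
      rw [hx]; exact (Nat.Prime.coprime_iff_not_dvd hp').mpr hk
    rw [hcop.orderOf_pow, hx]
  obtain ⟨m, hm⟩ := exists_mul_eq_sum_pow ψ ((ψ : G → ℂ) x) p 1 hp'.pos (Nat.coprime_one_right p)
    x 1 hx orderOf_one (Commute.one_right x) hval
  rw [Finset.sum_range_one, mul_zero, pow_zero, irrDeg_spec, one_mul, mul_one] at hm
  have hp1 : 1 ≤ p := hp'.pos
  have hp2 : ((p - 1 : ℕ) : ℂ) ≠ 0 := by
    have : p - 1 ≠ 0 := by have := hp'.two_le; omega
    exact_mod_cast this
  set q : ℚ := (((m : ℤ) * (p : ℤ) - (irrDeg ψ : ℤ) : ℤ) : ℚ) / ((p - 1 : ℕ) : ℚ) with hq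
  have hψq : (ψ : G → ℂ) x = (q : ℂ) := by
    rw [hq]
    push_cast
    rw [eq_div_iff hp2]
    linear_combination hm
  have hint : IsIntegral ℤ ((q : ℚ) : ℂ) := by
    rw [← hψq]
    exact irr_isIntegral ψ x
  obtain ⟨k, hk⟩ := exists_int_of_isIntegral_ratCast hint
  refine ⟨k, by rw [hψq, hk]; norm_cast, ?_⟩
  have hp2' : ((p - 1 : ℕ) : ℚ) ≠ 0 := by
    have : p - 1 ≠ 0 := by have := hp'.two_le; omega
    exact_mod_cast this
  rw [hq, div_eq_iff hp2'] at hk
  have hk' : (m : ℤ) * (p : ℤ) - (irrDeg ψ : ℤ) = k * ((p - 1 : ℕ) : ℤ) := by exact_mod_cast hk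
  have hcast : ((p - 1 : ℕ) : ℤ) = (p : ℤ) - 1 := by
    rw [Nat.cast_sub hp1]; norm_num
  rw [hcast] at hk'
  rw [Int.modEq_iff_dvd]
  exact ⟨k - m, by linear_combination hk'⟩

/-- Integrality of a central character value `idx * a / b`. -/
theorem centralChar_int (χ : IrrCharacter G) (y : G) (a : ℤ) (b : ℕ) (hb : b ≠ 0)
    (hval : (χ : G → ℂ) y = (a : ℂ)) (hdeg : irrDeg χ = b) :
    (b : ℤ) ∣ ((centralizer ({y} : Set G)).index : ℤ) * a := by
  have h1 := Cfsg.Agent.Helper5.CC.isIntegral_centralChar χ y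
  rw [Cfsg.Agent.Helper5.CC.centralChar_def, hval, irrDeg_spec, hdeg] at h1
  have h2 : (((centralizer ({y} : Set G)).index : ℂ) * (a : ℂ) / ((b : ℕ) : ℂ)) =
      (((((centralizer ({y} : Set G)).index : ℤ) * a : ℤ) : ℚ) / (b : ℚ) : ℚ) := by
    push_cast
    ring
  rw [h2] at h1
  obtain ⟨m, hm⟩ := exists_int_of_isIntegral_ratCast h1
  refine ⟨m, ?_⟩
  have hb' : (b : ℚ) ≠ 0 := by exact_mod_cast hb
  rw [div_eq_iff hb'] at hm
  have : ((centralizer ({y} : Set G)).index : ℤ) * a = m * (b : ℤ) := by exact_mod_cast hm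
  rw [this, mul_comm]

/-- Four elements of a finset of cardinality `4`, sorted by a key. -/
theorem exists_sorted_four {α : Type*} [DecidableEq α] (F : Finset α) (hF : F.card = 4)
    (k : α → ℤ) :
    ∃ x1 x2 x3 x4 : α, [x1, x2, x3, x4].Nodup ∧ (∀ y, y ∈ F ↔ y ∈ [x1, x2, x3, x4]) ∧
      k x1 ≤ k x2 ∧ k x2 ≤ k x3 ∧ k x3 ≤ k x4 := by
  have hne : F.Nonempty := Finset.card_pos.mp (by omega)
  obtain ⟨x1, hx1, hmin1⟩ := Finset.exists_min_image F k hne
  have hF1 : (F.erase x1).card = 3 := by rw [Finset.card_erase_of_mem hx1, hF]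
  have hne1 : (F.erase x1).Nonempty := Finset.card_pos.mp (by omega)
  obtain ⟨x2, hx2, hmin2⟩ := Finset.exists_min_image (F.erase x1) k hne1
  have hF2 : ((F.erase x1).erase x2).card = 2 := by rw [Finset.card_erase_of_mem hx2, hF1]
  have hne2 : ((F.erase x1).erase x2).Nonempty := Finset.card_pos.mp (by omega)
  obtain ⟨x3, hx3, hmin3⟩ := Finset.exists_min_image ((F.erase x1).erase x2) k hne2
  have hF3 : (((F.erase x1).erase x2).erase x3).card = 1 := by
    rw [Finset.card_erase_of_mem hx3, hF2]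
  obtain ⟨x4, hx4⟩ := Finset.card_eq_one.mp hF3
  have hx4m : x4 ∈ ((F.erase x1).erase x2).erase x3 := by rw [hx4]; simp
  have hx4' := Finset.mem_of_mem_erase hx4m
  have hx3' := Finset.mem_of_mem_erase hx3
  have hx2' := Finset.mem_of_mem_erase hx2
  have e21 : x2 ≠ x1 := Finset.ne_of_mem_erase hx2
  have e32 : x3 ≠ x2 := Finset.ne_of_mem_erase hx3
  have e31 : x3 ≠ x1 := Finset.ne_of_mem_erase hx3'
  have e43 : x4 ≠ x3 := Finset.ne_of_mem_erase hx4m
  have e42 : x4 ≠ x2 := Finset.ne_of_mem_erase hx4'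
  have e41 : x4 ≠ x1 := Finset.ne_of_mem_erase (Finset.mem_of_mem_erase hx4')
  refine ⟨x1, x2, x3, x4, ?_, ?_, hmin1 x2 hx2', hmin2 x3 hx3', hmin3 x4 hx4'⟩
  · simp only [List.nodup_cons, List.mem_cons, List.not_mem_nil, or_false, not_or,
      List.nodup_nil, and_true, not_false_eq_true]
    exact ⟨⟨e21.symm, e31.symm, e41.symm⟩, ⟨e32.symm, e42.symm⟩, e43.symm⟩
  · intro y
    simp only [List.mem_cons, List.not_mem_nil, or_false]
    constructor
    · intro hy
      by_cases h1 : y = x1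
      · exact Or.inl h1
      by_cases h2 : y = x2
      · exact Or.inr (Or.inl h2)
      by_cases h3 : y = x3
      · exact Or.inr (Or.inr (Or.inl h3))
      have : y ∈ ((F.erase x1).erase x2).erase x3 :=
        Finset.mem_erase.mpr ⟨h3, Finset.mem_erase.mpr ⟨h2, Finset.mem_erase.mpr ⟨h1, hy⟩⟩⟩
      rw [hx4, Finset.mem_singleton] at this
      exact Or.inr (Or.inr (Or.inr this))
    · rintro (rfl | rfl | rfl | rfl)
      · exact hx1
      · exact hx2'
      · exact Finset.mem_of_mem_erase hx3'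
      · exact Finset.mem_of_mem_erase (Finset.mem_of_mem_erase hx4')

/-- A sum over a fintype of a function vanishing off a duplicate-free list. -/
theorem sum_eq_of_nodup {α M : Type*} [Fintype α] [DecidableEq α] [AddCommMonoid M] (l : List α)
    (hl : l.Nodup) (f : α → M) (h0 : ∀ y, y ∉ l → f y = 0) :
    ∑ y, f y = (l.map f).sum := by
  rw [← List.sum_toFinset f hl]
  symm
  apply Finset.sum_subset (Finset.subset_univ _)
  intro y _ hy
  exact h0 y (by simpa using hy)

/-- A partial sum of a nonnegative function. -/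
theorem le_sum_of_nodup {α : Type*} [Fintype α] [DecidableEq α] (l : List α)
    (hl : l.Nodup) (f : α → ℝ) (hf : ∀ y, 0 ≤ f y) :
    (l.map f).sum ≤ ∑ y, f y := by
  rw [← List.sum_toFinset f hl]
  exact Finset.sum_le_sum_of_subset_of_nonneg (Finset.subset_univ _) (fun y _ _ => hf y)

end Cfsg.Agent.Helper21.BrRat
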