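import Mathlib
import Cfsg.Agent.Helper24.Expansion
import Cfsg.Agent.Helper24.Linear
import Cfsg.Agent.Helper8.CharComp
import Cfsg.Agent.Helper15.BrP2

set_option autoImplicit false
set_option linter.unusedSectionVars false

/-!
Twisted sums of a character over a cyclic subgroup: multiplicities of linear characters.
-/

namespace Cfsg.Agent.Helper21.BrTw

open Cfsg Cfsg.Agent.Helper24 Subgroup

variable {G : Type*} [Group G] [Finite G]

/-- The multiplicity of the linear character `g ^ i ↦ (conj ω) ^ i` of `⟨g⟩` in a character `χ`. -/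
theorem exists_twisted_sum {χ : G → ℂ} (hχ : IsCharacter G χ) (g : G) (ω : ℂ)
    (hω : ω ^ orderOf g = 1) :
    ∃ m : ℕ, ∑ i ∈ Finset.range (orderOf g), χ (g ^ i) * ω ^ i = (m : ℂ) * (orderOf g : ℂ) := by
  classical
  have hfin : IsOfFinOrder g := isOfFinOrder_of_finite g
  have hn : 0 < orderOf g := orderOf_pos g
  set υ : ℂ := (starRingEnd ℂ) ω with hυ
  have hυn : υ ^ orderOf g = 1 := by rw [hυ, ← map_pow, hω, map_one]
  have hυ0 : υ ≠ 0 := by
    intro h
    rw [h, zero_pow hn.ne'] at hυn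
    exact zero_ne_one hυn
  have : Fintype (zpowers g) := Fintype.ofFinite _
  have : Fintype (IrrCharacter (zpowers g)) := Fintype.ofFinite _
  set g₀ : zpowers g := ⟨g, mem_zpowers g⟩ with hg₀
  have hgen : ∀ x : zpowers g, x ∈ zpowers g₀ := by
    intro x
    obtain ⟨k, hk⟩ := mem_zpowers_iff.mp x.2
    rw [mem_zpowers_iff]
    refine ⟨k, ?_⟩
    apply Subtype.ext
    rw [Subgroup.coe_zpow]
    exact hk
  have hord : orderOf g₀ = orderOf g := Subgroup.orderOf_mk g (mem_zpowers g)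
  set u : ℂˣ := Units.mk0 υ hυ0 with hu
  have hudvd : orderOf u ∣ orderOf g₀ := by
    rw [hord]
    apply orderOf_dvd_of_pow_eq_one
    apply Units.ext
    rw [Units.val_pow_eq_pow_val, hu, Units.val_mk0, hυn, Units.val_one]
  set φ₀ : zpowers g →* ℂˣ := monoidHomOfForallMemZpowers hgen hudvd with hφ₀
  set φ : zpowers g →* ℂ := (Units.coeHom ℂ).comp φ₀ with hφ
  have hφpow : ∀ i : ℕ, φ (g₀ ^ i) = υ ^ i := by
    intro i
    rw [hφ, MonoidHom.comp_apply, map_pow, hφ₀, monoidHomOfForallMemZpowers_apply_gen,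
      Units.coeHom_apply, Units.val_pow_eq_pow_val, hu, Units.val_mk0]
  have hχH : IsCharacter (zpowers g) (fun h : zpowers g => χ h) :=
    Cfsg.Agent.Helper8.isCharacter_restrict (zpowers g) hχ
  obtain ⟨m, hm⟩ := IsCharacter.classInner_nat hχH (isCharacter_of_monoidHom φ)
  refine ⟨m, ?_⟩
  unfold classInner at hm
  have hne : (Nat.card (zpowers g) : ℂ) ≠ 0 := by
    have : 0 < Nat.card (zpowers g) := Nat.card_pos
    exact_mod_cast this.ne'
  have hm' : ∑ h : zpowers g, χ h * (starRingEnd ℂ) (φ h) = (m : ℂ) * (orderOf g : ℂ) := by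
    have := congrArg (fun z => (Nat.card (zpowers g) : ℂ) * z) hm
    simp only at this
    rw [← mul_assoc, mul_inv_cancel₀ hne, one_mul, Nat.card_zpowers] at this
    rw [this, mul_comm]
  rw [← hm']
  have h1 : ∑ h : zpowers g, χ h * (starRingEnd ℂ) (φ h) =
      ∑ k : Fin (orderOf g), χ (g ^ (k : ℕ)) * ω ^ (k : ℕ) := by
    symm
    refine Fintype.sum_equiv (finEquivZPowers hfin) _ _ ?_
    intro k
    have h2 : finEquivZPowers hfin k = g₀ ^ (k : ℕ) := by
      apply Subtype.ext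
      rw [finEquivZPowers_apply, Subgroup.coe_pow]
    rw [h2, hφpow, Subgroup.coe_pow, map_pow, hυ, Complex.conj_conj]
  rw [h1, Fin.sum_univ_eq_sum_range (fun k => χ (g ^ k) * ω ^ k) (orderOf g)]

/-- The sum of the powers of a nontrivial root of unity vanishes. -/
theorem geom_sum_eq_zero' (ω : ℂ) (n : ℕ) (h1 : ω ≠ 1) (hn : ω ^ n = 1) :
    ∑ i ∈ Finset.range n, ω ^ i = 0 := by
  have h := geom_sum_mul ω n
  rw [hn, sub_self] at h
  rcases mul_eq_zero.mp h with h | h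
  · exact h
  · exact absurd (sub_eq_zero.mp h) h1

theorem geom_sum_ite (β : ℂ) (q : ℕ) (hq : β ^ q = 1) [Decidable (β = 1)] :
    ∑ j ∈ Finset.range q, β ^ j = if β = 1 then (q : ℂ) else 0 := by
  split_ifs with h
  · rw [h]; simp
  · exact geom_sum_eq_zero' β q h hq

/-- Twisted sums over `⟨x y⟩` when `χ` is constant `= s` off `⟨y⟩`. -/
theorem exists_twisted_mul_aux {χ : G → ℂ} (hχ : IsCharacter G χ) (s : ℂ) (p q : ℕ)
    (hp : 1 < p) (hpq : Nat.Coprime p q) (x y : G) (hx : orderOf x = p) (hy : orderOf y = q)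
    (hc : Commute x y) (hval : ∀ k : ℕ, ¬ p ∣ k → χ ((x * y) ^ k) = s) (ν : ℂ) (hν : ν ^ q = 1)
    [Decidable (ν ^ p = 1)] :
    ∃ m : ℕ, ∑ j ∈ Finset.range q, χ ((y ^ p) ^ j) * (ν ^ p) ^ j =
      (if ν ^ p = 1 then (q : ℂ) * s else 0) + (m : ℂ) * ((p * q : ℕ) : ℂ) := by
  have hp0 : p ≠ 0 := by omega
  set α : ℂ := Complex.exp (2 * Real.pi * Complex.I / p) with hα
  have hαprim : IsPrimitiveRoot α p := Complex.isPrimitiveRoot_exp p hp0
  have hαp : α ^ p = 1 := hαprim.pow_eq_one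
  set ω : ℂ := α * ν with hω
  set g := x * y with hg
  have hord : orderOf g = p * q := by
    rw [hg, hc.orderOf_mul_eq_mul_orderOf_of_coprime (by rw [hx, hy]; exact hpq), hx, hy]
  have hωn : ω ^ (p * q) = 1 := by
    rw [hω, mul_pow, pow_mul, hαp, one_pow, one_mul, mul_comm p q, pow_mul, hν, one_pow]
  have hω1 : ω ≠ 1 := by
    intro h
    have h1 : α ^ q = 1 := by
      have : (α * ν) ^ q = 1 := by rw [← hω, h, one_pow]
      rwa [mul_pow, hν, mul_one] at this
    have h2 := (hαprim.pow_eq_one_iff_dvd q).mp h1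
    have h3 : p ∣ Nat.gcd p q := Nat.dvd_gcd dvd_rfl h2
    rw [hpq] at h3
    have := Nat.le_of_dvd (by norm_num) h3
    omega
  obtain ⟨m, hm⟩ := exists_twisted_sum hχ g ω (by rw [hord]; exact hωn)
  refine ⟨m, ?_⟩
  rw [hord, Cfsg.Agent.Helper15.BrP.sum_range_mul_blocks] at hm
  have hωp : ∀ j : ℕ, ω ^ (p * j) = (ν ^ p) ^ j := by
    intro j
    rw [hω, mul_pow, pow_mul, hαp, one_pow, one_mul, pow_mul]
  have h2 : ∀ j : ℕ, ∑ i ∈ Finset.range p, χ (g ^ (p * j + i)) * ω ^ (p * j + i) =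
      (χ ((y ^ p) ^ j) - s) * (ν ^ p) ^ j + s * ∑ i ∈ Finset.range p, ω ^ (p * j + i) := by
    intro j
    obtain ⟨p', rfl⟩ : ∃ p', p = p' + 1 := ⟨p - 1, by omega⟩
    rw [Finset.sum_range_succ', Finset.sum_range_succ' (fun i => ω ^ ((p' + 1) * j + i))]
    have h3 : ∀ i ∈ Finset.range p', χ (g ^ ((p' + 1) * j + (i + 1))) *
        ω ^ ((p' + 1) * j + (i + 1)) = s * ω ^ ((p' + 1) * j + (i + 1)) := by
      intro i hi
      rw [Finset.mem_range] at hi
      rw [hval]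
      intro hdvd
      have h4 : (p' + 1) ∣ i + 1 := (Nat.dvd_add_right (Dvd.intro _ rfl)).mp hdvd
      have := Nat.le_of_dvd (by omega) h4
      omega
    rw [Finset.sum_congr rfl h3, ← Finset.mul_sum, add_zero]
    have h5 : g ^ ((p' + 1) * j) = (y ^ (p' + 1)) ^ j := by
      rw [hg, hc.mul_pow, pow_mul, ← hx, pow_orderOf_eq_one, one_pow, one_mul, hx, pow_mul]
    rw [h5, hωp]
    ring
  rw [Finset.sum_congr rfl (fun j _ => h2 j), Finset.sum_add_distrib, ← Finset.mul_sum,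
    ← Cfsg.Agent.Helper15.BrP.sum_range_mul_blocks (fun i => ω ^ i),
    geom_sum_eq_zero' ω (p * q) hω1 hωn, mul_zero, add_zero] at hm
  have h6 : ∑ j ∈ Finset.range q, (χ ((y ^ p) ^ j) - s) * (ν ^ p) ^ j =
      ∑ j ∈ Finset.range q, χ ((y ^ p) ^ j) * (ν ^ p) ^ j - s * ∑ j ∈ Finset.range q, (ν ^ p) ^ j := by
    rw [Finset.mul_sum, ← Finset.sum_sub_distrib]
    refine Finset.sum_congr rfl fun j _ => by ring
  have hνpq : (ν ^ p) ^ q = 1 := by rw [← pow_mul, mul_comm, pow_mul, hν, one_pow]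
  rw [h6, geom_sum_ite (ν ^ p) q hνpq] at hm
  split_ifs with h
  · rw [if_pos h] at hm
    linear_combination hm
  · rw [if_neg h] at hm
    linear_combination hm

/-- Twisted sums: the version for an element `z` of order `q` and a `q`-th root of unity `β`. -/
theorem exists_twisted_mul {χ : G → ℂ} (hχ : IsCharacter G χ) (s : ℂ) (p q : ℕ)
    (hp : 1 < p) (hq : 1 < q) (hpq : Nat.Coprime p q) (x z : G) (hx : orderOf x = p)
    (hz : orderOf z = q) (hc : Commute x z)
    (hval : ∀ a b : ℕ, ¬ p ∣ a → χ (x ^ a * z ^ b) = s) (β : ℂ) (hβ : β ^ q = 1)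
    [Decidable (β = 1)] :
    ∃ m : ℕ, ∑ j ∈ Finset.range q, χ (z ^ j) * β ^ j =
      (if β = 1 then (q : ℂ) * s else 0) + (m : ℂ) * ((p * q : ℕ) : ℂ) := by
  classical
  obtain ⟨c, -, hc1⟩ := Nat.exists_mul_mod_eq_one_of_coprime hpq hq
  have hcq : Nat.Coprime q c := by
    have h1 : Nat.gcd q c ∣ p * c % q := by
      rw [Nat.dvd_mod_iff (Nat.gcd_dvd_left q c)]
      exact Dvd.dvd.mul_left (Nat.gcd_dvd_right q c) p
    rw [hc1] at h1
    exact Nat.dvd_one.mp h1
  set y := z ^ c with hy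
  have hyord : orderOf y = q := by
    rw [hy, Nat.Coprime.orderOf_pow (by rw [hz]; exact hcq), hz]
  have hyp : y ^ p = z := by
    rw [hy, ← pow_mul, mul_comm, ← pow_mod_orderOf, hz, hc1, pow_one]
  set ν := β ^ c with hν
  have hνq : ν ^ q = 1 := by rw [hν, ← pow_mul, mul_comm, pow_mul, hβ, one_pow]
  have hνp : ν ^ p = β := by
    rw [hν, ← pow_mul, mul_comm, pow_eq_pow_mod _ hβ, hc1, pow_one]
  have hcy : Commute x y := hc.pow_right c
  have hval' : ∀ k : ℕ, ¬ p ∣ k → χ ((x * y) ^ k) = s := by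
    intro k hk
    rw [hcy.mul_pow, hy, ← pow_mul]
    exact hval k (c * k) hk
  obtain ⟨m, hm⟩ := exists_twisted_mul_aux hχ s p q hp hpq x y hx hyord hcy hval' ν hνq
  refine ⟨m, ?_⟩
  rw [hyp, hνp] at hm
  convert hm using 2
  split_ifs <;> rfl

/-- Fourier inversion: the values of `χ` on `⟨z⟩` in terms of multiplicities. -/
theorem exists_mult {χ : G → ℂ} (hχ : IsCharacter G χ) (s : ℂ) (p q : ℕ)
    (hp : 1 < p) (hq : 1 < q) (hpq : Nat.Coprime p q) (x z : G) (hx : orderOf x = p)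
    (hz : orderOf z = q) (hc : Commute x z)
    (hval : ∀ a b : ℕ, ¬ p ∣ a → χ (x ^ a * z ^ b) = s) (ζ : ℂ) (hζ : IsPrimitiveRoot ζ q) :
    ∃ M : ℕ → ℕ, ∀ i < q,
      χ (z ^ i) = s + (p : ℂ) * ∑ k ∈ Finset.range q, (M k : ℂ) * ζ ^ (k * i) := by
  classical
  have hq0 : q ≠ 0 := by omega
  have hζq : ζ ^ q = 1 := hζ.pow_eq_one
  have hζ0 : ζ ≠ 0 := hζ.ne_zero hq0
  set ζ' := ζ⁻¹ with hζ'
  have hζ'q : ζ' ^ q = 1 := by rw [hζ', inv_pow, hζq, inv_one]
  have hζζ' : ζ * ζ' = 1 := mul_inv_cancel₀ hζ0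
  have key : ∀ k : ℕ, ∃ m : ℕ, ∑ j ∈ Finset.range q, χ (z ^ j) * (ζ' ^ k) ^ j =
      (if ζ' ^ k = 1 then (q : ℂ) * s else 0) + (m : ℂ) * ((p * q : ℕ) : ℂ) := fun k =>
    exists_twisted_mul hχ s p q hp hq hpq x z hx hz hc hval (ζ' ^ k)
      (by rw [← pow_mul, mul_comm, pow_mul, hζ'q, one_pow])
  choose M hM using key
  refine ⟨M, fun i hi => ?_⟩
  -- `ζ ^ a = ζ ^ b ↔ a = b` for `a, b < q`
  have hinj : ∀ a b : ℕ, a < q → b < q → ζ ^ a = ζ ^ b → a = b := fun a b ha hb h =>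
    hζ.pow_inj ha hb h
  have h1 : ∑ k ∈ Finset.range q, (∑ j ∈ Finset.range q, χ (z ^ j) * (ζ' ^ k) ^ j) * ζ ^ (k * i) =
      (q : ℂ) * χ (z ^ i) := by
    simp_rw [Finset.sum_mul]
    rw [Finset.sum_comm]
    have h3 : ∀ j ∈ Finset.range q, ∑ k ∈ Finset.range q, χ (z ^ j) * (ζ' ^ k) ^ j * ζ ^ (k * i) =
        χ (z ^ j) * (if j = i then (q : ℂ) else 0) := by
      intro j hj
      rw [Finset.mem_range] at hj
      have h4 : ∀ k ∈ Finset.range q, χ (z ^ j) * (ζ' ^ k) ^ j * ζ ^ (k * i) =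
          χ (z ^ j) * (ζ' ^ j * ζ ^ i) ^ k := by
        intro k _
        rw [mul_pow, ← pow_mul, ← pow_mul, ← pow_mul, mul_comm j k, mul_comm i k, mul_assoc]
      rw [Finset.sum_congr rfl h4, ← Finset.mul_sum]
      have h5 : (ζ' ^ j * ζ ^ i) ^ q = 1 := by
        rw [mul_pow, ← pow_mul, ← pow_mul, mul_comm j q, mul_comm i q, pow_mul, pow_mul, hζ'q,
          hζq, one_pow, one_pow, one_mul]
      rw [geom_sum_ite _ q h5]
      congr 1
      have h6 : ζ' ^ j * ζ ^ i = 1 ↔ j = i := by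
        constructor
        · intro h
          have h7 : ζ ^ i = ζ ^ j := by
            calc ζ ^ i = (ζ * ζ') ^ j * ζ ^ i := by rw [hζζ', one_pow, one_mul]
              _ = ζ ^ j * (ζ' ^ j * ζ ^ i) := by rw [mul_pow]; ring
              _ = ζ ^ j := by rw [h, mul_one]
          exact (hinj i j hi hj h7).symm
        · rintro rfl
          rw [← mul_pow, mul_comm, hζζ', one_pow]
      simp only [h6]
    rw [Finset.sum_congr rfl h3]
    simp only [mul_ite, mul_zero]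
    rw [Finset.sum_ite_eq' (Finset.range q) i, if_pos (Finset.mem_range.mpr hi)]
    ring
  have h2 : ∑ k ∈ Finset.range q, (∑ j ∈ Finset.range q, χ (z ^ j) * (ζ' ^ k) ^ j) * ζ ^ (k * i) =
      (q : ℂ) * s + ((p * q : ℕ) : ℂ) * ∑ k ∈ Finset.range q, (M k : ℂ) * ζ ^ (k * i) := by
    rw [Finset.sum_congr rfl (fun k _ => by rw [hM k])]
    simp_rw [add_mul]
    rw [Finset.sum_add_distrib]
    congr 1
    · have h8 : ∀ k ∈ Finset.range q, (if ζ' ^ k = 1 then (q : ℂ) * s else 0) * ζ ^ (k * i) =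
          if k = 0 then (q : ℂ) * s else 0 := by
        intro k hk
        rw [Finset.mem_range] at hk
        have h9 : ζ' ^ k = 1 ↔ k = 0 := by
          constructor
          · intro h
            have h10 : ζ ^ k = ζ ^ 0 := by
              calc ζ ^ k = ζ ^ k * ζ' ^ k := by rw [h, mul_one]
                _ = (ζ * ζ') ^ k := by rw [mul_pow]
                _ = ζ ^ 0 := by rw [hζζ', one_pow, pow_zero]
            exact hinj k 0 hk (by omega) h10
          · rintro rfl; simp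
        by_cases hk0 : k = 0
        · subst hk0; simp
        · rw [if_neg (fun h => hk0 (h9.mp h)), if_neg hk0, zero_mul]
      rw [Finset.sum_congr rfl h8, Finset.sum_ite_eq' (Finset.range q) 0,
        if_pos (Finset.mem_range.mpr (by omega))]
    · rw [Finset.mul_sum]
      refine Finset.sum_congr rfl fun k _ => by ring
  have hqc : (q : ℂ) ≠ 0 := by exact_mod_cast hq0
  have h3 : (q : ℂ) * χ (z ^ i) =
      (q : ℂ) * (s + (p : ℂ) * ∑ k ∈ Finset.range q, (M k : ℂ) * ζ ^ (k * i)) := by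
    rw [← h1, h2]
    push_cast
    ring
  exact mul_left_cancel₀ hqc h3

end Cfsg.Agent.Helper21.BrTw
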