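import Mathlib
import Cfsg.Agent.S3864
import Cfsg.Agent.S0202
import Cfsg.Agent.S0203

/-!
Brauer–Suzuki–Wall for dihedral Sylow 2-subgroups: in a simple group with a dihedral Sylow
2-subgroup all involutions are conjugate.
-/

set_option autoImplicit false
set_option linter.unusedSectionVars false

namespace Cfsg.Agent.Helper21.Bsw.Setup

variable {G : Type*} [Group G] [Finite G]

/-- a simple group has no normal complement to a non-trivial proper subgroup -/
theorem no_normal_complement [IsSimpleGroup G] (P N : Subgroup G) (hN : N.Normal)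
    (hc : N.IsComplement' P) (hP1 : P ≠ ⊥) (hP2 : P ≠ ⊤) : False := by
  rcases hN.eq_bot_or_eq_top with h | h
  · rw [h] at hc
    exact hP2 (Subgroup.isComplement'_bot_left.mp hc)
  · rw [h] at hc
    exact hP1 (Subgroup.isComplement'_top_left.mp hc)

/-- one class of involutions, from the number of classes -/
theorem isConj_of_card_eq_one
    (h : Nat.card {C : ConjClasses G // ∃ g : G, ConjClasses.mk g = C ∧ orderOf g = 2} = 1)
    (x y : G) (hx : orderOf x = 2) (hy : orderOf y = 2) : IsConj x y := by
  have hsub := (Nat.card_eq_one_iff_unique.mp h).1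
  have := hsub.elim ⟨ConjClasses.mk x, x, rfl, hx⟩ ⟨ConjClasses.mk y, y, rfl, hy⟩
  exact ConjClasses.mk_eq_mk_iff_isConj.mp (congrArg Subtype.val this)

theorem isConj_of_card_eq_one'
    (h : Nat.card {C : ConjClasses G // ∃ t : G, orderOf t = 2 ∧ ConjClasses.mk t = C} = 1)
    (x y : G) (hx : orderOf x = 2) (hy : orderOf y = 2) : IsConj x y := by
  have hsub := (Nat.card_eq_one_iff_unique.mp h).1
  have := hsub.elim ⟨ConjClasses.mk x, x, hx, rfl⟩ ⟨ConjClasses.mk y, y, hy, rfl⟩
  exact ConjClasses.mk_eq_mk_iff_isConj.mp (congrArg Subtype.val this)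

/-- a simple `2`-group has order `2` -/
theorem card_eq_two_of_simple_two_group [IsSimpleGroup G] (hG : IsPGroup 2 G) :
    Nat.card G = 2 := by
  haveI : Fact (Nat.Prime 2) := ⟨Nat.prime_two⟩
  have hnt : Nontrivial (Subgroup.center G) := hG.center_nontrivial
  have hcen : Subgroup.center G = ⊤ := by
    rcases (inferInstance : (Subgroup.center G).Normal).eq_bot_or_eq_top with h | h
    · exfalso
      rw [Subgroup.nontrivial_iff_ne_bot] at hnt
      exact hnt h
    · exact h
  have hcomm : ∀ a b : G, a * b = b * a := by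
    intro a b
    have ha : a ∈ Subgroup.center G := by rw [hcen]; trivial
    exact ((Subgroup.mem_center_iff.mp ha) b).symm
  have h2 : 2 ∣ Nat.card G := by
    obtain ⟨k, hk⟩ := IsPGroup.iff_card.mp hG
    have hk0 : k ≠ 0 := by
      intro h0
      rw [h0, pow_zero] at hk
      have : Subsingleton G := (Nat.card_eq_one_iff_unique.mp hk).1
      exact not_subsingleton G this
    rw [hk]
    exact dvd_pow_self 2 hk0
  obtain ⟨x, hx⟩ := exists_prime_orderOf_dvd_card' 2 h2
  have hZn : (Subgroup.zpowers x).Normal := by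
    constructor
    intro z hz g
    rw [hcomm g z, mul_inv_cancel_right]
    exact hz
  rcases hZn.eq_bot_or_eq_top with h | h
  · exfalso
    rw [Subgroup.zpowers_eq_bot] at h
    rw [h, orderOf_one] at hx
    omega
  · rw [← hx, ← Nat.card_zpowers, h, Subgroup.card_top]

/-- a simple group with a dihedral Sylow 2-subgroup has one class of involutions -/
theorem invol_conj [IsSimpleGroup G] (S : Sylow 2 G) (n : ℕ) (hn : 2 ≤ n)
    (hS : Nonempty ((S : Subgroup G) ≃* DihedralGroup n)) :
    ∀ x y : G, orderOf x = 2 → orderOf y = 2 → IsConj x y := by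
  haveI : Fact (Nat.Prime 2) := ⟨Nat.prime_two⟩
  obtain ⟨e⟩ := hS
  have hcardS : Nat.card (S : Subgroup G) = 2 * n := by
    rw [Nat.card_congr e.toEquiv, DihedralGroup.nat_card]
  -- `S` is neither trivial nor everything
  have hS1 : ∀ P : Sylow 2 G, (P : Subgroup G) ≠ ⊥ := by
    intro P h
    have h1 : Nat.card (P : Subgroup G) = Nat.card (S : Subgroup G) := Sylow.card_eq_multiplicity P
      |>.trans (Sylow.card_eq_multiplicity S).symm
    rw [h, Subgroup.card_bot, hcardS] at h1
    omega
  have hS2 : ∀ P : Sylow 2 G, (P : Subgroup G) ≠ ⊤ := by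
    intro P h
    have h1 : Nat.card (P : Subgroup G) = Nat.card (S : Subgroup G) := Sylow.card_eq_multiplicity P
      |>.trans (Sylow.card_eq_multiplicity S).symm
    have hG : IsPGroup 2 G := by
      have := P.isPGroup'
      rw [h] at this
      exact IsPGroup.of_equiv this Subgroup.topEquiv
    have h2 := card_eq_two_of_simple_two_group hG
    rw [h, Subgroup.card_top, h2, hcardS] at h1
    omega
  -- `n` is a power of two
  obtain ⟨k, hk⟩ := IsPGroup.iff_card.mp S.isPGroup'
  rw [hcardS] at hk
  have hk2 : 2 ≤ k := by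
    by_contra hcon
    have : k = 0 ∨ k = 1 := by omega
    rcases this with h | h <;> rw [h] at hk <;> omega
  have hn' : n = 2 ^ (k - 1) := by
    have : 2 ^ k = 2 * 2 ^ (k - 1) := by
      rw [← pow_succ']
      congr 1
      omega
    rw [this] at hk
    omega
  by_cases hk3 : k = 2
  · -- the Klein four case
    have hn2 : n = 2 := by rw [hn', hk3]; norm_num
    subst hn2
    have hK : IsKleinFour (S : Subgroup G) := by
      constructor
      · rw [hcardS]
      · rw [Monoid.exponent_eq_of_mulEquiv e]
        exact IsKleinFour.exponent_two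
    rcases Cfsg.Agent.S0202.result S hK with h1 | h3
    · exact isConj_of_card_eq_one' h1
    · exfalso
      obtain ⟨N, hN, hc⟩ := (Cfsg.Agent.S0203.result S hK).mp h3
      exact no_normal_complement (S : Subgroup G) N hN hc (hS1 S) (hS2 S)
  · have hk3' : 3 ≤ k := by omega
    have e' : (S : Subgroup G) ≃* DihedralGroup (2 ^ (k - 1)) := by
      rw [← hn']; exact e
    rcases Cfsg.Agent.S3864.result S k hk3' ⟨e'⟩ with ⟨h1, -⟩ | ⟨-, ⟨N, hN, hidx⟩, -⟩ | ⟨-, P, N, hN, hc⟩
    · exact isConj_of_card_eq_one h1
    · exfalso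
      rcases hN.eq_bot_or_eq_top with h | h
      · rw [h, Subgroup.index_bot] at hidx
        have h1 : Nat.card (S : Subgroup G) ∣ Nat.card G := Subgroup.card_subgroup_dvd_card _
        rw [hidx, hcardS] at h1
        have := Nat.le_of_dvd (by norm_num) h1
        omega
      · rw [h, Subgroup.index_top] at hidx
        omega
    · exfalso
      exact no_normal_complement (P : Subgroup G) N hN hc (hS1 P) (hS2 P)

end Cfsg.Agent.Helper21.Bsw.Setup
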