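import Mathlib
import Cfsg.Agent.Helper21.BswSetupDefs
import Cfsg.Agent.Helper21.BswBasic

/-!
Brauer–Suzuki–Wall for dihedral Sylow 2-subgroups: from the structure of the centralizer of the
central involution to the abstract hypotheses.
-/

set_option autoImplicit false
set_option linter.unusedSectionVars false
set_option linter.unusedVariables false

namespace Cfsg.Agent.Helper21.Bsw.Setup

variable {G : Type*} [Group G]

/-- an element commuting with `y` normalizes the cyclic group generated by `y` -/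
theorem mem_normalizer_zpowers_of_commute {n y : G} (h : n * y = y * n) :
    n ∈ Subgroup.normalizer ((Subgroup.zpowers y : Subgroup G) : Set G) := by
  have hc : Commute n y := h
  rw [Subgroup.mem_normalizer_iff]
  intro w
  constructor
  · intro hw
    obtain ⟨i, rfl⟩ := Subgroup.mem_zpowers_iff.mp hw
    have : n * y ^ i * n⁻¹ = y ^ i := by
      rw [(hc.zpow_right i).eq, mul_inv_cancel_right]
    rw [this]
    exact Subgroup.zpow_mem_zpowers y i
  · intro hw
    obtain ⟨i, hi⟩ := Subgroup.mem_zpowers_iff.mp hw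
    have : w = y ^ i := by
      have h1 : w = n⁻¹ * (n * w * n⁻¹) * n := by group
      rw [h1, ← hi, mul_assoc, ← (hc.zpow_right i).eq, inv_mul_cancel_left]
    rw [this]
    exact Subgroup.zpow_mem_zpowers y i

/-- the data for the construction of `K` -/
structure Data (t : G) (S S0 O : Subgroup G) : Prop where
  ht : orderOf t = 2
  hS2 : IsPGroup 2 S
  hSC : S ≤ Subgroup.centralizer ({t} : Set G)
  hOC : O ≤ Subgroup.centralizer ({t} : Set G)
  hOodd : Odd (Nat.card O)
  hprod : ∀ c ∈ Subgroup.centralizer ({t} : Set G), ∃ o ∈ O, ∃ a ∈ S, c = o * a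
  hD : DihPair S S0 t
  hcent : ∀ a ∈ S0, ∀ o ∈ O, a * o = o * a
  hinvO : ∀ s ∈ S, s ∉ S0 → ∀ o ∈ O, s * o * s⁻¹ = o⁻¹
  hc : ∀ Y : Subgroup G, Y ≤ O → Y ≠ ⊥ →
    Subgroup.normalizer (Y : Set G) ≤ Subgroup.centralizer ({t} : Set G)

namespace Data

variable [Finite G] {t : G} {S S0 O : Subgroup G}

/-- `S` and `O` meet trivially -/
theorem eq_one_of_mem (d : Data t S S0 O) {x : G} (hxS : x ∈ S) (hxO : x ∈ O) : x = 1 := by
  obtain ⟨k, hk⟩ := d.hS2 ⟨x, hxS⟩
  have hk' : x ^ 2 ^ k = 1 := by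
    have := congrArg Subtype.val hk
    simpa using this
  have h1 : orderOf x ∣ 2 ^ k := orderOf_dvd_of_pow_eq_one hk'
  have h2 : orderOf x ∣ Nat.card O := by
    have := orderOf_dvd_natCard (⟨x, hxO⟩ : O)
    rwa [Subgroup.orderOf_mk] at this
  obtain ⟨j, -, hj⟩ := (Nat.dvd_prime_pow Nat.prime_two).mp h1
  rw [← orderOf_eq_one_iff, hj]
  rcases Nat.eq_zero_or_pos j with h0 | h0
  · rw [h0, pow_zero]
  · exfalso
    have h3 : 2 ∣ Nat.card O := by
      refine dvd_trans ?_ h2
      rw [hj]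
      exact dvd_pow_self 2 (by omega)
    exact (Nat.not_even_iff_odd.mpr d.hOodd) (even_iff_two_dvd.mpr h3)

/-- an element of `S` of odd order is trivial -/
theorem eq_one_of_odd (d : Data t S S0 O) {a : G} (haS : a ∈ S) {m : ℕ} (hm : Odd m)
    (ham : a ^ m = 1) : a = 1 := by
  obtain ⟨k, hk⟩ := d.hS2 ⟨a, haS⟩
  have hk' : a ^ 2 ^ k = 1 := by
    have := congrArg Subtype.val hk
    simpa using this
  have h1 : orderOf a ∣ 2 ^ k := orderOf_dvd_of_pow_eq_one hk'
  have h2 : orderOf a ∣ m := orderOf_dvd_of_pow_eq_one ham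
  have h3 : orderOf a ∣ Nat.gcd (2 ^ k) m := Nat.dvd_gcd h1 h2
  have h4 : Nat.gcd (2 ^ k) m = 1 := by
    apply Nat.Coprime.pow_left
    rw [Nat.coprime_comm]
    exact Nat.Coprime.symm (Nat.coprime_two_left.mpr hm)
  rw [h4, Nat.dvd_one] at h3
  exact orderOf_eq_one_iff.mp h3

/-- an element of `O` whose square is trivial is trivial -/
theorem eq_one_of_sq (d : Data t S S0 O) {o : G} (ho : o ∈ O) (h2 : o * o = 1) : o = 1 := by
  have h1 : orderOf o ∣ 2 := by
    apply orderOf_dvd_of_pow_eq_one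
    rw [pow_two]; exact h2
  have h3 : orderOf o ∣ Nat.card O := by
    have := orderOf_dvd_natCard (⟨o, ho⟩ : O)
    rwa [Subgroup.orderOf_mk] at this
  rcases (Nat.dvd_prime Nat.prime_two).mp h1 with h4 | h4
  · exact orderOf_eq_one_iff.mp h4
  · exfalso
    rw [h4] at h3
    exact (Nat.not_even_iff_odd.mpr d.hOodd) (even_iff_two_dvd.mpr h3)

/-- `O` is abelian -/
theorem comm_O (d : Data t S S0 O) {a b : G} (ha : a ∈ O) (hb : b ∈ O) : a * b = b * a := by
  obtain ⟨s, hsS, hsS0⟩ := d.hD.ne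
  have h1 := d.hinvO s hsS hsS0 a ha
  have h2 := d.hinvO s hsS hsS0 b hb
  have h3 := d.hinvO s hsS hsS0 (a * b) (O.mul_mem ha hb)
  have h4 : s * (a * b) * s⁻¹ = (s * a * s⁻¹) * (s * b * s⁻¹) := by group
  rw [h4, h1, h2] at h3
  have h5 : (a⁻¹ * b⁻¹)⁻¹ = ((a * b)⁻¹)⁻¹ := congrArg _ h3
  rw [mul_inv_rev, inv_inv, inv_inv, inv_inv] at h5
  exact h5.symm

/-- the subgroup `K = O × S0` -/
def K (d : Data t S S0 O) : Subgroup G where
  carrier := {x | ∃ o ∈ O, ∃ a ∈ S0, x = o * a}
  mul_mem' := by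
    rintro x y ⟨o, ho, a, ha, rfl⟩ ⟨o', ho', a', ha', rfl⟩
    refine ⟨o * o', O.mul_mem ho ho', a * a', S0.mul_mem ha ha', ?_⟩
    have := d.hcent a ha o' ho'
    calc o * a * (o' * a') = o * (a * o') * a' := by group
      _ = o * (o' * a) * a' := by rw [this]
      _ = o * o' * (a * a') := by group
  one_mem' := ⟨1, O.one_mem, 1, S0.one_mem, by simp⟩
  inv_mem' := by
    rintro x ⟨o, ho, a, ha, rfl⟩
    refine ⟨o⁻¹, O.inv_mem ho, a⁻¹, S0.inv_mem ha, ?_⟩
    have := d.hcent a ha o ho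
    rw [mul_inv_rev]
    have h2 : a⁻¹ * o⁻¹ = (o * a)⁻¹ := by rw [mul_inv_rev]
    rw [h2, ← this, mul_inv_rev]

theorem mem_K (d : Data t S S0 O) {x : G} : x ∈ d.K ↔ ∃ o ∈ O, ∃ a ∈ S0, x = o * a := Iff.rfl

theorem O_le_K (d : Data t S S0 O) : O ≤ d.K := fun o ho => ⟨o, ho, 1, S0.one_mem, by simp⟩

theorem S0_le_K (d : Data t S S0 O) : S0 ≤ d.K := fun a ha => ⟨1, O.one_mem, a, ha, by simp⟩

theorem t_mem_K (d : Data t S S0 O) : t ∈ d.K := d.S0_le_K d.hD.mem

theorem K_le (d : Data t S S0 O) : d.K ≤ Subgroup.centralizer ({t} : Set G) := by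
  rintro x ⟨o, ho, a, ha, rfl⟩
  exact Subgroup.mul_mem _ (d.hOC ho) (d.hSC (d.hD.le ha))

/-- `K` is abelian -/
theorem comm_K (d : Data t S S0 O) {x y : G} (hx : x ∈ d.K) (hy : y ∈ d.K) : x * y = y * x := by
  obtain ⟨o, ho, a, ha, rfl⟩ := hx
  obtain ⟨o', ho', a', ha', rfl⟩ := hy
  have h1 := d.hcent a ha o' ho'
  have h2 := d.hcent a' ha' o ho
  have h3 := d.comm_O ho ho'
  have h4 := d.hD.comm a ha a' ha'
  calc o * a * (o' * a') = o * (a * o') * a' := by group
    _ = o * (o' * a) * a' := by rw [h1]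
    _ = (o * o') * (a * a') := by group
    _ = (o' * o) * (a' * a) := by rw [h3, h4]
    _ = o' * (o * a') * a := by group
    _ = o' * (a' * o) * a := by rw [h2]
    _ = o' * a' * (o * a) := by group

/-- the elements of `S` outside `S0` invert `K` -/
theorem inv_K (d : Data t S S0 O) {s : G} (hsS : s ∈ S) (hsS0 : s ∉ S0) {x : G} (hx : x ∈ d.K) :
    s * x * s⁻¹ = x⁻¹ := by
  obtain ⟨o, ho, a, ha, rfl⟩ := hx
  have h1 := d.hinvO s hsS hsS0 o ho
  have h2 := (d.hD.out s hsS hsS0).2.1 a ha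
  have h3 := d.hcent a ha o ho
  have h4 : s * (o * a) * s⁻¹ = (s * o * s⁻¹) * (s * a * s⁻¹) := by group
  rw [h4, h1, h2, ← mul_inv_rev, h3]

/-- the involutions of `K` -/
theorem invol_K (d : Data t S S0 O) {x : G} (hx : x ∈ d.K) (h2 : x * x = 1) : x = 1 ∨ x = t := by
  obtain ⟨o, ho, a, ha, rfl⟩ := hx
  have h3 := d.hcent a ha o ho
  have h4 : (o * o) * (a * a) = 1 := by
    rw [← h2]
    calc o * o * (a * a) = o * (o * a) * a := by group
      _ = o * (a * o) * a := by rw [h3]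
      _ = o * a * (o * a) := by group
  have h5 : o * o = (a * a)⁻¹ := eq_inv_of_mul_eq_one_left h4
  have h6 : o * o = 1 := by
    apply d.eq_one_of_mem _ (O.mul_mem ho ho)
    rw [h5]
    exact S.inv_mem (S.mul_mem (d.hD.le ha) (d.hD.le ha))
  have h7 : o = 1 := d.eq_one_of_sq ho h6
  rw [h6, one_mul] at h4
  rw [h7, one_mul]
  exact d.hD.invol a ha h4

/-- the elements of odd order of `K` lie in `O` -/
theorem mem_O_of_odd (d : Data t S S0 O) {x : G} (hx : x ∈ d.K) {m : ℕ} (hm : Odd m)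
    (hxm : x ^ m = 1) : x ∈ O := by
  obtain ⟨o, ho, a, ha, rfl⟩ := hx
  have h3 : Commute o a := (d.hcent a ha o ho).symm
  rw [h3.mul_pow] at hxm
  have h5 : a ^ m = (o ^ m)⁻¹ := eq_inv_of_mul_eq_one_right hxm
  have h6 : a ^ m = 1 := by
    apply d.eq_one_of_mem (S.pow_mem (d.hD.le ha) m)
    rw [h5]
    exact O.inv_mem (O.pow_mem ho m)
  have h7 : a = 1 := d.eq_one_of_odd (d.hD.le ha) hm h6
  rw [h7, mul_one]
  exact ho

/-- the centralizer of `t` is `K ∪ K s` -/
theorem cent_cases (d : Data t S S0 O) {s : G} (hsS : s ∈ S) (hsS0 : s ∉ S0) {c : G}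
    (hc : c ∈ Subgroup.centralizer ({t} : Set G)) : c ∈ d.K ∨ ∃ k ∈ d.K, c = k * s⁻¹ := by
  obtain ⟨o, ho, a, ha, rfl⟩ := d.hprod c hc
  rcases (d.hD.out s hsS hsS0).2.2 a ha with h1 | h1
  · left; exact ⟨o, ho, a, h1, rfl⟩
  · right
    refine ⟨o * (a * s), ⟨o, ho, a * s, h1, rfl⟩, ?_⟩
    group

/-- the trivial intersection property -/
theorem ti (d : Data t S S0 O) {g : G} (hg : g ∉ Subgroup.centralizer ({t} : Set G)) :
    d.K ⊓ d.K.map (MulAut.conj g).toMonoidHom = ⊥ := by
  obtain ⟨s, hsS, hsS0⟩ := d.hD.ne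
  rw [eq_bot_iff]
  rintro x ⟨hxK, hxg⟩
  rw [Subgroup.mem_bot]
  obtain ⟨y, hyK, hyx⟩ := hxg
  have hyx' : g * y * g⁻¹ = x := by simpa using hyx
  by_contra hx1
  have ht1 : t ≠ 1 := by
    intro h; have := d.ht; rw [h, orderOf_one] at this; omega
  have ht2 : t * t = 1 := by
    have := pow_orderOf_eq_one t
    rwa [d.ht, pow_two] at this
  have hpow : ∀ j : ℕ, g * y ^ j * g⁻¹ = x ^ j := by
    intro j
    rw [← hyx']
    exact (conj_pow (a := g) (b := y) (i := j)).symm
  have hm0 : 0 < orderOf x := orderOf_pos x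
  rcases Nat.even_or_odd (orderOf x) with hev | hodd
  · -- a power of `x` is the involution of `K` and of its conjugate
    obtain ⟨j, hj⟩ := hev
    have hj' : orderOf x = 2 * j := by omega
    have hz2 : x ^ j * x ^ j = 1 := by
      rw [← pow_add, ← two_mul, ← hj']; exact pow_orderOf_eq_one x
    have hz1 : x ^ j ≠ 1 := by
      intro h
      have := orderOf_dvd_of_pow_eq_one h
      have hj0 : 0 < j := by omega
      have := Nat.le_of_dvd hj0 this
      omega
    have h1 : x ^ j = t := (d.invol_K (d.K.pow_mem hxK j) hz2).resolve_left hz1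
    have hw2 : y ^ j * y ^ j = 1 := by
      have h3 : g * (y ^ j * y ^ j) * g⁻¹ = 1 := by
        have : g * (y ^ j * y ^ j) * g⁻¹ = (g * y ^ j * g⁻¹) * (g * y ^ j * g⁻¹) := by group
        rw [this, hpow j, hz2]
      have : y ^ j * y ^ j = g⁻¹ * (g * (y ^ j * y ^ j) * g⁻¹) * g := by group
      rw [this, h3]; group
    have hw1 : y ^ j ≠ 1 := by
      intro h
      apply hz1
      rw [← hpow j, h]; group
    have h2 : y ^ j = t := (d.invol_K (d.K.pow_mem hyK j) hw2).resolve_left hw1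
    apply hg
    rw [Subgroup.mem_centralizer_singleton_iff]
    have h3 := hpow j
    rw [h1, h2] at h3
    -- g t g⁻¹ = t
    calc g * t = (g * t * g⁻¹) * g := by group
      _ = t * g := by rw [h3]
  · -- `x` and `y` lie in `O`
    have hxO : x ∈ O := d.mem_O_of_odd hxK hodd (pow_orderOf_eq_one x)
    have hyO : y ∈ O := by
      apply d.mem_O_of_odd hyK hodd
      have h3 := hpow (orderOf x)
      rw [pow_orderOf_eq_one] at h3
      have : y ^ orderOf x = g⁻¹ * (g * y ^ orderOf x * g⁻¹) * g := by group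
      rw [this, h3]; group
    have hy1 : y ≠ 1 := by
      intro h
      apply hx1
      rw [← hyx', h]; group
    have hNx : Subgroup.normalizer ((Subgroup.zpowers y : Subgroup G) : Set G)
        ≤ Subgroup.centralizer ({t} : Set G) :=
      d.hc (Subgroup.zpowers y) (Subgroup.zpowers_le.mpr hyO)
        (fun h => hy1 (Subgroup.zpowers_eq_bot.mp h))
    -- `u = g t g⁻¹` commutes with all of `K`
    set u := g * t * g⁻¹ with hu
    have hucomm : ∀ k ∈ d.K, u * k = k * u := by
      intro k hk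
      have h1 : k * x = x * k := d.comm_K hk hxK
      have h2 : (g⁻¹ * k * g) * y = y * (g⁻¹ * k * g) := by
        have : y = g⁻¹ * x * g := by rw [← hyx']; group
        rw [this]
        calc g⁻¹ * k * g * (g⁻¹ * x * g) = g⁻¹ * (k * x) * g := by group
          _ = g⁻¹ * (x * k) * g := by rw [h1]
          _ = g⁻¹ * x * g * (g⁻¹ * k * g) := by group
      have h3 := hNx (mem_normalizer_zpowers_of_commute h2)
      rw [Subgroup.mem_centralizer_singleton_iff] at h3
      -- t * (g⁻¹ k g) = (g⁻¹ k g) * t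
      calc u * k = g * (t * (g⁻¹ * k * g)) * g⁻¹ := by rw [hu]; group
        _ = g * ((g⁻¹ * k * g) * t) * g⁻¹ := by rw [h3]
        _ = k * u := by rw [hu]; group
    have huC : u ∈ Subgroup.centralizer ({t} : Set G) := by
      rw [Subgroup.mem_centralizer_singleton_iff]
      exact hucomm t d.t_mem_K
    have hu2 : u * u = 1 := by
      rw [hu]
      calc g * t * g⁻¹ * (g * t * g⁻¹) = g * (t * t) * g⁻¹ := by group
        _ = 1 := by rw [ht2]; group
    have hu1 : u ≠ 1 := by
      intro h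
      apply ht1
      have : t = g⁻¹ * u * g := by rw [hu]; group
      rw [this, h]; group
    rcases d.cent_cases hsS hsS0 huC with h1 | ⟨k, hk, h1⟩
    · have h2 : u = t := (d.invol_K h1 hu2).resolve_left hu1
      apply hg
      rw [Subgroup.mem_centralizer_singleton_iff]
      calc g * t = (g * t * g⁻¹) * g := by group
        _ = t * g := by rw [← hu, h2]
    · -- `u = k s⁻¹` inverts `K` and centralizes it
      have h2 : u * x * u⁻¹ = x⁻¹ := by
        rw [h1]
        have h3 : s⁻¹ * x * s = x⁻¹ := by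
          have h4 := d.inv_K hsS hsS0 hxK
          have h5 : x = s⁻¹ * (s * x * s⁻¹) * s := by group
          have h6 : s⁻¹ * x⁻¹ * s = x := by rw [← h4]; group
          have h7 : (s⁻¹ * x⁻¹ * s)⁻¹ = x⁻¹ := by rw [h6]
          rw [← h7]; group
        calc k * s⁻¹ * x * (k * s⁻¹)⁻¹ = k * (s⁻¹ * x * s) * k⁻¹ := by group
          _ = k * x⁻¹ * k⁻¹ := by rw [h3]
          _ = x⁻¹ := by
            rw [d.comm_K hk (d.K.inv_mem hxK), mul_inv_cancel_right]
      have h3 : u * x * u⁻¹ = x := by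
        rw [hucomm x hxK, mul_inv_cancel_right]
      have h4 : x * x = 1 := by
        have : x = x⁻¹ := h3.symm.trans h2
        calc x * x = x * x⁻¹ := by rw [← this]
          _ = 1 := mul_inv_cancel x
      have h5 : orderOf x ∣ 2 := by
        apply orderOf_dvd_of_pow_eq_one
        rw [pow_two]; exact h4
      rcases (Nat.dvd_prime Nat.prime_two).mp h5 with h6 | h6
      · exact hx1 (orderOf_eq_one_iff.mp h6)
      · rw [h6] at hodd
        exact absurd hodd (by decide)

/-- the abstract hypotheses -/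
theorem hyp (d : Data t S S0 O)
    (hconj : ∀ x y : G, orderOf x = 2 → orderOf y = 2 → IsConj x y) :
    ∃ (s : G) (K : Subgroup G), Hyp t s K := by
  obtain ⟨s, hsS, hsS0⟩ := d.hD.ne
  obtain ⟨hs2, hsinv, hscov⟩ := d.hD.out s hsS hsS0
  have hsC : s ∈ Subgroup.centralizer ({t} : Set G) := d.hSC hsS
  have hss : s * s = 1 := by
    have := pow_orderOf_eq_one s
    rwa [hs2, pow_two] at this
  have hsi : s⁻¹ = s := inv_eq_of_mul_eq_one_left hss
  refine ⟨s, d.K, d.ht, fun x hx y hy => d.comm_K hx hy, d.K_le, d.t_mem_K, hs2, hsC, ?_, ?_, ?_,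
    fun x hx => d.inv_K hsS hsS0 hx, fun g hg => d.ti hg, hconj⟩
  · -- `s ∉ K`
    rintro ⟨o, ho, a, ha, hsoa⟩
    have h1 : o = s * a⁻¹ := by rw [hsoa]; group
    have h2 : o = 1 := by
      apply d.eq_one_of_mem _ ho
      rw [h1]
      exact S.mul_mem hsS (S.inv_mem (d.hD.le ha))
    rw [h2, one_mul] at hsoa
    exact hsS0 (hsoa ▸ ha)
  · -- `K ⊔ ⟨s⟩ = C(t)`
    apply le_antisymm
    · exact sup_le d.K_le (Subgroup.zpowers_le.mpr hsC)
    · intro c hc
      rcases d.cent_cases hsS hsS0 hc with h1 | ⟨k, hk, h1⟩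
      · exact Subgroup.mem_sup_left h1
      · rw [h1]
        exact Subgroup.mul_mem_sup hk (Subgroup.inv_mem _ (Subgroup.mem_zpowers s))
  · -- `C_K(s) = ⟨t⟩`
    apply le_antisymm
    · rintro x ⟨hxK, hxs⟩
      have hxs' : x * s = s * x := Subgroup.mem_centralizer_singleton_iff.mp hxs
      have h1 := d.inv_K hsS hsS0 hxK
      have h2 : s * x * s⁻¹ = x := by rw [← hxs', mul_inv_cancel_right]
      have h3 : x * x = 1 := by
        have : x = x⁻¹ := h2.symm.trans h1
        calc x * x = x * x⁻¹ := by rw [← this]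
          _ = 1 := mul_inv_cancel x
      rcases d.invol_K hxK h3 with h4 | h4
      · rw [h4]; exact Subgroup.one_mem _
      · rw [h4]; exact Subgroup.mem_zpowers t
    · rw [Subgroup.zpowers_le]
      refine ⟨d.t_mem_K, ?_⟩
      show t ∈ Subgroup.centralizer ({s} : Set G)
      rw [Subgroup.mem_centralizer_singleton_iff]
      exact (Subgroup.mem_centralizer_singleton_iff.mp hsC).symm

end Data

end Cfsg.Agent.Helper21.Bsw.Setup
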