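import Mathlib
import Cfsg.Prelude.Def_CaseTheorems
import Cfsg.Agent.Helper13.BswSetupA
import Cfsg.Agent.Helper13.BswSetupB
import Cfsg.Agent.Helper21.BswSetupC
import Cfsg.Agent.Helper21.BswInvol

/-!
Brauer–Suzuki–Wall for dihedral Sylow 2-subgroups: the abstract hypotheses hold.
-/

set_option autoImplicit false

namespace Cfsg.Agent.Helper21.Bsw

open Setup

/-- from the hypotheses on the centralizer of a central involution of a dihedral Sylow 2-subgroup
to the abstract hypotheses of the Brauer–Suzuki–Wall theorem -/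
theorem exists_hyp {G : Type*} [Group G] [Finite G] [IsSimpleGroup G] (S : Sylow 2 G) (n : ℕ)
    (hn : 2 ≤ n) (hS : Nonempty ((S : Subgroup G) ≃* DihedralGroup n)) (t : G) (ht : orderOf t = 2)
    (htS : t ∈ (S : Subgroup G))
    (htZ : ∀ s ∈ (S : Subgroup G), s * t = t * s) (O : Subgroup G)
    (hO : O = (Cfsg.oddCore (Subgroup.centralizer ({t} : Set G))).map
      (Subgroup.centralizer ({t} : Set G)).subtype)
    (ha : O ≠ ⊥ → IsCyclic ((S : Subgroup G) ⊓ Subgroup.centralizer (O : Set G) : Subgroup G) ∧
      ((S : Subgroup G) ⊓ Subgroup.centralizer (O : Set G)).relIndex (S : Subgroup G) = 2)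
    (hb : ∀ s ∈ (S : Subgroup G), s ∉ Subgroup.centralizer (O : Set G) →
      ∀ y ∈ O, s * y * s⁻¹ = y⁻¹)
    (hc : ∀ Y : Subgroup G, Y ≤ O → Y ≠ ⊥ →
      Subgroup.normalizer (Y : Set G) ≤ Subgroup.centralizer ({t} : Set G)) :
    ∃ (s : G) (K : Subgroup G), Hyp t s K := by
  obtain ⟨hOC, hOodd, -, hprod⟩ := cent_struct S n hn hS t ht htZ O hO
  have hconj := invol_conj S n hn hS
  have hSC : (S : Subgroup G) ≤ Subgroup.centralizer ({t} : Set G) := by
    intro x hx
    rw [Subgroup.mem_centralizer_singleton_iff]
    exact htZ x hx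
  by_cases hO1 : O = ⊥
  · obtain ⟨S0, hD⟩ := exists_dihPair (S : Subgroup G) n hn hS t ht htS htZ
    have d : Data t (S : Subgroup G) S0 O :=
      { ht := ht
        hS2 := S.isPGroup'
        hSC := hSC
        hOC := hOC
        hOodd := hOodd
        hprod := hprod
        hD := hD
        hcent := by
          intro a _ o ho
          rw [hO1, Subgroup.mem_bot] at ho
          rw [ho, mul_one, one_mul]
        hinvO := by
          intro s _ _ o ho
          rw [hO1, Subgroup.mem_bot] at ho
          rw [ho]; simp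
        hc := hc }
    exact d.hyp hconj
  · obtain ⟨hcyc, hidx⟩ := ha hO1
    have ht0 : t ∈ (S : Subgroup G) ⊓ Subgroup.centralizer (O : Set G) := by
      refine ⟨htS, ?_⟩
      show t ∈ Subgroup.centralizer (O : Set G)
      rw [Subgroup.mem_centralizer_iff]
      intro o ho
      exact Subgroup.mem_centralizer_singleton_iff.mp (hOC ho)
    have hD := dihPair_of_cyclic (S : Subgroup G) n hn hS t ht htS htZ
      ((S : Subgroup G) ⊓ Subgroup.centralizer (O : Set G)) inf_le_left hcyc hidx ht0
    have d : Data t (S : Subgroup G) ((S : Subgroup G) ⊓ Subgroup.centralizer (O : Set G)) O :=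
      { ht := ht
        hS2 := S.isPGroup'
        hSC := hSC
        hOC := hOC
        hOodd := hOodd
        hprod := hprod
        hD := hD
        hcent := by
          intro a ha o ho
          exact ((Subgroup.mem_centralizer_iff.mp ha.2) o ho).symm
        hinvO := by
          intro s hsS hs0 o ho
          exact hb s hsS (fun h => hs0 ⟨hsS, h⟩) o ho
        hc := hc }
    exact d.hyp hconj

end Cfsg.Agent.Helper21.Bsw
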