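import Mathlib
import Cfsg.Agent.Helper1.ClsGraph1

/-!
Cossey–Hawkes–Mann: a finite group with the same multiset of class sizes as a nilpotent group
is nilpotent.  Part 1: the count `aP p G` of elements of `p`-power class size, its value
modulo `p`, and its behaviour under a central quotient of order `p`.
-/

set_option autoImplicit false

namespace Cfsg.Agent.Helper21.CHM

open Subgroup Cfsg.Agent.Helper1.ClsGraph

/-- number of elements whose class size is a power of `p` -/
noncomputable def aP (p : ℕ) (G : Type*) [Group G] : ℕ :=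
  Nat.card {x : G // ∃ k : ℕ, idx x = p ^ k}

section modp

variable {G : Type*} [Group G] [Finite G] (p : ℕ) [hp : Fact p.Prime]

/-- the number of elements of `p`-power class size is congruent to `|Z(G)|` mod `p` -/
theorem aP_modEq : aP p G ≡ Nat.card (center G) [MOD p] := by
  obtain ⟨P⟩ : Nonempty (Sylow p G) := inferInstance
  let α := {x : G // ∃ k : ℕ, idx x = p ^ k}
  let _ : MulAction (↥(P : Subgroup G)) α :=
    { smul := fun u x => ⟨(u : G) * x.1 * (u : G)⁻¹, by
        obtain ⟨k, hk⟩ := x.2
        exact ⟨k, by rw [idx_conj]; exact hk⟩⟩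
      one_smul := fun x => by
        apply Subtype.ext
        change ((1 : ↥(P : Subgroup G)) : G) * x.1 * ((1 : ↥(P : Subgroup G)) : G)⁻¹ = x.1
        simp
      mul_smul := fun u v x => by
        apply Subtype.ext
        change ((u * v : ↥(P : Subgroup G)) : G) * x.1 * ((u * v : ↥(P : Subgroup G)) : G)⁻¹ =
          (u : G) * ((v : G) * x.1 * (v : G)⁻¹) * (u : G)⁻¹
        simp [mul_assoc] }
  have hsm : ∀ (u : ↥(P : Subgroup G)) (x : α), ((u • x : α) : G) = (u : G) * x.1 * (u : G)⁻¹ :=
    fun _ _ => rfl
  have h1 := P.isPGroup'.card_modEq_card_fixedPoints α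
  have h2 : Nat.card (MulAction.fixedPoints (↥(P : Subgroup G)) α) = Nat.card (center G) := by
    refine Nat.card_congr
      { toFun := fun x => ⟨x.1.1, ?_⟩
        invFun := fun z => ⟨⟨z.1, ⟨0, by rw [pow_zero]; exact idx_eq_one_iff.mpr z.2⟩⟩, ?_⟩
        left_inv := fun x => rfl
        right_inv := fun z => rfl }
    · -- a fixed point of `P` of `p`-power index is central
      obtain ⟨⟨x, k, hk⟩, hfix⟩ := x
      rw [MulAction.mem_fixedPoints] at hfix
      have hle : (P : Subgroup G) ≤ centralizer ({x} : Set G) := by
        intro u hu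
        rw [mem_centralizer_singleton_iff]
        have := congrArg Subtype.val (hfix ⟨u, hu⟩)
        rw [hsm] at this
        change u * x * u⁻¹ = x at this
        calc u * x = (u * x * u⁻¹) * u := by group
          _ = x * u := by rw [this]
      have hdvd : idx x ∣ (P : Subgroup G).index := index_dvd_of_le hle
      have hk0 : k = 0 := by
        by_contra hne
        apply P.not_dvd_index
        refine dvd_trans ?_ hdvd
        rw [hk]
        exact dvd_pow_self p hne
      change x ∈ center G
      rw [← idx_eq_one_iff, hk, hk0, pow_zero]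
    · rw [MulAction.mem_fixedPoints]
      intro u
      apply Subtype.ext
      rw [hsm]
      change (u : G) * z.1 * (u : G)⁻¹ = z.1
      have := (mem_center_iff.mp z.2) (u : G)
      rw [this]; group
  rw [h2] at h1
  exact h1

theorem dvd_card_center_of_dvd_aP (h : p ∣ aP p G) : p ∣ Nat.card (center G) := by
  have h1 := aP_modEq (G := G) p
  exact (Nat.modEq_zero_iff_dvd.mp ((h1.symm.trans (Nat.modEq_zero_iff_dvd.mpr h))))

/-- a central element of order `p` when `p ∣ |Z(G)|` -/
theorem exists_central_of_dvd (h : p ∣ Nat.card (center G)) :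
    ∃ z : G, z ∈ center G ∧ orderOf z = p := by
  obtain ⟨z, hz⟩ := exists_prime_orderOf_dvd_card' p h
  exact ⟨z.1, z.2, by rw [← hz]; exact (Subgroup.orderOf_coe z)⟩

end modp

end Cfsg.Agent.Helper21.CHM
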