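import Mathlib
import Cfsg.Agent.Helper21.CHM1

/-!
Cossey–Hawkes–Mann, part 2: quotient by a central subgroup of order `p`.
-/

set_option autoImplicit false
set_option linter.unusedSectionVars false

namespace Cfsg.Agent.Helper21.CHM

open Subgroup Cfsg.Agent.Helper1.ClsGraph

variable {G : Type*} [Group G] [Finite G] {p : ℕ} [hp : Fact p.Prime]

/-- class sizes in a quotient by a central subgroup of order `p` -/
theorem idx_quot {N : Subgroup G} [N.Normal] (hN : N ≤ center G) (hcard : Nat.card N = p)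
    (x : G) :
    idx x = idx (QuotientGroup.mk' N x) ∨ idx x = p * idx (QuotientGroup.mk' N x) := by
  set π := QuotientGroup.mk' N with hπ
  set C := centralizer ({x} : Set G) with hC
  set C' := (centralizer ({π x} : Set (G ⧸ N))).comap π with hC'
  have hC'mem : ∀ g : G, g ∈ C' ↔ π g * π x = π x * π g := by
    intro g; rw [hC', mem_comap, mem_centralizer_singleton_iff]
  have hle : C ≤ C' := by
    intro g hg
    rw [hC, mem_centralizer_singleton_iff] at hg
    rw [hC'mem, ← map_mul, ← map_mul, hg]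
  have hidx' : C'.index = idx (π x) :=
    index_comap_of_surjective _ (QuotientGroup.mk'_surjective N)
  have hmul := relIndex_mul_index hle
  -- the commutator homomorphism `C' → N`
  have hmemN : ∀ g : ↥C', (g : G) * x * (g : G)⁻¹ * x⁻¹ ∈ N := by
    intro g
    have hg := (hC'mem g).mp g.2
    rw [← QuotientGroup.eq_one_iff]
    change π ((g : G) * x * (g : G)⁻¹ * x⁻¹) = 1
    rw [map_mul, map_mul, map_mul, hg, map_inv, map_inv]
    group
  let φ : ↥C' →* ↥N :=
    MonoidHom.mk' (fun g => ⟨(g : G) * x * (g : G)⁻¹ * x⁻¹, hmemN g⟩) (by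
      intro g h
      apply Subtype.ext
      change ((g * h : ↥C') : G) * x * ((g * h : ↥C') : G)⁻¹ * x⁻¹ =
        ((g : G) * x * (g : G)⁻¹ * x⁻¹) * ((h : G) * x * (h : G)⁻¹ * x⁻¹)
      have hn : ∀ y : G, y * ((h : G) * x * (h : G)⁻¹ * x⁻¹) =
          ((h : G) * x * (h : G)⁻¹ * x⁻¹) * y := mem_center_iff.mp (hN (hmemN h))
      rw [Subgroup.coe_mul, hn]
      calc (g : G) * (h : G) * x * ((g : G) * (h : G))⁻¹ * x⁻¹
          = (g : G) * ((h : G) * x * (h : G)⁻¹ * x⁻¹) * (x * (g : G)⁻¹ * x⁻¹) := by group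
        _ = ((h : G) * x * (h : G)⁻¹ * x⁻¹) * (g : G) * (x * (g : G)⁻¹ * x⁻¹) := by rw [hn]
        _ = (h : G) * x * (h : G)⁻¹ * x⁻¹ * ((g : G) * x * (g : G)⁻¹ * x⁻¹) := by group)
  have hker : φ.ker = C.subgroupOf C' := by
    ext g
    rw [MonoidHom.mem_ker, mem_subgroupOf, hC, mem_centralizer_singleton_iff]
    constructor
    · intro h
      have h' : (g : G) * x * (g : G)⁻¹ * x⁻¹ = 1 := congrArg Subtype.val h
      calc (g : G) * x = ((g : G) * x * (g : G)⁻¹ * x⁻¹) * (x * (g : G)) := by group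
        _ = x * (g : G) := by rw [h', one_mul]
    · intro h
      apply Subtype.ext
      change (g : G) * x * (g : G)⁻¹ * x⁻¹ = 1
      rw [h]; group
  have hrel : C.relIndex C' ∣ p := by
    rw [Subgroup.relIndex, ← hker, index_ker, ← hcard]
    exact card_subgroup_dvd_card _
  rcases (Nat.dvd_prime hp.out).mp hrel with h1 | h1
  · left
    rw [← hidx', idx_def, ← hC, ← hmul, h1, one_mul]
  · right
    rw [← hidx', idx_def, ← hC, ← hmul, h1]

/-- `p`-power class size is detected in the quotient -/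
theorem isPow_idx_quot_iff {N : Subgroup G} [N.Normal] (hN : N ≤ center G)
    (hcard : Nat.card N = p) (x : G) :
    (∃ k : ℕ, idx (QuotientGroup.mk' N x) = p ^ k) ↔ ∃ k : ℕ, idx x = p ^ k := by
  constructor
  · rintro ⟨k, hk⟩
    rcases idx_quot hN hcard x with h | h
    · exact ⟨k, by rw [h, hk]⟩
    · exact ⟨k + 1, by rw [h, hk, pow_succ, mul_comm]⟩
  · rintro ⟨k, hk⟩
    have hdvd : idx (QuotientGroup.mk' N x) ∣ p ^ k := by
      rcases idx_quot hN hcard x with h | h
      · rw [← hk, h]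
      · rw [← hk, h]; exact dvd_mul_left _ _
    obtain ⟨j, -, hj⟩ := (Nat.dvd_prime_pow hp.out).mp hdvd
    exact ⟨j, hj⟩

theorem aP_quot {N : Subgroup G} [N.Normal] (hN : N ≤ center G) (hcard : Nat.card N = p) :
    aP p G = p * aP p (G ⧸ N) := by
  have hset : {x : G | ∃ k : ℕ, idx x = p ^ k} =
      (QuotientGroup.mk : G → G ⧸ N) ⁻¹' {y : G ⧸ N | ∃ k : ℕ, idx y = p ^ k} := by
    ext x
    exact (isPow_idx_quot_iff hN hcard x).symm
  have h := QuotientGroup.card_preimage_mk N {y : G ⧸ N | ∃ k : ℕ, idx y = p ^ k}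
  rw [← hset, hcard] at h
  exact h

theorem card_quot {N : Subgroup G} (hcard : Nat.card N = p) :
    Nat.card G = Nat.card (G ⧸ N) * p := by
  rw [← hcard]; exact card_eq_card_quotient_mul_card_subgroup N

theorem ordCompl_eq_of_mul_pow (hp' : p.Prime) {a b i j : ℕ} (h : a * p ^ i = b * p ^ j) :
    ordCompl[p] a = ordCompl[p] b := by
  have h1 := Nat.ordCompl_mul a (p ^ i) p
  have h2 := Nat.ordCompl_mul b (p ^ j) p
  rw [Nat.ordCompl_self_pow hp', mul_one] at h1 h2
  rw [← h1, ← h2, h]

theorem ordCompl_card_center_quot {N : Subgroup G} [N.Normal] (hN : N ≤ center G)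
    (hcard : Nat.card N = p) :
    ordCompl[p] (Nat.card (center (G ⧸ N))) = ordCompl[p] (Nat.card (center G)) := by
  set π := QuotientGroup.mk' N with hπ
  set K := (center (G ⧸ N)).comap π with hK
  have hKmem : ∀ x : G, x ∈ K ↔ ∀ g : G, π g * π x = π x * π g := by
    intro x
    rw [hK, mem_comap, mem_center_iff]
    constructor
    · intro h g; exact h (π g)
    · intro h y
      obtain ⟨g, rfl⟩ := QuotientGroup.mk'_surjective N y
      exact h g
  have hcardK : Nat.card K = p * Nat.card (center (G ⧸ N)) := by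
    have h := QuotientGroup.card_preimage_mk N ((center (G ⧸ N) : Subgroup (G ⧸ N)) : Set (G ⧸ N))
    rw [hcard] at h
    exact h
  have hle : center G ≤ K := by
    intro x hx
    rw [hKmem]
    intro g
    rw [← map_mul, ← map_mul, mem_center_iff.mp hx g]
  -- `p`-th powers of elements of `K` are central
  have hpow : ∀ x ∈ K, x ^ p ∈ center G := by
    intro x hx
    rw [mem_center_iff]
    intro g
    have hn : g * x * g⁻¹ * x⁻¹ ∈ N := by
      rw [← QuotientGroup.eq_one_iff]
      change π (g * x * g⁻¹ * x⁻¹) = 1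
      rw [map_mul, map_mul, map_mul, (hKmem x).mp hx g, map_inv, map_inv]
      group
    have hnp : (g * x * g⁻¹ * x⁻¹) ^ p = 1 := by
      have := pow_card_eq_one' (G := ↥N) (x := ⟨_, hn⟩)
      rw [hcard] at this
      exact congrArg Subtype.val this
    have hcomm : Commute (g * x * g⁻¹ * x⁻¹) x := by
      have := mem_center_iff.mp (hN hn) x
      exact this.symm
    have h1 : g * x * g⁻¹ = (g * x * g⁻¹ * x⁻¹) * x := by group
    have h2 : g * x ^ p * g⁻¹ = x ^ p := by
      rw [← conj_pow, h1, hcomm.mul_pow, hnp, one_mul]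
    calc g * x ^ p = (g * x ^ p * g⁻¹) * g := by group
      _ = x ^ p * g := by rw [h2]
  -- hence `[K : Z(G)]` is a power of `p`
  have hM : IsPGroup p (↥K ⧸ (center G).subgroupOf K) := by
    intro y
    induction y using QuotientGroup.induction_on with
    | H y =>
      refine ⟨1, ?_⟩
      rw [pow_one, ← QuotientGroup.mk_pow, QuotientGroup.eq_one_iff, mem_subgroupOf]
      exact hpow y.1 y.2
  obtain ⟨n, hn⟩ := IsPGroup.iff_card.mp hM
  have h3 := card_mul_index ((center G).subgroupOf K)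
  rw [index_eq_card, hn, Nat.card_congr (subgroupOfEquivOfLe hle).toEquiv, hcardK] at h3
  -- `|Z(G)| * p ^ n = p * |Z(G/N)|`
  refine ordCompl_eq_of_mul_pow hp.out (i := 1) (j := n) ?_
  rw [pow_one, h3, mul_comm]

end Cfsg.Agent.Helper21.CHM
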