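import Mathlib
import Cfsg.Agent.Helper21.CHM2

/-!
Cossey–Hawkes–Mann, part 3: the condition `CP p G`
(`aP p G = |G|_p * |Z(G)|_{p'}`) holds in nilpotent groups, forces a normal Sylow `p`-subgroup,
and is determined by the multiset of class sizes.
-/

set_option autoImplicit false
set_option linter.unusedSectionVars false

universe u v

namespace Cfsg.Agent.Helper21.CHM

open Subgroup Cfsg.Agent.Helper1.ClsGraph
open scoped commutatorElement

section nilp

variable {G : Type*} [Group G]

/-- In a nilpotent group, a nontrivial normal subgroup contains a nontrivial central element. -/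
theorem exists_central_in_normal [Group.IsNilpotent G] (M : Subgroup G) [hMn : M.Normal]
    (hM : M ≠ ⊥) : ∃ z : G, z ∈ M ∧ z ≠ 1 ∧ z ∈ center G := by
  have key : ∀ n : ℕ, ∀ x : G, x ∈ M → x ≠ 1 → x ∈ Subgroup.upperCentralSeries G n →
      ∃ z : G, z ∈ M ∧ z ≠ 1 ∧ z ∈ center G := by
    intro n
    induction n with
    | zero =>
      intro x _ hx1 hx
      rw [Subgroup.upperCentralSeries_zero, mem_bot] at hx
      exact absurd hx hx1
    | succ n ih =>
      intro x hxM hx1 hx
      by_cases hc : x ∈ center G
      · exact ⟨x, hxM, hx1, hc⟩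
      · rw [mem_center_iff] at hc
        push Not at hc
        obtain ⟨y, hy⟩ := hc
        have hmem := Subgroup.mem_upperCentralSeries_succ_iff.mp hx y
        refine ih ⁅x, y⁆ ?_ ?_ hmem
        · rw [commutatorElement_def]
          have : x * y * x⁻¹ * y⁻¹ = x * (y * x⁻¹ * y⁻¹) := by group
          rw [this]
          exact M.mul_mem hxM (hMn.conj_mem _ (M.inv_mem hxM) y)
        · intro h
          apply hy
          rw [commutatorElement_eq_one_iff_mul_comm] at h
          exact h.symm
  obtain ⟨n, hn⟩ := Group.IsNilpotent.nilpotent' (G := G)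
  obtain ⟨x, hx1⟩ := (Subgroup.ne_bot_iff_exists_ne_one).mp hM
  refine key n x.1 x.2 ?_ (by rw [hn]; exact mem_top _)
  intro h
  exact hx1 (Subtype.ext h)

theorem dvd_card_center_of_nilpotent [Finite G] [hnil : Group.IsNilpotent G] (p : ℕ)
    [hp : Fact p.Prime] (h : p ∣ Nat.card G) : p ∣ Nat.card (center G) := by
  obtain ⟨P⟩ : Nonempty (Sylow p G) := inferInstance
  have htfae : Group.IsNilpotent G ↔
      ∀ (p : ℕ) (_hp : Fact p.Prime) (P : Sylow p G), (P : Subgroup G).Normal :=
    (Group.isNilpotent_of_finite_tfae (G := G)).out 0 3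
  have hPn : (P : Subgroup G).Normal := htfae.mp hnil p hp P
  have hPne : (P : Subgroup G) ≠ ⊥ := by
    intro hbot
    have h1 := P.card_eq_multiplicity
    rw [hbot, Subgroup.card_bot] at h1
    have hpos : 0 < (Nat.card G).factorization p :=
      hp.out.factorization_pos_of_dvd Nat.card_pos.ne' h
    have : 1 < p ^ (Nat.card G).factorization p := Nat.one_lt_pow hpos.ne' hp.out.one_lt
    omega
  obtain ⟨z, hzP, hz1, hzc⟩ := exists_central_in_normal (P : Subgroup G) hPne
  obtain ⟨k, hk⟩ := (IsPGroup.iff_orderOf.mp P.isPGroup') ⟨z, hzP⟩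
  rw [← Subgroup.orderOf_coe] at hk
  change orderOf z = p ^ k at hk
  have hk0 : k ≠ 0 := by
    intro h0
    rw [h0, pow_zero, orderOf_eq_one_iff] at hk
    exact hz1 hk
  have h2 : orderOf z ∣ Nat.card (center G) := by
    have := orderOf_dvd_natCard (⟨z, hzc⟩ : ↥(center G))
    rwa [← Subgroup.orderOf_coe] at this
  exact dvd_trans (by rw [hk]; exact dvd_pow_self p hk0) h2

end nilp

/-- the condition `C_p`: the number of elements of `p`-power class size is `|G|_p * |Z(G)|_{p'}` -/
def CP (p : ℕ) (G : Type*) [Group G] : Prop :=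
  aP p G = ordProj[p] (Nat.card G) * ordCompl[p] (Nat.card (center G))

section quot

variable {G : Type*} [Group G] [Finite G] {p : ℕ} [hp : Fact p.Prime]

theorem cp_quot_iff {N : Subgroup G} [N.Normal] (hN : N ≤ center G) (hcard : Nat.card N = p) :
    CP p G ↔ CP p (G ⧸ N) := by
  unfold CP
  have h1 : ordProj[p] (Nat.card (G ⧸ N) * p) = ordProj[p] (Nat.card (G ⧸ N)) * p := by
    rw [Nat.ordProj_mul p Nat.card_pos.ne' hp.out.ne_zero, hp.out.factorization_self, pow_one]
  rw [aP_quot hN hcard, card_quot (N := N) hcard, h1, ← ordCompl_card_center_quot hN hcard]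
  constructor
  · intro h
    apply Nat.eq_of_mul_eq_mul_left hp.out.pos
    rw [h]; ring
  · intro h
    rw [h]; ring

/-- a central subgroup is normal -/
theorem normal_of_le_center {N : Subgroup G} (hN : N ≤ center G) : N.Normal :=
  ⟨fun n hn g => by
    rw [mem_center_iff.mp (hN hn) g, mul_inv_cancel_right]; exact hn⟩

/-- if `p ∣ |Z(G)|` there is a central subgroup of order `p` -/
theorem exists_central_subgroup (h : p ∣ Nat.card (center G)) :
    ∃ N : Subgroup G, N ≤ center G ∧ Nat.card N = p := by
  obtain ⟨z, hz, hord⟩ := exists_central_of_dvd p h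
  exact ⟨zpowers z, zpowers_le.mpr hz, by rw [Nat.card_zpowers, hord]⟩

theorem card_quot_lt {N : Subgroup G} (hcard : Nat.card N = p) :
    Nat.card (G ⧸ N) < Nat.card G := by
  rw [card_quot (N := N) hcard]
  have h1 : 0 < Nat.card (G ⧸ N) := Nat.card_pos
  have h2 := hp.out.two_le
  nlinarith

end quot

/-- nilpotent groups satisfy `C_p` -/
theorem cp_of_nilpotent (p : ℕ) [hp : Fact p.Prime] : ∀ (n : ℕ) (H : Type u) [Group H] [Finite H],
    Nat.card H = n → Group.IsNilpotent H → CP p H := by
  intro n
  induction n using Nat.strong_induction_on with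
  | _ n ih =>
    intro H _ _ hn hnil
    by_cases hdvd : p ∣ Nat.card H
    · have hz := dvd_card_center_of_nilpotent p hdvd
      obtain ⟨N, hN, hcard⟩ := exists_central_subgroup (p := p) hz
      have : N.Normal := normal_of_le_center hN
      have hlt : Nat.card (H ⧸ N) < n := by rw [← hn]; exact card_quot_lt hcard
      exact (cp_quot_iff hN hcard).mpr (ih _ hlt (H ⧸ N) rfl inferInstance)
    · unfold CP
      have hdvd' : ¬ p ∣ Nat.card (center H) := fun h =>
        hdvd (dvd_trans h (Subgroup.card_subgroup_dvd_card _))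
      rw [Nat.factorization_eq_zero_of_not_dvd hdvd, Nat.factorization_eq_zero_of_not_dvd hdvd',
        pow_zero, one_mul, Nat.div_one]
      refine Nat.card_congr (Equiv.subtypeEquivRight (fun x => ?_))
      constructor
      · rintro ⟨k, hk⟩
        have hk0 : k = 0 := by
          by_contra hne
          apply hdvd
          have h1 : idx x ∣ Nat.card H := by rw [idx_def]; exact Subgroup.index_dvd_card _
          refine dvd_trans ?_ h1
          rw [hk]; exact dvd_pow_self p hne
        rw [← idx_eq_one_iff, hk, hk0, pow_zero]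
      · intro h
        exact ⟨0, by rw [pow_zero]; exact idx_eq_one_iff.mpr h⟩

/-- `C_p` forces the Sylow `p`-subgroups to be normal -/
theorem sylow_normal_of_cp (p : ℕ) [hp : Fact p.Prime] :
    ∀ (n : ℕ) (G : Type u) [Group G] [Finite G],
    Nat.card G = n → CP p G → ∀ P : Sylow p G, (P : Subgroup G).Normal := by
  intro n
  induction n using Nat.strong_induction_on with
  | _ n ih =>
    intro G _ _ hn hcp P
    by_cases hdvd : p ∣ Nat.card G
    · have hpos : 0 < (Nat.card G).factorization p :=
        hp.out.factorization_pos_of_dvd Nat.card_pos.ne' hdvd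
      have h1 : p ∣ aP p G := by
        rw [hcp]
        exact dvd_mul_of_dvd_left (dvd_pow_self p hpos.ne') _
      have hz := dvd_card_center_of_dvd_aP p h1
      obtain ⟨N, hN, hcard⟩ := exists_central_subgroup (p := p) hz
      have : N.Normal := normal_of_le_center hN
      have hlt : Nat.card (G ⧸ N) < n := by rw [← hn]; exact card_quot_lt hcard
      have hcpq : CP p (G ⧸ N) := (cp_quot_iff hN hcard).mp hcp
      obtain ⟨Q⟩ : Nonempty (Sylow p (G ⧸ N)) := inferInstance
      have hQn : (Q : Subgroup (G ⧸ N)).Normal := ih _ hlt (G ⧸ N) rfl hcpq Q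
      set M := (Q : Subgroup (G ⧸ N)).comap (QuotientGroup.mk' N) with hMdef
      have hMn : M.Normal := hQn.comap _
      have hMcard : Nat.card M = p ^ (Nat.card G).factorization p := by
        have h := QuotientGroup.card_preimage_mk N ((Q : Subgroup (G ⧸ N)) : Set (G ⧸ N))
        rw [hcard] at h
        have h2 : Nat.card M = p * Nat.card (Q : Subgroup (G ⧸ N)) := h
        rw [h2, Q.card_eq_multiplicity, card_quot (N := N) hcard,
          Nat.factorization_mul Nat.card_pos.ne' hp.out.ne_zero, Finsupp.add_apply,
          hp.out.factorization_self, pow_succ']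
      let PM : Sylow p G := Sylow.ofCard M hMcard
      have : (PM : Subgroup G).Normal := by
        rw [Sylow.coe_ofCard]; exact hMn
      obtain ⟨g, hg⟩ := MulAction.exists_smul_eq G PM P
      rw [Sylow.smul_eq_of_normal] at hg
      rw [← hg]
      infer_instance
    · have h1 := P.card_eq_multiplicity
      rw [Nat.factorization_eq_zero_of_not_dvd hdvd, pow_zero] at h1
      rw [Subgroup.eq_bot_of_card_eq _ h1]
      infer_instance

section transfer

/-- the number of elements with class size `k` is `k` times the number of classes of size `k` -/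
theorem card_idx_eq (G : Type*) [Group G] [Finite G] (k : ℕ) :
    Nat.card {x : G // idx x = k} =
      Nat.card {C : ConjClasses G // Nat.card C.carrier = k} * k := by
  have hcar : ∀ x : G, Nat.card (ConjClasses.mk x).carrier = idx x := by
    intro x
    rw [← ncard_conjugatesOf]
    rfl
  let f : {x : G // idx x = k} → {C : ConjClasses G // Nat.card C.carrier = k} :=
    fun x => ⟨ConjClasses.mk x.1, by rw [hcar]; exact x.2⟩
  have e2 : ∀ C, {x // f x = C} ≃ Fin k := fun C => Finite.equivFinOfCardEq (by
    refine (Nat.card_congr ?_).trans C.2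
    exact
      { toFun := fun x =>
          ⟨x.1.1, ConjClasses.mem_carrier_iff_mk_eq.mpr (congrArg Subtype.val x.2)⟩
        invFun := fun y =>
          ⟨⟨y.1, by
              have := ConjClasses.mem_carrier_iff_mk_eq.mp y.2
              rw [← hcar, this]; exact C.2⟩,
            Subtype.ext (ConjClasses.mem_carrier_iff_mk_eq.mp y.2)⟩
        left_inv := fun x => rfl
        right_inv := fun y => rfl })
  rw [Nat.card_congr ((Equiv.sigmaFiberEquiv f).symm.trans (Equiv.sigmaEquivProdOfEquiv e2)),
    Nat.card_prod, Nat.card_fin]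

/-- equal class-size multisets give a class-size preserving bijection -/
theorem exists_equiv {G : Type u} {H : Type v} [Group G] [Finite G] [Group H] [Finite H]
    (h : ∀ k : ℕ, Nat.card {C : ConjClasses G // Nat.card C.carrier = k} =
      Nat.card {C : ConjClasses H // Nat.card C.carrier = k}) :
    ∃ e : G ≃ H, ∀ x, idx (e x) = idx x := by
  have hk : ∀ k, Nat.card {x : G // idx x = k} = Nat.card {x : H // idx x = k} := by
    intro k; rw [card_idx_eq, card_idx_eq, h k]
  have F : ∀ k, {x : G // idx x = k} ≃ {x : H // idx x = k} :=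
    fun k => Classical.choice (Finite.card_eq.mp (hk k))
  refine ⟨(Equiv.sigmaFiberEquiv idx).symm.trans
    ((Equiv.sigmaCongrRight F).trans (Equiv.sigmaFiberEquiv idx)), fun x => ?_⟩
  exact (F (idx x) ⟨x, rfl⟩).2

/-- `C_p` transfers along a class-size preserving bijection -/
theorem cp_of_equiv {G : Type u} {H : Type v} [Group G] [Finite G] [Group H] [Finite H]
    (e : G ≃ H) (he : ∀ x, idx (e x) = idx x) (p : ℕ) (hH : CP p H) : CP p G := by
  unfold CP at hH ⊢
  have h1 : Nat.card G = Nat.card H := Nat.card_congr e
  have h2 : Nat.card (center G) = Nat.card (center H) := by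
    refine Nat.card_congr (e.subtypeEquiv (fun x => ?_))
    rw [← idx_eq_one_iff, ← idx_eq_one_iff, he]
  have h3 : aP p G = aP p H := by
    unfold aP
    refine Nat.card_congr (e.subtypeEquiv (fun x => ?_))
    rw [he]
  rw [h1, h2, h3]
  exact hH

end transfer

/-- Cossey–Hawkes–Mann -/
theorem nilpotent_of_same_class_sizes {G : Type u} {H : Type v} [Group G] [Finite G] [Group H]
    [Finite H] (hH : Group.IsNilpotent H)
    (h : ∀ k : ℕ, Nat.card {C : ConjClasses G // Nat.card C.carrier = k} =
      Nat.card {C : ConjClasses H // Nat.card C.carrier = k}) :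
    Group.IsNilpotent G := by
  obtain ⟨e, he⟩ := exists_equiv h
  have htfae : Group.IsNilpotent G ↔
      ∀ (p : ℕ) (_hp : Fact p.Prime) (P : Sylow p G), (P : Subgroup G).Normal :=
    (Group.isNilpotent_of_finite_tfae (G := G)).out 0 3
  refine htfae.mpr ?_
  intro p hp P
  exact sylow_normal_of_cp p _ G rfl
    (cp_of_equiv e he p (cp_of_nilpotent p _ H rfl hH)) P

end Cfsg.Agent.Helper21.CHM
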