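import Mathlib

set_option autoImplicit false
set_option linter.style.haveILetI false
set_option linter.unusedSectionVars false

namespace Cfsg.Agent.Helper21

open Subgroup

universe u v w

theorem finite_monoidHom (T : Type*) (X : Type*) [Group T] [Group X] [Finite T] [Finite X] :
    Finite (T →* X) := DFunLike.finite _

/-- Homs with kernel `N` correspond to injective homs from the quotient. -/
noncomputable def kerFiberEquiv {T : Type*} {X : Type*} [Group T] [Group X] (N : Subgroup T)
    [N.Normal] : {f : T →* X // f.ker = N} ≃ {g : T ⧸ N →* X // g.ker = ⊥} where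
  toFun f := ⟨QuotientGroup.lift N f.1 (by rw [f.2]), by
    rw [QuotientGroup.ker_lift, f.2, QuotientGroup.map_mk'_self]⟩
  invFun g := ⟨g.1.comp (QuotientGroup.mk' N), by
    rw [← MonoidHom.comap_ker, g.2, MonoidHom.comap_bot, QuotientGroup.ker_mk']⟩
  left_inv f := by
    apply Subtype.ext
    ext x
    rfl
  right_inv g := by
    apply Subtype.ext
    apply QuotientGroup.monoidHom_ext
    ext x
    rfl

/-- Hom-sets into a product. -/
def homProdEquiv (T A X : Type*) [Group T] [Group A] [Group X] :
    (T →* A × X) ≃ (T →* A) × (T →* X) where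
  toFun f := ((MonoidHom.fst A X).comp f, (MonoidHom.snd A X).comp f)
  invFun p := p.1.prod p.2
  left_inv f := MonoidHom.prod_unique f
  right_inv p := by
    apply Prod.ext
    · exact MonoidHom.fst_comp_prod p.1 p.2
    · exact MonoidHom.snd_comp_prod p.1 p.2

section
variable {X : Type u} {Y : Type v} [Group X] [Group Y] [Finite X] [Finite Y]

theorem card_hom_eq_sum (T : Type*) (X : Type*) [Group T] [Group X] [Finite T] [Finite X]
    [Fintype (Subgroup T)] :
    Nat.card (T →* X) = ∑ N : Subgroup T, Nat.card {f : T →* X // f.ker = N} := by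
  haveI := finite_monoidHom T X
  rw [← Nat.card_sigma]
  exact (Nat.card_congr (Equiv.sigmaFiberEquiv (fun f : T →* X => f.ker))).symm

/-- Equal numbers of homomorphisms from every finite group imply equal numbers of injective
homomorphisms. -/
theorem card_injHom_eq
    (hom_eq : ∀ (T : Type u) [Group T] [Finite T], Nat.card (T →* X) = Nat.card (T →* Y)) :
    ∀ n : ℕ, ∀ (T : Type u) [Group T] [Finite T], Nat.card T = n →
      Nat.card {f : T →* X // f.ker = ⊥} = Nat.card {f : T →* Y // f.ker = ⊥} := by
  intro n
  induction n using Nat.strong_induction_on with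
  | _ n ih =>
  intro T _ _ hT
  classical
  haveI : Fintype (Subgroup T) := Fintype.ofFinite _
  have hX := card_hom_eq_sum T X
  have hY := card_hom_eq_sum T Y
  rw [← Finset.add_sum_erase Finset.univ _ (Finset.mem_univ (⊥ : Subgroup T))] at hX hY
  have hrest : ∑ N ∈ Finset.univ.erase (⊥ : Subgroup T), Nat.card {f : T →* X // f.ker = N} =
      ∑ N ∈ Finset.univ.erase (⊥ : Subgroup T), Nat.card {f : T →* Y // f.ker = N} := by
    apply Finset.sum_congr rfl
    intro N hN
    have hNbot : N ≠ ⊥ := (Finset.mem_erase.mp hN).1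
    by_cases hNn : N.Normal
    · haveI := hNn
      rw [Nat.card_congr (kerFiberEquiv (X := X) N), Nat.card_congr (kerFiberEquiv (X := Y) N)]
      apply ih (Nat.card (T ⧸ N)) _ (T ⧸ N) rfl
      rw [← hT, Subgroup.card_eq_card_quotient_mul_card_subgroup N]
      have h1 : 1 < Nat.card N := by
        rw [Subgroup.one_lt_card_iff_ne_bot]
        exact hNbot
      have h2 : 0 < Nat.card (T ⧸ N) := Nat.card_pos
      nlinarith
    · have e1 : IsEmpty {f : T →* X // f.ker = N} := by
        constructor
        rintro ⟨f, hf⟩
        exact hNn (hf ▸ MonoidHom.normal_ker f)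
      have e2 : IsEmpty {f : T →* Y // f.ker = N} := by
        constructor
        rintro ⟨f, hf⟩
        exact hNn (hf ▸ MonoidHom.normal_ker f)
      rw [Nat.card_of_isEmpty, Nat.card_of_isEmpty]
  have := hom_eq T
  rw [hX, hY, hrest] at this
  exact Nat.add_right_cancel this

end

/-- **Cancellation** of a finite direct factor (Lovász). -/
theorem nonempty_mulEquiv_of_prod_mulEquiv {A : Type w} {X : Type u} {Y : Type v}
    [Group A] [Group X] [Group Y] [Finite A] [Finite X] [Finite Y] (e : A × X ≃* A × Y) :
    Nonempty (X ≃* Y) := by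
  have hom_eq : ∀ (T : Type u) [Group T] [Finite T], Nat.card (T →* X) = Nat.card (T →* Y) := by
    intro T _ _
    haveI := finite_monoidHom T A
    haveI := finite_monoidHom T X
    haveI := finite_monoidHom T Y
    have h1 : Nat.card (T →* A × X) = Nat.card (T →* A × Y) :=
      Nat.card_congr (MulEquiv.monoidHomCongrRightEquiv e)
    rw [Nat.card_congr (homProdEquiv T A X), Nat.card_congr (homProdEquiv T A Y), Nat.card_prod,
      Nat.card_prod] at h1
    have hpos : 0 < Nat.card (T →* A) := Nat.card_pos
    exact Nat.eq_of_mul_eq_mul_left hpos h1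
  have hcard : Nat.card X = Nat.card Y := by
    have := Nat.card_congr e.toEquiv
    rw [Nat.card_prod, Nat.card_prod] at this
    exact Nat.eq_of_mul_eq_mul_left Nat.card_pos this
  have hinj := card_injHom_eq hom_eq (Nat.card X) X rfl
  haveI := finite_monoidHom X X
  haveI := finite_monoidHom X Y
  have hpos : 0 < Nat.card {f : X →* X // f.ker = ⊥} := by
    haveI : Nonempty {f : X →* X // f.ker = ⊥} := ⟨⟨MonoidHom.id X, MonoidHom.ker_id⟩⟩
    exact Nat.card_pos
  rw [hinj] at hpos
  haveI : Nonempty {f : X →* Y // f.ker = ⊥} := (Nat.card_pos_iff.mp hpos).1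
  obtain ⟨f, hf⟩ := (inferInstance : Nonempty {f : X →* Y // f.ker = ⊥})
  have hfinj : Function.Injective f := (MonoidHom.ker_eq_bot_iff f).mp hf
  have hfbij : Function.Bijective f := by
    rw [Nat.bijective_iff_injective_and_card]
    exact ⟨hfinj, hcard⟩
  exact ⟨MulEquiv.ofBijective f hfbij⟩

end Cfsg.Agent.Helper21
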