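import Mathlib
import Cfsg.Agent.Helper1.ClsGraph1

/-!
Chen's lemma (centreless groups with the same set of class sizes, one of them with disconnected
prime graph, have the same order).  Part 1: general lemmas on class sizes and Sylow subgroups.
-/

set_option autoImplicit false
set_option linter.unusedSectionVars false

namespace Cfsg.Agent.Helper21.Chen

open Subgroup Cfsg.Agent.Helper1.ClsGraph

section basic

variable {G : Type*} [Group G]

/-- for commuting elements of coprime orders, `a` is a power of `a * b` -/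
theorem exists_pow_mul_eq_left {a b : G} (hc : Commute a b)
    (hcop : (orderOf a).Coprime (orderOf b)) : ∃ k : ℕ, (a * b) ^ k = a := by
  obtain ⟨j, hj⟩ := exists_pow_eq_self_of_coprime (x := a) (n := orderOf b) hcop.symm
  refine ⟨orderOf b * j, ?_⟩
  rw [pow_mul, hc.mul_pow, pow_orderOf_eq_one, mul_one, hj]

theorem cent_mul_le_left {a b : G} (hc : Commute a b)
    (hcop : (orderOf a).Coprime (orderOf b)) :
    centralizer ({a * b} : Set G) ≤ centralizer ({a} : Set G) := by
  obtain ⟨k, hk⟩ := exists_pow_mul_eq_left hc hcop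
  intro x hx
  rw [mem_centralizer_singleton_iff] at hx ⊢
  have h1 : Commute x (a * b) := hx
  have h2 : Commute x ((a * b) ^ k) := h1.pow_right k
  rw [hk] at h2
  exact h2

theorem cent_mul_le_right {a b : G} (hc : Commute a b)
    (hcop : (orderOf a).Coprime (orderOf b)) :
    centralizer ({a * b} : Set G) ≤ centralizer ({b} : Set G) := by
  have h := cent_mul_le_left hc.symm hcop.symm
  rw [hc.symm.eq] at h
  exact h

theorem idx_dvd_idx_mul_left {a b : G} (hc : Commute a b)
    (hcop : (orderOf a).Coprime (orderOf b)) : idx a ∣ idx (a * b) :=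
  index_dvd_of_le (cent_mul_le_left hc hcop)

theorem idx_dvd_idx_mul_right {a b : G} (hc : Commute a b)
    (hcop : (orderOf a).Coprime (orderOf b)) : idx b ∣ idx (a * b) :=
  index_dvd_of_le (cent_mul_le_right hc hcop)

theorem idx_one : idx (1 : G) = 1 := idx_eq_one_iff.mpr (one_mem _)

/-- Cauchy's theorem inside a subgroup -/
theorem exists_mem_orderOf_eq [Finite G] (K : Subgroup G) (s : ℕ) [hs : Fact s.Prime]
    (h : s ∣ Nat.card K) : ∃ x : G, x ∈ K ∧ orderOf x = s := by
  obtain ⟨x, hx⟩ := exists_prime_orderOf_dvd_card' s h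
  exact ⟨x.1, x.2, by rw [← hx]; exact Subgroup.orderOf_coe x⟩

end basic

section sylow

variable {G : Type*} [Group G] [Finite G] {p : ℕ} [hp : Fact p.Prime]

/-- an element of order `p` in the centre of a Sylow `p`-subgroup -/
theorem exists_center_sylow (P : Sylow p G) (h : p ∣ Nat.card G) :
    ∃ z : G, z ∈ (P : Subgroup G) ∧ orderOf z = p ∧ ∀ x ∈ (P : Subgroup G), x * z = z * x := by
  have hcard := P.card_eq_multiplicity
  have hpos : 0 < (Nat.card G).factorization p :=
    hp.out.factorization_pos_of_dvd Nat.card_pos.ne' h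
  have : Nontrivial ↥(P : Subgroup G) := by
    rw [← Finite.one_lt_card_iff_nontrivial, hcard]
    exact Nat.one_lt_pow hpos.ne' hp.out.one_lt
  have := P.isPGroup'.center_nontrivial
  have hpZ : IsPGroup p ↥(center ↥(P : Subgroup G)) := P.isPGroup'.to_subgroup _
  obtain ⟨n, hn⟩ := IsPGroup.iff_card.mp hpZ
  have hn0 : n ≠ 0 := by
    intro h0
    rw [h0, pow_zero] at hn
    have := Finite.one_lt_card_iff_nontrivial.mpr
      (inferInstance : Nontrivial ↥(center ↥(P : Subgroup G)))
    omega
  have hdvd : p ∣ Nat.card ↥(center ↥(P : Subgroup G)) := by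
    rw [hn]; exact dvd_pow_self p hn0
  obtain ⟨z, hz⟩ := exists_prime_orderOf_dvd_card' p hdvd
  refine ⟨((z : ↥(P : Subgroup G)) : G), (z : ↥(P : Subgroup G)).2, ?_, ?_⟩
  · rw [Subgroup.orderOf_coe, Subgroup.orderOf_coe, hz]
  · intro x hx
    have := mem_center_iff.mp z.2 ⟨x, hx⟩
    exact congrArg Subtype.val this

/-- an element centralized by a Sylow `p`-subgroup has class size prime to `p` -/
theorem not_dvd_idx_of_central (P : Sylow p G) {z : G}
    (hz : ∀ x ∈ (P : Subgroup G), x * z = z * x) : ¬ p ∣ idx z := by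
  have hle : (P : Subgroup G) ≤ centralizer ({z} : Set G) := by
    intro x hx
    rw [mem_centralizer_singleton_iff]
    exact hz x hx
  intro h
  exact P.not_dvd_index (dvd_trans h (index_dvd_of_le hle))

/-- if `p ∤ |g^G|` then some conjugate of `g` is centralized by the Sylow `p`-subgroup `P` -/
theorem exists_conj_mem_centralizer (P : Sylow p G) (g : G) (h : ¬ p ∣ idx g) :
    ∃ c : G, c⁻¹ * g * c ∈ centralizer ((P : Subgroup G) : Set G) := by
  set K := centralizer ({g} : Set G) with hK
  have hq : ¬ p ∣ Nat.card (G ⧸ K) := by rwa [← index_eq_card]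
  obtain ⟨a, ha⟩ := P.isPGroup'.nonempty_fixed_point_of_prime_not_dvd_card (G ⧸ K) hq
  induction a using QuotientGroup.induction_on with
  | H a =>
  refine ⟨a⁻¹, ?_⟩
  rw [mem_centralizer_iff]
  intro x hx
  have h1 := ha ⟨x, hx⟩
  change (x • (a : G ⧸ K)) = _ at h1
  rw [MulAction.Quotient.smul_mk, QuotientGroup.eq, smul_eq_mul] at h1
  -- `(x * a)⁻¹ * a ∈ K`
  have h2 := inv_mem h1
  have e : ((x * a)⁻¹ * a)⁻¹ = a⁻¹ * x * a := by group
  rw [e, hK, mem_centralizer_singleton_iff] at h2
  -- `a⁻¹ * x * a * g = g * (a⁻¹ * x * a)`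
  calc x * (a⁻¹⁻¹ * g * a⁻¹) = a * ((a⁻¹ * x * a) * g) * a⁻¹ := by group
    _ = a * (g * (a⁻¹ * x * a)) * a⁻¹ := by rw [h2]
    _ = a⁻¹⁻¹ * g * a⁻¹ * x := by group

/-- if `p` divides no class size then the Sylow `p`-subgroups are central -/
theorem sylow_le_center (P : Sylow p G) (h : ∀ g : G, ¬ p ∣ idx g) :
    (P : Subgroup G) ≤ center G := by
  have htop : centralizer ((P : Subgroup G) : Set G) = ⊤ :=
    eq_top_of_forall_conj_mem _ (fun g => exists_conj_mem_centralizer P g (h g))
  intro x hx
  rw [mem_center_iff]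
  intro g
  have hg : g ∈ centralizer ((P : Subgroup G) : Set G) := by rw [htop]; exact mem_top g
  rw [mem_centralizer_iff] at hg
  exact (hg x hx).symm

end sylow

end Cfsg.Agent.Helper21.Chen
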