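import Mathlib
import Cfsg.Agent.Helper21.Chen1

/-!
Chen's lemma, part 2: if every nontrivial class size of `G` divides `N = m₁ m₂`
(`m₁, m₂ > 1` coprime), is a multiple of `m₁` or of `m₂` but never of `N`, and `N ∣ |G|`,
then `|G| = N`.
-/

set_option autoImplicit false
set_option linter.unusedSectionVars false

namespace Cfsg.Agent.Helper21.Chen

open Subgroup Cfsg.Agent.Helper1.ClsGraph

/-- every class size divides `N = m₁ m₂`, none is a multiple of `N`, and every nontrivial
element has class size a multiple of `m₁` or of `m₂` -/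
structure Split (G : Type*) [Group G] (N m₁ m₂ : ℕ) : Prop where
  mul : m₁ * m₂ = N
  cop : m₁.Coprime m₂
  lt₁ : 1 < m₁
  lt₂ : 1 < m₂
  dvd : ∀ g : G, idx g ∣ N
  ndvd : ∀ g : G, ¬ N ∣ idx g
  typ : ∀ g : G, g ≠ 1 → m₁ ∣ idx g ∨ m₂ ∣ idx g
  card : N ∣ Nat.card G

namespace Split

variable {G : Type*} [Group G] [Finite G] {N m₁ m₂ : ℕ}

theorem symm (S : Split G N m₁ m₂) : Split G N m₂ m₁ :=
  ⟨by rw [mul_comm]; exact S.mul, S.cop.symm, S.lt₂, S.lt₁, S.dvd, S.ndvd,
    fun g hg => (S.typ g hg).symm, S.card⟩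

theorem N_ne_zero (S : Split G N m₁ m₂) : N ≠ 0 := by
  intro h
  have := S.card
  rw [h, zero_dvd_iff] at this
  exact Nat.card_pos.ne' this

theorem m₁_ne_zero (S : Split G N m₁ m₂) : m₁ ≠ 0 := by have := S.lt₁; omega

theorem m₂_ne_zero (S : Split G N m₁ m₂) : m₂ ≠ 0 := by have := S.lt₂; omega

theorem excl (S : Split G N m₁ m₂) (g : G) (h₁ : m₁ ∣ idx g) (h₂ : m₂ ∣ idx g) : False := by
  apply S.ndvd g
  rw [← S.mul]
  exact S.cop.mul_dvd_of_dvd_of_dvd h₁ h₂

theorem no_commute (S : Split G N m₁ m₂) {a b : G} (hc : Commute a b) {r s : ℕ}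
    (ha : orderOf a = r) (hb : orderOf b = s) (hr : r.Prime) (hs : s.Prime) (hrs : r ≠ s)
    (hA : m₂ ∣ idx a) (hB : m₁ ∣ idx b) : False := by
  have hcop : (orderOf a).Coprime (orderOf b) := by
    rw [ha, hb]; exact (Nat.coprime_primes hr hs).mpr hrs
  exact S.excl (a * b) (dvd_trans hB (idx_dvd_idx_mul_right hc hcop))
    (dvd_trans hA (idx_dvd_idx_mul_left hc hcop))

theorem not_dvd_m₂ (S : Split G N m₁ m₂) {p : ℕ} (hp : p.Prime) (hp₁ : p ∣ m₁) : ¬ p ∣ m₂ := by
  intro h
  have h1 := Nat.dvd_gcd hp₁ h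
  rw [S.cop.gcd_eq_one] at h1
  exact hp.one_lt.ne' (Nat.dvd_one.mp h1)

theorem fact_m₁ (S : Split G N m₁ m₂) {p : ℕ} (hp : p.Prime) (hp₁ : p ∣ m₁) :
    N.factorization p = m₁.factorization p := by
  rw [← S.mul, Nat.factorization_mul S.m₁_ne_zero S.m₂_ne_zero, Finsupp.add_apply,
    Nat.factorization_eq_zero_of_not_dvd (S.not_dvd_m₂ hp hp₁), add_zero]

theorem val (S : Split G N m₁ m₂) {p : ℕ} (hp : p.Prime) (hp₁ : p ∣ m₁) {g : G}
    (hg : m₁ ∣ idx g) : (idx g).factorization p = N.factorization p := by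
  have h0 : idx g ≠ 0 := idx_ne_zero g
  apply le_antisymm
  · exact (Nat.factorization_le_iff_dvd h0 S.N_ne_zero).mpr (S.dvd g) p
  · rw [S.fact_m₁ hp hp₁]
    exact (Nat.factorization_le_iff_dvd S.m₁_ne_zero h0).mpr hg p

omit [Finite G] in
theorem fact_cent [Finite G] (g : G) (p : ℕ) :
    (Nat.card (centralizer ({g} : Set G))).factorization p + (idx g).factorization p =
      (Nat.card G).factorization p := by
  have h := card_mul_index (centralizer ({g} : Set G))
  have h0 : (centralizer ({g} : Set G)).index ≠ 0 := idx_ne_zero g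
  rw [← h, Nat.factorization_mul Nat.card_pos.ne' h0, Finsupp.add_apply]
  rfl

theorem center_eq_bot (S : Split G N m₁ m₂) : center G = ⊥ := by
  rw [eq_bot_iff]
  intro g hg
  rw [mem_bot]
  by_contra h1
  have hidx : idx g = 1 := idx_eq_one_iff.mpr hg
  rcases S.typ g h1 with h | h
  · rw [hidx] at h
    have h2 := Nat.dvd_one.mp h
    have := S.lt₁
    omega
  · rw [hidx] at h
    have h2 := Nat.dvd_one.mp h
    have := S.lt₂
    omega

theorem not_dvd_card (S : Split G N m₁ m₂) (p : ℕ) [hp : Fact p.Prime] (hpN : ¬ p ∣ N) :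
    ¬ p ∣ Nat.card G := by
  intro hpG
  obtain ⟨P⟩ : Nonempty (Sylow p G) := inferInstance
  have hle := sylow_le_center P (fun g h => hpN (dvd_trans h (S.dvd g)))
  rw [S.center_eq_bot, le_bot_iff] at hle
  have hcard := P.card_eq_multiplicity
  rw [hle, card_bot] at hcard
  have hpos := hp.out.factorization_pos_of_dvd Nat.card_pos.ne' hpG
  have := Nat.one_lt_pow hpos.ne' hp.out.one_lt
  omega

/-- the key step: the `p`-part of `|G|` is at most that of `N` for `p ∣ m₁` -/
theorem main (S : Split G N m₁ m₂) (p : ℕ) [hp : Fact p.Prime] (hp₁ : p ∣ m₁) :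
    (Nat.card G).factorization p ≤ N.factorization p := by
  by_contra hlt
  rw [not_le] at hlt
  -- a prime `q ∣ m₂`
  obtain ⟨q, hq, hq₂⟩ := Nat.exists_prime_and_dvd (ne_of_gt S.lt₂)
  have : Fact q.Prime := ⟨hq⟩
  have hqp : q ≠ p := fun h => S.not_dvd_m₂ hp.out hp₁ (h ▸ hq₂)
  have hm₂N : m₂ ∣ N := Dvd.intro_left m₁ S.mul
  have hqG : q ∣ Nat.card G := dvd_trans (dvd_trans hq₂ hm₂N) S.card
  -- `y` of order `q` central in a Sylow `q`-subgroup
  obtain ⟨Q⟩ : Nonempty (Sylow q G) := inferInstance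
  obtain ⟨y, -, hyo, hyc⟩ := exists_center_sylow Q hqG
  have hy1 : y ≠ 1 := by
    intro h; rw [h, orderOf_one] at hyo; exact hq.one_lt.ne hyo
  have hyq : ¬ q ∣ idx y := not_dvd_idx_of_central Q hyc
  have hyB : m₁ ∣ idx y := (S.typ y hy1).resolve_right (fun h => hyq (dvd_trans hq₂ h))
  -- an element `u` of order `p` commuting with `y`
  have hCy : p ∣ Nat.card (centralizer ({y} : Set G)) := by
    have h1 := fact_cent y p
    rw [S.val hp.out hp₁ hyB] at h1
    apply Nat.dvd_of_factorization_pos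
    omega
  obtain ⟨u, huC, huo⟩ := exists_mem_orderOf_eq _ p hCy
  have huy : Commute u y := by
    rw [mem_centralizer_singleton_iff] at huC; exact huC
  have hu1 : u ≠ 1 := by
    intro h; rw [h, orderOf_one] at huo; exact hp.out.one_lt.ne huo
  have huB : m₁ ∣ idx u := (S.typ u hu1).resolve_right
    (fun h => S.no_commute huy huo hyo hp.out hq (Ne.symm hqp) h hyB)
  -- a prime `s ∣ m₂` dividing `|C_G(u)|`
  have hnd : ¬ m₂ ∣ idx u := fun h => S.excl u huB h
  rw [← Nat.factorization_le_iff_dvd S.m₂_ne_zero (idx_ne_zero u), Finsupp.le_def] at hnd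
  push Not at hnd
  obtain ⟨s, hs⟩ := hnd
  have hsprime : s.Prime := by
    by_contra hns
    rw [Nat.factorization_eq_zero_of_not_prime m₂ hns] at hs
    omega
  have : Fact s.Prime := ⟨hsprime⟩
  have hs₂ : s ∣ m₂ := Nat.dvd_of_factorization_pos (by omega)
  have hsp : s ≠ p := fun h => S.not_dvd_m₂ hp.out hp₁ (h ▸ hs₂)
  have hsT : s ∣ Nat.card (centralizer ({u} : Set G)) := by
    have h1 := fact_cent u s
    have h2 : m₂.factorization s ≤ (Nat.card G).factorization s :=
      (Nat.factorization_le_iff_dvd S.m₂_ne_zero Nat.card_pos.ne').mpr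
        (dvd_trans hm₂N S.card) s
    apply Nat.dvd_of_factorization_pos
    omega
  obtain ⟨h, hhC, hho⟩ := exists_mem_orderOf_eq _ s hsT
  have hhu : Commute h u := by
    rw [mem_centralizer_singleton_iff] at hhC; exact hhC
  have hh1 : h ≠ 1 := by
    intro h'; rw [h', orderOf_one] at hho; exact hsprime.one_lt.ne hho
  have hhB : m₁ ∣ idx h := (S.typ h hh1).resolve_right
    (fun h' => S.no_commute hhu hho huo hsprime hp.out hsp h' huB)
  -- the element `g = h * u`
  have hcop : (orderOf h).Coprime (orderOf u) := by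
    rw [hho, huo]; exact (Nat.coprime_primes hsprime hp.out).mpr hsp
  have hgB : m₁ ∣ idx (h * u) := dvd_trans huB (idx_dvd_idx_mul_right hhu hcop)
  have hDu : centralizer ({h * u} : Set G) ≤ centralizer ({u} : Set G) :=
    cent_mul_le_right hhu hcop
  have hDh : centralizer ({h * u} : Set G) ≤ centralizer ({h} : Set G) :=
    cent_mul_le_left hhu hcop
  set D := centralizer ({h * u} : Set G) with hD
  set T := centralizer ({u} : Set G) with hT
  have hfD : (Nat.card D).factorization p + N.factorization p = (Nat.card G).factorization p := by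
    have h1 := fact_cent (h * u) p
    rwa [S.val hp.out hp₁ hgB] at h1
  have hfT : (Nat.card T).factorization p + N.factorization p = (Nat.card G).factorization p := by
    have h1 := fact_cent u p
    rwa [S.val hp.out hp₁ huB] at h1
  -- a Sylow `p`-subgroup of `D` containing `u`
  have huD : u ∈ D := by
    rw [hD, mem_centralizer_singleton_iff]
    calc u * (h * u) = (u * h) * u := by group
      _ = (h * u) * u := by rw [hhu.eq]
  have hUp : IsPGroup p ↥(zpowers (⟨u, huD⟩ : ↥D)) := by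
    apply IsPGroup.of_card (n := 1)
    rw [Nat.card_zpowers, pow_one, ← huo]
    exact (Subgroup.orderOf_coe (⟨u, huD⟩ : ↥D)).symm
  obtain ⟨SD, hSD⟩ := hUp.exists_le_sylow
  set SG : Subgroup G := (SD : Subgroup ↥D).map D.subtype with hSG
  have hSGcard : Nat.card SG = p ^ (Nat.card D).factorization p := by
    rw [hSG, card_map_of_injective D.subtype_injective]
    exact SD.card_eq_multiplicity
  have hSGp : IsPGroup p SG := SD.isPGroup'.map D.subtype
  have hSGD : SG ≤ D := by
    rw [hSG]; exact map_subtype_le _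
  have huSG : u ∈ SG := by
    rw [hSG, mem_map]
    exact ⟨⟨u, huD⟩, hSD (mem_zpowers _), rfl⟩
  -- a Sylow `p`-subgroup `P` of `G` containing `SG`, and `z` of order `p` in its centre
  obtain ⟨P, hP⟩ := hSGp.exists_le_sylow
  have hpG : p ∣ Nat.card G := by
    apply Nat.dvd_of_factorization_pos
    omega
  obtain ⟨z, hzP, hzo, hzc⟩ := exists_center_sylow P hpG
  have hz1 : z ≠ 1 := by
    intro h'; rw [h', orderOf_one] at hzo; exact hp.out.one_lt.ne hzo
  have hzp : ¬ p ∣ idx z := not_dvd_idx_of_central P hzc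
  have hzA : m₂ ∣ idx z := (S.typ z hz1).resolve_left (fun h' => hzp (dvd_trans hp₁ h'))
  have hzT : z ∈ T := by
    rw [hT, mem_centralizer_singleton_iff]
    exact (hzc u (hP huSG)).symm
  -- `SG ⊔ ⟨z⟩` is a `p`-subgroup of `T`, hence equals `SG`
  have h3le : SG ⊔ zpowers z ≤ (P : Subgroup G) := sup_le hP (zpowers_le.mpr hzP)
  have h3p : IsPGroup p ↥(SG ⊔ zpowers z) := P.isPGroup'.to_le h3le
  have h3T : SG ⊔ zpowers z ≤ T := sup_le (hSGD.trans hDu) (zpowers_le.mpr hzT)
  obtain ⟨j, hj⟩ := IsPGroup.iff_card.mp h3p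
  have hjle : j ≤ (Nat.card T).factorization p := by
    rw [← Nat.Prime.pow_dvd_iff_le_factorization hp.out Nat.card_pos.ne', ← hj]
    exact card_dvd_of_le h3T
  have hcardle : Nat.card ↥(SG ⊔ zpowers z) ≤ Nat.card SG := by
    rw [hj, hSGcard]
    apply Nat.pow_le_pow_right hp.out.pos
    omega
  have heq : SG = SG ⊔ zpowers z := eq_of_le_of_card_ge le_sup_left hcardle
  have hzSG : z ∈ SG := by
    rw [heq]; exact (le_sup_right : zpowers z ≤ SG ⊔ zpowers z) (mem_zpowers z)
  have hzh : Commute z h := by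
    have := hDh (hSGD hzSG)
    rw [mem_centralizer_singleton_iff] at this
    exact this
  exact S.no_commute hzh hzo hho hp.out hsprime (Ne.symm hsp) hzA hhB

/-- Chen's lemma in arithmetic form -/
theorem card_eq (S : Split G N m₁ m₂) : Nat.card G = N := by
  apply Nat.dvd_antisymm _ S.card
  rw [← Nat.factorization_prime_le_iff_dvd Nat.card_pos.ne' S.N_ne_zero]
  intro p hp
  have : Fact p.Prime := ⟨hp⟩
  by_cases h₁ : p ∣ m₁
  · exact S.main p h₁
  · by_cases h₂ : p ∣ m₂
    · exact S.symm.main p h₂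
    · have hpN : ¬ p ∣ N := by
        rw [← S.mul, hp.dvd_mul]
        push Not
        exact ⟨h₁, h₂⟩
      rw [Nat.factorization_eq_zero_of_not_dvd (S.not_dvd_card p hpN)]
      exact Nat.zero_le _

end Split

end Cfsg.Agent.Helper21.Chen
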