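import Mathlib
import Cfsg.Agent.Helper21.Chen2

/-!
Chen's lemma, part 3: a group with disconnected prime graph has all nontrivial class sizes
divisible by one of two coprime numbers `m₁, m₂` with `m₁ m₂ = |M|`; transfer to a centreless
group with the same set of class sizes.
-/

set_option autoImplicit false
set_option linter.unusedSectionVars false

universe u v

namespace Cfsg.Agent.Helper21.Chen

open Subgroup Cfsg.Agent.Helper1.ClsGraph

section disc

variable {M : Type*} [Group M] [Finite M] {P Q : ℕ → Prop} {m₁ m₂ : ℕ}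

/-- if `g` has a power of prime order `a` with `P a`, and no element has order `a * b` with
`Q b`, then the `Q`-part `m₂` of `|M|` divides the class size of `g` -/
theorem dvd_idx_of_prime (hdisj : ∀ r : ℕ, r.Prime → P r → Q r → False)
    (hPQ : ∀ r : ℕ, r.Prime → P r ∨ Q r)
    (hno : ∀ a b : ℕ, a.Prime → b.Prime → P a → Q b → a ∣ Nat.card M → b ∣ Nat.card M →
      ¬ ∃ x : M, orderOf x = a * b)
    (hmul : Nat.card M = m₁ * m₂) (h₂ : IsPi Q m₂)
    (g : M) {a : ℕ} (ha : a.Prime) (hag : a ∣ orderOf g) (hPa : P a) : m₂ ∣ idx g := by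
  have haM : a ∣ Nat.card M := dvd_trans hag (orderOf_dvd_natCard g)
  set h := g ^ (orderOf g / a) with hh
  have hho : orderOf h = a := orderOf_pow_orderOf_div (orderOf_pos g).ne' hag
  -- the centralizer of `h` is a `P`-group
  have hCh : IsPi P (Nat.card (centralizer ({h} : Set M))) := by
    intro b hb hbd
    rcases hPQ b hb with hPb | hQb
    · exact hPb
    · exfalso
      have : Fact b.Prime := ⟨hb⟩
      have hbM : b ∣ Nat.card M := dvd_trans hbd (card_subgroup_dvd_card _)
      obtain ⟨y, hyC, hyo⟩ := exists_mem_orderOf_eq _ b hbd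
      have hc : Commute h y := by
        rw [mem_centralizer_singleton_iff] at hyC; exact hyC.symm
      have hab : a ≠ b := fun e => hdisj a ha hPa (e ▸ hQb)
      have hcop : (orderOf h).Coprime (orderOf y) := by
        rw [hho, hyo]; exact (Nat.coprime_primes ha hb).mpr hab
      apply hno a b ha hb hPa hQb haM hbM
      refine ⟨h * y, ?_⟩
      rw [hc.orderOf_mul_eq_mul_orderOf_of_coprime hcop, hho, hyo]
  -- hence so is the centralizer of `g`
  have hle : centralizer ({g} : Set M) ≤ centralizer ({h} : Set M) := by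
    intro x hx
    rw [mem_centralizer_singleton_iff] at hx ⊢
    have h1 : Commute x g := hx
    exact h1.pow_right _
  have hCg : IsPi P (Nat.card (centralizer ({g} : Set M))) := hCh.of_dvd (card_dvd_of_le hle)
  have hcop : Nat.Coprime m₂ (Nat.card (centralizer ({g} : Set M))) :=
    IsPi.coprime (fun r hr hQ hP => hdisj r hr hP hQ) h₂ hCg
  have hmul' := card_mul_index (centralizer ({g} : Set M))
  apply hcop.dvd_of_dvd_mul_left
  change m₂ ∣ Nat.card (centralizer ({g} : Set M)) * (centralizer ({g} : Set M)).index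
  rw [hmul', hmul]
  exact dvd_mul_left _ _

end disc

/-- Chen's lemma -/
theorem card_eq_of_same_class_sizes {G : Type u} {M : Type v} [Group G] [Finite G] [Group M]
    [Finite M] (hZG : center G = ⊥)
    (h : Set.range (fun g : G => (centralizer ({g} : Set G)).index) =
      Set.range (fun g : M => (centralizer ({g} : Set M)).index))
    (hdisc : ∃ A : Set ℕ, (∃ a ∈ A, a.Prime ∧ a ∣ Nat.card M) ∧
      (∃ b ∉ A, b.Prime ∧ b ∣ Nat.card M) ∧
      ∀ a ∈ A, ∀ b ∉ A, a.Prime → b.Prime → a ∣ Nat.card M → b ∣ Nat.card M →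
        ¬ ∃ x : M, orderOf x = a * b) :
    Nat.card G = Nat.card M := by
  obtain ⟨A, ⟨a, haA, ha, haM⟩, ⟨b, hbA, hb, hbM⟩, hno⟩ := hdisc
  have hPQ : ∀ r : ℕ, r.Prime → (r ∈ A) ∨ (r ∉ A) := fun r _ => Classical.em _
  have hdisj : ∀ r : ℕ, r.Prime → r ∈ A → r ∉ A → False := fun _ _ h1 h2 => h2 h1
  obtain ⟨m₁, m₂, hmul, h₁, h₂⟩ :=
    exists_isPi_split (P := fun r => r ∈ A) (Q := fun r => r ∉ A) hPQ (Nat.card M)
      Nat.card_pos.ne'
  have hm₁0 : m₁ ≠ 0 := fun e => Nat.card_pos.ne' (by rw [hmul, e, zero_mul])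
  have hm₂0 : m₂ ≠ 0 := fun e => Nat.card_pos.ne' (by rw [hmul, e, mul_zero])
  have hcop : m₁.Coprime m₂ := IsPi.coprime hdisj h₁ h₂
  -- the two kinds of elements of `M`
  have hnoA : ∀ a b : ℕ, a.Prime → b.Prime → a ∈ A → b ∉ A → a ∣ Nat.card M → b ∣ Nat.card M →
      ¬ ∃ x : M, orderOf x = a * b := fun a b ha hb haA hbA => hno a haA b hbA ha hb
  have hnoB : ∀ a b : ℕ, a.Prime → b.Prime → a ∉ A → b ∈ A → a ∣ Nat.card M → b ∣ Nat.card M →
      ¬ ∃ x : M, orderOf x = a * b := by
    intro a b ha hb haA hbA haM hbM hx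
    apply hno b hbA a haA hb ha hbM haM
    obtain ⟨x, hx⟩ := hx
    exact ⟨x, by rw [hx, mul_comm]⟩
  have hA : ∀ (g : M) {a : ℕ}, a.Prime → a ∣ orderOf g → a ∈ A → m₂ ∣ idx g :=
    fun g a ha hag haA => dvd_idx_of_prime (P := fun r => r ∈ A) (Q := fun r => r ∉ A)
      hdisj hPQ hnoA hmul h₂ g ha hag haA
  have hB : ∀ (g : M) {a : ℕ}, a.Prime → a ∣ orderOf g → a ∉ A → m₁ ∣ idx g :=
    fun g a ha hag haA => dvd_idx_of_prime (P := fun r => r ∉ A) (Q := fun r => r ∈ A)
      (fun r hr h1 h2 => h1 h2) (fun r hr => (hPQ r hr).symm) hnoB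
      (by rw [hmul, mul_comm]) h₁ g ha hag haA
  -- existence of both kinds
  have hex₂ : ∃ g : M, m₂ ∣ idx g := by
    have : Fact a.Prime := ⟨ha⟩
    obtain ⟨g, hg⟩ := exists_prime_orderOf_dvd_card' a haM
    exact ⟨g, hA g ha (by rw [hg]) haA⟩
  have hex₁ : ∃ g : M, m₁ ∣ idx g := by
    have : Fact b.Prime := ⟨hb⟩
    obtain ⟨g, hg⟩ := exists_prime_orderOf_dvd_card' b hbM
    exact ⟨g, hB g hb (by rw [hg]) hbA⟩
  have hlt₁ : 1 < m₁ := by
    obtain ⟨g, hg⟩ := hex₁
    rcases Nat.lt_or_ge 1 m₁ with h' | h'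
    · exact h'
    · exfalso
      have e : m₁ = 1 := by omega
      -- then `b ∣ m₂`, fine; use instead `a`: `a ∣ m₁ * m₂`
      rw [e, one_mul] at hmul
      rw [hmul] at haM
      exact h₂ a ha haM haA
  have hlt₂ : 1 < m₂ := by
    rcases Nat.lt_or_ge 1 m₂ with h' | h'
    · exact h'
    · exfalso
      have e : m₂ = 1 := by omega
      rw [e, mul_one] at hmul
      rw [hmul] at hbM
      exact hbA (h₁ b hb hbM)
  -- properties of class sizes in `M`
  have htypM : ∀ g : M, g ≠ 1 → m₁ ∣ idx g ∨ m₂ ∣ idx g := by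
    intro g hg
    have ho : orderOf g ≠ 1 := fun e => hg (orderOf_eq_one_iff.mp e)
    obtain ⟨r, hr, hrg⟩ := Nat.exists_prime_and_dvd ho
    by_cases hrA : r ∈ A
    · exact Or.inr (hA g hr hrg hrA)
    · exact Or.inl (hB g hr hrg hrA)
  have hdvdM : ∀ g : M, idx g ∣ Nat.card M := fun g => index_dvd_card _
  have hndvdM : ∀ g : M, ¬ Nat.card M ∣ idx g := by
    intro g hd
    have hmul' := card_mul_index (centralizer ({g} : Set M))
    have hle : Nat.card M ≤ idx g := Nat.le_of_dvd (Nat.pos_of_ne_zero (idx_ne_zero g)) hd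
    have hcpos : 0 < Nat.card (centralizer ({g} : Set M)) := Nat.card_pos
    have hidx : (centralizer ({g} : Set M)).index = idx g := rfl
    have hc1 : Nat.card (centralizer ({g} : Set M)) = 1 := by
      rw [hidx] at hmul'
      nlinarith
    have hbot : centralizer ({g} : Set M) = ⊥ := Subgroup.eq_bot_of_card_eq _ hc1
    have hg1 : g = 1 := by
      have : g ∈ centralizer ({g} : Set M) := by
        rw [mem_centralizer_singleton_iff]
      rw [hbot, mem_bot] at this
      exact this
    rw [hg1, idx_one] at hd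
    have := Nat.dvd_one.mp hd
    rw [hmul] at this
    have := Nat.eq_one_of_mul_eq_one_right this
    omega
  -- transfer to `G`
  have htr : ∀ g : G, ∃ g' : M, idx g' = idx g := by
    intro g
    have h1 : idx g ∈ Set.range (fun g : G => (centralizer ({g} : Set G)).index) := ⟨g, rfl⟩
    rw [h] at h1
    exact h1
  have htr' : ∀ g' : M, ∃ g : G, idx g = idx g' := by
    intro g'
    have h1 : idx g' ∈ Set.range (fun g : M => (centralizer ({g} : Set M)).index) := ⟨g', rfl⟩
    rw [← h] at h1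
    exact h1
  have S : Split G (Nat.card M) m₁ m₂ := by
    refine ⟨hmul.symm, hcop, hlt₁, hlt₂, ?_, ?_, ?_, ?_⟩
    · intro g
      obtain ⟨g', hg'⟩ := htr g
      rw [← hg']; exact hdvdM g'
    · intro g
      obtain ⟨g', hg'⟩ := htr g
      rw [← hg']; exact hndvdM g'
    · intro g hg
      obtain ⟨g', hg'⟩ := htr g
      rw [← hg']
      apply htypM
      intro e
      rw [e, idx_one] at hg'
      have : g ∈ center G := idx_eq_one_iff.mp hg'.symm
      rw [hZG, mem_bot] at this
      exact hg this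
    · rw [hmul]
      apply hcop.mul_dvd_of_dvd_of_dvd
      · obtain ⟨g', hg'⟩ := hex₁
        obtain ⟨g, hg⟩ := htr' g'
        exact dvd_trans (hg ▸ hg') (index_dvd_card _)
      · obtain ⟨g', hg'⟩ := hex₂
        obtain ⟨g, hg⟩ := htr' g'
        exact dvd_trans (hg ▸ hg') (index_dvd_card _)
  exact S.card_eq

end Cfsg.Agent.Helper21.Chen
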