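import Mathlib
import Cfsg.Agent.Lead.Gaschutz

/-!
Crossed homomorphisms into an abelian normal subgroup (helper21).  The corestriction construction
`exists_cores` is extracted from the proof of `Cfsg.Agent.Lead.exists_complement_of_crossedHom`.
-/

set_option autoImplicit false
open Pointwise

namespace Cfsg.Agent.Helper21.CrossedHom

open Subgroup Cfsg.Agent.Lead
open scoped IsMulCommutative

variable {G : Type*} [Group G]

/-- `c : G → K` is a crossed homomorphism for the conjugation action of `G` on the normal subgroup `K`. -/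
def IsCrossed (K : Subgroup G) [K.Normal] (c : G → K) : Prop :=
  ∀ g g' : G, c (g * g') = c g * MulAut.conjNormal g (c g')

/-- Corestriction: a crossed homomorphism `κ : U → K` that is the identity on `K` yields a crossed
homomorphism `c : G → K` with `c k = k ^ [G : U]` on `K`. -/
theorem exists_cores [Finite G] (K U : Subgroup G) [K.Normal]
    [IsMulCommutative K] (hKU : K ≤ U)
    (κ : U → K) (hκmul : ∀ u u' : U, κ (u * u') = κ u * MulAut.conjNormal (u : G) (κ u'))
    (hκK : ∀ k : K, κ ⟨k, hKU k.2⟩ = k) :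
    ∃ c : G → K, IsCrossed K c ∧ ∀ k : K, c k = k ^ U.index := by
  classical
  let _ := Fintype.ofFinite (G ⧸ U)
  obtain ⟨uu, huudef⟩ : ∃ uu : G → G ⧸ U → U, ∀ g q,
      ((uu g q : U) : G) = (Quotient.out (g • q))⁻¹ * (g * Quotient.out q) :=
    ⟨fun g q => ⟨_, out_smul_inv_mul_mem U g q⟩, fun g q => rfl⟩
  obtain ⟨c, hc⟩ : ∃ c : G → K, ∀ g, c g =
      ∏ q : G ⧸ U, MulAut.conjNormal (Quotient.out (g • q)) (κ (uu g q)) := ⟨_, fun g => rfl⟩
  have huu : ∀ g g' q, uu (g * g') q = uu g (g' • q) * uu g' q := by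
    intro g g' q
    apply Subtype.ext
    rw [Subgroup.coe_mul, huudef, huudef, huudef, mul_smul]
    group
  have hcmul : ∀ g g', c (g * g') = c g * MulAut.conjNormal g (c g') := by
    intro g g'
    rw [hc, hc, hc, map_prod]
    have hre := Equiv.prod_comp (MulAction.toPerm g' : Equiv.Perm (G ⧸ U))
      (fun q : G ⧸ U => MulAut.conjNormal (Quotient.out (g • q)) (κ (uu g q)))
    simp only [MulAction.toPerm_apply] at hre
    rw [← hre, ← Finset.prod_mul_distrib]
    apply Finset.prod_congr rfl
    intro q _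
    rw [huu, hκmul, map_mul, mul_smul]
    congr 1
    rw [← MulAut.mul_apply, ← MulAut.mul_apply, ← map_mul, ← map_mul]
    congr 2
    rw [huudef]; group
  have hcK : ∀ k : K, c k = k ^ U.index := by
    intro k
    have hterm : ∀ q : G ⧸ U,
        MulAut.conjNormal (Quotient.out ((k : G) • q)) (κ (uu k q)) = k := by
      intro q
      have hkq : (k : G) • q = q := by
        conv_lhs => rw [← QuotientGroup.out_eq' q]
        conv_rhs => rw [← QuotientGroup.out_eq' q]
        change ((↑((k : G) * Quotient.out q) : G ⧸ U)) = ↑(Quotient.out q)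
        rw [eq_comm, QuotientGroup.eq]
        have e : (Quotient.out q)⁻¹ * ((k : G) * Quotient.out q) =
            (Quotient.out q)⁻¹ * k * ((Quotient.out q)⁻¹)⁻¹ := by group
        rw [e]
        exact hKU (Normal.conj_mem inferInstance _ k.2 _)
      obtain ⟨r, hr⟩ : ∃ r : G, r = Quotient.out q := ⟨_, rfl⟩
      have hmem : r⁻¹ * (k : G) * r ∈ K := by
        have := Normal.conj_mem (inferInstance : K.Normal) _ k.2 r⁻¹
        rwa [inv_inv] at this
      have h1 : uu k q = ⟨r⁻¹ * (k : G) * r, hKU hmem⟩ := by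
        apply Subtype.ext
        rw [huudef, hkq, ← hr]; group
      rw [h1, hκK ⟨r⁻¹ * (k : G) * r, hmem⟩, hkq, ← hr]
      apply Subtype.ext
      rw [MulAut.conjNormal_apply]
      change r * (r⁻¹ * (k : G) * r) * r⁻¹ = k
      group
    rw [hc, Finset.prod_congr rfl (fun q _ => hterm q), Finset.prod_const, Finset.card_univ,
      ← Nat.card_eq_fintype_card, ← index_eq_card]
  exact ⟨c, hcmul, hcK⟩

/-- The ideal of the integers `e` such that some crossed homomorphism `G → K` restricts to
`k ↦ k ^ e` on `K`. -/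
def expIdeal (K : Subgroup G) [K.Normal] [IsMulCommutative K] : Ideal ℤ where
  carrier := {e | ∃ c : G → K, IsCrossed K c ∧ ∀ k : K, c k = k ^ e}
  add_mem' := by
    rintro e e' ⟨c, hc, hck⟩ ⟨c', hc', hck'⟩
    refine ⟨fun g => c g * c' g, ?_, ?_⟩
    · intro g g'
      simp only [hc g g', hc' g g', map_mul, mul_mul_mul_comm]
    · intro k; show c k * c' k = k ^ (e + e'); rw [hck, hck', zpow_add]
  zero_mem' := ⟨fun _ => 1, by intro g g'; simp, by intro k; simp⟩
  smul_mem' := by
    rintro z e ⟨c, hc, hck⟩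
    refine ⟨fun g => c g ^ z, ?_, ?_⟩
    · intro g g'
      simp only []
      rw [hc g g', mul_zpow, map_zpow]
    · intro k; show c k ^ z = k ^ (z • e); rw [hck, smul_eq_mul, mul_comm, zpow_mul]

theorem mem_expIdeal (K : Subgroup G) [K.Normal] [IsMulCommutative K] (e : ℤ) :
    e ∈ expIdeal K ↔ ∃ c : G → K, IsCrossed K c ∧ ∀ k : K, c k = k ^ e := Iff.rfl

theorem exists_complement_of_forall_prime [Finite G] (A : Subgroup G) [A.Normal] [IsMulCommutative A]
    (h : ∀ q : ℕ, q.Prime → ∃ e ∈ expIdeal A, ¬ (q : ℤ) ∣ e) : ∃ H : Subgroup G, IsComplement' A H := by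
  have h1 : (1 : ℤ) ∈ expIdeal A := by
    obtain ⟨d, hd⟩ := (IsPrincipalIdealRing.principal (expIdeal A)).principal
    by_cases hd1 : d.natAbs = 1
    · have hu : IsUnit d := Int.isUnit_iff_natAbs_eq.mpr hd1
      rw [hd]
      have : Submodule.span ℤ {d} = ⊤ := Ideal.span_singleton_eq_top.mpr hu
      rw [this]; trivial
    · exfalso
      obtain ⟨q, hq, hqd⟩ := Nat.exists_prime_and_dvd hd1
      obtain ⟨e, he, hqe⟩ := h q hq
      apply hqe
      rw [hd] at he
      have hde : d ∣ e := Ideal.mem_span_singleton.mp he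
      exact dvd_trans (Int.natCast_dvd.mpr hqd) hde
  obtain ⟨c, hc, hck⟩ := h1
  apply exists_complement_of_crossedHom A ⊤ le_top (by simp) (fun u => c u.1)
  · intro u u'
    exact hc u.1 u'.1
  · intro k
    simp only []
    rw [hck, zpow_one]


/-- If the abelian normal subgroup `A` has a complement `K` in `U ≥ A`, then `[G : U]` lies in `expIdeal A`. -/
theorem index_mem_expIdeal [Finite G] (A U K : Subgroup G) [A.Normal] [IsMulCommutative A]
    (hKA : K ⊓ A = ⊥) (hsup : K ⊔ A = U) : (U.index : ℤ) ∈ expIdeal A := by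
  have hAU : A ≤ U := by rw [← hsup]; exact le_sup_right
  have hcU : IsComplement' (A.subgroupOf U) (K.subgroupOf U) :=
    isComplement'_subgroupOf_sup (by rw [inf_comm]; exact hKA) (by rw [sup_comm]; exact hsup)
  obtain ⟨κ, hκ⟩ : ∃ κ : U → A, ∀ u,
      (κ u : G) = (((kpart hcU u : ↥(A.subgroupOf U)) : ↥U) : G) :=
    ⟨fun u => ⟨(((kpart hcU u : ↥(A.subgroupOf U)) : ↥U) : G), (kpart hcU u).2⟩, fun u => rfl⟩
  obtain ⟨c, hc, hck⟩ := exists_cores A U hAU κ
    (by
      intro u u'
      apply Subtype.ext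
      rw [Subgroup.coe_mul, MulAut.conjNormal_apply, hκ, hκ, hκ, kpart_mul hcU u u',
        Subgroup.coe_mul, Subgroup.coe_mul, MulAut.conjNormal_apply]
      simp)
    (by
      intro k
      apply Subtype.ext
      rw [hκ]
      have hk : (⟨(k : G), hAU k.2⟩ : U) ∈ A.subgroupOf U := k.2
      rw [kpart_of_mem_left hcU hk])
  exact ⟨c, hc, fun k => by rw [hck, zpow_natCast]⟩


end Cfsg.Agent.Helper21.CrossedHom
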