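import Mathlib
import Cfsg.Agent.Helper15.BrP1

set_option autoImplicit false
set_option linter.unusedSectionVars false

/-!
Restriction of an irreducible character to a subgroup `⟨t⟩ P` where `t` is an involution
normalizing `P`: sums over the subgroup and monotonicity of the multiplicity of the trivial
character.
-/

namespace Cfsg.Agent.Helper21.DihRes

open Cfsg Cfsg.Agent.Helper24 Subgroup

variable {G : Type*} [Group G] [Finite G]

/-- Monotonicity of the multiplicity of the trivial character under restriction. -/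
theorem sum_subgroup_mono (χ : IrrCharacter G) (H K : Subgroup G) [Fintype H] [Fintype K]
    (hHK : H ≤ K) :
    ∃ mH mK : ℕ, ∑ h : H, (χ : G → ℂ) h = (mH : ℂ) * (Nat.card H : ℂ) ∧
      ∑ k : K, (χ : G → ℂ) k = (mK : ℂ) * (Nat.card K : ℂ) ∧ mK ≤ mH := by
  obtain ⟨n, ρ, hirr, hχ⟩ := χ.2
  have key : ∀ (H : Subgroup G) [Fintype H], ∑ h : H, (χ : G → ℂ) h =
      (Module.finrank ℂ (Representation.invariants (ρ.comp H.subtype)) : ℂ) *
        (Nat.card H : ℂ) := by
    intro H _
    have h1 := classInner_restrict_one_eq_finrank_invariants ρ H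
    rw [← h1]
    unfold classInner
    have hne : (Nat.card H : ℂ) ≠ 0 := by
      have : 0 < Nat.card H := Nat.card_pos
      exact_mod_cast this.ne'
    rw [mul_comm, ← mul_assoc, mul_inv_cancel₀ hne, one_mul]
    refine Finset.sum_congr rfl ?_
    intro h _
    rw [map_one, mul_one, ← hχ]
  refine ⟨_, _, key H, key K, ?_⟩
  apply Submodule.finrank_mono
  intro v hv
  rw [Representation.mem_invariants] at hv ⊢
  intro h
  exact hv ⟨h, hHK h.2⟩

/-- The elements of `⟨t⟩` for an involution `t`. -/
theorem mem_zpowers_invol (t : G) (ht2 : t * t = 1) (a : G) (ha : a ∈ zpowers t) :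
    a = 1 ∨ a = t := by
  rw [zpowers_eq_closure] at ha
  have htinv : t⁻¹ = t := inv_eq_of_mul_eq_one_left ht2
  induction ha using Subgroup.closure_induction with
  | mem x hx =>
    rw [Set.mem_singleton_iff] at hx
    exact Or.inr hx
  | one => exact Or.inl rfl
  | mul x y _ _ hx hy =>
    rcases hx with rfl | rfl <;> rcases hy with rfl | rfl
    · left; simp
    · right; simp
    · right; simp
    · left; exact ht2
  | inv x _ hx =>
    rcases hx with rfl | rfl
    · left; simp
    · right; exact htinv

/-- Sums over the subgroup `⟨t⟩ P`. -/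
theorem sum_dihedral (f : G → ℂ) (P : Subgroup G) (t : G) (ht2 : t * t = 1)
    (htP : t ∉ P) (hnorm : zpowers t ≤ normalizer (P : Set G))
    [Fintype ↥(zpowers t ⊔ P)] [Fintype P] :
    ∑ h : ↥(zpowers t ⊔ P), f h = ∑ c : P, f c + ∑ c : P, f (t * c) ∧
      Nat.card ↥(zpowers t ⊔ P) = 2 * Nat.card P := by
  classical
  have : Fintype G := Fintype.ofFinite G
  have htinv : t⁻¹ = t := inv_eq_of_mul_eq_one_left ht2
  have hmemD : ∀ g : G, g ∈ zpowers t ⊔ P ↔ g ∈ P ∨ t * g ∈ P := by
    intro g
    constructor
    · intro hg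
      have h1 : g ∈ ((zpowers t ⊔ P : Subgroup G) : Set G) := hg
      rw [coe_mul_of_left_le_normalizer_right (zpowers t) P hnorm, Set.mem_mul] at h1
      obtain ⟨a, ha, c, hc, rfl⟩ := h1
      rcases mem_zpowers_invol t ht2 a ha with rfl | rfl
      · left; rw [one_mul]; exact hc
      · right; rw [← mul_assoc, ht2, one_mul]; exact hc
    · rintro (h | h)
      · exact (le_sup_right : P ≤ zpowers t ⊔ P) h
      · have h1 : t ∈ zpowers t ⊔ P := (le_sup_left : zpowers t ≤ zpowers t ⊔ P) (mem_zpowers t)
        have h2 : t * g ∈ zpowers t ⊔ P := (le_sup_right : P ≤ zpowers t ⊔ P) h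
        have h3 := Subgroup.mul_mem _ h1 h2
        rwa [← mul_assoc, ht2, one_mul] at h3
  set A : Finset G := Finset.univ.filter (fun g => g ∈ P) with hA
  set B : Finset G := Finset.univ.filter (fun g => t * g ∈ P) with hB
  have hdisj : Disjoint A B := by
    rw [Finset.disjoint_left]
    intro g hgA hgB
    rw [hA, Finset.mem_filter] at hgA
    rw [hB, Finset.mem_filter] at hgB
    apply htP
    have := Subgroup.mul_mem _ hgB.2 (Subgroup.inv_mem _ hgA.2)
    rwa [mul_assoc, mul_inv_cancel, mul_one] at this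
  have hAB : ∀ g : G, g ∈ A ∪ B ↔ g ∈ zpowers t ⊔ P := by
    intro g
    rw [Finset.mem_union, hA, hB, Finset.mem_filter, Finset.mem_filter, hmemD]
    simp
  have hsumA : ∀ f' : G → ℂ, ∑ g ∈ A, f' g = ∑ c : P, f' c := by
    intro f'
    exact Finset.sum_subtype A (fun g => by rw [hA, Finset.mem_filter]; simp) f'
  have hsumB : ∀ f' : G → ℂ, ∑ g ∈ B, f' g = ∑ g ∈ A, f' (t * g) := by
    intro f'
    refine Finset.sum_nbij' (fun g => t * g) (fun g => t * g) ?_ ?_ ?_ ?_ ?_
    · intro g hg
      rw [hB, Finset.mem_filter] at hg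
      rw [hA, Finset.mem_filter]
      exact ⟨Finset.mem_univ _, hg.2⟩
    · intro g hg
      rw [hA, Finset.mem_filter] at hg
      rw [hB, Finset.mem_filter]
      refine ⟨Finset.mem_univ _, ?_⟩
      rw [← mul_assoc, ht2, one_mul]
      exact hg.2
    · intro g _
      rw [← mul_assoc, ht2, one_mul]
    · intro g _
      rw [← mul_assoc, ht2, one_mul]
    · intro g _
      rw [← mul_assoc, ht2, one_mul]
  constructor
  · rw [← Finset.sum_subtype (A ∪ B) hAB f, Finset.sum_union hdisj, hsumA, hsumB,
      hsumA (fun g => f (t * g))]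
  · rw [Nat.card_eq_fintype_card, Nat.card_eq_fintype_card]
    have h1 : Fintype.card ↥(zpowers t ⊔ P) = (A ∪ B).card :=
      Fintype.card_of_subtype (A ∪ B) hAB
    have h2 : Fintype.card P = A.card :=
      Fintype.card_of_subtype A (fun g => by rw [hA, Finset.mem_filter]; simp)
    have h3 : B.card = A.card := by
      have := hsumB (fun _ => (1 : ℂ))
      simp only [Finset.sum_const, nsmul_eq_mul, mul_one] at this
      exact_mod_cast this
    rw [h1, Finset.card_union_of_disjoint hdisj, h3, h2]
    ring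

end Cfsg.Agent.Helper21.DihRes
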