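import Cfsg.Prelude.Def_GeometricClasses

/-!
# Field subalgebras of matrix algebras: instances (helper21)
-/

set_option autoImplicit false

namespace Cfsg.Agent.Helper21.FS

open Matrix Cfsg.Geo
open scoped Classical

variable {ι : Type} [Fintype ι] [DecidableEq ι] {F : Type*} [Field F]

/-- module structure on column vectors over a subalgebra of matrices -/
@[reducible] def modOf (K : Subalgebra F (Matrix ι ι F)) : Module K (ι → F) where
  smul x v := x.1 *ᵥ v
  one_smul v := Matrix.one_mulVec v
  mul_smul x y v := (Matrix.mulVec_mulVec v x.1 y.1).symm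
  smul_zero x := Matrix.mulVec_zero x.1
  smul_add x v w := Matrix.mulVec_add x.1 v w
  add_smul x y v := Matrix.add_mulVec x.1 y.1 v
  zero_smul v := Matrix.zero_mulVec v

/-- the field structure on a field subalgebra -/
@[reducible] noncomputable def fieldOf [Nonempty ι] {r : ℕ} {K : Subalgebra F (Matrix ι ι F)}
    (hK : IsFieldSubalgebra r K) : Field K :=
  { (inferInstance : Ring K) with
    mul_comm := fun x y => Subtype.ext (hK.comm x.1 x.2 y.1 y.2)
    inv := fun x => if h : x = 0 then 0 else
      ⟨Classical.choose (hK.inv x.1 x.2 (fun h0 => h (Subtype.ext h0))),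
        (Classical.choose_spec (hK.inv x.1 x.2 (fun h0 => h (Subtype.ext h0)))).1⟩
    exists_pair_ne := ⟨0, 1, fun h => by
      have h1 : (0 : Matrix ι ι F) = 1 := congrArg Subtype.val h
      exact zero_ne_one h1⟩
    mul_inv_cancel := fun x hx => by
      apply Subtype.ext
      simp only [dif_neg hx]
      exact (Classical.choose_spec (hK.inv x.1 x.2 (fun h0 => hx (Subtype.ext h0)))).2
    inv_zero := dif_pos rfl
    nnqsmul := _
    nnqsmul_def := fun _ _ => rfl
    qsmul := _
    qsmul_def := fun _ _ => rfl }

section tower

variable [Nonempty ι] {r : ℕ} {K : Subalgebra F (Matrix ι ι F)} (hK : IsFieldSubalgebra r K)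

theorem smul_def (x : K) (v : ι → F) :
    letI := modOf K
    x • v = x.1 *ᵥ v := rfl

theorem isScalarTower :
    letI := modOf K
    IsScalarTower F K (ι → F) := by
  letI := modOf K
  refine ⟨fun c x v => ?_⟩
  show (c • x).1 *ᵥ v = c • (x.1 *ᵥ v)
  rw [Subalgebra.coe_smul, Matrix.smul_mulVec]

include hK in
theorem finrank_tower :
    letI := fieldOf hK
    letI := modOf K
    r * Module.finrank K (ι → F) = Fintype.card ι := by
  letI := fieldOf hK
  letI := modOf K
  haveI := isScalarTower (K := K)
  have h := Module.finrank_mul_finrank F K (ι → F)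
  rw [hK.finrank_eq] at h
  rw [h, Module.finrank_fintype_fun_eq_card]

end tower

end Cfsg.Agent.Helper21.FS
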