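import Cfsg.Agent.Helper21.FS1

/-!
# A unipotent element centralising a subfield but not normalising the field (helper21)
-/

set_option autoImplicit false
set_option linter.style.haveILetI false

namespace Cfsg.Agent.Helper21.FS

open Matrix Cfsg.Geo
open scoped Classical

variable {ι : Type} [Fintype ι] [DecidableEq ι] {F : Type*} [Field F]

theorem exists_unipotent [Fintype F] [Nonempty ι] {s : ℕ} {L : Subalgebra F (Matrix ι ι F)}
    (hL : IsFieldSubalgebra s L) (hs : s < Fintype.card ι) (j : ℕ)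
    (hx : ∃ x ∈ L, x ^ (Fintype.card F ^ j) ≠ x) :
    ∃ g : GL ι F, g ∈ specialLinear ι F ∧
      (∀ c ∈ L, c ^ (Fintype.card F ^ j) = c → (g : Matrix ι ι F) * c = c * (g : Matrix ι ι F)) ∧
      g ∉ subalgebraNormalizer L := by
  letI := fieldOf hL
  letI := modOf L
  haveI := isScalarTower (K := L)
  obtain ⟨p, hp⟩ := CharP.exists F
  haveI := hp
  haveI hpprime : Fact p.Prime := ⟨CharP.char_is_prime F p⟩
  obtain ⟨m, hm⟩ : ∃ m : ℕ, Fintype.card F ^ j = p ^ m := by
    obtain ⟨n, -, hn⟩ := FiniteField.card F p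
    exact ⟨(n : ℕ) * j, by rw [hn, pow_mul]⟩
  set Q := Fintype.card F ^ j with hQ
  have hQ0 : Q ≠ 0 := by
    rw [hQ]
    exact pow_ne_zero _ Fintype.card_ne_zero
  -- Frobenius-type facts
  have hadd : ∀ x y : L, ((x + y : L) : Matrix ι ι F) ^ Q =
      (x : Matrix ι ι F) ^ Q + (y : Matrix ι ι F) ^ Q := by
    intro x y
    rw [Subalgebra.coe_add, hm]
    exact add_pow_char_pow_of_commute p m (hL.comm x.1 x.2 y.1 y.2)
  have hmul : ∀ x y : L, ((x * y : L) : Matrix ι ι F) ^ Q =
      (x : Matrix ι ι F) ^ Q * (y : Matrix ι ι F) ^ Q := by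
    intro x y
    rw [Subalgebra.coe_mul]
    exact Commute.mul_pow (hL.comm x.1 x.2 y.1 y.2) Q
  have hscal : ∀ c : F, (algebraMap F (Matrix ι ι F) c) ^ Q = algebraMap F (Matrix ι ι F) c := by
    intro c
    rw [← map_pow, hQ, FiniteField.pow_card_pow]
  -- dimension at least two
  have htow := finrank_tower hL
  have hd : 2 ≤ Module.finrank L (ι → F) := by
    by_contra hcon
    have h01 : Module.finrank L (ι → F) = 0 ∨ Module.finrank L (ι → F) = 1 := by omega
    rcases h01 with h0 | h1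
    · rw [h0] at htow; omega
    · rw [h1] at htow; omega
  haveI : Module.Finite L (ι → F) := Module.Finite.of_finite
  let b := Module.finBasis L (ι → F)
  let i0 : Fin (Module.finrank L (ι → F)) := ⟨0, by omega⟩
  let i1 : Fin (Module.finrank L (ι → F)) := ⟨1, by omega⟩
  have hi01 : i0 ≠ i1 := by
    intro h
    have := congrArg Fin.val h
    simp [i0, i1] at this
  have hc10 : b.coord i1 (b i0) = 0 := by
    rw [Module.Basis.coord_apply, Module.Basis.repr_self, Finsupp.single_apply, if_neg hi01]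
  have hc11 : b.coord i1 (b i1) = 1 := by
    rw [Module.Basis.coord_apply, Module.Basis.repr_self, Finsupp.single_apply, if_pos rfl]
  let Φ : (ι → F) →ₗ[F] (ι → F) :=
    { toFun := fun v => ((b.coord i1 v : L) : Matrix ι ι F) ^ Q *ᵥ b i0
      map_add' := by
        intro v w
        rw [map_add, hadd, Matrix.add_mulVec]
      map_smul' := by
        intro c v
        rw [← algebraMap_smul L c v, map_smul, smul_eq_mul, hmul, Subalgebra.coe_algebraMap, hscal,
          Algebra.algebraMap_eq_smul_one, Matrix.smul_mul, Matrix.one_mul, Matrix.smul_mulVec]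
        rfl }
  have hΦ : ∀ v, Φ v = ((b.coord i1 v : L) : Matrix ι ι F) ^ Q *ᵥ b i0 := fun v => rfl
  have hΦsmul : ∀ (k : L) (v : ι → F), Φ (k • v) =
      ((k : Matrix ι ι F) ^ Q * ((b.coord i1 v : L) : Matrix ι ι F) ^ Q) *ᵥ b i0 := by
    intro k v
    rw [hΦ, map_smul, smul_eq_mul, hmul]
  have hΦb0 : ∀ k : L, Φ (k • b i0) = 0 := by
    intro k
    rw [hΦsmul, hc10, ZeroMemClass.coe_zero, zero_pow hQ0, mul_zero, Matrix.zero_mulVec]
  have hΦΦ : ∀ v, Φ (Φ v) = 0 := by
    intro v
    have := hΦb0 ⟨((b.coord i1 v : L) : Matrix ι ι F) ^ Q, pow_mem (b.coord i1 v).2 Q⟩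
    rw [hΦ v]
    exact this
  let A : Matrix ι ι F := LinearMap.toMatrix' Φ
  have hA : ∀ v, A *ᵥ v = Φ v := fun v => LinearMap.toMatrix'_mulVec Φ v
  have hAA : A * A = 0 := by
    have h1 : Φ ∘ₗ Φ = 0 := by
      apply LinearMap.ext
      intro v
      exact hΦΦ v
    have h2 := LinearMap.toMatrix'_comp Φ Φ
    rw [h1] at h2
    rw [← h2]
    exact map_zero _
  have h12 : (1 + A) * (1 - A) = 1 := by
    calc (1 + A) * (1 - A) = 1 - A * A := by noncomm_ring
      _ = 1 := by rw [hAA, sub_zero]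
  have h21 : (1 - A) * (1 + A) = 1 := by
    calc (1 - A) * (1 + A) = 1 - A * A := by noncomm_ring
      _ = 1 := by rw [hAA, sub_zero]
  let g : GL ι F := ⟨1 + A, 1 - A, h12, h21⟩
  have hgval : (g : Matrix ι ι F) = 1 + A := rfl
  have hginv : ((g⁻¹ : GL ι F) : Matrix ι ι F) = 1 - A := rfl
  refine ⟨g, ?_, ?_, ?_⟩
  · -- determinant one
    rw [specialLinear, MonoidHom.mem_ker]
    apply Units.ext
    rw [Matrix.GeneralLinearGroup.val_det_apply, Units.val_one, hgval]
    have hp2 : 2 ≤ p := hpprime.1.two_le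
    have hAp : A ^ p = 0 := by
      have : A ^ 2 = 0 := by rw [sq, hAA]
      exact pow_eq_zero_of_le hp2 this
    have hgp : (1 + A) ^ p = 1 := by
      rw [add_pow_char_of_commute p (Commute.one_left A), one_pow, hAp, add_zero]
    have hdet : (1 + A).det ^ p = 1 := by
      rw [← Matrix.det_pow, hgp, Matrix.det_one]
    apply frobenius_inj F p
    rw [frobenius_def, frobenius_def, hdet, one_pow]
  · -- commutes with the fixed points of the Frobenius power
    intro c hc hcQ
    have hAc : A * c = c * A := by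
      apply Matrix.mulVec_injective
      funext v
      rw [← Matrix.mulVec_mulVec, ← Matrix.mulVec_mulVec, hA, hA]
      have h1 : c *ᵥ v = (⟨c, hc⟩ : L) • v := rfl
      rw [h1, hΦsmul, hΦ]
      simp only
      rw [hcQ, ← Matrix.mulVec_mulVec]
    rw [hgval, add_mul, mul_add, one_mul, mul_one, hAc]
  · -- does not normalise `L`
    intro hg
    obtain ⟨x, hxL, hxQ⟩ := hx
    have h1 := (hg x).1 hxL
    rw [hgval, hginv] at h1
    have hb0 : (1 - A) *ᵥ b i0 = b i0 := by
      rw [Matrix.sub_mulVec, Matrix.one_mulVec, hA]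
      have := hΦb0 1
      rw [one_smul] at this
      rw [this, sub_zero]
    have hxb0 : x *ᵥ b i0 = (⟨x, hxL⟩ : L) • b i0 := rfl
    have h2 : ((1 + A) * x * (1 - A)) *ᵥ b i0 = x *ᵥ b i0 := by
      rw [← Matrix.mulVec_mulVec, ← Matrix.mulVec_mulVec, hb0, Matrix.add_mulVec, Matrix.one_mulVec,
        hA, hxb0, hΦb0, add_zero]
    have hb0ne : b i0 ≠ 0 := b.ne_zero i0
    have h3 : (1 + A) * x * (1 - A) = x := by
      have h4 : ((⟨(1 + A) * x * (1 - A), h1⟩ : L) - ⟨x, hxL⟩) • b i0 = 0 := by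
        rw [sub_smul]
        show ((1 + A) * x * (1 - A)) *ᵥ b i0 - x *ᵥ b i0 = 0
        rw [h2, sub_self]
      rcases smul_eq_zero.1 h4 with h5 | h5
      · have := congrArg Subtype.val (sub_eq_zero.1 h5)
        exact this
      · exact absurd h5 hb0ne
    have h6 : A * x = x * A := by
      have h7 : (1 + A) * x = x * (1 + A) := by
        calc (1 + A) * x = (1 + A) * x * ((1 - A) * (1 + A)) := by rw [h21, mul_one]
          _ = ((1 + A) * x * (1 - A)) * (1 + A) := by noncomm_ring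
          _ = x * (1 + A) := by rw [h3]
      rw [add_mul, mul_add, one_mul, mul_one] at h7
      exact add_left_cancel h7
    have h8 : (A * x) *ᵥ b i1 = (x * A) *ᵥ b i1 := by rw [h6]
    rw [← Matrix.mulVec_mulVec, ← Matrix.mulVec_mulVec, hA, hA] at h8
    have hxb1 : x *ᵥ b i1 = (⟨x, hxL⟩ : L) • b i1 := rfl
    rw [hxb1, hΦsmul, hΦ, hc11] at h8
    simp only [OneMemClass.coe_one, one_pow, mul_one, Matrix.one_mulVec] at h8
    have h9 : ((⟨x ^ Q, pow_mem hxL Q⟩ : L) - ⟨x, hxL⟩) • b i0 = 0 := by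
      rw [sub_smul]
      show (x ^ Q) *ᵥ b i0 - x *ᵥ b i0 = 0
      rw [h8, sub_self]
    rcases smul_eq_zero.1 h9 with h5 | h5
    · have := congrArg Subtype.val (sub_eq_zero.1 h5)
      exact hxQ this
    · exact absurd h5 hb0ne

end Cfsg.Agent.Helper21.FS
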