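import Cfsg.Agent.Helper21.FS2

/-!
# Fixed subalgebra of a Frobenius power and finite field facts (helper21)
-/

set_option autoImplicit false
set_option linter.style.haveILetI false

namespace Cfsg.Agent.Helper21.FS

open Matrix Cfsg.Geo
open scoped Classical

variable {ι : Type} [Fintype ι] [DecidableEq ι] {F : Type*} [Field F] [Fintype F] [Nonempty ι]

/-- fixed points of a Frobenius power in a commutative subalgebra -/
def fixedSub (K : Subalgebra F (Matrix ι ι F)) (hcomm : ∀ x ∈ K, ∀ y ∈ K, x * y = y * x) (j : ℕ) :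
    Subalgebra F (Matrix ι ι F) where
  carrier := {x | x ∈ K ∧ x ^ (Fintype.card F ^ j) = x}
  mul_mem' := by
    rintro x y ⟨hx, hx'⟩ ⟨hy, hy'⟩
    refine ⟨mul_mem hx hy, ?_⟩
    rw [Commute.mul_pow (hcomm x hx y hy), hx', hy']
  one_mem' := ⟨one_mem K, one_pow _⟩
  add_mem' := by
    rintro x y ⟨hx, hx'⟩ ⟨hy, hy'⟩
    refine ⟨add_mem hx hy, ?_⟩
    obtain ⟨p, hp⟩ := CharP.exists F
    haveI := hp
    haveI hpprime : Fact p.Prime := ⟨CharP.char_is_prime F p⟩
    obtain ⟨n, -, hn⟩ := FiniteField.card F p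
    rw [hn, ← pow_mul] at hx' hy' ⊢
    rw [add_pow_char_pow_of_commute p _ (hcomm x hx y hy), hx', hy']
  zero_mem' := ⟨zero_mem K, zero_pow (pow_ne_zero _ Fintype.card_ne_zero)⟩
  algebraMap_mem' := by
    intro c
    refine ⟨K.algebraMap_mem c, ?_⟩
    rw [← map_pow, FiniteField.pow_card_pow]

theorem mem_fixedSub {K : Subalgebra F (Matrix ι ι F)} {hcomm : ∀ x ∈ K, ∀ y ∈ K, x * y = y * x}
    {j : ℕ} {x : Matrix ι ι F} :
    x ∈ fixedSub K hcomm j ↔ x ∈ K ∧ x ^ (Fintype.card F ^ j) = x := Iff.rfl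

theorem fixedSub_le (K : Subalgebra F (Matrix ι ι F)) (hcomm : ∀ x ∈ K, ∀ y ∈ K, x * y = y * x)
    (j : ℕ) : fixedSub K hcomm j ≤ K := fun _ hx => hx.1

theorem fixedSub_isField {r : ℕ} {K : Subalgebra F (Matrix ι ι F)} (hK : IsFieldSubalgebra r K)
    (j : ℕ) :
    IsFieldSubalgebra (Module.finrank F (fixedSub K hK.comm j)) (fixedSub K hK.comm j) where
  comm := fun x hx y hy => hK.comm x hx.1 y hy.1
  inv := by
    intro x hx hx0
    obtain ⟨y, hy, hxy⟩ := hK.inv x hx.1 hx0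
    refine ⟨y, ⟨hy, ?_⟩, hxy⟩
    have hyx : y * x = 1 := by rw [hK.comm y hy x hx.1, hxy]
    have h1 : x * y ^ (Fintype.card F ^ j) = 1 := by
      have := congrArg (fun z => z ^ (Fintype.card F ^ j)) hxy
      simp only [one_pow] at this
      rw [Commute.mul_pow (hK.comm x hx.1 y hy), hx.2] at this
      exact this
    calc y ^ (Fintype.card F ^ j) = (y * x) * y ^ (Fintype.card F ^ j) := by rw [hyx, one_mul]
      _ = y * (x * y ^ (Fintype.card F ^ j)) := by rw [mul_assoc]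
      _ = y := by rw [h1, mul_one]
  finrank_eq := rfl

theorem normalizer_le (K : Subalgebra F (Matrix ι ι F)) (hcomm : ∀ x ∈ K, ∀ y ∈ K, x * y = y * x)
    (j : ℕ) : subalgebraNormalizer K ≤ subalgebraNormalizer (fixedSub K hcomm j) := by
  intro g hg k
  have hpow : ∀ n : ℕ, ((g : Matrix ι ι F) * k * ((g⁻¹ : GL ι F) : Matrix ι ι F)) ^ n =
      (g : Matrix ι ι F) * k ^ n * ((g⁻¹ : GL ι F) : Matrix ι ι F) := by
    intro n
    induction n with
    | zero => simp
    | succ n ih =>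
      rw [pow_succ, ih, pow_succ]
      have : ((g⁻¹ : GL ι F) : Matrix ι ι F) * (g : Matrix ι ι F) = 1 := by
        rw [← Units.val_mul, inv_mul_cancel, Units.val_one]
      calc (g : Matrix ι ι F) * k ^ n * ((g⁻¹ : GL ι F) : Matrix ι ι F) *
            ((g : Matrix ι ι F) * k * ((g⁻¹ : GL ι F) : Matrix ι ι F))
          = (g : Matrix ι ι F) * k ^ n * (((g⁻¹ : GL ι F) : Matrix ι ι F) * (g : Matrix ι ι F)) * k *
            ((g⁻¹ : GL ι F) : Matrix ι ι F) := by noncomm_ring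
        _ = (g : Matrix ι ι F) * (k ^ n * k) * ((g⁻¹ : GL ι F) : Matrix ι ι F) := by
          rw [this]; noncomm_ring
  rw [mem_fixedSub, mem_fixedSub, hpow]
  constructor
  · rintro ⟨hk, hk'⟩
    exact ⟨(hg k).1 hk, by rw [hk']⟩
  · rintro ⟨hk, hk'⟩
    refine ⟨(hg k).2 hk, ?_⟩
    have h1 : ((g⁻¹ : GL ι F) : Matrix ι ι F) * (g : Matrix ι ι F) = 1 := by
      rw [← Units.val_mul, inv_mul_cancel, Units.val_one]
    have h2 : ((g⁻¹ : GL ι F) : Matrix ι ι F) *
        ((g : Matrix ι ι F) * k ^ (Fintype.card F ^ j) * ((g⁻¹ : GL ι F) : Matrix ι ι F)) *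
          (g : Matrix ι ι F) =
        ((g⁻¹ : GL ι F) : Matrix ι ι F) *
        ((g : Matrix ι ι F) * k * ((g⁻¹ : GL ι F) : Matrix ι ι F)) * (g : Matrix ι ι F) := by
      rw [hk']
    have e : ∀ z : Matrix ι ι F, ((g⁻¹ : GL ι F) : Matrix ι ι F) *
        ((g : Matrix ι ι F) * z * ((g⁻¹ : GL ι F) : Matrix ι ι F)) * (g : Matrix ι ι F) = z := by
      intro z
      calc ((g⁻¹ : GL ι F) : Matrix ι ι F) *
          ((g : Matrix ι ι F) * z * ((g⁻¹ : GL ι F) : Matrix ι ι F)) * (g : Matrix ι ι F)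
          = (((g⁻¹ : GL ι F) : Matrix ι ι F) * (g : Matrix ι ι F)) * z *
            (((g⁻¹ : GL ι F) : Matrix ι ι F) * (g : Matrix ι ι F)) := by noncomm_ring
        _ = z := by rw [h1, one_mul, mul_one]
    rw [e, e] at h2
    exact h2

end Cfsg.Agent.Helper21.FS
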