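import Cfsg.Agent.Helper21.FS3

/-!
# Finite field facts for field subalgebras (helper21)
-/

set_option autoImplicit false
set_option linter.style.haveILetI false

namespace Cfsg.Agent.Helper21.FS

open Matrix Cfsg.Geo Polynomial
open scoped Classical

variable {ι : Type} [Fintype ι] [DecidableEq ι] {F : Type*} [Field F] [Fintype F] [Nonempty ι]

theorem natCard_eq {r : ℕ} {K : Subalgebra F (Matrix ι ι F)} (hK : IsFieldSubalgebra r K) :
    Nat.card K = Fintype.card F ^ r := by
  rw [Module.natCard_eq_pow_finrank (K := F) (V := K), hK.finrank_eq, Nat.card_eq_fintype_card]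

theorem exists_not_fixed {r : ℕ} {K : Subalgebra F (Matrix ι ι F)} (hK : IsFieldSubalgebra r K)
    {a : ℕ} (ha0 : a ≠ 0) (har : a < r) : ∃ x ∈ K, x ^ (Fintype.card F ^ a) ≠ x := by
  by_contra hcon
  push Not at hcon
  letI := fieldOf hK
  have hq : 1 < Fintype.card F := Fintype.one_lt_card
  have hne : (X ^ Fintype.card F ^ a - X : (K : Type _)[X]) ≠ 0 :=
    FiniteField.X_pow_card_pow_sub_X_ne_zero K ha0 hq
  have hdeg : (X ^ Fintype.card F ^ a - X : (K : Type _)[X]).natDegree = Fintype.card F ^ a :=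
    FiniteField.X_pow_card_pow_sub_X_natDegree_eq K ha0 hq
  have hroot : ∀ x : K, x ∈ (X ^ Fintype.card F ^ a - X : (K : Type _)[X]).roots := by
    intro x
    rw [mem_roots hne, IsRoot.def, eval_sub, eval_pow, eval_X, sub_eq_zero]
    apply Subtype.ext
    rw [SubmonoidClass.coe_pow]
    exact hcon x.1 x.2
  have h1 : Fintype.card K ≤ Fintype.card F ^ a := by
    calc Fintype.card K = (Finset.univ : Finset K).card := rfl
      _ ≤ (X ^ Fintype.card F ^ a - X : (K : Type _)[X]).roots.toFinset.card := by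
        apply Finset.card_le_card
        intro x _
        exact Multiset.mem_toFinset.2 (hroot x)
      _ ≤ Multiset.card (X ^ Fintype.card F ^ a - X : (K : Type _)[X]).roots :=
        Multiset.toFinset_card_le _
      _ ≤ (X ^ Fintype.card F ^ a - X : (K : Type _)[X]).natDegree := card_roots' _
      _ = Fintype.card F ^ a := hdeg
  have h2 := natCard_eq hK
  rw [Nat.card_eq_fintype_card] at h2
  rw [h2] at h1
  have := Nat.pow_lt_pow_right hq har
  omega

theorem exists_fixed_not_base {r : ℕ} {K : Subalgebra F (Matrix ι ι F)}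
    (hK : IsFieldSubalgebra r K) {a : ℕ} (ha2 : 2 ≤ a) (har : a ∣ r) (hr : r ≠ 0) :
    ∃ y ∈ K, y ^ (Fintype.card F ^ a) = y ∧ y ^ Fintype.card F ≠ y := by
  letI := fieldOf hK
  have hq : 1 < Fintype.card F := Fintype.one_lt_card
  set q := Fintype.card F with hqdef
  obtain ⟨ω, hω⟩ := IsCyclic.exists_generator (α := Kˣ)
  have hord : orderOf ω = q ^ r - 1 := by
    rw [orderOf_eq_card_of_forall_mem_zpowers hω, Nat.card_units, natCard_eq hK]
  obtain ⟨e, he⟩ := har
  have hdvd : q ^ a - 1 ∣ q ^ r - 1 := by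
    have := Nat.sub_dvd_pow_sub_pow (q ^ a) 1 e
    rwa [one_pow, ← pow_mul, ← he] at this
  have hqa : q < q ^ a := by
    calc q = q ^ 1 := (pow_one q).symm
      _ < q ^ a := Nat.pow_lt_pow_right hq (by omega)
  have hd0 : 0 < q ^ a - 1 := by omega
  have hN0 : 0 < q ^ r - 1 := by
    have : q ^ a ≤ q ^ r := Nat.pow_le_pow_right (by omega) (Nat.le_of_dvd (Nat.pos_of_ne_zero hr) ⟨e, he⟩)
    omega
  obtain ⟨c, hc⟩ := hdvd
  have hc0 : c ≠ 0 := by
    rintro rfl
    rw [mul_zero] at hc
    omega
  set y : Kˣ := ω ^ c with hy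
  have hyord : orderOf y = q ^ a - 1 := by
    rw [hy, orderOf_pow_of_dvd hc0 (by rw [hord, hc]; exact Dvd.intro_left _ rfl), hord, hc,
      Nat.mul_div_cancel _ (Nat.pos_of_ne_zero hc0)]
  refine ⟨((y : K) : Matrix ι ι F), (y : K).2, ?_, ?_⟩
  · have h1 : y ^ (q ^ a - 1) = 1 := by rw [← hyord]; exact pow_orderOf_eq_one y
    have h2 : (y : K) ^ (q ^ a) = (y : K) := by
      have : q ^ a = (q ^ a - 1) + 1 := by omega
      rw [this, pow_succ, ← Units.val_pow_eq_pow_val, h1, Units.val_one, one_mul]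
    have := congrArg Subtype.val h2
    rwa [SubmonoidClass.coe_pow] at this
  · intro hcon
    have h2 : (y : K) ^ q = (y : K) := by
      apply Subtype.ext
      rw [SubmonoidClass.coe_pow]
      exact hcon
    have h3 : y ^ (q - 1) = 1 := by
      apply Units.ext
      rw [Units.val_pow_eq_pow_val, Units.val_one]
      have hy0 : (y : K) ≠ 0 := y.ne_zero
      have : (y : K) ^ (q - 1) * (y : K) = 1 * (y : K) := by
        rw [← pow_succ, one_mul]
        have : q - 1 + 1 = q := by omega
        rw [this, h2]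
      exact mul_right_cancel₀ hy0 this
    have h4 := orderOf_dvd_of_pow_eq_one h3
    rw [hyord] at h4
    have := Nat.le_of_dvd (by omega) h4
    omega

end Cfsg.Agent.Helper21.FS
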