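import Mathlib
import Cfsg.Prelude.Def_Transfer
import Cfsg.Prelude.Def_BaumannBlocks
import Cfsg.Agent.Helper9.TateGeneral
import Cfsg.Agent.Helper18.FocalFusion

set_option autoImplicit false
set_option linter.style.haveILetI false

namespace Cfsg.Agent.Helper21

open Subgroup
open scoped commutatorElement Pointwise

universe u

/-- Control of transfer at the focal level gives control at the level of `O^p`:
if `P ≤ N` and `P ∩ G' ≤ N'` then `O^p(N) = O^p(G) ∩ N`. -/
theorem pResidualOf_eq_inf_of_focal {G : Type u} [Group G] [Finite G] {p : ℕ} [Fact p.Prime]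
    (P : Sylow p G) (N : Subgroup G) (hPN : (P : Subgroup G) ≤ N)
    (hfoc : (P : Subgroup G) ⊓ commutator G ≤ ⁅N, N⁆) :
    Cfsg.pResidualOf p N = Cfsg.pResidual p G ⊓ N := by
  have hp : p.Prime := Fact.out
  have hle1 : Cfsg.pResidualOf p N ≤ Cfsg.pResidual p G := by
    rw [Cfsg.pResidualOf, Cfsg.pResidual, MonoidHom.map_closure, Cfsg.pResidual]
    apply Subgroup.closure_mono
    rintro _ ⟨n, hn', rfl⟩
    change (orderOf ((n : G))).Coprime p
    rw [Subgroup.orderOf_coe]
    exact hn'
  apply le_antisymm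
  · apply le_inf hle1
    rw [Cfsg.pResidualOf]
    exact Subgroup.map_subtype_le _
  · rintro g ⟨hgR, hgN⟩
    have htate := Cfsg.Agent.Helper9.tate_general P N hPN (by rw [inf_comm]; exact hfoc)
    rw [Cfsg.pResidualOf]
    refine ⟨⟨g, hgN⟩, ?_, rfl⟩
    set g' : ↥N := ⟨g, hgN⟩ with hg'
    obtain ⟨a, b, hab, ha, hb, ⟨k, hak⟩, hbc⟩ := Cfsg.Agent.Helper18.exists_pPart_decomp p g'
    have hbR : b ∈ Cfsg.pResidual p ↥N := Subgroup.subset_closure hbc
    have haR : a ∈ Cfsg.pResidual p ↥N := by
      have hzp : IsPGroup p ↥(Subgroup.zpowers a) := by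
        apply IsPGroup.of_card (n := k)
        rw [Nat.card_zpowers, hak]
      obtain ⟨S, hS⟩ := hzp.exists_le_sylow
      obtain ⟨n, hn⟩ := MulAction.exists_smul_eq ↥N S (P.subtype hPN)
      have haS : a ∈ (S : Subgroup ↥N) := hS (Subgroup.mem_zpowers a)
      have h1 : n * a * n⁻¹ ∈ ((P.subtype hPN : Sylow p ↥N) : Subgroup ↥N) := by
        rw [← hn, Sylow.coe_subgroup_smul]
        have := Subgroup.smul_mem_pointwise_smul a (MulAut.conj n) (S : Subgroup ↥N) haS
        rwa [MulAut.smul_def, MulAut.conj_apply] at this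
      rw [Sylow.coe_subtype, Subgroup.mem_subgroupOf] at h1
      have h2 : ((n * a * n⁻¹ : ↥N) : G) ∈ Cfsg.pResidual p G := by
        have haG : (a : G) ∈ Cfsg.pResidual p G := by
          have h3 : Subgroup.zpowers g ≤ Cfsg.pResidual p G := by
            rw [Subgroup.zpowers_le]; exact hgR
          apply h3
          rw [Subgroup.mem_zpowers_iff] at ha ⊢
          obtain ⟨j, hj⟩ := ha
          refine ⟨j, ?_⟩
          rw [← hj]
          simp [hg']
        have hnorm : (Cfsg.pResidual p G).Normal := inferInstance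
        have := hnorm.conj_mem (a : G) haG (n : G)
        simpa using this
      have h3 := htate (Subgroup.mem_inf.mpr ⟨h1, h2⟩)
      obtain ⟨w, hw, hwe⟩ := h3
      have hwe' : w = n * a * n⁻¹ := Subtype.ext hwe
      rw [hwe'] at hw
      have hnorm : (Cfsg.pResidual p ↥N).Normal := inferInstance
      have := hnorm.conj_mem _ hw n⁻¹
      have e : n⁻¹ * (n * a * n⁻¹) * n⁻¹⁻¹ = a := by group
      rwa [e] at this
    rw [hab]
    exact mul_mem haR hbR

end Cfsg.Agent.Helper21
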