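import Mathlib
import Cfsg.Agent.Helper20.FrobF

/-!
# Frobenius' theorem on the number of solutions of `x ^ n = c`

`gcd(n, |C_G(c)|)` divides `#{x : x ^ n = c}` (M. Hall, Theorem 9.1.1).
-/

set_option autoImplicit false
set_option linter.style.haveILetI false

namespace Cfsg.Agent.Helper21.FrobGen

open Subgroup

universe u

theorem gcd_dvd_aux (a g k : ℕ) (hk : k ∣ g) : Nat.gcd a g ∣ (g / k) * Nat.gcd a k := by
  obtain ⟨t, rfl⟩ := hk
  rcases Nat.eq_zero_or_pos k with hk0 | hk0
  · subst hk0
    simp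
  rw [Nat.mul_div_cancel_left _ hk0, ← Nat.gcd_mul_left]
  apply Nat.dvd_gcd
  · exact dvd_trans (Nat.gcd_dvd_left _ _) (dvd_mul_left _ _)
  · rw [mul_comm t k]; exact Nat.gcd_dvd_right _ _

variable {G : Type u} [Group G]

/-- conjugation invariance of the number of solutions -/
theorem card_conj (n : ℕ) (g y : G) :
    Nat.card {x : G // x ^ n = g * y * g⁻¹} = Nat.card {x : G // x ^ n = y} := by
  apply Nat.card_congr
  refine ⟨fun x => ⟨g⁻¹ * x.1 * g, ?_⟩, fun x => ⟨g * x.1 * g⁻¹, ?_⟩, ?_, ?_⟩
  · have := conj_pow (a := g⁻¹) (b := x.1) (i := n)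
    rw [inv_inv] at this
    rw [this, x.2]; group
  · rw [conj_pow, x.2]
  · intro x; apply Subtype.ext; show g * (g⁻¹ * x.1 * g) * g⁻¹ = x.1; group
  · intro x; apply Subtype.ext; show g⁻¹ * (g * x.1 * g⁻¹) * g = x.1; group

/-- all solutions lie in the centralizer of `c` -/
theorem card_centralizer (n : ℕ) (c : G) :
    Nat.card {x : G // x ^ n = c} =
      Nat.card {x : centralizer ({c} : Set G) //
        x ^ n = ⟨c, mem_centralizer_singleton_iff.mpr rfl⟩} := by
  apply Nat.card_congr
  refine ⟨fun x => ⟨⟨x.1, ?_⟩, ?_⟩, fun x => ⟨x.1.1, ?_⟩, ?_, ?_⟩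
  · rw [mem_centralizer_singleton_iff]
    obtain ⟨x, hx⟩ := x
    subst hx
    show x * x ^ n = x ^ n * x
    rw [← pow_succ, ← pow_succ']
  · apply Subtype.ext
    show x.1 ^ n = c
    exact x.2
  · have := congrArg Subtype.val x.2
    simpa using this
  · intro x; rfl
  · intro x; rfl


/-- composition: `x ^ (n₁ * n₂) = c` iff `y = x ^ n₁` solves `y ^ n₂ = c`. -/
theorem card_comp [Fintype G] [DecidableEq G] (n₁ n₂ : ℕ) (c : G) :
    Nat.card {x : G // x ^ (n₁ * n₂) = c} =
      ∑ y ∈ Finset.univ.filter (fun y : G => y ^ n₂ = c), Nat.card {x : G // x ^ n₁ = y} := by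
  classical
  have e : {x : G // x ^ (n₁ * n₂) = c} ≃
      Σ y : {y : G // y ^ n₂ = c}, {x : G // x ^ n₁ = y.1} :=
    { toFun := fun x => ⟨⟨x.1 ^ n₁, by rw [← pow_mul]; exact x.2⟩, ⟨x.1, rfl⟩⟩
      invFun := fun q => ⟨q.2.1, by rw [pow_mul, q.2.2]; exact q.1.2⟩
      left_inv := fun x => rfl
      right_inv := by
        rintro ⟨⟨y, hy⟩, ⟨x, hx⟩⟩
        have hx' : x ^ n₁ = y := hx
        refine Sigma.ext (Subtype.ext hx') ?_
        show HEq (⟨x, rfl⟩ : {z : G // z ^ n₁ = x ^ n₁}) (⟨x, hx'⟩ : {z : G // z ^ n₁ = y})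
        exact (Subtype.heq_iff_coe_eq (fun z => by rw [hx'])).mpr rfl }
  rw [Nat.card_congr e, Nat.card_sigma]
  rw [← Finset.sum_subtype (Finset.univ.filter (fun y : G => y ^ n₂ = c))
    (fun y => by simp) (fun y => Nat.card {x : G // x ^ n₁ = y})]

/-- order of a `p^e`-th root of an element of order divisible by `p`. -/
theorem orderOf_root [Finite G] {y c : G} {p e : ℕ} (hp : p.Prime) (hy : y ^ (p ^ e) = c)
    (hpc : p ∣ orderOf c) : orderOf y = p ^ e * orderOf c := by
  have hpe : p ^ e ≠ 0 := pow_ne_zero e hp.ne_zero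
  have h1 : orderOf c = orderOf y / Nat.gcd (orderOf y) (p ^ e) := by
    rw [← hy]; exact orderOf_pow' y hpe
  obtain ⟨j, hje, hj⟩ := (Nat.dvd_prime_pow hp).mp (Nat.gcd_dvd_right (orderOf y) (p ^ e))
  have h2 : orderOf y = orderOf c * p ^ j := by
    rw [h1, hj]
    exact (Nat.div_mul_cancel (hj ▸ Nat.gcd_dvd_left _ _)).symm
  have hje' : j = e := by
    by_contra hne
    have hlt : j < e := lt_of_le_of_ne hje hne
    have h3 : p ^ (j + 1) ∣ orderOf y := by
      rw [h2, pow_succ, mul_comm (p ^ j) p]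
      exact Nat.mul_dvd_mul hpc (dvd_refl _)
    have h4 : p ^ (j + 1) ∣ Nat.gcd (orderOf y) (p ^ e) :=
      Nat.dvd_gcd h3 (pow_dvd_pow p hlt)
    rw [hj] at h4
    have := Nat.pow_dvd_pow_iff_le_right hp.one_lt |>.mp h4
    omega
  rw [h2, hje', mul_comm]


/-- in a finite cyclic group, `a ^ d = 1` has exactly `d` solutions when `d ∣ |α|`. -/
theorem cyclic_card_pow_eq_one {α : Type*} [Group α] [IsCyclic α] [Fintype α] [DecidableEq α]
    {d : ℕ} (hd : d ∣ Fintype.card α) (hd0 : d ≠ 0) :
    (Finset.univ.filter (fun a : α => a ^ d = 1)).card = d := by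
  rw [← sum_card_orderOf_eq_card_pow_eq_one hd0]
  rw [Finset.sum_congr rfl (fun m hm => IsCyclic.card_orderOf_eq_totient
    (dvd_trans (Nat.dvd_of_mem_divisors hm) hd))]
  exact Nat.sum_totient d

/-- if `p ∣ orderOf c` then `p ^ e` divides the number of solutions of `x ^ (p ^ e) = c`. -/
theorem pow_dvd_card_root [Finite G] {p e : ℕ} (hp : p.Prime) (c : G) (hpc : p ∣ orderOf c) :
    p ^ e ∣ Nat.card {x : G // x ^ (p ^ e) = c} := by
  classical
  haveI : Fintype G := Fintype.ofFinite G
  have hpe : p ^ e ≠ 0 := pow_ne_zero e hp.ne_zero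
  rw [Nat.card_eq_fintype_card, Fintype.card_subtype]
  set S := Finset.univ.filter (fun x : G => x ^ (p ^ e) = c) with hS
  rw [Finset.card_eq_sum_card_fiberwise (f := fun g : G => Subgroup.zpowers g)
    (t := S.image (fun g : G => Subgroup.zpowers g))
    (fun g hg => Finset.mem_image_of_mem _ hg)]
  apply Finset.dvd_sum
  intro K hK
  obtain ⟨x₀, hx₀, rfl⟩ := Finset.mem_image.1 hK
  have hx₀c : x₀ ^ (p ^ e) = c := (Finset.mem_filter.mp hx₀).2
  have hord : orderOf x₀ = p ^ e * orderOf c := orderOf_root hp hx₀c hpc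
  -- the fibre is in bijection with the solutions of k^(p^e) = 1 in zpowers x₀
  have hcard : (S.filter (fun a => Subgroup.zpowers a = Subgroup.zpowers x₀)).card =
      (Finset.univ.filter (fun k : Subgroup.zpowers x₀ => k ^ (p ^ e) = 1)).card := by
    apply Finset.card_bij (fun a ha => (⟨x₀⁻¹ * a, by
      have h1 : a ∈ Subgroup.zpowers x₀ := by
        rw [← (Finset.mem_filter.mp ha).2]; exact Subgroup.mem_zpowers a
      exact (Subgroup.zpowers x₀).mul_mem ((Subgroup.zpowers x₀).inv_mem
        (Subgroup.mem_zpowers x₀)) h1⟩ : Subgroup.zpowers x₀))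
    · intro a ha
      rw [Finset.mem_filter] at ha ⊢
      refine ⟨Finset.mem_univ _, ?_⟩
      have h1 : a ∈ Subgroup.zpowers x₀ := by
        rw [← ha.2]; exact Subgroup.mem_zpowers a
      have hac : a ^ (p ^ e) = c := (Finset.mem_filter.mp ha.1).2
      obtain ⟨t, ht⟩ := h1
      have hcomm : Commute x₀⁻¹ a := by
        rw [← ht]
        exact ((Commute.refl x₀).zpow_right t).inv_left
      apply Subtype.ext
      show (x₀⁻¹ * a) ^ (p ^ e) = 1
      rw [hcomm.mul_pow, inv_pow, hx₀c, hac, inv_mul_cancel]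
    · intro a ha b hb hab
      have := congrArg Subtype.val hab
      exact mul_left_cancel this
    · intro k hk
      rw [Finset.mem_filter] at hk
      have hk1 : (k : G) ^ (p ^ e) = 1 := by
        have := congrArg Subtype.val hk.2
        simpa using this
      obtain ⟨t, ht⟩ := k.2
      have hcomm : Commute x₀ (k : G) := by
        rw [← ht]
        exact (Commute.refl x₀).zpow_right t
      have hsol : (x₀ * (k : G)) ^ (p ^ e) = c := by
        rw [hcomm.mul_pow, hk1, mul_one, hx₀c]
      have hle : Subgroup.zpowers (x₀ * (k : G)) ≤ Subgroup.zpowers x₀ := by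
        rw [Subgroup.zpowers_le]
        exact (Subgroup.zpowers x₀).mul_mem (Subgroup.mem_zpowers x₀) k.2
      have heq : Subgroup.zpowers (x₀ * (k : G)) = Subgroup.zpowers x₀ := by
        apply Subgroup.eq_of_le_of_card_ge hle
        rw [Nat.card_zpowers, Nat.card_zpowers, hord, orderOf_root hp hsol hpc]
      refine ⟨x₀ * (k : G), ?_, ?_⟩
      · rw [Finset.mem_filter]
        exact ⟨Finset.mem_filter.mpr ⟨Finset.mem_univ _, hsol⟩, heq⟩
      · apply Subtype.ext
        show x₀⁻¹ * (x₀ * (k : G)) = k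
        group
  rw [hcard]
  have hdvd : p ^ e ∣ Fintype.card (Subgroup.zpowers x₀) := by
    rw [← Nat.card_eq_fintype_card, Nat.card_zpowers, hord]
    exact dvd_mul_right _ _
  rw [cyclic_card_pow_eq_one hdvd hpe]


/-- for central `c` of order prime to `n`, `x ^ n = c` has as many solutions as `x ^ n = 1`. -/
theorem card_root_central_coprime [Finite G] (n : ℕ) (c : G) (hc : ∀ g : G, g * c = c * g)
    (hcop : n.Coprime (orderOf c)) :
    Nat.card {x : G // x ^ n = c} = Nat.card {x : G // x ^ n = 1} := by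
  obtain ⟨m, hm⟩ := exists_pow_eq_self_of_coprime hcop
  set c' := c ^ m with hc'
  have hc'n : c' ^ n = c := by rw [hc', ← pow_mul, mul_comm, pow_mul]; exact hm
  have hcomm : ∀ g : G, Commute g c' := fun g => (show Commute g c from hc g).pow_right m
  apply Nat.card_congr
  refine ⟨fun x => ⟨x.1 * c'⁻¹, ?_⟩, fun x => ⟨x.1 * c', ?_⟩, ?_, ?_⟩
  · rw [(hcomm x.1).inv_right.mul_pow, x.2, inv_pow, hc'n, mul_inv_cancel]
  · rw [(hcomm x.1).mul_pow, x.2, one_mul, hc'n]
  · intro x; apply Subtype.ext; show x.1 * c'⁻¹ * c' = x.1; group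
  · intro x; apply Subtype.ext; show x.1 * c' * c'⁻¹ = x.1; group

/-- **Frobenius' theorem** (general form): `gcd(n, |C_G(c)|)` divides the number of solutions of
`x ^ n = c`. -/
theorem gcd_dvd_card_root_aux : ∀ (g : ℕ) (G : Type u) [Group G] [Finite G], Nat.card G = g →
    ∀ n : ℕ, 0 < n → ∀ c : G,
      Nat.gcd n (Nat.card (centralizer ({c} : Set G))) ∣ Nat.card {x : G // x ^ n = c} := by
  intro g
  induction g using Nat.strong_induction_on with
  | _ g ihg =>
  intro G _ _ hg n
  classical
  haveI : Fintype G := Fintype.ofFinite G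
  induction n using Nat.strong_induction_on with
  | _ n ihn =>
  intro hn0 c
  by_cases hc : c ∈ center G
  · -- central case
    have hcc : ∀ y : G, y * c = c * y := fun y => (mem_center_iff.mp hc y)
    have hCtop : centralizer ({c} : Set G) = ⊤ := by
      rw [eq_top_iff]
      intro y _
      rw [mem_centralizer_singleton_iff]
      exact hcc y
    rw [hCtop, Subgroup.card_top, hg]
    by_cases hn1 : n = 1
    · rw [hn1, Nat.gcd_one_left]; exact one_dvd _
    obtain ⟨p, hp, hpn⟩ := Nat.exists_prime_and_dvd hn1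
    obtain ⟨e, m', hm', hme⟩ := Nat.exists_eq_pow_mul_and_not_dvd hn0.ne' p hp.ne_one
    have he1 : 1 ≤ e := by
      rcases Nat.eq_zero_or_pos e with h0 | h0
      · exfalso
        rw [h0, pow_zero, one_mul] at hme
        exact hm' (hme ▸ hpn)
      · exact h0
    have hm'0 : 0 < m' := by
      rcases Nat.eq_zero_or_pos m' with h0 | h0
      · rw [h0, mul_zero] at hme; omega
      · exact h0
    have hpe1 : 1 < p ^ e := Nat.one_lt_pow (by omega) hp.one_lt
    by_cases hm1 : m' = 1
    · -- prime power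
      rw [hm1, mul_one] at hme
      rw [hme]
      by_cases hpc : p ∣ orderOf c
      · exact dvd_trans (Nat.gcd_dvd_left _ _) (pow_dvd_card_root hp c hpc)
      · have hcop : (p ^ e).Coprime (orderOf c) :=
          Nat.Coprime.pow_left e ((Nat.Prime.coprime_iff_not_dvd hp).mpr hpc)
        rw [card_root_central_coprime (p ^ e) c hcc hcop,
          Cfsg.Agent.Helper20.card_pow_eq_one_gcd, hg]
        apply Cfsg.Agent.Helper20.frobenius_dvd
        rw [hg]; exact Nat.gcd_dvd_right _ _
    · -- coprime factorisation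
      have hm'1 : 1 < m' := by omega
      have hcop : (p ^ e).Coprime m' :=
        Nat.Coprime.pow_left e ((Nat.Prime.coprime_iff_not_dvd hp).mpr hm')
      have hlt1 : p ^ e < n := by
        rw [hme]; exact (Nat.lt_mul_iff_one_lt_right (by omega)).mpr hm'1
      have hlt2 : m' < n := by
        rw [hme]; exact (Nat.lt_mul_iff_one_lt_left hm'0).mpr hpe1
      -- key: for a factorisation n = a * b with a < n
      have key : ∀ a b : ℕ, a * b = n → a < n → 0 < a →
          Nat.gcd a g ∣ Nat.card {x : G // x ^ n = c} := by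
        intro a b hab ha ha0
        rw [← hab, card_comp a b c]
        apply Cfsg.Agent.Helper20.dvd_sum_conj
        · intro y hy z
          rw [Finset.mem_filter] at hy ⊢
          refine ⟨Finset.mem_univ _, ?_⟩
          rw [conj_pow, hy.2]
          have := hcc z
          rw [this, mul_assoc, mul_inv_cancel, mul_one]
        · intro z y
          exact card_conj a z y
        · intro y _
          have h1 := ihn a ha ha0 y
          have hdvd : Nat.card (centralizer ({y} : Set G)) ∣ g :=
            hg ▸ Subgroup.card_subgroup_dvd_card _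
          have h2 := gcd_dvd_aux a g _ hdvd
          rw [hg]
          exact dvd_trans h2 (Nat.mul_dvd_mul_left _ h1)
      have h1 := key (p ^ e) m' hme.symm hlt1 (by omega)
      have h2 := key m' (p ^ e) (by rw [mul_comm]; exact hme.symm) hlt2 hm'0
      rw [hme, Nat.gcd_comm, Nat.Coprime.gcd_mul g hcop]
      have hc2 : (Nat.gcd g (p ^ e)).Coprime (Nat.gcd g m') :=
        Nat.Coprime.coprime_dvd_left (Nat.gcd_dvd_right _ _)
          (Nat.Coprime.coprime_dvd_right (Nat.gcd_dvd_right _ _) hcop)
      rw [Nat.gcd_comm g (p ^ e), Nat.gcd_comm g m'] at hc2 ⊢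
      exact hc2.mul_dvd_of_dvd_of_dvd (hme ▸ h1) (hme ▸ h2)
  · -- noncentral case: pass to the centralizer
    set C := centralizer ({c} : Set G) with hC
    have hCne : C ≠ ⊤ := by
      intro h
      apply hc
      rw [mem_center_iff]
      intro y
      have : y ∈ C := h ▸ mem_top y
      rw [hC, mem_centralizer_singleton_iff] at this
      exact this
    have hClt : Nat.card C < g := by
      rw [← hg]
      apply lt_of_le_of_ne (Subgroup.card_le_card_group C)
      intro h
      exact hCne (Subgroup.card_eq_iff_eq_top C |>.mp h)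
    have h1 := ihg (Nat.card C) hClt C rfl n hn0 ⟨c, mem_centralizer_singleton_iff.mpr rfl⟩
    have h2 : centralizer ({(⟨c, mem_centralizer_singleton_iff.mpr rfl⟩ : C)} : Set C) = ⊤ := by
      rw [eq_top_iff]
      intro y _
      rw [mem_centralizer_singleton_iff]
      apply Subtype.ext
      exact (mem_centralizer_singleton_iff (g := c)).mp y.2
    rw [h2, Subgroup.card_top] at h1
    rw [card_centralizer n c]
    exact h1

/-- **Frobenius' theorem** (general form). -/
theorem gcd_dvd_card_root {G : Type u} [Group G] [Finite G] (n : ℕ) (hn : 0 < n) (c : G) :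
    Nat.gcd n (Nat.card (centralizer ({c} : Set G))) ∣ Nat.card {x : G // x ^ n = c} :=
  gcd_dvd_card_root_aux _ G rfl n hn c

end Cfsg.Agent.Helper21.FrobGen
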