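import Mathlib
import Cfsg.Agent.Helper21.Gruen

set_option autoImplicit false
set_option linter.style.haveILetI false
set_option linter.unusedSectionVars false

namespace Cfsg.Agent.Helper21

open MonoidHom MulAction Subgroup
open scoped commutatorElement

theorem sum_range_choose_eq (t : ℕ) : ∀ n : ℕ, ∑ j ∈ Finset.range n, j.choose t = n.choose (t + 1)
  | 0 => by simp
  | n + 1 => by
    rw [Finset.sum_range_succ, sum_range_choose_eq t n, Nat.choose_succ_succ, add_comm]

section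
variable {D A : Type*} [Group D] [CommGroup A]

theorem iterate_hom_mul (σ : D →* D) (a b : D) : ∀ j : ℕ, (⇑σ)^[j] (a * b) = (⇑σ)^[j] a * (⇑σ)^[j] b
  | 0 => rfl
  | j + 1 => by
    rw [Function.iterate_succ_apply, Function.iterate_succ_apply, Function.iterate_succ_apply,
      map_mul, iterate_hom_mul σ _ _ j]

/-- Pascal expansion of `ψ (σ^j (y_l))` where `y_{l+1} = y_l⁻¹ σ(y_l)`. -/
theorem pascal_expand (σ : D →* D) (ψ : D →* A) (x : D) :
    ∀ (j l : ℕ), ψ ((⇑σ)^[j] ((fun y => y⁻¹ * σ y)^[l] x)) =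
      ∏ t ∈ Finset.range (j + 1), ψ ((fun y => y⁻¹ * σ y)^[l + t] x) ^ (j.choose t) := by
  intro j
  induction j with
  | zero =>
    intro l
    simp
  | succ j ih =>
    intro l
    have hσ : σ ((fun y => y⁻¹ * σ y)^[l] x) =
        (fun y => y⁻¹ * σ y)^[l] x * (fun y => y⁻¹ * σ y)^[l + 1] x := by
      rw [Function.iterate_succ_apply']
      group
    rw [Function.iterate_succ_apply, hσ, iterate_hom_mul, map_mul, ih l, ih (l + 1)]
    -- Pascal
    rw [Finset.prod_range_succ' _ (j + 1)]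
    have e1 : ∏ t ∈ Finset.range (j + 1),
        ψ ((fun y => y⁻¹ * σ y)^[l + (t + 1)] x) ^ ((j + 1).choose (t + 1)) =
        (∏ t ∈ Finset.range (j + 1), ψ ((fun y => y⁻¹ * σ y)^[l + (t + 1)] x) ^ (j.choose t)) *
        ∏ t ∈ Finset.range (j + 1), ψ ((fun y => y⁻¹ * σ y)^[l + (t + 1)] x) ^ (j.choose (t + 1)) := by
      rw [← Finset.prod_mul_distrib]
      apply Finset.prod_congr rfl
      intro t _
      rw [Nat.choose_succ_succ, pow_add]
    rw [e1]
    have e2 : ∏ t ∈ Finset.range (j + 1), ψ ((fun y => y⁻¹ * σ y)^[l + t] x) ^ (j.choose t) =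
        (∏ t ∈ Finset.range j, ψ ((fun y => y⁻¹ * σ y)^[l + (t + 1)] x) ^ (j.choose (t + 1))) *
          ψ ((fun y => y⁻¹ * σ y)^[l] x) := by
      rw [Finset.prod_range_succ']
      simp
    have e3 : ∏ t ∈ Finset.range (j + 1),
        ψ ((fun y => y⁻¹ * σ y)^[l + (t + 1)] x) ^ (j.choose (t + 1)) =
        ∏ t ∈ Finset.range j, ψ ((fun y => y⁻¹ * σ y)^[l + (t + 1)] x) ^ (j.choose (t + 1)) := by
      rw [Finset.prod_range_succ, Nat.choose_succ_self, pow_zero, mul_one]
    have e4 : ∀ t, l + 1 + t = l + (t + 1) := by intro t; omega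
    simp only [e4]
    rw [e2, e3]
    simp only [Nat.choose_zero_right, pow_one, add_zero]
    rw [mul_comm (∏ t ∈ Finset.range j, _) (ψ _), mul_assoc, mul_comm (∏ t ∈ Finset.range j, _)]
    rw [mul_comm, mul_assoc]

/-- If `y_{p-1}` is killed and all `ψ (y_l)` have order dividing `p`, the "norm" of `x` under `σ`
is killed. -/
theorem prod_iterate_eq_one_of_engel (σ : D →* D) (ψ : D →* A) (x : D) {p : ℕ} (hp : p.Prime)
    (hy : ψ ((fun y => y⁻¹ * σ y)^[p - 1] x) = 1)
    (hpow : ∀ l : ℕ, ψ ((fun y => y⁻¹ * σ y)^[l] x) ^ p = 1) :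
    ∏ i ∈ Finset.range p, ψ ((⇑σ)^[i] x) = 1 := by
  have h1 : ∀ i ∈ Finset.range p, ψ ((⇑σ)^[i] x) =
      ∏ t ∈ Finset.range p, ψ ((fun y => y⁻¹ * σ y)^[t] x) ^ (i.choose t) := by
    intro i hi
    rw [Finset.mem_range] at hi
    have := pascal_expand σ ψ x i 0
    simp only [Function.iterate_zero, id_eq, zero_add] at this
    rw [this]
    apply Finset.prod_subset
    · intro t ht
      rw [Finset.mem_range] at ht ⊢
      omega
    · intro t _ ht
      rw [Finset.mem_range] at ht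
      rw [Nat.choose_eq_zero_of_lt (by omega), pow_zero]
  rw [Finset.prod_congr rfl h1, Finset.prod_comm]
  apply Finset.prod_eq_one
  intro t ht
  rw [Finset.mem_range] at ht
  rw [Finset.prod_pow_eq_pow_sum, sum_range_choose_eq]
  by_cases htp : t = p - 1
  · rw [htp, hy, one_pow]
  · have hdvd : p ∣ p.choose (t + 1) := hp.dvd_choose_self (by omega) (by omega)
    obtain ⟨m, hm⟩ := hdvd
    rw [hm, pow_mul, hpow t, one_pow]

end

section
variable {G : Type*} [Group G] [Finite G] {p : ℕ} [Fact p.Prime]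

/-- In a `p`-group `P` with normal subgroup `Q` and a subgroup `D` not containing `Q`, there is
`z ∈ Q` normalizing `D`, outside `D`, with `z ^ p ∈ D`. -/
theorem exists_norm_elt (P Q D : Subgroup G) (hP : IsPGroup p ↥P) (hQP : Q ≤ P)
    (hQn : P ≤ normalizer (Q : Set G)) (hD : D ≤ P) (hQD : ¬ Q ≤ D) :
    ∃ z ∈ Q, z ∈ normalizer (D : Set G) ∧ z ∉ D ∧ z ^ p ∈ D := by
  classical
  set E : Subgroup G := D ⊔ Q with hE
  have hEP : E ≤ P := sup_le hD hQP
  have hEp : IsPGroup p ↥E := hP.to_le hEP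
  have hDE : D ≤ E := le_sup_left
  have hlt : D.subgroupOf E < ⊤ := by
    rw [lt_top_iff_ne_top, Ne, Subgroup.subgroupOf_eq_top]
    intro hle
    exact hQD (le_sup_right.trans hle)
  haveI : Group.IsNilpotent ↥E := hEp.isNilpotent
  have hnc := Group.normalizerCondition_of_isNilpotent (G := ↥E) _ hlt
  obtain ⟨g, hgN, hgD⟩ := SetLike.exists_of_lt hnc
  rw [← Subgroup.subgroupOf_normalizer_eq hDE, Subgroup.mem_subgroupOf] at hgN
  rw [Subgroup.mem_subgroupOf] at hgD
  have hgE : (g : G) ∈ (↑(D ⊔ Q) : Set G) := g.2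
  rw [Subgroup.coe_mul_of_left_le_normalizer_right D Q (hD.trans hQn)] at hgE
  obtain ⟨d, hd, q, hq, hdq⟩ := hgE
  have hqN : q ∈ normalizer (D : Set G) := by
    have : q = d⁻¹ * g := by rw [← hdq]; group
    rw [this]; exact mul_mem (inv_mem (le_normalizer hd)) hgN
  have hqD : q ∉ D := by
    intro h; apply hgD; rw [← hdq]; exact D.mul_mem hd h
  have hex : ∃ i : ℕ, q ^ (p ^ i) ∈ D := by
    obtain ⟨n, hn⟩ := (IsPGroup.iff_orderOf.mp hP) ⟨q, hQP hq⟩
    refine ⟨n, ?_⟩
    have h1 : orderOf q = p ^ n := by rw [← hn, Subgroup.orderOf_mk]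
    have : q ^ (p ^ n) = 1 := by
      rw [← h1]; exact pow_orderOf_eq_one q
    rw [this]; exact D.one_mem
  have hi_spec := Nat.find_spec hex
  have hi0 : Nat.find hex ≠ 0 := by
    intro h0; rw [h0, pow_zero, pow_one] at hi_spec; exact hqD hi_spec
  obtain ⟨i', hi'⟩ := Nat.exists_eq_succ_of_ne_zero hi0
  refine ⟨q ^ (p ^ i'), Q.pow_mem hq _, (normalizer _).pow_mem hqN _, ?_, ?_⟩
  · exact Nat.find_min hex (by omega)
  · rw [← pow_mul, ← pow_succ, ← Nat.succ_eq_add_one, ← hi']; exact hi_spec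

theorem exists_lt_smul_eq (H : Subgroup G) (c : G ⧸ H) (z : G) (hp0 : 0 < p)
    (hzp : z ^ p ∈ stabIn H c) (m : G) (hm : m ∈ zpowers z) :
    ∃ i < p, m • c = z ^ i • c := by
  rw [← mem_powers_iff_mem_zpowers, Submonoid.mem_powers_iff] at hm
  obtain ⟨n, rfl⟩ := hm
  refine ⟨n % p, Nat.mod_lt _ hp0, ?_⟩
  have hfix : (z ^ p) ^ (n / p) • c = c := by
    have := (stabIn H c).pow_mem hzp (n / p)
    exact ((mem_stabIn H c _).mp this).2
  conv_lhs => rw [← Nat.mod_add_div n p, pow_add, pow_mul, mul_smul, hfix]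

theorem injOn_pow_smul (H : Subgroup G) (c : G ⧸ H) (z : G) (hzH : z ∈ H)
    (hzD : z ∉ stabIn H c) (hzp : z ^ p ∈ stabIn H c) :
    Set.InjOn (fun i : ℕ => z ^ i • c) (Finset.range p : Set ℕ) := by
  have hp : p.Prime := Fact.out
  have key : ∀ i j : ℕ, i ≤ j → j < p → z ^ i • c = z ^ j • c → i = j := by
    intro i j hij hj h
    by_contra hne
    have hd : 0 < j - i := by omega
    have hdp : j - i < p := by omega
    have h1 : z ^ (j - i) • c = c := by
      have : z ^ j = z ^ i * z ^ (j - i) := by rw [← pow_add]; congr 1; omega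
      rw [this, mul_smul] at h
      exact (smul_left_cancel _ h).symm
    have h2 : z ^ (j - i) ∈ stabIn H c := (mem_stabIn H c _).mpr ⟨H.pow_mem hzH _, h1⟩
    have hcop : Nat.Coprime (j - i) p := by
      apply Nat.Coprime.symm
      rw [Nat.Prime.coprime_iff_not_dvd hp]
      intro hdvd
      have := Nat.le_of_dvd hd hdvd
      omega
    have hb := Nat.gcd_eq_gcd_ab (j - i) p
    rw [hcop.gcd_eq_one] at hb
    apply hzD
    have : z = (z ^ (j - i)) ^ (Nat.gcdA (j - i) p) * (z ^ p) ^ (Nat.gcdB (j - i) p) := by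
      rw [← zpow_natCast, ← zpow_natCast, ← zpow_mul, ← zpow_mul, ← zpow_add, ← hb]
      simp
    rw [this]
    exact (stabIn H c).mul_mem ((stabIn H c).zpow_mem h2 _) ((stabIn H c).zpow_mem hzp _)
  intro i hi j hj h
  simp only [Finset.coe_range, Set.mem_Iio] at hi hj
  rcases le_total i j with hij | hij
  · exact key i j hij hj h
  · exact (key j i hij hi h.symm).symm

/-- The product of the transfer contributions over a `⟨z⟩`-block is trivial under the Engel
condition. -/
theorem block_prod_eq_one (H : Subgroup G) {A : Type*} [CommGroup A] (ϕ : ↥H →* A) (x : G)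
    (hxH : x ∈ H) (hxc : x ∈ commutator G)
    (h3 : ∀ y : ↥H, (y : G) ∈ commutator G → ϕ y ^ p = 1)
    (c : G ⧸ H) (hc : x • c = c) (z : G)
    (hzN : z ∈ normalizer (stabIn H c : Set G))
    (hengel : (fun y : G => y⁻¹ * z⁻¹ * y * z)^[p - 1] x = 1) :
    ∏ i ∈ Finset.range p, trF H ϕ x (z ^ i • c) = 1 := by
  have hp : p.Prime := Fact.out
  have hnormal : (commutator G).Normal := inferInstance
  have hck : ((c.out : G) : G ⧸ H) = c := QuotientGroup.out_eq' c
  set k := c.out with hk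
  set D : Subgroup G := stabIn H c with hD
  have hDk : ∀ d ∈ D, k⁻¹ * d * k ∈ H := by
    intro d hd
    have := ((mem_stabIn H c d).mp hd).2
    rw [← hck, smul_mk_eq_iff] at this
    exact this
  let conjHom : ↥D →* ↥H :=
    { toFun := fun d => ⟨k⁻¹ * d * k, hDk d d.2⟩
      map_one' := by apply Subtype.ext; simp
      map_mul' := by intro a b; apply Subtype.ext; simp only [Subgroup.coe_mul]; group }
  have hσmem : ∀ d ∈ D, z⁻¹ * d * z ∈ D := by
    intro d hd
    exact (Subgroup.mem_normalizer_iff''.mp hzN d).mp hd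
  let σ : ↥D →* ↥D :=
    { toFun := fun d => ⟨z⁻¹ * d * z, hσmem d d.2⟩
      map_one' := by apply Subtype.ext; simp
      map_mul' := by intro a b; apply Subtype.ext; simp only [Subgroup.coe_mul]; group }
  let ψ : ↥D →* A := ϕ.comp conjHom
  let xt : ↥D := ⟨x, (mem_stabIn H c x).mpr ⟨hxH, hc⟩⟩
  have claim1 : ∀ i : ℕ, (((⇑σ)^[i] xt : ↥D) : G) = (z ^ i)⁻¹ * x * z ^ i := by
    intro i
    induction i with
    | zero => simp [xt]
    | succ i ih =>
      rw [Function.iterate_succ_apply']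
      show z⁻¹ * (((⇑σ)^[i] xt : ↥D) : G) * z = _
      rw [ih, pow_succ]
      group
  have claim2 : ∀ i : ℕ, trF H ϕ x (z ^ i • c) = ψ ((⇑σ)^[i] xt) := by
    intro i
    have hmem : (z ^ i * k)⁻¹ * x * (z ^ i * k) ∈ H := by
      have := hDk _ ((⇑σ)^[i] xt).2
      rw [claim1] at this
      have e : (z ^ i * k)⁻¹ * x * (z ^ i * k) = k⁻¹ * ((z ^ i)⁻¹ * x * z ^ i) * k := by group
      rw [e]; exact this
    rw [← hck, MulAction.Quotient.smul_mk, smul_eq_mul, trF_mk H ϕ x (z ^ i * k) hmem]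
    show _ = ϕ (conjHom ((⇑σ)^[i] xt))
    congr 1
    apply Subtype.ext
    show _ = k⁻¹ * (((⇑σ)^[i] xt : ↥D) : G) * k
    rw [claim1]
    group
  have claim3 : ∀ l : ℕ, ((((fun y : ↥D => y⁻¹ * σ y)^[l] xt) : ↥D) : G) =
      (fun y : G => y⁻¹ * z⁻¹ * y * z)^[l] x := by
    intro l
    induction l with
    | zero => simp [xt]
    | succ l ih =>
      rw [Function.iterate_succ_apply', Function.iterate_succ_apply']
      show ((((fun y : ↥D => y⁻¹ * σ y)^[l] xt) : ↥D) : G)⁻¹ *
        (z⁻¹ * ((((fun y : ↥D => y⁻¹ * σ y)^[l] xt) : ↥D) : G) * z) = _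
      rw [ih]
      group
  have claim4 : ∀ l : ℕ, (fun y : G => y⁻¹ * z⁻¹ * y * z)^[l] x ∈ commutator G := by
    intro l
    induction l with
    | zero => simpa using hxc
    | succ l ih =>
      rw [Function.iterate_succ_apply']
      have h1 := hnormal.conj_mem _ ih z⁻¹
      rw [inv_inv] at h1
      have h2 := (commutator G).mul_mem ((commutator G).inv_mem ih) h1
      have e : ((fun y : G => y⁻¹ * z⁻¹ * y * z)^[l] x)⁻¹ *
          (z⁻¹ * (fun y : G => y⁻¹ * z⁻¹ * y * z)^[l] x * z) =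
          ((fun y : G => y⁻¹ * z⁻¹ * y * z)^[l] x)⁻¹ * z⁻¹ *
            (fun y : G => y⁻¹ * z⁻¹ * y * z)^[l] x * z := by group
      rw [e] at h2
      exact h2
  rw [Finset.prod_congr rfl (fun i _ => claim2 i)]
  apply prod_iterate_eq_one_of_engel σ ψ xt hp
  · have : (fun y : ↥D => y⁻¹ * σ y)^[p - 1] xt = 1 := by
      apply Subtype.ext
      rw [claim3, hengel]
      rfl
    rw [this, map_one]
  · intro l
    show ϕ (conjHom ((fun y : ↥D => y⁻¹ * σ y)^[l] xt)) ^ p = 1
    apply h3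
    show k⁻¹ * ((((fun y : ↥D => y⁻¹ * σ y)^[l] xt) : ↥D) : G) * k ∈ commutator G
    rw [claim3]
    have := hnormal.conj_mem _ (claim4 l) k⁻¹
    rwa [inv_inv] at this

theorem mem_normalizer_of_map_conj_eq (Q : Subgroup G) (g : G)
    (h : Q.map (MulAut.conj g).toMonoidHom = Q) : g ∈ normalizer (Q : Set G) := by
  rw [Subgroup.mem_normalizer_iff]
  intro y
  constructor
  · intro hy
    rw [← h]
    exact ⟨y, hy, by simp⟩
  · intro hy
    rw [← h] at hy
    obtain ⟨q, hq, hqe⟩ := hy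
    have : q = y := by
      apply (MulAut.conj g).injective
      rw [MulAut.conj_apply]
      simpa using hqe
    rwa [← this]

/-- Core of the Hall–Wielandt theorem: `Q` weakly closed in the Sylow `p`-subgroup `H` with the
Engel condition; a homomorphism from `H` to an abelian group killing `H ∩ N_G(Q)'` whose values on
`H ∩ G'` have order dividing `p` kills `H ∩ G'`. -/
theorem hw_core (H Q : Subgroup G) (hPG : IsPGroup p ↥H) (hidx : ¬ p ∣ H.index)
    (hQH : Q ≤ H)
    (hwc : ∀ g : G, Q.map (MulAut.conj g).toMonoidHom ≤ H →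
      Q.map (MulAut.conj g).toMonoidHom = Q)
    (hengel : ∀ u ∈ H, ∀ z ∈ Q, (fun y : G => y⁻¹ * z⁻¹ * y * z)^[p - 1] u = 1)
    {A : Type*} [CommGroup A] (ϕ : ↥H →* A)
    (h1 : ∀ y : ↥H, (y : G) ∈ ⁅normalizer (Q : Set G), normalizer (Q : Set G)⁆ → ϕ y = 1)
    (h3 : ∀ y : ↥H, (y : G) ∈ commutator G → ϕ y ^ p = 1) :
    ∀ u : ↥H, (u : G) ∈ commutator G → ϕ u = 1 := by
  classical
  have hp : p.Prime := Fact.out
  have hdvd_order : ∀ v : ↥H, v ≠ 1 → p ∣ orderOf v := by
    intro v hv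
    obtain ⟨a, ha⟩ := (IsPGroup.iff_orderOf.mp hPG) v
    rcases a with _ | a
    · rw [pow_zero, orderOf_eq_one_iff] at ha
      exact absurd ha hv
    · rw [ha, pow_succ]; exact dvd_mul_left p _
  have hHN : H ≤ normalizer (Q : Set G) := by
    intro g hg
    apply mem_normalizer_of_map_conj_eq
    apply hwc g
    rintro _ ⟨q, hq, rfl⟩
    simp only [MulEquiv.coe_toMonoidHom, MulAut.conj_apply]
    exact H.mul_mem (H.mul_mem hg (hQH hq)) (H.inv_mem hg)
  suffices hmain : ∀ n : ℕ, ∀ u : ↥H, orderOf u = n → (u : G) ∈ commutator G → ϕ u = 1 from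
    fun u hu => hmain _ u rfl hu
  intro n
  induction n using Nat.strong_induction_on with
  | _ n ih =>
  intro u hun hu
  by_cases hu1 : u = 1
  · rw [hu1, map_one]
  have IH : ∀ v : ↥H, orderOf v < orderOf u → (v : G) ∈ commutator G → ϕ v = 1 := by
    intro v hv hvc
    exact ih (orderOf v) (hun ▸ hv) v rfl hvc
  clear ih
  set x : G := (u : G) with hx
  have hxH : x ∈ H := u.2
  have hxo : orderOf x = orderOf u := Subgroup.orderOf_coe u
  have hnormal : (commutator G).Normal := inferInstance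
  have := Fintype.ofFinite (G ⧸ H)
  have hT : transfer ϕ x = 1 := by
    have := Abelianization.commutator_subset_ker (transfer ϕ) hu
    exact MonoidHom.mem_ker.mp this
  have hkillpow : ∀ (k : G) (r : ℕ), p ∣ r → ∀ h : k⁻¹ * x ^ r * k ∈ H,
      ϕ ⟨k⁻¹ * x ^ r * k, h⟩ = 1 := by
    intro k r hr h
    apply IH
    · rw [Subgroup.orderOf_mk, orderOf_conj_eq, ← hxo]
      apply orderOf_pow_lt_of_prime_dvd hp x _ r hr
      rw [hxo]; exact hdvd_order u hu1
    · have := hnormal.conj_mem (x ^ r) (pow_mem hu r) k⁻¹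
      simpa using this
  rw [transfer_eq_prod_fixed H ϕ x] at hT
  swap
  · intro k r hr1 hrd h
    apply hkillpow k r _ h
    obtain ⟨a, ha⟩ := (IsPGroup.iff_orderOf.mp hPG) u
    rw [hxo, ha] at hrd
    obtain ⟨j, _, hj⟩ := (Nat.dvd_prime_pow hp).mp hrd
    rcases j with _ | j
    · rw [pow_zero] at hj; exact absurd hj hr1
    · rw [hj, pow_succ]; exact dvd_mul_left p _
  set Fix : Finset (G ⧸ H) := Finset.univ.filter (fun c : G ⧸ H => x • c = c) with hFix
  set FixQ : Finset (G ⧸ H) :=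
    Finset.univ.filter (fun c : G ⧸ H => (∀ m ∈ Q, m • c = c) ∧ x • c = c) with hFixQ
  have hQsub : FixQ ⊆ Fix := by
    intro c hc
    simp only [hFix, hFixQ, Finset.mem_filter, Finset.mem_univ, true_and] at hc ⊢
    exact hc.2
  rw [← Finset.prod_sdiff hQsub] at hT
  -- (a)
  have hA : ∀ c ∈ FixQ, trF H ϕ x c = ϕ u := by
    intro c hc
    simp only [hFixQ, Finset.mem_filter, Finset.mem_univ, true_and] at hc
    obtain ⟨hcQ, hcx⟩ := hc
    have hck : ((c.out : G) : G ⧸ H) = c := QuotientGroup.out_eq' c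
    set k := c.out with hk
    have hconj : ∀ m ∈ Q, k⁻¹ * m * k ∈ H := by
      intro m hm
      have := hcQ m hm
      rw [← hck, smul_mk_eq_iff] at this
      exact this
    have hkN : k⁻¹ ∈ Subgroup.normalizer (Q : Set G) := by
      apply mem_normalizer_of_map_conj_eq
      apply hwc
      rintro _ ⟨m, hm, rfl⟩
      have := hconj m hm
      simpa using this
    have hmem : k⁻¹ * x * k ∈ H := by
      rw [← hck, smul_mk_eq_iff] at hcx
      exact hcx
    rw [← hck, trF_mk H ϕ x k hmem]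
    have hw : x⁻¹ * (k⁻¹ * x * k) ∈ H := H.mul_mem (H.inv_mem hxH) hmem
    have e : (⟨k⁻¹ * x * k, hmem⟩ : ↥H) = u * ⟨x⁻¹ * (k⁻¹ * x * k), hw⟩ := by
      apply Subtype.ext
      simp only [Subgroup.coe_mul]
      rw [← hx]
      group
    rw [e, map_mul, h1 ⟨_, hw⟩ ?_, mul_one]
    have e2 : x⁻¹ * (k⁻¹ * x * k) = ⁅x⁻¹, k⁻¹⁆ := by rw [commutatorElement_def]; group
    show x⁻¹ * (k⁻¹ * x * k) ∈ _
    rw [e2]
    exact Subgroup.commutator_mem_commutator (hHN (H.inv_mem hxH)) hkN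
  -- (b)
  have hB : ¬ p ∣ FixQ.card := by
    set K : Subgroup G := Q ⊔ zpowers x with hK
    have hKH : K ≤ H := sup_le hQH (by rw [Subgroup.zpowers_le]; exact hxH)
    have hKp : IsPGroup p ↥K := hPG.to_le hKH
    have hmod := hKp.card_modEq_card_fixedPoints (G ⧸ H)
    have hcard : Nat.card (fixedPoints ↥K (G ⧸ H)) = FixQ.card := by
      rw [← Fintype.card_coe FixQ, ← Nat.card_eq_fintype_card]
      apply Nat.card_congr
      apply Equiv.subtypeEquivRight
      intro c
      simp only [hFixQ, Finset.mem_filter, Finset.mem_univ, true_and, MulAction.mem_fixedPoints]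
      constructor
      · intro h
        refine ⟨fun m hm => h ⟨m, le_sup_left (a := Q) hm⟩, ?_⟩
        exact h ⟨x, le_sup_right (a := Q) (Subgroup.mem_zpowers x)⟩
      · rintro ⟨hQc, hxc⟩ m
        have hle : K ≤ stabilizer G c := by
          apply sup_le
          · intro q hq; exact hQc q hq
          · rw [Subgroup.zpowers_le]; exact hxc
        exact hle m.2
    rw [hcard] at hmod
    intro hdvd
    apply hidx
    show p ∣ Nat.card (G ⧸ H)
    exact (Nat.modEq_zero_iff_dvd.mp (hmod.trans (Nat.modEq_zero_iff_dvd.mpr hdvd)))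
  -- selection of the elements `z`
  have hsel : ∀ D : Subgroup G, D ≤ H → ¬ Q ≤ D →
      ∃ z : G, z ∈ Q ∧ z ∈ normalizer (D : Set G) ∧ z ∉ D ∧ z ^ p ∈ D := by
    intro D hD hQD
    obtain ⟨z, h1, h2, h3, h4⟩ := exists_norm_elt H Q D hPG hQH hHN hD hQD
    exact ⟨z, h1, h2, h3, h4⟩
  choose! zs hzs using hsel
  have hnotle : ∀ c ∈ Fix \ FixQ, ¬ Q ≤ stabIn H c := by
    intro c hc hle
    rw [Finset.mem_sdiff] at hc
    obtain ⟨hcF, hcN⟩ := hc
    simp only [hFix, hFixQ, Finset.mem_filter, Finset.mem_univ, true_and] at hcF hcN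
    apply hcN
    exact ⟨fun m hm => ((mem_stabIn H c m).mp (hle hm)).2, hcF⟩
  have hzpow_le : ∀ c ∈ Fix \ FixQ, zpowers (zs (stabIn H c)) ≤ normStabIn H c := by
    intro c hc
    obtain ⟨hz1, hz2, _, _⟩ := hzs (stabIn H c) inf_le_left (hnotle c hc)
    rw [Subgroup.zpowers_le]
    exact Subgroup.mem_inf.mpr ⟨hQH hz1, hz2⟩
  -- (c)
  have hC : ∏ c ∈ Fix \ FixQ, trF H ϕ x c = 1 := by
    apply prod_eq_one_of_blocks (trF H ϕ x)
      (fun c => Finset.univ.filter
        (fun c' : G ⧸ H => ∃ m ∈ zpowers (zs (stabIn H c)), m • c = c'))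
    · intro c _
      simp only [Finset.mem_filter, Finset.mem_univ, true_and]
      exact ⟨1, Subgroup.one_mem _, one_smul _ _⟩
    · intro c hc c' hc'
      simp only [Finset.mem_filter, Finset.mem_univ, true_and] at hc'
      obtain ⟨m, hmz, rfl⟩ := hc'
      have hm : m ∈ normStabIn H c := hzpow_le c hc hmz
      obtain ⟨hz1, _, _, _⟩ := hzs (stabIn H c) inf_le_left (hnotle c hc)
      have hmQ : m ∈ Q := (Subgroup.zpowers_le.mpr hz1) hmz
      rw [Finset.mem_sdiff] at hc ⊢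
      obtain ⟨hcF, hcN⟩ := hc
      simp only [hFix, hFixQ, Finset.mem_filter, Finset.mem_univ, true_and] at hcF hcN ⊢
      have hxm : x • m • c = m • c := by
        have hxs : x ∈ stabIn H (m • c) := by
          rw [stabIn_smul H c m hm, mem_stabIn]
          exact ⟨hxH, hcF⟩
        exact ((mem_stabIn H _ x).mp hxs).2
      refine ⟨hxm, ?_⟩
      rintro ⟨hall, _⟩
      apply hcN
      refine ⟨?_, hcF⟩
      intro q hq
      have := hall (m * q * m⁻¹) (Q.mul_mem (Q.mul_mem hmQ hq) (Q.inv_mem hmQ))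
      rw [mul_smul, mul_smul, inv_smul_smul] at this
      exact smul_left_cancel m this
    · intro c hc c' hc'
      simp only [Finset.mem_filter, Finset.mem_univ, true_and] at hc'
      obtain ⟨m, hmz, rfl⟩ := hc'
      have hm : m ∈ normStabIn H c := hzpow_le c hc hmz
      ext y
      simp only [Finset.mem_filter, Finset.mem_univ, true_and]
      rw [stabIn_smul H c m hm]
      constructor
      · rintro ⟨n, hn, rfl⟩
        exact ⟨n * m, mul_mem hn hmz, mul_smul _ _ _⟩
      · rintro ⟨n, hn, rfl⟩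
        exact ⟨n * m⁻¹, mul_mem hn (inv_mem hmz), by rw [mul_smul, inv_smul_smul]⟩
    · intro c hc
      obtain ⟨hz1, hz2, hz3, hz4⟩ := hzs (stabIn H c) inf_le_left (hnotle c hc)
      set z := zs (stabIn H c) with hz
      have hcF : x • c = c := by
        rw [Finset.mem_sdiff] at hc
        have := hc.1
        simp only [hFix, Finset.mem_filter, Finset.mem_univ, true_and] at this
        exact this
      have himage : Finset.univ.filter (fun c' : G ⧸ H => ∃ m ∈ zpowers z, m • c = c') =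
          (Finset.range p).image (fun i : ℕ => z ^ i • c) := by
        ext c'
        simp only [Finset.mem_filter, Finset.mem_univ, true_and, Finset.mem_image,
          Finset.mem_range]
        constructor
        · rintro ⟨m, hm, rfl⟩
          obtain ⟨i, hi, hie⟩ := exists_lt_smul_eq H c z hp.pos hz4 m hm
          exact ⟨i, hi, hie.symm⟩
        · rintro ⟨i, _, rfl⟩
          exact ⟨z ^ i, Subgroup.pow_mem _ (Subgroup.mem_zpowers z) i, rfl⟩
      rw [himage, Finset.prod_image (injOn_pow_smul H c z (hQH hz1) hz3 hz4)]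
      exact block_prod_eq_one H ϕ x hxH hu h3 c hcF z hz2 (hengel x hxH z hz1)
  rw [hC, one_mul, Finset.prod_congr rfl hA, Finset.prod_const] at hT
  obtain ⟨a, ha⟩ := (IsPGroup.iff_orderOf.mp hPG) u
  have hd1 : orderOf (ϕ u) ∣ FixQ.card := orderOf_dvd_of_pow_eq_one hT
  have hd2 : orderOf (ϕ u) ∣ p ^ a := ha ▸ orderOf_map_dvd ϕ u
  have hcop : Nat.Coprime (p ^ a) FixQ.card :=
    Nat.Coprime.pow_left a ((Nat.Prime.coprime_iff_not_dvd hp).mpr hB)
  have := Nat.dvd_gcd hd2 hd1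
  rw [hcop.gcd_eq_one, Nat.dvd_one] at this
  exact orderOf_eq_one_iff.mp this

theorem eq_bot_of_forall_exists_pow {A₀ : Type*} [Group A₀] [Finite A₀]
    (hA : IsPGroup p A₀) (B : Subgroup A₀) (h : ∀ b ∈ B, ∃ b' ∈ B, b' ^ p = b) : B = ⊥ := by
  have hp : p.Prime := Fact.out
  obtain ⟨b₀, hb₀⟩ := Finite.exists_max (fun b : ↥B => orderOf (b : A₀))
  obtain ⟨b', hb'B, hb'⟩ := h b₀ b₀.2
  have hb'1 : b' = 1 := by
    by_contra hne
    have hdvd : p ∣ orderOf b' := by
      obtain ⟨a, ha⟩ := (IsPGroup.iff_orderOf.mp hA) b'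
      rcases a with _ | a
      · rw [pow_zero, orderOf_eq_one_iff] at ha
        exact absurd ha hne
      · rw [ha, pow_succ]; exact dvd_mul_left p _
    have hlt := orderOf_pow_lt_of_prime_dvd hp b' hdvd p dvd_rfl
    have hle := hb₀ ⟨b', hb'B⟩
    simp only at hle
    rw [hb'] at hlt
    omega
  rw [hb'1, one_pow] at hb'
  rw [eq_bot_iff]
  intro b hb
  have hle := hb₀ ⟨b, hb⟩
  simp only at hle
  rw [← hb', orderOf_one] at hle
  rw [Subgroup.mem_bot, ← orderOf_eq_one_iff]
  have := orderOf_pos b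
  omega

/-- Hall–Wielandt, focal subgroup form. -/
theorem hw_focal (H Q : Subgroup G) (hPG : IsPGroup p ↥H) (hidx : ¬ p ∣ H.index)
    (hQH : Q ≤ H)
    (hwc : ∀ g : G, Q.map (MulAut.conj g).toMonoidHom ≤ H →
      Q.map (MulAut.conj g).toMonoidHom = Q)
    (hengel : ∀ u ∈ H, ∀ z ∈ Q, (fun y : G => y⁻¹ * z⁻¹ * y * z)^[p - 1] u = 1) :
    H ⊓ commutator G ≤ ⁅normalizer (Q : Set G), normalizer (Q : Set G)⁆ := by
  classical
  set N : Subgroup G := normalizer (Q : Set G) with hN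
  have hHN : H ≤ N := by
    intro g hg
    apply mem_normalizer_of_map_conj_eq
    apply hwc g
    rintro _ ⟨q, hq, rfl⟩
    simp only [MulEquiv.coe_toMonoidHom, MulAut.conj_apply]
    exact H.mul_mem (H.mul_mem hg (hQH hq)) (H.inv_mem hg)
  set P₀ : Subgroup G := H ⊓ ⁅N, N⁆ with hP₀
  have hcomm : commutator ↥H ≤ P₀.subgroupOf H := by
    rw [commutator_def, Subgroup.commutator_le]
    intro a _ b _
    rw [Subgroup.mem_subgroupOf]
    refine Subgroup.mem_inf.mpr ⟨(⁅a, b⁆ : ↥H).2, ?_⟩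
    have : ((⁅a, b⁆ : ↥H) : G) = ⁅(a : G), (b : G)⁆ := by simp [commutatorElement_def]
    rw [this]
    exact Subgroup.commutator_mem_commutator (hHN a.2) (hHN b.2)
  haveI hnorm : (P₀.subgroupOf H).Normal := Subgroup.Normal.of_commutator_le _ hcomm
  have hmc : IsMulCommutative (↥H ⧸ P₀.subgroupOf H) :=
    Subgroup.Normal.quotient_commutative_iff_commutator_le.mpr hcomm
  letI : CommGroup (↥H ⧸ P₀.subgroupOf H) :=
    { (inferInstance : Group (↥H ⧸ P₀.subgroupOf H)) with
      mul_comm := fun a b => hmc.is_comm.comm a b }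
  set ϕ₀ : ↥H →* ↥H ⧸ P₀.subgroupOf H := QuotientGroup.mk' (P₀.subgroupOf H) with hϕ₀
  set B : Subgroup (↥H ⧸ P₀.subgroupOf H) :=
    ((H ⊓ commutator G).subgroupOf H).map ϕ₀ with hB
  set Bp : Subgroup (↥H ⧸ P₀.subgroupOf H) := B.map (powMonoidHom p) with hBp
  have key := hw_core H Q hPG hidx hQH hwc hengel ((QuotientGroup.mk' Bp).comp ϕ₀) ?_ ?_
  · have hBbot : B = ⊥ := by
      apply eq_bot_of_forall_exists_pow (p := p) (hPG.to_quotient _) B
      intro b hb
      obtain ⟨u, hu, rfl⟩ := hb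
      rw [SetLike.mem_coe, Subgroup.mem_subgroupOf] at hu
      have := key u (Subgroup.mem_inf.mp hu).2
      rw [MonoidHom.comp_apply, QuotientGroup.mk'_apply, QuotientGroup.eq_one_iff] at this
      obtain ⟨b', hb', hb'e⟩ := this
      exact ⟨b', hb', hb'e⟩
    intro u hu
    have huH : u ∈ H := (Subgroup.mem_inf.mp hu).1
    have hmemB : ϕ₀ ⟨u, huH⟩ ∈ B := ⟨⟨u, huH⟩, by rw [SetLike.mem_coe, Subgroup.mem_subgroupOf]; exact hu, rfl⟩
    rw [hBbot, Subgroup.mem_bot, hϕ₀, QuotientGroup.mk'_apply, QuotientGroup.eq_one_iff,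
      Subgroup.mem_subgroupOf] at hmemB
    exact (Subgroup.mem_inf.mp hmemB).2
  · intro y hy
    have : ϕ₀ y = 1 := by
      rw [hϕ₀, QuotientGroup.mk'_apply, QuotientGroup.eq_one_iff, Subgroup.mem_subgroupOf]
      exact Subgroup.mem_inf.mpr ⟨y.2, hy⟩
    rw [MonoidHom.comp_apply, this, map_one]
  · intro y hy
    rw [← map_pow, MonoidHom.comp_apply, QuotientGroup.mk'_apply, QuotientGroup.eq_one_iff]
    refine ⟨ϕ₀ y, ⟨y, ?_, rfl⟩, ?_⟩
    · rw [SetLike.mem_coe, Subgroup.mem_subgroupOf]; exact Subgroup.mem_inf.mpr ⟨y.2, hy⟩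
    · rw [powMonoidHom_apply, map_pow]

end

end Cfsg.Agent.Helper21
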