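import Mathlib

set_option autoImplicit false
set_option linter.unusedSectionVars false

/-!
The centralizer of an involution in a group of order divisible by `4` has order divisible by `4`.
-/

namespace Cfsg.Agent.Helper21.InvCent

open Subgroup

variable {G : Type*} [Group G] [Finite G]

theorem four_dvd_card_centralizer (h4 : 4 ∣ Nat.card G) (t : G) (ht : orderOf t = 2) :
    4 ∣ Nat.card (centralizer ({t} : Set G)) := by
  have : Fact (Nat.Prime 2) := ⟨Nat.prime_two⟩
  have ht1 : t ≠ 1 := by intro h; rw [h, orderOf_one] at ht; omega
  have hzp : IsPGroup 2 (zpowers t) := by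
    apply IsPGroup.of_card (n := 1)
    rw [Nat.card_zpowers, ht, pow_one]
  obtain ⟨S, hS⟩ := hzp.exists_le_sylow
  have htS : t ∈ (S : Subgroup G) := hS (mem_zpowers t)
  have hS4 : 4 ∣ Nat.card (S : Subgroup G) := by
    have := S.pow_dvd_card_of_pow_dvd_card (n := 2) (by norm_num; exact h4)
    norm_num at this
    exact this
  have hnt : Nontrivial (S : Subgroup G) := by
    rw [← Finite.one_lt_card_iff_nontrivial]
    have : 0 < Nat.card (S : Subgroup G) := Nat.card_pos
    exact lt_of_lt_of_le (by norm_num) (Nat.le_of_dvd this hS4)
  have hc : Nontrivial (center (S : Subgroup G)) := S.isPGroup'.center_nontrivial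
  obtain ⟨z, hz⟩ := exists_ne (1 : center (S : Subgroup G))
  set zG : G := ((z : (S : Subgroup G)) : G) with hzG
  have hzS : zG ∈ (S : Subgroup G) := (z : (S : Subgroup G)).2
  have hz1 : zG ≠ 1 := by
    intro h
    apply hz
    apply Subtype.ext
    apply Subtype.ext
    exact h
  have hzcomm : ∀ s ∈ (S : Subgroup G), s * zG = zG * s := by
    intro s hs
    have hz' := z.2
    rw [mem_center_iff] at hz'
    have := hz' ⟨s, hs⟩
    have h3 := congrArg (Subtype.val) this
    simpa using h3
  by_cases hzt : zG = t
  · have hle : (S : Subgroup G) ≤ centralizer ({t} : Set G) := by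
      intro s hs
      rw [mem_centralizer_iff]
      intro h hh
      rw [Set.mem_singleton_iff] at hh
      subst hh
      rw [← hzt]
      exact (hzcomm s hs).symm
    exact hS4.trans (Subgroup.card_dvd_of_le hle)
  · set H := (S : Subgroup G) ⊓ centralizer ({t} : Set G) with hH
    have hHp : IsPGroup 2 H := S.isPGroup'.to_le inf_le_left
    obtain ⟨n, hn⟩ := hHp.exists_card_eq
    have h1H : (1 : G) ∈ H := Subgroup.one_mem _
    have htH : t ∈ H := by
      refine Subgroup.mem_inf.mpr ⟨htS, ?_⟩
      rw [mem_centralizer_iff]
      intro h hh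
      rw [Set.mem_singleton_iff] at hh
      subst hh
      rfl
    have hzH : zG ∈ H := by
      refine Subgroup.mem_inf.mpr ⟨hzS, ?_⟩
      rw [mem_centralizer_iff]
      intro h hh
      rw [Set.mem_singleton_iff] at hh
      subst hh
      exact hzcomm h htS
    have h3 : 3 ≤ Nat.card H := by
      let f : Fin 3 → H := ![⟨1, h1H⟩, ⟨t, htH⟩, ⟨zG, hzH⟩]
      have hf : Function.Injective f := by
        intro i j hij
        fin_cases i <;> fin_cases j <;> simp [f, Subtype.ext_iff] at hij ⊢ <;>
          first
          | exact absurd hij ht1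
          | exact absurd hij.symm ht1
          | exact absurd hij hz1
          | exact absurd hij.symm hz1
          | exact absurd hij hzt
          | exact absurd hij.symm hzt
      have := Nat.card_le_card_of_injective f hf
      rwa [Nat.card_fin] at this
    have hn2 : 2 ≤ n := by
      by_contra hlt
      push Not at hlt
      have : n = 0 ∨ n = 1 := by omega
      rcases this with h | h <;> rw [h] at hn <;> omega
    have h4H : 4 ∣ Nat.card H := by
      rw [hn]
      exact pow_dvd_pow 2 hn2
    exact h4H.trans (Subgroup.card_dvd_of_le inf_le_right)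

end Cfsg.Agent.Helper21.InvCent
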