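import Mathlib
import Cfsg.Prelude.Def_JordanBlocks

/-!
# Commutant of a unipotent matrix in Jordan form (helper21)

`Nm d` is the nilpotent part `jordanTypeMatrix d F - 1`.  We describe the matrices commuting with it.
-/

set_option autoImplicit false

namespace Cfsg.Agent.Helper21.JC

open Matrix

variable {F : Type*} [Field F] {t : ℕ} (d : Fin t → ℕ)

/-- the index type of the Jordan matrix -/
abbrev Idx := (k : Fin t) × Fin (d k)

/-- the nilpotent part of the Jordan matrix -/
def Nm : Matrix (Idx d) (Idx d) F := Cfsg.jordanTypeMatrix d F - 1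

theorem Nm_apply (x y : Idx d) :
    Nm (F := F) d x y = if x.1 = y.1 ∧ (x.2 : ℕ) = (y.2 : ℕ) + 1 then 1 else 0 := by
  obtain ⟨k, i⟩ := x
  obtain ⟨l, j⟩ := y
  simp only [Nm, Matrix.sub_apply, Cfsg.jordanTypeMatrix, Matrix.blockDiagonal'_apply']
  by_cases h : k = l
  · subst h
    simp only [dite_true, cast_eq, Cfsg.jordanBlock, Matrix.of_apply, Matrix.one_apply, true_and,
      Sigma.mk.injEq, heq_eq_eq]
    by_cases h1 : (i : ℕ) = j
    · have : i = j := Fin.ext h1
      subst this
      simp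
    · have : i ≠ j := fun h => h1 (by rw [h])
      simp [h1, this]
  · have hne : (⟨k, i⟩ : Idx d) ≠ ⟨l, j⟩ := fun hh => h (congrArg Sigma.fst hh)
    simp [h, hne]

/-- commuting with the Jordan matrix is the same as commuting with its nilpotent part -/
theorem commute_iff (g : Matrix (Idx d) (Idx d) F) :
    g * Cfsg.jordanTypeMatrix d F = Cfsg.jordanTypeMatrix d F * g ↔ g * Nm d = Nm d * g := by
  simp only [Nm, mul_sub, sub_mul, mul_one, one_mul]
  constructor
  · intro h; rw [h]
  · intro h; exact sub_left_injective h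

theorem mul_Nm_apply (g : Matrix (Idx d) (Idx d) F) (r : Idx d) (k : Fin t) (i : Fin (d k)) :
    (g * Nm d : Matrix (Idx d) (Idx d) F) r ⟨k, i⟩ =
      if h : (i : ℕ) + 1 < d k then g r ⟨k, ⟨(i : ℕ) + 1, h⟩⟩ else 0 := by
  rw [Matrix.mul_apply]
  by_cases h : (i : ℕ) + 1 < d k
  · rw [dif_pos h, Finset.sum_eq_single (⟨k, ⟨(i : ℕ) + 1, h⟩⟩ : Idx d)]
    · rw [Nm_apply]; simp
    · intro b _ hb
      rw [Nm_apply]
      rw [if_neg, mul_zero]
      rintro ⟨h1, h2⟩
      apply hb
      obtain ⟨l, j⟩ := b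
      simp only at h1 h2
      subst h1
      congr 1
      exact Fin.ext h2
    · intro hh; exact absurd (Finset.mem_univ _) hh
  · rw [dif_neg h]
    apply Finset.sum_eq_zero
    intro b _
    rw [Nm_apply, if_neg, mul_zero]
    rintro ⟨h1, h2⟩
    obtain ⟨l, j⟩ := b
    simp only at h1 h2
    subst h1
    exact h (by rw [← h2]; exact j.2)

theorem Nm_mul_apply (g : Matrix (Idx d) (Idx d) F) (l : Fin t) (j : Fin (d l)) (c : Idx d) :
    (Nm d * g : Matrix (Idx d) (Idx d) F) ⟨l, j⟩ c =
      if h : 0 < (j : ℕ) then g ⟨l, ⟨(j : ℕ) - 1, by omega⟩⟩ c else 0 := by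
  rw [Matrix.mul_apply]
  by_cases h : 0 < (j : ℕ)
  · rw [dif_pos h, Finset.sum_eq_single (⟨l, ⟨(j : ℕ) - 1, by omega⟩⟩ : Idx d)]
    · rw [Nm_apply]
      have : (j : ℕ) = (j : ℕ) - 1 + 1 := by omega
      simp [← this]
    · intro b _ hb
      rw [Nm_apply, if_neg, zero_mul]
      rintro ⟨h1, h2⟩
      apply hb
      obtain ⟨l', j'⟩ := b
      simp only at h1 h2
      subst h1
      congr 1
      exact Fin.ext (by simp only; omega)
    · intro hh; exact absurd (Finset.mem_univ _) hh
  · rw [dif_neg h]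
    apply Finset.sum_eq_zero
    intro b _
    rw [Nm_apply, if_neg, zero_mul]
    rintro ⟨_, h2⟩
    simp only at h2
    omega

end Cfsg.Agent.Helper21.JC
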