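import Cfsg.Agent.Helper21.JC1

/-!
# Parametrisation of the commutant (helper21)
-/

set_option autoImplicit false

namespace Cfsg.Agent.Helper21.JC

open Matrix

variable {F : Type*} [Field F] {t : ℕ} (d : Fin t → ℕ)

/-- entry accessor with natural-number indices -/
def ge (g : Matrix (Idx d) (Idx d) F) (l k : Fin t) (a b : ℕ) : F :=
  if h : a < d l ∧ b < d k then g ⟨l, ⟨a, h.1⟩⟩ ⟨k, ⟨b, h.2⟩⟩ else 0

theorem ge_eq (g : Matrix (Idx d) (Idx d) F) (l k : Fin t) (j : Fin (d l)) (i : Fin (d k)) :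
    g ⟨l, j⟩ ⟨k, i⟩ = ge d g l k j i := by
  simp [ge]

variable {d}

/-- the commutation relation in terms of `ge` -/
theorem ge_comm {g : Matrix (Idx d) (Idx d) F} (hg : g * Nm d = Nm d * g) (l k : Fin t) (a b : ℕ)
    (ha : a < d l) (hb : b < d k) :
    (if b + 1 < d k then ge d g l k a (b + 1) else 0) = (if 0 < a then ge d g l k (a - 1) b else 0) := by
  have h := congrFun (congrFun hg ⟨l, ⟨a, ha⟩⟩) ⟨k, ⟨b, hb⟩⟩
  rw [mul_Nm_apply, Nm_mul_apply] at h
  simp only at h
  by_cases h1 : b + 1 < d k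
  · rw [dif_pos h1] at h
    rw [if_pos h1]
    by_cases h2 : 0 < a
    · rw [dif_pos h2] at h
      rw [if_pos h2, ge, dif_pos ⟨ha, h1⟩, ge, dif_pos ⟨by omega, hb⟩]
      exact h
    · rw [dif_neg h2] at h
      rw [if_neg h2, ge, dif_pos ⟨ha, h1⟩]
      exact h
  · rw [dif_neg h1] at h
    rw [if_neg h1]
    by_cases h2 : 0 < a
    · rw [dif_pos h2] at h
      rw [if_pos h2, ge, dif_pos ⟨by omega, hb⟩]
      exact h
    · rw [if_neg h2]

/-- entries are constant along diagonals -/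
theorem ge_diag {g : Matrix (Idx d) (Idx d) F} (hg : g * Nm d = Nm d * g) (l k : Fin t) :
    ∀ n a : ℕ, n < d k → a < d l →
      ge d g l k a n = if n ≤ a then ge d g l k (a - n) 0 else 0 := by
  intro n
  induction n with
  | zero => intro a _ _; simp
  | succ n ih =>
    intro a hn ha
    have h := ge_comm hg l k a n ha (by omega)
    rw [if_pos hn] at h
    rw [h]
    by_cases h2 : 0 < a
    · rw [if_pos h2, ih (a - 1) (by omega) (by omega)]
      by_cases h3 : n ≤ a - 1
      · rw [if_pos h3, if_pos (by omega)]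
        congr 1
        omega
      · rw [if_neg h3, if_neg (by omega)]
    · rw [if_neg h2, if_neg (by omega)]

/-- the first column of a block vanishes near the top when the target block is longer -/
theorem ge_zero_top {g : Matrix (Idx d) (Idx d) F} (hg : g * Nm d = Nm d * g) (l k : Fin t)
    (hk : 1 ≤ d k) (e : ℕ) (he : e + d k < d l) : ge d g l k e 0 = 0 := by
  have h := ge_comm hg l k (e + d k) (d k - 1) he (by omega)
  rw [if_neg (by omega), if_pos (by omega)] at h
  rw [ge_diag hg l k (d k - 1) (e + d k - 1) (by omega) (by omega), if_pos (by omega)] at h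
  have : e + d k - 1 - (d k - 1) = e := by omega
  rw [this] at h
  exact h.symm

variable (d)

/-- the parameter space for the commutant -/
abbrev Par (F : Type*) := (k l : Fin t) → Fin (min (d k) (d l)) → F

/-- natural-number accessor for parameters -/
def pe (c : Par d F) (k l : Fin t) (n : ℕ) : F :=
  if h : n < min (d k) (d l) then c k l ⟨n, h⟩ else 0

/-- the matrix attached to a parameter -/
def toMat (c : Par d F) : Matrix (Idx d) (Idx d) F :=
  Matrix.of fun x y =>
    if (y.2 : ℕ) ≤ (x.2 : ℕ) ∧ d x.1 - min (d y.1) (d x.1) ≤ (x.2 : ℕ) - (y.2 : ℕ) then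
      pe d c y.1 x.1 ((x.2 : ℕ) - (y.2 : ℕ) - (d x.1 - min (d y.1) (d x.1)))
    else 0

theorem ge_toMat (c : Par d F) (l k : Fin t) (a b : ℕ) (ha : a < d l) (hb : b < d k) :
    ge d (toMat d c) l k a b =
      if b ≤ a ∧ d l - min (d k) (d l) ≤ a - b then pe d c k l (a - b - (d l - min (d k) (d l)))
      else 0 := by
  rw [ge, dif_pos ⟨ha, hb⟩]
  rfl

theorem toMat_apply (c : Par d F) (l k : Fin t) (j : Fin (d l)) (i : Fin (d k)) :
    toMat d c ⟨l, j⟩ ⟨k, i⟩ =
      if (i : ℕ) ≤ j ∧ d l - min (d k) (d l) ≤ (j : ℕ) - i then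
        pe d c k l ((j : ℕ) - i - (d l - min (d k) (d l)))
      else 0 := rfl

/-- the parameter attached to a matrix -/
def toPar (hd : ∀ k, 1 ≤ d k) (g : Matrix (Idx d) (Idx d) F) : Par d F :=
  fun k l r => g ⟨l, ⟨d l - min (d k) (d l) + r, by have := r.2; omega⟩⟩ ⟨k, ⟨0, hd k⟩⟩

theorem toPar_eq (hd : ∀ k, 1 ≤ d k) (g : Matrix (Idx d) (Idx d) F) (k l : Fin t)
    (r : Fin (min (d k) (d l))) :
    toPar d hd g k l r = ge d g l k (d l - min (d k) (d l) + r) 0 := by
  rw [ge, dif_pos ⟨by have := r.2; omega, hd k⟩]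
  rfl

theorem toMat_comm (c : Par d F) : toMat d c * Nm d = Nm d * toMat d c := by
  ext ⟨l, j⟩ ⟨k, i⟩
  rw [mul_Nm_apply, Nm_mul_apply]
  have hj := j.2
  have hi := i.2
  by_cases hA : (i : ℕ) + 1 ≤ j ∧ d l - min (d k) (d l) ≤ (j : ℕ) - i - 1
  · have h1 : (i : ℕ) + 1 < d k := by omega
    have h2 : 0 < (j : ℕ) := by omega
    rw [dif_pos h1, dif_pos h2, toMat_apply, toMat_apply]
    simp only
    rw [if_pos ⟨by omega, by omega⟩, if_pos ⟨by omega, by omega⟩]
    congr 1
    omega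
  · have e1 : (if h : (i : ℕ) + 1 < d k then toMat d c ⟨l, j⟩ ⟨k, ⟨(i : ℕ) + 1, h⟩⟩ else 0) = 0 := by
      by_cases h1 : (i : ℕ) + 1 < d k
      · rw [dif_pos h1, toMat_apply]
        simp only
        rw [if_neg]
        rintro ⟨h3, h4⟩
        exact hA ⟨h3, by omega⟩
      · rw [dif_neg h1]
    rw [e1]
    by_cases h2 : 0 < (j : ℕ)
    · rw [dif_pos h2, toMat_apply]
      simp only
      rw [if_neg]
      rintro ⟨h3, h4⟩
      exact hA ⟨by omega, by omega⟩
    · rw [dif_neg h2]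

theorem toMat_toPar (hd : ∀ k, 1 ≤ d k) {g : Matrix (Idx d) (Idx d) F}
    (hg : g * Nm d = Nm d * g) : toMat d (toPar d hd g) = g := by
  ext ⟨l, j⟩ ⟨k, i⟩
  have hj := j.2
  have hi := i.2
  rw [toMat_apply, ge_eq d g l k j i, ge_diag hg l k i j hi hj]
  by_cases h1 : (i : ℕ) ≤ j
  · by_cases h2 : d l - min (d k) (d l) ≤ (j : ℕ) - i
    · rw [if_pos ⟨h1, h2⟩, if_pos h1, pe, dif_pos (by omega), toPar_eq]
      congr 1
      simp only
      omega
    · rw [if_neg (fun h => h2 h.2), if_pos h1]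
      symm
      apply ge_zero_top hg l k (hd k)
      omega
  · rw [if_neg (fun h => h1 h.1), if_neg h1]

theorem toPar_toMat (hd : ∀ k, 1 ≤ d k) (c : Par d F) : toPar d hd (toMat d c) = c := by
  funext k l r
  have hr := r.2
  rw [toPar_eq, ge_toMat _ _ _ _ _ _ (by omega) (hd k), if_pos ⟨by omega, by omega⟩, pe,
    dif_pos (by omega)]
  congr 1
  apply Fin.ext
  simp only
  omega

/-- the commutant is parametrised by `Par` -/
def commEquiv (hd : ∀ k, 1 ≤ d k) :
    {g : Matrix (Idx d) (Idx d) F // g * Nm d = Nm d * g} ≃ Par d F where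
  toFun g := toPar d hd g.1
  invFun c := ⟨toMat d c, toMat_comm d c⟩
  left_inv g := Subtype.ext (toMat_toPar d hd g.2)
  right_inv c := toPar_toMat d hd c

end Cfsg.Agent.Helper21.JC
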