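import Cfsg.Agent.Helper21.JC2

/-!
# Unit criterion for the commutant (helper21)
-/

set_option autoImplicit false

namespace Cfsg.Agent.Helper21.JC

open Matrix

variable {F : Type*} [Field F] {t : ℕ} (d : Fin t → ℕ)

theorem Nm_mulVec (v : Idx d → F) (l : Fin t) (j : Fin (d l)) :
    (Nm d *ᵥ v) ⟨l, j⟩ = if h : 0 < (j : ℕ) then v ⟨l, ⟨(j : ℕ) - 1, by omega⟩⟩ else 0 := by
  rw [Matrix.mulVec, dotProduct]
  by_cases h : 0 < (j : ℕ)
  · rw [dif_pos h, Finset.sum_eq_single (⟨l, ⟨(j : ℕ) - 1, by omega⟩⟩ : Idx d)]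
    · rw [Nm_apply]
      have : (j : ℕ) = (j : ℕ) - 1 + 1 := by omega
      simp [← this]
    · intro b _ hb
      rw [Nm_apply, if_neg, zero_mul]
      rintro ⟨h1, h2⟩
      apply hb
      obtain ⟨l', j'⟩ := b
      simp only at h1 h2
      subst h1
      congr 1
      exact Fin.ext (by simp only; omega)
    · intro hh; exact absurd (Finset.mem_univ _) hh
  · rw [dif_neg h]
    apply Finset.sum_eq_zero
    intro b _
    rw [Nm_apply, if_neg, zero_mul]
    rintro ⟨_, h2⟩
    simp only at h2
    omega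

/-- the last index of each block -/
def lastIdx (hd : ∀ k, 1 ≤ d k) (k : Fin t) : Idx d := ⟨k, ⟨d k - 1, by have := hd k; omega⟩⟩

/-- vectors killed by `Nm` are supported on last indices -/
theorem eq_zero_of_Nm_mulVec {v : Idx d → F} (hv : Nm d *ᵥ v = 0) (l : Fin t) (j : Fin (d l))
    (hj : (j : ℕ) + 1 < d l) : v ⟨l, j⟩ = 0 := by
  have h := congrFun hv ⟨l, ⟨(j : ℕ) + 1, hj⟩⟩
  rw [Nm_mulVec, dif_pos (by simp)] at h
  simpa using h

theorem Nm_mulVec_eq_zero_iff (v : Idx d → F) :
    Nm d *ᵥ v = 0 ↔ ∀ (l : Fin t) (j : Fin (d l)), (j : ℕ) + 1 < d l → v ⟨l, j⟩ = 0 := by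
  constructor
  · intro hv l j hj; exact eq_zero_of_Nm_mulVec d hv l j hj
  · intro h
    funext ⟨l, j⟩
    rw [Nm_mulVec]
    by_cases h0 : 0 < (j : ℕ)
    · rw [dif_pos h0]
      apply h
      have := j.2
      simp only
      omega
    · rw [dif_neg h0]; rfl

variable {d}

/-- a commuting matrix with nontrivial kernel kills a nonzero vector of the socle -/
theorem exists_socle_kernel {g : Matrix (Idx d) (Idx d) F} (hg : g * Nm d = Nm d * g) :
    ∀ m : ℕ, ∀ v : Idx d → F, (∀ (k : Fin t) (i : Fin (d k)), v ⟨k, i⟩ ≠ 0 → d k ≤ (i : ℕ) + m) →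
      v ≠ 0 → g *ᵥ v = 0 → ∃ v' : Idx d → F, v' ≠ 0 ∧ Nm d *ᵥ v' = 0 ∧ g *ᵥ v' = 0 := by
  intro m
  induction m with
  | zero =>
    intro v hv hv0 _
    exfalso
    apply hv0
    funext ⟨k, i⟩
    by_contra h
    have := hv k i h
    have := i.2
    omega
  | succ m ih =>
    intro v hv hv0 hgv
    by_cases hN : Nm d *ᵥ v = 0
    · exact ⟨v, hv0, hN, hgv⟩
    · apply ih (Nm d *ᵥ v) _ hN
      · rw [Matrix.mulVec_mulVec, hg, ← Matrix.mulVec_mulVec, hgv, Matrix.mulVec_zero]
      · intro k i hne
        rw [Nm_mulVec] at hne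
        by_cases h0 : 0 < (i : ℕ)
        · rw [dif_pos h0] at hne
          have := hv k _ hne
          simp only at this
          omega
        · rw [dif_neg h0] at hne
          exact absurd rfl hne

variable (d)

/-- the socle matrix of `g` -/
def socleMat (hd : ∀ k, 1 ≤ d k) (g : Matrix (Idx d) (Idx d) F) : Matrix (Fin t) (Fin t) F :=
  g.submatrix (lastIdx d hd) (lastIdx d hd)

/-- for a vector supported on last indices, `g *ᵥ v` at a last index is given by the socle matrix -/
theorem mulVec_lastIdx (hd : ∀ k, 1 ≤ d k) (g : Matrix (Idx d) (Idx d) F) {v : Idx d → F}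
    (hv : Nm d *ᵥ v = 0) (l : Fin t) :
    (g *ᵥ v) (lastIdx d hd l) = (socleMat d hd g *ᵥ fun k => v (lastIdx d hd k)) l := by
  rw [Matrix.mulVec, dotProduct, Matrix.mulVec, dotProduct]
  rw [← Finset.sum_subset (Finset.subset_univ (Finset.univ.image (lastIdx d hd)))]
  · rw [Finset.sum_image]
    · rfl
    · intro a _ b _ hab
      exact congrArg Sigma.fst hab
  · intro x _ hx
    obtain ⟨k, i⟩ := x
    have : v ⟨k, i⟩ = 0 := by
      apply eq_zero_of_Nm_mulVec d hv
      by_contra hcon
      apply hx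
      rw [Finset.mem_image]
      refine ⟨k, Finset.mem_univ _, ?_⟩
      rw [lastIdx]
      congr 1
      apply Fin.ext
      have := i.2
      simp only
      omega
    rw [this, mul_zero]

theorem det_eq_zero_iff (hd : ∀ k, 1 ≤ d k) {g : Matrix (Idx d) (Idx d) F}
    (hg : g * Nm d = Nm d * g) : g.det = 0 ↔ (socleMat d hd g).det = 0 := by
  rw [← Matrix.exists_mulVec_eq_zero_iff, ← Matrix.exists_mulVec_eq_zero_iff]
  constructor
  · rintro ⟨v, hv0, hgv⟩
    obtain ⟨v', hv'0, hNv', hgv'⟩ := exists_socle_kernel hg (Finset.univ.sup d) v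
      (fun k i _ => le_trans (Finset.le_sup (f := d) (Finset.mem_univ k)) (Nat.le_add_left _ _))
      hv0 hgv
    refine ⟨fun k => v' (lastIdx d hd k), ?_, ?_⟩
    · intro h0
      apply hv'0
      funext ⟨k, i⟩
      by_cases hi : (i : ℕ) + 1 < d k
      · exact eq_zero_of_Nm_mulVec d hNv' k i hi
      · have h1 := congrFun h0 k
        simp only [Pi.zero_apply] at h1
        have e : (⟨k, i⟩ : Idx d) = lastIdx d hd k := by
          rw [lastIdx]
          congr 1
          apply Fin.ext
          have := i.2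
          simp only
          omega
        rw [e, h1]
        rfl
    · funext l
      rw [← mulVec_lastIdx d hd g hNv' l, hgv']
      rfl
  · rintro ⟨c, hc0, hBc⟩
    let v : Idx d → F := fun x => if (x.2 : ℕ) + 1 = d x.1 then c x.1 else 0
    have hvlast : ∀ k, v (lastIdx d hd k) = c k := by
      intro k
      have := hd k
      simp only [v, lastIdx]
      rw [if_pos (by omega)]
    have hNv : Nm d *ᵥ v = 0 := by
      rw [Nm_mulVec_eq_zero_iff]
      intro l j hj
      simp only [v]
      rw [if_neg (by omega)]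
    refine ⟨v, ?_, ?_⟩
    · intro h0
      apply hc0
      funext k
      rw [← hvlast k, h0]
      rfl
    · have hNgv : Nm d *ᵥ (g *ᵥ v) = 0 := by
        rw [Matrix.mulVec_mulVec, ← hg, ← Matrix.mulVec_mulVec, hNv, Matrix.mulVec_zero]
      funext ⟨l, j⟩
      by_cases hj : (j : ℕ) + 1 < d l
      · exact eq_zero_of_Nm_mulVec d hNgv l j hj
      · have e : (⟨l, j⟩ : Idx d) = lastIdx d hd l := by
          rw [lastIdx]
          congr 1
          apply Fin.ext
          have := j.2
          simp only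
          omega
        rw [e, mulVec_lastIdx d hd g hNv l]
        have : (fun k => v (lastIdx d hd k)) = c := funext hvlast
        rw [this, hBc]
        rfl

/-- the socle matrix of `toMat c` -/
theorem socleMat_toMat (hd : ∀ k, 1 ≤ d k) (c : Par d F) (l k : Fin t) :
    socleMat d hd (toMat d c) l k =
      if h : d k ≤ d l then c k l ⟨0, by have := hd k; have := hd l; omega⟩ else 0 := by
  have h1 := hd k
  have h2 := hd l
  rw [socleMat, Matrix.submatrix_apply, lastIdx, lastIdx, toMat_apply]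
  simp only
  by_cases h : d k ≤ d l
  · rw [dif_pos h, if_pos ⟨by omega, by omega⟩, pe, dif_pos (by omega)]
    congr 1
    apply Fin.ext
    simp only
    omega
  · rw [dif_neg h, if_neg]
    rintro ⟨h3, _⟩
    omega

end Cfsg.Agent.Helper21.JC
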