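import Cfsg.Agent.Helper21.JC3

/-!
# Determinant criterion in terms of the lead coefficients (helper21)
-/

set_option autoImplicit false

namespace Cfsg.Agent.Helper21.JC

open Matrix

variable {F : Type*} [Field F] {t : ℕ} (d : Fin t → ℕ)

/-- lead-coefficient matrix of a parameter -/
def lead (hd : ∀ k, 1 ≤ d k) (c : Par d F) : Matrix (Fin t) (Fin t) F :=
  fun k l => c k l ⟨0, by have := hd k; have := hd l; omega⟩

theorem socle_blockTriangular (hd : ∀ k, 1 ≤ d k) (c : Par d F) :
    ((socleMat d hd (toMat d c))ᵀ).BlockTriangular d := by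
  intro k l hlk
  rw [transpose_apply, socleMat_toMat, dif_neg (by omega)]

theorem socle_toSquareBlock (hd : ∀ k, 1 ≤ d k) (c : Par d F) (a : ℕ) :
    ((socleMat d hd (toMat d c))ᵀ).toSquareBlock d a = (lead d hd c).toSquareBlock d a := by
  ext ⟨i, hi⟩ ⟨j, hj⟩
  rw [toSquareBlock_def, toSquareBlock_def]
  simp only [of_apply, transpose_apply]
  rw [socleMat_toMat, dif_pos (by omega)]
  rfl

theorem det_toMat_ne_zero_iff (hd : ∀ k, 1 ≤ d k) (c : Par d F) :
    (toMat d c).det ≠ 0 ↔ ∀ a : ℕ, ((lead d hd c).toSquareBlock d a).det ≠ 0 := by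
  rw [Ne, det_eq_zero_iff d hd (toMat_comm d c), ← det_transpose,
    (socle_blockTriangular d hd c).det, Finset.prod_eq_zero_iff]
  constructor
  · intro h a
    by_cases ha : a ∈ Finset.univ.image d
    · intro h0
      apply h
      refine ⟨a, ha, ?_⟩
      rw [socle_toSquareBlock]
      exact h0
    · have : IsEmpty { i // d i = a } :=
        ⟨fun i => ha (Finset.mem_image.2 ⟨i, Finset.mem_univ _, i.2⟩)⟩
      rw [det_isEmpty]
      exact one_ne_zero
  · rintro h ⟨a, _, h0⟩
    rw [socle_toSquareBlock] at h0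
    exact h a h0

end Cfsg.Agent.Helper21.JC
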