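import Cfsg.Agent.Helper21.JC4
import Mathlib.LinearAlgebra.Matrix.GeneralLinearGroup.Card

/-!
# Counting the invertible elements of the commutant (helper21)
-/

set_option autoImplicit false

namespace Cfsg.Agent.Helper21.JC

open Matrix

theorem card_subtype_of_equiv_prod {α β γ : Type*} (e : α ≃ β × γ) (p : α → Prop) (q : β → Prop)
    (h : ∀ x, p x ↔ q (e x).1) : Nat.card {x // p x} = Nat.card {y // q y} * Nat.card γ := by
  rw [← Nat.card_prod]
  apply Nat.card_congr
  exact (e.subtypeEquiv (p := p) (q := fun y => q y.1) h).trans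
    Equiv.prodSubtypeFstEquivSubtypeProd

section GLcard

variable {F : Type*} [Field F] [Fintype F]

/-- matrices with nonzero determinant are the general linear group -/
def detNeZeroEquivGL (n : Type*) [Fintype n] [DecidableEq n] :
    {M : Matrix n n F // M.det ≠ 0} ≃ GL n F where
  toFun M := Matrix.GeneralLinearGroup.mkOfDetNeZero M.1 M.2
  invFun g := ⟨g.1, by
    have := Matrix.isUnits_det_units g
    exact this.ne_zero⟩
  left_inv M := by
    apply Subtype.ext
    rfl
  right_inv g := by
    apply Units.ext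
    rfl

theorem card_GL_fintype (n : Type*) [Fintype n] [DecidableEq n] :
    Nat.card (GL n F) = ∏ i : Fin (Fintype.card n),
      (Fintype.card F ^ Fintype.card n - Fintype.card F ^ (i : ℕ)) := by
  rw [← Matrix.card_GL_field (𝔽 := F) (Fintype.card n)]
  exact Nat.card_congr
    (Units.mapEquiv (Matrix.reindexAlgEquiv F F (Fintype.equivFin n)).toMulEquiv).toEquiv

theorem card_detNeZero (n : Type*) [Fintype n] [DecidableEq n] :
    Nat.card {M : Matrix n n F // M.det ≠ 0} = ∏ i : Fin (Fintype.card n),
      (Fintype.card F ^ Fintype.card n - Fintype.card F ^ (i : ℕ)) := by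
  rw [Nat.card_congr (detNeZeroEquivGL n), card_GL_fintype]

end GLcard

section Count

variable {F : Type*} [Field F] {t : ℕ} (d : Fin t → ℕ)

/-- splitting off the lead coefficients -/
def parEquiv (hd : ∀ k, 1 ≤ d k) :
    Par d F ≃ Matrix (Fin t) (Fin t) F × ((k l : Fin t) → Fin (min (d k) (d l) - 1) → F) where
  toFun c := (lead d hd c, fun k l r => c k l ⟨(r : ℕ) + 1, by have := r.2; omega⟩)
  invFun x := fun k l r =>
    if h : (r : ℕ) = 0 then x.1 k l else x.2 k l ⟨(r : ℕ) - 1, by have := r.2; omega⟩
  left_inv c := by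
    funext k l r
    by_cases h : (r : ℕ) = 0
    · simp only [dif_pos h, lead]
      congr 1
      exact Fin.ext h.symm
    · simp only [dif_neg h]
      congr 1
      apply Fin.ext
      simp only
      omega
  right_inv x := by
    apply Prod.ext
    · ext k l
      simp [lead]
    · funext k l r
      simp

/-- splitting a matrix into its diagonal blocks (by block size) and the rest -/
def matEquiv :
    Matrix (Fin t) (Fin t) F ≃
      ((a : Fin (Finset.univ.sup d + 1)) →
        Matrix {k : Fin t // d k = (a : ℕ)} {k : Fin t // d k = (a : ℕ)} F) ×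
        ({p : Fin t × Fin t // d p.1 ≠ d p.2} → F) where
  toFun M := (fun a => M.toSquareBlock d (a : ℕ), fun p => M p.1.1 p.1.2)
  invFun x := fun k l =>
    if h : d k = d l then
      x.1 ⟨d k, Nat.lt_succ_of_le (Finset.le_sup (f := d) (Finset.mem_univ k))⟩ ⟨k, rfl⟩ ⟨l, h.symm⟩
    else x.2 ⟨(k, l), h⟩
  left_inv M := by
    ext k l
    by_cases h : d k = d l
    · simp only [dif_pos h]; rfl
    · simp only [dif_neg h]
  right_inv x := by
    apply Prod.ext
    · funext a
      ext ⟨i, hi⟩ ⟨j, hj⟩
      change (if h : d i = d j then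
        x.1 ⟨d i, Nat.lt_succ_of_le (Finset.le_sup (f := d) (Finset.mem_univ i))⟩ ⟨i, rfl⟩
          ⟨j, h.symm⟩ else x.2 ⟨(i, j), h⟩) = _
      rw [dif_pos (hi.trans hj.symm)]
      obtain ⟨a, ha⟩ := a
      simp only at hi hj
      subst hi
      rfl
    · funext ⟨⟨k, l⟩, h⟩
      simp only
      rw [dif_neg h]

theorem blockCond_iff (M : Matrix (Fin t) (Fin t) F) :
    (∀ a : ℕ, (M.toSquareBlock d a).det ≠ 0) ↔
      ∀ a : Fin (Finset.univ.sup d + 1), (((matEquiv d M).1 a).det ≠ 0) := by
  constructor
  · intro h a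
    exact h a
  · intro h a
    by_cases ha : a < Finset.univ.sup d + 1
    · exact h ⟨a, ha⟩
    · have : IsEmpty { i // d i = a } :=
        ⟨fun i => ha (by
          have := Finset.le_sup (f := d) (Finset.mem_univ i.1)
          have := i.2
          omega)⟩
      rw [det_isEmpty]
      exact one_ne_zero

variable [Fintype F]

theorem card_invertible (hd : ∀ k, 1 ≤ d k) :
    Nat.card {c : Par d F // (toMat d c).det ≠ 0} =
      (∏ a : Fin (Finset.univ.sup d + 1),
          ∏ i : Fin (Fintype.card {k : Fin t // d k = (a : ℕ)}),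
            (Fintype.card F ^ Fintype.card {k : Fin t // d k = (a : ℕ)} - Fintype.card F ^ (i : ℕ))) *
        Fintype.card F ^ Fintype.card {p : Fin t × Fin t // d p.1 ≠ d p.2} *
        Fintype.card F ^ (∑ k : Fin t, ∑ l : Fin t, (min (d k) (d l) - 1)) := by
  rw [card_subtype_of_equiv_prod (parEquiv d hd) _
    (fun M => ∀ a : ℕ, (M.toSquareBlock d a).det ≠ 0) (fun c => det_toMat_ne_zero_iff d hd c)]
  rw [card_subtype_of_equiv_prod (matEquiv d) _
    (fun y => ∀ a : Fin (Finset.univ.sup d + 1), (y a).det ≠ 0) (fun M => blockCond_iff d M)]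
  rw [Nat.card_congr (Equiv.subtypePiEquivPi
    (β := fun a : Fin (Finset.univ.sup d + 1) =>
      Matrix {k : Fin t // d k = (a : ℕ)} {k : Fin t // d k = (a : ℕ)} F)
    (p := fun _ N => N.det ≠ 0)), Nat.card_pi]
  congr 1
  · congr 1
    · apply Finset.prod_congr rfl
      intro a _
      exact card_detNeZero _
    · rw [Nat.card_eq_fintype_card, Fintype.card_fun]
  · rw [Nat.card_eq_fintype_card]
    simp only [Fintype.card_pi, Fintype.card_fin, Finset.prod_const, Finset.card_univ,
      Finset.prod_pow_eq_pow_sum]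

end Count

end Cfsg.Agent.Helper21.JC
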