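import Cfsg.Agent.Helper21.JC5

/-!
# The arithmetic of the exponent (helper21)
-/

set_option autoImplicit false

namespace Cfsg.Agent.Helper21.JC

open Finset

variable {t : ℕ} (d : Fin t → ℕ)

/-- number of blocks of size `i` -/
def mult (i : ℕ) : ℕ := (Finset.univ.filter (fun k : Fin t => d k = i)).card

theorem mult_def (i : ℕ) : mult d i = (Finset.univ.filter (fun k : Fin t => d k = i)).card := rfl

theorem card_block (a : ℕ) : Fintype.card {k : Fin t // d k = a} = mult d a := by
  rw [Fintype.card_subtype, mult]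

theorem sum_comp_d (g : ℕ → ℕ) :
    ∑ k : Fin t, g (d k) = ∑ i ∈ range (Finset.univ.sup d + 1), mult d i * g i := by
  rw [← Finset.sum_fiberwise_of_maps_to (s := Finset.univ) (t := range (Finset.univ.sup d + 1))
    (g := d) (fun k _ => Finset.mem_range.2
      (Nat.lt_succ_of_le (Finset.le_sup (f := d) (Finset.mem_univ k))))]
  apply Finset.sum_congr rfl
  intro i _
  rw [Finset.sum_congr rfl (fun k hk => by rw [(Finset.mem_filter.1 hk).2]), Finset.sum_const,
    smul_eq_mul, mult]

theorem sum_sum_comp_d (f : ℕ → ℕ → ℕ) :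
    ∑ k : Fin t, ∑ l : Fin t, f (d k) (d l) =
      ∑ i ∈ range (Finset.univ.sup d + 1), ∑ j ∈ range (Finset.univ.sup d + 1),
        mult d i * mult d j * f i j := by
  rw [sum_comp_d d (fun i => ∑ l : Fin t, f i (d l))]
  apply Finset.sum_congr rfl
  intro i _
  rw [sum_comp_d d (fun j => f i j), Finset.mul_sum]
  apply Finset.sum_congr rfl
  intro j _
  ring

/-- the exponent function -/
def ee (i j : ℕ) : ℕ := if i < j then i else if j < i then j else i - 1

theorem ee_eq (i j : ℕ) (hi : 1 ≤ i) (hj : 1 ≤ j) :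
    (if i ≠ j then 1 else 0) + (min i j - 1) = ee i j := by
  unfold ee
  split_ifs <;> omega

theorem exponent_eq (hd : ∀ k, 1 ≤ d k) :
    Fintype.card {p : Fin t × Fin t // d p.1 ≠ d p.2} +
        ∑ k : Fin t, ∑ l : Fin t, (min (d k) (d l) - 1) =
      2 * (∑ i ∈ range (Finset.univ.sup d + 1), ∑ j ∈ range (Finset.univ.sup d + 1),
        if i < j then i * mult d i * mult d j else 0) +
      ∑ i ∈ range (Finset.univ.sup d + 1), (i - 1) * mult d i ^ 2 := by
  have h1 : Fintype.card {p : Fin t × Fin t // d p.1 ≠ d p.2} =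
      ∑ k : Fin t, ∑ l : Fin t, if d k ≠ d l then 1 else 0 := by
    rw [Fintype.card_subtype, Finset.card_filter, Fintype.sum_prod_type]
  rw [h1, ← Finset.sum_add_distrib]
  have h2 : ∀ k : Fin t, (∑ l : Fin t, if d k ≠ d l then 1 else 0) +
      ∑ l : Fin t, (min (d k) (d l) - 1) = ∑ l : Fin t, ee (d k) (d l) := by
    intro k
    rw [← Finset.sum_add_distrib]
    apply Finset.sum_congr rfl
    intro l _
    exact ee_eq _ _ (hd k) (hd l)
  rw [Finset.sum_congr rfl (fun k _ => h2 k), sum_sum_comp_d d ee]
  set R := range (Finset.univ.sup d + 1) with hR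
  have h3 : ∀ i j : ℕ, mult d i * mult d j * ee i j =
      (if i < j then i * mult d i * mult d j else 0) +
      (if j < i then j * mult d j * mult d i else 0) +
      (if i = j then (i - 1) * mult d i ^ 2 else 0) := by
    intro i j
    unfold ee
    rcases lt_trichotomy i j with h | h | h
    · rw [if_pos h, if_pos h, if_neg (by omega), if_neg (by omega)]
      ring
    · subst h
      simp
      ring
    · rw [if_neg (by omega), if_pos h, if_neg (by omega), if_pos h, if_neg (by omega)]
      ring
  simp_rw [h3, Finset.sum_add_distrib]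
  rw [Finset.sum_comm (f := fun i j => if j < i then j * mult d j * mult d i else 0)]
  have h4 : ∀ i ∈ R, (∑ j ∈ R, if i = j then (i - 1) * mult d i ^ 2 else 0) =
      (i - 1) * mult d i ^ 2 := by
    intro i hi
    rw [Finset.sum_ite_eq, if_pos hi]
  rw [Finset.sum_congr rfl h4]
  ring

end Cfsg.Agent.Helper21.JC
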