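import Cfsg.Agent.Helper21.JS9

/-!
# Jordan types of isometries of symmetric forms in odd characteristic: parity (helper21)
-/

set_option autoImplicit false
set_option linter.unusedSectionVars false

namespace Cfsg.Agent.Helper21.JO

open Matrix Cfsg.Agent.Helper21.JS Cfsg.Agent.Helper21.JC

variable {F : Type*} [Field F]

section iso

variable {I : Type*} [Fintype I] [DecidableEq I] {Ω U : Matrix I I F}

theorem bf_symm (hΩs : Ωᵀ = Ω) (x y : I → F) : bf Ω x y = bf Ω y x := by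
  rw [bf, bf, Matrix.dotProduct_mulVec, dotProduct_comm, ← Matrix.mulVec_transpose, hΩs]

/-- `Ω N = Mᵀ Ω` for a symmetric Gram matrix -/
theorem adj2s (hΩu : IsUnit Ω) (hΩs : Ωᵀ = Ω) : Ω * (U - 1) = (uinv Ω U - 1)ᵀ * Ω := by
  have h := congrArg Matrix.transpose (adj1 (U := U) hΩu)
  rw [Matrix.transpose_mul, Matrix.transpose_mul, Matrix.transpose_transpose, hΩs] at h
  exact h

theorem adj2s_pow (hΩu : IsUnit Ω) (hΩs : Ωᵀ = Ω) (a : ℕ) :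
    Ω * (U - 1) ^ a = ((uinv Ω U - 1) ^ a)ᵀ * Ω := by
  induction a with
  | zero => simp
  | succ a ih =>
    rw [pow_succ, ← Matrix.mul_assoc, ih, Matrix.mul_assoc, adj2s hΩu hΩs, ← Matrix.mul_assoc,
      ← Matrix.transpose_mul, ← pow_succ']

theorem bf_pow_s (hΩu : IsUnit Ω) (hΩs : Ωᵀ = Ω) (a : ℕ) (x y : I → F) :
    bf Ω x ((U - 1) ^ a *ᵥ y) = bf Ω ((uinv Ω U - 1) ^ a *ᵥ x) y := by
  rw [bf_mulVec_right, bf_mulVec_left, adj2s_pow hΩu hΩs]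

/-- the inverse fixes the kernel of `U - 1` -/
theorem uinv_mulVec_of_ker (hΩu : IsUnit Ω) (hinv : Uᵀ * Ω * U = Ω) (z : I → F)
    (hz : (U - 1) *ᵥ z = 0) : uinv Ω U *ᵥ z = z := by
  have h1 : uinv Ω U = (uinv Ω U - 1) + 1 := by abel
  conv_lhs => rw [h1]
  rw [Matrix.add_mulVec, Matrix.one_mulVec, m_eq hΩu hinv, ← Matrix.mulVec_mulVec, hz,
    Matrix.mulVec_zero, zero_add]

theorem uinv_pow_mulVec_of_ker (hΩu : IsUnit Ω) (hinv : Uᵀ * Ω * U = Ω) (z : I → F)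
    (hz : (U - 1) *ᵥ z = 0) (n : ℕ) : (uinv Ω U) ^ n *ᵥ z = z := by
  induction n with
  | zero => rw [pow_zero, Matrix.one_mulVec]
  | succ n ih =>
    rw [pow_succ, ← Matrix.mulVec_mulVec, uinv_mulVec_of_ker hΩu hinv z hz, ih]

/-- the form `x ↦ (x, N^{2κ+1} x)` vanishes on `ker N^{2κ+2}` -/
theorem bf_pow_self_s (h2 : (2 : F) ≠ 0) (hΩu : IsUnit Ω) (hΩs : Ωᵀ = Ω)
    (hinv : Uᵀ * Ω * U = Ω) (κ : ℕ) (x : I → F)
    (hx : (U - 1) ^ (2 * κ + 2) *ᵥ x = 0) :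
    bf Ω x ((U - 1) ^ (2 * κ + 1) *ᵥ x) = 0 := by
  have hz : (U - 1) *ᵥ ((U - 1) ^ (2 * κ + 1) *ᵥ x) = 0 := by
    rw [Matrix.mulVec_mulVec, ← pow_succ']
    exact hx
  have h1 : bf Ω x ((U - 1) ^ (2 * κ + 1) *ᵥ x) = -bf Ω x ((U - 1) ^ (2 * κ + 1) *ᵥ x) := by
    conv_lhs => rw [bf_pow_s hΩu hΩs, m_pow hΩu hinv, neg_pow, Odd.neg_one_pow ⟨κ, rfl⟩,
      neg_one_mul, Matrix.neg_mul, Matrix.neg_mulVec, ← Matrix.mulVec_mulVec,
      uinv_pow_mulVec_of_ker hΩu hinv _ hz, bf_neg_left, bf_symm hΩs]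
  have h3 : (2 : F) * bf Ω x ((U - 1) ^ (2 * κ + 1) *ᵥ x) = 0 := by
    rw [two_mul]
    nth_rewrite 1 [h1]
    exact neg_add_cancel _
  rcases mul_eq_zero.1 h3 with h | h
  · exact absurd h h2
  · exact h

end iso

end Cfsg.Agent.Helper21.JO
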