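import Cfsg.Agent.Helper21.JO1

/-!
# Isometries of symmetric forms in odd characteristic: even sizes have even multiplicity (helper21)
-/

set_option autoImplicit false
set_option linter.unusedSectionVars false

namespace Cfsg.Agent.Helper21.JO

open Matrix Cfsg.Agent.Helper21.JS Cfsg.Agent.Helper21.JC

variable {F : Type*} [Field F] {t : ℕ} {d : Fin t → ℕ} {Ω : Matrix (Idx d) (Idx d) F}

theorem sig_eq_zero_s (hd : ∀ k, 1 ≤ d k) (hΩu : IsUnit Ω) (hΩs : Ωᵀ = Ω)
    (hinv : (Cfsg.jordanTypeMatrix d F)ᵀ * Ω * Cfsg.jordanTypeMatrix d F = Ω)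
    (k l : Fin t) (hkl : d k < d l) : Ω (topIdx d hd k) (lastIdx d hd l) = 0 := by
  have h1 : Ω (topIdx d hd k) (lastIdx d hd l)
      = (Ω * Nm d ^ (d l - 1) : Matrix (Idx d) (Idx d) F) (topIdx d hd k) (topIdx d hd l) := by
    rw [topIdx, topIdx, mul_Nm_pow_apply, dif_pos (by have := hd l; simp only; omega)]
    rw [lastIdx]
    congr 3
    simp
  rw [h1]
  have h2 : (Ω * Nm d ^ (d l - 1) : Matrix (Idx d) (Idx d) F)
      = (Nm d ^ (d l - 1))ᵀ * (((-(uinv Ω (Cfsg.jordanTypeMatrix d F))) ^ (d l - 1))ᵀ * Ω) := by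
    rw [← Matrix.mul_assoc, ← Matrix.transpose_mul]
    have := adj2s_pow (U := Cfsg.jordanTypeMatrix d F) hΩu hΩs (d l - 1)
    rw [m_pow hΩu hinv] at this
    exact this
  rw [h2, topIdx, NmT_pow_mul_apply, dif_neg (by simp only; omega)]

/-- **Parity**: in odd characteristic, an isometry of a nondegenerate symmetric form has each
even Jordan block size with even multiplicity. -/
theorem even_of_form_s (h2 : (2 : F) ≠ 0) (hd : ∀ k, 1 ≤ d k) (hΩu : IsUnit Ω) (hΩs : Ωᵀ = Ω)
    (hinv : (Cfsg.jordanTypeMatrix d F)ᵀ * Ω * Cfsg.jordanTypeMatrix d F = Ω)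
    (j : ℕ) (hj : Even j) (hj0 : 0 < j) :
    Even (Finset.univ.filter (fun k : Fin t => d k = j)).card := by
  obtain ⟨κ, rfl⟩ : ∃ κ, j = 2 * κ + 2 := by
    obtain ⟨c, hc⟩ := hj
    exact ⟨c - 1, by omega⟩
  obtain ⟨Sg, hSg⟩ : ∃ Sg : Matrix (Fin t) (Fin t) F,
      Sg = Ω.submatrix (topIdx d hd) (lastIdx d hd) := ⟨_, rfl⟩
  have hSgdet : Sg.det ≠ 0 := by
    rw [hSg]
    exact sig_det_ne_zero hd hΩu hinv
  have hBT : (Sgᵀ).BlockTriangular d := by
    intro k l hlk
    rw [Matrix.transpose_apply, hSg, Matrix.submatrix_apply]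
    exact sig_eq_zero_s hd hΩu hΩs hinv l k hlk
  by_cases hmem : (2 * κ + 2) ∈ Finset.univ.image d
  · have hdetG : (Sg.toSquareBlock d (2 * κ + 2)).det ≠ 0 := by
      have h1 : (Sg.toSquareBlock d (2 * κ + 2)).det
          = ((Sgᵀ).toSquareBlock d (2 * κ + 2)).det := by
        rw [← Matrix.det_transpose]
        rfl
      rw [h1]
      intro h0
      apply hSgdet
      rw [← Matrix.det_transpose, hBT.det]
      exact Finset.prod_eq_zero hmem h0
    have hG : Sg.toSquareBlock d (2 * κ + 2)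
        = (Ω * Nm d ^ (2 * κ + 1) : Matrix (Idx d) (Idx d) F).submatrix
            (fun k : { k // d k = 2 * κ + 2 } => topIdx d hd k.1)
            (fun k : { k // d k = 2 * κ + 2 } => topIdx d hd k.1) := by
      ext ⟨k, hk⟩ ⟨l, hl⟩
      rw [Matrix.toSquareBlock_def, Matrix.of_apply, Matrix.submatrix_apply, hSg,
        Matrix.submatrix_apply]
      simp only
      rw [topIdx, topIdx, mul_Nm_pow_apply, dif_pos (by simp only; omega), lastIdx]
      congr 3
      simp only
      omega
    have hinj : Function.Injective (fun k : { k // d k = 2 * κ + 2 } => topIdx d hd k.1) := by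
      intro a b hab
      exact Subtype.ext (congrArg Sigma.fst hab)
    have halt : ∀ c : { k // d k = 2 * κ + 2 } → F,
        c ⬝ᵥ ((Sg.toSquareBlock d (2 * κ + 2)) *ᵥ c) = 0 := by
      intro c
      rw [hG, submatrix_quad _ hinj, ← Matrix.mulVec_mulVec]
      apply bf_pow_self_s (U := Cfsg.jordanTypeMatrix d F) h2 hΩu hΩs hinv κ
      funext p
      rw [Matrix.mulVec, dotProduct, Pi.zero_apply]
      apply Finset.sum_eq_zero
      intro q _
      by_cases hq : q ∈ Set.range (fun k : { k // d k = 2 * κ + 2 } => topIdx d hd k.1)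
      · obtain ⟨⟨k, hk⟩, rfl⟩ := hq
        have h1 : ((Cfsg.jordanTypeMatrix d F - 1) ^ (2 * κ + 2)) p (topIdx d hd k)
            = (1 * Nm d ^ (2 * κ + 2) : Matrix (Idx d) (Idx d) F) p (topIdx d hd k) := by
          rw [Matrix.one_mul]
          rfl
        simp only
        rw [h1, topIdx, mul_Nm_pow_apply, dif_neg (by simp only; omega), zero_mul]
      · rw [Function.extend_apply' _ _ _ (by simpa using hq)]
        simp
    have heven := Cfsg.Agent.Helper11.AltRank.even_rank_of_alt _ halt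
    have hunit : IsUnit (Sg.toSquareBlock d (2 * κ + 2)) :=
      (Matrix.isUnit_iff_isUnit_det _).2 (IsUnit.mk0 _ hdetG)
    rw [Matrix.rank_of_isUnit _ hunit, Fintype.card_subtype] at heven
    exact heven
  · have : Finset.univ.filter (fun k : Fin t => d k = 2 * κ + 2) = ∅ := by
      rw [Finset.filter_eq_empty_iff]
      intro k _ hk
      exact hmem (Finset.mem_image.2 ⟨k, Finset.mem_univ _, hk⟩)
    rw [this, Finset.card_empty]
    exact Even.zero

end Cfsg.Agent.Helper21.JO
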