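import Cfsg.Agent.Helper21.JO2

/-!
# Isometries of quadratic forms and invariant symmetric Gram matrices (helper21)
-/

set_option autoImplicit false
set_option linter.unusedSectionVars false

namespace Cfsg.Agent.Helper21.JO

open Matrix Cfsg.Agent.Helper21.JS Cfsg.Agent.Helper21.JC

variable {F : Type*} [Field F]

section goods

variable {I : Type*} [Fintype I] [DecidableEq I] {I' : Type*} [Fintype I'] [DecidableEq I']

/-- `U` preserves a nondegenerate symmetric form -/
def GoodS (U : Matrix I I F) : Prop :=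
  ∃ B : Matrix I I F, IsUnit B ∧ Bᵀ = B ∧ Uᵀ * B * U = B

theorem GoodS.conj {U h h' : Matrix I I F} (hh' : h * h' = 1) (h'h : h' * h = 1)
    (hU : GoodS U) : GoodS (h * U * h') := by
  obtain ⟨B, hBu, hBs, hinv⟩ := hU
  refine ⟨h'ᵀ * B * h', isUnit_conj_form hh' h'h hBu, ?_, form_conj hh' h'h hinv⟩
  rw [Matrix.transpose_mul, Matrix.transpose_mul, Matrix.transpose_transpose, hBs,
    Matrix.mul_assoc]

theorem GoodS.reindex (e : I ≃ I') {U : Matrix I I F} (hU : GoodS U) :
    GoodS (Matrix.reindex e e U) := by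
  obtain ⟨B, hBu, hBs, hinv⟩ := hU
  refine ⟨Matrix.reindex e e B, hBu.map (Matrix.reindexAlgEquiv F F e), ?_, ?_⟩
  · rw [Matrix.reindex_apply, Matrix.transpose_submatrix, hBs]
  · have h1 := congrArg (Matrix.reindex e e) hinv
    simp only [Matrix.reindex_apply, Matrix.submatrix_mul_equiv, Matrix.transpose_submatrix] at h1 ⊢
    rw [← h1]

theorem GoodS.of_isConj {U A : Matrix I I F} (h : IsConj U A) (hA : GoodS A) : GoodS U := by
  obtain ⟨c, hc⟩ := h
  have hc' : (c : Matrix I I F) * U = A * (c : Matrix I I F) := hc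
  have h1 : U = ((c⁻¹ : (Matrix I I F)ˣ) : Matrix I I F) * A * (c : Matrix I I F) := by
    rw [Matrix.mul_assoc, ← hc', ← Matrix.mul_assoc, Units.inv_mul, Matrix.one_mul]
  rw [h1]
  exact hA.conj (Units.inv_mul c) (Units.mul_inv c)

end goods

/-- an isometry of a quadratic form with nondegenerate polar form preserves a nondegenerate
symmetric Gram matrix -/
theorem goodS_of_isometry {n : ℕ} (Q : QuadraticForm F (Fin n → F))
    (hQ : (QuadraticMap.polarBilin Q).Nondegenerate) (A : Matrix (Fin n) (Fin n) F)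
    (hA : ∀ u, Q (A *ᵥ u) = Q u) : GoodS A := by
  refine ⟨LinearMap.BilinForm.toMatrix' (QuadraticMap.polarBilin Q), ?_, ?_, ?_⟩
  · have h1 := (LinearMap.BilinForm.nondegenerate_toMatrix'_iff
      (B := QuadraticMap.polarBilin Q)).2 hQ
    rw [Matrix.nondegenerate_iff_det_ne_zero] at h1
    exact (Matrix.isUnit_iff_isUnit_det _).2 (IsUnit.mk0 _ h1)
  · ext i j
    rw [Matrix.transpose_apply, LinearMap.BilinForm.toMatrix'_apply,
      LinearMap.BilinForm.toMatrix'_apply, QuadraticMap.polarBilin_apply_apply,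
      QuadraticMap.polarBilin_apply_apply, QuadraticMap.polar_comm]
  · have h1 : LinearMap.BilinForm.comp (QuadraticMap.polarBilin Q) (Matrix.toLin' A)
        (Matrix.toLin' A) = QuadraticMap.polarBilin Q := by
      apply LinearMap.ext
      intro u
      apply LinearMap.ext
      intro v
      rw [LinearMap.BilinForm.comp_apply, QuadraticMap.polarBilin_apply_apply,
        QuadraticMap.polarBilin_apply_apply, Matrix.toLin'_apply, Matrix.toLin'_apply,
        QuadraticMap.polar, QuadraticMap.polar, ← Matrix.mulVec_add, hA, hA, hA]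
    have h2 := LinearMap.BilinForm.toMatrix'_comp (QuadraticMap.polarBilin Q)
      (Matrix.toLin' A) (Matrix.toLin' A)
    rw [h1, LinearMap.toMatrix'_toLin'] at h2
    exact h2.symm

end Cfsg.Agent.Helper21.JO
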