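import Cfsg.Agent.Helper21.JO4

/-!
# Assembling an invariant symmetric form for a unipotent matrix in Jordan form (helper21)
-/

set_option autoImplicit false
set_option linter.unusedSectionVars false

namespace Cfsg.Agent.Helper21.JO

open Matrix Cfsg.Agent.Helper21.JS Cfsg.Agent.Helper21.JC

variable {F : Type*} [Field F]

/-- a Jordan block of odd size has an invariant symmetric form (odd characteristic) -/
theorem exists_natO (h2 : (2 : F) ≠ 0) (j : ℕ) (hj : Odd j) : ∃ mO : ℕ → ℕ → F,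
    IsBF j mO ∧ ∀ a b, mO b a = mO a b := by
  obtain ⟨B, hBu, hBs, hBinv⟩ := goodS_jordanBlock_odd (F := F) j h2 hj
  refine ⟨natExt j B, isBF_natExt j B hBu hBinv, ?_⟩
  intro a b
  by_cases hab : a < j ∧ b < j
  · rw [natExt, dif_pos ⟨hab.2, hab.1⟩, natExt, dif_pos hab]
    have h := congrFun (congrFun hBs ⟨a, hab.1⟩) ⟨b, hab.2⟩
    rw [Matrix.transpose_apply] at h
    exact h
  · rw [natExt, dif_neg (fun h => hab ⟨h.2, h.1⟩), natExt, dif_neg hab]

/-- every Jordan block has a pair of mutually transposed invariant forms -/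
theorem exists_natT (j : ℕ) (hj : 0 < j) : ∃ mS mS' : ℕ → ℕ → F,
    IsBF j mS ∧ IsBF j mS' ∧ ∀ a b, mS' a b = mS b a := by
  obtain ⟨S, hSu, hSinv⟩ := exists_blockS (F := F) j hj
  refine ⟨natExt j S, natExt j Sᵀ, isBF_natExt j S hSu hSinv, isBF_natExt j Sᵀ ?_ ?_, ?_⟩
  · exact isUnit_transpose hSu
  · have h := congrArg Matrix.transpose hSinv
    rw [Matrix.transpose_mul, Matrix.transpose_mul, Matrix.transpose_transpose,
      ← Matrix.mul_assoc] at h
    exact h
  · intro a b
    by_cases hab : a < j ∧ b < j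
    · rw [natExt, dif_pos hab, natExt, dif_pos ⟨hab.2, hab.1⟩]
      rfl
    · rw [natExt, dif_neg hab, natExt, dif_neg (fun h => hab ⟨h.2, h.1⟩)]

variable {t : ℕ} {d : Fin t → ℕ} {τ : Fin t → Fin t} {m : Fin t → ℕ → ℕ → F}

theorem asm_symm (hτ : ∀ k, τ (τ k) = k) (hsym : ∀ k a b, m (τ k) b a = m k a b) :
    (asmΩ d τ m)ᵀ = asmΩ d τ m := by
  ext ⟨k, a⟩ ⟨l, b⟩
  rw [Matrix.transpose_apply, asmΩ, asmΩ, asmN, asmN]
  simp only
  by_cases h : l = τ k
  · subst h
    rw [if_pos rfl, if_pos (hτ k).symm, hsym]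
  · have h' : ¬ k = τ l := by
      intro h'
      apply h
      rw [h', hτ]
    rw [if_neg h, if_neg h']

theorem goodS_of_asm (hτ : ∀ k, τ (τ k) = k) (hdτ : ∀ k, d (τ k) = d k)
    (hm : ∀ k, IsBF (d k) (m k)) (hsym : ∀ k a b, m (τ k) b a = m k a b) :
    GoodS (Cfsg.jordanTypeMatrix d F) :=
  ⟨asmΩ d τ m, asm_unit hτ hdτ hm, asm_symm hτ hsym, asm_inv hdτ hm⟩

theorem exists_pairing_of (P : ℕ → Prop) (hpar : ∀ j : ℕ, P j →
      Even (Finset.univ.filter (fun k : Fin t => d k = j)).card) (j : ℕ) :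
    ∃ g : Fin t → Fin t, (∀ k, g (g k) = k) ∧ (∀ k, d (g k) = d k) ∧
      (P j → ∀ k, d k = j → g k ≠ k) := by
  classical
  by_cases hj : P j
  · have h1 : Even (Fintype.card { k : Fin t // d k = j }) := by
      rw [Fintype.card_subtype]
      exact hpar j hj
    obtain ⟨f, hf1, hf2⟩ := exists_fpf_involution _ h1
    refine ⟨fun k => if h : d k = j then (f ⟨k, h⟩).1 else k, ?_, ?_, ?_⟩
    · intro k
      by_cases h : d k = j
      · simp only [dif_pos h]
        rw [dif_pos (f ⟨k, h⟩).2, Subtype.coe_eta, hf1]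
      · simp only [dif_neg h]
    · intro k
      by_cases h : d k = j
      · simp only [dif_pos h]
        rw [(f ⟨k, h⟩).2, h]
      · simp only [dif_neg h]
    · intro _ k h
      simp only [dif_pos h]
      intro h2
      apply hf2 ⟨k, h⟩
      exact Subtype.ext h2
  · exact ⟨id, fun _ => rfl, fun _ => rfl, fun h => absurd h hj⟩

/-- **Existence**: in odd characteristic, if every even size has even multiplicity, the Jordan
matrix preserves a nondegenerate symmetric form. -/
theorem goodS_of_parity (h2 : (2 : F) ≠ 0) (hd : ∀ k, 1 ≤ d k) (hpar : ∀ j : ℕ, Even j → 0 < j →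
      Even (Finset.univ.filter (fun k : Fin t => d k = j)).card) :
    GoodS (Cfsg.jordanTypeMatrix d F) := by
  classical
  choose g hg1 hg2 hg3 using exists_pairing_of (d := d) (fun j => Even j ∧ 0 < j)
    (fun j hj => hpar j hj.1 hj.2)
  have hS : ∀ j : ℕ, ∃ mS mS' : ℕ → ℕ → F, 0 < j →
      (IsBF j mS ∧ IsBF j mS' ∧ ∀ a b, mS' a b = mS b a) := by
    intro j
    by_cases hj : 0 < j
    · obtain ⟨mS, mS', h⟩ := exists_natT (F := F) j hj
      exact ⟨mS, mS', fun _ => h⟩
    · exact ⟨0, 0, fun h => absurd h hj⟩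
  have hO : ∀ j : ℕ, ∃ mO : ℕ → ℕ → F, Odd j →
      (IsBF j mO ∧ ∀ a b, mO b a = mO a b) := by
    intro j
    by_cases hj : Odd j
    · obtain ⟨mO, h⟩ := exists_natO (F := F) h2 j hj
      exact ⟨mO, fun _ => h⟩
    · exact ⟨0, fun h => absurd h hj⟩
  choose mS mS' hmS using hS
  choose mO hmO using hO
  have hdpos : ∀ k, 0 < d k := fun k => hd k
  obtain ⟨τ, hτ_def⟩ : ∃ τ : Fin t → Fin t, τ = fun k => if Even (d k) then g (d k) k else k :=
    ⟨_, rfl⟩
  have hdτ : ∀ k, d (τ k) = d k := by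
    intro k
    rw [hτ_def]
    simp only
    split_ifs
    · exact hg2 _ _
    · rfl
  have hτ : ∀ k, τ (τ k) = k := by
    intro k
    have h1 := hdτ k
    rw [hτ_def] at h1 ⊢
    simp only at h1 ⊢
    by_cases hk : Even (d k)
    · rw [if_pos hk] at h1 ⊢
      rw [h1, if_pos hk, hg1]
    · rw [if_neg hk, if_neg hk]
  have hfix : ∀ k, τ k = k → Odd (d k) := by
    intro k hk
    rw [hτ_def] at hk
    simp only at hk
    by_contra hodd
    rw [Nat.not_odd_iff_even] at hodd
    rw [if_pos hodd] at hk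
    exact hg3 (d k) ⟨hodd, hdpos k⟩ k rfl hk
  obtain ⟨m, hm_def⟩ : ∃ m : Fin t → ℕ → ℕ → F, m = fun k =>
      if τ k = k then mO (d k) else if k < τ k then mS (d k) else mS' (d k) := ⟨_, rfl⟩
  have hm : ∀ k, IsBF (d k) (m k) := by
    intro k
    rw [hm_def]
    simp only
    split_ifs with h1 h3
    · exact (hmO (d k) (hfix k h1)).1
    · exact (hmS (d k) (hdpos k)).1
    · exact (hmS (d k) (hdpos k)).2.1
  have hsym : ∀ k a b, m (τ k) b a = m k a b := by
    intro k a b
    rw [hm_def]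
    simp only
    rw [hτ k, hdτ k]
    by_cases h1 : τ k = k
    · rw [if_pos h1.symm, if_pos h1]
      exact (hmO (d k) (hfix k h1)).2 a b
    · have h1' : ¬ k = τ k := fun h => h1 h.symm
      rw [if_neg h1', if_neg h1]
      by_cases h3 : k < τ k
      · rw [if_pos h3, if_neg (not_lt.2 h3.le)]
        exact (hmS (d k) (hdpos k)).2.2 b a
      · have h4 : τ k < k := lt_of_le_of_ne (not_lt.1 h3) h1
        rw [if_neg h3, if_pos h4, (hmS (d k) (hdpos k)).2.2 a b]
  exact goodS_of_asm hτ hdτ hm hsym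

end Cfsg.Agent.Helper21.JO
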