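import Cfsg.Agent.Helper21.JO5
import Cfsg.Prelude.Def_Classical

/-!
# From an invariant symmetric Gram matrix to an isometry of a quadratic form (helper21)
-/

set_option autoImplicit false
set_option linter.unusedSectionVars false

namespace Cfsg.Agent.Helper21.JO

open Matrix Cfsg.Agent.Helper21.JS Cfsg.Agent.Helper21.JC

variable {F : Type*} [Field F]

/-- a matrix preserving a nondegenerate symmetric Gram matrix is (after reindexing) an isometry
of a quadratic form with nondegenerate polar form -/
theorem exists_quadratic_of_goodS (h2 : (2 : F) ≠ 0) {n : ℕ} {I : Type*} [Fintype I]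
    [DecidableEq I] (hcard : Fintype.card I = n) (U : Matrix I I F) (hU : GoodS U) :
    ∃ Q : QuadraticForm F (Fin n → F), (QuadraticMap.polarBilin Q).Nondegenerate ∧
      ∃ e : I ≃ Fin n, ∃ A : ↥(Cfsg.isometryGroup F ⇑Q),
        IsConj (Matrix.reindex e e U)
          ((A : Matrix.GeneralLinearGroup (Fin n) F) : Matrix (Fin n) (Fin n) F) := by
  have hc : Fintype.card I = Fintype.card (Fin n) := by rw [hcard, Fintype.card_fin]
  obtain ⟨e⟩ : Nonempty (I ≃ Fin n) := Fintype.card_eq.1 hc
  obtain ⟨B, hBu, hBs, hBinv⟩ := hU.reindex e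
  have hBapp : ∀ v : Fin n → F,
      LinearMap.BilinMap.toQuadraticMap (Matrix.toBilin' B) v = v ⬝ᵥ (B *ᵥ v) := by
    intro v
    rw [LinearMap.BilinMap.toQuadraticMap_apply, Matrix.toBilin'_apply']
  refine ⟨LinearMap.BilinMap.toQuadraticMap (Matrix.toBilin' B), ?_, e, ?_⟩
  · have h1 : QuadraticMap.polarBilin (LinearMap.BilinMap.toQuadraticMap (Matrix.toBilin' B))
        = Matrix.toBilin' ((2 : F) • B) := by
      apply LinearMap.ext
      intro u
      apply LinearMap.ext
      intro v
      rw [QuadraticMap.polarBilin_apply_apply, LinearMap.BilinMap.polar_toQuadraticMap,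
        Matrix.toBilin'_apply', Matrix.toBilin'_apply', Matrix.toBilin'_apply',
        Matrix.smul_mulVec, dotProduct_smul, smul_eq_mul, two_mul]
      congr 1
      rw [Matrix.dotProduct_mulVec, dotProduct_comm, ← Matrix.mulVec_transpose, hBs]
    rw [h1]
    refine LinearMap.BilinForm.nondegenerate_toBilin'_iff_det_ne_zero.2 ?_
    rw [Matrix.det_smul]
    exact mul_ne_zero (pow_ne_zero _ h2) ((Matrix.isUnit_iff_isUnit_det B).1 hBu).ne_zero
  · have hpres : ∀ u : Fin n → F,
        LinearMap.BilinMap.toQuadraticMap (Matrix.toBilin' B) (Matrix.reindex e e U *ᵥ u)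
          = LinearMap.BilinMap.toQuadraticMap (Matrix.toBilin' B) u := by
      intro u
      rw [hBapp, hBapp]
      exact bf_inv hBinv u u
    refine ⟨⟨⟨Matrix.reindex e e U, uinv B (Matrix.reindex e e U), mul_uinv hBu hBinv,
      uinv_mul hBu hBinv⟩, ?_⟩, ?_⟩
    · intro u v
      exact hpres u
    · exact IsConj.refl _

end Cfsg.Agent.Helper21.JO
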