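import Mathlib
import Cfsg.Agent.Helper21.Jordan3

set_option autoImplicit false

/-!
Regular unipotent elements of symplectic groups, part 3: regular nilpotent endomorphisms
(`T ^ n = 0`, rank `n - 1`) have a cyclic vector; their commutant consists of polynomials.
-/

namespace Cfsg.Agent.Helper21.SpReg

open Module Polynomial

variable {K : Type*} [Field K] {V : Type*} [AddCommGroup V] [Module K V]

theorem exists_cyclic [FiniteDimensional K V] (T : Module.End K V) (n : ℕ)
    (hn : finrank K V = n) (hT : T ^ n = 0)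
    (hr : finrank K (LinearMap.range T) + 1 = n) :
    ∃ v : V, LinearIndependent K (fun j : Fin n => (T ^ (j : ℕ)) v) := by
  classical
  obtain ⟨μ, ι, _, d, v, hμ, hpos, hli, hspan, hkill⟩ := Jordan.exists_isJordan T ⟨n, hT⟩
  have h0 := Jordan.finrank_range_pow T d v hli hspan hkill 0
  have h1 := Jordan.finrank_range_pow T d v hli hspan hkill 1
  rw [pow_one] at h1
  have htop : LinearMap.range (T ^ 0) = ⊤ := by
    rw [pow_zero]
    exact LinearMap.range_id
  rw [htop, finrank_top, hn] at h0
  simp only [Nat.sub_zero] at h0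
  have h2 : ∑ i, (d i - 1) + Fintype.card ι = ∑ i, d i := by
    rw [← Finset.card_univ, Finset.card_eq_sum_ones, ← Finset.sum_add_distrib]
    apply Finset.sum_congr rfl
    intro i _
    have := hpos i
    omega
  have hcard : Fintype.card ι = 1 := by omega
  obtain ⟨i₀, hi₀⟩ := Fintype.card_eq_one_iff.mp hcard
  have hd : d i₀ = n := by
    have : ∑ i, d i = d i₀ := by
      rw [Finset.sum_eq_single i₀]
      · intro b _ hb
        exact absurd (hi₀ b) hb
      · intro h
        exact absurd (Finset.mem_univ _) h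
    omega
  refine ⟨v i₀, ?_⟩
  subst hd
  have hinj : Function.Injective (fun j : Fin (d i₀) => (⟨i₀, j⟩ : Σ i : ι, Fin (d i))) := by
    intro j j' h
    simp only [Sigma.mk.injEq, heq_eq_eq, true_and] at h
    exact h
  have h3 := hli.comp (fun j : Fin (d i₀) => (⟨i₀, j⟩ : Σ i : ι, Fin (d i))) hinj
  exact h3

theorem exists_aeval_eq_of_commute [FiniteDimensional K V] (T : Module.End K V) (n : ℕ)
    (hn : finrank K V = n) (hn0 : 0 < n) (v : V)
    (hli : LinearIndependent K (fun j : Fin n => (T ^ (j : ℕ)) v)) (g : Module.End K V)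
    (hg : Commute g T) : ∃ p : K[X], aeval T p = g := by
  classical
  have : Nonempty (Fin n) := ⟨⟨0, hn0⟩⟩
  let B : Basis (Fin n) K V :=
    basisOfLinearIndependentOfCardEqFinrank hli (by rw [Fintype.card_fin, hn])
  have hB : ∀ j, B j = (T ^ (j : ℕ)) v := fun j => by
    simp only [B, coe_basisOfLinearIndependentOfCardEqFinrank]
  refine ⟨∑ j : Fin n, monomial (j : ℕ) (B.repr (g v) j), ?_⟩
  have hP : aeval T (∑ j : Fin n, monomial (j : ℕ) (B.repr (g v) j))
      = ∑ j : Fin n, B.repr (g v) j • T ^ (j : ℕ) := by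
    rw [map_sum]
    apply Finset.sum_congr rfl
    intro j _
    rw [aeval_monomial, Algebra.smul_def]
  rw [hP]
  apply B.ext
  intro k
  rw [hB k]
  have h1 : (∑ j : Fin n, B.repr (g v) j • T ^ (j : ℕ)) v = g v := by
    rw [LinearMap.sum_apply]
    simp only [LinearMap.smul_apply]
    conv_rhs => rw [← B.sum_repr (g v)]
    apply Finset.sum_congr rfl
    intro j _
    rw [hB j]
  have hc1 : Commute (∑ j : Fin n, B.repr (g v) j • T ^ (j : ℕ)) (T ^ (k : ℕ)) := by
    apply Commute.sum_left
    intro j _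
    exact (Commute.pow_pow_self T _ _).smul_left _
  have hc2 : Commute g (T ^ (k : ℕ)) := hg.pow_right _
  calc (∑ j : Fin n, B.repr (g v) j • T ^ (j : ℕ)) ((T ^ (k : ℕ)) v)
      = ((∑ j : Fin n, B.repr (g v) j • T ^ (j : ℕ)) * T ^ (k : ℕ)) v := rfl
    _ = (T ^ (k : ℕ) * (∑ j : Fin n, B.repr (g v) j • T ^ (j : ℕ))) v := by rw [hc1.eq]
    _ = (T ^ (k : ℕ)) (g v) := by rw [Module.End.mul_apply, h1]
    _ = (g * T ^ (k : ℕ)) v := by rw [hc2.eq]; rfl
    _ = g ((T ^ (k : ℕ)) v) := rfl

theorem dvd_of_aeval_eq_zero (T : Module.End K V) (n : ℕ) (hT : T ^ n = 0) (v : V)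
    (hli : LinearIndependent K (fun j : Fin n => (T ^ (j : ℕ)) v)) (p : K[X])
    (hp : aeval T p = 0) : X ^ n ∣ p := by
  rcases Nat.eq_zero_or_pos n with rfl | hn0
  · rw [pow_zero]
    exact one_dvd p
  have hm : (X ^ n : K[X]).Monic := monic_X_pow n
  rw [← modByMonic_eq_zero_iff_dvd hm]
  have hdeg : (p %ₘ X ^ n).natDegree < n := by
    have h1 : (X ^ n : K[X]) ≠ 1 := by
      intro h
      have := congrArg natDegree h
      rw [natDegree_X_pow, natDegree_one] at this
      omega
    have := natDegree_modByMonic_lt p hm h1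
    rwa [natDegree_X_pow] at this
  have hr : aeval T (p %ₘ X ^ n) = 0 := by
    have h2 := modByMonic_add_div p (q := X ^ n)
    have h3 := congrArg (aeval T) h2
    rw [map_add, map_mul, map_pow, aeval_X, hT, zero_mul, add_zero, hp] at h3
    exact h3
  rw [aeval_eq_sum_range' hdeg] at hr
  have h4 := congrArg (fun f : Module.End K V => f v) hr
  simp only [LinearMap.sum_apply, LinearMap.smul_apply, LinearMap.zero_apply] at h4
  rw [Finset.sum_range (fun i => (p %ₘ X ^ n).coeff i • (T ^ i) v)] at h4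
  have h5 := Fintype.linearIndependent_iff.mp hli (fun j => (p %ₘ X ^ n).coeff (j : ℕ)) h4
  ext k
  rw [coeff_zero]
  by_cases hk : k < n
  · exact h5 ⟨k, hk⟩
  · exact coeff_eq_zero_of_natDegree_lt (by omega)

end Cfsg.Agent.Helper21.SpReg
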