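import Mathlib

set_option autoImplicit false

/-!
Regular unipotent elements of symplectic groups, part 1: counting norm-one elements of a
commutative local algebra with involution, via the Cayley transform.
-/

namespace Cfsg.Agent.Helper21.SpReg

variable {R : Type*} [CommRing R] {F : Type*} [Field F]

/-- Cayley relation -/
def Rel (r b : R) : Prop := (1 + r) * (1 + b) = 2

theorem Rel.symm {r b : R} (h : Rel r b) : Rel b r := by
  unfold Rel at h ⊢
  rw [mul_comm]
  exact h

theorem Rel.map (τ : R →+* R) {r b : R} (h : Rel r b) : Rel (τ r) (τ b) := by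
  unfold Rel at h ⊢
  have := congrArg τ h
  rw [map_mul, map_add, map_add, map_one, map_ofNat] at this
  exact this

theorem Rel.unique {r b b' : R} (hu : IsUnit (1 + r)) (h : Rel r b) (h' : Rel r b') : b = b' := by
  unfold Rel at h h'
  have : (1 + r) * (1 + b) = (1 + r) * (1 + b') := h.trans h'.symm
  have := hu.mul_left_cancel this
  exact add_left_cancel this

theorem Rel.isUnit_left {r b : R} (h2 : IsUnit (2 : R)) (h : Rel r b) : IsUnit (1 + r) := by
  unfold Rel at h
  rw [← h] at h2
  exact isUnit_of_mul_isUnit_left h2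

theorem Rel.neg_of_norm {r b t : R} (hu : IsUnit (r * (1 + r))) (h1 : t * r = 1) (h : Rel r b) :
    Rel t (-b) := by
  unfold Rel at h ⊢
  apply hu.mul_left_cancel
  linear_combination ((1 + r) * (1 - b)) * h1 + (-(1 + r)) * h

theorem Rel.norm_of_neg {r b t : R} (h2 : IsUnit (2 : R)) (h : Rel r b) (h' : Rel t (-b)) :
    t * r = 1 := by
  unfold Rel at h h'
  apply h2.mul_left_cancel
  linear_combination (1 + t) * h + (1 + r) * h'

/-- the Cayley transform -/
noncomputable def cay (r : R) : R := 2 * Ring.inverse (1 + r) - 1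

theorem rel_cay {r : R} (hu : IsUnit (1 + r)) : Rel r (cay r) := by
  unfold Rel cay
  have := Ring.mul_inverse_cancel _ hu
  linear_combination 2 * this

section count

variable (τ : R →+* R) (ε : R →+* F) (h2 : (2 : F) ≠ 0)
  (hunit : ∀ r, IsUnit r ↔ ε r ≠ 0) (hετ : ∀ r, ε (τ r) = ε r)

include h2 hunit in
theorem isUnit_two : IsUnit (2 : R) := by
  rw [hunit, map_ofNat]
  exact h2

include h2 hunit in
theorem isUnit_one_add_of_eps_one {r : R} (h : ε r = 1) : IsUnit (1 + r) := by
  rw [hunit, map_add, map_one, h]
  norm_num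
  exact h2

include hunit in
theorem isUnit_one_add_of_eps_zero {r : R} (h : ε r = 0) : IsUnit (1 + r) := by
  rw [hunit, map_add, map_one, h]
  norm_num

include h2 hετ in
theorem eps_zero_of_neg {b : R} (hb : τ b = -b) : ε b = 0 := by
  have h := hετ b
  rw [hb, map_neg] at h
  have h3 : (2 : F) * ε b = 0 := by linear_combination -h
  rcases mul_eq_zero.mp h3 with h4 | h4
  · exact absurd h4 h2
  · exact h4

include h2 hunit hετ in
/-- the Cayley transform maps norm-one elements with `ε = 1` to skew elements -/
theorem cay_skew {r : R} (h1 : τ r * r = 1) (he : ε r = 1) : τ (cay r) = -cay r := by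
  have hu : IsUnit (1 + r) := isUnit_one_add_of_eps_one ε h2 hunit he
  have hr : IsUnit r := by
    rw [hunit, he]
    exact one_ne_zero
  have hrel := rel_cay hu
  have hτu : IsUnit (1 + τ r) := isUnit_one_add_of_eps_one ε h2 hunit (by rw [hετ, he])
  exact Rel.unique hτu (hrel.map τ) (hrel.neg_of_norm (hr.mul hu) h1)

include h2 hunit hετ in
/-- the Cayley transform maps skew elements to norm-one elements with `ε = 1` -/
theorem cay_norm {b : R} (hb : τ b = -b) : τ (cay b) * cay b = 1 ∧ ε (cay b) = 1 := by
  have he : ε b = 0 := eps_zero_of_neg τ ε h2 hετ hb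
  have hu : IsUnit (1 + b) := isUnit_one_add_of_eps_zero ε hunit he
  have hrel := (rel_cay hu).symm
  constructor
  · have h' : Rel (τ (cay b)) (-b) := by
      have := hrel.map τ
      rwa [hb] at this
    exact Rel.norm_of_neg (isUnit_two ε h2 hunit) hrel h'
  · have h3 := congrArg ε hrel
    rw [map_mul, map_add, map_add, map_one, he, add_zero, mul_one, map_ofNat] at h3
    linear_combination h3

include h2 hunit in
theorem cay_cay {r : R} (hu : IsUnit (1 + r)) : cay (cay r) = r := by
  have h1 := rel_cay hu
  have hu' : IsUnit (1 + cay r) := h1.symm.isUnit_left (isUnit_two ε h2 hunit)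
  have h3 := rel_cay hu'
  exact (Rel.unique hu' h1.symm h3).symm

include h2 hunit hετ in
/-- **Counting norm-one elements.** -/
theorem count_norm_one [Finite R] :
    Nat.card {r : R // τ r * r = 1} = 2 * Nat.card {b : R // τ b = -b} := by
  classical
  -- the elements with `ε = 1`
  have hcay : Nat.card {r : R // τ r * r = 1 ∧ ε r = 1} = Nat.card {b : R // τ b = -b} := by
    refine Nat.card_congr
      { toFun := fun r => ⟨cay r.1, cay_skew τ ε h2 hunit hετ r.2.1 r.2.2⟩
        invFun := fun b => ⟨cay b.1, cay_norm τ ε h2 hunit hετ b.2⟩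
        left_inv := ?_
        right_inv := ?_ }
    · rintro ⟨r, h1, he⟩
      apply Subtype.ext
      exact cay_cay ε h2 hunit (isUnit_one_add_of_eps_one ε h2 hunit he)
    · rintro ⟨b, hb⟩
      apply Subtype.ext
      exact cay_cay ε h2 hunit
        (isUnit_one_add_of_eps_zero ε hunit (eps_zero_of_neg τ ε h2 hετ hb))
  have hpm : ∀ r : R, τ r * r = 1 → ε r = 1 ∨ ε r = -1 := by
    intro r h1
    have h3 := congrArg ε h1
    rw [map_mul, hετ, map_one] at h3
    have : (ε r - 1) * (ε r + 1) = 0 := by linear_combination h3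
    rcases mul_eq_zero.mp this with h | h
    · left; linear_combination h
    · right; linear_combination h
  have hne : (1 : F) ≠ -1 := by
    intro h
    apply h2
    linear_combination h
  have hsplit := Nat.card_congr
    (Equiv.sumCompl (fun r : {r : R // τ r * r = 1} => ε r.1 = 1)).symm
  rw [Nat.card_sum] at hsplit
  have hA : Nat.card {r : {r : R // τ r * r = 1} // ε r.1 = 1}
      = Nat.card {r : R // τ r * r = 1 ∧ ε r = 1} :=
    Nat.card_congr (Equiv.subtypeSubtypeEquivSubtypeInter (fun r : R => τ r * r = 1)
      (fun r : R => ε r = 1))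
  have hB : Nat.card {r : {r : R // τ r * r = 1} // ¬ ε r.1 = 1}
      = Nat.card {r : R // τ r * r = 1 ∧ ε r = 1} := by
    refine Nat.card_congr
      { toFun := fun r => ⟨-r.1.1, by
          rw [map_neg, neg_mul_neg]; exact r.1.2, by
          rcases hpm r.1.1 r.1.2 with h | h
          · exact absurd h r.2
          · rw [map_neg, h, neg_neg]⟩
        invFun := fun r => ⟨⟨-r.1, by rw [map_neg, neg_mul_neg]; exact r.2.1⟩, by
          simp only [map_neg, r.2.2]
          exact fun h => hne h.symm⟩
        left_inv := ?_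
        right_inv := ?_ }
    · rintro ⟨⟨r, h1⟩, he⟩
      simp
    · rintro ⟨r, h1, he⟩
      simp
  rw [hsplit, hA, hB, hcay]
  ring

end count

end Cfsg.Agent.Helper21.SpReg
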