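import Mathlib
import Cfsg.Agent.Helper21.SpReg1

set_option autoImplicit false

/-!
Regular unipotent elements of symplectic groups, part 2: the truncated polynomial ring
`F[X]/(X^n)`, its involution `X ↦ -X`, its augmentation, and the number of skew elements.
-/

namespace Cfsg.Agent.Helper21.SpReg

open Polynomial

section general

variable {F : Type*} [Field F] {S : Type*} [CommRing S] [Algebra F S]

/-- odd indices below `d` -/
def oddEquiv (d : ℕ) : {i : Fin d // Odd (i : ℕ)} ≃ Fin (d / 2) where
  toFun i := ⟨(i.1 : ℕ) / 2, by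
    have h1 := i.1.2
    have h2 := Nat.odd_iff.mp i.2
    omega⟩
  invFun j := ⟨⟨2 * (j : ℕ) + 1, by
    have := j.2
    omega⟩, by
    rw [Nat.odd_iff]
    show (2 * (j : ℕ) + 1) % 2 = 1
    omega⟩
  left_inv i := by
    apply Subtype.ext
    apply Fin.ext
    have h2 := Nat.odd_iff.mp i.2
    show 2 * ((i.1 : ℕ) / 2) + 1 = (i.1 : ℕ)
    omega
  right_inv j := by
    apply Fin.ext
    show (2 * (j : ℕ) + 1) / 2 = (j : ℕ)
    omega

theorem repr_tau (pb : PowerBasis F S) (τ : S →ₐ[F] S) (hτ : τ pb.gen = -pb.gen) (b : S)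
    (i : Fin pb.dim) :
    pb.basis.equivFun (τ b) i = (-1) ^ (i : ℕ) * pb.basis.equivFun b i := by
  have hb : τ b = ∑ j : Fin pb.dim, ((-1) ^ (j : ℕ) * pb.basis.equivFun b j) • pb.basis j := by
    conv_lhs => rw [← pb.basis.sum_equivFun b]
    rw [map_sum]
    apply Finset.sum_congr rfl
    intro j _
    rw [map_smul, pb.basis_eq_pow, map_pow, hτ, neg_pow, mul_smul, smul_comm]
    congr 1
    rw [Algebra.smul_def, map_pow, map_neg, map_one]
  rw [hb, pb.basis.equivFun_apply, pb.basis.repr_sum_self]

theorem card_skew [Finite F] (h2 : (2 : F) ≠ 0) (pb : PowerBasis F S) (τ : S →ₐ[F] S)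
    (hτ : τ pb.gen = -pb.gen) :
    Nat.card {b : S // τ b = -b} = Nat.card F ^ (pb.dim / 2) := by
  classical
  have hiff : ∀ b : S, τ b = -b ↔ ∀ i : Fin pb.dim, ¬ Odd (i : ℕ) → pb.basis.equivFun b i = 0 := by
    intro b
    rw [← pb.basis.equivFun.injective.eq_iff, funext_iff]
    constructor
    · intro h i hi
      have h1 := h i
      rw [repr_tau pb τ hτ, map_neg, Pi.neg_apply, (Nat.not_odd_iff_even.mp hi).neg_one_pow,
        one_mul] at h1
      have h3 : (2 : F) * pb.basis.equivFun b i = 0 := by linear_combination h1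
      rcases mul_eq_zero.mp h3 with h4 | h4
      · exact absurd h4 h2
      · exact h4
    · intro h i
      rw [repr_tau pb τ hτ, map_neg, Pi.neg_apply]
      by_cases hi : Odd (i : ℕ)
      · rw [hi.neg_one_pow]
        ring
      · rw [h i hi]
        ring
  have e1 : {b : S // τ b = -b} ≃
      {f : Fin pb.dim → F // ∀ i : Fin pb.dim, ¬ Odd (i : ℕ) → f i = 0} :=
    pb.basis.equivFun.toEquiv.subtypeEquiv (fun b => hiff b)
  have e2 : {f : Fin pb.dim → F // ∀ i : Fin pb.dim, ¬ Odd (i : ℕ) → f i = 0} ≃
      ({i : Fin pb.dim // Odd (i : ℕ)} → F) :=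
    { toFun := fun f i => f.1 i.1
      invFun := fun g => ⟨fun i => if h : Odd (i : ℕ) then g ⟨i, h⟩ else 0, fun i hi => by
        simp only [hi, dite_false]⟩
      left_inv := by
        rintro ⟨f, hf⟩
        apply Subtype.ext
        funext i
        by_cases hi : Odd (i : ℕ)
        · simp only [hi, dite_true]
        · simp only [hi, dite_false]
          exact (hf i hi).symm
      right_inv := by
        intro g
        funext i
        simp only [i.2, dite_true] }
  rw [Nat.card_congr (e1.trans e2), Nat.card_fun, Nat.card_congr (oddEquiv pb.dim),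
    Nat.card_fin]

end general

section truncated

variable (F : Type*) [Field F] (n : ℕ)

/-- the truncated polynomial ring `F[X]/(X^n)` -/
abbrev TR : Type _ := AdjoinRoot (X ^ n : F[X])

theorem root_pow : (AdjoinRoot.root (X ^ n : F[X])) ^ n = 0 := by
  have h := AdjoinRoot.eval₂_root (X ^ n : F[X])
  rwa [eval₂_X_pow] at h

/-- the involution `X ↦ -X` -/
noncomputable def tau : TR F n →ₐ[F] TR F n :=
  AdjoinRoot.liftAlgHom (X ^ n : F[X]) (Algebra.ofId F (TR F n)) (-AdjoinRoot.root _) (by
    rw [eval₂_X_pow, neg_pow, root_pow, mul_zero])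

@[simp]
theorem tau_root : tau F n (AdjoinRoot.root _) = -AdjoinRoot.root _ := by
  simp [tau]

/-- the augmentation `X ↦ 0` -/
noncomputable def eps (hn : n ≠ 0) : TR F n →ₐ[F] F :=
  AdjoinRoot.liftAlgHom (X ^ n : F[X]) (Algebra.ofId F F) 0 (by
    rw [eval₂_X_pow, zero_pow hn])

@[simp]
theorem eps_root (hn : n ≠ 0) : eps F n hn (AdjoinRoot.root _) = 0 := by
  simp [eps]

theorem eps_tau (hn : n ≠ 0) (r : TR F n) : eps F n hn (tau F n r) = eps F n hn r := by
  have : (eps F n hn).comp (tau F n) = eps F n hn := by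
    apply AdjoinRoot.algHom_ext
    simp
  exact DFunLike.congr_fun this r

theorem isUnit_iff_eps (hn : n ≠ 0) (r : TR F n) : IsUnit r ↔ eps F n hn r ≠ 0 := by
  constructor
  · intro h
    exact (h.map (eps F n hn)).ne_zero
  · intro h
    induction r using AdjoinRoot.induction_on with
    | ih p =>
      have hp : p = C (p.coeff 0) + X * p.divX := by
        rw [add_comm]
        exact (X_mul_divX_add p).symm
      have he : eps F n hn (AdjoinRoot.mk _ p) = p.coeff 0 := by
        rw [eps, AdjoinRoot.liftAlgHom_mk]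
        conv_lhs => rw [hp]
        simp
      rw [he] at h
      rw [hp, map_add, map_mul, AdjoinRoot.mk_X, AdjoinRoot.mk_C]
      apply IsNilpotent.isUnit_add_left_of_commute
      · apply Commute.isNilpotent_mul_right (Commute.all _ _)
        exact ⟨n, root_pow F n⟩
      · exact (IsUnit.mk0 _ h).map (AdjoinRoot.of _)
      · exact Commute.all _ _

theorem tr_finite [Finite F] : Finite (TR F n) := by
  have hm : (X ^ n : F[X]).Monic := monic_X_pow n
  have : Module.Finite F (TR F n) := (AdjoinRoot.powerBasis' hm).finite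
  exact Module.finite_of_finite F (M := TR F n)

theorem card_skew_tr [Finite F] (h2 : (2 : F) ≠ 0) (m : ℕ) :
    Nat.card {b : TR F (2 * m) // tau F (2 * m) b = -b} = Nat.card F ^ m := by
  have hm : (X ^ (2 * m) : F[X]).Monic := monic_X_pow _
  have h := card_skew h2 (AdjoinRoot.powerBasis' hm) (tau F (2 * m)) (by
    rw [AdjoinRoot.powerBasis'_gen]
    exact tau_root F _)
  rw [h, AdjoinRoot.powerBasis'_dim, natDegree_X_pow]
  congr 1
  omega

end truncated

end Cfsg.Agent.Helper21.SpReg
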