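import Mathlib
import Cfsg.Agent.Helper21.SpReg2
import Cfsg.Agent.Helper21.SpReg3

set_option autoImplicit false

/-!
Regular unipotent elements of symplectic groups, part 4: an algebra with anti-involution `σ`
and a regular nilpotent skew element `c`: the number of `g` commuting with `c` with
`σ g * g = 1` is `2 q ^ m`.
-/

namespace Cfsg.Agent.Helper21.SpReg

open Polynomial

section abs

variable {F : Type*} [Field F] {A : Type*} [Ring A] [Algebra F A] (n : ℕ)

variable (F) in
/-- the evaluation map `F[X]/(X^n) → A` at an element `c` with `c ^ n = 0` -/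
noncomputable def phi (c : A) (hc : c ^ n = 0) : TR F n →ₐ[F] A :=
  Ideal.Quotient.liftₐ (Ideal.span {(X ^ n : F[X])}) (aeval c) (by
    intro a ha
    obtain ⟨b, rfl⟩ := Ideal.mem_span_singleton.mp ha
    rw [map_mul, map_pow, aeval_X, hc, zero_mul])

theorem phi_mk (c : A) (hc : c ^ n = 0) (p : F[X]) :
    phi F n c hc (AdjoinRoot.mk (X ^ n : F[X]) p) = aeval c p := rfl

theorem phi_root (c : A) (hc : c ^ n = 0) :
    phi F n c hc (AdjoinRoot.root (X ^ n : F[X])) = c := by
  rw [← AdjoinRoot.mk_X, phi_mk, aeval_X]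

variable (σ : A → A) (hadd : ∀ a b, σ (a + b) = σ a + σ b)
  (hsmul : ∀ (k : F) a, σ (k • a) = k • σ a)
  (hmul : ∀ a b, σ (a * b) = σ b * σ a) (hone : σ 1 = 1)

include hmul hone in
theorem sigma_pow (a : A) (k : ℕ) : σ (a ^ k) = (σ a) ^ k := by
  induction k with
  | zero => rw [pow_zero, pow_zero, hone]
  | succ k ih => rw [pow_succ, hmul, ih, pow_succ']

include hadd hsmul hmul hone in
theorem sigma_aeval (c : A) (hσc : σ c = -c) (p : F[X]) : σ (aeval c p) = aeval (-c) p := by
  induction p using Polynomial.induction_on' with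
  | add p q hp hq => rw [map_add, hadd, hp, hq, map_add]
  | monomial k a =>
    rw [aeval_monomial, aeval_monomial, ← Algebra.smul_def, ← Algebra.smul_def, hsmul,
      sigma_pow σ hmul hone, hσc]

theorem tau_mk (p : F[X]) : tau F n (AdjoinRoot.mk (X ^ n : F[X]) p)
    = aeval (-AdjoinRoot.root (X ^ n : F[X])) p := rfl

include hadd hsmul hmul hone in
theorem phi_tau (c : A) (hc : c ^ n = 0) (hσc : σ c = -c) (r : TR F n) :
    phi F n c hc (tau F n r) = σ (phi F n c hc r) := by
  induction r using AdjoinRoot.induction_on with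
  | ih p =>
    rw [phi_mk, sigma_aeval σ hadd hsmul hmul hone c hσc, tau_mk, ← aeval_algHom_apply, map_neg,
      phi_root]

include hadd hsmul hmul hone in
theorem card_abstract [Finite F] (h2 : (2 : F) ≠ 0) (m : ℕ) (hm : m ≠ 0) (c : A)
    (hc : c ^ (2 * m) = 0) (hσc : σ c = -c)
    (hinj : ∀ p : F[X], aeval c p = 0 → X ^ (2 * m) ∣ p)
    (hsurj : ∀ g : A, g * c = c * g → ∃ p : F[X], aeval (R := F) c p = g) :
    Nat.card {g : A // σ g * g = 1 ∧ g * c = c * g} = 2 * Nat.card F ^ m := by
  have hn : 2 * m ≠ 0 := by omega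
  have hΦinj : Function.Injective (phi F (2 * m) c hc) := by
    rw [injective_iff_map_eq_zero]
    intro r hr
    induction r using AdjoinRoot.induction_on with
    | ih p =>
      rw [phi_mk] at hr
      exact AdjoinRoot.mk_eq_zero.mpr (hinj p hr)
  have hcomm : ∀ r : TR F (2 * m), phi F (2 * m) c hc r * c = c * phi F (2 * m) c hc r := by
    intro r
    have h1 := congrArg (phi F (2 * m) c hc) (mul_comm r (AdjoinRoot.root _))
    rw [map_mul, map_mul, phi_root] at h1
    exact h1
  have e : {r : TR F (2 * m) // tau F (2 * m) r * r = 1} ≃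
      {g : A // σ g * g = 1 ∧ g * c = c * g} := by
    refine Equiv.ofBijective (fun r => ⟨phi F (2 * m) c hc r.1, ?_, hcomm r.1⟩) ⟨?_, ?_⟩
    · rw [← phi_tau (2 * m) σ hadd hsmul hmul hone c hc hσc, ← map_mul, r.2, map_one]
    · intro r r' h
      apply Subtype.ext
      apply hΦinj
      exact congrArg Subtype.val h
    · rintro ⟨g, hg1, hg2⟩
      obtain ⟨p, rfl⟩ := hsurj g hg2
      refine ⟨⟨AdjoinRoot.mk _ p, ?_⟩, ?_⟩
      · apply hΦinj
        rw [map_mul, phi_tau (2 * m) σ hadd hsmul hmul hone c hc hσc, phi_mk, map_one]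
        exact hg1
      · apply Subtype.ext
        exact phi_mk (2 * m) c hc p
  have : Finite (TR F (2 * m)) := tr_finite F (2 * m)
  rw [← Nat.card_congr e]
  have h3 := count_norm_one (tau F (2 * m) : TR F (2 * m) →+* TR F (2 * m))
    (eps F (2 * m) hn : TR F (2 * m) →+* F) h2 (isUnit_iff_eps F (2 * m) hn)
    (eps_tau F (2 * m) hn)
  have h4 := card_skew_tr F h2 m
  exact h3.trans (by rw [← h4]; rfl)

end abs

end Cfsg.Agent.Helper21.SpReg
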