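import Mathlib
import Cfsg.Agent.Helper21.SpReg4

set_option autoImplicit false

/-!
Regular unipotent elements of symplectic groups, part 5: the matrix algebra with the symplectic
adjoint; the centraliser of a regular unipotent element of `Sp_{2m}(q)` has order `2 q ^ m`.
-/

namespace Cfsg.Agent.Helper21.SpReg

open Matrix Polynomial

section mat

variable {F : Type*} [Field F] {m : ℕ}

/-- the symplectic adjoint -/
def sig (a : Matrix (Fin m ⊕ Fin m) (Fin m ⊕ Fin m) F) :
    Matrix (Fin m ⊕ Fin m) (Fin m ⊕ Fin m) F :=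
  -(J (Fin m) F * aᵀ * J (Fin m) F)

theorem sig_add (a b : Matrix (Fin m ⊕ Fin m) (Fin m ⊕ Fin m) F) :
    sig (a + b) = sig a + sig b := by
  simp only [sig, transpose_add, Matrix.mul_add, Matrix.add_mul, neg_add]

theorem sig_sub (a b : Matrix (Fin m ⊕ Fin m) (Fin m ⊕ Fin m) F) :
    sig (a - b) = sig a - sig b := by
  simp only [sig, transpose_sub, Matrix.mul_sub, Matrix.sub_mul, neg_sub']

theorem sig_smul (k : F) (a : Matrix (Fin m ⊕ Fin m) (Fin m ⊕ Fin m) F) :
    sig (k • a) = k • sig a := by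
  simp only [sig, transpose_smul, Matrix.mul_smul, Matrix.smul_mul, smul_neg]

theorem sig_mul (a b : Matrix (Fin m ⊕ Fin m) (Fin m ⊕ Fin m) F) :
    sig (a * b) = sig b * sig a := by
  simp only [sig, transpose_mul, Matrix.neg_mul, Matrix.mul_neg, neg_neg]
  rw [show J (Fin m) F * bᵀ * J (Fin m) F * (J (Fin m) F * aᵀ * J (Fin m) F)
      = J (Fin m) F * bᵀ * (J (Fin m) F * J (Fin m) F) * (aᵀ * J (Fin m) F) by
    simp only [Matrix.mul_assoc], J_squared]
  simp only [Matrix.mul_assoc, Matrix.mul_neg, Matrix.neg_mul, Matrix.mul_one]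

theorem sig_one : sig (1 : Matrix (Fin m ⊕ Fin m) (Fin m ⊕ Fin m) F) = 1 := by
  simp only [sig, transpose_one, Matrix.mul_one, J_squared, neg_neg]

theorem sig_sig (a : Matrix (Fin m ⊕ Fin m) (Fin m ⊕ Fin m) F) : sig (sig a) = a := by
  simp only [sig, transpose_neg, transpose_mul, transpose_transpose, J_transpose, Matrix.neg_mul,
    Matrix.mul_neg, neg_neg]
  rw [show J (Fin m) F * (J (Fin m) F * (a * J (Fin m) F)) * J (Fin m) F
      = (J (Fin m) F * J (Fin m) F) * a * (J (Fin m) F * J (Fin m) F) by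
    simp only [Matrix.mul_assoc], J_squared]
  simp

theorem mem_iff_sig (a : Matrix (Fin m ⊕ Fin m) (Fin m ⊕ Fin m) F) :
    a ∈ symplecticGroup (Fin m) F ↔ sig a * a = 1 := by
  constructor
  · intro h
    have := SymplecticGroup.inv_left_mul_aux h
    rw [sig, Matrix.neg_mul]
    exact this
  · intro h
    rw [SymplecticGroup.mem_iff']
    rw [sig, Matrix.neg_mul] at h
    have h1 := congrArg (fun x => J (Fin m) F * x) h
    simp only [Matrix.mul_neg, Matrix.mul_one] at h1
    rw [show J (Fin m) F * (J (Fin m) F * aᵀ * J (Fin m) F * a)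
      = (J (Fin m) F * J (Fin m) F) * (aᵀ * J (Fin m) F * a) by
      simp only [Matrix.mul_assoc], J_squared] at h1
    simpa using h1

theorem card_centralizer_mat [Finite F] (h2 : (2 : F) ≠ 0) (hm : 1 ≤ m)
    (U : Matrix (Fin m ⊕ Fin m) (Fin m ⊕ Fin m) F) (hU : U ∈ symplecticGroup (Fin m) F)
    (hnil : (U - 1) ^ (2 * m) = 0) (hreg : (U - 1).rank = 2 * m - 1) :
    Nat.card {g : Matrix (Fin m ⊕ Fin m) (Fin m ⊕ Fin m) F //
      g ∈ symplecticGroup (Fin m) F ∧ g * U = U * g} = 2 * Nat.card F ^ m := by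
  classical
  obtain ⟨S, hS⟩ : ∃ S, S = sig U := ⟨_, rfl⟩
  have hSU : S * U = 1 := by
    rw [hS]
    exact (mem_iff_sig U).mp hU
  have hUS : U * S = 1 := mul_eq_one_comm.mp hSU
  have hsS : sig S = U := by rw [hS, sig_sig]
  obtain ⟨N, hN⟩ : ∃ N, N = U - 1 := ⟨_, rfl⟩
  rw [← hN] at hnil hreg
  obtain ⟨c, hc_def⟩ : ∃ c, c = U - S := ⟨_, rfl⟩
  have hσc : sig c = -c := by
    rw [hc_def, sig_sub, ← hS, hsS, neg_sub]
  obtain ⟨W, hW⟩ : ∃ W, W = (N + 2) * S := ⟨_, rfl⟩
  have hcN : c = N * W := by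
    have h1 : (U - 1) * ((U - 1 + 2) * S) = U * (U * S) - S := by noncomm_ring
    rw [hW, hN, h1, hUS, mul_one, hc_def]
  have hcommNS : Commute N S := by
    show N * S = S * N
    rw [hN, sub_mul, mul_sub, hUS, hSU, one_mul, mul_one]
  have hcommNW : Commute N W := by
    rw [hW]
    exact ((Commute.refl N).add_right (Commute.ofNat_right N 2)).mul_right hcommNS
  have hc : c ^ (2 * m) = 0 := by
    rw [hcN, hcommNW.mul_pow, hnil, zero_mul]
  have hunit2 : IsUnit (2 : Matrix (Fin m ⊕ Fin m) (Fin m ⊕ Fin m) F) := by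
    have := (IsUnit.mk0 (2 : F) h2).map (algebraMap F (Matrix (Fin m ⊕ Fin m) (Fin m ⊕ Fin m) F))
    rwa [map_ofNat] at this
  have hWunit : IsUnit W := by
    rw [hW]
    apply IsUnit.mul
    · exact IsNilpotent.isUnit_add_right_of_commute ⟨2 * m, hnil⟩ hunit2
        (Commute.ofNat_right N 2)
    · exact ⟨⟨S, U, hSU, hUS⟩, rfl⟩
  have hrank : c.rank = 2 * m - 1 := by
    rw [hcN, rank_mul_eq_left_of_isUnit_det W N ((isUnit_iff_isUnit_det W).mp hWunit), hreg]
  -- transfer to endomorphisms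
  obtain ⟨T, hT_def⟩ : ∃ T : Module.End F ((Fin m ⊕ Fin m) → F),
      T = (toLinAlgEquiv' : Matrix (Fin m ⊕ Fin m) (Fin m ⊕ Fin m) F ≃ₐ[F] _) c := ⟨_, rfl⟩
  have hfin : Module.finrank F ((Fin m ⊕ Fin m) → F) = 2 * m := by
    rw [Module.finrank_fintype_fun_eq_card, Fintype.card_sum, Fintype.card_fin, two_mul]
  have hT : T ^ (2 * m) = 0 := by
    rw [hT_def, ← map_pow, hc, map_zero]
  have hrT : Module.finrank F (LinearMap.range T) + 1 = 2 * m := by
    have h1 : Module.finrank F (LinearMap.range T) = c.rank := by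
      rw [hT_def]
      rfl
    rw [h1, hrank]
    omega
  obtain ⟨v, hli⟩ := exists_cyclic T (2 * m) hfin hT hrT
  have hinj : ∀ p : F[X], aeval c p = 0 → X ^ (2 * m) ∣ p := by
    intro p hp
    apply dvd_of_aeval_eq_zero T (2 * m) hT v hli p
    rw [hT_def, aeval_algHom_apply, hp, map_zero]
  have hsurj : ∀ g : Matrix (Fin m ⊕ Fin m) (Fin m ⊕ Fin m) F, g * c = c * g →
      ∃ p : F[X], aeval (R := F) c p = g := by
    intro g hg
    obtain ⟨p, hp⟩ := exists_aeval_eq_of_commute T (2 * m) hfin (by omega) v hli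
      ((toLinAlgEquiv' : Matrix (Fin m ⊕ Fin m) (Fin m ⊕ Fin m) F ≃ₐ[F] _) g) (by
        show _ * T = T * _
        rw [hT_def, ← map_mul, ← map_mul, hg])
    refine ⟨p, ?_⟩
    apply (toLinAlgEquiv' : Matrix (Fin m ⊕ Fin m) (Fin m ⊕ Fin m) F ≃ₐ[F] _).injective
    rw [← hp, hT_def, aeval_algHom_apply]
  have key := card_abstract (F := F) (A := Matrix (Fin m ⊕ Fin m) (Fin m ⊕ Fin m) F) sig sig_add
    sig_smul sig_mul sig_one h2 m (by omega) c hc hσc hinj hsurj
  rw [← key]
  apply Nat.card_congr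
  apply Equiv.subtypeEquivRight
  intro g
  rw [mem_iff_sig]
  apply and_congr_right
  intro _
  constructor
  · intro h
    have hgS : g * S = S * g := by
      calc g * S = S * U * (g * S) := by rw [hSU, one_mul]
        _ = S * (U * g) * S := by simp only [Matrix.mul_assoc]
        _ = S * (g * U) * S := by rw [h]
        _ = S * g * (U * S) := by simp only [Matrix.mul_assoc]
        _ = S * g := by rw [hUS, mul_one]
    rw [hc_def, mul_sub, sub_mul, h, hgS]
  · intro h
    have hUc : U * c = c * U := by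
      rw [hc_def, mul_sub, sub_mul, hUS, hSU]
    obtain ⟨p, rfl⟩ := hsurj g h
    obtain ⟨p', hp'⟩ := hsurj U hUc
    rw [← hp', ← map_mul, ← map_mul, mul_comm]

end mat

end Cfsg.Agent.Helper21.SpReg
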