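import Mathlib
import Cfsg.Agent.Helper21.SpReg5

set_option autoImplicit false

/-!
Regular unipotent elements of symplectic groups, part 9: existence of a regular unipotent
symplectic matrix, and similitudes.
-/

namespace Cfsg.Agent.Helper21.SpReg

open Matrix

section chain

variable {F : Type*} [Field F] {ι : Type*} [Fintype ι] [DecidableEq ι]

theorem chain_pow (wt : ι → ℕ) (N : ℕ) (hwt : ∀ a, wt a < N) (c : Matrix ι ι F)
    (h : ∀ a b, c a b ≠ 0 → wt a = wt b + 1) : c ^ N = 0 := by
  have key : ∀ k : ℕ, ∀ a b, (c ^ k) a b ≠ 0 → wt a = wt b + k := by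
    intro k
    induction k with
    | zero =>
      intro a b hab
      rw [pow_zero, Matrix.one_apply] at hab
      split_ifs at hab with h1
      · rw [h1, add_zero]
      · exact absurd rfl hab
    | succ k ih =>
      intro a b hab
      rw [pow_succ, Matrix.mul_apply] at hab
      obtain ⟨x, -, hx⟩ := Finset.exists_ne_zero_of_sum_ne_zero hab
      have h1 := ih a x (left_ne_zero_of_mul hx)
      have h2 := h x b (right_ne_zero_of_mul hx)
      omega
  ext a b
  by_contra hab
  have := key N a b hab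
  have := hwt a
  omega

theorem chain_rank (wt : ι → ℕ) (N : ℕ) (hN : 0 < N) (hwt : ∀ a, wt a < N)
    (hinj : Function.Injective wt) (hcard : Fintype.card ι = N) (s : ι → F) (hs : ∀ b, s b ≠ 0)
    (c : Matrix ι ι F) (hc : ∀ a b, c a b = if wt a = wt b + 1 then s b else 0) :
    c.rank = N - 1 := by
  -- surjectivity of the weight
  have hsurj : ∀ k < N, ∃ a, wt a = k := by
    intro k hk
    let f : ι → Fin N := fun a => ⟨wt a, hwt a⟩
    have hf : Function.Injective f := by
      intro a b hab
      apply hinj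
      exact congrArg Fin.val hab
    have hbij : Function.Bijective f := by
      rw [Fintype.bijective_iff_injective_and_card]
      exact ⟨hf, by rw [hcard, Fintype.card_fin]⟩
    obtain ⟨a, ha⟩ := hbij.2 ⟨k, hk⟩
    exact ⟨a, congrArg Fin.val ha⟩
  obtain ⟨bl, hbl⟩ := hsurj (N - 1) (by omega)
  -- kernel vectors vanish off `bl`
  have hker : ∀ f : ι → F, c *ᵥ f = 0 → ∀ b, b ≠ bl → f b = 0 := by
    intro f hf b hb
    have hb1 : wt b + 1 < N := by
      have h1 := hwt b
      have h2 : wt b ≠ N - 1 := by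
        intro h3
        apply hb
        apply hinj
        rw [h3, hbl]
      omega
    obtain ⟨a, ha⟩ := hsurj (wt b + 1) hb1
    have h1 := congrFun hf a
    rw [Matrix.mulVec, dotProduct, Pi.zero_apply, Finset.sum_eq_single b] at h1
    · rw [hc, if_pos ha] at h1
      rcases mul_eq_zero.mp h1 with h2 | h2
      · exact absurd h2 (hs b)
      · exact h2
    · intro x _ hx
      rw [hc, if_neg, zero_mul]
      intro h3
      apply hx
      apply hinj
      omega
    · intro h
      exact absurd (Finset.mem_univ b) h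
  have hbl_ker : c *ᵥ (Pi.single bl 1) = 0 := by
    ext a
    rw [Matrix.mulVec_single_one, Pi.zero_apply, Matrix.col_apply, hc, if_neg]
    have := hwt a
    omega
  -- the kernel has dimension one
  have hfk : Module.finrank F (LinearMap.ker c.mulVecLin) = 1 := by
    apply le_antisymm
    · let g : LinearMap.ker c.mulVecLin →ₗ[F] F :=
        (LinearMap.proj bl).comp (LinearMap.ker c.mulVecLin).subtype
      have hg : Function.Injective g := by
        rw [← LinearMap.ker_eq_bot, LinearMap.ker_eq_bot']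
        rintro ⟨f, hf⟩ hgf
        apply Subtype.ext
        funext b
        have hf' : c *ᵥ f = 0 := hf
        by_cases hb : b = bl
        · rw [hb]
          exact hgf
        · exact hker f hf' b hb
      have := LinearMap.finrank_le_finrank_of_injective hg
      rwa [Module.finrank_self] at this
    · rw [Nat.succ_le_iff, Module.finrank_pos_iff_exists_ne_zero]
      refine ⟨⟨Pi.single bl 1, hbl_ker⟩, ?_⟩
      intro h
      have h1 := congrArg (fun x : LinearMap.ker c.mulVecLin => (x : ι → F) bl) h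
      simp at h1
  have h3 := LinearMap.finrank_range_add_finrank_ker c.mulVecLin
  rw [hfk, Module.finrank_fintype_fun_eq_card, hcard] at h3
  rw [Matrix.rank]
  omega

end chain

section exist

variable {F : Type*} [Field F] {m : ℕ}

/-- the shift matrix -/
def shiftE (F : Type*) [Field F] (m : ℕ) : Matrix (Fin m) (Fin m) F :=
  Matrix.of fun i j => if (j : ℕ) = (i : ℕ) + 1 then 1 else 0

/-- the corner matrix unit -/
def cornerT (F : Type*) [Field F] (m : ℕ) : Matrix (Fin m) (Fin m) F :=
  Matrix.of fun i j => if (i : ℕ) = 0 ∧ (j : ℕ) = 0 then 1 else 0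

theorem cornerT_transpose : (cornerT F m)ᵀ = cornerT F m := by
  ext i j
  simp only [cornerT, Matrix.transpose_apply, Matrix.of_apply, and_comm]

/-- a regular nilpotent element of the symplectic Lie algebra -/
def c0 (F : Type*) [Field F] (m : ℕ) : Matrix (Fin m ⊕ Fin m) (Fin m ⊕ Fin m) F :=
  fromBlocks (shiftE F m)ᵀ (cornerT F m) 0 (-(shiftE F m))

theorem sig_c0 : sig (c0 F m) = -c0 F m := by
  rw [sig, c0, Matrix.J, fromBlocks_transpose, fromBlocks_multiply, fromBlocks_multiply]
  simp only [Matrix.zero_mul, Matrix.neg_mul, Matrix.one_mul, zero_add, Matrix.mul_zero, add_zero,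
    Matrix.mul_one, Matrix.mul_neg, neg_neg, neg_zero, transpose_transpose, transpose_zero,
    transpose_neg, cornerT_transpose]

/-- the weight function of the chain -/
def wt0 (m : ℕ) : Fin m ⊕ Fin m → ℕ := Sum.elim (fun i => m + i) (fun i => m - 1 - i)

/-- the signs of the chain -/
def s0 (F : Type*) [Field F] (m : ℕ) : Fin m ⊕ Fin m → F :=
  Sum.elim (fun _ => 1) (fun i => if (i : ℕ) = 0 then 1 else -1)

theorem c0_apply (a b : Fin m ⊕ Fin m) :
    c0 F m a b = if wt0 m a = wt0 m b + 1 then s0 F m b else 0 := by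
  rcases a with i | i <;> rcases b with j | j
  · have hi := i.2
    have hj := j.2
    have hw : (wt0 m (Sum.inl i) = wt0 m (Sum.inl j) + 1) ↔ (i : ℕ) = (j : ℕ) + 1 := by
      simp only [wt0, Sum.elim_inl]
      omega
    simp only [c0, fromBlocks_apply₁₁, Matrix.transpose_apply, shiftE, Matrix.of_apply, s0,
      Sum.elim_inl]
    by_cases h : (i : ℕ) = (j : ℕ) + 1
    · rw [if_pos h, if_pos (hw.mpr h)]
    · rw [if_neg h, if_neg (fun h' => h (hw.mp h'))]
  · have hi := i.2
    have hj := j.2
    have hw : (wt0 m (Sum.inl i) = wt0 m (Sum.inr j) + 1) ↔ ((i : ℕ) = 0 ∧ (j : ℕ) = 0) := by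
      simp only [wt0, Sum.elim_inl, Sum.elim_inr]
      constructor
      · intro h
        constructor <;> omega
      · rintro ⟨h1, h2⟩
        omega
    simp only [c0, fromBlocks_apply₁₂, cornerT, Matrix.of_apply, s0, Sum.elim_inr]
    by_cases h : (i : ℕ) = 0 ∧ (j : ℕ) = 0
    · rw [if_pos h, if_pos (hw.mpr h), if_pos h.2]
    · rw [if_neg h, if_neg (fun h' => h (hw.mp h'))]
  · have hi := i.2
    have hj := j.2
    have hw : ¬ (wt0 m (Sum.inr i) = wt0 m (Sum.inl j) + 1) := by
      simp only [wt0, Sum.elim_inl, Sum.elim_inr]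
      omega
    simp only [c0, fromBlocks_apply₂₁, Matrix.zero_apply]
    rw [if_neg hw]
  · have hi := i.2
    have hj := j.2
    have hw : (wt0 m (Sum.inr i) = wt0 m (Sum.inr j) + 1) ↔ (j : ℕ) = (i : ℕ) + 1 := by
      simp only [wt0, Sum.elim_inr]
      omega
    simp only [c0, fromBlocks_apply₂₂, Matrix.neg_apply, shiftE, Matrix.of_apply, s0,
      Sum.elim_inr]
    by_cases h : (j : ℕ) = (i : ℕ) + 1
    · rw [if_pos h, if_pos (hw.mpr h), if_neg (by omega)]
    · rw [if_neg h, if_neg (fun h' => h (hw.mp h')), neg_zero]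

theorem wt0_lt (a : Fin m ⊕ Fin m) : wt0 m a < 2 * m := by
  rcases a with i | i
  · have := i.2
    simp only [wt0, Sum.elim_inl]
    omega
  · have := i.2
    simp only [wt0, Sum.elim_inr]
    omega

theorem wt0_injective : Function.Injective (wt0 m) := by
  rintro (i | i) (j | j) h
  · simp only [wt0, Sum.elim_inl] at h
    congr 1
    apply Fin.ext
    omega
  · simp only [wt0, Sum.elim_inl, Sum.elim_inr] at h
    have := i.2
    have := j.2
    omega
  · simp only [wt0, Sum.elim_inl, Sum.elim_inr] at h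
    have := i.2
    have := j.2
    omega
  · simp only [wt0, Sum.elim_inr] at h
    have := i.2
    have := j.2
    congr 1
    apply Fin.ext
    omega

theorem s0_ne_zero (b : Fin m ⊕ Fin m) : s0 F m b ≠ 0 := by
  rcases b with j | j
  · simp [s0]
  · simp only [s0, Sum.elim_inr]
    split_ifs
    · exact one_ne_zero
    · exact neg_ne_zero.mpr one_ne_zero

theorem c0_pow : c0 F m ^ (2 * m) = 0 := by
  apply chain_pow (wt0 m) (2 * m) wt0_lt
  intro a b hab
  rw [c0_apply] at hab
  by_contra h
  rw [if_neg h] at hab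
  exact hab rfl

theorem c0_rank (hm : 1 ≤ m) : (c0 F m).rank = 2 * m - 1 :=
  chain_rank (wt0 m) (2 * m) (by omega) wt0_lt wt0_injective
    (by rw [Fintype.card_sum, Fintype.card_fin, two_mul]) (s0 F m) s0_ne_zero (c0 F m) c0_apply

/-- **Existence** of a regular unipotent symplectic matrix (Cayley transform of `c0`). -/
theorem exists_reg (h2 : (2 : F) ≠ 0) (hm : 1 ≤ m) :
    ∃ U : Matrix (Fin m ⊕ Fin m) (Fin m ⊕ Fin m) F, U ∈ symplecticGroup (Fin m) F ∧
      (U - 1) ^ (2 * m) = 0 ∧ (U - 1).rank = 2 * m - 1 := by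
  classical
  obtain ⟨c, hc_def⟩ : ∃ c, c = c0 F m := ⟨_, rfl⟩
  have hσc : sig c = -c := by rw [hc_def, sig_c0]
  have hcpow : c ^ (2 * m) = 0 := by rw [hc_def, c0_pow]
  have hcrank : c.rank = 2 * m - 1 := by rw [hc_def, c0_rank hm]
  have hnil : IsNilpotent c := ⟨2 * m, hcpow⟩
  obtain ⟨⟨P, V, hPV, hVP⟩, hP⟩ := hnil.isUnit_one_sub
  simp only at hP
  rw [hP] at hPV hVP
  -- `V` is the inverse of `1 - c`
  have hcV : c * V = V * c := by
    have hcc : c * (1 - c) = (1 - c) * c := by noncomm_ring
    calc c * V = (V * (1 - c)) * (c * V) := by rw [hVP, one_mul]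
      _ = V * ((1 - c) * c) * V := by simp only [Matrix.mul_assoc]
      _ = V * (c * (1 - c)) * V := by rw [hcc]
      _ = V * c * ((1 - c) * V) := by simp only [Matrix.mul_assoc]
      _ = V * c := by rw [hPV, mul_one]
  have hσV1 : sig V * (1 + c) = 1 := by
    have := congrArg sig hPV
    rw [sig_mul, sig_sub, sig_one, hσc, sub_neg_eq_add] at this
    exact this
  refine ⟨(1 + c) * V, ?_, ?_, ?_⟩
  · rw [mem_iff_sig, sig_mul, sig_add, sig_one, hσc]
    calc sig V * (1 + -c) * ((1 + c) * V)
        = sig V * ((1 + -c) * (1 + c)) * V := by simp only [Matrix.mul_assoc]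
      _ = sig V * ((1 + c) * (1 - c)) * V := by
          rw [show (1 + -c) * (1 + c) = (1 + c) * (1 - c) by noncomm_ring]
      _ = (sig V * (1 + c)) * ((1 - c) * V) := by simp only [Matrix.mul_assoc]
      _ = 1 := by rw [hσV1, hPV, one_mul]
  all_goals
    have hU1 : (1 + c) * V - 1 = c * (2 * V) := by
      calc (1 + c) * V - 1 = (1 + c) * V - (1 - c) * V := by rw [hPV]
        _ = c * (2 * V) := by noncomm_ring
    have hunit2 : IsUnit (2 : Matrix (Fin m ⊕ Fin m) (Fin m ⊕ Fin m) F) := by
      have := (IsUnit.mk0 (2 : F) h2).map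
        (algebraMap F (Matrix (Fin m ⊕ Fin m) (Fin m ⊕ Fin m) F))
      rwa [map_ofNat] at this
    have hVunit : IsUnit V := ⟨⟨V, 1 - c, hVP, hPV⟩, rfl⟩
  · have hcomm : Commute c (2 * V) := (Commute.ofNat_right c 2).mul_right hcV
    rw [hU1, hcomm.mul_pow, hcpow, zero_mul]
  · rw [hU1, rank_mul_eq_left_of_isUnit_det (2 * V) c
      ((isUnit_iff_isUnit_det _).mp (hunit2.mul hVunit)), hcrank]

/-- similitudes -/
def simil (F : Type*) [Field F] (m : ℕ) (ν : F) : Matrix (Fin m ⊕ Fin m) (Fin m ⊕ Fin m) F :=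
  fromBlocks (ν • 1) 0 0 1

theorem simil_mul (ν ν' : F) : simil F m ν * simil F m ν' = simil F m (ν * ν') := by
  simp only [simil, fromBlocks_multiply, Matrix.smul_mul, Matrix.mul_smul, Matrix.one_mul,
    Matrix.mul_zero, add_zero, Matrix.zero_mul, smul_zero, zero_add, smul_smul, mul_comm ν' ν]

theorem simil_one : simil F m 1 = 1 := by
  simp only [simil, one_smul, fromBlocks_one]

theorem sig_simil (ν : F) :
    sig (simil F m ν) * simil F m ν
      = algebraMap F (Matrix (Fin m ⊕ Fin m) (Fin m ⊕ Fin m) F) ν := by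
  rw [Algebra.algebraMap_eq_smul_one, ← fromBlocks_one, fromBlocks_smul]
  simp [sig, simil, Matrix.J, fromBlocks_transpose, fromBlocks_multiply, fromBlocks_neg]

end exist

end Cfsg.Agent.Helper21.SpReg
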