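import Mathlib
import Cfsg.Agent.Helper21.SpReg3
import Cfsg.Agent.Helper21.SpReg9
import Cfsg.Prelude.Def_JordanBlocks

/-!
# Regular unipotent matrices are conjugate; invariant pairings for a Jordan block (helper21)
-/

set_option autoImplicit false

namespace Cfsg.Agent.Helper21.JS

open Matrix

variable {F : Type*} [Field F]

/-- regular unipotent matrices (on any index type) are conjugate -/
theorem exists_conj_of_reg {ι : Type*} [Fintype ι] [DecidableEq ι] (n : ℕ) (hn : 0 < n)
    (hcard : Fintype.card ι = n) (U U' : Matrix ι ι F)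
    (hnil : (U - 1) ^ n = 0) (hreg : (U - 1).rank + 1 = n)
    (hnil' : (U' - 1) ^ n = 0) (hreg' : (U' - 1).rank + 1 = n) :
    ∃ h h' : Matrix ι ι F, h * h' = 1 ∧ h' * h = 1 ∧ U' = h * U * h' := by
  classical
  have hfin : Module.finrank F (ι → F) = n := by
    rw [Module.finrank_fintype_fun_eq_card, hcard]
  have : Nonempty (Fin n) := ⟨⟨0, hn⟩⟩
  have key : ∀ W : Matrix ι ι F, (W - 1) ^ n = 0 → (W - 1).rank + 1 = n →
      ∃ B : Module.Basis (Fin n) F (ι → F),
        ∀ k : Fin n, toLin' (W - 1) (B k) =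
          if h : (k : ℕ) + 1 < n then B ⟨(k : ℕ) + 1, h⟩ else 0 := by
    intro W hW1 hW2
    obtain ⟨T, hT_def⟩ : ∃ T : Module.End F (ι → F), T = toLin' (W - 1) := ⟨_, rfl⟩
    have hT : T ^ n = 0 := by
      rw [hT_def, ← toLin'_pow, hW1, map_zero]
    have hrT : Module.finrank F (LinearMap.range T) + 1 = n := by
      have h1 : Module.finrank F (LinearMap.range T) = (W - 1).rank := by
        rw [hT_def, Matrix.toLin'_apply']
        rfl
      rw [h1, hW2]
    obtain ⟨v, hli⟩ := Cfsg.Agent.Helper21.SpReg.exists_cyclic T n hfin hT hrT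
    refine ⟨basisOfLinearIndependentOfCardEqFinrank hli (by rw [Fintype.card_fin, hfin]), ?_⟩
    intro k
    simp only [coe_basisOfLinearIndependentOfCardEqFinrank]
    rw [← hT_def, ← Module.End.mul_apply, ← pow_succ']
    split_ifs with hk
    · rfl
    · have : (k : ℕ) + 1 = n := by
        have := k.2
        omega
      rw [this, hT]
      rfl
  obtain ⟨B, hB⟩ := key U hnil hreg
  obtain ⟨B', hB'⟩ := key U' hnil' hreg'
  have hφ : (B.equiv B' (Equiv.refl _)).toLinearMap ∘ₗ toLin' (U - 1)
      = toLin' (U' - 1) ∘ₗ (B.equiv B' (Equiv.refl _)).toLinearMap := by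
    apply B.ext
    intro k
    simp only [LinearMap.comp_apply, LinearEquiv.coe_coe, Module.Basis.equiv_apply,
      Equiv.refl_apply]
    rw [hB k, hB' k]
    split_ifs with hk
    · rw [Module.Basis.equiv_apply, Equiv.refl_apply]
    · rw [map_zero]
  refine ⟨LinearMap.toMatrix' (B.equiv B' (Equiv.refl _)).toLinearMap,
    LinearMap.toMatrix' (B.equiv B' (Equiv.refl _)).symm.toLinearMap, ?_, ?_, ?_⟩
  · rw [← LinearMap.toMatrix'_comp]
    simp
  · rw [← LinearMap.toMatrix'_comp]
    simp
  · have h1 := congrArg LinearMap.toMatrix' hφ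
    rw [LinearMap.toMatrix'_comp, LinearMap.toMatrix'_comp, LinearMap.toMatrix'_toLin',
      LinearMap.toMatrix'_toLin'] at h1
    have h3 : LinearMap.toMatrix' (B.equiv B' (Equiv.refl _)).toLinearMap * U
        = U' * LinearMap.toMatrix' (B.equiv B' (Equiv.refl _)).toLinearMap := by
      rw [mul_sub, sub_mul, mul_one, one_mul] at h1
      exact sub_left_injective h1
    have h4 : LinearMap.toMatrix' (B.equiv B' (Equiv.refl _)).toLinearMap *
        LinearMap.toMatrix' (B.equiv B' (Equiv.refl _)).symm.toLinearMap = 1 := by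
      rw [← LinearMap.toMatrix'_comp]
      simp
    rw [h3, Matrix.mul_assoc, h4, mul_one]

/-- the nilpotent part of a Jordan block -/
theorem jordanBlock_sub_one_apply (j : ℕ) (a b : Fin j) :
    (Cfsg.jordanBlock j F - 1) a b = if (a : ℕ) = (b : ℕ) + 1 then 1 else 0 := by
  rw [Matrix.sub_apply, Cfsg.jordanBlock, Matrix.of_apply, Matrix.one_apply]
  by_cases h : a = b
  · subst h
    simp
  · have h' : (a : ℕ) ≠ (b : ℕ) := fun hh => h (Fin.ext hh)
    rw [if_neg h', if_neg h, sub_zero]

theorem jordanBlock_nil (j : ℕ) : (Cfsg.jordanBlock j F - 1) ^ j = 0 := by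
  apply Cfsg.Agent.Helper21.SpReg.chain_pow (fun a : Fin j => (a : ℕ)) j (fun a => a.2)
  intro a b hab
  rw [jordanBlock_sub_one_apply] at hab
  by_contra h
  rw [if_neg h] at hab
  exact hab rfl

theorem jordanBlock_rank (j : ℕ) (hj : 0 < j) : (Cfsg.jordanBlock j F - 1).rank + 1 = j := by
  have h := Cfsg.Agent.Helper21.SpReg.chain_rank (F := F) (fun a : Fin j => (a : ℕ)) j hj
    (fun a => a.2) (fun a b hab => Fin.ext hab) (Fintype.card_fin j) (fun _ => (1 : F))
    (fun _ => one_ne_zero) (Cfsg.jordanBlock j F - 1) (fun a b => jordanBlock_sub_one_apply j a b)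
  rw [h]
  omega

end Cfsg.Agent.Helper21.JS
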