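import Cfsg.Agent.Helper21.JC4
import Cfsg.Agent.Helper11.AltRank

/-!
# Jordan types of isometries of alternating forms: the parity condition (helper21)
-/

set_option autoImplicit false
set_option linter.unusedSectionVars false

namespace Cfsg.Agent.Helper21.JS

open Matrix

variable {F : Type*} [Field F]

section general

variable {I : Type*} [Fintype I] [DecidableEq I]

/-- an alternating matrix (in the quadratic sense) has zero diagonal -/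
theorem alt_diag {Ω : Matrix I I F} (hΩ : ∀ u : I → F, u ⬝ᵥ (Ω *ᵥ u) = 0) (i : I) : Ω i i = 0 := by
  have h := hΩ (Pi.single i 1)
  rw [Matrix.mulVec_single_one, single_dotProduct, one_mul] at h
  exact h

/-- an alternating matrix (in the quadratic sense) is skew -/
theorem alt_skew {Ω : Matrix I I F} (hΩ : ∀ u : I → F, u ⬝ᵥ (Ω *ᵥ u) = 0) : Ωᵀ = -Ω := by
  ext i j
  rw [Matrix.transpose_apply, Matrix.neg_apply]
  have h := hΩ (Pi.single i 1 + Pi.single j 1)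
  rw [Matrix.mulVec_add, add_dotProduct, dotProduct_add, dotProduct_add,
    Matrix.mulVec_single_one, Matrix.mulVec_single_one, single_dotProduct, single_dotProduct,
    single_dotProduct, single_dotProduct] at h
  simp only [one_mul, Matrix.col_apply] at h
  have h1 := alt_diag hΩ i
  have h2 := alt_diag hΩ j
  rw [h1, h2, zero_add, add_zero] at h
  exact eq_neg_of_add_eq_zero_right h

/-- the bilinear form attached to a matrix -/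
def bf (Ω : Matrix I I F) (x y : I → F) : F := x ⬝ᵥ (Ω *ᵥ y)

theorem bf_add_left (Ω : Matrix I I F) (x x' y : I → F) : bf Ω (x + x') y = bf Ω x y + bf Ω x' y := by
  simp only [bf, add_dotProduct]

theorem bf_add_right (Ω : Matrix I I F) (x y y' : I → F) : bf Ω x (y + y') = bf Ω x y + bf Ω x y' := by
  simp only [bf, Matrix.mulVec_add, dotProduct_add]

theorem bf_zero_left (Ω : Matrix I I F) (y : I → F) : bf Ω 0 y = 0 := by
  simp only [bf, zero_dotProduct]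

theorem bf_zero_right (Ω : Matrix I I F) (x : I → F) : bf Ω x 0 = 0 := by
  simp only [bf, Matrix.mulVec_zero, dotProduct_zero]

theorem bf_neg_left (Ω : Matrix I I F) (x y : I → F) : bf Ω (-x) y = -bf Ω x y := by
  simp only [bf, neg_dotProduct]

theorem bf_smul_left (Ω : Matrix I I F) (c : F) (x y : I → F) : bf Ω (c • x) y = c * bf Ω x y := by
  simp only [bf, smul_dotProduct, smul_eq_mul]

theorem bf_mulVec_right (Ω A : Matrix I I F) (x y : I → F) : bf Ω x (A *ᵥ y) = bf (Ω * A) x y := by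
  simp only [bf, Matrix.mulVec_mulVec]

theorem bf_mulVec_left (Ω A : Matrix I I F) (x y : I → F) : bf Ω (A *ᵥ x) y = bf (Aᵀ * Ω) x y := by
  simp only [bf, ← Matrix.mulVec_mulVec, Matrix.dotProduct_mulVec, Matrix.vecMul_transpose]

theorem bf_skew {Ω : Matrix I I F} (hΩ : ∀ u : I → F, u ⬝ᵥ (Ω *ᵥ u) = 0) (x y : I → F) :
    bf Ω x y = -bf Ω y x := by
  have h := hΩ (x + y)
  rw [Matrix.mulVec_add, add_dotProduct, dotProduct_add, dotProduct_add, hΩ x, hΩ y, zero_add,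
    add_zero] at h
  exact eq_neg_of_add_eq_zero_left h

end general

section iso

variable {I : Type*} [Fintype I] [DecidableEq I] {Ω U : Matrix I I F}

/-- the inverse of an isometry, written through the Gram matrix -/
noncomputable def uinv (Ω U : Matrix I I F) : Matrix I I F := Ω⁻¹ * Uᵀ * Ω

theorem uinv_mul (hΩu : IsUnit Ω) (hinv : Uᵀ * Ω * U = Ω) : uinv Ω U * U = 1 := by
  have hdet : IsUnit Ω.det := (Matrix.isUnit_iff_isUnit_det Ω).1 hΩu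
  rw [uinv, Matrix.mul_assoc, Matrix.mul_assoc, ← Matrix.mul_assoc Uᵀ, hinv,
    Matrix.nonsing_inv_mul _ hdet]

theorem mul_uinv (hΩu : IsUnit Ω) (hinv : Uᵀ * Ω * U = Ω) : U * uinv Ω U = 1 :=
  mul_eq_one_comm.1 (uinv_mul hΩu hinv)

theorem omega_mul_uinv (hΩu : IsUnit Ω) : Ω * uinv Ω U = Uᵀ * Ω := by
  have hdet : IsUnit Ω.det := (Matrix.isUnit_iff_isUnit_det Ω).1 hΩu
  rw [uinv, ← Matrix.mul_assoc, ← Matrix.mul_assoc, Matrix.mul_nonsing_inv _ hdet, Matrix.one_mul]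

/-- `Nᵀ Ω = Ω M` -/
theorem adj1 (hΩu : IsUnit Ω) : (U - 1)ᵀ * Ω = Ω * (uinv Ω U - 1) := by
  rw [Matrix.transpose_sub, Matrix.transpose_one, Matrix.sub_mul, Matrix.one_mul, Matrix.mul_sub,
    Matrix.mul_one, omega_mul_uinv hΩu]

/-- `Ω N = Mᵀ Ω` -/
theorem adj2 (hΩu : IsUnit Ω) (hΩa : ∀ u : I → F, u ⬝ᵥ (Ω *ᵥ u) = 0) :
    Ω * (U - 1) = (uinv Ω U - 1)ᵀ * Ω := by
  have h := congrArg Matrix.transpose (adj1 (U := U) hΩu)
  rw [Matrix.transpose_mul, Matrix.transpose_mul, Matrix.transpose_transpose, alt_skew hΩa,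
    Matrix.neg_mul, Matrix.mul_neg] at h
  exact neg_injective h

theorem adj2_pow (hΩu : IsUnit Ω) (hΩa : ∀ u : I → F, u ⬝ᵥ (Ω *ᵥ u) = 0) (a : ℕ) :
    Ω * (U - 1) ^ a = ((uinv Ω U - 1) ^ a)ᵀ * Ω := by
  induction a with
  | zero => simp
  | succ a ih =>
    rw [pow_succ, ← Matrix.mul_assoc, ih, Matrix.mul_assoc, adj2 hΩu hΩa, ← Matrix.mul_assoc,
      ← Matrix.transpose_mul, ← pow_succ']

theorem bf_pow (hΩu : IsUnit Ω) (hΩa : ∀ u : I → F, u ⬝ᵥ (Ω *ᵥ u) = 0) (a : ℕ) (x y : I → F) :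
    bf Ω x ((U - 1) ^ a *ᵥ y) = bf Ω ((uinv Ω U - 1) ^ a *ᵥ x) y := by
  rw [bf_mulVec_right, bf_mulVec_left, adj2_pow hΩu hΩa]

theorem m_eq (hΩu : IsUnit Ω) (hinv : Uᵀ * Ω * U = Ω) :
    uinv Ω U - 1 = -(uinv Ω U) * (U - 1) := by
  rw [Matrix.mul_sub, Matrix.mul_one, Matrix.neg_mul, uinv_mul hΩu hinv]
  abel

theorem commute_uinv (hΩu : IsUnit Ω) (hinv : Uᵀ * Ω * U = Ω) :
    Commute (-(uinv Ω U)) (U - 1) := by
  have h1 : uinv Ω U * U = U * uinv Ω U := by rw [uinv_mul hΩu hinv, mul_uinv hΩu hinv]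
  show -(uinv Ω U) * (U - 1) = (U - 1) * -(uinv Ω U)
  rw [Matrix.mul_sub, Matrix.sub_mul, Matrix.mul_one, Matrix.one_mul, Matrix.neg_mul, Matrix.mul_neg,
    h1]

theorem m_pow (hΩu : IsUnit Ω) (hinv : Uᵀ * Ω * U = Ω) (a : ℕ) :
    (uinv Ω U - 1) ^ a = (-(uinv Ω U)) ^ a * (U - 1) ^ a := by
  rw [m_eq hΩu hinv, (commute_uinv hΩu hinv).mul_pow]

theorem m_pow_mulVec_eq_zero (hΩu : IsUnit Ω) (hinv : Uᵀ * Ω * U = Ω) (a : ℕ) (x : I → F)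
    (hx : (U - 1) ^ a *ᵥ x = 0) : (uinv Ω U - 1) ^ a *ᵥ x = 0 := by
  rw [m_pow hΩu hinv, ← Matrix.mulVec_mulVec, hx, Matrix.mulVec_zero]

theorem bf_inv (hinv : Uᵀ * Ω * U = Ω) (x y : I → F) : bf Ω (U *ᵥ x) (U *ᵥ y) = bf Ω x y := by
  rw [bf_mulVec_right, bf_mulVec_left, ← Matrix.mul_assoc, hinv]

theorem uinv_comm (hΩu : IsUnit Ω) (hinv : Uᵀ * Ω * U = Ω) (a : ℕ) :
    uinv Ω U * (U - 1) ^ a = (U - 1) ^ a * uinv Ω U := by
  have h := (commute_uinv hΩu hinv).neg_left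
  rw [neg_neg] at h
  exact (h.pow_right a).eq

/-- step 1 of the alternating computation -/
theorem bf_uinv_step (hΩu : IsUnit Ω) (hΩa : ∀ u : I → F, u ⬝ᵥ (Ω *ᵥ u) = 0)
    (hinv : Uᵀ * Ω * U = Ω) (κ : ℕ) (x1 x2 : I → F)
    (hx1 : (U - 1) ^ (2 * κ + 1) *ᵥ x1 = 0) :
    bf Ω (uinv Ω U *ᵥ ((U - 1) ^ κ *ᵥ x1)) ((U - 1) ^ κ *ᵥ x2)
      = bf Ω ((U - 1) ^ κ *ᵥ x1) ((U - 1) ^ κ *ᵥ x2) := by
  have h1 : uinv Ω U = (uinv Ω U - 1) + 1 := by abel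
  have h2 : uinv Ω U *ᵥ ((U - 1) ^ κ *ᵥ x1)
      = (uinv Ω U - 1) *ᵥ ((U - 1) ^ κ *ᵥ x1) + (U - 1) ^ κ *ᵥ x1 := by
    conv_lhs => rw [h1]
    rw [Matrix.add_mulVec, Matrix.one_mulVec]
  rw [h2, bf_add_left, bf_pow hΩu hΩa]
  have h3 : (uinv Ω U - 1) ^ κ *ᵥ ((uinv Ω U - 1) *ᵥ ((U - 1) ^ κ *ᵥ x1)) = 0 := by
    rw [Matrix.mulVec_mulVec, Matrix.mulVec_mulVec, ← pow_succ, m_pow hΩu hinv, Matrix.mul_assoc,
      ← pow_add, ← Matrix.mulVec_mulVec]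
    have : κ + 1 + κ = 2 * κ + 1 := by ring
    rw [this, hx1, Matrix.mulVec_zero]
  rw [h3, bf_zero_left, zero_add]

theorem bf_uinv_pow (hΩu : IsUnit Ω) (hΩa : ∀ u : I → F, u ⬝ᵥ (Ω *ᵥ u) = 0)
    (hinv : Uᵀ * Ω * U = Ω) (κ : ℕ) (n : ℕ) : ∀ (x1 x2 : I → F),
    (U - 1) ^ (2 * κ + 1) *ᵥ x1 = 0 →
    bf Ω ((uinv Ω U) ^ n *ᵥ ((U - 1) ^ κ *ᵥ x1)) ((U - 1) ^ κ *ᵥ x2)
      = bf Ω ((U - 1) ^ κ *ᵥ x1) ((U - 1) ^ κ *ᵥ x2) := by
  induction n with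
  | zero =>
    intro x1 x2 _
    rw [pow_zero, Matrix.one_mulVec]
  | succ n ih =>
    intro x1 x2 hx1
    have h1 : (uinv Ω U) ^ (n + 1) *ᵥ ((U - 1) ^ κ *ᵥ x1)
        = (uinv Ω U) ^ n *ᵥ ((U - 1) ^ κ *ᵥ (uinv Ω U *ᵥ x1)) := by
      rw [pow_succ, Matrix.mulVec_mulVec, Matrix.mulVec_mulVec, Matrix.mulVec_mulVec,
        Matrix.mul_assoc, Matrix.mul_assoc, uinv_comm hΩu hinv]
    have h2 : (U - 1) ^ (2 * κ + 1) *ᵥ (uinv Ω U *ᵥ x1) = 0 := by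
      rw [Matrix.mulVec_mulVec, ← uinv_comm hΩu hinv, ← Matrix.mulVec_mulVec, hx1,
        Matrix.mulVec_zero]
    rw [h1, ih _ _ h2]
    have h3 : (U - 1) ^ κ *ᵥ (uinv Ω U *ᵥ x1) = uinv Ω U *ᵥ ((U - 1) ^ κ *ᵥ x1) := by
      rw [Matrix.mulVec_mulVec, Matrix.mulVec_mulVec, uinv_comm hΩu hinv]
    rw [h3, bf_uinv_step hΩu hΩa hinv κ x1 x2 hx1]

/-- the form `x ↦ (x, N^{2κ} x)` vanishes on `ker N^{2κ+1}` -/
theorem bf_pow_self (hΩu : IsUnit Ω) (hΩa : ∀ u : I → F, u ⬝ᵥ (Ω *ᵥ u) = 0)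
    (hinv : Uᵀ * Ω * U = Ω) (κ : ℕ) (x : I → F)
    (hx : (U - 1) ^ (2 * κ + 1) *ᵥ x = 0) :
    bf Ω x ((U - 1) ^ (2 * κ) *ᵥ x) = 0 := by
  have h1 : (U - 1) ^ (2 * κ) *ᵥ x = (U - 1) ^ κ *ᵥ ((U - 1) ^ κ *ᵥ x) := by
    rw [Matrix.mulVec_mulVec, ← pow_add, two_mul]
  rw [h1, bf_pow hΩu hΩa, m_pow hΩu hinv, neg_pow, ← Matrix.mulVec_mulVec]
  have h0 : bf Ω ((U - 1) ^ κ *ᵥ x) ((U - 1) ^ κ *ᵥ x) = 0 := hΩa _
  rcases neg_one_pow_eq_or (Matrix I I F) κ with h | h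
  · rw [h, one_mul, bf_uinv_pow hΩu hΩa hinv κ κ x x hx, h0]
  · rw [h, neg_one_mul, Matrix.neg_mulVec, bf_neg_left, bf_uinv_pow hΩu hΩa hinv κ κ x x hx, h0,
      neg_zero]

end iso

end Cfsg.Agent.Helper21.JS
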