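import Cfsg.Agent.Helper21.JS2

/-!
# Jordan types of isometries of alternating forms: odd sizes have even multiplicity (helper21)
-/

set_option autoImplicit false
set_option linter.unusedSectionVars false

namespace Cfsg.Agent.Helper21.JS

open Matrix Cfsg.Agent.Helper21.JC

variable {F : Type*} [Field F]

/-- quadratic form of a submatrix, through extension by zero -/
theorem submatrix_quad {K I : Type*} [Fintype K] [Fintype I] [DecidableEq I] (f : K → I)
    (hf : Function.Injective f) (A : Matrix I I F) (c : K → F) :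
    c ⬝ᵥ ((A.submatrix f f) *ᵥ c) = Function.extend f c 0 ⬝ᵥ (A *ᵥ Function.extend f c 0) := by
  simp only [dotProduct, Matrix.mulVec, Matrix.submatrix_apply]
  apply Fintype.sum_of_injective f hf
  · intro p hp
    rw [Function.extend_apply' _ _ _ (by simpa using hp)]
    simp
  · intro k
    rw [hf.extend_apply]
    congr 1
    apply Fintype.sum_of_injective f hf
    · intro p hp
      rw [Function.extend_apply' _ _ _ (by simpa using hp)]
      simp
    · intro l
      rw [hf.extend_apply]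

variable {t : ℕ} (d : Fin t → ℕ)

theorem mul_Nm_pow_apply (g : Matrix (Idx d) (Idx d) F) (a : ℕ) :
    ∀ (r : Idx d) (k : Fin t) (i : Fin (d k)),
    (g * Nm d ^ a : Matrix (Idx d) (Idx d) F) r ⟨k, i⟩ =
      if h : (i : ℕ) + a < d k then g r ⟨k, ⟨(i : ℕ) + a, h⟩⟩ else 0 := by
  induction a with
  | zero =>
    intro r k i
    rw [pow_zero, Matrix.mul_one, dif_pos (by simp)]
    rfl
  | succ a ih =>
    intro r k i
    rw [pow_succ, ← Matrix.mul_assoc, mul_Nm_apply]
    by_cases h : (i : ℕ) + 1 < d k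
    · rw [dif_pos h, ih]
      by_cases h2 : (i : ℕ) + (a + 1) < d k
      · rw [dif_pos h2, dif_pos (by simp only; omega)]
        congr 3
        simp only
        omega
      · rw [dif_neg h2, dif_neg (by simp only; omega)]
    · rw [dif_neg h, dif_neg (by omega)]

theorem NmT_mul_apply (g : Matrix (Idx d) (Idx d) F) (k : Fin t) (i : Fin (d k)) (y : Idx d) :
    ((Nm d)ᵀ * g : Matrix (Idx d) (Idx d) F) ⟨k, i⟩ y =
      if h : (i : ℕ) + 1 < d k then g ⟨k, ⟨(i : ℕ) + 1, h⟩⟩ y else 0 := by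
  have h1 : ((Nm d)ᵀ * g : Matrix (Idx d) (Idx d) F) = (gᵀ * Nm d)ᵀ := by
    rw [Matrix.transpose_mul, Matrix.transpose_transpose]
  rw [h1, Matrix.transpose_apply, mul_Nm_apply]
  rfl

theorem NmT_pow_mul_apply (g : Matrix (Idx d) (Idx d) F) (a : ℕ) (k : Fin t) (i : Fin (d k))
    (y : Idx d) :
    ((Nm d ^ a)ᵀ * g : Matrix (Idx d) (Idx d) F) ⟨k, i⟩ y =
      if h : (i : ℕ) + a < d k then g ⟨k, ⟨(i : ℕ) + a, h⟩⟩ y else 0 := by
  have h1 : ((Nm d ^ a)ᵀ * g : Matrix (Idx d) (Idx d) F) = (gᵀ * Nm d ^ a)ᵀ := by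
    rw [Matrix.transpose_mul, Matrix.transpose_transpose]
  rw [h1, Matrix.transpose_apply, mul_Nm_pow_apply]
  rfl

variable (hd : ∀ k, 1 ≤ d k)

/-- the first index of each block -/
def topIdx (k : Fin t) : Idx d := ⟨k, ⟨0, hd k⟩⟩

/-- for a vector supported on last indices, `g *ᵥ v` is a sum over last indices -/
theorem mulVec_of_socle (g : Matrix (Idx d) (Idx d) F) {v : Idx d → F}
    (hv : Nm d *ᵥ v = 0) (r : Idx d) :
    (g *ᵥ v) r = ∑ k, g r (lastIdx d hd k) * v (lastIdx d hd k) := by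
  rw [Matrix.mulVec, dotProduct]
  rw [← Finset.sum_subset (Finset.subset_univ (Finset.univ.image (lastIdx d hd)))]
  · rw [Finset.sum_image]
    intro a _ b _ hab
    exact congrArg Sigma.fst hab
  · intro x _ hx
    obtain ⟨k, i⟩ := x
    have : v ⟨k, i⟩ = 0 := by
      apply eq_zero_of_Nm_mulVec d hv
      by_contra hcon
      apply hx
      rw [Finset.mem_image]
      refine ⟨k, Finset.mem_univ _, ?_⟩
      rw [lastIdx]
      congr 1
      apply Fin.ext
      have := i.2
      simp only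
      omega
    rw [this, mul_zero]

section form

variable {d} {Ω : Matrix (Idx d) (Idx d) F}

theorem sig_eq_zero (hΩu : IsUnit Ω) (hΩa : ∀ u : Idx d → F, u ⬝ᵥ (Ω *ᵥ u) = 0)
    (hinv : (Cfsg.jordanTypeMatrix d F)ᵀ * Ω * Cfsg.jordanTypeMatrix d F = Ω)
    (k l : Fin t) (hkl : d k < d l) : Ω (topIdx d hd k) (lastIdx d hd l) = 0 := by
  have h1 : Ω (topIdx d hd k) (lastIdx d hd l)
      = (Ω * Nm d ^ (d l - 1) : Matrix (Idx d) (Idx d) F) (topIdx d hd k) (topIdx d hd l) := by
    rw [topIdx, topIdx, mul_Nm_pow_apply, dif_pos (by have := hd l; simp only; omega)]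
    rw [lastIdx]
    congr 3
    simp
  rw [h1]
  have h2 : (Ω * Nm d ^ (d l - 1) : Matrix (Idx d) (Idx d) F)
      = (Nm d ^ (d l - 1))ᵀ * (((-(uinv Ω (Cfsg.jordanTypeMatrix d F))) ^ (d l - 1))ᵀ * Ω) := by
    rw [← Matrix.mul_assoc, ← Matrix.transpose_mul]
    have := adj2_pow (U := Cfsg.jordanTypeMatrix d F) hΩu hΩa (d l - 1)
    rw [m_pow hΩu hinv] at this
    exact this
  rw [h2, topIdx, NmT_pow_mul_apply, dif_neg (by simp only; omega)]

theorem sig_det_ne_zero (hΩu : IsUnit Ω)
    (hinv : (Cfsg.jordanTypeMatrix d F)ᵀ * Ω * Cfsg.jordanTypeMatrix d F = Ω) :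
    (Ω.submatrix (topIdx d hd) (lastIdx d hd)).det ≠ 0 := by
  intro hdet
  obtain ⟨c, hc0, hc⟩ := Matrix.exists_mulVec_eq_zero_iff.2 hdet
  apply hc0
  obtain ⟨s, hs_def⟩ : ∃ s : Idx d → F, s = fun x => if (x.2 : ℕ) + 1 = d x.1 then c x.1 else 0 :=
    ⟨_, rfl⟩
  have hs_last : ∀ k, s (lastIdx d hd k) = c k := by
    intro k
    rw [hs_def, lastIdx]
    have := hd k
    simp only
    rw [if_pos (by omega)]
  have hNs : Nm d *ᵥ s = 0 := by
    rw [Nm_mulVec_eq_zero_iff]
    intro l j hj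
    rw [hs_def]
    simp only
    rw [if_neg (by omega)]
  have hw_top : ∀ k, (Ω *ᵥ s) (topIdx d hd k) = 0 := by
    intro k
    rw [mulVec_of_socle d hd Ω hNs]
    have := congrFun hc k
    rw [Matrix.mulVec, dotProduct] at this
    simp only [Matrix.submatrix_apply, Pi.zero_apply] at this
    rw [← this]
    apply Finset.sum_congr rfl
    intro l _
    rw [hs_last]
  have hMs : (uinv Ω (Cfsg.jordanTypeMatrix d F) - 1) *ᵥ s = 0 := by
    rw [m_eq hΩu hinv, ← Matrix.mulVec_mulVec]
    have : (Cfsg.jordanTypeMatrix d F - 1) *ᵥ s = 0 := hNs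
    rw [this, Matrix.mulVec_zero]
  have hNTw : ((Nm d)ᵀ * Ω) *ᵥ s = 0 := by
    have := adj1 (U := Cfsg.jordanTypeMatrix d F) hΩu
    have h2 : ((Nm d)ᵀ * Ω : Matrix (Idx d) (Idx d) F)
        = Ω * (uinv Ω (Cfsg.jordanTypeMatrix d F) - 1) := this
    rw [h2, ← Matrix.mulVec_mulVec, hMs, Matrix.mulVec_zero]
  have hw : Ω *ᵥ s = 0 := by
    funext ⟨k, ⟨i, hi⟩⟩
    rcases Nat.eq_zero_or_pos i with h0 | h0
    · subst h0
      exact hw_top k
    · have h3 := congrFun hNTw ⟨k, ⟨i - 1, by omega⟩⟩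
      rw [Matrix.mulVec, dotProduct] at h3
      simp only [Pi.zero_apply] at h3
      rw [Pi.zero_apply, ← h3, Matrix.mulVec, dotProduct]
      apply Finset.sum_congr rfl
      intro y _
      rw [NmT_mul_apply, dif_pos (by simp only; omega)]
      congr 4
      simp only
      omega
  have hdetΩ : Ω.det ≠ 0 := ((Matrix.isUnit_iff_isUnit_det Ω).1 hΩu).ne_zero
  have hs0 : s = 0 := Matrix.eq_zero_of_mulVec_eq_zero hdetΩ hw
  funext k
  rw [← hs_last, hs0]
  rfl

/-- **Parity**: an isometry of a nondegenerate alternating form has each odd Jordan block size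
with even multiplicity. -/
theorem even_of_form (hd : ∀ k, 1 ≤ d k) (hΩu : IsUnit Ω) (hΩa : ∀ u : Idx d → F, u ⬝ᵥ (Ω *ᵥ u) = 0)
    (hinv : (Cfsg.jordanTypeMatrix d F)ᵀ * Ω * Cfsg.jordanTypeMatrix d F = Ω)
    (j : ℕ) (hj : Odd j) : Even (Finset.univ.filter (fun k : Fin t => d k = j)).card := by
  obtain ⟨κ, rfl⟩ := hj
  obtain ⟨Sg, hSg⟩ : ∃ Sg : Matrix (Fin t) (Fin t) F,
      Sg = Ω.submatrix (topIdx d hd) (lastIdx d hd) := ⟨_, rfl⟩
  have hSgdet : Sg.det ≠ 0 := by
    rw [hSg]
    exact sig_det_ne_zero hd hΩu hinv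
  have hBT : (Sgᵀ).BlockTriangular d := by
    intro k l hlk
    rw [Matrix.transpose_apply, hSg, Matrix.submatrix_apply]
    exact sig_eq_zero hd hΩu hΩa hinv l k hlk
  by_cases hmem : (2 * κ + 1) ∈ Finset.univ.image d
  · -- the diagonal block is invertible
    have hdetG : (Sg.toSquareBlock d (2 * κ + 1)).det ≠ 0 := by
      have h1 : (Sg.toSquareBlock d (2 * κ + 1)).det
          = ((Sgᵀ).toSquareBlock d (2 * κ + 1)).det := by
        rw [← Matrix.det_transpose]
        rfl
      rw [h1]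
      intro h0
      apply hSgdet
      rw [← Matrix.det_transpose, hBT.det]
      exact Finset.prod_eq_zero hmem h0
    -- it is alternating
    have hG : Sg.toSquareBlock d (2 * κ + 1)
        = (Ω * Nm d ^ (2 * κ) : Matrix (Idx d) (Idx d) F).submatrix
            (fun k : { k // d k = 2 * κ + 1 } => topIdx d hd k.1)
            (fun k : { k // d k = 2 * κ + 1 } => topIdx d hd k.1) := by
      ext ⟨k, hk⟩ ⟨l, hl⟩
      rw [Matrix.toSquareBlock_def, Matrix.of_apply, Matrix.submatrix_apply, hSg,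
        Matrix.submatrix_apply]
      simp only
      rw [topIdx, topIdx, mul_Nm_pow_apply, dif_pos (by simp only; omega), lastIdx]
      congr 3
      simp only
      omega
    have hinj : Function.Injective (fun k : { k // d k = 2 * κ + 1 } => topIdx d hd k.1) := by
      intro a b hab
      exact Subtype.ext (congrArg Sigma.fst hab)
    have halt : ∀ c : { k // d k = 2 * κ + 1 } → F,
        c ⬝ᵥ ((Sg.toSquareBlock d (2 * κ + 1)) *ᵥ c) = 0 := by
      intro c
      rw [hG, submatrix_quad _ hinj, ← Matrix.mulVec_mulVec]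
      apply bf_pow_self (U := Cfsg.jordanTypeMatrix d F) hΩu hΩa hinv κ
      funext p
      rw [Matrix.mulVec, dotProduct, Pi.zero_apply]
      apply Finset.sum_eq_zero
      intro q _
      by_cases hq : q ∈ Set.range (fun k : { k // d k = 2 * κ + 1 } => topIdx d hd k.1)
      · obtain ⟨⟨k, hk⟩, rfl⟩ := hq
        have h1 : ((Cfsg.jordanTypeMatrix d F - 1) ^ (2 * κ + 1)) p (topIdx d hd k)
            = (1 * Nm d ^ (2 * κ + 1) : Matrix (Idx d) (Idx d) F) p (topIdx d hd k) := by
          rw [Matrix.one_mul]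
          rfl
        simp only
        rw [h1, topIdx, mul_Nm_pow_apply, dif_neg (by simp only; omega), zero_mul]
      · rw [Function.extend_apply' _ _ _ (by simpa using hq)]
        simp
    have heven := Cfsg.Agent.Helper11.AltRank.even_rank_of_alt _ halt
    have hunit : IsUnit (Sg.toSquareBlock d (2 * κ + 1)) :=
      (Matrix.isUnit_iff_isUnit_det _).2 (IsUnit.mk0 _ hdetG)
    rw [Matrix.rank_of_isUnit _ hunit, Fintype.card_subtype] at heven
    exact heven
  · have : Finset.univ.filter (fun k : Fin t => d k = 2 * κ + 1) = ∅ := by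
      rw [Finset.filter_eq_empty_iff]
      intro k _ hk
      exact hmem (Finset.mem_image.2 ⟨k, Finset.mem_univ _, hk⟩)
    rw [this, Finset.card_empty]
    exact Even.zero

end form

end Cfsg.Agent.Helper21.JS
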