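import Cfsg.Agent.Helper21.JS3
import Cfsg.Agent.Helper12.SpSylowB

/-!
# Conjugacy into the symplectic group versus invariant alternating forms (helper21)
-/

set_option autoImplicit false
set_option linter.unusedSectionVars false

namespace Cfsg.Agent.Helper21.JS

open Matrix

variable {F : Type*} [Field F] {n : ℕ} {I : Type*} [Fintype I] [DecidableEq I]

theorem J_alt (u : Fin n ⊕ Fin n → F) : u ⬝ᵥ ((Matrix.J (Fin n) F) *ᵥ u) = 0 := by
  apply Cfsg.Agent.Helper12.SpSylow.alternating_of_antisymm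
  · exact Matrix.J_transpose (Fin n) F
  · rintro (i | i) <;> simp [Matrix.J]

/-- a matrix conjugate (after reindexing) to a symplectic matrix preserves a nondegenerate
alternating form -/
theorem exists_form_of_conj (ε : I ≃ Fin n ⊕ Fin n) (U : Matrix I I F)
    (A : Matrix (Fin n ⊕ Fin n) (Fin n ⊕ Fin n) F) (hA : A ∈ Matrix.symplecticGroup (Fin n) F)
    (h : IsConj (Matrix.reindex ε ε U) A) :
    ∃ Ω : Matrix I I F, IsUnit Ω ∧ (∀ u : I → F, u ⬝ᵥ (Ω *ᵥ u) = 0) ∧ Uᵀ * Ω * U = Ω := by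
  obtain ⟨c, hc⟩ := h
  have hc' : (c : Matrix (Fin n ⊕ Fin n) (Fin n ⊕ Fin n) F) * Matrix.reindex ε ε U
      = A * (c : Matrix (Fin n ⊕ Fin n) (Fin n ⊕ Fin n) F) := hc
  rw [SymplecticGroup.mem_iff'] at hA
  obtain ⟨Ω', hΩ'⟩ : ∃ Ω' : Matrix (Fin n ⊕ Fin n) (Fin n ⊕ Fin n) F,
      Ω' = (c : Matrix (Fin n ⊕ Fin n) (Fin n ⊕ Fin n) F)ᵀ * Matrix.J (Fin n) F *
        (c : Matrix (Fin n ⊕ Fin n) (Fin n ⊕ Fin n) F) := ⟨_, rfl⟩
  have hinv' : (Matrix.reindex ε ε U)ᵀ * Ω' * Matrix.reindex ε ε U = Ω' := by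
    calc (Matrix.reindex ε ε U)ᵀ * Ω' * Matrix.reindex ε ε U
        = ((c : Matrix (Fin n ⊕ Fin n) (Fin n ⊕ Fin n) F) * Matrix.reindex ε ε U)ᵀ *
            Matrix.J (Fin n) F *
            ((c : Matrix (Fin n ⊕ Fin n) (Fin n ⊕ Fin n) F) * Matrix.reindex ε ε U) := by
          rw [hΩ', Matrix.transpose_mul]
          simp only [Matrix.mul_assoc]
      _ = (c : Matrix (Fin n ⊕ Fin n) (Fin n ⊕ Fin n) F)ᵀ * (Aᵀ * Matrix.J (Fin n) F * A) *
            (c : Matrix (Fin n ⊕ Fin n) (Fin n ⊕ Fin n) F) := by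
          rw [hc', Matrix.transpose_mul]
          simp only [Matrix.mul_assoc]
      _ = Ω' := by rw [hA, hΩ']
  have hJu : IsUnit (Matrix.J (Fin n) F) := by
    rw [Matrix.isUnit_iff_isUnit_det]
    exact Matrix.isUnit_det_J (Fin n) F
  have hcu : IsUnit (c : Matrix (Fin n ⊕ Fin n) (Fin n ⊕ Fin n) F) := c.isUnit
  have hcTu : IsUnit (c : Matrix (Fin n ⊕ Fin n) (Fin n ⊕ Fin n) F)ᵀ := by
    rw [Matrix.isUnit_iff_isUnit_det, Matrix.det_transpose, ← Matrix.isUnit_iff_isUnit_det]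
    exact hcu
  have hΩ'u : IsUnit Ω' := by
    rw [hΩ']
    exact (hcTu.mul hJu).mul hcu
  have hΩ'a : ∀ u : Fin n ⊕ Fin n → F, u ⬝ᵥ (Ω' *ᵥ u) = 0 := by
    intro u
    rw [hΩ', ← Matrix.mulVec_mulVec, ← Matrix.mulVec_mulVec, Matrix.dotProduct_mulVec,
      Matrix.vecMul_transpose]
    exact J_alt _
  refine ⟨Matrix.reindex ε.symm ε.symm Ω', ?_, ?_, ?_⟩
  · exact hΩ'u.map (Matrix.reindexAlgEquiv F F ε.symm)
  · intro u
    have h1 := hΩ'a (u ∘ ε.symm)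
    rw [← h1]
    simp only [Matrix.reindex_apply, dotProduct, Matrix.mulVec, Matrix.submatrix_apply,
      Function.comp_apply]
    rw [← Equiv.sum_comp ε.symm]
    apply Finset.sum_congr rfl
    intro i _
    congr 1
    rw [← Equiv.sum_comp ε.symm]
    simp
  · have h1 := congrArg (Matrix.reindex ε.symm ε.symm) hinv'
    simp only [Matrix.reindex_apply, Matrix.transpose_submatrix,
      Matrix.submatrix_submatrix, Equiv.symm_symm, Equiv.symm_comp_self, Matrix.submatrix_id_id,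
      ← Matrix.submatrix_mul_equiv _ _ _ ε.symm.symm] at h1 ⊢
    exact h1

/-- a matrix preserving a nondegenerate alternating form is conjugate (after reindexing) to a
symplectic matrix -/
theorem exists_conj_of_form [Finite F] (hcard : Fintype.card I = 2 * n) (U Ω : Matrix I I F)
    (hΩu : IsUnit Ω) (hΩa : ∀ u : I → F, u ⬝ᵥ (Ω *ᵥ u) = 0) (hinv : Uᵀ * Ω * U = Ω) :
    ∃ ε : I ≃ Fin n ⊕ Fin n, ∃ A : Matrix.symplecticGroup (Fin n) F,
      IsConj (Matrix.reindex ε ε U) (A : Matrix (Fin n ⊕ Fin n) (Fin n ⊕ Fin n) F) := by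
  have hc : Fintype.card I = Fintype.card (Fin n ⊕ Fin n) := by
    rw [hcard, Fintype.card_sum, Fintype.card_fin, two_mul]
  obtain ⟨ε⟩ : Nonempty (I ≃ Fin n ⊕ Fin n) := Fintype.card_eq.1 hc
  obtain ⟨Φ, hΦ⟩ := Cfsg.Agent.Helper12.SpSylow.exists_uniform_conj_reindex ε Ω hΩu hΩa
  refine ⟨ε, ⟨_, hΦ U hinv⟩, ?_⟩
  refine ⟨Φ, ?_⟩
  show (Φ : Matrix (Fin n ⊕ Fin n) (Fin n ⊕ Fin n) F) * Matrix.reindex ε ε U
    = (Φ : Matrix (Fin n ⊕ Fin n) (Fin n ⊕ Fin n) F) * Matrix.reindex ε ε U *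
      ((Φ⁻¹ : (Matrix (Fin n ⊕ Fin n) (Fin n ⊕ Fin n) F)ˣ) :
        Matrix (Fin n ⊕ Fin n) (Fin n ⊕ Fin n) F) *
      (Φ : Matrix (Fin n ⊕ Fin n) (Fin n ⊕ Fin n) F)
  rw [Matrix.mul_assoc _ _ (Φ : Matrix (Fin n ⊕ Fin n) (Fin n ⊕ Fin n) F), Units.inv_mul,
    Matrix.mul_one]

end Cfsg.Agent.Helper21.JS
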