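import Cfsg.Agent.Helper21.JS1
import Cfsg.Agent.Helper21.JS4

/-!
# Invariant forms for a single Jordan block (helper21)
-/

set_option autoImplicit false
set_option linter.unusedSectionVars false

namespace Cfsg.Agent.Helper21.JS

open Matrix

variable {F : Type*} [Field F]

section good

variable {I : Type*} [Fintype I] [DecidableEq I] {I' : Type*} [Fintype I'] [DecidableEq I']

/-- `U` preserves a nondegenerate alternating form -/
def Good (U : Matrix I I F) : Prop :=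
  ∃ Ω : Matrix I I F, IsUnit Ω ∧ (∀ u : I → F, u ⬝ᵥ (Ω *ᵥ u) = 0) ∧ Uᵀ * Ω * U = Ω

theorem isUnit_transpose {h : Matrix I I F} (hu : IsUnit h) : IsUnit hᵀ := by
  rw [Matrix.isUnit_iff_isUnit_det, Matrix.det_transpose, ← Matrix.isUnit_iff_isUnit_det]
  exact hu

/-- transport of an invariant form along a conjugation -/
theorem form_conj {U Ω h h' : Matrix I I F} (_hh' : h * h' = 1) (h'h : h' * h = 1)
    (hinv : Uᵀ * Ω * U = Ω) :
    (h * U * h')ᵀ * (h'ᵀ * Ω * h') * (h * U * h') = h'ᵀ * Ω * h' := by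
  calc (h * U * h')ᵀ * (h'ᵀ * Ω * h') * (h * U * h')
      = h'ᵀ * Uᵀ * (h' * h)ᵀ * Ω * (h' * h) * U * h' := by
        simp only [Matrix.transpose_mul, Matrix.mul_assoc]
    _ = h'ᵀ * (Uᵀ * Ω * U) * h' := by
        rw [h'h]
        simp only [Matrix.transpose_one, Matrix.mul_one, Matrix.mul_assoc]
    _ = h'ᵀ * Ω * h' := by rw [hinv]

theorem isUnit_conj_form {Ω h h' : Matrix I I F} (hh' : h * h' = 1) (h'h : h' * h = 1)
    (hΩu : IsUnit Ω) : IsUnit (h'ᵀ * Ω * h') := by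
  have hu : IsUnit h' := ⟨⟨h', h, h'h, hh'⟩, rfl⟩
  exact ((isUnit_transpose hu).mul hΩu).mul hu

theorem alt_conj_form {Ω h' : Matrix I I F} (hΩa : ∀ u : I → F, u ⬝ᵥ (Ω *ᵥ u) = 0)
    (u : I → F) : u ⬝ᵥ ((h'ᵀ * Ω * h') *ᵥ u) = 0 := by
  rw [← Matrix.mulVec_mulVec, ← Matrix.mulVec_mulVec, Matrix.dotProduct_mulVec,
    Matrix.vecMul_transpose]
  exact hΩa _

theorem Good.conj {U h h' : Matrix I I F} (hh' : h * h' = 1) (h'h : h' * h = 1)
    (hU : Good U) : Good (h * U * h') := by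
  obtain ⟨Ω, hΩu, hΩa, hinv⟩ := hU
  exact ⟨h'ᵀ * Ω * h', isUnit_conj_form hh' h'h hΩu, alt_conj_form hΩa,
    form_conj hh' h'h hinv⟩

theorem Good.reindex (e : I ≃ I') {U : Matrix I I F} (hU : Good U) :
    Good (Matrix.reindex e e U) := by
  obtain ⟨Ω, hΩu, hΩa, hinv⟩ := hU
  refine ⟨Matrix.reindex e e Ω, hΩu.map (Matrix.reindexAlgEquiv F F e), ?_, ?_⟩
  · intro u
    have h1 := hΩa (u ∘ e)
    rw [← h1]
    simp only [Matrix.reindex_apply, dotProduct, Matrix.mulVec, Matrix.submatrix_apply,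
      Function.comp_apply]
    rw [← Equiv.sum_comp e]
    apply Finset.sum_congr rfl
    intro i _
    congr 1
    rw [← Equiv.sum_comp e]
    simp
  · have h1 := congrArg (Matrix.reindex e e) hinv
    simp only [Matrix.reindex_apply, Matrix.submatrix_mul_equiv, Matrix.transpose_submatrix] at h1 ⊢
    rw [← h1]

end good

section blockS

variable (j : ℕ)

/-- the Jordan block has an inverse -/
theorem exists_jordanBlock_inv :
    ∃ V : Matrix (Fin j) (Fin j) F, Cfsg.jordanBlock j F * V = 1 ∧ V * Cfsg.jordanBlock j F = 1 := by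
  have hnil : IsNilpotent (Cfsg.jordanBlock j F - 1) := ⟨j, jordanBlock_nil j⟩
  have hu := hnil.isUnit_one_add
  rw [add_sub_cancel] at hu
  obtain ⟨⟨a, b, hab, hba⟩, rfl⟩ := hu
  exact ⟨b, hab, hba⟩

/-- an invariant nondegenerate bilinear form for the Jordan block -/
theorem exists_blockS (hj : 0 < j) :
    ∃ S : Matrix (Fin j) (Fin j) F, IsUnit S ∧
      (Cfsg.jordanBlock j F)ᵀ * S * Cfsg.jordanBlock j F = S := by
  obtain ⟨V, hJV, hVJ⟩ := exists_jordanBlock_inv (F := F) j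
  have hVW : V - 1 = -V * (Cfsg.jordanBlock j F - 1) := by
    rw [Matrix.mul_sub, Matrix.mul_one, Matrix.neg_mul, hVJ]
    abel
  have hcomm : Commute (-V) (Cfsg.jordanBlock j F - 1) := by
    show -V * (Cfsg.jordanBlock j F - 1) = (Cfsg.jordanBlock j F - 1) * -V
    rw [Matrix.mul_sub, Matrix.sub_mul, Matrix.mul_one, Matrix.one_mul, Matrix.neg_mul,
      Matrix.mul_neg, hVJ, hJV]
  have hVu : IsUnit (-V).det := by
    rw [← Matrix.isUnit_iff_isUnit_det]
    exact ⟨⟨-V, -Cfsg.jordanBlock j F, by rw [neg_mul_neg, hVJ], by rw [neg_mul_neg, hJV]⟩, rfl⟩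
  have hnil' : (Vᵀ - 1) ^ j = 0 := by
    have h1 : Vᵀ - 1 = (V - 1)ᵀ := by rw [Matrix.transpose_sub, Matrix.transpose_one]
    rw [h1, ← Matrix.transpose_pow, hVW, hcomm.mul_pow, jordanBlock_nil, mul_zero,
      Matrix.transpose_zero]
  have hreg' : (Vᵀ - 1).rank + 1 = j := by
    have h1 : Vᵀ - 1 = (V - 1)ᵀ := by rw [Matrix.transpose_sub, Matrix.transpose_one]
    rw [h1, Matrix.rank_transpose, hVW, Matrix.rank_mul_eq_right_of_isUnit_det _ _ hVu]
    exact jordanBlock_rank j hj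
  obtain ⟨h, h', hh', h'h, hconj⟩ := exists_conj_of_reg j hj (Fintype.card_fin j)
    (Cfsg.jordanBlock j F) Vᵀ (jordanBlock_nil j) (jordanBlock_rank j hj) hnil' hreg'
  refine ⟨h, ⟨⟨h, h', hh', h'h⟩, rfl⟩, ?_⟩
  have h1 : Vᵀ * h = h * Cfsg.jordanBlock j F := by
    rw [hconj, Matrix.mul_assoc, h'h, Matrix.mul_one]
  rw [Matrix.mul_assoc, ← h1, ← Matrix.mul_assoc, ← Matrix.transpose_mul, hVJ,
    Matrix.transpose_one, Matrix.one_mul]

end blockS

end Cfsg.Agent.Helper21.JS
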