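import Cfsg.Agent.Helper21.JS5

/-!
# An invariant alternating form for a Jordan block of even size (helper21)
-/

set_option autoImplicit false
set_option linter.unusedSectionVars false

namespace Cfsg.Agent.Helper21.JS

open Matrix

variable {F : Type*} [Field F]

theorem chain_pow_ge {ι : Type*} [Fintype ι] [DecidableEq ι] (wt : ι → ℕ) (N : ℕ)
    (hwt : ∀ a, wt a < N) (c : Matrix ι ι F)
    (h : ∀ a b, c a b ≠ 0 → wt b + 1 ≤ wt a) : c ^ N = 0 := by
  have key : ∀ k : ℕ, ∀ a b, (c ^ k) a b ≠ 0 → wt b + k ≤ wt a := by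
    intro k
    induction k with
    | zero =>
      intro a b hab
      rw [pow_zero, Matrix.one_apply] at hab
      split_ifs at hab with h1
      · rw [h1, add_zero]
      · exact absurd rfl hab
    | succ k ih =>
      intro a b hab
      rw [pow_succ, Matrix.mul_apply] at hab
      obtain ⟨x, -, hx⟩ := Finset.exists_ne_zero_of_sum_ne_zero hab
      have h1 := ih a x (left_ne_zero_of_mul hx)
      have h2 := h x b (right_ne_zero_of_mul hx)
      omega
  ext a b
  by_contra hab
  have := key N a b hab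
  have := hwt a
  omega

variable (μ : ℕ)

/-- the nilpotent shift -/
def shW (F : Type*) [Field F] (μ : ℕ) : Matrix (Fin μ) (Fin μ) F := Cfsg.jordanBlock μ F - 1

/-- the flip -/
def flipH (F : Type*) [Field F] (μ : ℕ) : Matrix (Fin μ) (Fin μ) F :=
  Matrix.of fun a b => if (a : ℕ) + (b : ℕ) + 1 = μ then 1 else 0

theorem shW_apply (a b : Fin μ) : shW F μ a b = if (a : ℕ) = (b : ℕ) + 1 then 1 else 0 :=
  jordanBlock_sub_one_apply μ a b

theorem flipH_transpose : (flipH F μ)ᵀ = flipH F μ := by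
  ext a b
  simp only [flipH, Matrix.transpose_apply, Matrix.of_apply]
  congr 1
  rw [add_comm (b : ℕ)]

theorem flipH_mul_self : flipH F μ * flipH F μ = 1 := by
  ext a b
  rw [Matrix.mul_apply, Matrix.one_apply]
  have ha := a.2
  rw [Finset.sum_eq_single (⟨μ - 1 - (a : ℕ), by omega⟩ : Fin μ)]
  · simp only [flipH, Matrix.of_apply]
    rw [if_pos (by omega), one_mul]
    by_cases hab : a = b
    · subst hab
      rw [if_pos rfl, if_pos (by omega)]
    · have : (a : ℕ) ≠ (b : ℕ) := fun h => hab (Fin.ext h)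
      rw [if_neg hab, if_neg (by omega)]
  · intro c _ hc
    simp only [flipH, Matrix.of_apply]
    rw [if_neg, zero_mul]
    intro h
    apply hc
    apply Fin.ext
    simp only
    omega
  · intro h
    exact absurd (Finset.mem_univ _) h

theorem shW_flipH : (shW F μ)ᵀ * flipH F μ = flipH F μ * shW F μ := by
  ext a b
  rw [Matrix.mul_apply, Matrix.mul_apply]
  have ha := a.2
  have hb := b.2
  by_cases h : (a : ℕ) + (b : ℕ) + 2 = μ
  · rw [Finset.sum_eq_single (⟨(a : ℕ) + 1, by omega⟩ : Fin μ),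
      Finset.sum_eq_single (⟨(b : ℕ) + 1, by omega⟩ : Fin μ)]
    · rw [Matrix.transpose_apply, shW_apply, shW_apply, flipH, Matrix.of_apply, Matrix.of_apply]
      rw [if_pos rfl, if_pos (by simp only; omega), if_pos (by simp only; omega), if_pos rfl]
    · intro c _ hc
      rw [shW_apply, if_neg, mul_zero]
      intro h'
      exact hc (Fin.ext h')
    · intro h'
      exact absurd (Finset.mem_univ _) h'
    · intro c _ hc
      rw [Matrix.transpose_apply, shW_apply, if_neg, zero_mul]
      intro h'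
      exact hc (Fin.ext h')
    · intro h'
      exact absurd (Finset.mem_univ _) h'
  · rw [Finset.sum_eq_zero, Finset.sum_eq_zero]
    · intro c _
      rw [shW_apply, flipH, Matrix.of_apply]
      by_cases h1 : (c : ℕ) = (b : ℕ) + 1
      · rw [if_neg (by omega), zero_mul]
      · rw [if_neg h1, mul_zero]
    · intro c _
      rw [Matrix.transpose_apply, shW_apply, flipH, Matrix.of_apply]
      by_cases h1 : (c : ℕ) = (a : ℕ) + 1
      · rw [if_pos h1, if_neg (by omega), mul_zero]
      · rw [if_neg h1, zero_mul]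

/-- the model of a regular unipotent isometry -/
def um (F : Type*) [Field F] (μ : ℕ) : Matrix (Fin μ ⊕ Fin μ) (Fin μ ⊕ Fin μ) F :=
  fromBlocks 1 (-shW F μ) 1 (1 - shW F μ)

/-- the model form -/
def Ωm (F : Type*) [Field F] (μ : ℕ) : Matrix (Fin μ ⊕ Fin μ) (Fin μ ⊕ Fin μ) F :=
  fromBlocks 0 (-flipH F μ) (flipH F μ) 0

theorem um_inv : (um F μ)ᵀ * Ωm F μ * um F μ = Ωm F μ := by
  rw [um, Ωm, fromBlocks_transpose, fromBlocks_multiply, fromBlocks_multiply]
  have h := shW_flipH (F := F) μ
  congr 1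
  · simp
  · simp only [Matrix.transpose_one, Matrix.one_mul, Matrix.mul_zero, add_zero,
      zero_add, Matrix.mul_neg, Matrix.neg_mul, Matrix.mul_sub, Matrix.mul_one]
    abel
  · simp only [Matrix.transpose_one, Matrix.transpose_neg, Matrix.transpose_sub, Matrix.one_mul,
      Matrix.mul_zero, add_zero, zero_add, Matrix.mul_neg, Matrix.neg_mul,
      Matrix.mul_one, Matrix.sub_mul]
    abel
  · simp only [Matrix.transpose_one, Matrix.transpose_neg, Matrix.transpose_sub, Matrix.one_mul,
      Matrix.mul_zero, add_zero, zero_add, Matrix.mul_neg, Matrix.neg_mul,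
      Matrix.mul_one, Matrix.sub_mul, Matrix.mul_sub, neg_neg]
    rw [Matrix.mul_assoc, h]
    abel

theorem Ωm_unit : IsUnit (Ωm F μ) := by
  refine ⟨⟨Ωm F μ, -Ωm F μ, ?_, ?_⟩, rfl⟩
  all_goals
    rw [Ωm, fromBlocks_neg]
    rw [fromBlocks_multiply]
    simp only [Matrix.zero_mul, Matrix.mul_zero, neg_zero, zero_add, add_zero, neg_neg,
      Matrix.neg_mul, Matrix.mul_neg, flipH_mul_self, fromBlocks_one]

theorem Ωm_alt (u : Fin μ ⊕ Fin μ → F) : u ⬝ᵥ ((Ωm F μ) *ᵥ u) = 0 := by
  apply Cfsg.Agent.Helper12.SpSylow.alternating_of_antisymm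
  · rw [Ωm, fromBlocks_transpose, fromBlocks_neg]
    simp only [Matrix.transpose_zero, Matrix.transpose_neg, flipH_transpose, neg_zero, neg_neg]
  · rintro (i | i) <;> simp [Ωm]

theorem um_sub_one : um F μ - 1 = fromBlocks 0 (-shW F μ) 1 (-shW F μ) := by
  rw [um]
  conv_lhs => rw [← fromBlocks_one, sub_eq_add_neg, fromBlocks_neg, fromBlocks_add]
  congr 1
  · simp
  · simp
  · simp
  · abel

/-- the weight function for the model -/
def wtE (μ : ℕ) : Fin μ ⊕ Fin μ → ℕ := Sum.elim (fun a => 2 * (a : ℕ)) (fun a => 2 * (a : ℕ) + 1)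

theorem wtE_lt (a : Fin μ ⊕ Fin μ) : wtE μ a < 2 * μ := by
  rcases a with a | a
  · have := a.2
    simp only [wtE, Sum.elim_inl]
    omega
  · have := a.2
    simp only [wtE, Sum.elim_inr]
    omega

theorem wtE_injective : Function.Injective (wtE μ) := by
  rintro (a | a) (b | b) hab <;> simp only [wtE, Sum.elim_inl, Sum.elim_inr] at hab
  · congr 1
    exact Fin.ext (by omega)
  · omega
  · omega
  · congr 1
    exact Fin.ext (by omega)

theorem um_nil : (um F μ - 1) ^ (2 * μ) = 0 := by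
  rw [um_sub_one]
  apply chain_pow_ge (wtE μ) (2 * μ) (wtE_lt μ)
  rintro (a | a) (b | b) hab
  · rw [fromBlocks_apply₁₁] at hab
    exact absurd rfl hab
  · rw [fromBlocks_apply₁₂, Matrix.neg_apply, shW_apply] at hab
    simp only [wtE, Sum.elim_inl, Sum.elim_inr]
    by_contra h
    rw [if_neg (by omega), neg_zero] at hab
    exact hab rfl
  · rw [fromBlocks_apply₂₁, Matrix.one_apply] at hab
    simp only [wtE, Sum.elim_inl, Sum.elim_inr]
    by_contra h
    rw [if_neg (by intro h'; rw [h'] at h; omega)] at hab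
    exact hab rfl
  · rw [fromBlocks_apply₂₂, Matrix.neg_apply, shW_apply] at hab
    simp only [wtE, Sum.elim_inr]
    by_contra h
    rw [if_neg (by omega), neg_zero] at hab
    exact hab rfl

theorem wtE_inl (a : Fin μ) : wtE μ (Sum.inl a) = 2 * (a : ℕ) := rfl

theorem wtE_inr (a : Fin μ) : wtE μ (Sum.inr a) = 2 * (a : ℕ) + 1 := rfl

theorem um_rank (hμ : 0 < μ) : (um F μ - 1).rank + 1 = 2 * μ := by
  have hT : IsUnit (fromBlocks (1 : Matrix (Fin μ) (Fin μ) F) (shW F μ) 0 1).det := by
    rw [Matrix.det_fromBlocks_zero₂₁, Matrix.det_one, mul_one]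
    exact isUnit_one
  have h1 : (um F μ - 1) * fromBlocks (1 : Matrix (Fin μ) (Fin μ) F) (shW F μ) 0 1
      = fromBlocks 0 (-shW F μ) 1 0 := by
    rw [um_sub_one, fromBlocks_multiply]
    congr 1
    · simp
    · simp
    · simp
    · simp
  have h2 := Cfsg.Agent.Helper21.SpReg.chain_rank (F := F) (wtE μ) (2 * μ) (by omega) (wtE_lt μ)
    (wtE_injective μ) (by rw [Fintype.card_sum, Fintype.card_fin, two_mul])
    (Sum.elim (fun _ => (1 : F)) (fun _ => (-1 : F)))
    (by rintro (b | b) <;> simp)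
    (fromBlocks 0 (-shW F μ) 1 0)
    (by
      rintro (a | a) (b | b)
      · rw [fromBlocks_apply₁₁, wtE_inl, wtE_inl, if_neg (by omega)]
        rfl
      · rw [fromBlocks_apply₁₂, Matrix.neg_apply, shW_apply, wtE_inl, wtE_inr, Sum.elim_inr]
        by_cases h : (a : ℕ) = (b : ℕ) + 1
        · rw [if_pos h, if_pos (by omega)]
        · rw [if_neg h, if_neg (by omega), neg_zero]
      · rw [fromBlocks_apply₂₁, Matrix.one_apply, wtE_inl, wtE_inr, Sum.elim_inl]
        by_cases h : a = b
        · rw [if_pos h, if_pos (by rw [h])]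
        · have : (a : ℕ) ≠ (b : ℕ) := fun h' => h (Fin.ext h')
          rw [if_neg h, if_neg (by omega)]
      · rw [fromBlocks_apply₂₂, wtE_inr, wtE_inr, if_neg (by omega)]
        rfl)
  rw [← Matrix.rank_mul_eq_left_of_isUnit_det _ (um F μ - 1) hT, h1, h2]
  omega

/-- a Jordan block of even size preserves a nondegenerate alternating form -/
theorem good_jordanBlock_even (hμ : 0 < μ) : Good (Cfsg.jordanBlock (2 * μ) F) := by
  have hc : Fintype.card (Fin μ ⊕ Fin μ) = Fintype.card (Fin (2 * μ)) := by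
    rw [Fintype.card_sum, Fintype.card_fin, Fintype.card_fin, two_mul]
  obtain ⟨e⟩ : Nonempty (Fin μ ⊕ Fin μ ≃ Fin (2 * μ)) := Fintype.card_eq.1 hc
  have hU' : Matrix.reindex e.symm e.symm (Cfsg.jordanBlock (2 * μ) F) - 1
      = Matrix.reindexAlgEquiv F F e.symm (Cfsg.jordanBlock (2 * μ) F - 1) := by
    rw [map_sub, map_one]
    rfl
  have hnil' : (Matrix.reindex e.symm e.symm (Cfsg.jordanBlock (2 * μ) F) - 1) ^ (2 * μ) = 0 := by
    rw [hU', ← map_pow, jordanBlock_nil, map_zero]
  have hreg' : (Matrix.reindex e.symm e.symm (Cfsg.jordanBlock (2 * μ) F) - 1).rank + 1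
      = 2 * μ := by
    rw [hU', Matrix.coe_reindexAlgEquiv, Matrix.rank_reindex]
    exact jordanBlock_rank (2 * μ) (by omega)
  obtain ⟨h, h', hh', h'h, hconj⟩ := exists_conj_of_reg (2 * μ) (by omega)
    (by rw [Fintype.card_sum, Fintype.card_fin, two_mul]) (um F μ)
    (Matrix.reindex e.symm e.symm (Cfsg.jordanBlock (2 * μ) F)) (um_nil μ) (um_rank μ hμ)
    hnil' hreg'
  have h1 : Good (um F μ) := ⟨Ωm F μ, Ωm_unit μ, Ωm_alt μ, um_inv μ⟩
  have h2 : Good (Matrix.reindex e.symm e.symm (Cfsg.jordanBlock (2 * μ) F)) := by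
    rw [hconj]
    exact h1.conj hh' h'h
  have h3 := h2.reindex e
  have h4 : Matrix.reindex e e (Matrix.reindex e.symm e.symm (Cfsg.jordanBlock (2 * μ) F))
      = Cfsg.jordanBlock (2 * μ) F := by
    simp [Matrix.reindex_apply, Matrix.submatrix_submatrix]
  rw [h4] at h3
  exact h3

end Cfsg.Agent.Helper21.JS
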