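import Cfsg.Agent.Helper21.JS6

/-!
# Invariant forms of a Jordan block as functions of natural numbers (helper21)
-/

set_option autoImplicit false
set_option linter.unusedSectionVars false

namespace Cfsg.Agent.Helper21.JS

open Matrix

variable {F : Type*} [Field F]

/-- a nondegenerate invariant form of the Jordan block of size `j`, with entries indexed by `ℕ` -/
structure IsBF (j : ℕ) (m : ℕ → ℕ → F) : Prop where
  supp : ∀ a b, ¬(a < j ∧ b < j) → m a b = 0
  recur : ∀ a b, m (a + 1) b + m a (b + 1) + m (a + 1) (b + 1) = 0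
  nondeg : ∀ w : ℕ → F, (∀ a < j, ∑ b ∈ Finset.range j, m a b * w b = 0) → ∀ b < j, w b = 0

/-- extension of a matrix by zero -/
def natExt (j : ℕ) (S : Matrix (Fin j) (Fin j) F) (a b : ℕ) : F :=
  if h : a < j ∧ b < j then S ⟨a, h.1⟩ ⟨b, h.2⟩ else 0

theorem natExt_apply (j : ℕ) (S : Matrix (Fin j) (Fin j) F) (a b : Fin j) :
    natExt j S a b = S a b := by
  rw [natExt, dif_pos ⟨a.2, b.2⟩]

variable (j : ℕ)

theorem mul_W_apply (S : Matrix (Fin j) (Fin j) F) (a b : Fin j) :
    (S * (Cfsg.jordanBlock j F - 1)) a b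
      = if h : (b : ℕ) + 1 < j then S a ⟨(b : ℕ) + 1, h⟩ else 0 := by
  rw [Matrix.mul_apply]
  by_cases h : (b : ℕ) + 1 < j
  · rw [dif_pos h, Finset.sum_eq_single (⟨(b : ℕ) + 1, h⟩ : Fin j)]
    · rw [jordanBlock_sub_one_apply, if_pos rfl, mul_one]
    · intro c _ hc
      rw [jordanBlock_sub_one_apply, if_neg, mul_zero]
      intro h'
      exact hc (Fin.ext h')
    · intro h'
      exact absurd (Finset.mem_univ _) h'
  · rw [dif_neg h]
    apply Finset.sum_eq_zero
    intro c _
    rw [jordanBlock_sub_one_apply, if_neg, mul_zero]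
    intro h'
    have := c.2
    omega

theorem WT_mul_apply (S : Matrix (Fin j) (Fin j) F) (a b : Fin j) :
    ((Cfsg.jordanBlock j F - 1)ᵀ * S : Matrix (Fin j) (Fin j) F) a b
      = if h : (a : ℕ) + 1 < j then S ⟨(a : ℕ) + 1, h⟩ b else 0 := by
  have h1 : ((Cfsg.jordanBlock j F - 1)ᵀ * S : Matrix (Fin j) (Fin j) F)
      = (Sᵀ * (Cfsg.jordanBlock j F - 1))ᵀ := by
    rw [Matrix.transpose_mul, Matrix.transpose_transpose]
  rw [h1, Matrix.transpose_apply, mul_W_apply]
  rfl

theorem isBF_natExt (S : Matrix (Fin j) (Fin j) F) (hS : IsUnit S)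
    (hinv : (Cfsg.jordanBlock j F)ᵀ * S * Cfsg.jordanBlock j F = S) : IsBF j (natExt j S) := by
  refine ⟨?_, ?_, ?_⟩
  · intro a b hab
    rw [natExt, dif_neg hab]
  · intro a b
    by_cases hab : a < j ∧ b < j
    · obtain ⟨W, hW⟩ : ∃ W : Matrix (Fin j) (Fin j) F, W = Cfsg.jordanBlock j F - 1 := ⟨_, rfl⟩
      have hJ : Cfsg.jordanBlock j F = 1 + W := by rw [hW]; abel
      have h0 : Wᵀ * S + S * W + Wᵀ * S * W = 0 := by
        have h1 : (1 + W)ᵀ * S * (1 + W) = S + (Wᵀ * S + S * W + Wᵀ * S * W) := by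
          rw [Matrix.transpose_add, Matrix.transpose_one]
          noncomm_ring
        rw [← hJ, hinv] at h1
        exact (left_eq_add.1 h1)
      have h2 := congrFun (congrFun h0 ⟨a, hab.1⟩) ⟨b, hab.2⟩
      rw [Matrix.add_apply, Matrix.add_apply, Matrix.mul_assoc, hW, WT_mul_apply, mul_W_apply,
        WT_mul_apply] at h2
      simp only [Matrix.zero_apply] at h2
      rw [← h2]
      congr 1
      · congr 1
        · by_cases h3 : a + 1 < j
          · rw [dif_pos h3, natExt, dif_pos ⟨h3, hab.2⟩]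
          · rw [dif_neg h3, natExt, dif_neg (fun h => h3 h.1)]
        · by_cases h3 : b + 1 < j
          · rw [dif_pos h3, natExt, dif_pos ⟨hab.1, h3⟩]
          · rw [dif_neg h3, natExt, dif_neg (fun h => h3 h.2)]
      · by_cases h3 : a + 1 < j
        · rw [dif_pos h3, mul_W_apply]
          by_cases h4 : b + 1 < j
          · rw [dif_pos h4, natExt, dif_pos ⟨h3, h4⟩]
          · rw [dif_neg h4, natExt, dif_neg (fun h => h4 h.2)]
        · rw [dif_neg h3, natExt, dif_neg (fun h => h3 h.1)]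
    · have h1 : natExt j S (a + 1) b = 0 := by
        rw [natExt, dif_neg]
        intro h
        apply hab
        exact ⟨by omega, h.2⟩
      have h2 : natExt j S a (b + 1) = 0 := by
        rw [natExt, dif_neg]
        intro h
        apply hab
        exact ⟨h.1, by omega⟩
      have h3 : natExt j S (a + 1) (b + 1) = 0 := by
        rw [natExt, dif_neg]
        intro h
        apply hab
        exact ⟨by omega, by omega⟩
      rw [h1, h2, h3, add_zero, add_zero]
  · intro w hw b hb
    have hdet : S.det ≠ 0 := ((Matrix.isUnit_iff_isUnit_det S).1 hS).ne_zero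
    have h1 : S *ᵥ (fun b : Fin j => w b) = 0 := by
      funext a
      rw [Matrix.mulVec, dotProduct, Pi.zero_apply, ← hw a a.2,
        ← Fin.sum_univ_eq_sum_range (fun b => natExt j S a b * w b) j]
      apply Finset.sum_congr rfl
      intro c _
      rw [natExt_apply]
    have h2 := Matrix.eq_zero_of_mulVec_eq_zero hdet h1
    exact congrFun h2 ⟨b, hb⟩

/-- every Jordan block has a pair of mutually skew-transposed invariant forms -/
theorem exists_natS (hj : 0 < j) : ∃ mS mS' : ℕ → ℕ → F,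
    IsBF j mS ∧ IsBF j mS' ∧ ∀ a b, mS' a b = -mS b a := by
  obtain ⟨S, hSu, hSinv⟩ := exists_blockS (F := F) j hj
  refine ⟨natExt j S, natExt j (-Sᵀ), isBF_natExt j S hSu hSinv, isBF_natExt j (-Sᵀ) ?_ ?_, ?_⟩
  · exact (isUnit_transpose hSu).neg
  · have h := congrArg Matrix.transpose hSinv
    rw [Matrix.transpose_mul, Matrix.transpose_mul, Matrix.transpose_transpose,
      ← Matrix.mul_assoc] at h
    rw [Matrix.mul_neg, Matrix.neg_mul, h]
  · intro a b
    by_cases hab : a < j ∧ b < j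
    · rw [natExt, dif_pos hab, natExt, dif_pos ⟨hab.2, hab.1⟩]
      rfl
    · rw [natExt, dif_neg hab, natExt, dif_neg (fun h => hab ⟨h.2, h.1⟩), neg_zero]

/-- a Jordan block of even size has an invariant alternating form -/
theorem exists_natE (hj : 0 < j) (hje : Even j) : ∃ mE : ℕ → ℕ → F,
    IsBF j mE ∧ (∀ a b, mE b a = -mE a b) ∧ ∀ a, mE a a = 0 := by
  obtain ⟨μ, hμ⟩ := hje
  have hj2 : j = 2 * μ := by omega
  subst hj2
  obtain ⟨E, hEu, hEa, hEinv⟩ := good_jordanBlock_even (F := F) μ (by omega)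
  refine ⟨natExt (2 * μ) E, isBF_natExt (2 * μ) E hEu hEinv, ?_, ?_⟩
  · intro a b
    by_cases hab : a < 2 * μ ∧ b < 2 * μ
    · rw [natExt, dif_pos ⟨hab.2, hab.1⟩, natExt, dif_pos hab]
      have h := congrFun (congrFun (alt_skew hEa) ⟨a, hab.1⟩) ⟨b, hab.2⟩
      rw [Matrix.transpose_apply, Matrix.neg_apply] at h
      exact h
    · rw [natExt, dif_neg (fun h => hab ⟨h.2, h.1⟩), natExt, dif_neg hab, neg_zero]
  · intro a
    by_cases ha : a < 2 * μ
    · rw [natExt, dif_pos ⟨ha, ha⟩]
      exact alt_diag hEa _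
    · rw [natExt, dif_neg (fun h => ha h.1)]

end Cfsg.Agent.Helper21.JS
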