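import Cfsg.Agent.Helper21.JS7

/-!
# Assembling an invariant alternating form for a unipotent matrix in Jordan form (helper21)
-/

set_option autoImplicit false
set_option linter.unusedSectionVars false

namespace Cfsg.Agent.Helper21.JS

open Matrix Cfsg.Agent.Helper21.JC

variable {F : Type*} [Field F] {t : ℕ} (d : Fin t → ℕ) (τ : Fin t → Fin t)
  (m : Fin t → ℕ → ℕ → F)

/-- the assembled form, on natural-number coordinates -/
def asmN (k : Fin t) (a : ℕ) (l : Fin t) (b : ℕ) : F := if l = τ k then m k a b else 0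

/-- the assembled form -/
def asmΩ : Matrix (Idx d) (Idx d) F := fun x y => asmN τ m x.1 x.2 y.1 y.2

variable {d τ m}

theorem asm_alt (hτ : ∀ k, τ (τ k) = k) (hskew : ∀ k a b, m (τ k) b a = -m k a b)
    (hdiag : ∀ k a, τ k = k → m k a a = 0) (u : Idx d → F) :
    u ⬝ᵥ ((asmΩ d τ m) *ᵥ u) = 0 := by
  apply Cfsg.Agent.Helper12.SpSylow.alternating_of_antisymm
  · ext ⟨k, a⟩ ⟨l, b⟩
    rw [Matrix.transpose_apply, Matrix.neg_apply, asmΩ, asmΩ, asmN, asmN]
    simp only
    by_cases h : l = τ k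
    · subst h
      rw [if_pos rfl, if_pos (hτ k).symm, hskew]
    · have h' : ¬ k = τ l := by
        intro h'
        apply h
        rw [h', hτ]
      rw [if_neg h, if_neg h', neg_zero]
  · intro x
    rw [asmΩ, asmN]
    by_cases h : x.1 = τ x.1
    · rw [if_pos h]
      exact hdiag _ _ h.symm
    · rw [if_neg h]

theorem asm_inv (hdτ : ∀ k, d (τ k) = d k) (hm : ∀ k, IsBF (d k) (m k)) :
    (Cfsg.jordanTypeMatrix d F)ᵀ * asmΩ d τ m * Cfsg.jordanTypeMatrix d F = asmΩ d τ m := by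
  have hJ : Cfsg.jordanTypeMatrix d F = 1 + Nm d := by
    rw [Nm]
    abel
  have h0 : (Nm d)ᵀ * asmΩ d τ m + asmΩ d τ m * Nm d + (Nm d)ᵀ * asmΩ d τ m * Nm d = 0 := by
    ext ⟨k, a⟩ ⟨l, b⟩
    rw [Matrix.add_apply, Matrix.add_apply, NmT_mul_apply, mul_Nm_apply, mul_Nm_apply]
    simp only [Matrix.zero_apply]
    have e1 : (if h : (a : ℕ) + 1 < d k then asmΩ d τ m ⟨k, ⟨(a : ℕ) + 1, h⟩⟩ ⟨l, b⟩ else 0)
        = asmN τ m k ((a : ℕ) + 1) l b := by
      by_cases h : (a : ℕ) + 1 < d k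
      · rw [dif_pos h]
        rfl
      · rw [dif_neg h, asmN]
        split_ifs
        · rw [(hm k).supp _ _ (fun h' => h h'.1)]
        · rfl
    have e2 : (if h : (b : ℕ) + 1 < d l then asmΩ d τ m ⟨k, a⟩ ⟨l, ⟨(b : ℕ) + 1, h⟩⟩ else 0)
        = asmN τ m k a l ((b : ℕ) + 1) := by
      by_cases h : (b : ℕ) + 1 < d l
      · rw [dif_pos h]
        rfl
      · rw [dif_neg h, asmN]
        split_ifs with h1
        · have hdl : d l = d k := by rw [h1, hdτ]
          rw [(hm k).supp _ _ (fun h' => h (by have := h'.2; omega))]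
        · rfl
    have e3 : (if h : (b : ℕ) + 1 < d l then
          ((Nm d)ᵀ * asmΩ d τ m : Matrix (Idx d) (Idx d) F) ⟨k, a⟩ ⟨l, ⟨(b : ℕ) + 1, h⟩⟩ else 0)
        = asmN τ m k ((a : ℕ) + 1) l ((b : ℕ) + 1) := by
      by_cases h : (b : ℕ) + 1 < d l
      · rw [dif_pos h, NmT_mul_apply]
        by_cases h2 : (a : ℕ) + 1 < d k
        · rw [dif_pos h2]
          rfl
        · rw [dif_neg h2, asmN]
          split_ifs
          · rw [(hm k).supp _ _ (fun h' => h2 h'.1)]
          · rfl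
      · rw [dif_neg h, asmN]
        split_ifs with h1
        · have hdl : d l = d k := by rw [h1, hdτ]
          rw [(hm k).supp _ _ (fun h' => h (by have := h'.2; omega))]
        · rfl
    rw [e1, e2, e3, asmN, asmN, asmN]
    split_ifs
    · exact (hm k).recur _ _
    · simp
  calc (Cfsg.jordanTypeMatrix d F)ᵀ * asmΩ d τ m * Cfsg.jordanTypeMatrix d F
      = asmΩ d τ m + ((Nm d)ᵀ * asmΩ d τ m + asmΩ d τ m * Nm d
          + (Nm d)ᵀ * asmΩ d τ m * Nm d) := by
        rw [hJ, Matrix.transpose_add, Matrix.transpose_one]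
        noncomm_ring
    _ = asmΩ d τ m := by rw [h0, add_zero]

theorem asm_unit (hτ : ∀ k, τ (τ k) = k) (hdτ : ∀ k, d (τ k) = d k)
    (hm : ∀ k, IsBF (d k) (m k)) : IsUnit (asmΩ d τ m) := by
  rw [Matrix.isUnit_iff_isUnit_det]
  apply IsUnit.mk0
  intro hdet
  obtain ⟨v, hv0, hv⟩ := Matrix.exists_mulVec_eq_zero_iff.2 hdet
  apply hv0
  have key : ∀ k : Fin t, ∀ x : Idx d, x.1 = τ k → v x = 0 := by
    rintro k ⟨l, b⟩ hl
    simp only at hl
    subst hl
    obtain ⟨w, hw⟩ : ∃ w : ℕ → F,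
        w = fun b => if h : b < d (τ k) then v ⟨τ k, ⟨b, h⟩⟩ else 0 := ⟨_, rfl⟩
    have hwb : ∀ b : Fin (d (τ k)), w b = v ⟨τ k, b⟩ := by
      intro b
      rw [hw]
      simp only
      rw [dif_pos b.2]
    have h1 : ∀ a < d k, ∑ b ∈ Finset.range (d k), m k a b * w b = 0 := by
      intro a ha
      have h2 := congrFun hv ⟨k, ⟨a, ha⟩⟩
      rw [Matrix.mulVec, dotProduct, Pi.zero_apply, Fintype.sum_sigma,
        Finset.sum_eq_single (τ k)] at h2
      · rw [← hdτ k, ← Fin.sum_univ_eq_sum_range (fun b => m k a b * w b) (d (τ k)), ← h2]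
        apply Finset.sum_congr rfl
        intro c _
        rw [hwb, asmΩ, asmN, if_pos rfl]
      · intro l _ hl
        apply Finset.sum_eq_zero
        intro c _
        rw [asmΩ, asmN, if_neg hl, zero_mul]
      · intro h
        exact absurd (Finset.mem_univ _) h
    have h3 := (hm k).nondeg w h1 b (by rw [← hdτ k]; exact b.2)
    rw [← hwb, h3]
  funext x
  exact key (τ x.1) x (hτ x.1).symm

/-- **Assembly**: the Jordan matrix preserves the assembled form -/
theorem good_of_asm (hτ : ∀ k, τ (τ k) = k) (hdτ : ∀ k, d (τ k) = d k)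
    (hm : ∀ k, IsBF (d k) (m k)) (hskew : ∀ k a b, m (τ k) b a = -m k a b)
    (hdiag : ∀ k a, τ k = k → m k a a = 0) : Good (Cfsg.jordanTypeMatrix d F) :=
  ⟨asmΩ d τ m, asm_unit hτ hdτ hm, asm_alt hτ hskew hdiag, asm_inv hdτ hm⟩

end Cfsg.Agent.Helper21.JS
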