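import Cfsg.Agent.Helper21.JS8

/-!
# Jordan types with odd sizes of even multiplicity are realised by isometries (helper21)
-/

set_option autoImplicit false
set_option linter.unusedSectionVars false

namespace Cfsg.Agent.Helper21.JS

open Matrix Cfsg.Agent.Helper21.JC

/-- a finite type of even cardinality has a fixed-point-free involution -/
theorem exists_fpf_involution (α : Type*) [Fintype α] (h : Even (Fintype.card α)) :
    ∃ f : α → α, (∀ x, f (f x) = x) ∧ ∀ x, f x ≠ x := by
  obtain ⟨c, hc⟩ := h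
  have h1 : Fintype.card α = Fintype.card (Fin c ⊕ Fin c) := by
    rw [hc, Fintype.card_sum, Fintype.card_fin]
  obtain ⟨e⟩ : Nonempty (α ≃ Fin c ⊕ Fin c) := Fintype.card_eq.1 h1
  refine ⟨fun x => e.symm (Sum.swap (e x)), ?_, ?_⟩
  · intro x
    simp
  · intro x hx
    have h2 := congrArg e hx
    rw [Equiv.apply_symm_apply] at h2
    rcases h3 : e x with a | a <;> rw [h3] at h2 <;> simp at h2

variable {F : Type*} [Field F] {t : ℕ} {d : Fin t → ℕ}

theorem exists_pairing (hpar : ∀ j : ℕ, Odd j →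
      Even (Finset.univ.filter (fun k : Fin t => d k = j)).card) (j : ℕ) :
    ∃ g : Fin t → Fin t, (∀ k, g (g k) = k) ∧ (∀ k, d (g k) = d k) ∧
      (Odd j → ∀ k, d k = j → g k ≠ k) := by
  by_cases hj : Odd j
  · have h1 : Even (Fintype.card { k : Fin t // d k = j }) := by
      rw [Fintype.card_subtype]
      exact hpar j hj
    obtain ⟨f, hf1, hf2⟩ := exists_fpf_involution _ h1
    refine ⟨fun k => if h : d k = j then (f ⟨k, h⟩).1 else k, ?_, ?_, ?_⟩
    · intro k
      by_cases h : d k = j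
      · simp only [dif_pos h]
        rw [dif_pos (f ⟨k, h⟩).2, Subtype.coe_eta, hf1]
      · simp only [dif_neg h]
    · intro k
      by_cases h : d k = j
      · simp only [dif_pos h]
        rw [(f ⟨k, h⟩).2, h]
      · simp only [dif_neg h]
    · intro _ k h
      simp only [dif_pos h]
      intro h2
      apply hf2 ⟨k, h⟩
      exact Subtype.ext h2
  · exact ⟨id, fun _ => rfl, fun _ => rfl, fun h => absurd h hj⟩

/-- **Existence**: if every odd size has even multiplicity, the Jordan matrix preserves a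
nondegenerate alternating form. -/
theorem good_of_parity (hd : ∀ k, 1 ≤ d k) (hpar : ∀ j : ℕ, Odd j →
      Even (Finset.univ.filter (fun k : Fin t => d k = j)).card) :
    Good (Cfsg.jordanTypeMatrix d F) := by
  classical
  choose g hg1 hg2 hg3 using exists_pairing hpar
  have hS : ∀ j : ℕ, ∃ mS mS' : ℕ → ℕ → F, 0 < j →
      (IsBF j mS ∧ IsBF j mS' ∧ ∀ a b, mS' a b = -mS b a) := by
    intro j
    by_cases hj : 0 < j
    · obtain ⟨mS, mS', h⟩ := exists_natS (F := F) j hj
      exact ⟨mS, mS', fun _ => h⟩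
    · exact ⟨0, 0, fun h => absurd h hj⟩
  have hE : ∀ j : ℕ, ∃ mE : ℕ → ℕ → F, 0 < j → Even j →
      (IsBF j mE ∧ (∀ a b, mE b a = -mE a b) ∧ ∀ a, mE a a = 0) := by
    intro j
    by_cases hj : 0 < j ∧ Even j
    · obtain ⟨mE, h⟩ := exists_natE (F := F) j hj.1 hj.2
      exact ⟨mE, fun _ _ => h⟩
    · exact ⟨0, fun h h' => absurd ⟨h, h'⟩ hj⟩
  choose mS mS' hmS using hS
  choose mE hmE using hE
  obtain ⟨τ, hτ_def⟩ : ∃ τ : Fin t → Fin t, τ = fun k => if Odd (d k) then g (d k) k else k :=
    ⟨_, rfl⟩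
  have hdτ : ∀ k, d (τ k) = d k := by
    intro k
    rw [hτ_def]
    simp only
    split_ifs
    · exact hg2 _ _
    · rfl
  have hτ : ∀ k, τ (τ k) = k := by
    intro k
    have h1 := hdτ k
    rw [hτ_def] at h1 ⊢
    simp only at h1 ⊢
    by_cases hk : Odd (d k)
    · rw [if_pos hk] at h1 ⊢
      rw [h1, if_pos hk, hg1]
    · rw [if_neg hk, if_neg hk]
  have hfix : ∀ k, τ k = k → Even (d k) := by
    intro k hk
    rw [hτ_def] at hk
    simp only at hk
    by_contra hodd
    rw [Nat.not_even_iff_odd] at hodd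
    rw [if_pos hodd] at hk
    exact hg3 (d k) hodd k rfl hk
  have hdpos : ∀ k, 0 < d k := fun k => hd k
  obtain ⟨m, hm_def⟩ : ∃ m : Fin t → ℕ → ℕ → F, m = fun k =>
      if τ k = k then mE (d k) else if k < τ k then mS (d k) else mS' (d k) := ⟨_, rfl⟩
  have hm : ∀ k, IsBF (d k) (m k) := by
    intro k
    rw [hm_def]
    simp only
    split_ifs with h1 h2
    · exact (hmE (d k) (hdpos k) (hfix k h1)).1
    · exact (hmS (d k) (hdpos k)).1
    · exact (hmS (d k) (hdpos k)).2.1
  have hskew : ∀ k a b, m (τ k) b a = -m k a b := by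
    intro k a b
    rw [hm_def]
    simp only
    rw [hτ k, hdτ k]
    by_cases h1 : τ k = k
    · rw [if_pos h1.symm, if_pos h1]
      exact (hmE (d k) (hdpos k) (hfix k h1)).2.1 a b
    · have h1' : ¬ k = τ k := fun h => h1 h.symm
      rw [if_neg h1', if_neg h1]
      by_cases h2 : k < τ k
      · rw [if_pos h2, if_neg (not_lt.2 h2.le)]
        exact (hmS (d k) (hdpos k)).2.2 b a
      · have h3 : τ k < k := lt_of_le_of_ne (not_lt.1 h2) h1
        rw [if_neg h2, if_pos h3, (hmS (d k) (hdpos k)).2.2 a b, neg_neg]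
  have hdiag : ∀ k a, τ k = k → m k a a = 0 := by
    intro k a h1
    rw [hm_def]
    simp only
    rw [if_pos h1]
    exact (hmE (d k) (hdpos k) (hfix k h1)).2.2 a
  exact good_of_asm hτ hdτ hm hskew hdiag

end Cfsg.Agent.Helper21.JS
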