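import Mathlib
import Cfsg.Agent.Helper21.Jordan3

set_option autoImplicit false

/-!
Jordan normal form of nilpotent endomorphisms, part 4: conjugacy and realization.
-/

namespace Cfsg.Agent.Helper21.Jordan

open Module Submodule

variable {K : Type*} [Field K]
variable {V : Type*} [AddCommGroup V] [Module K V]
variable {V' : Type*} [AddCommGroup V'] [Module K V']

theorem intertwine_pow (T : Module.End K V) (T' : Module.End K V') (φ : V →ₗ[K] V')
    (h : ∀ x, φ (T x) = T' (φ x)) (j : ℕ) (x : V) : φ ((T ^ j) x) = (T' ^ j) (φ x) := by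
  induction j generalizing x with
  | zero => simp
  | succ j ih => rw [pow_succ, Module.End.mul_apply, ih, h, pow_succ, Module.End.mul_apply]

/-- the Jordan type is invariant under conjugation -/
theorem IsJordan.conj {T : Module.End K V} {μ : Multiset ℕ} (h : IsJordan T ⊤ μ)
    (T' : Module.End K V') (φ : V ≃ₗ[K] V') (hφ : ∀ x, φ (T x) = T' (φ x)) :
    IsJordan T' ⊤ μ := by
  obtain ⟨ι, _, d, v, hμ, hpos, hli, hspan, hkill⟩ := h
  have hfam : fam T' d (fun i => φ (v i)) = φ ∘ fam T d v := by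
    funext x
    simp only [fam_apply, Function.comp_apply]
    exact (intertwine_pow T T' φ.toLinearMap hφ _ _).symm
  refine ⟨ι, inferInstance, d, fun i => φ (v i), hμ, hpos, ?_, ?_, ?_⟩
  · rw [hfam]
    exact hli.map' φ.toLinearMap φ.ker
  · rw [hfam, Set.range_comp, ← LinearEquiv.coe_coe, ← Submodule.map_span, hspan, Submodule.map_top,
      LinearMap.range_eq_top.mpr φ.surjective]
  · intro i
    have := intertwine_pow T T' φ.toLinearMap hφ (d i) (v i)
    rw [hkill i, map_zero] at this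
    exact this.symm

theorem exists_equiv_of_map_eq {ι ι' : Type} [Fintype ι] [Fintype ι'] (d : ι → ℕ) (d' : ι' → ℕ)
    (h : Multiset.map d Finset.univ.val = Multiset.map d' Finset.univ.val) :
    ∃ σ : ι ≃ ι', ∀ i, d' (σ i) = d i := by
  classical
  have hcard : ∀ a : ℕ, Fintype.card {i // d i = a} = Fintype.card {i' // d' i' = a} := by
    intro a
    have h1 := congrArg (Multiset.count a) h
    rw [Multiset.count_map, Multiset.count_map] at h1
    rw [Fintype.card_subtype, Fintype.card_subtype]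
    simp only [Finset.card_def, Finset.filter_val]
    convert h1 using 3 <;> exact eq_comm
  let σ : ι ≃ ι' := (Equiv.sigmaFiberEquiv d).symm.trans
    ((Equiv.sigmaCongrRight (fun a => Fintype.equivOfCardEq (hcard a))).trans
      (Equiv.sigmaFiberEquiv d'))
  refine ⟨σ, fun i => ?_⟩
  exact ((Fintype.equivOfCardEq (hcard (d i))) ⟨i, rfl⟩).2

/-- two endomorphisms with the same Jordan type are conjugate -/
theorem IsJordan.exists_conj {T : Module.End K V} {T' : Module.End K V'} {μ : Multiset ℕ}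
    (h : IsJordan T ⊤ μ) (h' : IsJordan T' ⊤ μ) :
    ∃ φ : V ≃ₗ[K] V', ∀ x, φ (T x) = T' (φ x) := by
  obtain ⟨ι, _, d, v, hμ, hpos, hli, hspan, hkill⟩ := h
  obtain ⟨ι', _, d', v', hμ', hpos', hli', hspan', hkill'⟩ := h'
  obtain ⟨σ, hσ⟩ := exists_equiv_of_map_eq d d' (hμ.trans hμ'.symm)
  let b : Basis (Σ i : ι, Fin (d i)) K V := Basis.mk hli hspan.ge
  let b' : Basis (Σ i : ι', Fin (d' i)) K V' := Basis.mk hli' hspan'.ge
  let e : (Σ i : ι, Fin (d i)) ≃ (Σ i : ι', Fin (d' i)) :=
    Equiv.sigmaCongr σ (fun i => finCongr (hσ i).symm)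
  have hb : ∀ x, b x = fam T d v x := fun x => by simp [b]
  have hb' : ∀ x, b' x = fam T' d' v' x := fun x => by simp [b']
  let φ : V ≃ₗ[K] V' := b.equiv b' e
  have hφb : ∀ x, φ (b x) = b' (e x) := fun x => by simp [φ]
  refine ⟨φ, ?_⟩
  have key : φ.toLinearMap ∘ₗ T = T' ∘ₗ φ.toLinearMap := by
    apply b.ext
    rintro ⟨i, j⟩
    simp only [LinearMap.coe_comp, LinearEquiv.coe_coe, Function.comp_apply]
    rw [hφb, hb', hb]
    have hfe : fam T' d' v' (e ⟨i, j⟩) = (T' ^ (j : ℕ)) (v' (σ i)) := rfl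
    have hf : fam T d v ⟨i, j⟩ = (T ^ (j : ℕ)) (v i) := rfl
    rw [hfe, hf]
    rw [← Module.End.mul_apply, ← Module.End.mul_apply, ← pow_succ', ← pow_succ']
    by_cases hj : (j : ℕ) + 1 < d i
    · have h1 : (T ^ ((j : ℕ) + 1)) (v i) = b ⟨i, ⟨(j : ℕ) + 1, hj⟩⟩ := by rw [hb]; rfl
      rw [h1, hφb, hb']
      rfl
    · have hj' : (j : ℕ) + 1 = d i := by have := j.2; omega
      rw [hj', hkill i, map_zero, ← hσ i, hkill' (σ i)]
  intro x
  exact LinearMap.congr_fun key x

/-- every multiset of positive integers with the right sum is a Jordan type -/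
theorem exists_isJordan_of_sum_eq [FiniteDimensional K V] (μ : Multiset ℕ) (hμ0 : 0 ∉ μ)
    (hsum : μ.sum = finrank K V) : ∃ T : Module.End K V, IsJordan T ⊤ μ := by
  classical
  let l := μ.toList
  let d : Fin l.length → ℕ := l.get
  have hmap : Multiset.map d Finset.univ.val = μ := by
    rw [Fin.univ_val_map, List.ofFn_get, Multiset.coe_toList]
  have hpos : ∀ i, 0 < d i := by
    intro i
    have : d i ∈ μ := by
      rw [← Multiset.mem_toList]
      exact List.get_mem _ _
    rcases Nat.eq_zero_or_pos (d i) with h | h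
    · rw [h] at this
      exact absurd this hμ0
    · exact h
  have hcard : Fintype.card (Σ i : Fin l.length, Fin (d i)) = finrank K V := by
    rw [Fintype.card_sigma, ← hsum, ← hmap]
    simp only [Fintype.card_fin]
    rfl
  let b : Basis (Σ i : Fin l.length, Fin (d i)) K V :=
    (Module.finBasis K V).reindex (Fintype.equivFinOfCardEq hcard).symm
  let T : Module.End K V := b.constr K
    (fun x => if h : (x.2 : ℕ) + 1 < d x.1 then b ⟨x.1, ⟨(x.2 : ℕ) + 1, h⟩⟩ else 0)
  have hT : ∀ x : Σ i : Fin l.length, Fin (d i),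
      T (b x) = if h : (x.2 : ℕ) + 1 < d x.1 then b ⟨x.1, ⟨(x.2 : ℕ) + 1, h⟩⟩ else 0 := by
    intro x
    simp only [T, Basis.constr_basis]
  let v : Fin l.length → V := fun i => b ⟨i, ⟨0, hpos i⟩⟩
  have hpow : ∀ (i : Fin l.length) (j : ℕ) (hj : j < d i), (T ^ j) (v i) = b ⟨i, ⟨j, hj⟩⟩ := by
    intro i j
    induction j with
    | zero => intro hj; simp [v]
    | succ j ih =>
      intro hj
      rw [pow_succ', Module.End.mul_apply, ih (by omega), hT, dif_pos hj]
  have hfam : fam T d v = b := by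
    funext x
    rw [fam_apply, hpow x.1 x.2 x.2.2]
  refine ⟨T, Fin l.length, inferInstance, d, v, hmap, hpos, ?_, ?_, ?_⟩
  · rw [hfam]
    exact b.linearIndependent
  · rw [hfam]
    exact b.span_eq
  · intro i
    obtain ⟨k, hk⟩ : ∃ k, d i = k + 1 := ⟨d i - 1, by have := hpos i; omega⟩
    rw [hk, pow_succ', Module.End.mul_apply, hpow i k (by omega), hT, dif_neg (by simp; omega)]

end Cfsg.Agent.Helper21.Jordan
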