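import Mathlib
import Cfsg.Agent.Helper21.Jordan4
import Cfsg.Agent.Helper12.Unipotent

set_option autoImplicit false

/-!
Jordan normal form of nilpotent endomorphisms, part 5: unipotent classes of `GL_n`.
-/

namespace Cfsg.Agent.Helper21.Jordan

open Module Submodule

variable {K : Type*} [Field K]
variable {V : Type*} [AddCommGroup V] [Module K V]

/-- the Jordan type of a nilpotent endomorphism (junk value `0` otherwise) -/
noncomputable def jordanType (T : Module.End K V) : Multiset ℕ :=
  open Classical in if h : ∃ μ, IsJordan T ⊤ μ then Classical.choose h else 0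

theorem jordanType_spec [FiniteDimensional K V] (T : Module.End K V) (hT : IsNilpotent T) :
    IsJordan T ⊤ (jordanType T) := by
  have h := exists_isJordan T hT
  rw [jordanType, dif_pos h]
  exact Classical.choose_spec h

theorem jordanType_eq {T : Module.End K V} {μ : Multiset ℕ} (h : IsJordan T ⊤ μ) :
    jordanType T = μ := by
  have h' : ∃ μ, IsJordan T ⊤ μ := ⟨μ, h⟩
  have h1 : IsJordan T ⊤ (jordanType T) := by
    rw [jordanType, dif_pos h']
    exact Classical.choose_spec h'
  exact h1.unique h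

variable {F : Type*} [Field F] {n : ℕ}

/-- `g - 1` as an endomorphism -/
noncomputable def nilPart (g : Matrix.GeneralLinearGroup (Fin n) F) :
    Module.End F (Fin n → F) :=
  Matrix.toLin' ((g : Matrix (Fin n) (Fin n) F) - 1)

theorem nilPart_conj (g c : Matrix.GeneralLinearGroup (Fin n) F) :
    ∃ φ : (Fin n → F) ≃ₗ[F] (Fin n → F),
      ∀ x, φ (nilPart g x) = nilPart (c * g * c⁻¹) (φ x) := by
  let φ : (Fin n → F) ≃ₗ[F] (Fin n → F) :=
    LinearEquiv.ofLinearMap (Matrix.toLin' (c : Matrix (Fin n) (Fin n) F))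
      (Matrix.toLin' ((c⁻¹ : Matrix.GeneralLinearGroup (Fin n) F) : Matrix (Fin n) (Fin n) F))
      (by rw [← Matrix.toLin'_mul, ← Units.val_mul, mul_inv_cancel, Units.val_one,
        Matrix.toLin'_one])
      (by rw [← Matrix.toLin'_mul, ← Units.val_mul, inv_mul_cancel, Units.val_one,
        Matrix.toLin'_one])
  refine ⟨φ, fun x => ?_⟩
  have h1 : (c : Matrix (Fin n) (Fin n) F) * ((g : Matrix (Fin n) (Fin n) F) - 1)
      = (((c * g * c⁻¹ : Matrix.GeneralLinearGroup (Fin n) F) : Matrix (Fin n) (Fin n) F) - 1)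
        * (c : Matrix (Fin n) (Fin n) F) := by
    rw [sub_mul, one_mul, mul_sub, mul_one, ← Units.val_mul, ← Units.val_mul]
    simp
  have h2 := congrArg (fun M => Matrix.toLin' M x) h1
  simp only [Matrix.toLin'_mul, LinearMap.coe_comp, Function.comp_apply] at h2
  exact h2

theorem isConj_of_nilPart (g g' : Matrix.GeneralLinearGroup (Fin n) F)
    (φ : (Fin n → F) ≃ₗ[F] (Fin n → F)) (hφ : ∀ x, φ (nilPart g x) = nilPart g' (φ x)) :
    IsConj g g' := by
  let Φ := LinearMap.toMatrix' φ.toLinearMap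
  let Φi := LinearMap.toMatrix' φ.symm.toLinearMap
  have h1 : Φ * Φi = 1 := by
    rw [← LinearMap.toMatrix'_comp]
    simp
  have h2 : Φi * Φ = 1 := by
    rw [← LinearMap.toMatrix'_comp]
    simp
  let c : Matrix.GeneralLinearGroup (Fin n) F := ⟨Φ, Φi, h1, h2⟩
  rw [isConj_iff]
  refine ⟨c, ?_⟩
  rw [mul_inv_eq_iff_eq_mul]
  apply Units.ext
  rw [Units.val_mul, Units.val_mul]
  have key : Φ * ((g : Matrix (Fin n) (Fin n) F) - 1)
      = ((g' : Matrix (Fin n) (Fin n) F) - 1) * Φ := by
    apply Matrix.toLin'.injective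
    rw [Matrix.toLin'_mul, Matrix.toLin'_mul]
    simp only [Φ, Matrix.toLin'_toMatrix']
    apply LinearMap.ext
    intro x
    exact hφ x
  rw [mul_sub, sub_mul, mul_one, one_mul] at key
  exact sub_left_injective key

theorem exists_nilPart_eq (T : Module.End F (Fin n → F)) (hT : IsNilpotent T) :
    ∃ g : Matrix.GeneralLinearGroup (Fin n) F, nilPart g = T := by
  have hM : IsNilpotent (LinearMap.toMatrix' T) := by
    rw [← Matrix.isNilpotent_toLin'_iff, Matrix.toLin'_toMatrix']
    exact hT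
  refine ⟨hM.isUnit_one_add.unit, ?_⟩
  rw [nilPart, IsUnit.unit_spec, add_sub_cancel_left, Matrix.toLin'_toMatrix']

theorem nilPart_pow_eq_zero_iff (g : Matrix.GeneralLinearGroup (Fin n) F) (k : ℕ) :
    nilPart g ^ k = 0 ↔ ((g : Matrix (Fin n) (Fin n) F) - 1) ^ k = 0 := by
  rw [nilPart, ← Matrix.toLin'_pow]
  constructor
  · intro h
    apply Matrix.toLin'.injective
    rw [h, map_zero]
  · intro h
    rw [h, map_zero]

theorem isNilpotent_nilPart_iff (p : ℕ) [Fact p.Prime] [CharP F p]
    (g : Matrix.GeneralLinearGroup (Fin n) F) :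
    IsNilpotent (nilPart g) ↔ ∃ k : ℕ, orderOf g = p ^ k := by
  have hp : p.Prime := Fact.out
  rcases Nat.eq_zero_or_pos n with rfl | hn
  · constructor
    · intro _
      refine ⟨0, ?_⟩
      have : g = 1 := Units.ext (Subsingleton.elim _ _)
      rw [this, orderOf_one, pow_zero]
    · intro _
      refine ⟨1, ?_⟩
      rw [nilPart_pow_eq_zero_iff]
      exact Subsingleton.elim _ _
  · have hne : Nonempty (Fin n) := ⟨⟨0, hn⟩⟩
    constructor
    · rintro ⟨N, hN⟩
      rw [nilPart_pow_eq_zero_iff] at hN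
      have hpow : g ^ (p ^ N) = 1 := by
        apply Units.ext
        rw [Units.val_pow_eq_pow_val, Units.val_one]
        apply Cfsg.Agent.Helper12.pow_eq_one_of_sub_one_pow_eq_zero p
        exact pow_eq_zero_of_le (Nat.lt_pow_self hp.one_lt).le hN
      obtain ⟨i, _, hi⟩ := (Nat.dvd_prime_pow hp).mp (orderOf_dvd_of_pow_eq_one hpow)
      exact ⟨i, hi⟩
    · rintro ⟨k, hk⟩
      refine ⟨p ^ k, ?_⟩
      rw [nilPart_pow_eq_zero_iff]
      apply Cfsg.Agent.Helper12.sub_one_pow_eq_zero_of_pow_eq_one p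
      have h1 : g ^ (p ^ k) = 1 := by rw [← hk]; exact pow_orderOf_eq_one _
      have h2 := congrArg (fun u : Matrix.GeneralLinearGroup (Fin n) F =>
        (u : Matrix (Fin n) (Fin n) F)) h1
      simpa using h2

end Cfsg.Agent.Helper21.Jordan
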