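import Mathlib
import Cfsg.Agent.Helper21.Jordan5

set_option autoImplicit false

/-!
Jordan normal form of nilpotent endomorphisms, part 6: counting unipotent classes of `GL_n`.
-/

namespace Cfsg.Agent.Helper21.Jordan

open Module Submodule

variable {F : Type*} [Field F] {n : ℕ}

/-- Classes of unipotent elements satisfying a property expressed through the Jordan type
correspond to the partitions with that property. -/
theorem card_classes_eq (P : Matrix.GeneralLinearGroup (Fin n) F → Prop) (Q : Multiset ℕ → Prop)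
    (hPQ : ∀ g, P g ↔ (IsNilpotent (nilPart g) ∧ Q (jordanType (nilPart g)))) :
    Nat.card {C : ConjClasses (Matrix.GeneralLinearGroup (Fin n) F) //
        ∃ g, P g ∧ ConjClasses.mk g = C}
      = Nat.card {μ : Nat.Partition n // Q μ.parts} := by
  classical
  have hJ : ∀ g, P g → IsJordan (nilPart g) ⊤ (jordanType (nilPart g)) := fun g hg =>
    jordanType_spec _ ((hPQ g).mp hg).1
  let Ψ : {C : ConjClasses (Matrix.GeneralLinearGroup (Fin n) F) //
        ∃ g, P g ∧ ConjClasses.mk g = C} → {μ : Nat.Partition n // Q μ.parts} := fun C =>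
    ⟨⟨jordanType (nilPart (Classical.choose C.2)),
      fun {i} hi => Nat.pos_of_ne_zero (fun h0 =>
        (hJ _ (Classical.choose_spec C.2).1).zero_notMem (h0 ▸ hi)),
      by rw [(hJ _ (Classical.choose_spec C.2).1).sum_eq, Module.finrank_fin_fun]⟩,
      ((hPQ _).mp (Classical.choose_spec C.2).1).2⟩
  apply Nat.card_eq_of_bijective Ψ
  constructor
  · rintro ⟨C, hC⟩ ⟨C', hC'⟩ h
    have h1 : jordanType (nilPart (Classical.choose hC))
        = jordanType (nilPart (Classical.choose hC')) := by
      have := congrArg (fun μ : {μ : Nat.Partition n // Q μ.parts} => μ.1.parts) h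
      exact this
    have hs := Classical.choose_spec hC
    have hs' := Classical.choose_spec hC'
    have hj := hJ _ hs.1
    have hj' := hJ _ hs'.1
    rw [h1] at hj
    obtain ⟨φ, hφ⟩ := hj.exists_conj hj'
    have hconj := isConj_of_nilPart _ _ φ hφ
    apply Subtype.ext
    show C = C'
    rw [← hs.2, ← hs'.2, ConjClasses.mk_eq_mk_iff_isConj]
    exact hconj
  · rintro ⟨μ, hμ⟩
    have h0 : (0 : ℕ) ∉ μ.parts := fun h => by
      have := μ.parts_pos h
      omega
    obtain ⟨T, hT⟩ := exists_isJordan_of_sum_eq (K := F) (V := Fin n → F) μ.parts h0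
      (by rw [μ.parts_sum, Module.finrank_fin_fun])
    obtain ⟨g, hg⟩ := exists_nilPart_eq T hT.isNilpotent
    have hPg : P g := by
      rw [hPQ, hg]
      refine ⟨hT.isNilpotent, ?_⟩
      rw [jordanType_eq hT]
      exact hμ
    have hC : ∃ g', P g' ∧ ConjClasses.mk g' = ConjClasses.mk g := ⟨g, hPg, rfl⟩
    refine ⟨⟨ConjClasses.mk g, hC⟩, ?_⟩
    apply Subtype.ext
    apply Nat.Partition.ext
    show jordanType (nilPart (Classical.choose hC)) = μ.parts
    have hs := Classical.choose_spec hC
    rw [ConjClasses.mk_eq_mk_iff_isConj, isConj_comm, isConj_iff] at hs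
    obtain ⟨c, hc⟩ := hs.2
    obtain ⟨φ, hφ⟩ := nilPart_conj g c
    rw [hc] at hφ
    rw [← hg] at hT
    exact jordanType_eq (hT.conj _ φ hφ)

end Cfsg.Agent.Helper21.Jordan
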