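import Mathlib
import Cfsg.Agent.Helper21.Jordan5

set_option autoImplicit false

/-!
Jordan normal form of nilpotent endomorphisms, part 7: direct sums of invariant subspaces.
-/

namespace Cfsg.Agent.Helper21.Jordan

open Module Submodule

variable {K : Type*} [Field K]
variable {V : Type*} [AddCommGroup V] [Module K V]

/-- index equivalence used to add two families of blocks -/
def sumSigmaEquiv {ι₁ ι₂ : Type} (d₁ : ι₁ → ℕ) (d₂ : ι₂ → ℕ) :
    (Σ i : ι₁ ⊕ ι₂, Fin (Sum.elim d₁ d₂ i)) ≃ (Σ i : ι₁, Fin (d₁ i)) ⊕ (Σ i : ι₂, Fin (d₂ i)) where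
  toFun x := match x with
    | ⟨Sum.inl i, j⟩ => Sum.inl ⟨i, j⟩
    | ⟨Sum.inr i, j⟩ => Sum.inr ⟨i, j⟩
  invFun y := match y with
    | Sum.inl ⟨i, j⟩ => ⟨Sum.inl i, j⟩
    | Sum.inr ⟨i, j⟩ => ⟨Sum.inr i, j⟩
  left_inv := by
    rintro ⟨(i | i), j⟩ <;> rfl
  right_inv := by
    rintro (⟨i, j⟩ | ⟨i, j⟩) <;> rfl

theorem fam_sum (T : Module.End K V) {ι₁ ι₂ : Type} (d₁ : ι₁ → ℕ) (d₂ : ι₂ → ℕ)
    (v₁ : ι₁ → V) (v₂ : ι₂ → V) :
    fam T (Sum.elim d₁ d₂) (Sum.elim v₁ v₂)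
      = Sum.elim (fam T d₁ v₁) (fam T d₂ v₂) ∘ sumSigmaEquiv d₁ d₂ := by
  funext x
  rcases x with ⟨(i | i), j⟩ <;> rfl

/-- Jordan data on independent invariant subspaces add up. -/
theorem IsJordan.sup {T : Module.End K V} {U W : Submodule K V} {μ₁ μ₂ : Multiset ℕ}
    (h₁ : IsJordan T U μ₁) (h₂ : IsJordan T W μ₂) (hdisj : Disjoint U W) :
    IsJordan T (U ⊔ W) (μ₁ + μ₂) := by
  obtain ⟨ι₁, _, d₁, v₁, hμ₁, hpos₁, hli₁, hspan₁, hkill₁⟩ := h₁
  obtain ⟨ι₂, _, d₂, v₂, hμ₂, hpos₂, hli₂, hspan₂, hkill₂⟩ := h₂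
  refine ⟨ι₁ ⊕ ι₂, inferInstance, Sum.elim d₁ d₂, Sum.elim v₁ v₂, ?_, ?_, ?_, ?_, ?_⟩
  · rw [← hμ₁, ← hμ₂, ← Finset.univ_disjSum_univ, Finset.val_disjSum, Multiset.disjSum,
      Multiset.map_add, Multiset.map_map, Multiset.map_map]
    rfl
  · rintro (i | i)
    · exact hpos₁ i
    · exact hpos₂ i
  · rw [fam_sum]
    refine LinearIndependent.comp ?_ _ (Equiv.injective _)
    exact LinearIndependent.sum_type hli₁ hli₂ (by rw [hspan₁, hspan₂]; exact hdisj)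
  · rw [fam_sum, EquivLike.range_comp, Set.Sum.elim_range, span_union, hspan₁, hspan₂]
  · rintro (i | i)
    · exact hkill₁ i
    · exact hkill₂ i

theorem IsJordan.sum_eq_finrank {T : Module.End K V} {W : Submodule K V} {μ : Multiset ℕ}
    (h : IsJordan T W μ) : μ.sum = finrank K W := by
  obtain ⟨ι, _, d, v, hμ, hpos, hli, hspan, hkill⟩ := h
  rw [← hspan, finrank_span_eq_card hli, Fintype.card_sigma, ← hμ]
  simp only [Fintype.card_fin]
  rfl

/-- The Jordan type splits along a decomposition into invariant complements. -/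
theorem jordanType_split [FiniteDimensional K V] (T : Module.End K V) (hT : IsNilpotent T)
    (U W : Submodule K V) (hU : ∀ x ∈ U, T x ∈ U) (hW : ∀ x ∈ W, T x ∈ W) (hc : IsCompl U W) :
    ∃ ν ν' : Multiset ℕ, jordanType T = ν + ν' ∧ ν.sum = finrank K U := by
  obtain ⟨ν, hν⟩ := exists_isJordan_aux T hT _ U hU rfl
  obtain ⟨ν', hν'⟩ := exists_isJordan_aux T hT _ W hW rfl
  have h := hν.sup hν' hc.disjoint
  rw [hc.sup_eq_top] at h
  exact ⟨ν, ν', jordanType_eq h, hν.sum_eq_finrank⟩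

theorem subSum_pred_eq_count (μ : Multiset ℕ) (p : ℕ) (hp : 1 ≤ p) (hμ : ∀ b ∈ μ, b ≤ p) :
    subSum μ (p - 1) = μ.count p := by
  induction μ using Multiset.induction_on with
  | empty => simp [subSum]
  | cons b μ ih =>
    have hb := hμ b (Multiset.mem_cons_self b μ)
    have ih' := ih (fun c hc => hμ c (Multiset.mem_cons_of_mem hc))
    simp only [subSum, Multiset.map_cons, Multiset.sum_cons, Multiset.count_cons] at ih' ⊢
    rw [ih']
    split_ifs with h <;> omega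

end Cfsg.Agent.Helper21.Jordan
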