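import Mathlib
import Cfsg.Agent.Helper21.Jordan7

set_option autoImplicit false

/-!
Jordan normal form of nilpotent endomorphisms, part 8: elements of order `p` permuting the
summands of a decomposition.
-/

namespace Cfsg.Agent.Helper21.Jordan

open Module Submodule Polynomial

variable {K : Type*} [Field K]
variable {V : Type*} [AddCommGroup V] [Module K V]

theorem poly_sub_one_pow_pred (p : ℕ) [hp : Fact p.Prime] [CharP K p] :
    ((X : K[X]) - 1) ^ (p - 1) = ∑ i ∈ Finset.range p, (X : K[X]) ^ i := by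
  have h1 : (∑ i ∈ Finset.range p, (X : K[X]) ^ i) * (X - 1) = X ^ p - 1 := geom_sum_mul _ _
  have h2 : ((X : K[X]) - 1) ^ p = X ^ p - 1 := by
    rw [sub_pow_char, one_pow]
  have h3 : ((X : K[X]) - 1) ^ (p - 1) * (X - 1) = (∑ i ∈ Finset.range p, (X : K[X]) ^ i) * (X - 1) := by
    rw [← pow_succ, Nat.sub_add_cancel hp.out.one_lt.le, h2, h1]
  have hne : ((X : K[X]) - 1) ≠ 0 := by
    have := X_sub_C_ne_zero (1 : K)
    simpa using this
  exact mul_right_cancel₀ hne h3

/-- in characteristic `p`, `(G - 1)^(p-1) = ∑_{i<p} G^i` -/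
theorem sub_one_pow_pred (p : ℕ) [Fact p.Prime] [CharP K p] (G : Module.End K V) :
    (G - 1) ^ (p - 1) = ∑ i ∈ Finset.range p, G ^ i := by
  have h := congrArg (aeval G) (poly_sub_one_pow_pred (K := K) p)
  simpa using h

theorem pow_ne_of_prime_period {t : ℕ} (σ : Equiv.Perm (Fin t)) (j : Fin t) (p : ℕ)
    (hp : p.Prime) (h1 : σ j ≠ j) (hpj : (σ ^ p) j = j) (i : ℕ) (hi0 : 0 < i) (hip : i < p) :
    (σ ^ i) j ≠ j := by
  intro hi
  have hP : Function.IsPeriodicPt σ p j := by
    rw [Function.IsPeriodicPt, Function.IsFixedPt, Equiv.Perm.iterate_eq_pow]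
    exact hpj
  have hI : Function.IsPeriodicPt σ i j := by
    rw [Function.IsPeriodicPt, Function.IsFixedPt, Equiv.Perm.iterate_eq_pow]
    exact hi
  have hg := hI.gcd hP
  have hcop : Nat.gcd i p = 1 :=
    Nat.Coprime.symm ((Nat.Prime.coprime_iff_not_dvd hp).mpr (Nat.not_dvd_of_pos_of_lt hi0 hip))
  rw [hcop] at hg
  exact h1 hg

theorem le_finrank_range_of_cycle (p : ℕ) [Fact p.Prime] [CharP K p] [FiniteDimensional K V]
    (G : Module.End K V) {t : ℕ} (D : Fin t → Submodule K V) (hind : iSupIndep D)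
    (σ : Equiv.Perm (Fin t)) (hσ : ∀ j, (D j).map G = D (σ j)) (j : Fin t)
    (hj : ∀ i, 0 < i → i < p → (σ ^ i) j ≠ j) :
    finrank K (D j) ≤ finrank K (LinearMap.range ((G - 1) ^ (p - 1))) := by
  have hp : p.Prime := Fact.out
  have hpow : ∀ (i : ℕ) (x : V), x ∈ D j → (G ^ i) x ∈ D ((σ ^ i) j) := by
    intro i
    induction i with
    | zero => intro x hx; simpa using hx
    | succ i ih =>
      intro x hx
      have h1 : (G ^ (i + 1)) x = G ((G ^ i) x) := by
        rw [pow_succ', Module.End.mul_apply]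
      have h2 : (σ ^ (i + 1)) j = σ ((σ ^ i) j) := by
        rw [pow_succ', Equiv.Perm.mul_apply]
      rw [h1, h2, ← hσ]
      exact Submodule.mem_map_of_mem (ih x hx)
  rw [sub_one_pow_pred p G]
  set N : Module.End K V := ∑ i ∈ Finset.range p, G ^ i with hN
  have hinj : Function.Injective (N.domRestrict (D j)) := by
    rw [← LinearMap.ker_eq_bot, LinearMap.ker_eq_bot']
    rintro ⟨x, hx⟩ hNx
    rw [LinearMap.domRestrict_apply] at hNx
    simp only at hNx
    have hx' : x = - ∑ i ∈ Finset.Ico 1 p, (G ^ i) x := by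
      rw [hN, LinearMap.sum_apply, Finset.range_eq_Ico,
        Finset.sum_eq_sum_Ico_succ_bot hp.pos, pow_zero] at hNx
      rw [eq_neg_iff_add_eq_zero]
      simpa using hNx
    have hmem : x ∈ ⨆ (k : Fin t) (_ : k ≠ j), D k := by
      rw [hx']
      apply Submodule.neg_mem
      apply Submodule.sum_mem
      intro i hi
      rw [Finset.mem_Ico] at hi
      exact (le_iSup₂ (f := fun (k : Fin t) (_ : k ≠ j) => D k) ((σ ^ i) j)
        (hj i (by omega) hi.2)) (hpow i x hx)
    have := (Submodule.disjoint_def.mp (hind j)) x hx hmem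
    exact Subtype.ext this
  have h1 := LinearMap.finrank_range_of_inj hinj
  rw [← h1]
  apply Submodule.finrank_mono
  rintro _ ⟨y, rfl⟩
  exact ⟨y, rfl⟩

end Cfsg.Agent.Helper21.Jordan
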