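import Mathlib
import Cfsg.Agent.Helper21.Jordan8
import Cfsg.Prelude.Def_GeometricClasses

set_option autoImplicit false

/-!
Jordan normal form, part 9: `p`-elements of `SL_n` and equidimensional decompositions.
-/

namespace Cfsg.Agent.Helper21.Jordan

open Module Submodule

variable {F : Type*} [Field F] {n : ℕ}

theorem nilPart_eq_sub_one (g : Matrix.GeneralLinearGroup (Fin n) F) :
    nilPart g = Matrix.toLin' (g : Matrix (Fin n) (Fin n) F) - 1 := by
  rw [nilPart, map_sub, Matrix.toLin'_one]
  rfl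

theorem pow_prime_eq_one_iff_nilPart {p : ℕ} [Fact p.Prime] [CharP F p]
    (g : Matrix.GeneralLinearGroup (Fin n) F) : g ^ p = 1 ↔ nilPart g ^ p = 0 := by
  rw [nilPart_pow_eq_zero_iff]
  rcases Nat.eq_zero_or_pos n with rfl | hn
  · constructor
    · intro _
      exact Subsingleton.elim _ _
    · intro _
      exact Units.ext (Subsingleton.elim _ _)
  · have hne : Nonempty (Fin n) := ⟨⟨0, hn⟩⟩
    constructor
    · intro h
      have h2 := congrArg (fun u : Matrix.GeneralLinearGroup (Fin n) F =>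
        (u : Matrix (Fin n) (Fin n) F)) h
      simp only [Units.val_pow_eq_pow_val, Units.val_one] at h2
      have := Cfsg.Agent.Helper12.sub_one_pow_eq_zero_of_pow_eq_one p
        (g : Matrix (Fin n) (Fin n) F) 1 (by rwa [pow_one])
      rwa [pow_one] at this
    · intro h
      apply Units.ext
      rw [Units.val_pow_eq_pow_val, Units.val_one]
      have := Cfsg.Agent.Helper12.pow_eq_one_of_sub_one_pow_eq_zero p
        (g : Matrix (Fin n) (Fin n) F) 1 (by rwa [pow_one])
      rwa [pow_one] at this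

theorem eq_replicate_of_le_one (μ : Multiset ℕ) (hpos : ∀ b ∈ μ, 0 < b) (h : ∀ b ∈ μ, b ≤ 1) :
    μ = Multiset.replicate μ.sum 1 := by
  have h1 : ∀ b ∈ μ, b = 1 := fun b hb => by
    have := h b hb
    have := hpos b hb
    omega
  have h2 : μ = Multiset.replicate (Multiset.card μ) 1 := Multiset.eq_replicate_card.mpr h1
  have h3 : μ.sum = Multiset.card μ := by
    conv_lhs => rw [h2]
    rw [Multiset.sum_replicate, smul_eq_mul, mul_one]
  rw [h3]
  exact h2

/-- a unipotent element of prescribed Jordan type with all parts at most `p` -/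
theorem exists_unipotent_of_type {p : ℕ} [Fact p.Prime] [CharP F p] (hn : 1 ≤ n)
    (μ : Multiset ℕ) (hμ : ∀ b ∈ μ, 0 < b ∧ b ≤ p) (hsum : μ.sum = n)
    (hne : ¬ ∀ b ∈ μ, b ≤ 1) :
    ∃ g : Matrix.GeneralLinearGroup (Fin n) F, IsJordan (nilPart g) ⊤ μ ∧ g ^ p = 1 ∧
      (g : Matrix (Fin n) (Fin n) F).det = 1 ∧
      ∀ z : F, (g : Matrix (Fin n) (Fin n) F) ≠ z • (1 : Matrix (Fin n) (Fin n) F) := by
  have h0 : (0 : ℕ) ∉ μ := fun h => by
    have := (hμ 0 h).1
    omega
  obtain ⟨T, hT⟩ := exists_isJordan_of_sum_eq (K := F) (V := Fin n → F) μ h0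
    (by rw [hsum, Module.finrank_fin_fun])
  obtain ⟨g, hg⟩ := exists_nilPart_eq T hT.isNilpotent
  rw [← hg] at hT
  have hgp : g ^ p = 1 := by
    rw [pow_prime_eq_one_iff_nilPart, hT.pow_eq_zero_iff]
    exact fun b hb => (hμ b hb).2
  refine ⟨g, hT, hgp, ?_, ?_⟩
  · have h1 : (g : Matrix (Fin n) (Fin n) F).det ^ p = 1 ^ p := by
      rw [← Matrix.det_pow, ← Units.val_pow_eq_pow_val, hgp, Units.val_one, Matrix.det_one,
        one_pow]
    exact frobenius_inj F p h1
  · intro z hz
    apply hne
    rw [← hT.pow_eq_zero_iff, pow_one]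
    have hnil : IsNilpotent (nilPart g) := hT.isNilpotent
    have h2 : nilPart g = (z - 1) • (1 : Module.End F (Fin n → F)) := by
      rw [nilPart, hz, ← one_smul F (1 : Matrix (Fin n) (Fin n) F), smul_smul, mul_one,
        ← sub_smul, map_smul, Matrix.toLin'_one]
      rfl
    obtain ⟨N, hN⟩ := hnil
    rw [h2, smul_pow, one_pow] at hN
    have hne1 : (1 : Module.End F (Fin n → F)) ≠ 0 := by
      have : Nontrivial (Fin n → F) := by
        have : Nonempty (Fin n) := ⟨⟨0, hn⟩⟩
        infer_instance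
      exact one_ne_zero
    have h3 : (z - 1) ^ N = 0 := by
      rcases smul_eq_zero.mp hN with h | h
      · exact h
      · exact absurd h hne1
    have h4 : z - 1 = 0 := pow_eq_zero_iff (by
      rintro rfl
      simp at h3) |>.mp h3
    rw [h2, h4, zero_smul]

/-- the key dichotomy: an element of order `p` permuting the summands of a decomposition -/
theorem exists_sub_partition {p : ℕ} [Fact p.Prime] [CharP F p] (a t : ℕ) (ht : 2 ≤ t)
    (g : Matrix.GeneralLinearGroup (Fin n) F) (μ : Multiset ℕ)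
    (hJ : IsJordan (nilPart g) ⊤ μ) (hgp : g ^ p = 1) (hμ : ∀ b ∈ μ, b ≤ p)
    (hcount : μ.count p < a)
    (D : Fin t → Submodule F (Fin n → F)) (hD : Cfsg.Geo.IsMDecomposition a D)
    (σ : Equiv.Perm (Fin t))
    (hσ : ∀ j, (D j).map (Matrix.toLin' (g : Matrix (Fin n) (Fin n) F)) = D (σ j)) :
    ∃ ν : Multiset ℕ, ν ≤ μ ∧ ν.sum = a := by
  have hp : p.Prime := Fact.out
  set G : Module.End F (Fin n → F) := Matrix.toLin' (g : Matrix (Fin n) (Fin n) F) with hG
  have hT : nilPart g = G - 1 := nilPart_eq_sub_one g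
  have hnil : IsNilpotent (nilPart g) := hJ.isNilpotent
  by_cases hσ1 : ∀ j, σ j = j
  · -- all summands invariant
    have hGinv : ∀ k, ∀ x ∈ D k, G x ∈ D k := by
      intro k x hx
      have : G x ∈ (D k).map G := Submodule.mem_map_of_mem hx
      rwa [hσ k, hσ1 k] at this
    have hTinv : ∀ k, ∀ x ∈ D k, nilPart g x ∈ D k := by
      intro k x hx
      rw [hT, LinearMap.sub_apply]
      exact Submodule.sub_mem _ (hGinv k x hx) hx
    let j0 : Fin t := ⟨0, by omega⟩
    have hW : ∀ x ∈ ⨆ (k : Fin t) (_ : k ≠ j0), D k,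
        nilPart g x ∈ ⨆ (k : Fin t) (_ : k ≠ j0), D k := by
      have hle : (⨆ (k : Fin t) (_ : k ≠ j0), D k)
          ≤ (⨆ (k : Fin t) (_ : k ≠ j0), D k).comap (nilPart g) := by
        apply iSup₂_le
        intro k hk x hx
        rw [Submodule.mem_comap]
        exact (le_iSup₂ (f := fun (k : Fin t) (_ : k ≠ j0) => D k) k hk) (hTinv k x hx)
      exact fun x hx => hle hx
    have hc : IsCompl (D j0) (⨆ (k : Fin t) (_ : k ≠ j0), D k) := by
      refine ⟨hD.indep j0, codisjoint_iff.mpr ?_⟩
      rw [← iSup_split_single]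
      exact hD.iSup_eq_top
    obtain ⟨ν, ν', hνν', hνsum⟩ := jordanType_split (nilPart g) hnil (D j0) _ (hTinv j0) hW hc
    rw [jordanType_eq hJ] at hνν'
    refine ⟨ν, ?_, ?_⟩
    · rw [hνν']
      exact Multiset.le_add_right ν ν'
    · rw [hνsum, hD.finrank_eq]
  · -- some summand is moved: contradiction
    exfalso
    push Not at hσ1
    obtain ⟨j, hj⟩ := hσ1
    have hne : ∀ i, D i ≠ ⊥ := by
      intro i hi
      have := hD.finrank_eq i
      rw [hi, finrank_bot] at this
      have := hD.pos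
      omega
    have hinj : Function.Injective D := hD.indep.injective hne
    have hpowG : ∀ i : ℕ, (D j).map (G ^ i) = D ((σ ^ i) j) := by
      intro i
      induction i with
      | zero =>
        simp only [pow_zero, Equiv.Perm.coe_one, id_eq]
        exact Submodule.map_id _
      | succ i ih =>
        have h2 : (σ ^ (i + 1)) j = σ ((σ ^ i) j) := by
          rw [pow_succ', Equiv.Perm.mul_apply]
        rw [pow_succ', Module.End.mul_eq_comp, Submodule.map_comp, ih, hσ, h2]
    have hGp : G ^ p = 1 := by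
      rw [hG, ← Matrix.toLin'_pow, ← Units.val_pow_eq_pow_val, hgp, Units.val_one,
        Matrix.toLin'_one]
      rfl
    have hpj : (σ ^ p) j = j := by
      apply hinj
      rw [← hpowG p, hGp]
      exact Submodule.map_id _
    have hcyc := pow_ne_of_prime_period σ j p hp hj hpj
    have h1 := le_finrank_range_of_cycle p G D hD.indep σ hσ j hcyc
    rw [← hT, hJ.finrank_range_pow, subSum_pred_eq_count μ p hp.one_lt.le hμ, hD.finrank_eq] at h1
    omega

end Cfsg.Agent.Helper21.Jordan
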