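import Mathlib

set_option autoImplicit false
set_option linter.unusedSectionVars false
set_option linter.unusedVariables false

/-! # K2P chapter B (helper21): the pigeonhole for `B.FOUR`: among `t ≥ 7` nonzero elements of a finite field there are
four (with distinct indices, plus a fifth index) whose product is a square.  Pure; all characteristics. -/

namespace Cfsg.Agent.K2P

variable {F : Type*} [Field F] [Fintype F]

/-- the product of two nonzero elements of the same square class of a finite field is a square -/
theorem PIGEON.isSquare_mul {a b : F} (ha : a ≠ 0) (hb : b ≠ 0) (h : IsSquare a ↔ IsSquare b) :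
    IsSquare (a * b) := by
  classical
  by_cases h2 : ringChar F = 2
  · exact FiniteField.isSquare_of_char_two h2 _
  · by_cases hsa : IsSquare a
    · exact hsa.mul (h.mp hsa)
    · have hsb : ¬ IsSquare b := fun hb' => hsa (h.mpr hb')
      have h1 : quadraticChar F a = -1 := (quadraticChar_neg_one_iff_not_isSquare).mpr hsa
      have h1' : quadraticChar F b = -1 := (quadraticChar_neg_one_iff_not_isSquare).mpr hsb
      have h3 : quadraticChar F (a * b) = 1 := by
        rw [map_mul, h1, h1']; norm_num
      exact (quadraticChar_one_iff_isSquare (mul_ne_zero ha hb)).mp h3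

/-- the pigeonhole -/
theorem PIGEON.main {t : ℕ} (ht : 7 ≤ t) (n : Fin t → F) (hn : ∀ l, n l ≠ 0) :
    ∃ c : Fin 5 → Fin t, Function.Injective c ∧
      IsSquare (n (c 0) * n (c 1) * n (c 2) * n (c 3)) := by
  classical
  -- a class with at least four members
  obtain ⟨S, hScard, hS⟩ : ∃ S : Finset (Fin t), 4 ≤ S.card ∧
      ∀ x ∈ S, ∀ y ∈ S, (IsSquare (n x) ↔ IsSquare (n y)) := by
    have hsum := Finset.card_filter_add_card_filter_not
      (s := (Finset.univ : Finset (Fin t))) (fun l => IsSquare (n l))
    rw [Finset.card_univ, Fintype.card_fin] at hsum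
    by_cases h4 : 4 ≤ (Finset.univ.filter (fun l : Fin t => IsSquare (n l))).card
    · refine ⟨_, h4, fun x hx y hy => ?_⟩
      rw [Finset.mem_filter] at hx hy
      exact ⟨fun _ => hy.2, fun _ => hx.2⟩
    · refine ⟨Finset.univ.filter (fun l : Fin t => ¬ IsSquare (n l)), by omega, fun x hx y hy => ?_⟩
      rw [Finset.mem_filter] at hx hy
      exact ⟨fun h => absurd h hx.2, fun h => absurd h hy.2⟩
  obtain ⟨T, hTS, hT⟩ := Finset.exists_subset_card_eq hScard
  -- a fifth index
  obtain ⟨x, hx⟩ : ∃ x : Fin t, x ∉ T := by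
    by_contra hcon
    push Not at hcon
    have : (Finset.univ : Finset (Fin t)) ⊆ T := fun y _ => hcon y
    have hc := Finset.card_le_card this
    rw [Finset.card_univ, Fintype.card_fin] at hc
    omega
  set emb := T.orderEmbOfFin hT with hemb
  have hmem : ∀ s : Fin 4, emb s ∈ T := fun s => Finset.orderEmbOfFin_mem T hT s
  refine ⟨Fin.snoc (fun s : Fin 4 => emb s) x, ?_, ?_⟩
  · -- injective
    intro s s' hss
    induction s using Fin.lastCases with
    | last =>
      induction s' using Fin.lastCases with
      | last => rfl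
      | cast s' =>
        rw [Fin.snoc_last, Fin.snoc_castSucc] at hss
        exact absurd (hss ▸ hmem s') hx
    | cast s =>
      induction s' using Fin.lastCases with
      | last =>
        rw [Fin.snoc_last, Fin.snoc_castSucc] at hss
        exact absurd (hss.symm ▸ hmem s) hx
      | cast s' =>
        rw [Fin.snoc_castSucc, Fin.snoc_castSucc] at hss
        rw [emb.injective hss]
  · have h0 : (Fin.snoc (fun s : Fin 4 => emb s) x : Fin 5 → Fin t) 0 = emb 0 :=
      Fin.snoc_castSucc (α := fun _ => Fin t) x (fun s : Fin 4 => emb s) 0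
    have h1 : (Fin.snoc (fun s : Fin 4 => emb s) x : Fin 5 → Fin t) 1 = emb 1 :=
      Fin.snoc_castSucc (α := fun _ => Fin t) x (fun s : Fin 4 => emb s) 1
    have h2 : (Fin.snoc (fun s : Fin 4 => emb s) x : Fin 5 → Fin t) 2 = emb 2 :=
      Fin.snoc_castSucc (α := fun _ => Fin t) x (fun s : Fin 4 => emb s) 2
    have h3 : (Fin.snoc (fun s : Fin 4 => emb s) x : Fin 5 → Fin t) 3 = emb 3 :=
      Fin.snoc_castSucc (α := fun _ => Fin t) x (fun s : Fin 4 => emb s) 3
    rw [h0, h1, h2, h3]
    have e01 := PIGEON.isSquare_mul (hn (emb 0)) (hn (emb 1))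
      (hS _ (hTS (hmem 0)) _ (hTS (hmem 1)))
    have e23 := PIGEON.isSquare_mul (hn (emb 2)) (hn (emb 3))
      (hS _ (hTS (hmem 2)) _ (hTS (hmem 3)))
    have := e01.mul e23
    rw [← mul_assoc] at this
    exact this

end Cfsg.Agent.K2P
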