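import Mathlib

set_option autoImplicit false
set_option linter.style.haveILetI false
set_option linter.unusedSectionVars false

namespace Cfsg.Agent.Helper21

open Subgroup

section
variable {A : Type*} [Group A]

/-- An endomorphism commuting with all inner automorphisms. -/
def IsNormalEndo (φ : A →* A) : Prop := ∀ a x : A, φ (a * x * a⁻¹) = a * φ x * a⁻¹

theorem IsNormalEndo.comp {φ ψ : A →* A} (hφ : IsNormalEndo φ) (hψ : IsNormalEndo ψ) :
    IsNormalEndo (φ.comp ψ) := by
  intro a x
  rw [MonoidHom.comp_apply, MonoidHom.comp_apply, hψ, hφ]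

theorem IsNormalEndo.iterate {φ : A →* A} (hφ : IsNormalEndo φ) (k : ℕ) (a x : A) :
    (⇑φ)^[k] (a * x * a⁻¹) = a * (⇑φ)^[k] x * a⁻¹ := by
  induction k generalizing x with
  | zero => rfl
  | succ k ih => rw [Function.iterate_succ_apply, Function.iterate_succ_apply, hφ, ih]

theorem iterate_map_mul' (φ : A →* A) (k : ℕ) (x y : A) :
    (⇑φ)^[k] (x * y) = (⇑φ)^[k] x * (⇑φ)^[k] y := by
  induction k generalizing x y with
  | zero => rfl
  | succ k ih => rw [Function.iterate_succ_apply, Function.iterate_succ_apply,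
      Function.iterate_succ_apply, map_mul, ih]

theorem iterate_map_one' (φ : A →* A) (k : ℕ) : (⇑φ)^[k] 1 = 1 := by
  induction k with
  | zero => rfl
  | succ k ih => rw [Function.iterate_succ_apply, map_one, ih]

theorem iterate_map_inv' (φ : A →* A) (k : ℕ) (x : A) : (⇑φ)^[k] x⁻¹ = ((⇑φ)^[k] x)⁻¹ := by
  induction k generalizing x with
  | zero => rfl
  | succ k ih => rw [Function.iterate_succ_apply, Function.iterate_succ_apply, map_inv, ih]

/-- Kernel of the `k`-th iterate. -/
def iterKer (φ : A →* A) (k : ℕ) : Subgroup A where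
  carrier := {x | (⇑φ)^[k] x = 1}
  one_mem' := iterate_map_one' φ k
  mul_mem' := by
    intro x y hx hy
    simp only [Set.mem_ofPred_eq] at hx hy ⊢
    rw [iterate_map_mul', hx, hy, one_mul]
  inv_mem' := by
    intro x hx
    simp only [Set.mem_ofPred_eq] at hx ⊢
    rw [iterate_map_inv', hx, inv_one]

/-- Image of the `k`-th iterate. -/
def iterRange (φ : A →* A) (k : ℕ) : Subgroup A where
  carrier := {x | ∃ y, (⇑φ)^[k] y = x}
  one_mem' := ⟨1, iterate_map_one' φ k⟩
  mul_mem' := by
    rintro _ _ ⟨x, rfl⟩ ⟨y, rfl⟩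
    exact ⟨x * y, iterate_map_mul' φ k x y⟩
  inv_mem' := by
    rintro _ ⟨x, rfl⟩
    exact ⟨x⁻¹, iterate_map_inv' φ k x⟩

theorem mem_iterKer (φ : A →* A) (k : ℕ) (x : A) : x ∈ iterKer φ k ↔ (⇑φ)^[k] x = 1 := Iff.rfl

theorem mem_iterRange (φ : A →* A) (k : ℕ) (x : A) :
    x ∈ iterRange φ k ↔ ∃ y, (⇑φ)^[k] y = x := Iff.rfl

theorem iterKer_mono (φ : A →* A) : Monotone (iterKer φ) := by
  apply monotone_nat_of_le_succ
  intro k x hx
  rw [mem_iterKer] at hx ⊢
  rw [Function.iterate_succ_apply', hx, map_one]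

theorem iterRange_anti (φ : A →* A) : Antitone (iterRange φ) := by
  apply antitone_nat_of_succ_le
  intro k x hx
  rw [mem_iterRange] at hx ⊢
  obtain ⟨y, rfl⟩ := hx
  exact ⟨φ y, by rw [Function.iterate_succ_apply]⟩

theorem iterKer_normal {φ : A →* A} (k : ℕ) : (iterKer φ k).Normal := by
  constructor
  intro x hx a
  rw [mem_iterKer] at hx ⊢
  rw [iterate_map_mul', iterate_map_mul', hx, mul_one, iterate_map_inv', mul_inv_cancel]

theorem iterRange_normal {φ : A →* A} (hφ : IsNormalEndo φ) (k : ℕ) : (iterRange φ k).Normal := by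
  constructor
  rintro _ ⟨y, rfl⟩ a
  exact ⟨a * y * a⁻¹, hφ.iterate k a y⟩

/-- **Fitting's lemma** for a normal endomorphism of a finite group: there is `k` such that
`ker φ^k` and `im φ^k` are complementary normal subgroups. -/
theorem fitting_decomp [Finite A] {φ : A →* A} (hφ : IsNormalEndo φ) :
    ∃ k : ℕ, 1 ≤ k ∧ (iterKer φ k).Normal ∧ (iterRange φ k).Normal ∧
      iterKer φ k ⊓ iterRange φ k = ⊥ ∧ iterKer φ k ⊔ iterRange φ k = ⊤ := by
  obtain ⟨n₁, hn₁⟩ := WellFoundedGT.monotone_chain_condition
    (⟨iterKer φ, iterKer_mono φ⟩ : ℕ →o Subgroup A)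
  obtain ⟨n₂, hn₂⟩ := WellFoundedGT.monotone_chain_condition
    (⟨fun k => OrderDual.toDual (iterRange φ k), fun a b hab => iterRange_anti φ hab⟩ :
      ℕ →o (Subgroup A)ᵒᵈ)
  simp only [OrderHom.coe_mk] at hn₁ hn₂
  set k := max n₁ n₂ + 1 with hk
  have hk1 : n₁ ≤ k := by have := le_max_left n₁ n₂; omega
  have hk2 : n₂ ≤ k := by have := le_max_right n₁ n₂; omega
  have hK : iterKer φ (k + k) = iterKer φ k := by
    rw [← hn₁ k hk1, ← hn₁ (k + k) (le_trans hk1 (Nat.le_add_right _ _))]
  have hR : iterRange φ (k + k) = iterRange φ k := by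
    have h1 := hn₂ k hk2
    have h2 := hn₂ (k + k) (le_trans hk2 (Nat.le_add_right _ _))
    have h1' : iterRange φ n₂ = iterRange φ k := h1
    have h2' : iterRange φ n₂ = iterRange φ (k + k) := h2
    rw [← h2', h1']
  refine ⟨k, by omega, iterKer_normal k, iterRange_normal hφ k, ?_, ?_⟩
  · rw [eq_bot_iff]
    rintro x ⟨hx1, hx2⟩
    replace hx1 : x ∈ iterKer φ k := hx1
    replace hx2 : x ∈ iterRange φ k := hx2
    rw [mem_iterKer] at hx1
    rw [mem_iterRange] at hx2
    obtain ⟨y, rfl⟩ := hx2
    rw [← Function.iterate_add_apply] at hx1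
    have : y ∈ iterKer φ (k + k) := hx1
    rw [hK, mem_iterKer] at this
    rw [Subgroup.mem_bot]
    exact this
  · rw [eq_top_iff]
    intro a _
    have h1 : (⇑φ)^[k] a ∈ iterRange φ k := ⟨a, rfl⟩
    rw [← hR, mem_iterRange] at h1
    obtain ⟨b, hb⟩ := h1
    rw [Function.iterate_add_apply] at hb
    have ha : a = (a * ((⇑φ)^[k] b)⁻¹) * (⇑φ)^[k] b := by group
    rw [ha]
    apply Subgroup.mul_mem_sup
    · rw [mem_iterKer, iterate_map_mul', iterate_map_inv', hb, mul_inv_cancel]
    · exact ⟨b, rfl⟩

/-- Direct indecomposability in the form used by the statement. -/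
def Indecomp (A : Type*) [Group A] : Prop :=
  ∀ H K : Subgroup A, H.Normal → K.Normal → H ⊓ K = ⊥ → H ⊔ K = ⊤ → H = ⊥ ∨ K = ⊥

/-- A normal endomorphism of a finite indecomposable group is injective or nilpotent. -/
theorem injective_or_nilpotent [Finite A] (hA : Indecomp A) {φ : A →* A} (hφ : IsNormalEndo φ) :
    Function.Injective φ ∨ ∃ k : ℕ, ∀ x : A, (⇑φ)^[k] x = 1 := by
  obtain ⟨k, hk1, hKn, hRn, hinf, hsup⟩ := fitting_decomp hφ
  rcases hA _ _ hKn hRn hinf hsup with h | h
  · left
    rw [injective_iff_map_eq_one]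
    intro x hx
    have : x ∈ iterKer φ k := by
      apply iterKer_mono φ hk1
      rw [mem_iterKer]
      exact hx
    rw [h, Subgroup.mem_bot] at this
    exact this
  · right
    refine ⟨k, fun x => ?_⟩
    have : (⇑φ)^[k] x ∈ iterRange φ k := ⟨x, rfl⟩
    rw [h, Subgroup.mem_bot] at this
    exact this

theorem isNormalEndo_of_decomp {B : Type*} [Group B] (α : A →* B) (β : B →* A)
    (h : ∀ a : A, ∃ c : A, a = β (α a) * c ∧ ∀ b : B, Commute c (β b)) :
    IsNormalEndo (β.comp α) := by
  intro a x
  obtain ⟨c, hc, hcomm⟩ := h a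
  have h1 : (β.comp α) a = a * c⁻¹ := by
    rw [MonoidHom.comp_apply]
    rw [eq_mul_inv_iff_mul_eq]
    exact hc.symm
  rw [map_mul, map_mul, map_inv, h1]
  have h2 : c⁻¹ * (β.comp α) x * c = (β.comp α) x := by
    have := (hcomm (α x)).eq
    rw [MonoidHom.comp_apply, mul_assoc, ← this, ← mul_assoc, inv_mul_cancel, one_mul]
  calc a * c⁻¹ * (β.comp α) x * (a * c⁻¹)⁻¹
      = a * (c⁻¹ * (β.comp α) x * c) * a⁻¹ := by group
    _ = a * (β.comp α) x * a⁻¹ := by rw [h2]

theorem IsNormalEndo.symm_of_bijective {φ : A →* A} (hφ : IsNormalEndo φ)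
    (hb : Function.Bijective φ) :
    IsNormalEndo (MulEquiv.ofBijective φ hb).symm.toMonoidHom := by
  intro a x
  set E := MulEquiv.ofBijective φ hb with hE
  show E.symm (a * x * a⁻¹) = a * E.symm x * a⁻¹
  apply E.injective
  rw [MulEquiv.apply_symm_apply]
  show a * x * a⁻¹ = φ (a * E.symm x * a⁻¹)
  rw [hφ]
  have : φ (E.symm x) = x := E.apply_symm_apply x
  rw [this]

theorem iterate_comp_succ {B : Type*} (α : A → B) (β : B → A) (k : ℕ) (a : A) :
    (β ∘ α)^[k + 1] a = β ((α ∘ β)^[k] (α a)) := by
  induction k generalizing a with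
  | zero => rfl
  | succ k ih =>
    rw [Function.iterate_succ_apply, ih, Function.iterate_succ_apply]
    rfl

end

section Match
variable {A X ι : Type*} [Fintype ι] [DecidableEq ι] {B : ι → Type*} [Group A] [Group X]
  [∀ j, Group (B j)]

/-- Keep the coordinates in `S`, kill the others. -/
def maskHom (B : ι → Type*) [∀ j, Group (B j)] (S : Finset ι) :
    ((j : ι) → B j) →* ((j : ι) → B j) where
  toFun f := fun j => if j ∈ S then f j else 1
  map_one' := by funext j; by_cases h : j ∈ S <;> simp [h]
  map_mul' := by intro f g; funext j; by_cases h : j ∈ S <;> simp [h]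

theorem maskHom_apply (S : Finset ι) (f : (j : ι) → B j) (j : ι) :
    maskHom B S f j = if j ∈ S then f j else 1 := rfl

theorem maskHom_commute (S : Finset ι) (f g : (j : ι) → B j) :
    Commute (maskHom B S f) (maskHom B Sᶜ g) := by
  show _ * _ = _ * _
  funext j
  by_cases h : j ∈ S <;> simp [maskHom_apply, h]

theorem maskHom_mul_compl (S : Finset ι) (f : (j : ι) → B j) :
    maskHom B S f * maskHom B Sᶜ f = f := by
  funext j
  by_cases h : j ∈ S <;> simp [maskHom_apply, h]

theorem maskHom_insert (S : Finset ι) (t : ι) (ht : t ∉ S) (f : (j : ι) → B j) :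
    maskHom B (insert t S) f = maskHom B S f * maskHom B {t} f := by
  funext j
  by_cases h : j ∈ S
  · have hjt : j ≠ t := fun h' => ht (h' ▸ h)
    simp [maskHom_apply, h, hjt]
  · by_cases h' : j = t
    · subst h'
      simp [maskHom_apply, h]
    · simp [maskHom_apply, h, h']

theorem maskHom_univ (f : (j : ι) → B j) : maskHom B Finset.univ f = f := by
  funext j; simp [maskHom_apply]

theorem maskHom_empty (f : (j : ι) → B j) : maskHom B ∅ f = 1 := by
  funext j; simp [maskHom_apply]

theorem maskHom_singleton (t : ι) (f : (j : ι) → B j) :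
    maskHom B {t} f = Pi.mulSingle t (f t) := by
  funext j
  by_cases h : j = t
  · subst h; simp [maskHom_apply]
  · simp [maskHom_apply, h]

variable (e : A × X ≃* ((j : ι) → B j))

/-- The endomorphism of `A` obtained by going to `∏ B`, masking, and coming back. -/
def thetaS (S : Finset ι) : A →* A :=
  ((MonoidHom.fst A X).comp (e.symm.toMonoidHom.comp (maskHom B S))).comp
    (e.toMonoidHom.comp (MonoidHom.inl A X))

theorem thetaS_apply (S : Finset ι) (a : A) :
    thetaS e S a = (e.symm (maskHom B S (e (a, 1)))).1 := rfl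

theorem thetaS_normal (S : Finset ι) : IsNormalEndo (thetaS e S) := by
  apply isNormalEndo_of_decomp
  intro a
  refine ⟨(e.symm (maskHom B Sᶜ (e (a, 1)))).1, ?_, ?_⟩
  · show a = (e.symm (maskHom B S (e (a, 1)))).1 * (e.symm (maskHom B Sᶜ (e (a, 1)))).1
    rw [← Prod.fst_mul, ← map_mul, maskHom_mul_compl, MulEquiv.symm_apply_apply]
  · intro b
    show Commute (e.symm (maskHom B Sᶜ (e (a, 1)))).1 (e.symm (maskHom B S b)).1
    have h1 := (maskHom_commute S b (e (a, 1))).symm
    have h2 := h1.map (e.symm.toMonoidHom)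
    exact h2.map (MonoidHom.fst A X)

theorem thetaS_insert (S : Finset ι) (t : ι) (ht : t ∉ S) (a : A) :
    thetaS e (insert t S) a = thetaS e S a * thetaS e {t} a := by
  rw [thetaS_apply, thetaS_apply, thetaS_apply, maskHom_insert S t ht, map_mul, Prod.fst_mul]

theorem thetaS_univ (a : A) : thetaS e Finset.univ a = a := by
  rw [thetaS_apply, maskHom_univ, MulEquiv.symm_apply_apply]

theorem thetaS_empty (a : A) : thetaS e ∅ a = 1 := by
  rw [thetaS_apply, maskHom_empty, map_one, Prod.fst_one]

/-- Some singleton `thetaS` is injective when `A` is finite, nontrivial and indecomposable. -/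
theorem exists_thetaS_singleton_injective [Finite A] [Nontrivial A] (hA : Indecomp A) :
    ∃ t : ι, Function.Injective (thetaS e {t}) := by
  classical
  have step : ∀ (S : Finset ι) (t : ι), t ∉ S → Function.Injective (thetaS e (insert t S)) →
      Function.Injective (thetaS e S) ∨ Function.Injective (thetaS e {t}) := by
    intro S t ht hinj
    have hb : Function.Bijective (thetaS e (insert t S)) :=
      ⟨hinj, Finite.surjective_of_injective hinj⟩
    set E := MulEquiv.ofBijective (thetaS e (insert t S)) hb with hE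
    have hEn : IsNormalEndo E.symm.toMonoidHom := (thetaS_normal e (insert t S)).symm_of_bijective hb
    have hφ : IsNormalEndo (E.symm.toMonoidHom.comp (thetaS e S)) := hEn.comp (thetaS_normal e S)
    rcases injective_or_nilpotent hA hφ with h | ⟨k, hk⟩
    · left
      intro x y hxy
      apply h
      rw [MonoidHom.comp_apply, MonoidHom.comp_apply, hxy]
    · right
      rw [injective_iff_map_eq_one]
      intro a ha
      have h1 : thetaS e (insert t S) a = thetaS e S a := by
        rw [thetaS_insert e S t ht, ha, mul_one]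
      have h2 : (E.symm.toMonoidHom.comp (thetaS e S)) a = a := by
        rw [MonoidHom.comp_apply, ← h1]
        exact E.symm_apply_apply a
      have h3 := Function.iterate_fixed h2 k
      rw [hk] at h3
      exact h3.symm
  have key : ∀ S : Finset ι, Function.Injective (thetaS e S) →
      (∃ t : ι, Function.Injective (thetaS e {t})) ∨ Function.Injective (thetaS e ∅) := by
    intro S
    induction S using Finset.induction_on with
    | empty => intro h; exact Or.inr h
    | insert t S ht ih =>
      intro h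
      rcases step S t ht h with h' | h'
      · exact ih h'
      · exact Or.inl ⟨t, h'⟩
  have huniv : Function.Injective (thetaS e Finset.univ) := by
    intro x y hxy
    rwa [thetaS_univ, thetaS_univ] at hxy
  rcases key _ huniv with h | h
  · exact h
  · exfalso
    obtain ⟨a, ha⟩ := exists_ne (1 : A)
    apply ha
    apply h
    rw [thetaS_empty, thetaS_empty]

/-- `A → B t`. -/
def alphaT (t : ι) : A →* B t :=
  (Pi.evalMonoidHom B t).comp (e.toMonoidHom.comp (MonoidHom.inl A X))

/-- `B t → A`. -/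
def betaT (t : ι) : B t →* A :=
  (MonoidHom.fst A X).comp (e.symm.toMonoidHom.comp (MonoidHom.mulSingle B t))

theorem alphaT_apply (t : ι) (a : A) : alphaT e t a = e (a, 1) t := rfl

theorem betaT_apply (t : ι) (b : B t) : betaT e t b = (e.symm (Pi.mulSingle t b)).1 := rfl

theorem betaT_alphaT (t : ι) (a : A) : betaT e t (alphaT e t a) = thetaS e {t} a := by
  rw [betaT_apply, alphaT_apply, thetaS_apply, maskHom_singleton]

theorem alphaT_betaT_normal (t : ι) : IsNormalEndo ((alphaT e t).comp (betaT e t)) := by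
  apply isNormalEndo_of_decomp
  intro b
  refine ⟨e (1, (e.symm (Pi.mulSingle t b)).2) t, ?_, ?_⟩
  · show b = e ((e.symm (Pi.mulSingle t b)).1, 1) t * e (1, (e.symm (Pi.mulSingle t b)).2) t
    rw [← Pi.mul_apply, ← map_mul, Prod.mk_mul_mk, mul_one, one_mul, Prod.mk.eta,
      MulEquiv.apply_symm_apply, Pi.mulSingle_eq_same]
  · intro a
    show Commute (e (1, (e.symm (Pi.mulSingle t b)).2) t) (e (a, 1) t)
    have h1 : Commute ((1 : A), (e.symm (Pi.mulSingle t b)).2) ((a, (1 : X))) := by
      show _ * _ = _ * _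
      rw [Prod.mk_mul_mk, Prod.mk_mul_mk, mul_one, one_mul, mul_one, one_mul]
    have h2 := h1.map e.toMonoidHom
    exact h2.map (Pi.evalMonoidHom B t)

/-- **Matching**: if `A × X ≃* ∏ B` with `A` finite nontrivial indecomposable and all `B j` finite
indecomposable, then `A ≃* B t` for some `t`. -/
theorem exists_mulEquiv_factor [Finite A] [Nontrivial A] [∀ j, Finite (B j)]
    (e : A × X ≃* ((j : ι) → B j)) (hA : Indecomp A)
    (hB : ∀ j, Indecomp (B j)) : ∃ t : ι, Nonempty (A ≃* B t) := by
  obtain ⟨t, ht⟩ := exists_thetaS_singleton_injective e hA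
  refine ⟨t, ?_⟩
  have hαinj : Function.Injective (alphaT e t) := by
    intro x y hxy
    apply ht
    rw [← betaT_alphaT, ← betaT_alphaT, hxy]
  have hψ := alphaT_betaT_normal e t
  have hψinj : Function.Injective ((alphaT e t).comp (betaT e t)) := by
    rcases injective_or_nilpotent (hB t) hψ with h | ⟨k, hk⟩
    · exact h
    · exfalso
      obtain ⟨a, ha⟩ := exists_ne (1 : A)
      apply ha
      have hit : Function.Injective ((⇑(thetaS e {t}))^[k + 1]) := ht.iterate (k + 1)
      apply hit
      have e1 : (⇑(thetaS e {t})) = (⇑(betaT e t)) ∘ (⇑(alphaT e t)) := by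
        funext a
        exact (betaT_alphaT e t a).symm
      rw [e1, iterate_comp_succ, iterate_comp_succ]
      have h1 : ∀ b : B t, ((⇑(alphaT e t)) ∘ (⇑(betaT e t)))^[k] b = 1 := hk
      rw [h1, h1]
  have hψsurj : Function.Surjective ((alphaT e t).comp (betaT e t)) :=
    Finite.surjective_of_injective hψinj
  have hαsurj : Function.Surjective (alphaT e t) := by
    intro b
    obtain ⟨b', hb'⟩ := hψsurj b
    exact ⟨betaT e t b', hb'⟩
  exact ⟨MulEquiv.ofBijective (alphaT e t) ⟨hαinj, hαsurj⟩⟩

end Match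

end Cfsg.Agent.Helper21
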