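import Mathlib
import Cfsg.Agent.Helper21.NormalEndo
import Cfsg.Agent.Helper21.CancelProd

set_option autoImplicit false
set_option linter.style.haveILetI false
set_option linter.unusedSectionVars false

namespace Cfsg.Agent.Helper21

universe u v

/-- Split off the `t`-th coordinate of a product over `Fin (n + 1)`. -/
def piSplit {n : ℕ} (B : Fin (n + 1) → Type*) [∀ j, Group (B j)] (t : Fin (n + 1)) :
    ((j : Fin (n + 1)) → B j) ≃* B t × ((l : Fin n) → B (t.succAbove l)) :=
  { (Fin.insertNthEquiv B t).symm with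
    map_mul' := fun _ _ => rfl }

theorem subsingleton_pi_fin_zero (A : Fin 0 → Type*) : Subsingleton ((i : Fin 0) → A i) :=
  ⟨fun _ _ => funext fun i => i.elim0⟩

theorem not_subsingleton_pi {n : ℕ} (B : Fin (n + 1) → Type*) [∀ j, Group (B j)]
    (h : Nontrivial (B 0)) : ¬ Subsingleton ((j : Fin (n + 1)) → B j) := by
  intro hs
  obtain ⟨b, hb⟩ := exists_ne (1 : B 0)
  apply hb
  have := hs.elim (Pi.mulSingle 0 b) (1 : (j : Fin (n + 1)) → B j)
  have h2 := congrFun this 0
  simpa using h2

/-- **Krull–Remak–Schmidt** for finite groups (external products over `Fin`). -/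
theorem krs : ∀ (m : ℕ) {n : ℕ} (A : Fin m → Type u) (B : Fin n → Type v)
    [∀ i, Group (A i)] [∀ j, Group (B j)] [∀ i, Finite (A i)] [∀ j, Finite (B j)]
    (_ : ∀ i, Nontrivial (A i) ∧ Indecomp (A i)) (_ : ∀ j, Nontrivial (B j) ∧ Indecomp (B j))
    (_ : ((i : Fin m) → A i) ≃* ((j : Fin n) → B j)),
    ∃ σ : Fin m ≃ Fin n, ∀ i, Nonempty (A i ≃* B (σ i)) := by
  intro m
  induction m with
  | zero =>
    intro n A B _ _ _ _ hA hB e
    rcases n with _ | n
    · exact ⟨Equiv.refl _, fun i => i.elim0⟩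
    · exfalso
      apply not_subsingleton_pi B (hB 0).1
      haveI := subsingleton_pi_fin_zero A
      exact e.symm.toEquiv.subsingleton
  | succ m ih =>
    intro n A B _ _ _ _ hA hB e
    rcases n with _ | n
    · exfalso
      apply not_subsingleton_pi A (hA 0).1
      haveI := subsingleton_pi_fin_zero B
      exact e.toEquiv.subsingleton
    · haveI : Nontrivial (A 0) := (hA 0).1
      have e₁ : A 0 × ((i : Fin m) → A ((0 : Fin (m + 1)).succAbove i)) ≃*
          ((j : Fin (n + 1)) → B j) := (piSplit A 0).symm.trans e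
      obtain ⟨t, ⟨f⟩⟩ := exists_mulEquiv_factor e₁ (hA 0).2 (fun j => (hB j).2)
      have e₂ : A 0 × ((i : Fin m) → A ((0 : Fin (m + 1)).succAbove i)) ≃*
          A 0 × ((l : Fin n) → B (t.succAbove l)) :=
        e₁.trans ((piSplit B t).trans (MulEquiv.prodCongr f.symm (MulEquiv.refl _)))
      obtain ⟨e₃⟩ := nonempty_mulEquiv_of_prod_mulEquiv e₂
      obtain ⟨σ', hσ'⟩ := ih (fun i => A ((0 : Fin (m + 1)).succAbove i))
        (fun l => B (t.succAbove l)) (fun i => hA _) (fun l => hB _) e₃
      refine ⟨(finSuccEquiv' 0).trans ((Equiv.optionCongr σ').trans (finSuccEquiv' t).symm), ?_⟩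
      intro i
      rcases Fin.eq_self_or_eq_succAbove 0 i with rfl | ⟨j, rfl⟩
      · have h0 : ((finSuccEquiv' 0).trans ((Equiv.optionCongr σ').trans (finSuccEquiv' t).symm))
            (0 : Fin (m + 1)) = t := by simp
        rw [h0]
        exact ⟨f⟩
      · have hj : ((finSuccEquiv' 0).trans ((Equiv.optionCongr σ').trans (finSuccEquiv' t).symm))
            ((0 : Fin (m + 1)).succAbove j) = t.succAbove (σ' j) := by
          rw [Equiv.trans_apply, Equiv.trans_apply, finSuccEquiv'_succAbove,
            Equiv.optionCongr_apply, Option.map_some, finSuccEquiv'_symm_some]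
        rw [hj]
        exact hσ' j

end Cfsg.Agent.Helper21
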