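import Mathlib
import Cfsg.Agent.Helper8.MatBNNormal
import Cfsg.Agent.Helper21.MatBNW

set_option autoImplicit false
open scoped Matrix

/-!
# `DataW` version of helper8's bridge `Data.exists_steinberg_normal` (helper21)

A `DataW` on `G` gives the Steinberg character of `N / Z(N)` for every normal subgroup `N` containing
the upper unitriangular elements.
-/

namespace Cfsg.Agent.MatBNW

open Cfsg.Agent.MatBN

variable {K : Type*} [Field K] {n : ℕ}

theorem DataW.exists_steinberg_normal {G : Type*} [Group G] {m : ℕ} (D : DataW G K n m) [Finite K]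
    (p : ℕ) [Fact p.Prime] [CharP K p] (N : Subgroup G) [N.Normal] (hUN : D.uni ≤ N) :
    ∃ χ : N ⧸ Subgroup.center N → ℂ, Cfsg.IsIrrCharacter (N ⧸ Subgroup.center N) χ ∧
      ∀ Q : Sylow p (N ⧸ Subgroup.center N), χ 1 = Nat.card Q ∧
        ∀ x : N ⧸ Subgroup.center N, x ∈ Q → x ≠ 1 → χ x = 0 := by
  have : Finite G := D.finite
  obtain ⟨P, hB, hN, hS⟩ := D.exists_bnPair
  have hH : P.B ⊓ P.N = D.torus := by rw [hB, hN]; exact D.borel_inf_Nsub
  apply exists_steinberg_of_split_normal p P D.uni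
  · rw [hB]; exact D.uni_le_borel
  · intro b hb u hu
    rw [hB] at hb
    exact D.conj_uni_mem hb hu
  · intro b hb
    rw [hB] at hb
    rw [hH]
    exact D.borel_eq_mul hb
  · rw [hH]; exact D.uni_inf_torus
  · exact D.isPGroup_uni p
  · rw [hH]; exact D.not_dvd_card_torus p
  · intro s hs
    rw [hS] at hs
    obtain ⟨j, rfl⟩ := hs
    rw [hB]
    exact D.exists_conj_not_mem j
  · show D.n₀ ∈ P.N
    rw [hN]; exact D.n₀_mem_Nsub
  · intro s hs
    rw [hS] at hs
    obtain ⟨j, rfl⟩ := hs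
    rw [hB]
    exact D.n₀_desc j
  · intro x hx h
    rw [hB] at h
    exact D.n₀_opp' hx h
  · exact hUN

end Cfsg.Agent.MatBNW
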