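import Mathlib
import Cfsg.Agent.Helper28.Norm

/-!
# Norm surjectivity in finite commutative rings with an involution of the second kind (helper21)
-/

set_option autoImplicit false

namespace Cfsg.Agent.Helper21.NS

universe u

/-- in a finite commutative ring some positive power of any element is idempotent -/
theorem exists_pow_idem {R : Type*} [CommRing R] [Finite R] (x : R) :
    ∃ k : ℕ, 0 < k ∧ x ^ k * x ^ k = x ^ k := by
  have hni : ¬ Function.Injective (fun n : ℕ => x ^ (n + 1)) := not_injective_infinite_finite _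
  have key : ∀ a b : ℕ, a < b → x ^ (a + 1) = x ^ (b + 1) →
      ∃ k : ℕ, 0 < k ∧ x ^ k * x ^ k = x ^ k := by
    intro a b hlt hab
    obtain ⟨d, hd⟩ : ∃ d, b = a + d := ⟨b - a, by omega⟩
    have hd0 : 0 < d := by omega
    have h1 : x ^ (a + 1 + d) = x ^ (a + 1) := by
      rw [hab, hd]
      congr 1
      omega
    have h2 : ∀ m, a + 1 ≤ m → x ^ (m + d) = x ^ m := by
      intro m hm
      obtain ⟨t, rfl⟩ : ∃ t, m = a + 1 + t := ⟨m - (a + 1), by omega⟩
      calc x ^ (a + 1 + t + d) = x ^ (a + 1 + d) * x ^ t := by rw [← pow_add]; congr 1; omega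
        _ = x ^ (a + 1) * x ^ t := by rw [h1]
        _ = x ^ (a + 1 + t) := by rw [← pow_add]
    have h3 : ∀ j m, a + 1 ≤ m → x ^ (m + j * d) = x ^ m := by
      intro j
      induction j with
      | zero => intro m _; rw [Nat.zero_mul, add_zero]
      | succ j ih =>
        intro m hm
        have : m + (j + 1) * d = (m + j * d) + d := by ring
        rw [this, h2 _ (by omega), ih m hm]
    refine ⟨(a + 1) * d, Nat.mul_pos (Nat.succ_pos a) hd0, ?_⟩
    rw [← pow_add]
    exact h3 (a + 1) ((a + 1) * d) (Nat.le_mul_of_pos_right _ hd0)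
  rw [Function.Injective] at hni
  push Not at hni
  obtain ⟨a, b, hab, hne⟩ := hni
  rcases lt_or_gt_of_ne hne with hlt | hlt
  · exact key a b hlt hab
  · exact key b a hlt hab.symm

/-- **Norm surjectivity**: in a finite commutative ring with an involutive automorphism `τ` moving
some element by a unit, every `τ`-fixed unit is a norm `τ c * c`. -/
theorem norm_surj_aux (n : ℕ) : ∀ (R : Type u) [CommRing R] [Finite R], Nat.card R = n →
    ∀ (τ : R →+* R), (∀ x, τ (τ x) = x) → ∀ ξ : R, IsUnit (ξ - τ ξ) →
    ∀ h : R, IsUnit h → τ h = h → ∃ c : R, τ c * c = h := by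
  induction n using Nat.strong_induction_on with
  | _ n ih =>
  intro R _ _ hcard τ hτ ξ hξ h hh hfix
  classical
  -- the element `μ` with `μ + τ μ = 1`
  obtain ⟨θinv, hθ⟩ := hξ.exists_right_inv
  have hτθ : τ (ξ - τ ξ) = -(ξ - τ ξ) := by rw [map_sub, hτ]; ring
  have hτθinv : τ θinv = -θinv := by
    have h1 : τ (ξ - τ ξ) * τ θinv = 1 := by rw [← map_mul, hθ, map_one]
    rw [hτθ] at h1
    calc τ θinv = ((ξ - τ ξ) * θinv) * τ θinv := by rw [hθ, one_mul]
      _ = -θinv * (-(ξ - τ ξ) * τ θinv) := by ring
      _ = -θinv := by rw [h1, mul_one]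
  obtain ⟨μ, hμ_def⟩ : ∃ μ : R, μ = ξ * θinv := ⟨_, rfl⟩
  have hμ : τ μ = 1 - μ := by
    rw [hμ_def, map_mul, hτθinv]
    linear_combination hθ
  obtain ⟨hinv, hhinv⟩ := hh.exists_right_inv
  have hτhinv : τ hinv = hinv := by
    have h1 : h * τ hinv = 1 := by
      have := congrArg τ hhinv
      rwa [map_mul, hfix, map_one] at this
    calc τ hinv = (h * hinv) * τ hinv := by rw [hhinv, one_mul]
      _ = hinv * (h * τ hinv) := by ring
      _ = hinv := by rw [h1, mul_one]
  -- the quotient step
  have quot_step : ∀ I : Ideal R, I ≠ ⊥ → (∀ a ∈ I, τ a ∈ I) → ∃ c : R, τ c * c - h ∈ I := by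
    intro I hI hIτ
    have : Finite (R ⧸ I) := Finite.of_surjective _ Ideal.Quotient.mk_surjective
    have hlt : Nat.card (R ⧸ I) < n := by
      rw [← hcard]
      have : Fintype R := Fintype.ofFinite R
      have : Fintype (R ⧸ I) := Fintype.ofFinite _
      rw [Nat.card_eq_fintype_card, Nat.card_eq_fintype_card]
      apply Fintype.card_lt_of_surjective_not_injective _ Ideal.Quotient.mk_surjective
      intro hinj
      apply hI
      rw [Submodule.eq_bot_iff]
      intro a ha
      apply hinj
      rw [map_zero]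
      exact Ideal.Quotient.eq_zero_iff_mem.2 ha
    have hle : I ≤ I.comap τ := fun a ha => hIτ a ha
    obtain ⟨τ', hτ'_def⟩ : ∃ τ' : R ⧸ I →+* R ⧸ I, τ' = Ideal.quotientMap I τ hle := ⟨_, rfl⟩
    have hτ'mk : ∀ x : R, τ' (Ideal.Quotient.mk I x) = Ideal.Quotient.mk I (τ x) := by
      intro x
      rw [hτ'_def, Ideal.quotientMap_mk]
    have hτ' : ∀ x, τ' (τ' x) = x := by
      intro x
      obtain ⟨x, rfl⟩ := Ideal.Quotient.mk_surjective x
      rw [hτ'mk, hτ'mk, hτ]
    have hξ' : IsUnit (Ideal.Quotient.mk I ξ - τ' (Ideal.Quotient.mk I ξ)) := by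
      rw [hτ'mk, ← map_sub]
      exact hξ.map _
    obtain ⟨c', hc'⟩ := ih _ hlt (R ⧸ I) rfl τ' hτ' _ hξ' (Ideal.Quotient.mk I h) (hh.map _)
      (by rw [hτ'mk, hfix])
    obtain ⟨c, rfl⟩ := Ideal.Quotient.mk_surjective c'
    refine ⟨c, ?_⟩
    rw [hτ'mk, ← map_mul] at hc'
    exact Ideal.Quotient.eq.1 hc'
  by_cases hsq : ∃ x : R, x ≠ 0 ∧ x * x = 0
  · -- a nonzero square-zero `τ`-stable ideal
    obtain ⟨x, hx0, hxx⟩ := hsq
    have hτxx : τ x * τ x = 0 := by rw [← map_mul, hxx, map_zero]
    have hI : ∃ I : Ideal R, I ≠ ⊥ ∧ (∀ a ∈ I, τ a ∈ I) ∧ ∀ a ∈ I, ∀ b ∈ I, a * b = 0 := by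
      by_cases hy : x * τ x = 0
      · refine ⟨Ideal.span {x, τ x}, ?_, ?_, ?_⟩
        · intro hbot
          apply hx0
          have : x ∈ Ideal.span {x, τ x} := Ideal.subset_span (by simp)
          rw [hbot] at this
          exact (Submodule.mem_bot R).1 this
        · intro a ha
          rw [Ideal.mem_span_pair] at ha ⊢
          obtain ⟨r, s, rfl⟩ := ha
          refine ⟨τ s, τ r, ?_⟩
          rw [map_add, map_mul, map_mul, hτ]
          ring
        · intro a ha b hb
          rw [Ideal.mem_span_pair] at ha hb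
          obtain ⟨r, s, rfl⟩ := ha
          obtain ⟨r', s', rfl⟩ := hb
          linear_combination (r * r') * hxx + (r * s' + s * r') * hy + (s * s') * hτxx
      · have hτy : τ (x * τ x) = x * τ x := by rw [map_mul, hτ, mul_comm]
        refine ⟨Ideal.span {x * τ x}, ?_, ?_, ?_⟩
        · intro hbot
          apply hy
          have : x * τ x ∈ Ideal.span {x * τ x} := Ideal.subset_span (by simp)
          rw [hbot] at this
          exact (Submodule.mem_bot R).1 this
        · intro a ha
          rw [Ideal.mem_span_singleton'] at ha ⊢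
          obtain ⟨r, rfl⟩ := ha
          exact ⟨τ r, by rw [map_mul, hτy]⟩
        · intro a ha b hb
          rw [Ideal.mem_span_singleton'] at ha hb
          obtain ⟨r, rfl⟩ := ha
          obtain ⟨r', rfl⟩ := hb
          linear_combination (r * r' * τ x * τ x) * hxx
    obtain ⟨I, hI0, hIτ, hII⟩ := hI
    obtain ⟨c, hc⟩ := quot_step I hI0 hIτ
    obtain ⟨i, hi_def⟩ : ∃ i : R, i = τ c * c - h := ⟨_, rfl⟩
    have hiI : i ∈ I := by rw [hi_def]; exact hc
    have hii : i * i = 0 := hII i hiI i hiI
    have hτi : τ i = i := by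
      rw [hi_def, map_sub, map_mul, hτ, hfix, mul_comm]
    refine ⟨c * (1 - μ * i * hinv), ?_⟩
    rw [map_mul, map_sub, map_one, map_mul, map_mul, hμ, hτi, hτhinv]
    have e1 : τ c * c = h + i := by rw [hi_def]; ring
    calc τ c * (1 - (1 - μ) * i * hinv) * (c * (1 - μ * i * hinv))
        = (τ c * c) * (1 - (1 - μ) * i * hinv) * (1 - μ * i * hinv) := by ring
      _ = (h + i) * (1 - (1 - μ) * i * hinv) * (1 - μ * i * hinv) := by rw [e1]
      _ = h := by
        linear_combination (-i) * hhinv
          + (h * μ * (1 - μ) * hinv ^ 2 - hinv + μ * (1 - μ) * i * hinv ^ 2) * hii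
  · -- the reduced case
    have hred : ∀ x : R, x * x = 0 → x = 0 := by
      intro x hx
      by_contra hx0
      exact hsq ⟨x, hx0, hx⟩
    have : IsReduced R := (isReduced_iff_pow_one_lt 2 one_lt_two).2
      (fun x hx => hred x (by rwa [sq] at hx))
    by_cases hfield : ∀ x : R, x ≠ 0 → IsUnit x
    · -- a field
      by_cases hsub : (0 : R) = 1
      · exact ⟨0, by
          have : ∀ a b : R, a = b := fun a b => by
            rw [← mul_one a, ← mul_one b, ← hsub, mul_zero, mul_zero]
          exact this _ _⟩
      have hF : IsField R :=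
        { exists_pair_ne := ⟨0, 1, hsub⟩
          mul_comm := mul_comm
          mul_inv_cancel := fun {a} ha => (hfield a ha).exists_right_inv }
      let _ : Field R := hF.toField
      have hτne : τ ≠ RingHom.id R := by
        intro hid
        rw [hid, RingHom.id_apply, sub_self] at hξ
        exact hsub (isUnit_zero_iff.1 hξ)
      obtain ⟨a, ha⟩ := Cfsg.Agent.Helper28.exists_norm_eq τ hτne hτ h hh.ne_zero hfix
      exact ⟨a, by rw [mul_comm]; exact ha⟩
    · push Not at hfield
      obtain ⟨x, hx0, hxu⟩ := hfield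
      obtain ⟨k, hk, hidem⟩ := exists_pow_idem x
      obtain ⟨e, he_def⟩ : ∃ e : R, e = x ^ k := ⟨_, rfl⟩
      have hee : e * e = e := by rw [he_def]; exact hidem
      have he0 : e ≠ 0 := by
        intro h0
        apply hx0
        exact IsNilpotent.eq_zero ⟨k, by rw [← he_def, h0]⟩
      have he1 : e ≠ 1 := by
        intro h1
        apply hxu
        rw [he_def] at h1
        exact IsUnit.of_pow_eq_one h1 hk.ne'
      have hτee : τ e * τ e = τ e := by rw [← map_mul, hee]
      -- a `τ`-fixed nontrivial idempotent gives a decomposition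
      have fixed_case : ∀ f : R, f * f = f → τ f = f → f ≠ 0 → f ≠ 1 → ∃ c : R, τ c * c = h := by
        intro f hff hτf hf0 hf1
        obtain ⟨c₁, hc₁⟩ := quot_step (Ideal.span {f})
          (by
            intro hbot
            apply hf0
            have : f ∈ Ideal.span {f} := Ideal.subset_span (by simp)
            rw [hbot] at this
            exact (Submodule.mem_bot R).1 this)
          (by
            intro a ha
            rw [Ideal.mem_span_singleton'] at ha ⊢
            obtain ⟨r, rfl⟩ := ha
            exact ⟨τ r, by rw [map_mul, hτf]⟩)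
        obtain ⟨c₂, hc₂⟩ := quot_step (Ideal.span {1 - f})
          (by
            intro hbot
            apply hf1
            have : 1 - f ∈ Ideal.span {1 - f} := Ideal.subset_span (by simp)
            rw [hbot] at this
            have := (Submodule.mem_bot R).1 this
            exact (sub_eq_zero.1 this).symm)
          (by
            intro a ha
            rw [Ideal.mem_span_singleton'] at ha ⊢
            obtain ⟨r, rfl⟩ := ha
            exact ⟨τ r, by rw [map_mul, map_sub, map_one, hτf]⟩)
        rw [Ideal.mem_span_singleton'] at hc₁ hc₂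
        obtain ⟨a, ha⟩ := hc₁
        obtain ⟨b, hb⟩ := hc₂
        refine ⟨c₁ * (1 - f) + c₂ * f, ?_⟩
        rw [map_add, map_mul, map_mul, map_sub, map_one, hτf]
        linear_combination (-(1 - f) ^ 2) * ha + (-(f ^ 2)) * hb
          + (-(τ c₁ * c₂ + τ c₂ * c₁) + 2 * h - a * (1 - f) - b * f) * hff
      by_cases hf : e * τ e = 0
      · by_cases hg : e + τ e = 1
        · -- the swapped case
          refine ⟨h * e + τ e, ?_⟩
          rw [map_add, map_mul, hfix, hτ]
          linear_combination (h ^ 2 + 1) * hf + h * hτee + h * hee + h * hg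
        · apply fixed_case (e + τ e)
          · linear_combination hee + hτee + 2 * hf
          · rw [map_add, hτ, add_comm]
          · intro h0
            apply he0
            have : e * (e + τ e) = 0 := by rw [h0, mul_zero]
            rw [mul_add, hee, hf, add_zero] at this
            exact this
          · exact hg
      · apply fixed_case (e * τ e)
        · linear_combination (τ e * τ e) * hee + e * hτee
        · rw [map_mul, hτ, mul_comm]
        · exact hf
        · intro h1
          apply he1
          have : e * (e * τ e) = e := by rw [h1, mul_one]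
          rw [← mul_assoc, hee, h1] at this
          exact this.symm

theorem norm_surj {R : Type u} [CommRing R] [Finite R] (τ : R →+* R) (hτ : ∀ x, τ (τ x) = x)
    (ξ : R) (hξ : IsUnit (ξ - τ ξ)) (h : R) (hh : IsUnit h) (hfix : τ h = h) :
    ∃ c : R, τ c * c = h :=
  norm_surj_aux (Nat.card R) R rfl τ hτ ξ hξ h hh hfix

end Cfsg.Agent.Helper21.NS
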