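import Mathlib

set_option autoImplicit false

/-!
Counting nilpotent endomorphisms, part 1: the block lemma on a product `W × C`.
Endomorphisms of `W × C` agreeing with a nilpotent `S` on `W` correspond to pairs
`(R : C → W, T' : C → C)`, and are nilpotent iff `T'` is.
-/

namespace Cfsg.Agent.Helper21.NilCount

variable {K : Type*} [Field K]
variable {W C : Type*} [AddCommGroup W] [Module K W] [AddCommGroup C] [Module K C]

/-- The block upper-triangular endomorphism `(w, c) ↦ (S w + R c, T' c)`. -/
def blockMap (S : Module.End K W) (R : C →ₗ[K] W) (T' : Module.End K C) :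
    Module.End K (W × C) :=
  LinearMap.prod (S.coprod R) (T'.comp (LinearMap.snd K W C))

@[simp] theorem blockMap_apply (S : Module.End K W) (R : C →ₗ[K] W) (T' : Module.End K C)
    (x : W × C) : blockMap S R T' x = (S x.1 + R x.2, T' x.2) := by
  simp [blockMap, LinearMap.coprod_apply]

theorem blockMap_pow_snd (S : Module.End K W) (R : C →ₗ[K] W) (T' : Module.End K C)
    (m : ℕ) (x : W × C) : ((blockMap S R T' ^ m) x).2 = (T' ^ m) x.2 := by
  induction m generalizing x with
  | zero => simp
  | succ m ih =>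
    rw [pow_succ, pow_succ, Module.End.mul_apply, Module.End.mul_apply, ih, blockMap_apply]

theorem blockMap_pow_inl (S : Module.End K W) (R : C →ₗ[K] W) (T' : Module.End K C)
    (m : ℕ) (w : W) : (blockMap S R T' ^ m) (w, 0) = ((S ^ m) w, 0) := by
  induction m generalizing w with
  | zero => simp
  | succ m ih =>
    rw [pow_succ, pow_succ, Module.End.mul_apply, Module.End.mul_apply, blockMap_apply]
    simp only [map_zero, add_zero]
    exact ih (S w)

theorem isNilpotent_blockMap_iff (S : Module.End K W) (hS : IsNilpotent S) (R : C →ₗ[K] W)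
    (T' : Module.End K C) : IsNilpotent (blockMap S R T') ↔ IsNilpotent T' := by
  constructor
  · rintro ⟨m, hm⟩
    refine ⟨m, ?_⟩
    ext c
    have := blockMap_pow_snd S R T' m (0, c)
    rw [hm] at this
    simpa using this.symm
  · rintro ⟨b, hb⟩
    obtain ⟨a, ha⟩ := hS
    refine ⟨a + b, ?_⟩
    apply LinearMap.ext
    intro x
    rw [pow_add, Module.End.mul_apply, LinearMap.zero_apply]
    have h1 : ((blockMap S R T' ^ b) x).2 = 0 := by
      rw [blockMap_pow_snd, hb]; simp
    have h2 : (blockMap S R T' ^ b) x = (((blockMap S R T' ^ b) x).1, 0) := by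
      ext
      · rfl
      · exact h1
    rw [h2, blockMap_pow_inl, ha]
    simp

theorem blockMap_agree (S : Module.End K W) (R : C →ₗ[K] W) (T' : Module.End K C) (w : W) :
    blockMap S R T' (w, 0) = (S w, 0) := by
  simp

theorem exists_blockMap_of_agree (S : Module.End K W) (T : Module.End K (W × C))
    (hT : ∀ w, T (w, 0) = (S w, 0)) : ∃ (R : C →ₗ[K] W) (T' : Module.End K C), T = blockMap S R T' := by
  refine ⟨(LinearMap.fst K W C).comp (T.comp (LinearMap.inr K W C)),
    (LinearMap.snd K W C).comp (T.comp (LinearMap.inr K W C)), ?_⟩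
  apply LinearMap.ext
  rintro ⟨w, c⟩
  have h1 : ((w, c) : W × C) = (w, 0) + (0, c) := by simp
  rw [h1, map_add, map_add, hT, blockMap_agree]
  congr 1
  simp

theorem blockMap_injective (S : Module.End K W) :
    Function.Injective (fun x : (C →ₗ[K] W) × Module.End K C => blockMap S x.1 x.2) := by
  rintro ⟨R, T'⟩ ⟨R₂, T₂'⟩ h
  have key : ∀ c : C, (R c, T' c) = (R₂ c, T₂' c) := by
    intro c
    have := congrArg (fun f : Module.End K (W × C) => f (0, c)) h
    simpa using this
  have h1 : R = R₂ := LinearMap.ext fun c => (Prod.ext_iff.1 (key c)).1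
  have h2 : T' = T₂' := LinearMap.ext fun c => (Prod.ext_iff.1 (key c)).2
  rw [h1, h2]

/-- The block lemma: counting nilpotent endomorphisms of `W × C` agreeing with a nilpotent `S`
on `W`. -/
theorem card_agree (S : Module.End K W) (hS : IsNilpotent S) :
    Nat.card {T : Module.End K (W × C) // IsNilpotent T ∧ ∀ w, T (w, 0) = (S w, 0)}
      = Nat.card (C →ₗ[K] W) * Nat.card {T' : Module.End K C // IsNilpotent T'} := by
  rw [← Nat.card_prod]
  symm
  let f : (C →ₗ[K] W) × {T' : Module.End K C // IsNilpotent T'} →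
      {T : Module.End K (W × C) // IsNilpotent T ∧ ∀ w, T (w, 0) = (S w, 0)} :=
    fun x => ⟨blockMap S x.1 x.2.1,
      (isNilpotent_blockMap_iff S hS x.1 x.2.1).2 x.2.2, blockMap_agree S x.1 x.2.1⟩
  apply Nat.card_congr (Equiv.ofBijective f ⟨?_, ?_⟩)
  · rintro ⟨R, T', hT'⟩ ⟨R₂, T₂', hT₂'⟩ h
    have h1 : blockMap S R T' = blockMap S R₂ T₂' := congrArg Subtype.val h
    have h2 := blockMap_injective S (C := C) (a₁ := (R, T')) (a₂ := (R₂, T₂')) h1
    simp only [Prod.mk.injEq] at h2
    obtain ⟨rfl, rfl⟩ := h2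
    rfl
  · rintro ⟨T, hT1, hT2⟩
    obtain ⟨R, T', rfl⟩ := exists_blockMap_of_agree S T hT2
    exact ⟨(R, ⟨T', (isNilpotent_blockMap_iff S hS R T').1 hT1⟩), rfl⟩

end Cfsg.Agent.Helper21.NilCount
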