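import Mathlib
import Cfsg.Agent.Helper21.NilCount1

set_option autoImplicit false

/-!
Counting nilpotent endomorphisms, part 2: the block lemma for complementary submodules.
-/

namespace Cfsg.Agent.Helper21.NilCount

variable {K : Type*} [Field K]
variable {V : Type*} [AddCommGroup V] [Module K V]

theorem isNilpotent_conj_iff {M N : Type*} [AddCommGroup M] [Module K M] [AddCommGroup N]
    [Module K N] (e : M ≃ₗ[K] N) (f : Module.End K M) :
    IsNilpotent (e.conjRingEquiv f) ↔ IsNilpotent f :=
  IsNilpotent.map_iff (f := e.conjRingEquiv) e.conjRingEquiv.injective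

/-- Counting nilpotent endomorphisms of `V` agreeing with a nilpotent `S` on the submodule `W`,
given a complement `C` of `W`. -/
theorem card_agree_submodule (W C : Submodule K V) (h : IsCompl W C) (S : Module.End K W)
    (hS : IsNilpotent S) :
    Nat.card {T : Module.End K V // IsNilpotent T ∧ ∀ w : W, T (w : V) = ((S w : W) : V)}
      = Nat.card (C →ₗ[K] W) * Nat.card {T' : Module.End K C // IsNilpotent T'} := by
  rw [← card_agree S hS]
  set e := Submodule.prodEquivOfIsCompl W C h with he
  symm
  refine Nat.card_congr (Equiv.subtypeEquiv e.conjRingEquiv.toEquiv ?_)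
  intro T
  have hnil : IsNilpotent (e.conjRingEquiv T) ↔ IsNilpotent T := isNilpotent_conj_iff e T
  have hag : (∀ w : W, (e.conjRingEquiv T) (w : V) = ((S w : W) : V)) ↔
      ∀ w : W, T (w, 0) = (S w, 0) := by
    constructor
    · intro hw w
      have h1 := hw w
      rw [LinearEquiv.conjRingEquiv_apply_apply] at h1
      rw [he, Submodule.prodEquivOfIsCompl_symm_apply_left] at h1
      have h2 : (Submodule.prodEquivOfIsCompl W C h) (T (w, 0))
          = (Submodule.prodEquivOfIsCompl W C h) (S w, 0) := by
        rw [h1, Submodule.coe_prodEquivOfIsCompl']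
        simp
      exact (Submodule.prodEquivOfIsCompl W C h).injective h2
    · intro hw w
      rw [LinearEquiv.conjRingEquiv_apply_apply]
      rw [he, Submodule.prodEquivOfIsCompl_symm_apply_left, hw w,
        Submodule.coe_prodEquivOfIsCompl']
      simp
  simp only [RingEquiv.toEquiv_eq_coe, EquivLike.coe_coe]
  rw [hnil, hag]

end Cfsg.Agent.Helper21.NilCount
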