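import Mathlib
import Cfsg.Agent.Helper21.NilCount2

set_option autoImplicit false

/-!
Counting nilpotent endomorphisms, part 3: chains.
-/

namespace Cfsg.Agent.Helper21.NilCount

open Module

variable {K : Type*} [Field K]
variable {V : Type*} [AddCommGroup V] [Module K V]

/-- The span of the first `j` vectors of a sequence. -/
abbrev chainSpan (K : Type*) [Field K] {V : Type*} [AddCommGroup V] [Module K V]
    (c : ℕ → V) (j : ℕ) : Submodule K V :=
  Submodule.span K (Set.range (fun i : Fin j => c i))

theorem mem_chainSpan (c : ℕ → V) (j : ℕ) (i : ℕ) (hi : i < j) : c i ∈ chainSpan K c j :=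
  Submodule.subset_span ⟨⟨i, hi⟩, rfl⟩

/-- The shift endomorphism of the span of an independent chain. -/
noncomputable def shiftEnd (c : ℕ → V) (j : ℕ)
    (hc : LinearIndependent K (fun i : Fin j => c i)) : Module.End K (chainSpan K c j) :=
  (Basis.span hc).constr K
    (fun i : Fin j => if h : (i : ℕ) + 1 < j then (Basis.span hc) ⟨(i : ℕ) + 1, h⟩ else 0)

theorem shiftEnd_basis (c : ℕ → V) (j : ℕ)
    (hc : LinearIndependent K (fun i : Fin j => c i)) (i : Fin j) :
    shiftEnd c j hc ((Basis.span hc) i)
      = if h : (i : ℕ) + 1 < j then (Basis.span hc) ⟨(i : ℕ) + 1, h⟩ else 0 := by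
  rw [shiftEnd, Basis.constr_basis]

theorem shiftEnd_pow_basis (c : ℕ → V) (j : ℕ)
    (hc : LinearIndependent K (fun i : Fin j => c i)) (m : ℕ) (i : Fin j) :
    (shiftEnd c j hc ^ m) ((Basis.span hc) i)
      = if h : (i : ℕ) + m < j then (Basis.span hc) ⟨(i : ℕ) + m, h⟩ else 0 := by
  induction m with
  | zero => simp
  | succ m ih =>
    rw [pow_succ', Module.End.mul_apply, ih]
    by_cases h : (i : ℕ) + m < j
    · rw [dif_pos h, shiftEnd_basis]
      by_cases h2 : (i : ℕ) + m + 1 < j
      · rw [dif_pos (by simpa using h2), dif_pos (by omega)]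
        rfl
      · rw [dif_neg (by simpa using h2), dif_neg (by omega)]
    · rw [dif_neg h, dif_neg (by omega), map_zero]

theorem shiftEnd_isNilpotent (c : ℕ → V) (j : ℕ)
    (hc : LinearIndependent K (fun i : Fin j => c i)) : IsNilpotent (shiftEnd c j hc) := by
  refine ⟨j, ?_⟩
  apply (Basis.span hc).ext
  intro i
  rw [shiftEnd_pow_basis, dif_neg (by omega), LinearMap.zero_apply]

theorem coe_basis_span (c : ℕ → V) (j : ℕ)
    (hc : LinearIndependent K (fun i : Fin j => c i)) (i : Fin j) :
    (((Basis.span hc) i : Submodule.span K (Set.range (fun i : Fin j => c i))) : V) = c i := by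
  rw [Basis.span_apply]

/-- Agreement with the shift on the span is the chain condition plus killing the last vector. -/
theorem agree_shift_iff (c : ℕ → V) (j : ℕ) (hj : 1 ≤ j)
    (hc : LinearIndependent K (fun i : Fin j => c i)) (T : Module.End K V) :
    (∀ w : chainSpan K c j, T (w : V) = ((shiftEnd c j hc w : chainSpan K c j) : V)) ↔
      ((∀ i, i + 1 < j → T (c i) = c (i + 1)) ∧ T (c (j - 1)) = 0) := by
  constructor
  · intro h
    constructor
    · intro i hi
      have h1 := h ((Basis.span hc) ⟨i, by omega⟩)
      rw [shiftEnd_basis, dif_pos (by simpa using hi)] at h1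
      rw [coe_basis_span] at h1
      simp only at h1
      rw [h1]
      exact coe_basis_span c j hc ⟨i + 1, hi⟩
    · have h1 := h ((Basis.span hc) ⟨j - 1, by omega⟩)
      rw [shiftEnd_basis, dif_neg (by simp; omega)] at h1
      rw [coe_basis_span] at h1
      simpa using h1
  · rintro ⟨h1, h2⟩
    -- two linear maps W → V agree on a basis
    have key : T.comp (chainSpan K c j).subtype
        = (chainSpan K c j).subtype.comp (shiftEnd c j hc) := by
      apply (Basis.span hc).ext
      intro i
      simp only [LinearMap.coe_comp, Submodule.coe_subtype, Function.comp_apply]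
      rw [shiftEnd_basis]
      have hci : (((Basis.span hc) i : Submodule.span K (Set.range (fun i : Fin j => c i))) : V)
          = c i := coe_basis_span c j hc i
      by_cases h : (i : ℕ) + 1 < j
      · rw [dif_pos h]
        erw [hci, coe_basis_span c j hc ⟨(i : ℕ) + 1, h⟩]
        exact h1 i h
      · rw [dif_neg h]
        erw [hci]
        have : (i : ℕ) = j - 1 := by omega
        rw [this, h2]
        rfl
    intro w
    have := congrArg (fun f => f w) key
    simpa using this

end Cfsg.Agent.Helper21.NilCount
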