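import Mathlib
import Cfsg.Agent.Helper21.NilCount3

set_option autoImplicit false

/-!
Counting nilpotent endomorphisms, part 4: the chain recursion.
-/

namespace Cfsg.Agent.Helper21.NilCount

open Module

variable {K : Type*} [Field K]
variable {V : Type*} [AddCommGroup V] [Module K V]

/-- Along a chain, powers of `T` applied to the first vector give the chain. -/
theorem pow_apply_chain (c : ℕ → V) (j : ℕ) (T : Module.End K V)
    (hT : ∀ i, i + 1 < j → T (c i) = c (i + 1)) (i : ℕ) (hi : i < j) :
    (T ^ i) (c 0) = c i := by
  induction i with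
  | zero => simp
  | succ i ih =>
    rw [pow_succ', Module.End.mul_apply, ih (by omega), hT i hi]

/-- A nilpotent endomorphism of a finite-dimensional space has `T ^ finrank = 0`. -/
theorem pow_finrank_eq_zero [FiniteDimensional K V] (T : Module.End K V) (hT : IsNilpotent T) :
    T ^ (finrank K V) = 0 := by
  have h1 := LinearMap.aeval_self_charpoly T
  rw [hT.charpoly_eq_X_pow_finrank] at h1
  simpa using h1

/-- (C2) If a nilpotent `T` maps the span of an independent chain to itself, it kills the last
vector. -/
theorem last_eq_zero_of_mem (c : ℕ → V) (j : ℕ) (hj : 1 ≤ j)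
    (hc : LinearIndependent K (fun i : Fin j => c i)) (T : Module.End K V)
    (hnil : IsNilpotent T) (hT : ∀ i, i + 1 < j → T (c i) = c (i + 1))
    (hlast : T (c (j - 1)) ∈ chainSpan K c j) : T (c (j - 1)) = 0 := by
  have hmaps : ∀ x ∈ chainSpan K c j, T x ∈ chainSpan K c j := by
    intro x hx
    have : chainSpan K c j ≤ (chainSpan K c j).comap T := by
      rw [chainSpan, Submodule.span_le]
      rintro _ ⟨i, rfl⟩
      simp only [Submodule.comap_coe, Set.mem_preimage, SetLike.mem_coe]
      by_cases h : (i : ℕ) + 1 < j
      · rw [hT i h]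
        exact mem_chainSpan c j _ h
      · have : (i : ℕ) = j - 1 := by omega
        rw [this]
        exact hlast
    exact this hx
  have hnil' : IsNilpotent (T.restrict hmaps) := Module.End.isNilpotent.restrict hmaps hnil
  have hfin : FiniteDimensional K (chainSpan K c j) :=
    FiniteDimensional.span_of_finite K (Set.finite_range _)
  have hrank : finrank K (chainSpan K c j) = j := by
    rw [chainSpan, finrank_span_eq_card hc, Fintype.card_fin]
  have hpow := pow_finrank_eq_zero (T.restrict hmaps) hnil'
  rw [hrank, Module.End.pow_restrict] at hpow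
  have h0 : c 0 ∈ chainSpan K c j := mem_chainSpan c j 0 (by omega)
  have h1 := congrArg (fun f => ((f ⟨c 0, h0⟩ : chainSpan K c j) : V)) hpow
  simp only [LinearMap.restrict_apply, LinearMap.zero_apply, ZeroMemClass.coe_zero] at h1
  have h2 : (T ^ j) (c 0) = T (c (j - 1)) := by
    obtain ⟨k, rfl⟩ : ∃ k, j = k + 1 := ⟨j - 1, by omega⟩
    rw [pow_succ', Module.End.mul_apply, pow_apply_chain c (k + 1) T hT k (by omega)]
    simp
  rw [← h2]
  exact h1

end Cfsg.Agent.Helper21.NilCount
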