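import Mathlib
import Cfsg.Agent.Helper21.NilCount4

set_option autoImplicit false

/-!
Counting nilpotent endomorphisms, part 5: the recursion for chain sets.
-/

namespace Cfsg.Agent.Helper21.NilCount

open Module

variable {K : Type*} [Field K]
variable {V : Type*} [AddCommGroup V] [Module K V]

/-- Nilpotent endomorphisms following the chain `c 0 ↦ c 1 ↦ ⋯ ↦ c (j-1)`. -/
abbrev chainSet (K : Type*) [Field K] {V : Type*} [AddCommGroup V] [Module K V]
    (c : ℕ → V) (j : ℕ) : Type _ :=
  {T : Module.End K V // IsNilpotent T ∧ ∀ i, i + 1 < j → T (c i) = c (i + 1)}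

/-- those which moreover kill the last vector -/
abbrev chainSetZero (K : Type*) [Field K] {V : Type*} [AddCommGroup V] [Module K V]
    (c : ℕ → V) (j : ℕ) : Type _ :=
  {T : Module.End K V // IsNilpotent T ∧ (∀ i, i + 1 < j → T (c i) = c (i + 1)) ∧
    T (c (j - 1)) = 0}

theorem chain_update_iff (c : ℕ → V) (j : ℕ) (hj : 1 ≤ j) (w : V) (T : Module.End K V) :
    (∀ i, i + 1 < j + 1 → T (Function.update c j w i) = Function.update c j w (i + 1)) ↔
      ((∀ i, i + 1 < j → T (c i) = c (i + 1)) ∧ T (c (j - 1)) = w) := by
  constructor
  · intro h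
    constructor
    · intro i hi
      have := h i (by omega)
      rwa [Function.update_of_ne (by omega), Function.update_of_ne (by omega)] at this
    · have := h (j - 1) (by omega)
      rwa [Function.update_of_ne (by omega), show j - 1 + 1 = j by omega,
        Function.update_self] at this
  · rintro ⟨h1, h2⟩ i hi
    by_cases h : i + 1 < j
    · rw [Function.update_of_ne (by omega), Function.update_of_ne (by omega)]
      exact h1 i h
    · have : i = j - 1 := by omega
      subst this
      rw [Function.update_of_ne (by omega), show j - 1 + 1 = j by omega, Function.update_self]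
      exact h2

theorem finite_end_of_finite [Finite V] : Finite (Module.End K V) :=
  Finite.of_injective (fun f : Module.End K V => (f : V → V)) DFunLike.coe_injective

theorem card_chainSet_rec [Finite K] [Finite V] (c : ℕ → V) (j : ℕ) (hj : 1 ≤ j)
    (hc : LinearIndependent K (fun i : Fin j => c i)) (a : ℕ)
    (ha : ∀ w, w ∉ chainSpan K c j →
      Nat.card (chainSet K (Function.update c j w) (j + 1)) = a) :
    Nat.card (chainSet K c j) = Nat.card (chainSetZero K c j)
      + (Nat.card V - Nat.card (chainSpan K c j)) * a := by
  classical
  have : Fintype V := Fintype.ofFinite V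
  have hfinEnd : Finite (Module.End K V) := finite_end_of_finite
  -- partition by the value on the last vector
  let f : chainSet K c j → V := fun T => T.1 (c (j - 1))
  have h1 : Nat.card (chainSet K c j) = ∑ w : V, Nat.card {T : chainSet K c j // f T = w} := by
    rw [← Nat.card_sigma]
    exact Nat.card_congr (Equiv.sigmaFiberEquiv f).symm
  -- fibre over 0
  have h0 : Nat.card {T : chainSet K c j // f T = 0} = Nat.card (chainSetZero K c j) := by
    refine Nat.card_congr ((Equiv.subtypeSubtypeEquivSubtypeInter
      (fun T : Module.End K V => IsNilpotent T ∧ ∀ i, i + 1 < j → T (c i) = c (i + 1))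
      (fun T : Module.End K V => T (c (j - 1)) = 0)).trans
      (Equiv.subtypeEquivRight ?_))
    intro T
    simp only [and_assoc]
  -- fibres over nonzero elements of the span
  have hW : ∀ w ∈ chainSpan K c j, w ≠ 0 → Nat.card {T : chainSet K c j // f T = w} = 0 := by
    intro w hw hw0
    have : IsEmpty {T : chainSet K c j // f T = w} := by
      constructor
      rintro ⟨⟨T, hT1, hT2⟩, hT3⟩
      simp only [f] at hT3
      apply hw0
      rw [← hT3]
      exact last_eq_zero_of_mem c j hj hc T hT1 hT2 (hT3 ▸ hw)
    exact Nat.card_of_isEmpty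
  -- fibres outside the span
  have hV : ∀ w, w ∉ chainSpan K c j → Nat.card {T : chainSet K c j // f T = w} = a := by
    intro w hw
    rw [← ha w hw]
    refine Nat.card_congr ((Equiv.subtypeSubtypeEquivSubtypeInter
      (fun T : Module.End K V => IsNilpotent T ∧ ∀ i, i + 1 < j → T (c i) = c (i + 1))
      (fun T : Module.End K V => T (c (j - 1)) = w)).trans
      (Equiv.subtypeEquivRight ?_))
    intro T
    rw [chain_update_iff c j hj w T, and_assoc]
  rw [h1, ← Finset.sum_filter_add_sum_filter_not Finset.univ (fun w => w ∈ chainSpan K c j)]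
  congr 1
  · rw [Finset.sum_eq_single_of_mem (0 : V) (by simp)]
    · exact h0
    · intro w hw hw0
      exact hW w (by simpa using hw) hw0
  · rw [Finset.sum_congr rfl (fun w hw => hV w (by simpa using hw)), Finset.sum_const,
      smul_eq_mul]
    congr 1
    rw [← Fintype.card_subtype, Fintype.card_subtype_compl, Nat.card_eq_fintype_card,
      Nat.card_eq_fintype_card]

end Cfsg.Agent.Helper21.NilCount
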