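import Mathlib
import Cfsg.Agent.Helper21.NilCount5

set_option autoImplicit false

/-!
Counting nilpotent endomorphisms, part 6: the Fine–Herstein count.
-/

namespace Cfsg.Agent.Helper21.NilCount

open Module

universe u

variable {K : Type*} [Field K]
variable {V : Type*} [AddCommGroup V] [Module K V]

theorem linearIndependent_update (c : ℕ → V) (j : ℕ)
    (hc : LinearIndependent K (fun i : Fin j => c i)) (w : V) (hw : w ∉ chainSpan K c j) :
    LinearIndependent K (fun i : Fin (j + 1) => Function.update c j w i) := by
  rw [linearIndependent_finSucc']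
  have hinit : Fin.init (fun i : Fin (j + 1) => Function.update c j w i)
      = fun i : Fin j => c i := by
    funext i
    simp only [Fin.init, Fin.val_castSucc]
    rw [Function.update_of_ne (Nat.ne_of_lt i.2)]
  rw [hinit]
  refine ⟨hc, ?_⟩
  simpa using hw

theorem finrank_chainSpan (c : ℕ → V) (j : ℕ)
    (hc : LinearIndependent K (fun i : Fin j => c i)) : finrank K (chainSpan K c j) = j := by
  rw [chainSpan, finrank_span_eq_card hc, Fintype.card_fin]

/-- The count of `chainSetZero` in terms of a complement. -/
theorem card_chainSetZero (c : ℕ → V) (j : ℕ) (hj : 1 ≤ j)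
    (hc : LinearIndependent K (fun i : Fin j => c i)) (C : Submodule K V)
    (h : IsCompl (chainSpan K c j) C) :
    Nat.card (chainSetZero K c j)
      = Nat.card (C →ₗ[K] chainSpan K c j) * Nat.card {T' : Module.End K C // IsNilpotent T'} := by
  rw [← card_agree_submodule (chainSpan K c j) C h (shiftEnd c j hc) (shiftEnd_isNilpotent c j hc)]
  refine Nat.card_congr (Equiv.subtypeEquivRight ?_)
  intro T
  rw [agree_shift_iff c j hj hc T]

theorem card_linearMap [Finite K] {W C : Type*} [AddCommGroup W] [Module K W]
    [AddCommGroup C] [Module K C] [Finite W] [Finite C] :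
    Nat.card (C →ₗ[K] W) = Nat.card K ^ (finrank K C * finrank K W) := by
  have : Module.Finite K W := Module.Finite.of_finite
  have : Module.Finite K C := Module.Finite.of_finite
  rw [Module.natCard_eq_pow_finrank (K := K) (V := C →ₗ[K] W), Module.finrank_linearMap]

/-- arithmetic for the induction step -/
theorem arith_step (q j m d : ℕ) (hq : 0 < q) (hd : j + (m + 1) = d) :
    q ^ ((m + 1) * j) * q ^ ((m + 1) * (m + 1 - 1)) + (q ^ d - q ^ j) * q ^ (d * m)
      = q ^ (d * (m + 1)) := by
  subst hd
  have h1 : q ^ ((m + 1) * j) * q ^ ((m + 1) * (m + 1 - 1))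
      = q ^ j * q ^ ((j + (m + 1)) * m) := by
    rw [← pow_add, ← pow_add]
    congr 1
    simp only [Nat.add_sub_cancel]
    ring
  rw [h1, ← add_mul, Nat.add_sub_of_le (Nat.pow_le_pow_right hq (by omega)), ← pow_add]
  congr 1
  ring

theorem card_chainSet_aux [Finite K] (d : ℕ)
    (ih : ∀ m < d, ∀ (C : Type u) [AddCommGroup C] [Module K C] [Finite C], finrank K C = m →
      Nat.card {T : Module.End K C // IsNilpotent T} = Nat.card K ^ (m * (m - 1)))
    (V : Type u) [AddCommGroup V] [Module K V] [Finite V] (hV : finrank K V = d) :
    ∀ (m j : ℕ) (c : ℕ → V), 1 ≤ j → j + m = d → LinearIndependent K (fun i : Fin j => c i) →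
      Nat.card (chainSet K c j) = Nat.card K ^ (d * m) := by
  intro m
  induction m with
  | zero =>
    intro j c hj hjd hc
    obtain ⟨C, hC⟩ := Submodule.exists_isCompl (chainSpan K c j)
    have hrW := finrank_chainSpan c j hc
    have hrC : finrank K C = 0 := by
      have := Submodule.finrank_add_eq_of_isCompl hC
      omega
    rw [card_chainSet_rec c j hj hc 0 ?_, card_chainSetZero c j hj hc C hC, card_linearMap,
      ih 0 (by omega) C hrC, hrC]
    · simp
    · intro w hw
      exfalso
      apply hw
      have : chainSpan K c j = ⊤ := Submodule.eq_top_of_finrank_eq (by rw [hrW, hV]; omega)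
      rw [this]
      trivial
  | succ m ihm =>
    intro j c hj hjd hc
    obtain ⟨C, hC⟩ := Submodule.exists_isCompl (chainSpan K c j)
    have hrW := finrank_chainSpan c j hc
    have hrC : finrank K C = m + 1 := by
      have := Submodule.finrank_add_eq_of_isCompl hC
      omega
    rw [card_chainSet_rec c j hj hc (Nat.card K ^ (d * m)) ?_, card_chainSetZero c j hj hc C hC,
      card_linearMap, ih (m + 1) (by omega) C hrC, hrC,
      Module.natCard_eq_pow_finrank (K := K) (V := V),
      Module.natCard_eq_pow_finrank (K := K) (V := chainSpan K c j), hrW, hV]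
    · exact arith_step _ j m d Nat.card_pos hjd
    · intro w hw
      exact ihm (j + 1) _ (by omega) (by omega) (linearIndependent_update c j hc w hw)

/-- **Fine–Herstein**: a `d`-dimensional space over a field with `q` elements has
`q ^ (d * (d - 1))` nilpotent endomorphisms. -/
theorem card_nilpotent_aux [Finite K] (d : ℕ) :
    ∀ (V : Type u) [AddCommGroup V] [Module K V] [Finite V], finrank K V = d →
      Nat.card {T : Module.End K V // IsNilpotent T} = Nat.card K ^ (d * (d - 1)) := by
  induction d using Nat.strong_induction_on with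
  | _ d ih =>
    intro V _ _ _ hV
    rcases Nat.eq_zero_or_pos d with rfl | hd
    · have : Subsingleton V := (Module.finrank_zero_iff (R := K)).mp hV
      simp only [zero_mul, pow_zero]
      rw [Nat.card_eq_one_iff_unique]
      refine ⟨⟨?_⟩, ⟨⟨0, IsNilpotent.zero⟩⟩⟩
      rintro ⟨a, _⟩ ⟨b, _⟩
      apply Subtype.ext
      ext x
      exact Subsingleton.elim _ _
    · have : Nontrivial V := Module.finrank_pos_iff.mp (hV ▸ hd)
      obtain ⟨v, hv⟩ := exists_ne (0 : V)
      have hc : LinearIndependent K (fun i : Fin 1 => (fun _ : ℕ => v) i) := by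
        rw [linearIndependent_unique_iff]
        exact hv
      have := card_chainSet_aux d ih V hV (d - 1) 1 (fun _ => v) le_rfl (by omega) hc
      rw [← this]
      refine Nat.card_congr (Equiv.subtypeEquivRight ?_)
      intro T
      constructor
      · intro h
        exact ⟨h, fun i hi => by omega⟩
      · exact fun h => h.1

theorem card_nilpotent_end [Finite K] (V : Type u) [AddCommGroup V] [Module K V] [Finite V] :
    Nat.card {T : Module.End K V // IsNilpotent T}
      = Nat.card K ^ (finrank K V * (finrank K V - 1)) :=
  card_nilpotent_aux (finrank K V) V rfl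

end Cfsg.Agent.Helper21.NilCount
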