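import Mathlib
import Cfsg.Prelude.Def_Transfer
import Cfsg.Agent.S0078
import Cfsg.Agent.Helper9.NilpotentHall
import Cfsg.Agent.Helper9.PResidual
import Cfsg.Agent.Helper9.TateNormal
import Cfsg.Agent.Lead.Carter0
import Cfsg.Agent.Lead.CoprimeSylow

/-!
Nilpotent maximal subgroups (helper21).

`exists_normal_compl`: `M` a maximal subgroup of the finite group `G` containing no nontrivial normal
subgroup of `G`, `M` nilpotent with all triple commutators trivial; then for every prime `q ∣ |M|`
the group `G` has a normal `q`-complement (of index the `q`-part of `|M|`).  Proof: the Sylow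
`q`-subgroup `Q` of `M` is Sylow in `G`, `G` is `q`-normal, and Grün II + Tate (`S0078`).
`isSolvable_of_core_eq_bot`, `isSolvable_of_nilpotent_coatom` (Deskins–Janko–Thompson for class ≤ 2).
-/

set_option autoImplicit false
set_option linter.style.haveILetI false

namespace Cfsg.Agent.Helper21.NilpMax

open Subgroup
open scoped commutatorElement

universe u

/-- In a finite nilpotent group a Sylow `q`-subgroup meets `O^q` trivially. -/
theorem sylow_inf_pResidual_of_nilpotent {M : Type*} [Group M] [Finite M] [Group.IsNilpotent M]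
    {q : ℕ} [Fact q.Prime] (Q : Sylow q M) : (Q : Subgroup M) ⊓ Cfsg.pResidual q M = ⊥ := by
  haveI : (Q : Subgroup M).Normal := inferInstance
  have hcop : (Nat.card (Q : Subgroup M)).Coprime (Q : Subgroup M).index := Q.card_coprime_index
  obtain ⟨K, hK⟩ := Subgroup.exists_right_complement'_of_coprime hcop
  have hKidx : K.index = Nat.card (Q : Subgroup M) := hK.index_eq_card
  have hKcard : Nat.card K = (Q : Subgroup M).index := (hK.symm.index_eq_card).symm
  haveI : K.Normal := Cfsg.Agent.Lead.normal_of_coprime_of_isNilpotent K (by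
    rw [hKidx, hKcard]; exact hcop.symm)
  have hPG : IsPGroup q (M ⧸ K) := by
    obtain ⟨a, ha⟩ := IsPGroup.iff_card.mp Q.isPGroup'
    apply IsPGroup.of_card (n := a)
    rw [← Subgroup.index_eq_card, hKidx, ha]
  have hle := Cfsg.Agent.Helper9.pResidual_le_of_isPGroup_quotient K hPG
  rw [eq_bot_iff]
  calc (Q : Subgroup M) ⊓ Cfsg.pResidual q M ≤ (Q : Subgroup M) ⊓ K := inf_le_inf_left _ hle
    _ = ⊥ := hK.disjoint.eq_bot

theorem le_normalizer_of_conj_mem' {G : Type*} [Group G] {Q W : Subgroup G}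
    (h : ∀ x ∈ Q, ∀ w ∈ W, x * w * x⁻¹ ∈ W) : Q ≤ normalizer (W : Set G) := by
  intro x hx
  rw [mem_normalizer_iff]
  intro w
  refine ⟨h x hx w, fun hw => ?_⟩
  have := h x⁻¹ (Q.inv_mem hx) _ hw
  simpa [mul_assoc] using this

theorem conj_mem_sup {G : Type*} [Group G] {A B : Subgroup G} (x : G)
    (hA : ∀ a ∈ A, x * a * x⁻¹ ∈ A ⊔ B) (hB : ∀ b ∈ B, x * b * x⁻¹ ∈ A ⊔ B) :
    ∀ w ∈ A ⊔ B, x * w * x⁻¹ ∈ A ⊔ B := by
  intro w hw
  have : A ⊔ B ≤ (A ⊔ B).comap (MulAut.conj x).toMonoidHom :=
    sup_le (fun a ha => by simpa using hA a ha) (fun b hb => by simpa using hB b hb)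
  simpa using this hw

/-- Every `q`-subgroup of a finite nilpotent group lies in the Sylow `q`-subgroup. -/
theorem le_sylow_of_isPGroup_of_nilpotent {M : Type*} [Group M] [Finite M] [Group.IsNilpotent M]
    {q : ℕ} [Fact q.Prime] (Q : Sylow q M) (R : Subgroup M) (hR : IsPGroup q R) :
    R ≤ (Q : Subgroup M) := by
  obtain ⟨Q', hQ'⟩ := hR.exists_le_sylow
  obtain ⟨g, hg⟩ := MulAction.exists_smul_eq M Q Q'
  haveI hQn : (Q : Subgroup M).Normal := inferInstance
  rw [Sylow.smul_eq_of_normal] at hg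
  rw [hg]; exact hQ'

/-- The normal `q`-complement: see the file header. -/
theorem exists_normal_compl {G : Type u} [Group G] [Finite G] (M : Subgroup G) (hmax : IsCoatom M)
    (hcore : ∀ W : Subgroup G, W.Normal → W ≤ M → W = ⊥)
    [hnil : Group.IsNilpotent M]
    (hcl : ∀ a ∈ M, ∀ b ∈ M, ∀ c ∈ M, ⁅⁅a, b⁆, c⁆ = 1)
    (q : ℕ) [hqf : Fact q.Prime] (hq : q ∣ Nat.card M) :
    ∃ N : Subgroup G, N.Normal ∧ N.index = q ^ (Nat.card M).factorization q ∧
      ¬ q ∣ Nat.card N := by
  classical
  have hqp : q.Prime := hqf.out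
  obtain ⟨QM⟩ : Nonempty (Sylow q M) := inferInstance
  haveI hQMn : (QM : Subgroup M).Normal := inferInstance
  set Q : Subgroup G := (QM : Subgroup M).map M.subtype with hQdef
  have hQM : Q ≤ M := map_subtype_le _
  have hQp : IsPGroup q Q := QM.2.map _
  have hQne : Q ≠ ⊥ := by
    intro h
    rw [hQdef, (map_eq_bot_iff_of_injective _ M.subtype_injective)] at h
    exact QM.ne_bot_of_dvd_card hq h
  have hQcard : Nat.card Q = q ^ (Nat.card M).factorization q := by
    rw [hQdef, Subgroup.card_map_of_injective M.subtype_injective]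
    exact QM.card_eq_multiplicity
  have hmemQ : ∀ m : M, (m : G) ∈ Q ↔ m ∈ (QM : Subgroup M) := by
    intro m
    constructor
    · rintro ⟨m', hm', hmm⟩
      have : m' = m := Subtype.ext hmm
      rwa [← this]
    · intro hm
      exact ⟨m, hm, rfl⟩
  -- decomposition of elements of `M`
  have key1 : ∀ m ∈ M, ∃ s ∈ Q, ∃ r ∈ M, (∀ x ∈ Q, r * x = x * r) ∧ m = s * r := by
    intro m hm
    have hsup := Cfsg.Agent.Helper9.sylow_sup_pResidual QM
    have hmem : (⟨m, hm⟩ : M) ∈ (QM : Subgroup M) ⊔ Cfsg.pResidual q M := by rw [hsup]; trivial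
    rw [← SetLike.mem_coe, Subgroup.mul_normal, Set.mem_mul] at hmem
    obtain ⟨s, hs, r, hr, hsr⟩ := hmem
    have hrc := Cfsg.Agent.Helper9.pResidual_le_centralizer_sylow_of_nilpotent QM hr
    refine ⟨(s : G), (hmemQ s).mpr hs, (r : G), r.2, ?_, ?_⟩
    · rintro x ⟨x', hx', rfl⟩
      have := (mem_centralizer_iff.mp hrc) x' hx'
      have h2 := congrArg Subtype.val this
      simpa using h2.symm
    · have := congrArg Subtype.val hsr
      simpa using this.symm
  have claimA : ∀ W : Subgroup G, W ≤ Q → Q ≤ normalizer (W : Set G) →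
      M ≤ normalizer (W : Set G) := by
    intro W hWQ hQW m hm
    obtain ⟨s, hs, r, _, hrc, rfl⟩ := key1 m hm
    refine (normalizer (W : Set G)).mul_mem (hQW hs) ?_
    rw [mem_normalizer_iff]
    intro w
    have hconj : ∀ w ∈ W, r * w * r⁻¹ = w := by
      intro w hw
      rw [hrc w (hWQ hw), mul_inv_cancel_right]
    constructor
    · intro hw
      rw [hconj w hw]; exact hw
    · intro hw
      have h1 : r⁻¹ * (r * w * r⁻¹) * r = w := by group
      have h2 : r * (r * w * r⁻¹) * r⁻¹ = r * w * r⁻¹ := hconj _ hw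
      have h3 : r * w * r⁻¹ = w := by
        have : r * (r * w * r⁻¹) * r⁻¹ = r * w * r⁻¹ := h2
        have h4 : r * w * r⁻¹ = r⁻¹ * (r * (r * w * r⁻¹) * r⁻¹) * r := by group
        rw [h4, this, h1]
      rw [← h3]; exact hw
  have claimN : ∀ W : Subgroup G, W ≤ Q → W ≠ ⊥ → Q ≤ normalizer (W : Set G) →
      normalizer (W : Set G) = M := by
    intro W hWQ hWne hQW
    have hMW := claimA W hWQ hQW
    rcases eq_or_lt_of_le hMW with h | h
    · exact h.symm
    · exfalso
      have htop := hmax.2 _ h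
      have hWn : W.Normal := normalizer_eq_top_iff.mp htop
      exact hWne (hcore W hWn (hWQ.trans hQM))
  -- `Q` is a Sylow subgroup of `G`
  have hNQ : normalizer (Q : Set G) = M := claimN Q le_rfl hQne le_normalizer
  have hQsyl : ¬ q ∣ Q.index := by
    intro hdvd
    have hdvd' : q ^ ((Nat.card M).factorization q + 1) ∣ Nat.card G := by
      rw [← Subgroup.card_mul_index Q, hQcard, pow_succ]
      exact Nat.mul_dvd_mul_left _ hdvd
    have h1 := Sylow.prime_dvd_card_quotient_normalizer hdvd' hQcard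
    rw [← Subgroup.index_eq_card] at h1
    have h2 : (Q.comap (normalizer (Q : Set G)).subtype).index = (QM : Subgroup M).index := by
      change (Q.subgroupOf (normalizer (Q : Set G))).index = _
      change Q.relIndex (normalizer (Q : Set G)) = _
      rw [hNQ]
      change (Q.subgroupOf M).index = _
      have : Q.subgroupOf M = (QM : Subgroup M) := by
        rw [hQdef]
        exact comap_map_eq_self_of_injective M.subtype_injective _
      rw [this]
    rw [h2] at h1
    exact QM.not_dvd_index h1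
  set Qh : Sylow q G := hQp.toSylow hQsyl with hQh
  have hQhcoe : (Qh : Subgroup G) = Q := rfl
  -- q-subgroups of `M` lie in `Q`
  have hqsub : ∀ R : Subgroup G, IsPGroup q R → R ≤ M → R ≤ Q := by
    intro R hR hRM x hx
    have h1 : IsPGroup q (R.subgroupOf M) := hR.comap_subtype
    have h2 := le_sylow_of_isPGroup_of_nilpotent QM (R.subgroupOf M) h1
    have h3 : (⟨x, hRM hx⟩ : M) ∈ R.subgroupOf M := by
      rw [mem_subgroupOf]; exact hx
    exact (hmemQ ⟨x, hRM hx⟩).mpr (h2 h3)
  -- the centre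
  set Z : Subgroup G := Q ⊓ centralizer (Q : Set G) with hZdef
  have hZQ : Z ≤ Q := inf_le_left
  have hZne : Z ≠ ⊥ := by
    haveI : Nontrivial Q := (Subgroup.nontrivial_iff_ne_bot _).mpr hQne
    haveI : Nontrivial (center Q) := hQp.center_nontrivial
    obtain ⟨z, hz⟩ := exists_ne (1 : center Q)
    intro h
    apply hz
    have hzZ : ((z : Q) : G) ∈ Z := by
      refine Subgroup.mem_inf.mpr ⟨(z : Q).2, ?_⟩
      rw [mem_centralizer_iff]
      intro x hx
      have := (Subgroup.mem_center_iff.mp z.2) ⟨x, hx⟩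
      have h2 := congrArg Subtype.val this
      simpa using h2
    rw [h, mem_bot] at hzZ
    exact Subtype.ext (Subtype.ext hzZ)
  have hcommZ : ∀ z ∈ Z, ∀ x ∈ Q, x * z * x⁻¹ = z := by
    intro z hz x hx
    have := (mem_centralizer_iff.mp hz.2) x hx
    rw [this, mul_inv_cancel_right]
  have hQZ : Q ≤ normalizer (Z : Set G) :=
    le_normalizer_of_conj_mem' (fun x hx z hz => by rw [hcommZ z hz x hx]; exact hz)
  have hNZ : normalizer (Z : Set G) = M := claimN Z hZQ hZne hQZ
  -- class two
  have hcomm_mem : ∀ x ∈ Q, ∀ w ∈ Q, ⁅x, w⁆ ∈ Z := by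
    intro x hx w hw
    refine Subgroup.mem_inf.mpr ⟨(Subgroup.commutator_mem_commutator hx hw |> fun h =>
      (Subgroup.commutator_le_self Q) h), ?_⟩
    rw [mem_centralizer_iff]
    intro c hc
    have := hcl x (hQM hx) w (hQM hw) c (hQM hc)
    rw [commutatorElement_def ⁅x, w⁆ c] at this
    have h2 : ⁅x, w⁆ * c = c * ⁅x, w⁆ := by
      calc ⁅x, w⁆ * c = (⁅x, w⁆ * c * ⁅x, w⁆⁻¹ * c⁻¹) * c * ⁅x, w⁆ := by group
        _ = c * ⁅x, w⁆ := by rw [this, one_mul]
    exact h2.symm
  -- q-normality
  have hn : ∀ S : Sylow q G, (Qh : Subgroup G) ⊓ centralizer ((Qh : Subgroup G) : Set G) ≤ (S : Subgroup G) →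
      (S : Subgroup G) ⊓ centralizer ((S : Subgroup G) : Set G) =
        (Qh : Subgroup G) ⊓ centralizer ((Qh : Subgroup G) : Set G) := by
    intro S hZS
    rw [hQhcoe] at hZS ⊢
    change Z ≤ (S : Subgroup G) at hZS
    obtain ⟨g, hg⟩ := MulAction.exists_smul_eq G Qh S
    have hmemS : ∀ y : G, y ∈ (S : Subgroup G) ↔ g⁻¹ * y * g ∈ Q := by
      intro y
      rw [← hg, Sylow.coe_subgroup_smul, Subgroup.mem_pointwise_smul_iff_inv_smul_mem, hQhcoe]
      simp [MulAut.smul_def, mul_assoc]
    set ZS : Subgroup G := (S : Subgroup G) ⊓ centralizer ((S : Subgroup G) : Set G) with hZSdef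
    have hZSM : ZS ≤ M := by
      intro y hy
      rw [← hNZ]
      apply centralizer_le_normalizer
      rw [mem_centralizer_iff]
      intro z hz
      exact (mem_centralizer_iff.mp hy.2) z (hZS hz)
    have hZSp : IsPGroup q ZS := S.2.to_le inf_le_left
    have hZSQ : ZS ≤ Q := hqsub ZS hZSp hZSM
    set W : Subgroup G := Z ⊔ ZS with hWdef
    have hWQ : W ≤ Q := sup_le hZQ hZSQ
    have hWne : W ≠ ⊥ := by
      intro h
      apply hZne
      rw [eq_bot_iff, ← h]
      exact le_sup_left
    have hQW : Q ≤ normalizer (W : Set G) := by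
      apply le_normalizer_of_conj_mem'
      intro x hx
      apply conj_mem_sup
      · intro z hz
        rw [hcommZ z hz x hx]
        exact le_sup_left (a := Z) hz
      · intro w hw
        have h1 : x * w * x⁻¹ = ⁅x, w⁆ * w := by rw [commutatorElement_def]; group
        rw [h1]
        exact W.mul_mem (le_sup_left (a := Z) (hcomm_mem x hx w (hZSQ hw)))
          (le_sup_right (a := Z) hw)
    have hcommZS : ∀ z ∈ ZS, ∀ x ∈ (S : Subgroup G), x * z * x⁻¹ = z := by
      intro z hz x hx
      have := (mem_centralizer_iff.mp hz.2) x hx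
      rw [this, mul_inv_cancel_right]
    have hcomm_memS : ∀ x ∈ (S : Subgroup G), ∀ w ∈ (S : Subgroup G), ⁅x, w⁆ ∈ ZS := by
      intro x hx w hw
      have hx' := (hmemS x).mp hx
      have hw' := (hmemS w).mp hw
      have hc := hcomm_mem _ hx' _ hw'
      have e : ⁅x, w⁆ = g * ⁅g⁻¹ * x * g, g⁻¹ * w * g⁆ * g⁻¹ := by
        simp only [commutatorElement_def]; group
      refine Subgroup.mem_inf.mpr ⟨?_, ?_⟩
      · rw [hmemS, e]
        have : g⁻¹ * (g * ⁅g⁻¹ * x * g, g⁻¹ * w * g⁆ * g⁻¹) * g = ⁅g⁻¹ * x * g, g⁻¹ * w * g⁆ := by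
          group
        rw [this]
        exact hZQ hc
      · rw [mem_centralizer_iff]
        intro c hcS
        have hc' := (hmemS c).mp hcS
        have h3 := (mem_centralizer_iff.mp hc.2) _ hc'
        rw [e]
        calc c * (g * ⁅g⁻¹ * x * g, g⁻¹ * w * g⁆ * g⁻¹)
            = g * ((g⁻¹ * c * g) * ⁅g⁻¹ * x * g, g⁻¹ * w * g⁆) * g⁻¹ := by group
          _ = g * (⁅g⁻¹ * x * g, g⁻¹ * w * g⁆ * (g⁻¹ * c * g)) * g⁻¹ := by rw [h3]
          _ = g * ⁅g⁻¹ * x * g, g⁻¹ * w * g⁆ * g⁻¹ * c := by group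
    have hSW : (S : Subgroup G) ≤ normalizer (W : Set G) := by
      apply le_normalizer_of_conj_mem'
      intro x hx
      apply conj_mem_sup
      · intro z hz
        have h1 : x * z * x⁻¹ = ⁅x, z⁆ * z := by rw [commutatorElement_def]; group
        rw [h1]
        exact W.mul_mem (le_sup_right (a := Z) (hcomm_memS x hx z (hZS hz)))
          (le_sup_left (a := Z) hz)
      · intro w hw
        rw [hcommZS w hw x hx]
        exact le_sup_right (a := Z) hw
    have hNW := claimN W hWQ hWne hQW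
    rw [hNW] at hSW
    have hSQ : (S : Subgroup G) ≤ Q := hqsub _ S.2 hSW
    have hSeq : (S : Subgroup G) = Q := by
      apply Subgroup.eq_of_le_of_card_ge hSQ
      rw [← hQhcoe, Sylow.card_eq_multiplicity, Sylow.card_eq_multiplicity]
    rw [hZSdef, hSeq]
  have hmain := Cfsg.Agent.S0078.result Qh hn M (by rw [hQhcoe]; exact hNZ.le)
  have hbot : (Qh : Subgroup G) ⊓ Cfsg.pResidual q G = ⊥ := by
    rw [hmain, eq_bot_iff]
    rintro x ⟨hxQ, r, hr, rfl⟩
    rw [hQhcoe] at hxQ
    have hrQ : r ∈ (QM : Subgroup M) := (hmemQ r).mp hxQ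
    have := sylow_inf_pResidual_of_nilpotent QM
    have hr1 : r ∈ (QM : Subgroup M) ⊓ Cfsg.pResidual q M := ⟨hrQ, hr⟩
    rw [this, mem_bot] at hr1
    rw [hr1]; exact Subgroup.one_mem _
  refine ⟨Cfsg.pResidual q G, inferInstance, ?_, ?_⟩
  · have h1 := Cfsg.Agent.Helper17.card_sup_mul_card_inf_of_normal (Cfsg.pResidual q G)
      (Qh : Subgroup G)
    rw [inf_comm, hbot, Subgroup.card_bot, mul_one, sup_comm,
      Cfsg.Agent.Helper9.sylow_sup_pResidual Qh, Subgroup.card_top] at h1
    have h2 := Subgroup.card_mul_index (Cfsg.pResidual q G)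
    have hpos : 0 < Nat.card (Cfsg.pResidual q G) := Nat.card_pos
    have h3 : (Cfsg.pResidual q G).index = Nat.card (Qh : Subgroup G) := by
      apply Nat.eq_of_mul_eq_mul_left hpos
      rw [h2, h1]
    rw [h3, hQhcoe, hQcard]
  · have := Cfsg.Agent.Helper9.coprime_card_of_normal_of_inf_sylow_eq_bot Qh (Cfsg.pResidual q G)
      (by rw [inf_comm]; exact hbot)
    intro hd
    have h1 : q ∣ Nat.gcd (Nat.card (Cfsg.pResidual q G)) q := Nat.dvd_gcd hd dvd_rfl
    rw [this] at h1
    exact hqp.one_lt.ne' (Nat.dvd_one.mp h1)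

/-- Core-free case: `G` is solvable. -/
theorem isSolvable_of_core_eq_bot {G : Type u} [Group G] [Finite G] (M : Subgroup G)
    (hmax : IsCoatom M) (hcore : ∀ W : Subgroup G, W.Normal → W ≤ M → W = ⊥)
    [hnil : Group.IsNilpotent M]
    (hcl : ∀ a ∈ M, ∀ b ∈ M, ∀ c ∈ M, ⁅⁅a, b⁆, c⁆ = 1) : Group.IsSolvable G := by
  classical
  set n := Nat.card M with hn
  have hn0 : n ≠ 0 := Nat.card_pos.ne'
  have key : ∀ i : n.primeFactors, ∃ N : Subgroup G, N.Normal ∧
      N.index = (i : ℕ) ^ n.factorization i ∧ ¬ (i : ℕ) ∣ Nat.card N := by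
    intro i
    haveI : Fact (i : ℕ).Prime := ⟨Nat.prime_of_mem_primeFactors i.2⟩
    exact exists_normal_compl M hmax hcore hcl i (Nat.dvd_of_mem_primeFactors i.2)
  choose f hf1 hf2 hf3 using key
  set K : Subgroup G := ⨅ i, f i with hKdef
  haveI hKn : K.Normal := Subgroup.normal_iInf_normal hf1
  have hidx : K.index ≤ n := by
    calc K.index ≤ ∏ i, (f i).index := Subgroup.index_iInf_le f
      _ = ∏ i : n.primeFactors, (i : ℕ) ^ n.factorization i :=
        Finset.prod_congr rfl (fun i _ => hf2 i)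
      _ = n := (Nat.prod_primeFactors_coe_pow_factorization hn0).symm
  have hcop : Nat.Coprime (Nat.card K) n := by
    apply Nat.Coprime.symm
    apply Nat.coprime_of_dvd
    intro q hq hqn hqN
    have hqmem : q ∈ n.primeFactors := Nat.mem_primeFactors.mpr ⟨hq, hqn, hn0⟩
    have hle : K ≤ f ⟨q, hqmem⟩ := iInf_le f ⟨q, hqmem⟩
    exact hf3 ⟨q, hqmem⟩ (hqN.trans (Subgroup.card_dvd_of_le hle))
  have hMtop : M ≠ ⊤ := hmax.1
  have hKne : K ≠ ⊥ := by
    intro h
    apply hMtop
    have h1 : Nat.card G ≤ Nat.card M := by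
      have h0 : Nat.card K = 1 := by rw [h]; exact Subgroup.card_bot
      have := Subgroup.card_mul_index K
      rw [h0, one_mul] at this
      rw [← this]; exact hidx
    exact Subgroup.eq_top_of_le_card M h1
  -- a prime dividing `|K|`
  have hK1 : Nat.card K ≠ 1 := by
    intro h
    exact hKne (Subgroup.card_eq_one.mp h)
  obtain ⟨r, hr, hrK⟩ := Nat.exists_prime_and_dvd hK1
  haveI : Fact r.Prime := ⟨hr⟩
  haveI hMsolv : Group.IsSolvable M := inferInstance
  obtain ⟨R, hR⟩ := Cfsg.Agent.Lead.coprime_exists_invariant_sylow M K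
    (by rw [normalizer_eq_top_iff.mpr hKn]; exact le_top) hcop.symm (Or.inl hMsolv) r
  set R' : Subgroup G := (R : Subgroup K).map K.subtype with hR'
  have hR'K : R' ≤ K := map_subtype_le _
  have hR'ne : R' ≠ ⊥ := by
    intro h
    rw [hR', (map_eq_bot_iff_of_injective _ K.subtype_injective)] at h
    exact R.ne_bot_of_dvd_card hrK h
  have hR'p : IsPGroup r R' := R.2.map _
  have hnotle : ¬ R' ≤ M := by
    intro hle
    have h1 : R' ≤ K ⊓ M := le_inf hR'K hle
    have h2 : K ⊓ M = ⊥ := (Subgroup.disjoint_of_coprime_natCard hcop).eq_bot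
    rw [h2, le_bot_iff] at h1
    exact hR'ne h1
  have hsup : M ⊔ R' = ⊤ := by
    apply hmax.2
    refine lt_of_le_of_ne le_sup_left ?_
    intro h
    apply hnotle
    rw [h]; exact le_sup_right
  haveI hR'n : R'.Normal := by
    rw [← normalizer_eq_top_iff, eq_top_iff, ← hsup]
    exact sup_le hR le_normalizer
  -- `G ⧸ R'` is a quotient of `M`
  have hsurj : Function.Surjective ((QuotientGroup.mk' R').comp M.subtype) := by
    intro x
    obtain ⟨g, rfl⟩ := QuotientGroup.mk_surjective x
    have hg : g ∈ M ⊔ R' := by rw [hsup]; trivial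
    rw [sup_comm, ← SetLike.mem_coe, Subgroup.normal_mul, Set.mem_mul] at hg
    obtain ⟨a, ha, m, hm, rfl⟩ := hg
    refine ⟨⟨m, hm⟩, ?_⟩
    simp only [MonoidHom.coe_comp, Function.comp_apply, Subgroup.subtype_apply,
      QuotientGroup.mk'_apply]
    rw [QuotientGroup.eq]
    have : m⁻¹ * (a * m) = m⁻¹ * a * m := by group
    rw [this]
    have := hR'n.conj_mem a ha m⁻¹
    simpa using this
  haveI : Group.IsSolvable (G ⧸ R') := Group.isSolvable_of_surjective hsurj
  haveI : Group.IsNilpotent R' := hR'p.isNilpotent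
  haveI : Group.IsSolvable R' := inferInstance
  exact Group.isSolvable_of_ker_le_range R'.subtype (QuotientGroup.mk' R') (by
    rw [QuotientGroup.ker_mk', Subgroup.range_subtype])

/-- Image of a coatom containing the kernel. -/
theorem isCoatom_map_mk {G : Type*} [Group G] (N M : Subgroup G) [N.Normal] (hNM : N ≤ M)
    (hmax : IsCoatom M) : IsCoatom (M.map (QuotientGroup.mk' N)) := by
  have hcm : (M.map (QuotientGroup.mk' N)).comap (QuotientGroup.mk' N) = M := by
    rw [comap_map_eq, QuotientGroup.ker_mk', sup_eq_left.mpr hNM]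
  constructor
  · intro h
    apply hmax.1
    rw [← hcm, h, comap_top]
  · intro X hX
    have h1 : M ≤ X.comap (QuotientGroup.mk' N) := by
      rw [← hcm]; exact comap_mono hX.le
    rcases eq_or_lt_of_le h1 with h | h
    · exfalso
      apply hX.ne
      rw [← map_comap_eq_self_of_surjective (QuotientGroup.mk'_surjective N) X, ← h]
    · have := hmax.2 _ h
      rw [← map_comap_eq_self_of_surjective (QuotientGroup.mk'_surjective N) X, this,
        ← MonoidHom.range_eq_map, MonoidHom.range_eq_top.mpr (QuotientGroup.mk'_surjective N)]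

/-- Deskins–Janko–Thompson: a finite group with a nilpotent maximal subgroup of class at most two is
solvable. -/
theorem isSolvable_of_nilpotent_coatom : ∀ (n : ℕ) (G : Type u) [Group G] [Finite G],
    Nat.card G = n → ∀ M : Subgroup G, IsCoatom M → Group.IsNilpotent M →
      (∀ a ∈ M, ∀ b ∈ M, ∀ c ∈ M, ⁅⁅a, b⁆, c⁆ = 1) → Group.IsSolvable G := by
  intro n
  induction n using Nat.strong_induction_on with
  | _ n ih =>
  intro G _ _ hG M hmax hnil hcl
  by_cases hcore : M.normalCore = ⊥
  · haveI := hnil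
    apply isSolvable_of_core_eq_bot M hmax ?_ hcl
    intro W hW hWM
    haveI := hW
    have := (Subgroup.normal_le_normalCore).mpr hWM
    rw [hcore, le_bot_iff] at this
    exact this
  · set N := M.normalCore with hN
    haveI : N.Normal := Subgroup.normalCore_normal M
    have hNM : N ≤ M := Subgroup.normalCore_le M
    have hlt : Nat.card (G ⧸ N) < n := by
      rw [← hG, ← Subgroup.index_eq_card, ← Subgroup.card_mul_index N]
      have h1 : 1 < Nat.card N := by
        rcases Nat.lt_or_ge 1 (Nat.card N) with h | h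
        · exact h
        · exfalso
          have hpos : 0 < Nat.card N := Nat.card_pos
          exact hcore (Subgroup.card_eq_one.mp (by omega))
      have hpos : 0 < N.index := Nat.pos_of_ne_zero (Subgroup.index_ne_zero_of_finite)
      nlinarith
    set M' : Subgroup (G ⧸ N) := M.map (QuotientGroup.mk' N) with hM'
    have hmax' := isCoatom_map_mk N M hNM hmax
    have hsurj : Function.Surjective ((QuotientGroup.mk' N).subgroupMap M) :=
      MonoidHom.subgroupMap_surjective _ _
    have hnil' : Group.IsNilpotent M' := Group.nilpotent_of_surjective _ hsurj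
    have hcl' : ∀ a ∈ M', ∀ b ∈ M', ∀ c ∈ M', ⁅⁅a, b⁆, c⁆ = 1 := by
      rintro _ ⟨a, ha, rfl⟩ _ ⟨b, hb, rfl⟩ _ ⟨c, hc, rfl⟩
      rw [← map_commutatorElement, ← map_commutatorElement, hcl a ha b hb c hc, map_one]
    haveI : Group.IsSolvable (G ⧸ N) := ih _ hlt (G ⧸ N) rfl M' hmax' hnil' hcl'
    haveI : Group.IsNilpotent N := by
      haveI := hnil
      exact Cfsg.Agent.Lead.isNilpotent_of_injective (Subgroup.inclusion hNM)
        (Subgroup.inclusion_injective hNM)
    haveI : Group.IsSolvable N := inferInstance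
    exact Group.isSolvable_of_ker_le_range N.subtype (QuotientGroup.mk' N) (by
      rw [QuotientGroup.ker_mk', Subgroup.range_subtype])

end Cfsg.Agent.Helper21.NilpMax
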