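import Mathlib

set_option autoImplicit false

/-!
No simple group of order 4320: arithmetic.
-/

namespace Cfsg.Agent.Helper21.O4320

theorem filter_deg : (Nat.divisors 4320).filter (fun c => (c % 5 = 1 ∨ c % 5 = 4) ∧ c ≤ 65) =
    {1, 4, 6, 9, 16, 24, 36, 54} := by decide +kernel

/-- The set of possible signed degrees. -/
def E : Finset ℤ := {-54, -24, -9, -4, 6, 16, 36}

theorem signed_mem (d : ℕ) (a : ℤ) (ha : a = 1 ∨ a = -1) (hd : d ∣ 4320) (hd1 : d ≠ 1)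
    (hle : d ≤ 65) (hcong : (d : ℤ) ≡ a [ZMOD 5]) : a * d ∈ E := by
  have h1 : d ∈ (Nat.divisors 4320).filter (fun c => (c % 5 = 1 ∨ c % 5 = 4) ∧ c ≤ 65) := by
    rw [Finset.mem_filter, Nat.mem_divisors]
    refine ⟨⟨hd, by norm_num⟩, ?_, hle⟩
    unfold Int.ModEq at hcong
    rcases ha with rfl | rfl <;> omega
  rw [filter_deg] at h1
  simp only [Finset.mem_insert, Finset.mem_singleton] at h1
  unfold Int.ModEq at hcong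
  unfold E
  rcases ha with rfl | rfl <;>
    rcases h1 with rfl | rfl | rfl | rfl | rfl | rfl | rfl | rfl <;>
    first | omega | decide

theorem pattern_e : ∀ e1 ∈ E, ∀ e2 ∈ E, e1 ≤ e2 → ∀ e3 ∈ E, e2 ≤ e3 → ∀ e4 ∈ E, e3 ≤ e4 →
    1 + e1 + e2 + e3 + e4 = 0 →
    (e1 = -9 ∧ e2 = -4 ∧ e3 = -4 ∧ e4 = 16) ∨ (e1 = -24 ∧ e2 = -9 ∧ e3 = -4 ∧ e4 = 36) ∨
      (e1 = -9 ∧ e2 = -4 ∧ e3 = 6 ∧ e4 = 6) ∨ (e1 = -24 ∧ e2 = -9 ∧ e3 = 16 ∧ e4 = 16) := by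
  unfold E
  decide +kernel

/-- Recover degree and sign from the signed degree. -/
theorem recover (d : ℕ) (a e : ℤ) (ha : a = 1 ∨ a = -1) (h : a * d = e) :
    (0 < e → a = 1 ∧ (d : ℤ) = e) ∧ (e < 0 → a = -1 ∧ (d : ℤ) = -e) := by
  rcases ha with rfl | rfl <;> constructor <;> intro h' <;> constructor <;> omega

/-- Integrality of the central character at an involution. -/
def Div (d idx m : ℕ) : Prop := (d : ℤ) ∣ (idx : ℤ) * (2 * (m : ℤ) - (d : ℤ))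

instance (d idx m : ℕ) : Decidable (Div d idx m) := by unfold Div; infer_instance

/-- The constraints on an involution whose centralizer contains a Sylow `2`-subgroup. -/
def Bad (d1 d2 d3 d4 : ℕ) (s1 s2 s3 s4 : ℤ) (idx m1 m2 m3 m4 : ℕ) : Prop :=
  1 + s1 * (2 * (m1 : ℤ) - d1) + s2 * (2 * (m2 : ℤ) - d2) + s3 * (2 * (m3 : ℤ) - d3) +
      s4 * (2 * (m4 : ℤ) - d4) = 0 ∧
    (idx : ℤ) * (1 + (2 * (m1 : ℤ) - d1) ^ 2 + (2 * (m2 : ℤ) - d2) ^ 2 + (2 * (m3 : ℤ) - d3) ^ 2 +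
      (2 * (m4 : ℤ) - d4) ^ 2) ≤ 4320 ∧
    ∃ n ∈ Finset.range 6, (n : ℤ) * 4320 * ((d1 : ℤ) * d2 * d3 * d4) =
      (idx : ℤ) ^ 2 * ((d1 : ℤ) * d2 * d3 * d4 +
        s1 * (2 * (m1 : ℤ) - d1) ^ 2 * ((d2 : ℤ) * d3 * d4) +
        s2 * (2 * (m2 : ℤ) - d2) ^ 2 * ((d1 : ℤ) * d3 * d4) +
        s3 * (2 * (m3 : ℤ) - d3) ^ 2 * ((d1 : ℤ) * d2 * d4) +
        s4 * (2 * (m4 : ℤ) - d4) ^ 2 * ((d1 : ℤ) * d2 * d3))

instance (d1 d2 d3 d4 : ℕ) (s1 s2 s3 s4 : ℤ) (idx m1 m2 m3 m4 : ℕ) :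
    Decidable (Bad d1 d2 d3 d4 s1 s2 s3 s4 idx m1 m2 m3 m4) := by
  unfold Bad; infer_instance

theorem no1 : ∀ idx ∈ ({5, 15, 45, 135} : Finset ℕ),
    ∀ m1 ∈ Finset.range 9, Div 9 idx m1 → ∀ m2 ∈ Finset.range 4, Div 4 idx m2 →
    ∀ m3 ∈ Finset.range 4, Div 4 idx m3 → ∀ m4 ∈ Finset.range 16, Div 16 idx m4 →
    ¬ Bad 9 4 4 16 (-1) (-1) (-1) 1 idx m1 m2 m3 m4 := by
  decide +kernel

theorem no2 : ∀ idx ∈ ({5, 15, 45, 135} : Finset ℕ),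
    ∀ m1 ∈ Finset.range 24, Div 24 idx m1 → ∀ m2 ∈ Finset.range 9, Div 9 idx m2 →
    ∀ m3 ∈ Finset.range 4, Div 4 idx m3 → ∀ m4 ∈ Finset.range 36, Div 36 idx m4 →
    ¬ Bad 24 9 4 36 (-1) (-1) (-1) 1 idx m1 m2 m3 m4 := by
  decide +kernel

theorem no3 : ∀ idx ∈ ({5, 15, 45, 135} : Finset ℕ),
    ∀ m1 ∈ Finset.range 9, Div 9 idx m1 → ∀ m2 ∈ Finset.range 4, Div 4 idx m2 →
    ∀ m3 ∈ Finset.range 6, Div 6 idx m3 → ∀ m4 ∈ Finset.range 6, Div 6 idx m4 →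
    ¬ Bad 9 4 6 6 (-1) (-1) 1 1 idx m1 m2 m3 m4 := by
  decide +kernel

theorem no4 : ∀ idx ∈ ({5, 15, 45, 135} : Finset ℕ),
    ∀ m1 ∈ Finset.range 24, Div 24 idx m1 → ∀ m2 ∈ Finset.range 9, Div 9 idx m2 →
    ∀ m3 ∈ Finset.range 16, Div 16 idx m3 → ∀ m4 ∈ Finset.range 16, Div 16 idx m4 →
    ¬ Bad 24 9 16 16 (-1) (-1) 1 1 idx m1 m2 m3 m4 := by
  decide +kernel

theorem filter_idx : (Nat.divisors 135).filter (fun c => 5 ∣ c) = {5, 15, 45, 135} := by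
  decide +kernel

end Cfsg.Agent.Helper21.O4320
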