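import Mathlib
import Cfsg.Agent.Helper21.O4320a
import Cfsg.Agent.Helper21.BrRat
import Cfsg.Agent.S1001
import Cfsg.Agent.S0995
import Cfsg.Agent.Helper11.SelfCent
import Cfsg.Agent.Helper11.SylowCount
import Cfsg.Agent.Helper11.O504A
import Cfsg.Agent.Helper24.SelfCentD
import Cfsg.Agent.Helper24.Abelian
import Cfsg.Agent.Helper8.PrincipalParity

set_option autoImplicit false
set_option linter.unusedSectionVars false
set_option maxHeartbeats 1000000

/-!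
No simple group of order 4320.
-/

namespace Cfsg.Agent.Helper21.O4320

open Cfsg Cfsg.Agent.Helper24 Cfsg.Agent.Helper5 Cfsg.Agent.Helper5.CC Subgroup
  Cfsg.Agent.Helper15.BrP Cfsg.Agent.Helper5.ClassMul
  Cfsg.Agent.Helper21.BrInv Cfsg.Agent.Helper21.BrRat

variable {G : Type*} [Group G] [Finite G] [IsSimpleGroup G]

instance fact5 : Fact (Nat.Prime 5) := ⟨by norm_num⟩

theorem noncomm (hcard : Nat.card G = 4320) : ¬ IsMulCommutative G :=
  Cfsg.Agent.Helper11.simple_noncomm_of_card (by rw [hcard]; norm_num)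

theorem perfect (hcard : Nat.card G = 4320) : commutator G = ⊤ :=
  Cfsg.Agent.Helper11.O504.commutator_eq_top (noncomm hcard)

/-- The local structure at the prime `5`. -/
theorem local5 (hcard : Nat.card G = 4320) :
    ∃ x : G, orderOf x = 5 ∧ Nat.card (centralizer ({x} : Set G)) = 5 ∧
      (∀ y : G, orderOf y = 5 → IsConj y x) ∧
      (∀ y : G, orderOf y = 5 → centralizer ({y} : Set G) = zpowers y) := by
  have hG := noncomm hcard
  have hG' : Nat.card G = 864 * 5 ^ 1 := by rw [hcard]; norm_num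
  have hm : ¬ 5 ∣ 864 := by norm_num
  have hS1001 : ∀ y : G, orderOf y = 5 → centralizer ({y} : Set G) = zpowers y := fun y hy =>
    Cfsg.Agent.S1001.result 5 3 5 (by norm_num) (by rw [hcard]; norm_num) y hy
  obtain ⟨P⟩ : Nonempty (Sylow 5 G) := inferInstance
  have hP : Nat.card (P : Subgroup G) = 5 := by
    have := (Cfsg.Agent.Helper11.sylow_card_of_card_eq_pow 864 1 hG' hm P).1
    rwa [pow_one] at this
  obtain ⟨x, hxP, hx, hPz⟩ := exists_gen P hP
  have hCx := hS1001 x hx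
  have hCP : centralizer ((P : Subgroup G) : Set G) = zpowers x := by
    rw [hPz, centralizer_zpowers, hCx]
  have hC : Nat.card (centralizer ((P : Subgroup G) : Set G)) = 5 := by
    rw [hCP, Nat.card_zpowers, hx]
  have hCx5 : Nat.card (centralizer ({x} : Set G)) = 5 := by
    rw [hCx, Nat.card_zpowers, hx]
  obtain ⟨hk1, hk4, hkC, -⟩ := Cfsg.Agent.Helper11.simple_automizer_data hG 5 P hP
  have hNP := Cfsg.Agent.Helper11.card_sylow_mul_card_normalizer P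
  rw [hcard] at hNP
  rw [hC] at hkC
  have hmod : Nat.card (Sylow 5 G) % 5 = 1 := by
    have := card_sylow_modEq_one 5 G
    unfold Nat.ModEq at this
    rw [this]
  have hs216 : Nat.card (Sylow 5 G) = 216 := by
    have hk4' : (centralizer ((P : Subgroup G) : Set G)).relIndex
      (normalizer ((P : Subgroup G) : Set G)) ∣ 4 := hk4
    have hkle := Nat.le_of_dvd (by norm_num) hk4'
    generalize (centralizer ((P : Subgroup G) : Set G)).relIndex
      (normalizer ((P : Subgroup G) : Set G)) = k at hk1 hk4' hkle hkC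
    generalize Nat.card (normalizer ((P : Subgroup G) : Set G)) = n at hkC hNP
    generalize Nat.card (Sylow 5 G) = s at hNP hmod ⊢
    interval_cases k
    · have hn : n = 0 := by omega
      subst hn
      omega
    · omega
    · exfalso
      have hn : n = 10 := by omega
      subst hn
      have : s = 432 := by omega
      omega
    · omega
    · have hn : n = 20 := by omega
      subst hn
      omega
  refine ⟨x, hx, hCx5, ?_, hS1001⟩
  obtain ⟨n, t, ht, -, hsyl, hform⟩ := Cfsg.Agent.S0995.result (perfect hcard) 5 x hx hCx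
  rw [hcard, ← hsyl, hs216] at hform
  have ht1 : t = 1 := by omega
  intro y hy
  rw [ht1] at ht
  have hsub := (Nat.card_eq_one_iff_unique.mp ht.symm).1
  have h1 := @Subsingleton.elim _ hsub
    (⟨ConjClasses.mk y, y, rfl, hy⟩ : {c : ConjClasses G // ∃ g : G, ConjClasses.mk g = c ∧
      orderOf g = 5}) ⟨ConjClasses.mk x, x, rfl, hx⟩
  have h2 := congrArg Subtype.val h1
  exact ConjClasses.mk_eq_mk_iff_isConj.mp h2

theorem irrDeg_dvd (hcard : Nat.card G = 4320) (χ : IrrCharacter G) : irrDeg χ ∣ 4320 := by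
  rw [← hcard]; exact irrDeg_dvd_card χ

theorem irrDeg_ne_one (hcard : Nat.card G = 4320) (χ : IrrCharacter G) (hχ : χ ≠ trivIrr G) :
    irrDeg χ ≠ 1 :=
  Cfsg.Agent.Helper24.SelfCent.irrDeg_ne_one_of_perfect (perfect hcard) χ hχ

theorem irrDeg_le (hcard : Nat.card G = 4320) [Fintype G] [Fintype (IrrCharacter G)]
    (χ : IrrCharacter G) : irrDeg χ ≤ 65 := by
  have h1 := sum_irrDeg_sq (G := G)
  rw [hcard] at h1
  have h2 : irrDeg χ ^ 2 ≤ ∑ ψ : IrrCharacter G, irrDeg ψ ^ 2 :=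
    Finset.single_le_sum (f := fun ψ : IrrCharacter G => irrDeg ψ ^ 2) (fun i _ => Nat.zero_le _)
      (Finset.mem_univ χ)
  rw [h1] at h2
  by_contra hlt
  push Not at hlt
  have : 66 ^ 2 ≤ irrDeg χ ^ 2 := Nat.pow_le_pow_left hlt 2
  omega

/-- The characters not vanishing at an element `x` of order `5`. -/
theorem charData (hcard : Nat.card G = 4320) [Fintype G] [Fintype (IrrCharacter G)]
    [DecidableEq (IrrCharacter G)] (x : G) (hx : orderOf x = 5)
    (hCx5 : Nat.card (centralizer ({x} : Set G)) = 5)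
    (hconj : ∀ y : G, orderOf y = 5 → IsConj y x) :
    ∃ (a : IrrCharacter G → ℤ) (χ1 χ2 χ3 χ4 : IrrCharacter G),
      (∀ ψ : IrrCharacter G, (ψ : G → ℂ) x = (a ψ : ℂ)) ∧
      [trivIrr G, χ1, χ2, χ3, χ4].Nodup ∧
      (∀ ψ, ψ ∉ [trivIrr G, χ1, χ2, χ3, χ4] → a ψ = 0) ∧
      ((irrDeg χ1 = 9 ∧ a χ1 = -1 ∧ irrDeg χ2 = 4 ∧ a χ2 = -1 ∧ irrDeg χ3 = 4 ∧ a χ3 = -1 ∧
          irrDeg χ4 = 16 ∧ a χ4 = 1) ∨
        (irrDeg χ1 = 24 ∧ a χ1 = -1 ∧ irrDeg χ2 = 9 ∧ a χ2 = -1 ∧ irrDeg χ3 = 4 ∧ a χ3 = -1 ∧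
          irrDeg χ4 = 36 ∧ a χ4 = 1) ∨
        (irrDeg χ1 = 9 ∧ a χ1 = -1 ∧ irrDeg χ2 = 4 ∧ a χ2 = -1 ∧ irrDeg χ3 = 6 ∧ a χ3 = 1 ∧
          irrDeg χ4 = 6 ∧ a χ4 = 1) ∨
        (irrDeg χ1 = 24 ∧ a χ1 = -1 ∧ irrDeg χ2 = 9 ∧ a χ2 = -1 ∧ irrDeg χ3 = 16 ∧ a χ3 = 1 ∧
          irrDeg χ4 = 16 ∧ a χ4 = 1)) := by
  classical
  have hx1 : x ≠ 1 := by intro h; rw [h, orderOf_one] at hx; omega
  choose a ha using fun ψ : IrrCharacter G => exists_int_value 5 x hx hconj ψ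
  have hval : ∀ ψ : IrrCharacter G, (ψ : G → ℂ) x = (a ψ : ℂ) := fun ψ => (ha ψ).1
  have hcong : ∀ ψ : IrrCharacter G, (irrDeg ψ : ℤ) ≡ a ψ [ZMOD 5] := fun ψ => by
    have := (ha ψ).2
    exact_mod_cast this
  -- second orthogonality
  have hsq : ∑ ψ : IrrCharacter G, a ψ ^ 2 = 5 := by
    have h := sum_irr_mul_conj x x
    rw [if_pos (IsConj.refl x), hCx5] at h
    push_cast at h
    have h' : ((∑ ψ : IrrCharacter G, a ψ ^ 2 : ℤ) : ℂ) = ((5 : ℤ) : ℂ) := by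
      push_cast
      rw [← h]
      refine Finset.sum_congr rfl fun ψ _ => ?_
      rw [hval ψ, map_intCast, sq]
    exact_mod_cast h'
  have hcol : ∑ ψ : IrrCharacter G, (irrDeg ψ : ℤ) * a ψ = 0 := by
    have h := sum_irr_mul_conj (1 : G) x
    rw [if_neg (by rw [isConj_one_right]; exact hx1)] at h
    have h' : ((∑ ψ : IrrCharacter G, (irrDeg ψ : ℤ) * a ψ : ℤ) : ℂ) = ((0 : ℤ) : ℂ) := by
      push_cast
      rw [← h]
      refine Finset.sum_congr rfl fun ψ _ => ?_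
      rw [hval ψ, map_intCast, irrDeg_spec]
    exact_mod_cast h'
  have hatriv : a (trivIrr G) = 1 := by
    have := hval (trivIrr G)
    rw [trivIrr_apply] at this
    exact_mod_cast this.symm
  have hdtriv : irrDeg (trivIrr G) = 1 := by rw [irrDeg_eq_one_iff]; rfl
  set F := (Finset.univ.erase (trivIrr G)).filter (fun ψ => a ψ ≠ 0) with hF
  have hFsq : ∑ ψ ∈ F, a ψ ^ 2 = 4 := by
    rw [hF, Finset.sum_filter_of_ne]
    · have := Finset.add_sum_erase Finset.univ (fun ψ => a ψ ^ 2) (Finset.mem_univ (trivIrr G))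
      rw [hsq, hatriv] at this
      linarith
    · intro ψ _ h hc
      apply h
      rw [hc]; norm_num
  have hFcol : 1 + ∑ ψ ∈ F, (irrDeg ψ : ℤ) * a ψ = 0 := by
    rw [hF, Finset.sum_filter_of_ne]
    · have := Finset.add_sum_erase Finset.univ (fun ψ => (irrDeg ψ : ℤ) * a ψ)
        (Finset.mem_univ (trivIrr G))
      rw [hcol, hatriv, hdtriv] at this
      push_cast at this
      linarith
    · intro ψ _ h hc
      apply h
      rw [hc]; norm_num
  have hFmem : ∀ ψ ∈ F, ψ ≠ trivIrr G ∧ a ψ ≠ 0 := by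
    intro ψ hψ
    rw [hF, Finset.mem_filter, Finset.mem_erase] at hψ
    exact ⟨hψ.1.1, hψ.2⟩
  have hFpos : ∀ ψ ∈ F, 1 ≤ a ψ ^ 2 := by
    intro ψ hψ
    have h0 := (hFmem ψ hψ).2
    have : 0 < a ψ ^ 2 := by positivity
    omega
  have hFle : ∀ ψ ∈ F, a ψ ^ 2 ≤ 4 := by
    intro ψ hψ
    rw [← hFsq]
    exact Finset.single_le_sum (f := fun ψ => a ψ ^ 2) (fun i _ => sq_nonneg (a i)) hψ
  have hFone : ∀ ψ ∈ F, a ψ = 1 ∨ a ψ = -1 := by
    intro ψ₀ hψ₀
    have h1 := hFpos ψ₀ hψ₀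
    have h2 := hFle ψ₀ hψ₀
    have h3 : -2 ≤ a ψ₀ := by nlinarith
    have h4 : a ψ₀ ≤ 2 := by nlinarith
    have h5 := (hFmem ψ₀ hψ₀).2
    by_contra hcon
    push Not at hcon
    have h6 : a ψ₀ = 2 ∨ a ψ₀ = -2 := by omega
    have h7 : a ψ₀ ^ 2 = 4 := by rcases h6 with h | h <;> rw [h] <;> norm_num
    -- then `F = {ψ₀}`
    have h8 := Finset.add_sum_erase F (fun ψ => a ψ ^ 2) hψ₀
    rw [hFsq, h7] at h8
    have h9 : F.erase ψ₀ = ∅ := by
      by_contra hne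
      obtain ⟨ψ, hψ⟩ := Finset.nonempty_iff_ne_empty.mpr hne
      have h10 := Finset.single_le_sum (f := fun ψ => a ψ ^ 2) (fun i _ => sq_nonneg (a i)) hψ
      have h11 := hFpos ψ (Finset.mem_of_mem_erase hψ)
      have : (fun ψ => a ψ ^ 2) ψ = a ψ ^ 2 := rfl
      linarith
    have h12 := Finset.add_sum_erase F (fun ψ => (irrDeg ψ : ℤ) * a ψ) hψ₀
    rw [h9, Finset.sum_empty, add_zero] at h12
    rw [← h12] at hFcol
    rcases h6 with h | h <;> rw [h] at hFcol <;> omega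
  have hFcard : F.card = 4 := by
    have h1 : ∑ ψ ∈ F, a ψ ^ 2 = ∑ _ψ ∈ F, (1 : ℤ) := by
      refine Finset.sum_congr rfl fun ψ hψ => ?_
      rcases hFone ψ hψ with h | h <;> rw [h] <;> norm_num
    rw [hFsq, Finset.sum_const, nsmul_eq_mul, mul_one] at h1
    exact_mod_cast h1.symm
  obtain ⟨χ1, χ2, χ3, χ4, hnd, hmem, le12, le23, le34⟩ :=
    exists_sorted_four F hFcard (fun ψ => a ψ * (irrDeg ψ : ℤ))
  have m1 : χ1 ∈ F := (hmem χ1).mpr (by simp)
  have m2 : χ2 ∈ F := (hmem χ2).mpr (by simp)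
  have m3 : χ3 ∈ F := (hmem χ3).mpr (by simp)
  have m4 : χ4 ∈ F := (hmem χ4).mpr (by simp)
  have hsumF : ∑ ψ ∈ F, (irrDeg ψ : ℤ) * a ψ = (irrDeg χ1 : ℤ) * a χ1 + (irrDeg χ2 : ℤ) * a χ2 +
      (irrDeg χ3 : ℤ) * a χ3 + (irrDeg χ4 : ℤ) * a χ4 := by
    have hFl : F = [χ1, χ2, χ3, χ4].toFinset := by
      ext y
      rw [hmem y, List.mem_toFinset]
    rw [hFl, List.sum_toFinset _ hnd]
    simp only [List.map_cons, List.map_nil, List.sum_cons, List.sum_nil]
    ring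
  have key : ∀ ψ ∈ F, a ψ * (irrDeg ψ : ℤ) ∈ E := by
    intro ψ hψ
    exact signed_mem (irrDeg ψ) (a ψ) (hFone ψ hψ) (irrDeg_dvd hcard ψ)
      (irrDeg_ne_one hcard ψ (hFmem ψ hψ).1) (irrDeg_le hcard ψ) (hcong ψ)
  have hpat := pattern_e _ (key χ1 m1) _ (key χ2 m2) le12 _ (key χ3 m3) le23 _ (key χ4 m4) le34
    (by rw [hsumF] at hFcol; linarith)
  have r1 := recover (irrDeg χ1) (a χ1) _ (hFone χ1 m1) rfl
  have r2 := recover (irrDeg χ2) (a χ2) _ (hFone χ2 m2) rfl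
  have r3 := recover (irrDeg χ3) (a χ3) _ (hFone χ3 m3) rfl
  have r4 := recover (irrDeg χ4) (a χ4) _ (hFone χ4 m4) rfl
  refine ⟨a, χ1, χ2, χ3, χ4, hval, ?_, ?_, ?_⟩
  · rw [List.nodup_cons]
    refine ⟨?_, hnd⟩
    intro h
    have := (hmem (trivIrr G)).mpr h
    exact (hFmem _ this).1 rfl
  · intro ψ hψ
    by_contra hne
    apply hψ
    by_cases ht : ψ = trivIrr G
    · rw [ht]; simp
    · have : ψ ∈ F := by
        rw [hF, Finset.mem_filter, Finset.mem_erase]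
        exact ⟨⟨ht, Finset.mem_univ _⟩, hne⟩
      exact List.mem_cons_of_mem _ ((hmem ψ).mp this)
  · rcases hpat with ⟨e1, e2, e3, e4⟩ | ⟨e1, e2, e3, e4⟩ | ⟨e1, e2, e3, e4⟩ | ⟨e1, e2, e3, e4⟩
    · left
      rw [e1] at r1; rw [e2] at r2; rw [e3] at r3; rw [e4] at r4
      have q1 := r1.2 (by norm_num)
      have q2 := r2.2 (by norm_num)
      have q3 := r3.2 (by norm_num)
      have q4 := r4.1 (by norm_num)
      refine ⟨by omega, q1.1, by omega, q2.1, by omega, q3.1, by omega, q4.1⟩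
    · right; left
      rw [e1] at r1; rw [e2] at r2; rw [e3] at r3; rw [e4] at r4
      have q1 := r1.2 (by norm_num)
      have q2 := r2.2 (by norm_num)
      have q3 := r3.2 (by norm_num)
      have q4 := r4.1 (by norm_num)
      refine ⟨by omega, q1.1, by omega, q2.1, by omega, q3.1, by omega, q4.1⟩
    · right; right; left
      rw [e1] at r1; rw [e2] at r2; rw [e3] at r3; rw [e4] at r4
      have q1 := r1.2 (by norm_num)
      have q2 := r2.2 (by norm_num)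
      have q3 := r3.1 (by norm_num)
      have q4 := r4.1 (by norm_num)
      refine ⟨by omega, q1.1, by omega, q2.1, by omega, q3.1, by omega, q4.1⟩
    · right; right; right
      rw [e1] at r1; rw [e2] at r2; rw [e3] at r3; rw [e4] at r4
      have q1 := r1.2 (by norm_num)
      have q2 := r2.2 (by norm_num)
      have q3 := r3.1 (by norm_num)
      have q4 := r4.1 (by norm_num)
      refine ⟨by omega, q1.1, by omega, q2.1, by omega, q3.1, by omega, q4.1⟩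

/-- Data of an irreducible character at an involution. -/
theorem invData (χ : IrrCharacter G) (t x : G) (ht : orderOf t = 2)
    (hxne : (χ : G → ℂ) x ≠ (irrDeg χ : ℂ)) (d : ℕ) (hd : irrDeg χ = d) (hd0 : d ≠ 0) :
    ∃ m : ℕ, m < d ∧ (χ : G → ℂ) t = ((2 * (m : ℤ) - (d : ℤ) : ℤ) : ℂ) ∧
      Div d (centralizer ({t} : Set G)).index m := by
  have ht1 : t ≠ 1 := by intro h; rw [h, orderOf_one] at ht; omega
  obtain ⟨d₀, m, hd', hm⟩ :=
    Cfsg.Agent.Helper8.char_involution (IsIrrCharacter.isCharacter χ.2) ht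
  have hd8 : d₀ = d := by
    rw [irrDeg_spec, hd] at hd'
    exact_mod_cast hd'.symm
  subst hd8
  have hχt : (χ : G → ℂ) t = ((2 * (m : ℤ) - (d₀ : ℤ) : ℤ) : ℂ) := by
    rw [hm]; push_cast; ring
  have hle : |2 * (m : ℤ) - (d₀ : ℤ)| ≤ d₀ := by
    have := norm_le_irrDeg χ t
    rw [hχt, hd, Complex.norm_intCast] at this
    exact_mod_cast this
  have hne : m ≠ d₀ := by
    intro h
    apply ht1
    apply eq_one_of_apply_eq_irrDeg χ x hxne t
    rw [hχt, h, hd]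
    push_cast
    ring
  refine ⟨m, ?_, hχt, ?_⟩
  · have := abs_le.mp hle
    omega
  · unfold Div
    exact centralChar_int χ t _ d₀ hd0 hχt hd

/-- The constraints satisfied by an involution. -/
theorem bad_of (hcard : Nat.card G = 4320) [Fintype G] [Fintype (IrrCharacter G)]
    [DecidableEq (IrrCharacter G)] (x : G) (hx : orderOf x = 5)
    (hCx5 : Nat.card (centralizer ({x} : Set G)) = 5)
    (a : IrrCharacter G → ℤ) (χ1 χ2 χ3 χ4 : IrrCharacter G)
    (hval : ∀ ψ : IrrCharacter G, (ψ : G → ℂ) x = (a ψ : ℂ))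
    (hnd : [trivIrr G, χ1, χ2, χ3, χ4].Nodup)
    (hzero : ∀ ψ, ψ ∉ [trivIrr G, χ1, χ2, χ3, χ4] → a ψ = 0)
    (d1 d2 d3 d4 : ℕ) (s1 s2 s3 s4 : ℤ)
    (hd1 : irrDeg χ1 = d1) (hd2 : irrDeg χ2 = d2) (hd3 : irrDeg χ3 = d3) (hd4 : irrDeg χ4 = d4)
    (hs1 : a χ1 = s1) (hs2 : a χ2 = s2) (hs3 : a χ3 = s3) (hs4 : a χ4 = s4)
    (g1 : 4 ≤ d1) (g2 : 4 ≤ d2) (g3 : 4 ≤ d3) (g4 : 4 ≤ d4)
    (k1 : s1 = 1 ∨ s1 = -1) (k2 : s2 = 1 ∨ s2 = -1) (k3 : s3 = 1 ∨ s3 = -1)
    (k4 : s4 = 1 ∨ s4 = -1) (t : G) (ht : orderOf t = 2) :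
    ∃ m1 m2 m3 m4 : ℕ, m1 < d1 ∧ m2 < d2 ∧ m3 < d3 ∧ m4 < d4 ∧
      Div d1 (centralizer ({t} : Set G)).index m1 ∧ Div d2 (centralizer ({t} : Set G)).index m2 ∧
      Div d3 (centralizer ({t} : Set G)).index m3 ∧ Div d4 (centralizer ({t} : Set G)).index m4 ∧
      Bad d1 d2 d3 d4 s1 s2 s3 s4 (centralizer ({t} : Set G)).index m1 m2 m3 m4 := by
  classical
  have hne : ∀ (χ : IrrCharacter G) (d : ℕ) (s : ℤ), irrDeg χ = d → a χ = s → 4 ≤ d →
      (s = 1 ∨ s = -1) → (χ : G → ℂ) x ≠ (irrDeg χ : ℂ) := by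
    intro χ d s hd hs h4 hs1 h
    rw [hval χ, hd, hs] at h
    have : (s : ℤ) = (d : ℤ) := by exact_mod_cast h
    rcases hs1 with h' | h' <;> omega
  obtain ⟨m1, l1, v1, i1⟩ := invData χ1 t x ht (hne χ1 d1 s1 hd1 hs1 g1 k1) d1 hd1 (by omega)
  obtain ⟨m2, l2, v2, i2⟩ := invData χ2 t x ht (hne χ2 d2 s2 hd2 hs2 g2 k2) d2 hd2 (by omega)
  obtain ⟨m3, l3, v3, i3⟩ := invData χ3 t x ht (hne χ3 d3 s3 hd3 hs3 g3 k3) d3 hd3 (by omega)
  obtain ⟨m4, l4, v4, i4⟩ := invData χ4 t x ht (hne χ4 d4 s4 hd4 hs4 g4 k4) d4 hd4 (by omega)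
  refine ⟨m1, m2, m3, m4, l1, l2, l3, l4, i1, i2, i3, i4, ?_⟩
  set idx := (centralizer ({t} : Set G)).index with hidx
  have hidxC : idx * Nat.card (centralizer ({t} : Set G)) = 4320 := by
    rw [← hcard]; exact Subgroup.index_mul_card _
  have hnc : ¬ IsConj x t := by
    intro h
    obtain ⟨c, hc⟩ := isConj_iff.mp h
    have h1 := orderOf_injective (MulAut.conj c).toMonoidHom (MulAut.conj c).injective x
    simp only [MulEquiv.coe_toMonoidHom, MulAut.conj_apply] at h1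
    rw [hc, ht, hx] at h1
    omega
  have hvan : ∀ ψ, ψ ∉ [trivIrr G, χ1, χ2, χ3, χ4] → (ψ : G → ℂ) x = 0 := by
    intro ψ hψ
    rw [hval ψ, hzero ψ hψ]; norm_num
  have hx1 : (trivIrr G : G → ℂ) x = 1 := trivIrr_apply x
  have hxv1 : (χ1 : G → ℂ) x = (s1 : ℂ) := by rw [hval, hs1]
  have hxv2 : (χ2 : G → ℂ) x = (s2 : ℂ) := by rw [hval, hs2]
  have hxv3 : (χ3 : G → ℂ) x = (s3 : ℂ) := by rw [hval, hs3]
  have hxv4 : (χ4 : G → ℂ) x = (s4 : ℂ) := by rw [hval, hs4]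
  -- the linear relation
  have hlin : 1 + s1 * (2 * (m1 : ℤ) - d1) + s2 * (2 * (m2 : ℤ) - d2) + s3 * (2 * (m3 : ℤ) - d3) +
      s4 * (2 * (m4 : ℤ) - d4) = 0 := by
    have h := sum_irr_mul_conj x t
    rw [if_neg hnc, sum_eq_of_nodup _ hnd _ (fun ψ hψ => by rw [hvan ψ hψ, zero_mul])] at h
    simp only [List.map_cons, List.map_nil, List.sum_cons, List.sum_nil] at h
    rw [hx1, hxv1, hxv2, hxv3, hxv4, v1, v2, v3, v4, trivIrr_apply, map_one, map_intCast,
      map_intCast, map_intCast, map_intCast] at h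
    have h' : ((1 + s1 * (2 * (m1 : ℤ) - d1) + s2 * (2 * (m2 : ℤ) - d2) +
        s3 * (2 * (m3 : ℤ) - d3) + s4 * (2 * (m4 : ℤ) - d4) : ℤ) : ℂ) = ((0 : ℤ) : ℂ) := by
      push_cast
      push_cast at h
      linear_combination h
    exact_mod_cast h'
  -- second orthogonality
  have horth : (idx : ℤ) * (1 + (2 * (m1 : ℤ) - d1) ^ 2 + (2 * (m2 : ℤ) - d2) ^ 2 +
      (2 * (m3 : ℤ) - d3) ^ 2 + (2 * (m4 : ℤ) - d4) ^ 2) ≤ 4320 := by
    have h2nd : ∑ ψ : IrrCharacter G, Complex.normSq ((ψ : G → ℂ) t) =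
        (Nat.card (centralizer ({t} : Set G)) : ℝ) := by
      have := sum_irr_mul_conj t t
      rw [if_pos (IsConj.refl t)] at this
      simp only [Complex.mul_conj] at this
      exact_mod_cast this
    have hle := le_sum_of_nodup _ hnd (fun ψ : IrrCharacter G => Complex.normSq ((ψ : G → ℂ) t))
      (fun ψ => Complex.normSq_nonneg _)
    rw [h2nd] at hle
    simp only [List.map_cons, List.map_nil, List.sum_cons, List.sum_nil] at hle
    rw [v1, v2, v3, v4, trivIrr_apply, Complex.normSq_one, Complex.normSq_intCast,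
      Complex.normSq_intCast, Complex.normSq_intCast, Complex.normSq_intCast] at hle
    have hle' : (1 + (2 * (m1 : ℤ) - d1) ^ 2 + (2 * (m2 : ℤ) - d2) ^ 2 +
        (2 * (m3 : ℤ) - d3) ^ 2 + (2 * (m4 : ℤ) - d4) ^ 2 : ℤ) ≤
        (Nat.card (centralizer ({t} : Set G)) : ℤ) := by
      have : ((1 + (2 * (m1 : ℤ) - d1) ^ 2 + (2 * (m2 : ℤ) - d2) ^ 2 +
        (2 * (m3 : ℤ) - d3) ^ 2 + (2 * (m4 : ℤ) - d4) ^ 2 : ℤ) : ℝ) ≤
        ((Nat.card (centralizer ({t} : Set G)) : ℤ) : ℝ) := by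
        push_cast
        push_cast at hle
        nlinarith [hle]
      exact_mod_cast this
    have hidxC' : (idx : ℤ) * (Nat.card (centralizer ({t} : Set G)) : ℤ) = 4320 := by
      exact_mod_cast hidxC
    have hidx0 : (0 : ℤ) ≤ idx := by positivity
    calc (idx : ℤ) * (1 + (2 * (m1 : ℤ) - d1) ^ 2 + (2 * (m2 : ℤ) - d2) ^ 2 +
        (2 * (m3 : ℤ) - d3) ^ 2 + (2 * (m4 : ℤ) - d4) ^ 2)
        ≤ (idx : ℤ) * (Nat.card (centralizer ({t} : Set G)) : ℤ) :=
          mul_le_mul_of_nonneg_left hle' hidx0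
      _ = 4320 := hidxC'
  -- class multiplication
  set N₀ := Nat.card {b : G // IsConj t b ∧ IsConj t (b⁻¹ * x)} with hN₀
  have hN₀le : N₀ ≤ 5 := by
    have := card_factorizations_le x t ht
    rwa [hCx5] at this
  have hmul : (N₀ : ℂ) = (Nat.card G : ℂ)⁻¹ * ∑ ψ : IrrCharacter G,
      centralChar (ψ : G → ℂ) t * centralChar (ψ : G → ℂ) t *
        ((ψ : G → ℂ) 1 * (starRingEnd ℂ) ((ψ : G → ℂ) x)) := by
    rw [hN₀, ← conv_classIndicator_apply, conv_classIndicator_eq]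
  rw [sum_eq_of_nodup _ hnd _ (fun ψ hψ => by rw [hvan ψ hψ, map_zero, mul_zero, mul_zero])] at hmul
  simp only [List.map_cons, List.map_nil, List.sum_cons, List.sum_nil] at hmul
  simp only [centralChar_def] at hmul
  rw [hx1, hxv1, hxv2, hxv3, hxv4, v1, v2, v3, v4, trivIrr_apply, trivIrr_apply, irrDeg_spec,
    irrDeg_spec, irrDeg_spec, irrDeg_spec, hd1, hd2, hd3, hd4, map_one, map_intCast, map_intCast,
    map_intCast, map_intCast, hcard, ← hidx] at hmul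
  have c1 : (d1 : ℂ) ≠ 0 := by have : d1 ≠ 0 := by omega
                               exact_mod_cast this
  have c2 : (d2 : ℂ) ≠ 0 := by have : d2 ≠ 0 := by omega
                               exact_mod_cast this
  have c3 : (d3 : ℂ) ≠ 0 := by have : d3 ≠ 0 := by omega
                               exact_mod_cast this
  have c4 : (d4 : ℂ) ≠ 0 := by have : d4 ≠ 0 := by omega
                               exact_mod_cast this
  have hmulZ : (N₀ : ℤ) * 4320 * ((d1 : ℤ) * d2 * d3 * d4) =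
      (idx : ℤ) ^ 2 * ((d1 : ℤ) * d2 * d3 * d4 +
        s1 * (2 * (m1 : ℤ) - d1) ^ 2 * ((d2 : ℤ) * d3 * d4) +
        s2 * (2 * (m2 : ℤ) - d2) ^ 2 * ((d1 : ℤ) * d3 * d4) +
        s3 * (2 * (m3 : ℤ) - d3) ^ 2 * ((d1 : ℤ) * d2 * d4) +
        s4 * (2 * (m4 : ℤ) - d4) ^ 2 * ((d1 : ℤ) * d2 * d3)) := by
    have h' : (((N₀ : ℤ) * 4320 * ((d1 : ℤ) * d2 * d3 * d4) : ℤ) : ℂ) =
      (((idx : ℤ) ^ 2 * ((d1 : ℤ) * d2 * d3 * d4 +
        s1 * (2 * (m1 : ℤ) - d1) ^ 2 * ((d2 : ℤ) * d3 * d4) +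
        s2 * (2 * (m2 : ℤ) - d2) ^ 2 * ((d1 : ℤ) * d3 * d4) +
        s3 * (2 * (m3 : ℤ) - d3) ^ 2 * ((d1 : ℤ) * d2 * d4) +
        s4 * (2 * (m4 : ℤ) - d4) ^ 2 * ((d1 : ℤ) * d2 * d3)) : ℤ) : ℂ) := by
      push_cast
      rw [hmul]
      push_cast
      field_simp
      ring
    exact_mod_cast h'
  exact ⟨hlin, horth, N₀, Finset.mem_range.mpr (by omega), hmulZ⟩

theorem main (hcard : Nat.card G = 4320) : False := by
  classical
  have : Fintype G := Fintype.ofFinite G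
  have : Fintype (IrrCharacter G) := Fintype.ofFinite _
  obtain ⟨x, hx, hCx5, hconj, hS1001⟩ := local5 hcard
  obtain ⟨a, χ1, χ2, χ3, χ4, hval, hnd, hzero, hpat⟩ := charData hcard x hx hCx5 hconj
  -- a central involution of a Sylow 2-subgroup
  obtain ⟨S⟩ : Nonempty (Sylow 2 G) := inferInstance
  have hS32 : Nat.card (S : Subgroup G) = 2 ^ 5 := by
    have : Fact (Nat.Prime 2) := ⟨by norm_num⟩
    exact (Cfsg.Agent.Helper11.sylow_card_of_card_eq_pow 135 5 (by rw [hcard]; norm_num)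
      (by norm_num) S).1
  obtain ⟨t, ht, hSt⟩ := exists_central_involution (by rw [hcard]; norm_num) S
  have ht1 : t ≠ 1 := by intro h; rw [h, orderOf_one] at ht; omega
  set idx := (centralizer ({t} : Set G)).index with hidx
  have hidxC : idx * Nat.card (centralizer ({t} : Set G)) = 4320 := by
    rw [← hcard]; exact Subgroup.index_mul_card _
  have hidx135 : idx ∣ 135 := by
    have h1 : Nat.card (S : Subgroup G) ∣ Nat.card (centralizer ({t} : Set G)) :=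
      Subgroup.card_dvd_of_le hSt
    rw [hS32] at h1
    obtain ⟨k, hk⟩ := h1
    rw [hk] at hidxC
    exact ⟨k, by nlinarith⟩
  have h5C : ¬ 5 ∣ Nat.card (centralizer ({t} : Set G)) := by
    intro h5
    obtain ⟨y, hy⟩ := exists_prime_orderOf_dvd_card' 5 h5
    have hy' : orderOf (y : G) = 5 := by rw [Subgroup.orderOf_coe]; exact hy
    have hty : t ∈ centralizer ({(y : G)} : Set G) := by
      rw [mem_centralizer_iff]
      intro h hh
      rw [Set.mem_singleton_iff] at hh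
      subst hh
      have := (mem_centralizer_iff.mp y.2) t rfl
      exact this.symm
    rw [hS1001 _ hy'] at hty
    have h2 : orderOf t ∣ 5 := by
      have := orderOf_dvd_natCard (⟨t, hty⟩ : zpowers (y : G))
      rw [Nat.card_zpowers, hy', Subgroup.orderOf_mk] at this
      exact this
    rw [ht] at h2
    omega
  have hidx5 : 5 ∣ idx := by
    have h1 : 5 ∣ idx * Nat.card (centralizer ({t} : Set G)) := by rw [hidxC]; norm_num
    rcases (Nat.Prime.dvd_mul (by norm_num)).mp h1 with h | h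
    · exact h
    · exact absurd h h5C
  have hidxmem : idx ∈ ({5, 15, 45, 135} : Finset ℕ) := by
    rw [← filter_idx, Finset.mem_filter, Nat.mem_divisors]
    exact ⟨⟨hidx135, by norm_num⟩, hidx5⟩
  rcases hpat with ⟨p1, q1, p2, q2, p3, q3, p4, q4⟩ | ⟨p1, q1, p2, q2, p3, q3, p4, q4⟩ |
    ⟨p1, q1, p2, q2, p3, q3, p4, q4⟩ | ⟨p1, q1, p2, q2, p3, q3, p4, q4⟩
  · obtain ⟨m1, m2, m3, m4, l1, l2, l3, l4, i1, i2, i3, i4, hbad⟩ :=
      bad_of hcard x hx hCx5 a χ1 χ2 χ3 χ4 hval hnd hzero 9 4 4 16 (-1) (-1) (-1) 1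
        p1 p2 p3 p4 q1 q2 q3 q4 (by norm_num) (by norm_num) (by norm_num) (by norm_num)
        (Or.inr rfl) (Or.inr rfl) (Or.inr rfl) (Or.inl rfl) t ht
    exact no1 idx hidxmem m1 (Finset.mem_range.mpr l1) i1 m2 (Finset.mem_range.mpr l2) i2
      m3 (Finset.mem_range.mpr l3) i3 m4 (Finset.mem_range.mpr l4) i4 hbad
  · obtain ⟨m1, m2, m3, m4, l1, l2, l3, l4, i1, i2, i3, i4, hbad⟩ :=
      bad_of hcard x hx hCx5 a χ1 χ2 χ3 χ4 hval hnd hzero 24 9 4 36 (-1) (-1) (-1) 1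
        p1 p2 p3 p4 q1 q2 q3 q4 (by norm_num) (by norm_num) (by norm_num) (by norm_num)
        (Or.inr rfl) (Or.inr rfl) (Or.inr rfl) (Or.inl rfl) t ht
    exact no2 idx hidxmem m1 (Finset.mem_range.mpr l1) i1 m2 (Finset.mem_range.mpr l2) i2
      m3 (Finset.mem_range.mpr l3) i3 m4 (Finset.mem_range.mpr l4) i4 hbad
  · obtain ⟨m1, m2, m3, m4, l1, l2, l3, l4, i1, i2, i3, i4, hbad⟩ :=
      bad_of hcard x hx hCx5 a χ1 χ2 χ3 χ4 hval hnd hzero 9 4 6 6 (-1) (-1) 1 1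
        p1 p2 p3 p4 q1 q2 q3 q4 (by norm_num) (by norm_num) (by norm_num) (by norm_num)
        (Or.inr rfl) (Or.inr rfl) (Or.inl rfl) (Or.inl rfl) t ht
    exact no3 idx hidxmem m1 (Finset.mem_range.mpr l1) i1 m2 (Finset.mem_range.mpr l2) i2
      m3 (Finset.mem_range.mpr l3) i3 m4 (Finset.mem_range.mpr l4) i4 hbad
  · obtain ⟨m1, m2, m3, m4, l1, l2, l3, l4, i1, i2, i3, i4, hbad⟩ :=
      bad_of hcard x hx hCx5 a χ1 χ2 χ3 χ4 hval hnd hzero 24 9 16 16 (-1) (-1) 1 1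
        p1 p2 p3 p4 q1 q2 q3 q4 (by norm_num) (by norm_num) (by norm_num) (by norm_num)
        (Or.inr rfl) (Or.inr rfl) (Or.inl rfl) (Or.inl rfl) t ht
    exact no4 idx hidxmem m1 (Finset.mem_range.mpr l1) i1 m2 (Finset.mem_range.mpr l2) i2
      m3 (Finset.mem_range.mpr l3) i3 m4 (Finset.mem_range.mpr l4) i4 hbad

end Cfsg.Agent.Helper21.O4320
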