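import Mathlib
import Cfsg.Agent.Helper11.NoSimple
import Cfsg.Agent.Helper11.SimpleTools
import Cfsg.Agent.Helper11.SelfCent
import Cfsg.Agent.Helper11.SylowCount
import Cfsg.Agent.Helper11.O504A
import Cfsg.Agent.Helper15.NoSimp1

set_option autoImplicit false
set_option linter.unusedSectionVars false

/-!
No simple group of order 459648 = 2^7 * 3^3 * 7 * 19: Sylow theory.
-/

namespace Cfsg.Agent.Helper21.O459

open Subgroup
open scoped Pointwise

variable {G : Type*} [Group G] [Finite G]

theorem filter19 : (Nat.divisors 24192).filter (fun d => d % 19 = 1) = {1, 96, 1008} := by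
  decide +kernel

theorem filter7_96 : (Nat.divisors 96).filter (fun d => d % 7 = 1) = {1, 8} := by
  decide +kernel

theorem filter7_36 : (Nat.divisors 36).filter (fun d => d % 7 = 1) = {1, 36} := by
  decide +kernel

instance fact19 : Fact (Nat.Prime 19) := ⟨by norm_num⟩
instance fact7 : Fact (Nat.Prime 7) := ⟨by norm_num⟩

theorem noncomm [IsSimpleGroup G] (hcard : Nat.card G = 459648) : ¬ IsMulCommutative G :=
  Cfsg.Agent.Helper11.simple_noncomm_of_card (by rw [hcard]; norm_num)

theorem perfect [IsSimpleGroup G] (hcard : Nat.card G = 459648) : commutator G = ⊤ :=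
  Cfsg.Agent.Helper11.O504.commutator_eq_top (noncomm hcard)

theorem card_sylow19 (hcard : Nat.card G = 459648) (P : Sylow 19 G) :
    Nat.card ↥(P : Subgroup G) = 19 := by
  have hG' : Nat.card G = 24192 * 19 ^ 1 := by rw [hcard]; norm_num
  have := (Cfsg.Agent.Helper11.sylow_card_of_card_eq_pow 24192 1 hG' (by norm_num) P).1
  rwa [pow_one] at this

theorem card_sylow7 (hcard : Nat.card G = 459648) (Q : Sylow 7 G) :
    Nat.card ↥(Q : Subgroup G) = 7 := by
  have hG' : Nat.card G = 65664 * 7 ^ 1 := by rw [hcard]; norm_num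
  have := (Cfsg.Agent.Helper11.sylow_card_of_card_eq_pow 65664 1 hG' (by norm_num) Q).1
  rwa [pow_one] at this

/-- A Sylow subgroup which is normalized by a subgroup `C` containing it is normalized by
everything normalizing `C`. -/
theorem mem_normalizer_of_unique {q : ℕ} [Fact q.Prime] (Q : Sylow q G) (C : Subgroup G)
    (hQC : (Q : Subgroup G) ≤ C) (hCN : C ≤ normalizer ((Q : Subgroup G) : Set G)) (g : G)
    (hg : ∀ c ∈ C, g * c * g⁻¹ ∈ C) : g ∈ normalizer ((Q : Subgroup G) : Set G) := by
  apply Sylow.smul_eq_iff_mem_normalizer.mp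
  have hle : ((g • Q : Sylow q G) : Subgroup G) ≤ normalizer ((Q : Subgroup G) : Set G) := by
    intro h hh
    rw [Sylow.coe_subgroup_smul, Subgroup.mem_pointwise_smul_iff_inv_smul_mem] at hh
    apply hCN
    have h1 := hg _ (hQC hh)
    simp only [MulAut.smul_def, MulAut.conj_inv_apply] at h1
    convert h1 using 1
    group
  have hp : IsPGroup q ↥(((g • Q : Sylow q G) : Subgroup G) ⊔ (Q : Subgroup G)) :=
    IsPGroup.to_sup_of_normal_right' (g • Q : Sylow q G).2 Q.2 hle
  have h2 := Q.is_maximal' hp le_sup_right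
  have h3 : ((g • Q : Sylow q G) : Subgroup G) ≤ (Q : Subgroup G) := by
    rw [← h2]; exact le_sup_left
  have h4 := (g • Q : Sylow q G).is_maximal' Q.2 h3
  exact Sylow.ext h4.symm


/-- `N(P)` normalizes `C(P)`. -/
theorem conj_mem_centralizer (H : Subgroup G) (g : G) (hg : g ∈ normalizer (H : Set G)) (c : G)
    (hc : c ∈ centralizer (H : Set G)) : g * c * g⁻¹ ∈ centralizer (H : Set G) := by
  rw [mem_centralizer_iff] at hc ⊢
  intro y hy
  have h1 : g⁻¹ * y * g ∈ H := by
    rw [mem_normalizer_iff] at hg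
    have h2 := (hg (g⁻¹ * y * g)).mpr
    apply h2
    have : g * (g⁻¹ * y * g) * g⁻¹ = y := by group
    rw [this]; exact hy
  have h3 := hc _ h1
  calc y * (g * c * g⁻¹) = g * ((g⁻¹ * y * g) * c) * g⁻¹ := by group
    _ = g * (c * (g⁻¹ * y * g)) * g⁻¹ := by rw [h3]
    _ = g * c * g⁻¹ * y := by group

/-- The case `n_19 = 96` is impossible. -/
theorem card_sylow19_ne_96 [IsSimpleGroup G] (hcard : Nat.card G = 459648) :
    Nat.card (Sylow 19 G) ≠ 96 := by
  intro hn
  have hG := noncomm hcard
  obtain ⟨P⟩ : Nonempty (Sylow 19 G) := inferInstance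
  have hP := card_sylow19 hcard P
  have hNP := Cfsg.Agent.Helper11.card_sylow_mul_card_normalizer P
  rw [hcard, hn] at hNP
  have hN : Nat.card ↥(normalizer ((P : Subgroup G) : Set G)) = 4788 := by omega
  obtain ⟨-, he18, heC, -⟩ := Cfsg.Agent.Helper11.simple_automizer_data hG 19 P hP
  obtain ⟨he1, -, -, -⟩ := Cfsg.Agent.Helper11.simple_automizer_data hG 19 P hP
  set C := centralizer ((P : Subgroup G) : Set G) with hC
  set N := normalizer ((P : Subgroup G) : Set G) with hNdef
  set e := C.relIndex N with he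
  rw [hN] at heC
  have he18' : e ∣ 18 := he18
  have h7C : 7 ∣ Nat.card C := by
    have h7 : (7 : ℕ) ∣ e * Nat.card C := by rw [heC]; norm_num
    have hcop : Nat.Coprime 7 e := Nat.Coprime.coprime_dvd_right he18' (by norm_num)
    exact hcop.dvd_of_dvd_mul_left h7
  obtain ⟨w, hw⟩ := exists_prime_orderOf_dvd_card' 7 h7C
  have hwG : orderOf (w : G) = 7 := by rw [Subgroup.orderOf_coe]; exact hw
  have hpg : IsPGroup 7 ↥(zpowers (w : G)) := by
    apply IsPGroup.of_card (n := 1)
    rw [Nat.card_zpowers, hwG, pow_one]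
  obtain ⟨Q, hQ⟩ := hpg.exists_le_sylow
  have hQ7 := card_sylow7 hcard Q
  have hQeq : zpowers (w : G) = (Q : Subgroup G) := by
    apply Subgroup.eq_of_le_of_card_ge hQ
    rw [hQ7, Nat.card_zpowers, hwG]
  have hQC : (Q : Subgroup G) ≤ C := by
    rw [← hQeq, zpowers_le]
    exact w.2
  have hPC : (P : Subgroup G) ≤ C := by
    have : IsMulCommutative (P : Subgroup G) := by
      have hc : IsCyclic (P : Subgroup G) := isCyclic_of_prime_card hP
      exact ⟨⟨fun a b => IsCyclic.commGroup.mul_comm a b⟩⟩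
    exact Subgroup.le_centralizer (P : Subgroup G)
  have hPNQ : (P : Subgroup G) ≤ normalizer ((Q : Subgroup G) : Set G) := by
    refine le_trans ?_ (centralizer_le_normalizer _)
    intro x hx
    rw [mem_centralizer_iff]
    intro h hh
    rw [SetLike.mem_coe, ← hQeq, mem_zpowers_iff] at hh
    obtain ⟨k, rfl⟩ := hh
    have hwc : (w : G) ∈ centralizer ((P : Subgroup G) : Set G) := w.2
    rw [mem_centralizer_iff] at hwc
    have h1 : Commute x (w : G) := (hwc x hx)
    exact (h1.zpow_right k).symm.eq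
  obtain ⟨k, hk7, hk⟩ := Cfsg.Agent.Helper15.NoSimp.sylow_count_inf_normalizer Q C hQC
  have h19 : 19 ∣ Nat.card ↥(C ⊓ normalizer ((Q : Subgroup G) : Set G)) := by
    have := Subgroup.card_dvd_of_le (le_inf hPC hPNQ)
    rwa [hP] at this
  have h7 : 7 ∣ Nat.card ↥(C ⊓ normalizer ((Q : Subgroup G) : Set G)) := by
    have := Subgroup.card_dvd_of_le (le_inf hQC (le_normalizer (H := (Q : Subgroup G))))
    rwa [hQ7] at this
  have h133 : 133 ∣ Nat.card ↥(C ⊓ normalizer ((Q : Subgroup G) : Set G)) :=
    Nat.Coprime.mul_dvd_of_dvd_of_dvd (by norm_num : Nat.Coprime 19 7) h19 h7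
  obtain ⟨j, hj⟩ := h133
  have hekj : e * k * j = 36 := by
    have : e * (k * (133 * j)) = 4788 := by rw [← hj, hk, heC]
    nlinarith
  have hk36 : k ∈ (Nat.divisors 36).filter (fun d => d % 7 = 1) := by
    rw [Finset.mem_filter, Nat.mem_divisors]
    exact ⟨⟨⟨e * j, by rw [← hekj]; ring⟩, by norm_num⟩, hk7⟩
  rw [filter7_36] at hk36
  simp only [Finset.mem_insert, Finset.mem_singleton] at hk36
  have hk1 : k = 1 := by
    rcases hk36 with h | h
    · exact h
    · exfalso
      rw [h] at hekj
      have h36 : 36 * (e * j) = 36 * 1 := by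
        have : e * 36 * j = 36 * (e * j) := by ring
        omega
      have : e * j = 1 := Nat.eq_of_mul_eq_mul_left (by norm_num) h36
      exact he1 (Nat.eq_one_of_mul_eq_one_right this)
  rw [hk1, one_mul] at hk
  have hCN : C ≤ normalizer ((Q : Subgroup G) : Set G) := by
    have h1 : C ⊓ normalizer ((Q : Subgroup G) : Set G) = C :=
      Subgroup.eq_of_le_of_card_ge inf_le_left (by rw [hk])
    rw [← h1]; exact inf_le_right
  have hNQ : N ≤ normalizer ((Q : Subgroup G) : Set G) := by
    intro g hg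
    exact mem_normalizer_of_unique Q C hQC hCN g
      (fun c hc => conj_mem_centralizer (P : Subgroup G) g hg c hc)
  have hNQ7 := Cfsg.Agent.Helper11.card_sylow_mul_card_normalizer Q
  rw [hcard] at hNQ7
  obtain ⟨j', hj'⟩ := Subgroup.card_dvd_of_le hNQ
  rw [hN] at hj'
  have hn7 : Nat.card (Sylow 7 G) * j' = 96 := by
    rw [hj'] at hNQ7
    nlinarith
  have hn7' : Nat.card (Sylow 7 G) ∈ (Nat.divisors 96).filter (fun d => d % 7 = 1) := by
    rw [Finset.mem_filter, Nat.mem_divisors]
    refine ⟨⟨⟨j', hn7.symm⟩, by norm_num⟩, ?_⟩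
    have h := card_sylow_modEq_one 7 G
    unfold Nat.ModEq at h
    rw [h]
  rw [filter7_96] at hn7'
  simp only [Finset.mem_insert, Finset.mem_singleton] at hn7'
  have hdvd : 7 ∣ Nat.card G := by rw [hcard]; norm_num
  rcases hn7' with h | h
  · exact Cfsg.Agent.Helper11.simple_card_sylow_ne_one hG 7 hdvd h
  · have h2 := Cfsg.Agent.Helper11.simple_two_mul_card_dvd_factorial_card_sylow hG 7 hdvd
    rw [h, hcard] at h2
    revert h2
    decide


theorem card_sylow19_eq [IsSimpleGroup G] (hcard : Nat.card G = 459648) :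
    Nat.card (Sylow 19 G) = 1008 := by
  have hG := noncomm hcard
  have hG' : Nat.card G = 24192 * 19 ^ 1 := by rw [hcard]; norm_num
  have hn := Cfsg.Agent.Helper11.card_sylow_mem_filter 24192 1 hG' (by norm_num)
  rw [filter19] at hn
  simp only [Finset.mem_insert, Finset.mem_singleton] at hn
  rcases hn with h | h | h
  · exact absurd h (Cfsg.Agent.Helper11.simple_card_sylow_ne_one hG 19 (by rw [hcard]; norm_num))
  · exact absurd h (card_sylow19_ne_96 hcard)
  · exact h

theorem card_normalizer19 [IsSimpleGroup G] (hcard : Nat.card G = 459648) (P : Sylow 19 G) :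
    Nat.card ↥(normalizer ((P : Subgroup G) : Set G)) = 456 := by
  have hNP := Cfsg.Agent.Helper11.card_sylow_mul_card_normalizer P
  rw [hcard, card_sylow19_eq hcard] at hNP
  omega

/-- The inertial index is `2`, `3` or `6`. -/
theorem relIndex_mem [IsSimpleGroup G] (hcard : Nat.card G = 459648) (P : Sylow 19 G) (e : ℕ)
    (he : (centralizer ((P : Subgroup G) : Set G)).relIndex
      (normalizer ((P : Subgroup G) : Set G)) = e) :
    (e = 2 ∨ e = 3 ∨ e = 6) ∧ e * Nat.card ↥(centralizer ((P : Subgroup G) : Set G)) = 456 := by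
  have hG := noncomm hcard
  obtain ⟨he1, he18, heC, -⟩ :=
    Cfsg.Agent.Helper11.simple_automizer_data hG 19 P (card_sylow19 hcard P)
  rw [he] at he1 he18 heC
  rw [card_normalizer19 hcard P] at heC
  refine ⟨?_, heC⟩
  have he18' : e ∣ 18 := he18
  have h456 : e ∣ 456 := ⟨_, heC.symm⟩
  have h6 : e ∣ 6 := by
    have := Nat.dvd_gcd he18' h456
    norm_num at this
    exact this
  have hle : e ≤ 6 := Nat.le_of_dvd (by norm_num) h6
  interval_cases e <;> simp_all

/-- No element has order divisible by `7 * 19`. -/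
theorem not_seven_dvd [IsSimpleGroup G] (hcard : Nat.card G = 459648) (h : G)
    (h19 : 19 ∣ orderOf h) : ¬ 7 ∣ orderOf h := by
  intro h7
  have h133 : 133 ∣ orderOf h :=
    Nat.Coprime.mul_dvd_of_dvd_of_dvd (by norm_num : Nat.Coprime 19 7) h19 h7
  obtain ⟨m, hm⟩ := h133
  have hfin : IsOfFinOrder h := isOfFinOrder_of_finite h
  have hpos : 0 < orderOf h := hfin.orderOf_pos
  have hm0 : m ≠ 0 := by rintro rfl; omega
  set u := h ^ m with hu
  have hou : orderOf u = 133 := by
    rw [hu, orderOf_pow' h hm0, hm, Nat.gcd_eq_right (dvd_mul_left m 133)]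
    exact Nat.mul_div_cancel _ (Nat.pos_of_ne_zero hm0)
  set z := u ^ 7 with hz
  set v := u ^ 19 with hv
  have hoz : orderOf z = 19 := by
    rw [hz, orderOf_pow' u (by norm_num), hou]; norm_num
  have hov : orderOf v = 7 := by
    rw [hv, orderOf_pow' u (by norm_num), hou]; norm_num
  have hcomm : Commute z v := (Commute.refl u).pow_pow 7 19
  have hpg : IsPGroup 19 ↥(zpowers z) := by
    apply IsPGroup.of_card (n := 1)
    rw [Nat.card_zpowers, hoz, pow_one]
  obtain ⟨P, hP⟩ := hpg.exists_le_sylow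
  have hP19 := card_sylow19 hcard P
  have hPeq : zpowers z = (P : Subgroup G) := by
    apply Subgroup.eq_of_le_of_card_ge hP
    rw [hP19, Nat.card_zpowers, hoz]
  have hvC : v ∈ centralizer ((P : Subgroup G) : Set G) := by
    rw [mem_centralizer_iff]
    intro y hy
    rw [SetLike.mem_coe, ← hPeq, mem_zpowers_iff] at hy
    obtain ⟨k, rfl⟩ := hy
    exact (hcomm.zpow_left k).eq
  have hvN : v ∈ normalizer ((P : Subgroup G) : Set G) := centralizer_le_normalizer _ hvC
  have hdvd : orderOf v ∣ Nat.card ↥(normalizer ((P : Subgroup G) : Set G)) := by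
    have := orderOf_dvd_natCard (⟨v, hvN⟩ : ↥(normalizer ((P : Subgroup G) : Set G)))
    rwa [← Subgroup.orderOf_coe] at this
  rw [hov, card_normalizer19 hcard P] at hdvd
  revert hdvd
  decide

/-- The class of a `19`-singular element has size divisible by `7`. -/
theorem seven_dvd_index [IsSimpleGroup G] (hcard : Nat.card G = 459648) (g : G)
    (h19 : 19 ∣ orderOf g) : 7 ∣ (centralizer ({g} : Set G)).index := by
  by_contra hnd
  have hmul := (centralizer ({g} : Set G)).index_mul_card
  rw [hcard] at hmul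
  have h7 : 7 ∣ (centralizer ({g} : Set G)).index * Nat.card ↥(centralizer ({g} : Set G)) := by
    rw [hmul]; norm_num
  have h7C : 7 ∣ Nat.card ↥(centralizer ({g} : Set G)) :=
    ((Nat.Prime.dvd_mul (by norm_num : Nat.Prime 7)).mp h7).resolve_left hnd
  obtain ⟨w, hw⟩ := exists_prime_orderOf_dvd_card' 7 h7C
  have hwG : orderOf (w : G) = 7 := by rw [Subgroup.orderOf_coe]; exact hw
  have hwc : Commute g (w : G) := by
    have := w.2
    rw [mem_centralizer_iff] at this
    exact (this g (Set.mem_singleton g))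
  by_cases h7g : 7 ∣ orderOf g
  · exact not_seven_dvd hcard g h19 h7g
  · have hcop : Nat.Coprime (orderOf g) (orderOf (w : G)) := by
      rw [hwG]
      exact ((Nat.Prime.coprime_iff_not_dvd (by norm_num : Nat.Prime 7)).mpr h7g).symm
    have hord := hwc.orderOf_mul_eq_mul_orderOf_of_coprime hcop
    apply not_seven_dvd hcard (g * (w : G))
    · rw [hord]; exact Dvd.dvd.mul_right h19 _
    · rw [hord, hwG]; exact dvd_mul_left 7 _

/-- An involution centralizing `P`. -/
theorem exists_involution [IsSimpleGroup G] (hcard : Nat.card G = 459648) (P : Sylow 19 G) :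
    ∃ y : G, y ∈ centralizer ((P : Subgroup G) : Set G) ∧ orderOf y = 2 := by
  obtain ⟨he, heC⟩ := relIndex_mem hcard P _ rfl
  have h2 : 2 ∣ Nat.card ↥(centralizer ((P : Subgroup G) : Set G)) := by
    rcases he with h | h | h <;> rw [h] at heC <;> omega
  have : Fact (Nat.Prime 2) := ⟨Nat.prime_two⟩
  obtain ⟨w, hw⟩ := exists_prime_orderOf_dvd_card' 2 h2
  exact ⟨w, w.2, by rw [Subgroup.orderOf_coe]; exact hw⟩

end Cfsg.Agent.Helper21.O459
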