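import Mathlib
import Cfsg.Agent.Helper21.O459a
import Cfsg.Agent.Helper5.GCz
import Cfsg.Agent.Helper15.BrP2
import Cfsg.Agent.Helper24.Abelian
import Cfsg.Agent.Helper24.Codegree
import Cfsg.Agent.Helper24.SmallDegree
import Cfsg.Agent.Helper24.SelfCentD

set_option autoImplicit false
set_option linter.unusedSectionVars false
set_option maxHeartbeats 1000000

/-!
No simple group of order 459648: the principal `19`-block.
-/

namespace Cfsg.Agent.Helper21.O459

open Cfsg Cfsg.Agent.Helper24 Cfsg.Agent.Helper5 Cfsg.Agent.Helper5.CC Subgroup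
  Cfsg.Agent.Helper15.BrP Cfsg.Agent.Helper5.Loc

variable {G : Type*} [Group G] [Finite G]

theorem filter_nonexc : (Finset.range 678).filter
    (fun d => 459648 % d = 0 ∧ (d % 19 = 1 ∨ d % 19 = 18)) = {1, 18, 56, 96, 189} := by
  decide +kernel

theorem mem_nonexc (d : ℕ) (s : ℤ) (hs : s = 1 ∨ s = -1) (hd : d ∣ 459648)
    (hsq : d ^ 2 ≤ 459648) (hds : (d : ℤ) ≡ s [ZMOD 19]) :
    (d = 1 ∧ s = 1) ∨ (d = 96 ∧ s = 1) ∨ (d = 18 ∧ s = -1) ∨ (d = 56 ∧ s = -1) ∨
      (d = 189 ∧ s = -1) := by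
  have hlt : d < 678 := by nlinarith
  have hmem : d ∈ (Finset.range 678).filter
      (fun d => 459648 % d = 0 ∧ (d % 19 = 1 ∨ d % 19 = 18)) := by
    rw [Finset.mem_filter, Finset.mem_range]
    refine ⟨hlt, Nat.mod_eq_zero_of_dvd hd, ?_⟩
    unfold Int.ModEq at hds
    rcases hs with rfl | rfl <;> omega
  rw [filter_nonexc] at hmem
  simp only [Finset.mem_insert, Finset.mem_singleton] at hmem
  unfold Int.ModEq at hds
  rcases hmem with rfl | rfl | rfl | rfl | rfl <;> rcases hs with rfl | rfl <;> simp_all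

theorem arith19 : ∀ a ∈ Finset.range 6, ∀ c ∈ Finset.range 6, ∀ f ∈ Finset.range 6,
    (1 + a + c + f = 2 ∨ 1 + a + c + f = 3 ∨ 1 + a + c + f = 6) →
    Int.natAbs (1 + 96 * (a : ℤ) - 56 * (c : ℤ) - 189 * (f : ℤ)) ∣ 459648 →
    a = 2 ∧ c = 2 ∧ f = 1 := by
  decide +kernel

theorem irrDeg_dvd (hcard : Nat.card G = 459648) (χ : IrrCharacter G) : irrDeg χ ∣ 459648 := by
  rw [← hcard]; exact irrDeg_dvd_card χ

theorem irrDeg_ne_one [IsSimpleGroup G] (hcard : Nat.card G = 459648) (χ : IrrCharacter G)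
    (hχ : χ ≠ trivIrr G) : irrDeg χ ≠ 1 :=
  Cfsg.Agent.Helper24.SelfCent.irrDeg_ne_one_of_perfect (perfect hcard) χ hχ

theorem irrDeg_sq_le (hcard : Nat.card G = 459648) (χ : IrrCharacter G) :
    irrDeg χ ^ 2 ≤ 459648 := by
  classical
  have : Fintype G := Fintype.ofFinite G
  have : Fintype (IrrCharacter G) := Fintype.ofFinite _
  have h1 := sum_irrDeg_sq (G := G)
  rw [hcard] at h1
  rw [← h1]
  exact Finset.single_le_sum (f := fun ψ : IrrCharacter G => irrDeg ψ ^ 2)
    (fun ψ _ => Nat.zero_le _) (Finset.mem_univ χ)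

/-- A non-exceptional character of the principal `19`-block cannot have degree `18`. -/
theorem not_eighteen [IsSimpleGroup G] (hcard : Nat.card G = 459648) (P : Sylow 19 G)
    (χ : IrrCharacter G) (hdeg : irrDeg χ = 18)
    (hval : ∀ x : G, x ∈ (P : Subgroup G) → x ≠ 1 → ∀ y : G,
      y ∈ centralizer ((P : Subgroup G) : Set G) → ¬ 19 ∣ orderOf y →
        (χ : G → ℂ) (x * y) = -1) : False := by
  have hP := card_sylow19 hcard P
  obtain ⟨y, hyC, hy2⟩ := exists_involution hcard P
  obtain ⟨x', hx'⟩ := exists_prime_orderOf_dvd_card' (G := ↥(P : Subgroup G)) 19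
    (by rw [hP])
  set x : G := (x' : G) with hxdef
  have hx : orderOf x = 19 := by rw [hxdef, Subgroup.orderOf_coe]; exact hx'
  have hxP : x ∈ (P : Subgroup G) := x'.2
  have hc : Commute x y := by
    rw [mem_centralizer_iff] at hyC
    exact hyC x hxP
  have hval' : ∀ k : ℕ, ¬ 19 ∣ k → (χ : G → ℂ) ((x * y) ^ k) = -1 := by
    intro k hk
    rw [hc.mul_pow]
    apply hval
    · exact pow_mem hxP k
    · intro h1
      apply hk
      rw [← hx]
      exact orderOf_dvd_of_pow_eq_one h1
    · exact pow_mem hyC k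
    · intro h19
      have h2 : orderOf (y ^ k) ∣ 2 := hy2 ▸ orderOf_pow_dvd k
      have := Nat.dvd_trans h19 h2
      omega
  obtain ⟨m, hm⟩ := exists_mul_eq_sum_pow χ (-1) 19 2 (by norm_num) (by norm_num) x y hx hy2 hc
    hval'
  have hy19 : y ^ 19 = y := by
    have h2 : y ^ 2 = 1 := hy2 ▸ pow_orderOf_eq_one y
    calc y ^ 19 = (y ^ 2) ^ 9 * y := by rw [← pow_mul, ← pow_succ]
      _ = y := by rw [h2, one_pow, one_mul]
  rw [Finset.sum_range_succ, Finset.sum_range_one, mul_zero, pow_zero, mul_one, hy19,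
    irrDeg_spec, hdeg] at hm
  have hχy : (χ : G → ℂ) y = 18 + 38 * (m : ℂ) := by
    push_cast at hm
    linear_combination hm
  have hnorm := norm_le_irrDeg χ y
  rw [hχy, hdeg] at hnorm
  have hm0 : m = 0 := by
    have h1 : ‖(18 + 38 * (m : ℂ))‖ = 18 + 38 * (m : ℝ) := by
      have : (18 + 38 * (m : ℂ)) = ((18 + 38 * (m : ℝ) : ℝ) : ℂ) := by push_cast; ring
      rw [this, Complex.norm_real, Real.norm_of_nonneg (by positivity)]
    rw [h1] at hnorm
    have : (m : ℝ) ≤ 0 := by push_cast at hnorm; linarith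
    have : m ≤ 0 := by exact_mod_cast this
    omega
  rw [hm0] at hχy
  have hχy' : (χ : G → ℂ) y = (irrDeg χ : ℂ) := by rw [hχy, hdeg]; push_cast; ring
  have hx1 : x ≠ 1 := by
    intro h
    rw [h, orderOf_one] at hx
    omega
  have hχx : (χ : G → ℂ) x ≠ (irrDeg χ : ℂ) := by
    have h1 := hval x hxP hx1 1 (one_mem _) (by rw [orderOf_one]; omega)
    rw [mul_one] at h1
    rw [h1, hdeg]
    norm_num
  have := eq_one_of_apply_eq_irrDeg χ x hχx y hχy'
  rw [this, orderOf_one] at hy2
  omega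


/-- The shape of the principal `19`-block. -/
theorem block19 [IsSimpleGroup G] (hcard : Nat.card G = 459648) (M : Ideal AlgInt)
    (hM : IsPModular 19 M) (P : Sylow 19 G) :
    ∃ X Y : Set (IrrCharacter G), principalBlock M G = X ∪ Y ∧ Nat.card Y = 3 ∧
      (∀ χ ∈ X, irrDeg χ = 1 ∨ irrDeg χ = 96 ∨ irrDeg χ = 56 ∨ irrDeg χ = 189) ∧
      (∀ θ ∈ Y, irrDeg θ = 108) ∧
      (∀ θ ∈ Y, ∀ θ' ∈ Y, ∀ g : G, ¬ 19 ∣ orderOf g → (θ : G → ℂ) g = (θ' : G → ℂ) g) := by
  classical
  have : Fintype G := Fintype.ofFinite G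
  have : Fintype (IrrCharacter G) := Fintype.ofFinite _
  have hMp := isPrime_of_isPModular hM
  have hP := card_sylow19 hcard P
  obtain ⟨he, heC⟩ := relIndex_mem hcard P _ rfl
  set e := (centralizer ((P : Subgroup G) : Set G)).relIndex
    (normalizer ((P : Subgroup G) : Set G)) with hedef
  obtain ⟨X, Y, hB, hdisj, hX, hY, εX, ε, hXp, hε, hYdeg, hYagree, hlin⟩ :=
    Cfsg.Agent.Helper5.GC.blockShape hM (by norm_num) P hP e rfl
  -- data of the non-exceptional characters
  have hdata : ∀ χ ∈ X, (irrDeg χ = 1 ∧ εX χ = 1) ∨ (irrDeg χ = 96 ∧ εX χ = 1) ∨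
      (irrDeg χ = 56 ∧ εX χ = -1) ∨ (irrDeg χ = 189 ∧ εX χ = -1) := by
    intro χ hχ
    obtain ⟨hs, hmod, hval⟩ := hXp χ hχ
    rw [charDegree_irr] at hmod
    rcases mem_nonexc (irrDeg χ) (εX χ) hs (irrDeg_dvd hcard χ) (irrDeg_sq_le hcard χ) hmod with
      h | h | h | h | h
    · exact Or.inl h
    · exact Or.inr (Or.inl h)
    · exfalso
      apply not_eighteen hcard P χ h.1
      intro x hx hx1 y hy hy19
      rw [hval x hx hx1 y hy hy19, h.2]
      push_cast; ring
    · exact Or.inr (Or.inr (Or.inl h))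
    · exact Or.inr (Or.inr (Or.inr h))
  -- the trivial character lies in X
  have htriv : trivIrr G ∈ principalBlock M G := trivIrr_mem_principalBlock hMp
  have htrivX : trivIrr G ∈ X := by
    rw [hB] at htriv
    rcases htriv with h | h
    · exact h
    · exfalso
      have h1 := hYdeg _ h
      rw [charDegree_irr] at h1
      have h2 : irrDeg (trivIrr G) = 1 := by
        rw [irrDeg_eq_one_iff]; simp
      rw [h2] at h1
      unfold Int.ModEq at h1
      rcases hε with rfl | rfl <;> rcases he with h | h | h <;> rw [h] at h1 <;> omega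
  have hYne : Y.Nonempty := by
    rw [← Set.nonempty_coe_sort, ← Finite.card_pos_iff, hY]
    rcases he with h | h | h <;> rw [h] <;> norm_num
  -- the degree equation
  set Xf : Finset (IrrCharacter G) := (Set.toFinite X).toFinset with hXf
  have hXfmem : ∀ χ, χ ∈ Xf ↔ χ ∈ X := fun χ => Set.Finite.mem_toFinset _
  have hXfcard : Xf.card = e := by
    rw [← hX, Nat.card_coe_set_eq, Set.ncard_eq_toFinset_card X (Set.toFinite X)]
  set val : IrrCharacter G → ℤ := fun χ => εX χ * (irrDeg χ : ℤ) with hval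
  have hvalmem : ∀ χ ∈ Xf, val χ ∈ ({1, 96, -56, -189} : Finset ℤ) := by
    intro χ hχ
    rw [hXfmem] at hχ
    simp only [Finset.mem_insert, Finset.mem_singleton, hval]
    rcases hdata χ hχ with h | h | h | h <;> rw [h.1, h.2] <;> norm_num
  have hval1 : Xf.filter (fun χ => val χ = 1) = {trivIrr G} := by
    ext χ
    rw [Finset.mem_filter, Finset.mem_singleton]
    constructor
    · rintro ⟨hχ, hv⟩
      rw [hXfmem] at hχ
      by_contra hne
      have h1 := irrDeg_ne_one hcard χ hne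
      simp only [hval] at hv
      rcases hdata χ hχ with h | h | h | h
      · exact h1 h.1
      · rw [h.1, h.2] at hv; norm_num at hv
      · rw [h.1, h.2] at hv; norm_num at hv
      · rw [h.1, h.2] at hv; norm_num at hv
    · rintro rfl
      refine ⟨(hXfmem _).mpr htrivX, ?_⟩
      have h2 : irrDeg (trivIrr G) = 1 := by
        rw [irrDeg_eq_one_iff]; simp
      simp only [hval]
      rcases hdata _ htrivX with h | h | h | h
      · rw [h.1, h.2]; norm_num
      · rw [h2] at h; omega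
      · rw [h2] at h; omega
      · rw [h2] at h; omega
  set a := (Xf.filter (fun χ => val χ = 96)).card with ha
  set c := (Xf.filter (fun χ => val χ = -56)).card with hc
  set f := (Xf.filter (fun χ => val χ = -189)).card with hf
  have hcount : 1 + a + c + f = e := by
    rw [← hXfcard, Finset.card_eq_sum_card_fiberwise hvalmem]
    rw [Finset.sum_insert (by decide), Finset.sum_insert (by decide), Finset.sum_insert (by decide),
      Finset.sum_singleton, hval1, Finset.card_singleton]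
    ring
  have hsum : ∑ χ ∈ Xf, val χ = 1 + 96 * (a : ℤ) - 56 * (c : ℤ) - 189 * (f : ℤ) := by
    rw [← Finset.sum_fiberwise_of_maps_to hvalmem]
    have hfib : ∀ v : ℤ, ∑ χ ∈ Xf.filter (fun χ => val χ = v), val χ =
        ((Xf.filter (fun χ => val χ = v)).card : ℤ) * v := by
      intro v
      rw [Finset.sum_congr rfl (fun χ hχ => (Finset.mem_filter.mp hχ).2), Finset.sum_const,
        nsmul_eq_mul]
    simp only [hfib]
    rw [Finset.sum_insert (by decide), Finset.sum_insert (by decide), Finset.sum_insert (by decide),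
      Finset.sum_singleton, hval1, Finset.card_singleton]
    push_cast
    ring
  -- the exceptional degree
  have hexc : ∀ θ ∈ Y, ε * (irrDeg θ : ℤ) = ∑ χ ∈ Xf, val χ := by
    intro θ hθ
    have h1 := hlin θ hθ 1 (by rw [orderOf_one]; norm_num)
    rw [finsum_mem_eq_finite_toFinset_sum _ (Set.toFinite X)] at h1
    have h2 : ((ε * (irrDeg θ : ℤ) : ℤ) : ℂ) = ((∑ χ ∈ Xf, val χ : ℤ) : ℂ) := by
      push_cast
      rw [← irrDeg_spec, h1]
      refine Finset.sum_congr rfl fun χ _ => ?_
      rw [hval, irrDeg_spec]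
      push_cast; rfl
    exact_mod_cast h2
  have ha6 : a ∈ Finset.range 6 := by
    rw [Finset.mem_range]; rcases he with h | h | h <;> omega
  have hc6 : c ∈ Finset.range 6 := by
    rw [Finset.mem_range]; rcases he with h | h | h <;> omega
  have hf6 : f ∈ Finset.range 6 := by
    rw [Finset.mem_range]; rcases he with h | h | h <;> omega
  have hY108 : ∀ θ ∈ Y, irrDeg θ = 108 ∧ e = 6 := by
    intro θ hθ
    have h1 := hexc θ hθ
    rw [hsum] at h1
    have hdvd : Int.natAbs (1 + 96 * (a : ℤ) - 56 * (c : ℤ) - 189 * (f : ℤ)) ∣ 459648 := by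
      rw [← h1, Int.natAbs_mul, Int.natAbs_natCast]
      have : ε.natAbs = 1 := by rcases hε with rfl | rfl <;> rfl
      rw [this, one_mul]
      exact irrDeg_dvd hcard θ
    obtain ⟨ha2, hc2, hf1⟩ := arith19 a ha6 c hc6 f hf6 (by rw [hcount]; exact he) hdvd
    rw [ha2, hc2, hf1] at h1 hcount
    refine ⟨?_, by omega⟩
    have h2 : (irrDeg θ : ℤ) = 108 ∨ (irrDeg θ : ℤ) = -108 := by
      rcases hε with rfl | rfl
      · right; push_cast at h1; linarith
      · left; push_cast at h1; linarith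
    rcases h2 with h | h
    · exact_mod_cast h
    · have := irrDeg_pos θ
      omega
  obtain ⟨θ₀, hθ₀⟩ := hYne
  have he6 : e = 6 := (hY108 θ₀ hθ₀).2
  refine ⟨X, Y, hB, ?_, ?_, fun θ hθ => (hY108 θ hθ).1, hYagree⟩
  · rw [hY, he6]
  · intro χ hχ
    rcases hdata χ hχ with h | h | h | h
    · exact Or.inl h.1
    · exact Or.inr (Or.inl h.1)
    · exact Or.inr (Or.inr (Or.inl h.1))
    · exact Or.inr (Or.inr (Or.inr h.1))

end Cfsg.Agent.Helper21.O459
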