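import Mathlib
import Cfsg.Prelude.Def_Blocks
import Cfsg.Agent.S0907
import Cfsg.Agent.Helper24.Orthogonality

set_option autoImplicit false

/-!
# Block orthogonality for two primes

If no element of `G` has order divisible by both `p` and `q`, `B` is a `p`-block, `S` a `q`-block,
`x` is `p`-singular and `w` is `q`-singular, then `∑_{χ ∈ B ∩ S} conj (χ x) * χ w = 0` (Brauer).
-/

namespace Cfsg.Agent.Helper21.TwoPrime

open Cfsg Cfsg.Agent.Helper24
open scoped ComplexConjugate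

variable {G : Type*} [Group G] [Finite G]

theorem two_prime_orth (p q : ℕ) [Fact p.Prime] [Fact q.Prime] (Mp Mq : Ideal AlgInt)
    (hMp : IsPModular p Mp) (hMq : IsPModular q Mq) (B S : Set (IrrCharacter G))
    (hB : IsPBlock Mp B) (hS : IsPBlock Mq S) (x w : G) (hx : p ∣ orderOf x) (hw : q ∣ orderOf w)
    (hno : ∀ h : G, p ∣ orderOf h → ¬ q ∣ orderOf h) :
    ∑ᶠ χ ∈ B ∩ S, conj ((χ : G → ℂ) x) * (χ : G → ℂ) w = 0 := by
  classical
  have : Fintype G := Fintype.ofFinite G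
  have : Fintype (IrrCharacter G) := Fintype.ofFinite _
  set Bf : Finset (IrrCharacter G) := (Set.toFinite B).toFinset with hBf
  set Sf : Finset (IrrCharacter G) := (Set.toFinite S).toFinset with hSf
  have hΦ : ∀ h : G, ¬ p ∣ orderOf h →
      ∑ χ ∈ Bf, (χ : G → ℂ) h * conj ((χ : G → ℂ) x) = 0 := by
    intro h hh
    have := Cfsg.Agent.S0907.result p Mp hMp B hB h x hh hx
    rwa [finsum_mem_eq_finite_toFinset_sum _ (Set.toFinite B)] at this
  have hΨ : ∀ h : G, ¬ q ∣ orderOf h →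
      ∑ ψ ∈ Sf, (ψ : G → ℂ) h * conj ((ψ : G → ℂ) w) = 0 := by
    intro h hh
    have := Cfsg.Agent.S0907.result q Mq hMq S hS h w hh hw
    rwa [finsum_mem_eq_finite_toFinset_sum _ (Set.toFinite S)] at this
  set Φ : G → ℂ := ∑ χ ∈ Bf, conj ((χ : G → ℂ) x) • (χ : G → ℂ) with hΦdef
  set Ψ : G → ℂ := ∑ ψ ∈ Sf, conj ((ψ : G → ℂ) w) • (ψ : G → ℂ) with hΨdef
  have hΦh : ∀ h : G, Φ h = ∑ χ ∈ Bf, (χ : G → ℂ) h * conj ((χ : G → ℂ) x) := by
    intro h
    rw [hΦdef, Finset.sum_apply]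
    refine Finset.sum_congr rfl fun χ _ => ?_
    rw [Pi.smul_apply, smul_eq_mul, mul_comm]
  have hΨh : ∀ h : G, Ψ h = ∑ ψ ∈ Sf, (ψ : G → ℂ) h * conj ((ψ : G → ℂ) w) := by
    intro h
    rw [hΨdef, Finset.sum_apply]
    refine Finset.sum_congr rfl fun χ _ => ?_
    rw [Pi.smul_apply, smul_eq_mul, mul_comm]
  have hzero : classInner Φ Ψ = 0 := by
    unfold classInner
    rw [Finset.sum_eq_zero, mul_zero]
    intro h _
    by_cases hp : p ∣ orderOf h
    · rw [hΨh h, hΨ h (hno h hp), map_zero, mul_zero]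
    · rw [hΦh h, hΦ h hp, zero_mul]
  have hexp : classInner Φ Ψ =
      ∑ χ ∈ Bf, ∑ ψ ∈ Sf, conj ((χ : G → ℂ) x) * ((ψ : G → ℂ) w *
        (if χ = ψ then (1 : ℂ) else 0)) := by
    rw [hΦdef, classInner_sum_left]
    refine Finset.sum_congr rfl fun χ _ => ?_
    rw [classInner_smul_left, hΨdef, classInner_sum_right, Finset.mul_sum]
    refine Finset.sum_congr rfl fun ψ _ => ?_
    rw [classInner_smul_right, Complex.conj_conj, classInner_irr]
  rw [finsum_mem_eq_finite_toFinset_sum _ (Set.toFinite (B ∩ S))]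
  have hinter : (Set.toFinite (B ∩ S)).toFinset = Bf.filter (fun χ => χ ∈ Sf) := by
    ext χ
    simp [hBf, hSf]
  rw [hinter, Finset.sum_filter]
  refine Eq.trans ?_ (hexp.symm.trans hzero)
  refine Finset.sum_congr rfl fun χ _ => ?_
  by_cases hχ : χ ∈ Sf
  · rw [if_pos hχ, Finset.sum_eq_single χ]
    · rw [if_pos rfl, mul_one]
    · intro ψ _ hne
      rw [if_neg (Ne.symm hne), mul_zero, mul_zero]
    · intro h; exact absurd hχ h
  · rw [if_neg hχ]
    symm
    apply Finset.sum_eq_zero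
    intro ψ hψ
    have : χ ≠ ψ := fun h => hχ (h ▸ hψ)
    rw [if_neg this, mul_zero, mul_zero]

end Cfsg.Agent.Helper21.TwoPrime
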