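import Mathlib
import Cfsg.Agent.Helper21.O459b
import Cfsg.Agent.Helper21.TwoPrime
import Cfsg.Agent.Helper24.DefectZero

set_option autoImplicit false
set_option linter.unusedSectionVars false
set_option maxHeartbeats 1000000

/-!
No simple group of order 459648: the principal `7`-block and the contradiction.
-/

namespace Cfsg.Agent.Helper21.O459

open Cfsg Cfsg.Agent.Helper24 Cfsg.Agent.Helper5 Cfsg.Agent.Helper5.CC Subgroup
  Cfsg.Agent.Helper15.BrP Cfsg.Agent.Helper5.Loc
open scoped ComplexConjugate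

variable {G : Type*} [Group G] [Finite G]

/-- Two characters of degree `108` agreeing on `19`-regular elements lie in the same `7`-block. -/
theorem sameBlock7 [IsSimpleGroup G] (hcard : Nat.card G = 459648) (M7 : Ideal AlgInt)
    (hM7 : IsPModular 7 M7) (θ θ' : IrrCharacter G) (hd : irrDeg θ = 108) (hd' : irrDeg θ' = 108)
    (hagree : ∀ g : G, ¬ 19 ∣ orderOf g → (θ : G → ℂ) g = (θ' : G → ℂ) g) :
    SameBlock M7 (θ : G → ℂ) (θ' : G → ℂ) := by
  intro g
  have hMp := isPrime_of_isPModular hM7
  unfold centralChar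
  rw [irrDeg_spec, irrDeg_spec, hd, hd']
  by_cases h19 : 19 ∣ orderOf g
  · obtain ⟨k, hk⟩ := seven_dvd_index hcard g h19
    have h1 : ((centralizer ({g} : Set G)).index : ℂ) * (θ : G → ℂ) g / ((108 : ℕ) : ℂ) -
        ((centralizer ({g} : Set G)).index : ℂ) * (θ' : G → ℂ) g / ((108 : ℕ) : ℂ) =
        ((7 : ℕ) : ℂ) * ((k : ℂ) * ((θ : G → ℂ) g - (θ' : G → ℂ) g) * ((108 : ℕ) : ℂ)⁻¹) := by
      rw [hk]; push_cast; ring
    rw [h1]
    apply li_mul_right hMp ((memLocalIdeal_natCast_iff hM7 7).mpr (dvd_refl 7))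
    apply lr_mul hMp
    · apply lr_mul hMp (memLocalRing_natCast hMp k)
      exact lr_sub hMp (memLocalRing_of_isIntegral hMp (irr_isIntegral θ g))
        (memLocalRing_of_isIntegral hMp (irr_isIntegral θ' g))
    · exact memLocalRing_inv_natCast hM7 (by norm_num)
  · rw [hagree g h19, sub_self]
    exact memLocalIdeal_zero hMp


theorem irrDeg_trivIrr : irrDeg (trivIrr G) = 1 := by
  rw [irrDeg_eq_one_iff]; simp

/-- No simple group has order `459648`. -/
theorem final [IsSimpleGroup G] (hcard : Nat.card G = 459648) : False := by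
  classical
  have : Fintype G := Fintype.ofFinite G
  have : Fintype (IrrCharacter G) := Fintype.ofFinite _
  have hG := noncomm hcard
  obtain ⟨M19, hM19⟩ := exists_isPModular 19 (by norm_num)
  obtain ⟨M7, hM7⟩ := exists_isPModular 7 (by norm_num)
  have hMp19 := isPrime_of_isPModular hM19
  have hMp7 := isPrime_of_isPModular hM7
  obtain ⟨P⟩ : Nonempty (Sylow 19 G) := inferInstance
  obtain ⟨Q⟩ : Nonempty (Sylow 7 G) := inferInstance
  have hP := card_sylow19 hcard P
  have hQ := card_sylow7 hcard Q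
  obtain ⟨X, Y, hB, hY3, hXdeg, hYdeg, hYagree⟩ := block19 hcard M19 hM19 P
  -- the principal 7-block
  obtain ⟨he71, he76, -, -⟩ := Cfsg.Agent.Helper11.simple_automizer_data hG 7 Q hQ
  have hgen : ∀ n : ℕ, n ≠ 1 → n ∣ 6 → n = 2 ∨ n = 3 ∨ n = 6 := by
    intro n hn1 hn6
    have hle : n ≤ 6 := Nat.le_of_dvd (by norm_num) hn6
    interval_cases n <;> simp_all
  have he7 := hgen _ he71 he76
  set e7 := (centralizer ((Q : Subgroup G) : Set G)).relIndex
    (normalizer ((Q : Subgroup G) : Set G)) with he7def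
  obtain ⟨X7, Y7, hB7, hdisj7, hX7, hY7, εX7, ε7, hX7p, hε7, hY7deg, -, hlin7⟩ :=
    Cfsg.Agent.Helper5.GC.blockShape hM7 (by norm_num) Q hQ e7 rfl
  have htriv7 : trivIrr G ∈ principalBlock M7 G := trivIrr_mem_principalBlock hMp7
  have htriv19 : trivIrr G ∈ principalBlock M19 G := trivIrr_mem_principalBlock hMp19
  -- characters of degree 108 in the principal 7-block
  have hF2 : ∀ θ : IrrCharacter G, irrDeg θ = 108 → θ ∈ principalBlock M7 G → θ ∈ Y7 ∧ e7 = 3 := by
    intro θ hd hθ
    rw [hB7] at hθ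
    rcases hθ with h | h
    · exfalso
      obtain ⟨hs, hmod, -⟩ := hX7p θ h
      rw [charDegree_irr, hd] at hmod
      unfold Int.ModEq at hmod
      rcases hs with h1 | h1 <;> rw [h1] at hmod <;> omega
    · refine ⟨h, ?_⟩
      have hmod := hY7deg θ h
      rw [charDegree_irr, hd] at hmod
      unfold Int.ModEq at hmod
      rcases hε7 with rfl | rfl <;> rcases he7 with h1 | h1 | h1 <;> rw [h1] at hmod ⊢ <;> omega
  -- characters of degree divisible by 7 are not in the principal 7-block
  have hF4 : ∀ χ : IrrCharacter G, 7 ∣ irrDeg χ → χ ∉ principalBlock M7 G := by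
    intro χ hd hχ
    obtain ⟨k, hk⟩ := hd
    rw [hB7] at hχ
    rcases hχ with h | h
    · obtain ⟨hs, hmod, -⟩ := hX7p χ h
      rw [charDegree_irr, hk] at hmod
      unfold Int.ModEq at hmod
      push_cast at hmod
      rcases hs with h1 | h1 <;> rw [h1] at hmod <;> omega
    · have hmod := hY7deg χ h
      rw [charDegree_irr, hk] at hmod
      unfold Int.ModEq at hmod
      push_cast at hmod
      rcases hε7 with rfl | rfl <;> rcases he7 with h1 | h1 | h1 <;> rw [h1] at hmod <;> omega
  -- characters of degree 96 are not in the principal 7-block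
  have hF3 : ∀ χ : IrrCharacter G, irrDeg χ = 96 → χ ∉ principalBlock M7 G := by
    intro χ hd hχ
    rw [hB7] at hχ
    rcases hχ with h | h
    · obtain ⟨hs, hmod, -⟩ := hX7p χ h
      rw [charDegree_irr, hd] at hmod
      unfold Int.ModEq at hmod
      rcases hs with h1 | h1 <;> rw [h1] at hmod <;> omega
    · have hmod := hY7deg χ h
      rw [charDegree_irr, hd] at hmod
      unfold Int.ModEq at hmod
      have he2 : e7 = 2 ∧ ε7 = -1 := by
        rcases hε7 with rfl | rfl <;> rcases he7 with h1 | h1 | h1 <;> rw [h1] at hmod ⊢ <;> omega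
      obtain ⟨he2, hεm⟩ := he2
      -- the trivial character lies in X7
      have htrivX7 : trivIrr G ∈ X7 := by
        have h0 := htriv7
        rw [hB7] at h0
        rcases h0 with h' | h'
        · exact h'
        · exfalso
          have h1 := hY7deg _ h'
          rw [charDegree_irr, irrDeg_trivIrr, hεm, he2] at h1
          unfold Int.ModEq at h1
          omega
      have hεtriv : εX7 (trivIrr G) = 1 := by
        obtain ⟨hs, hmod', -⟩ := hX7p _ htrivX7
        rw [charDegree_irr, irrDeg_trivIrr] at hmod'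
        unfold Int.ModEq at hmod'
        rcases hs with h1 | h1
        · exact h1
        · rw [h1] at hmod'; omega
      set X7f : Finset (IrrCharacter G) := (Set.toFinite X7).toFinset with hX7f
      have hX7fcard : X7f.card = 2 := by
        rw [← he2, ← hX7, Nat.card_coe_set_eq, Set.ncard_eq_toFinset_card X7 (Set.toFinite X7)]
      have htrivmem : trivIrr G ∈ X7f := (Set.Finite.mem_toFinset _).mpr htrivX7
      have herase : (X7f.erase (trivIrr G)).card = 1 := by
        rw [Finset.card_erase_of_mem htrivmem, hX7fcard]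
      obtain ⟨ψ, hψ⟩ := Finset.card_eq_one.mp herase
      have hψX : ψ ∈ X7 := by
        have : ψ ∈ X7f.erase (trivIrr G) := by rw [hψ]; exact Finset.mem_singleton_self ψ
        exact (Set.Finite.mem_toFinset _).mp (Finset.mem_of_mem_erase this)
      have h1 := hlin7 χ h 1 (by rw [orderOf_one]; norm_num)
      rw [finsum_mem_eq_finite_toFinset_sum _ (Set.toFinite X7),
        ← Finset.add_sum_erase _ _ htrivmem, hψ, Finset.sum_singleton, hεtriv, hεm,
        irrDeg_spec χ, irrDeg_spec ψ, hd, trivIrr_apply] at h1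
      obtain ⟨hs, -, -⟩ := hX7p ψ hψX
      have h97 : irrDeg ψ = 97 := by
        have h2 : ((-1 : ℤ) : ℂ) * ((96 : ℕ) : ℂ) = ((1 : ℤ) : ℂ) * 1 +
            ((εX7 ψ : ℤ) : ℂ) * ((irrDeg ψ : ℕ) : ℂ) := h1
        have h3 : (-1 : ℤ) * 96 = 1 * 1 + εX7 ψ * (irrDeg ψ : ℤ) := by exact_mod_cast h2
        rcases hs with h4 | h4 <;> rw [h4] at h3 <;> omega
      have hdvd := irrDeg_dvd hcard ψ
      rw [h97] at hdvd
      revert hdvd
      decide
  -- elements of order 19 and 7
  obtain ⟨x, hx⟩ := exists_prime_orderOf_dvd_card (G := G) 19 (by rw [Nat.card_eq_fintype_card] at hcard; rw [hcard]; norm_num)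
  obtain ⟨w, hw⟩ := exists_prime_orderOf_dvd_card (G := G) 7 (by rw [Nat.card_eq_fintype_card] at hcard; rw [hcard]; norm_num)
  have hB19 : IsPBlock M19 (principalBlock M19 G) := ⟨trivIrr G, rfl⟩
  have hB7' : IsPBlock M7 (principalBlock M7 G) := ⟨trivIrr G, rfl⟩
  have horth := Cfsg.Agent.Helper21.TwoPrime.two_prime_orth 19 7 M19 M7 hM19 hM7
    (principalBlock M19 G) (principalBlock M7 G) hB19 hB7' x w (by rw [hx]) (by rw [hw])
    (fun h h19 => not_seven_dvd hcard h h19)
  by_cases hsub : ∃ θ ∈ Y, θ ∈ principalBlock M7 G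
  · -- all of Y lies in the principal 7-block, and then in Y7
    obtain ⟨θ, hθY, hθ7⟩ := hsub
    have hall : ∀ θ' ∈ Y, θ' ∈ Y7 ∧ e7 = 3 := by
      intro θ' hθ'
      apply hF2 θ' (hYdeg θ' hθ')
      have h1 := sameBlock7 hcard M7 hM7 θ θ' (hYdeg θ hθY) (hYdeg θ' hθ')
        (hYagree θ hθY θ' hθ')
      exact sameBlock_trans hMp7 hθ7 h1
    have he3 : e7 = 3 := (hall θ hθY).2
    have hsubset : Y ⊆ Y7 := fun θ' hθ' => (hall θ' hθ').1
    have hle := Set.ncard_le_ncard hsubset (Set.toFinite Y7)
    rw [← Nat.card_coe_set_eq, ← Nat.card_coe_set_eq, hY3, hY7, he3] at hle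
    omega
  · push Not at hsub
    have hinter : principalBlock M19 G ∩ principalBlock M7 G = {trivIrr G} := by
      ext χ
      rw [Set.mem_inter_iff, Set.mem_singleton_iff]
      constructor
      · rintro ⟨h19, h7⟩
        rw [hB] at h19
        rcases h19 with h | h
        · rcases hXdeg χ h with hd | hd | hd | hd
          · by_contra hne
            exact irrDeg_ne_one hcard χ hne hd
          · exact absurd h7 (hF3 χ hd)
          · exact absurd h7 (hF4 χ (by rw [hd]; norm_num))
          · exact absurd h7 (hF4 χ (by rw [hd]; norm_num))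
        · exact absurd h7 (hsub χ h)
      · rintro rfl
        exact ⟨htriv19, htriv7⟩
    rw [hinter, finsum_mem_singleton] at horth
    simp at horth

end Cfsg.Agent.Helper21.O459
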