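import Mathlib

set_option autoImplicit false

/-!
No simple group of order 5040: arithmetic of the degree equations for `p = 7`.
-/

namespace Cfsg.Agent.Helper21.O5040

theorem filter_sylow : (Nat.divisors 720).filter (fun d => d % 7 = 1) = {1, 8, 15, 36, 120} := by
  decide +kernel

theorem filter_pm1 : (Nat.divisors 5040).filter (fun c => c % 7 = 1 ∨ c % 7 = 6) =
    {1, 6, 8, 15, 20, 36, 48, 90, 120, 720} := by decide +kernel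

theorem filter_pm2 : (Nat.divisors 5040).filter (fun c => c % 7 = 2 ∨ c % 7 = 5) =
    {2, 5, 9, 12, 16, 30, 40, 72, 180, 240} := by decide +kernel

theorem filter_pm3 : (Nat.divisors 5040).filter (fun c => c % 7 = 3 ∨ c % 7 = 4) =
    {3, 4, 10, 18, 24, 45, 60, 80, 144, 360} := by decide +kernel

theorem mem_pm1 (c : ℕ) (s : ℤ) (hs : s = 1 ∨ s = -1) (hc : c ∣ 5040)
    (hcs : (c : ℤ) ≡ s [ZMOD 7]) :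
    c ∈ ({1, 6, 8, 15, 20, 36, 48, 90, 120, 720} : Finset ℕ) := by
  rw [← filter_pm1, Finset.mem_filter, Nat.mem_divisors]
  refine ⟨⟨hc, by norm_num⟩, ?_⟩
  unfold Int.ModEq at hcs
  rcases hs with rfl | rfl <;> omega

theorem mem_pm2 (d : ℕ) (s : ℤ) (hs : s = 1 ∨ s = -1) (hd : d ∣ 5040)
    (hds : (d : ℤ) ≡ s * 2 [ZMOD 7]) :
    d ∈ ({2, 5, 9, 12, 16, 30, 40, 72, 180, 240} : Finset ℕ) := by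
  rw [← filter_pm2, Finset.mem_filter, Nat.mem_divisors]
  refine ⟨⟨hd, by norm_num⟩, ?_⟩
  unfold Int.ModEq at hds
  rcases hs with rfl | rfl <;> omega

theorem mem_pm3 (d : ℕ) (s : ℤ) (hs : s = 1 ∨ s = -1) (hd : d ∣ 5040)
    (hds : (d : ℤ) ≡ s * 3 [ZMOD 7]) :
    d ∈ ({3, 4, 10, 18, 24, 45, 60, 80, 144, 360} : Finset ℕ) := by
  rw [← filter_pm3, Finset.mem_filter, Nat.mem_divisors]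
  refine ⟨⟨hd, by norm_num⟩, ?_⟩
  unfold Int.ModEq at hds
  rcases hs with rfl | rfl <;> omega

theorem arith_e2_aux : ∀ c ∈ ({1, 6, 8, 15, 20, 36, 48, 90, 120, 720} : Finset ℕ),
    ∀ d ∈ ({2, 5, 9, 12, 16, 30, 40, 72, 180, 240} : Finset ℕ),
    ∀ s ∈ ({1, -1} : Finset ℤ), ∀ eps ∈ ({1, -1} : Finset ℤ),
    c ≠ 1 → ((c : ℤ) - s) % 7 = 0 → ((d : ℤ) - eps * 2) % 7 = 0 → eps * (d : ℤ) = 1 + s * (c : ℤ) →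
    (c = 6 ∧ s = -1) ∨ (c = 8 ∧ d = 9 ∧ s = 1 ∧ eps = 1) ∨ (c = 15 ∧ d = 16 ∧ s = 1 ∧ eps = 1) := by
  decide +kernel

/-- The degree equation for `e = 2`. -/
theorem arith_e2 (c d : ℕ) (s eps : ℤ) (hs : s = 1 ∨ s = -1) (he : eps = 1 ∨ eps = -1)
    (hc : c ∣ 5040) (hd : d ∣ 5040) (hc1 : c ≠ 1) (hcs : (c : ℤ) ≡ s [ZMOD 7])
    (hds : (d : ℤ) ≡ eps * 2 [ZMOD 7]) (heq : eps * (d : ℤ) = 1 + s * (c : ℤ)) :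
    (c = 6 ∧ s = -1) ∨ (c = 8 ∧ d = 9 ∧ s = 1 ∧ eps = 1) ∨ (c = 15 ∧ d = 16 ∧ s = 1 ∧ eps = 1) := by
  have h1 := mem_pm1 c s hs hc hcs
  have h2 := mem_pm2 d eps he hd hds
  refine arith_e2_aux c h1 d h2 s ?_ eps ?_ hc1 ?_ ?_ heq
  · rcases hs with rfl | rfl <;> simp
  · rcases he with rfl | rfl <;> simp
  · unfold Int.ModEq at hcs; omega
  · unfold Int.ModEq at hds; omega

/-- The possible outcomes of the degree equation for `e = 3`. -/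
def E3 (c₁ c₂ d : ℕ) (s₁ s₂ eps : ℤ) : Prop :=
  (c₁ = 6 ∧ s₁ = -1) ∨ (c₂ = 6 ∧ s₂ = -1) ∨
    (c₁ = 8 ∧ s₁ = 1 ∧ c₂ = 15 ∧ s₂ = 1 ∧ d = 24 ∧ eps = 1) ∨
    (c₁ = 15 ∧ s₁ = 1 ∧ c₂ = 8 ∧ s₂ = 1 ∧ d = 24 ∧ eps = 1) ∨
    (c₁ = 8 ∧ c₂ = 36 ∧ d = 45) ∨ (c₁ = 36 ∧ c₂ = 8 ∧ d = 45) ∨
    (c₁ = 15 ∧ s₁ = 1 ∧ c₂ = 20 ∧ s₂ = -1 ∧ d = 4 ∧ eps = -1) ∨
    (c₁ = 20 ∧ s₁ = -1 ∧ c₂ = 15 ∧ s₂ = 1 ∧ d = 4 ∧ eps = -1)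

instance (c₁ c₂ d : ℕ) (s₁ s₂ eps : ℤ) : Decidable (E3 c₁ c₂ d s₁ s₂ eps) := by
  unfold E3; infer_instance

/-- The hypotheses of the degree equation for `e = 3`. -/
def H3 (c₁ c₂ d : ℕ) (s₁ s₂ eps : ℤ) : Prop :=
  c₁ ≠ 1 ∧ c₂ ≠ 1 ∧ ((c₁ : ℤ) - s₁) % 7 = 0 ∧ ((c₂ : ℤ) - s₂) % 7 = 0 ∧
    ((d : ℤ) - eps * 3) % 7 = 0 ∧ eps * (d : ℤ) = 1 + s₁ * (c₁ : ℤ) + s₂ * (c₂ : ℤ)

instance (c₁ c₂ d : ℕ) (s₁ s₂ eps : ℤ) : Decidable (H3 c₁ c₂ d s₁ s₂ eps) := by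
  unfold H3; infer_instance

theorem arith_e3_aux : ∀ c₁ ∈ ({1, 6, 8, 15, 20, 36, 48, 90, 120, 720} : Finset ℕ),
    ∀ c₂ ∈ ({1, 6, 8, 15, 20, 36, 48, 90, 120, 720} : Finset ℕ),
    ∀ d ∈ ({3, 4, 10, 18, 24, 45, 60, 80, 144, 360} : Finset ℕ),
    ∀ s₁ ∈ ({1, -1} : Finset ℤ), ∀ s₂ ∈ ({1, -1} : Finset ℤ), ∀ eps ∈ ({1, -1} : Finset ℤ),
    H3 c₁ c₂ d s₁ s₂ eps → E3 c₁ c₂ d s₁ s₂ eps := by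
  decide +kernel

/-- The degree equation for `e = 3`. -/
theorem arith_e3 (c₁ c₂ d : ℕ) (s₁ s₂ eps : ℤ) (hs₁ : s₁ = 1 ∨ s₁ = -1)
    (hs₂ : s₂ = 1 ∨ s₂ = -1) (he : eps = 1 ∨ eps = -1)
    (hc₁ : c₁ ∣ 5040) (hc₂ : c₂ ∣ 5040) (hd : d ∣ 5040) (hc₁1 : c₁ ≠ 1) (hc₂1 : c₂ ≠ 1)
    (hcs₁ : (c₁ : ℤ) ≡ s₁ [ZMOD 7]) (hcs₂ : (c₂ : ℤ) ≡ s₂ [ZMOD 7])
    (hds : (d : ℤ) ≡ eps * 3 [ZMOD 7])
    (heq : eps * (d : ℤ) = 1 + s₁ * (c₁ : ℤ) + s₂ * (c₂ : ℤ)) :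
    (c₁ = 6 ∧ s₁ = -1) ∨ (c₂ = 6 ∧ s₂ = -1) ∨
      (c₁ = 8 ∧ s₁ = 1 ∧ c₂ = 15 ∧ s₂ = 1 ∧ d = 24 ∧ eps = 1) ∨
      (c₁ = 15 ∧ s₁ = 1 ∧ c₂ = 8 ∧ s₂ = 1 ∧ d = 24 ∧ eps = 1) ∨
      (c₁ = 8 ∧ c₂ = 36 ∧ d = 45) ∨ (c₁ = 36 ∧ c₂ = 8 ∧ d = 45) ∨
      (c₁ = 15 ∧ s₁ = 1 ∧ c₂ = 20 ∧ s₂ = -1 ∧ d = 4 ∧ eps = -1) ∨
      (c₁ = 20 ∧ s₁ = -1 ∧ c₂ = 15 ∧ s₂ = 1 ∧ d = 4 ∧ eps = -1) := by
  have h1 := mem_pm1 c₁ s₁ hs₁ hc₁ hcs₁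
  have h2 := mem_pm1 c₂ s₂ hs₂ hc₂ hcs₂
  have h3 := mem_pm3 d eps he hd hds
  refine arith_e3_aux c₁ h1 c₂ h2 d h3 s₁ ?_ s₂ ?_ eps ?_ ⟨hc₁1, hc₂1, ?_, ?_, ?_, heq⟩
  · rcases hs₁ with rfl | rfl <;> simp
  · rcases hs₂ with rfl | rfl <;> simp
  · rcases he with rfl | rfl <;> simp
  · unfold Int.ModEq at hcs₁; omega
  · unfold Int.ModEq at hcs₂; omega
  · unfold Int.ModEq at hds; omega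

/-- The arithmetic constraints from integrality and second orthogonality in the case `e = 2`. -/
def EndBad (c d : ℕ) (N₁ N₂ : ℤ) (idx : ℕ) : Prop :=
  (c : ℤ) ^ 2 ∣ (idx : ℤ) ^ 2 * N₁ ∧ (d : ℤ) ^ 2 ∣ (idx : ℤ) ^ 2 * N₂ ∧
    (idx : ℤ) * (2 + N₁ + 3 * N₂) ≤ 10080

instance (c d : ℕ) (N₁ N₂ : ℤ) (idx : ℕ) : Decidable (EndBad c d N₁ N₂ idx) := by
  unfold EndBad; infer_instance

theorem end_8_q3 : ∀ idx ∈ Nat.divisors 5040, ¬ EndBad 8 9 (2 * (1 ^ 2 - 1 * 7 + 7 ^ 2))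
    (2 * ((1 + 1) ^ 2 - (1 + 1) * 7 + 7 ^ 2)) idx := by decide +kernel

theorem end_15_q3_a : ∀ idx ∈ Nat.divisors 5040, ¬ EndBad 15 16 (2 * (8 ^ 2 - 8 * 7 + 7 ^ 2))
    (2 * ((8 + 1) ^ 2 - (8 + 1) * 7 + 7 ^ 2)) idx := by decide +kernel

theorem end_15_q3_b : ∀ idx ∈ Nat.divisors 5040, ¬ EndBad 15 16 (2 * (1 ^ 2 - 1 * 14 + 14 ^ 2))
    (2 * ((1 + 1) ^ 2 - (1 + 1) * 14 + 14 ^ 2)) idx := by decide +kernel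

theorem end_15_q3_c : ∀ idx ∈ Nat.divisors 5040, ¬ EndBad 15 16 (2 * ((-6) ^ 2 - (-6) * 0 + 0 ^ 2))
    (2 * ((-6 + 1) ^ 2 - (-6 + 1) * 0 + 0 ^ 2)) idx := by decide +kernel

theorem end_8_q5 : ∀ idx ∈ Nat.divisors 5040, ¬ EndBad 8 9 (2 * 1 ^ 2 - 1 * 7 + 2 * 7 ^ 2)
    (2 * (1 + 1) ^ 2 - (1 + 1) * 7 + 2 * 7 ^ 2) idx := by decide +kernel

theorem end_15_q2_a : ∀ idx ∈ Nat.divisors 5040, ¬ EndBad 15 16 (2 * (-13) ^ 2)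
    (2 * (-13 + 1) ^ 2) idx := by decide +kernel

theorem end_15_q2_b : ∀ idx ∈ Nat.divisors 5040, EndBad 15 16 (2 * 1 ^ 2) (2 * (1 + 1) ^ 2) idx →
    ∀ c : ℕ, idx * c = 5040 → ¬ 4 ∣ c := by
  have h : ∀ idx ∈ Nat.divisors 5040, EndBad 15 16 (2 * 1 ^ 2) (2 * (1 + 1) ^ 2) idx →
      ¬ 4 ∣ 5040 / idx := by decide +kernel
  intro idx hidx hbad c hc
  have h1 := h idx hidx hbad
  have h2 : 5040 / idx = c := by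
    have hpos : 0 < idx := Nat.pos_of_mem_divisors hidx
    rw [← hc]; exact Nat.mul_div_cancel_left c hpos
  rwa [h2] at h1

end Cfsg.Agent.Helper21.O5040
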