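import Mathlib
import Cfsg.Agent.Helper21.O5040a
import Cfsg.Agent.Helper21.BrRat
import Cfsg.Agent.Helper15.O4032c
import Cfsg.Agent.Helper15.NoSimp1
import Cfsg.Agent.Helper24.Abelian
import Cfsg.Agent.Helper24.ColumnOrth
import Cfsg.Agent.Helper24.Expansion

set_option autoImplicit false
set_option linter.unusedSectionVars false
set_option maxHeartbeats 1000000

/-!
No simple group of order 5040: setup and the case `e = 3`, `|C(P)| = 14`.
-/

namespace Cfsg.Agent.Helper21.O5040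

open Cfsg Cfsg.Agent.Helper24 Cfsg.Agent.Helper5 Cfsg.Agent.Helper5.CC Subgroup
  Cfsg.Agent.Helper15.BrP Cfsg.Agent.Helper21.BrRat

variable {G : Type*} [Group G] [Finite G] [IsSimpleGroup G]

theorem noncomm (hcard : Nat.card G = 5040) : ¬ IsMulCommutative G :=
  Cfsg.Agent.Helper11.simple_noncomm_of_card (by rw [hcard]; norm_num)

theorem perfect (hcard : Nat.card G = 5040) : commutator G = ⊤ :=
  Cfsg.Agent.Helper11.O504.commutator_eq_top (noncomm hcard)

theorem irrDeg_dvd (hcard : Nat.card G = 5040) (χ : IrrCharacter G) : irrDeg χ ∣ 5040 := by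
  rw [← hcard]; exact irrDeg_dvd_card χ

theorem irrDeg_ne_one (hcard : Nat.card G = 5040) (χ : IrrCharacter G) (hχ : χ ≠ trivIrr G) :
    irrDeg χ ≠ 1 :=
  Cfsg.Agent.Helper24.SelfCent.irrDeg_ne_one_of_perfect (perfect hcard) χ hχ

/-- Partial sums of squares of degrees. -/
theorem sum_irrDeg_sq_le (hcard : Nat.card G = 5040) [Fintype (IrrCharacter G)]
    (S : Finset (IrrCharacter G)) : ∑ ψ ∈ S, irrDeg ψ ^ 2 ≤ 5040 := by
  classical
  have : Fintype G := Fintype.ofFinite G
  have h1 := sum_irrDeg_sq (G := G)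
  rw [hcard] at h1
  rw [← h1]
  exact Finset.sum_le_univ_sum_of_nonneg (fun ψ => Nat.zero_le _)

/-- Second orthogonality: partial sums. -/
theorem sum_normSq_le [Fintype (IrrCharacter G)] (S : Finset (IrrCharacter G)) (y : G) :
    ∑ ψ ∈ S, Complex.normSq ((ψ : G → ℂ) y) ≤ (Nat.card (centralizer ({y} : Set G)) : ℝ) := by
  classical
  have : Fintype G := Fintype.ofFinite G
  have h2nd : ∑ ψ : IrrCharacter G, Complex.normSq ((ψ : G → ℂ) y) =
      (Nat.card (centralizer ({y} : Set G)) : ℝ) := by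
    have := sum_irr_mul_conj y y
    rw [if_pos (IsConj.refl y)] at this
    simp only [Complex.mul_conj] at this
    exact_mod_cast this
  rw [← h2nd]
  exact Finset.sum_le_univ_sum_of_nonneg (fun ψ => Complex.normSq_nonneg _)

/-- A nonlinear irreducible character is not constant. -/
theorem exists_apply_ne_irrDeg (χ : IrrCharacter G) (h1 : irrDeg χ ≠ 1) :
    ∃ x : G, (χ : G → ℂ) x ≠ (irrDeg χ : ℂ) := by
  classical
  have : Fintype G := Fintype.ofFinite G
  have : Fintype (IrrCharacter G) := Fintype.ofFinite _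
  by_contra hcon
  push Not at hcon
  have hirr := (isIrrCharacter_iff_classInner_self.mp χ.2).2
  unfold classInner at hirr
  have hsum : ∑ g : G, (χ : G → ℂ) g * (starRingEnd ℂ) ((χ : G → ℂ) g) =
      (Nat.card G : ℂ) * ((irrDeg χ : ℂ) * (irrDeg χ : ℂ)) := by
    rw [Finset.sum_congr rfl (fun g _ => by rw [hcon g, Complex.conj_natCast])]
    rw [Finset.sum_const, Finset.card_univ, nsmul_eq_mul, Nat.card_eq_fintype_card]
  rw [hsum] at hirr
  have hne : (Nat.card G : ℂ) ≠ 0 := by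
    have : 0 < Nat.card G := Nat.card_pos
    exact_mod_cast this.ne'
  rw [← mul_assoc, inv_mul_cancel₀ hne, one_mul] at hirr
  have : irrDeg χ * irrDeg χ = 1 := by exact_mod_cast hirr
  exact h1 (Nat.eq_one_of_mul_eq_one_left this)

/-- The value of a character of `X` at an involution of `C(P)`. -/
theorem val_q2 {e : ℕ} {P : Sylow 7 G} (D : BData 7 P e) (χ : IrrCharacter G) (hχ : χ ∈ D.X)
    (x y : G) (hxP : x ∈ (P : Subgroup G)) (hx : orderOf x = 7)
    (hyC : y ∈ centralizer ((P : Subgroup G) : Set G)) (hy : orderOf y = 2) :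
    ∃ m : ℕ, (χ : G → ℂ) y = ((14 * (m : ℤ) - 12 * D.sg χ - (irrDeg χ : ℤ) : ℤ) : ℂ) := by
  have hc : Commute x y := (Subgroup.mem_centralizer_iff.mp hyC) x hxP
  have hy7 : y ^ 7 = y := by
    have h2 : y ^ 2 = 1 := by rw [← hy]; exact pow_orderOf_eq_one y
    calc y ^ 7 = (y ^ 2) ^ 3 * y := by group
      _ = y := by rw [h2, one_pow, one_mul]
  obtain ⟨m, hm⟩ := exists_mul_eq_sum_pow χ ((D.sg χ : ℤ) : ℂ) 7 2 (by norm_num) (by norm_num)
    x y hx hy hc (fun k hk => Cfsg.Agent.Helper15.O4032.val_pow D χ hχ x y hxP hx hyC 2 hy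
      (by norm_num) k hk)
  rw [Finset.sum_range_succ, Finset.sum_range_one, mul_zero, pow_zero, mul_one, hy7,
    irrDeg_spec] at hm
  refine ⟨m, ?_⟩
  push_cast at hm ⊢
  linear_combination hm

/-- Integer bounds from `‖χ(y)‖ ≤ χ(1)`. -/
theorem int_abs_le (χ : IrrCharacter G) (y : G) (a : ℤ) (h : (χ : G → ℂ) y = (a : ℂ)) :
    |a| ≤ (irrDeg χ : ℤ) := by
  have := norm_le_irrDeg χ y
  rw [h, Complex.norm_intCast] at this
  exact_mod_cast this

/-- In a simple group, a nonlinear character does not take its degree at `y ≠ 1`. -/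
theorem int_ne_irrDeg (χ : IrrCharacter G) (h1 : irrDeg χ ≠ 1) (y : G) (hy : y ≠ 1) (a : ℤ)
    (h : (χ : G → ℂ) y = (a : ℂ)) : a ≠ (irrDeg χ : ℤ) := by
  intro ha
  obtain ⟨x, hx⟩ := exists_apply_ne_irrDeg χ h1
  apply hy
  apply eq_one_of_apply_eq_irrDeg χ x hx y
  rw [h, ha]
  norm_cast

end Cfsg.Agent.Helper21.O5040
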