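import Mathlib
import Cfsg.Agent.Helper21.O5040b

set_option autoImplicit false
set_option linter.unusedSectionVars false
set_option maxHeartbeats 1000000

/-!
No simple group of order 5040: the case `e = 3`, `|C(P)| = 14`.
-/

namespace Cfsg.Agent.Helper21.O5040

open Cfsg Cfsg.Agent.Helper24 Cfsg.Agent.Helper5 Cfsg.Agent.Helper5.CC Subgroup
  Cfsg.Agent.Helper15.BrP Cfsg.Agent.Helper21.BrRat

variable {G : Type*} [Group G] [Finite G] [IsSimpleGroup G]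

/-- The shape of the principal block for `e = 3`. -/
theorem e3_data [DecidableEq (IrrCharacter G)] (hcard : Nat.card G = 5040) (P : Sylow 7 G)
    (D : BData 7 P 3) :
    ∃ (χ₁ χ₂ : IrrCharacter G) (d : ℕ), χ₁ ≠ trivIrr G ∧ χ₂ ≠ trivIrr G ∧ χ₁ ≠ χ₂ ∧
      D.X = {trivIrr G, χ₁, χ₂} ∧ (∀ θ ∈ D.Y, irrDeg θ = d) ∧ D.Y.card = 2 ∧
      E3 (irrDeg χ₁) (irrDeg χ₂) d (D.sg χ₁) (D.sg χ₂) D.eps := by
  classical
  have hX' : (D.X.erase (trivIrr G)).card = 2 := by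
    rw [Finset.card_erase_of_mem D.htriv, D.hX]
  obtain ⟨χ₁, χ₂, hne, hX2⟩ := Finset.card_eq_two.mp hX'
  have hχ₁ : χ₁ ∈ D.X.erase (trivIrr G) := by rw [hX2]; simp
  have hχ₂ : χ₂ ∈ D.X.erase (trivIrr G) := by rw [hX2]; simp
  rw [Finset.mem_erase] at hχ₁ hχ₂
  have hXeq : D.X = {trivIrr G, χ₁, χ₂} := by
    rw [← Finset.insert_erase D.htriv, hX2]
  have hYne : D.Y.Nonempty := Finset.card_pos.mp (by rw [D.hY]; norm_num)
  obtain ⟨θ₀, hθ₀⟩ := hYne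
  have hd1 : irrDeg (trivIrr G) = 1 := by rw [irrDeg_eq_one_iff]; rfl
  have hsum : ∀ θ ∈ D.Y, D.eps * (irrDeg θ : ℤ) =
      1 + D.sg χ₁ * (irrDeg χ₁ : ℤ) + D.sg χ₂ * (irrDeg χ₂ : ℤ) := by
    intro θ hθ
    have heq := D.deg_eq θ hθ
    rw [← Finset.add_sum_erase _ _ D.htriv, hX2, Finset.sum_pair hne, D.hsgtriv, hd1] at heq
    rw [heq]; push_cast; ring
  refine ⟨χ₁, χ₂, irrDeg θ₀, hχ₁.1, hχ₂.1, hne, hXeq, ?_, by rw [D.hY], ?_⟩
  · intro θ hθ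
    have h1 := hsum θ hθ
    have h2 := hsum θ₀ hθ₀
    have h3 : D.eps * (irrDeg θ : ℤ) = D.eps * (irrDeg θ₀ : ℤ) := by rw [h1, h2]
    rcases D.heps with h | h <;> rw [h] at h3 <;> omega
  · exact arith_e3 (irrDeg χ₁) (irrDeg χ₂) (irrDeg θ₀) (D.sg χ₁) (D.sg χ₂) D.eps
      (D.hsg χ₁ hχ₁.2) (D.hsg χ₂ hχ₂.2) D.heps (irrDeg_dvd hcard χ₁) (irrDeg_dvd hcard χ₂)
      (irrDeg_dvd hcard θ₀) (irrDeg_ne_one hcard χ₁ hχ₁.1) (irrDeg_ne_one hcard χ₂ hχ₂.1)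
      (D.hdegX χ₁ hχ₁.2) (D.hdegX χ₂ hχ₂.2) (D.hdegY θ₀ hθ₀) (hsum θ₀ hθ₀)

/-- The pattern `(8, 15; 24)`. -/
theorem e3_core_A [DecidableEq (IrrCharacter G)] (hcard : Nat.card G = 5040) (P : Sylow 7 G)
    (hN : Nat.card (normalizer ((P : Subgroup G) : Set G)) = 42) (D : BData 7 P 3)
    (χ₁ χ₂ : IrrCharacter G) (h1 : χ₁ ≠ trivIrr G) (h2 : χ₂ ≠ trivIrr G) (hne : χ₁ ≠ χ₂)
    (hXeq : D.X = {trivIrr G, χ₁, χ₂}) (hY : ∀ θ ∈ D.Y, irrDeg θ = 24) (hY2 : D.Y.card = 2)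
    (hd₁ : irrDeg χ₁ = 8) (hs₁ : D.sg χ₁ = 1) (hd₂ : irrDeg χ₂ = 15) (hs₂ : D.sg χ₂ = 1)
    (heps : D.eps = 1) (x y : G) (hxP : x ∈ (P : Subgroup G)) (hx : orderOf x = 7)
    (hyC : y ∈ centralizer ((P : Subgroup G) : Set G)) (hy : orderOf y = 2) : False := by
  classical
  have : Fintype (IrrCharacter G) := Fintype.ofFinite _
  have hy1 : y ≠ 1 := by intro h; rw [h, orderOf_one] at hy; omega
  have hχ₁X : χ₁ ∈ D.X := by rw [hXeq]; simp
  have hχ₂X : χ₂ ∈ D.X := by rw [hXeq]; simp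
  have hnot : trivIrr G ∉ ({χ₁, χ₂} : Finset (IrrCharacter G)) := by
    simp only [Finset.mem_insert, Finset.mem_singleton, not_or]
    exact ⟨fun h => h1 h.symm, fun h => h2 h.symm⟩
  obtain ⟨m₁, hm₁⟩ := val_q2 D χ₁ hχ₁X x y hxP hx hyC hy
  obtain ⟨m₂, hm₂⟩ := val_q2 D χ₂ hχ₂X x y hxP hx hyC hy
  rw [hs₁, hd₁] at hm₁
  rw [hs₂, hd₂] at hm₂
  have b₁ := int_abs_le χ₁ y _ hm₁
  have n₁ := int_ne_irrDeg χ₁ (by rw [hd₁]; norm_num) y hy1 _ hm₁
  have b₂ := int_abs_le χ₂ y _ hm₂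
  have n₂ := int_ne_irrDeg χ₂ (by rw [hd₂]; norm_num) y hy1 _ hm₂
  rw [hd₁] at b₁ n₁
  rw [hd₂] at b₂ n₂
  have hm₁1 : m₁ = 1 := by
    have := abs_le.mp b₁
    push_cast at this n₁
    omega
  subst hm₁1
  have hm₂12 : m₂ = 1 ∨ m₂ = 2 := by
    have := abs_le.mp b₂
    push_cast at this n₂
    omega
  have h7y : ¬ 7 ∣ orderOf y := by rw [hy]; norm_num
  have hθy : ∀ θ ∈ D.Y, (θ : G → ℂ) y = ((14 * (m₂ : ℤ) - 32 : ℤ) : ℂ) := by
    intro θ hθ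
    have h := D.hreg θ hθ y h7y
    rw [hXeq, Finset.sum_insert hnot, Finset.sum_pair hne, heps, D.hsgtriv, hs₁, hs₂,
      trivIrr_apply, hm₁, hm₂] at h
    push_cast at h ⊢
    linear_combination h
  set idx := (centralizer ({y} : Set G)).index with hidx
  have hidxC : idx * Nat.card (centralizer ({y} : Set G)) = 5040 := by
    rw [← hcard]; exact Subgroup.index_mul_card _
  obtain ⟨θ₀, hθ₀⟩ : D.Y.Nonempty := Finset.card_pos.mp (by rw [hY2]; norm_num)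
  have i₁ := centralChar_int χ₁ y _ 8 (by norm_num) hm₁ hd₁
  have i₂ := centralChar_int χ₂ y _ 15 (by norm_num) hm₂ hd₂
  have i₃ := centralChar_int θ₀ y _ 24 (by norm_num) (hθy θ₀ hθ₀) (hY θ₀ hθ₀)
  rw [← hidx] at i₁ i₂ i₃
  -- second orthogonality
  have h2nd := sum_normSq_le (D.X ∪ D.Y) y
  rw [Finset.sum_union D.hdisj, hXeq, Finset.sum_insert hnot, Finset.sum_pair hne,
    Finset.sum_congr rfl (fun θ hθ => by rw [hθy θ hθ]), Finset.sum_const, hY2, trivIrr_apply,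
    hm₁, hm₂, Complex.normSq_one, Complex.normSq_intCast, Complex.normSq_intCast,
    Complex.normSq_intCast] at h2nd
  have h2nd' : (1 + (14 * 1 - 12 * 1 - 8 : ℤ) * (14 * 1 - 12 * 1 - 8) +
      (14 * (m₂ : ℤ) - 12 * 1 - 15) * (14 * (m₂ : ℤ) - 12 * 1 - 15) +
      2 * ((14 * (m₂ : ℤ) - 32) * (14 * (m₂ : ℤ) - 32)) : ℤ) ≤
      (Nat.card (centralizer ({y} : Set G)) : ℤ) := by
    have : ((1 + (14 * 1 - 12 * 1 - 8 : ℤ) * (14 * 1 - 12 * 1 - 8) +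
      (14 * (m₂ : ℤ) - 12 * 1 - 15) * (14 * (m₂ : ℤ) - 12 * 1 - 15) +
      2 * ((14 * (m₂ : ℤ) - 32) * (14 * (m₂ : ℤ) - 32)) : ℤ) : ℝ) ≤
      ((Nat.card (centralizer ({y} : Set G)) : ℤ) : ℝ) := by
      push_cast
      push_cast at h2nd
      simp only [nsmul_eq_mul] at h2nd
      push_cast at h2nd
      linarith
    exact_mod_cast this
  have h15 : (15 : ℤ) ∣ idx := by
    rcases hm₂12 with h | h <;> rw [h] at i₂ <;> omega
  have h4 : (4 : ℤ) ∣ idx := by omega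
  have h60 : 60 ∣ idx := by
    have : (60 : ℤ) ∣ idx := by omega
    exact_mod_cast this
  obtain ⟨k, hk⟩ := h60
  rw [hk] at hidxC
  generalize hc : Nat.card (centralizer ({y} : Set G)) = c at hidxC h2nd'
  rcases hm₂12 with h | h
  · rw [h] at h2nd'
    norm_num at h2nd'
    have hk0 : 0 < k := by
      rcases Nat.eq_zero_or_pos k with h0 | h0
      · rw [h0] at hidxC; omega
      · exact h0
    have : (c : ℤ) ≤ 84 := by
      have : 60 * k * c = 5040 := hidxC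
      have hc84 : c ≤ 84 := by nlinarith
      exact_mod_cast hc84
    omega
  · rw [h] at h2nd'
    norm_num at h2nd'
    have hk0 : 0 < k := by
      rcases Nat.eq_zero_or_pos k with h0 | h0
      · rw [h0] at hidxC; omega
      · exact h0
    have hc70 : 70 ≤ c := by exact_mod_cast h2nd'
    have hk1 : k = 1 := by nlinarith
    subst hk1
    have hc84 : c = 84 := by omega
    subst hc84
    -- Sylow counting in `C(y)`
    have hPle : (P : Subgroup G) ≤ centralizer ({y} : Set G) := by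
      intro g hg
      rw [mem_centralizer_iff]
      intro z hz
      rw [Set.mem_singleton_iff] at hz
      subst hz
      exact ((Subgroup.mem_centralizer_iff.mp hyC) g hg).symm
    obtain ⟨k, hk7, hk⟩ := Cfsg.Agent.Helper15.NoSimp.sylow_count_inf_normalizer P _ hPle
    rw [hc] at hk
    have hdvd : Nat.card ↥(centralizer ({y} : Set G) ⊓ normalizer ((P : Subgroup G) : Set G)) ∣ 42 := by
      rw [← hN]
      exact Subgroup.card_dvd_of_le inf_le_right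
    generalize Nat.card ↥(centralizer ({y} : Set G) ⊓ normalizer ((P : Subgroup G) : Set G)) = n
      at hk hdvd
    have hn : n ∈ Nat.divisors 42 := Nat.mem_divisors.mpr ⟨hdvd, by norm_num⟩
    have hdiv : Nat.divisors 42 = {1, 2, 3, 6, 7, 14, 21, 42} := by decide +kernel
    rw [hdiv] at hn
    simp only [Finset.mem_insert, Finset.mem_singleton] at hn
    rcases hn with rfl | rfl | rfl | rfl | rfl | rfl | rfl | rfl <;> omega

/-- The pattern `(15, 20; 4)`. -/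
theorem e3_core_B [DecidableEq (IrrCharacter G)] (P : Sylow 7 G) (D : BData 7 P 3)
    (χ₁ χ₂ : IrrCharacter G) (h1 : χ₁ ≠ trivIrr G) (h2 : χ₂ ≠ trivIrr G) (hne : χ₁ ≠ χ₂)
    (hXeq : D.X = {trivIrr G, χ₁, χ₂}) (hY : ∀ θ ∈ D.Y, irrDeg θ = 4) (hY2 : D.Y.card = 2)
    (hd₁ : irrDeg χ₁ = 15) (hs₁ : D.sg χ₁ = 1) (hd₂ : irrDeg χ₂ = 20) (hs₂ : D.sg χ₂ = -1)
    (heps : D.eps = -1) (x y : G) (hxP : x ∈ (P : Subgroup G)) (hx : orderOf x = 7)
    (hyC : y ∈ centralizer ((P : Subgroup G) : Set G)) (hy : orderOf y = 2) : False := by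
  classical
  have hy1 : y ≠ 1 := by intro h; rw [h, orderOf_one] at hy; omega
  have hχ₁X : χ₁ ∈ D.X := by rw [hXeq]; simp
  have hχ₂X : χ₂ ∈ D.X := by rw [hXeq]; simp
  have hnot : trivIrr G ∉ ({χ₁, χ₂} : Finset (IrrCharacter G)) := by
    simp only [Finset.mem_insert, Finset.mem_singleton, not_or]
    exact ⟨fun h => h1 h.symm, fun h => h2 h.symm⟩
  obtain ⟨m₁, hm₁⟩ := val_q2 D χ₁ hχ₁X x y hxP hx hyC hy
  obtain ⟨m₂, hm₂⟩ := val_q2 D χ₂ hχ₂X x y hxP hx hyC hy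
  rw [hs₁, hd₁] at hm₁
  rw [hs₂, hd₂] at hm₂
  have h7y : ¬ 7 ∣ orderOf y := by rw [hy]; norm_num
  obtain ⟨θ, hθ⟩ : D.Y.Nonempty := Finset.card_pos.mp (by rw [hY2]; norm_num)
  have hθy : (θ : G → ℂ) y = ((18 - 14 * (m₁ : ℤ) + 14 * (m₂ : ℤ) : ℤ) : ℂ) := by
    have h := D.hreg θ hθ y h7y
    rw [hXeq, Finset.sum_insert hnot, Finset.sum_pair hne, heps, D.hsgtriv, hs₁, hs₂,
      trivIrr_apply, hm₁, hm₂] at h
    push_cast at h ⊢
    linear_combination (-1 : ℂ) * h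
  have b := int_abs_le θ y _ hθy
  have n := int_ne_irrDeg θ (by rw [hY θ hθ]; norm_num) y hy1 _ hθy
  rw [hY θ hθ] at b n
  have := abs_le.mp b
  push_cast at this n
  omega

/-- The case `e = 3`. -/
theorem case_e3 (hcard : Nat.card G = 5040) (P : Sylow 7 G)
    (hP : Nat.card (P : Subgroup G) = 7)
    (he : (centralizer ((P : Subgroup G) : Set G)).relIndex
      (normalizer ((P : Subgroup G) : Set G)) = 3)
    (hC : Nat.card (centralizer ((P : Subgroup G) : Set G)) = 14)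
    (hN : Nat.card (normalizer ((P : Subgroup G) : Set G)) = 42) : False := by
  classical
  have : Fintype (IrrCharacter G) := Fintype.ofFinite _
  obtain ⟨D⟩ := exists_bdata (perfect hcard) 7 (by norm_num) P hP 3 he (by norm_num)
  obtain ⟨χ₁, χ₂, d, h1, h2, hne, hXeq, hY, hY2, hE⟩ := e3_data hcard P D
  have : Fact (Nat.Prime 2) := ⟨by norm_num⟩
  obtain ⟨y, hyC, hy⟩ := Cfsg.Agent.Helper15.O4032.exists_centralizer_orderOf P 2
    (by rw [hC]; norm_num)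
  obtain ⟨x, hxP, hx⟩ := Cfsg.Agent.Helper15.O4032.exists_gen P hP
  have hχ₁X : χ₁ ∈ D.X := by rw [hXeq]; simp
  have hχ₂X : χ₂ ∈ D.X := by rw [hXeq]; simp
  have hXeq' : D.X = {trivIrr G, χ₂, χ₁} := by rw [hXeq, Finset.pair_comm]
  unfold E3 at hE
  rcases hE with ⟨h6, hs⟩ | ⟨h6, hs⟩ | ⟨a1, a2, a3, a4, a5, a6⟩ | ⟨a1, a2, a3, a4, a5, a6⟩ |
    ⟨a1, a2, a3⟩ | ⟨a1, a2, a3⟩ | ⟨a1, a2, a3, a4, a5, a6⟩ | ⟨a1, a2, a3, a4, a5, a6⟩
  · exact Cfsg.Agent.Helper15.O4032.kill_minus P hP D χ₁ hχ₁X h6 hs y hyC 2 (by norm_num)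
      (by norm_num) hy
  · exact Cfsg.Agent.Helper15.O4032.kill_minus P hP D χ₂ hχ₂X h6 hs y hyC 2 (by norm_num)
      (by norm_num) hy
  · subst a5
    exact e3_core_A hcard P hN D χ₁ χ₂ h1 h2 hne hXeq hY hY2 a1 a2 a3 a4 a6 x y hxP hx hyC hy
  · subst a5
    exact e3_core_A hcard P hN D χ₂ χ₁ h2 h1 hne.symm hXeq' hY hY2 a3 a4 a1 a2 a6 x y hxP hx hyC hy
  · -- sum of squares
    have hnot : trivIrr G ∉ ({χ₁, χ₂} : Finset (IrrCharacter G)) := by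
      simp only [Finset.mem_insert, Finset.mem_singleton, not_or]
      exact ⟨fun h => h1 h.symm, fun h => h2 h.symm⟩
    have h := sum_irrDeg_sq_le hcard (D.X ∪ D.Y)
    rw [Finset.sum_union D.hdisj, hXeq, Finset.sum_insert hnot, Finset.sum_pair hne,
      Finset.sum_congr rfl (fun θ hθ => by rw [hY θ hθ]), Finset.sum_const, hY2, a1, a2, a3] at h
    norm_num at h
    omega
  · have hnot : trivIrr G ∉ ({χ₁, χ₂} : Finset (IrrCharacter G)) := by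
      simp only [Finset.mem_insert, Finset.mem_singleton, not_or]
      exact ⟨fun h => h1 h.symm, fun h => h2 h.symm⟩
    have h := sum_irrDeg_sq_le hcard (D.X ∪ D.Y)
    rw [Finset.sum_union D.hdisj, hXeq, Finset.sum_insert hnot, Finset.sum_pair hne,
      Finset.sum_congr rfl (fun θ hθ => by rw [hY θ hθ]), Finset.sum_const, hY2, a1, a2, a3] at h
    norm_num at h
    omega
  · subst a5
    exact e3_core_B P D χ₁ χ₂ h1 h2 hne hXeq hY hY2 a1 a2 a3 a4 a6 x y hxP hx hyC hy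
  · subst a5
    exact e3_core_B P D χ₂ χ₁ h2 h1 hne.symm hXeq' hY hY2 a3 a4 a1 a2 a6 x y hxP hx hyC hy

end Cfsg.Agent.Helper21.O5040
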