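import Mathlib
import Cfsg.Agent.Helper21.O5040b
import Cfsg.Agent.Helper21.BrTw
import Cfsg.Agent.Helper21.InvCent

set_option autoImplicit false
set_option linter.unusedSectionVars false
set_option maxHeartbeats 1000000

/-!
No simple group of order 5040: generic lemmas for the case `e = 2`.
-/

namespace Cfsg.Agent.Helper21.O5040

open Cfsg Cfsg.Agent.Helper24 Cfsg.Agent.Helper5 Cfsg.Agent.Helper5.CC Subgroup
  Cfsg.Agent.Helper15.BrP Cfsg.Agent.Helper21.BrRat Cfsg.Agent.Helper21.BrTw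

variable {G : Type*} [Group G] [Finite G] [IsSimpleGroup G]

/-- Integrality of the central character: sums of two norms. -/
theorem centralChar_normSq_int₂ (χ : IrrCharacter G) (y y' : G)
    (hidx : (centralizer ({y'} : Set G)).index = (centralizer ({y} : Set G)).index)
    (N : ℤ) (b : ℕ) (hb : b ≠ 0)
    (hN : Complex.normSq ((χ : G → ℂ) y) + Complex.normSq ((χ : G → ℂ) y') = (N : ℝ))
    (hdeg : irrDeg χ = b) :
    (b : ℤ) ^ 2 ∣ ((centralizer ({y} : Set G)).index : ℤ) ^ 2 * N := by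
  have h1 := isIntegral_centralChar χ y
  have h2 := isIntegral_centralChar χ y'
  have h1' := map_isIntegral_int (starRingEnd ℂ) h1
  have h2' := map_isIntegral_int (starRingEnd ℂ) h2
  have h3 := (h1.mul h1').add (h2.mul h2')
  rw [centralChar_def, centralChar_def, hidx, irrDeg_spec, hdeg] at h3
  set idx := (centralizer ({y} : Set G)).index with hidx'
  have hbC : (b : ℂ) ≠ 0 := by exact_mod_cast hb
  have hNC : ((Complex.normSq ((χ : G → ℂ) y) : ℝ) : ℂ) + ((Complex.normSq ((χ : G → ℂ) y') : ℝ) : ℂ) =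
      (N : ℂ) := by
    rw [← Complex.ofReal_add, hN]
    norm_cast
  have h4 : (idx : ℂ) * (χ : G → ℂ) y / (b : ℂ) *
      (starRingEnd ℂ) ((idx : ℂ) * (χ : G → ℂ) y / (b : ℂ)) +
      (idx : ℂ) * (χ : G → ℂ) y' / (b : ℂ) *
      (starRingEnd ℂ) ((idx : ℂ) * (χ : G → ℂ) y' / (b : ℂ)) =
      (((((idx : ℤ) ^ 2 * N : ℤ) : ℚ) / ((b : ℚ) ^ 2) : ℚ) : ℂ) := by
    rw [map_div₀, map_div₀, map_mul, map_mul, Complex.conj_natCast, Complex.conj_natCast]
    push_cast
    rw [← hNC, ← Complex.mul_conj, ← Complex.mul_conj]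
    field_simp
  rw [h4] at h3
  obtain ⟨m, hm⟩ := exists_int_of_isIntegral_ratCast h3
  refine ⟨m, ?_⟩
  have hb' : ((b : ℚ) ^ 2) ≠ 0 := by
    have : (b : ℚ) ≠ 0 := by exact_mod_cast hb
    positivity
  rw [div_eq_iff hb'] at hm
  have : (((idx : ℤ) ^ 2 * N : ℤ) : ℚ) = (((b : ℤ) ^ 2 * m : ℤ) : ℚ) := by
    rw [hm]; push_cast; ring
  exact_mod_cast this

/-- The value hypothesis needed for the twisted sums. -/
theorem hval_pow {e : ℕ} {P : Sylow 7 G} (D : BData 7 P e) (χ : IrrCharacter G) (hχ : χ ∈ D.X)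
    (x z : G) (hxP : x ∈ (P : Subgroup G)) (hx : orderOf x = 7)
    (hzC : z ∈ centralizer ((P : Subgroup G) : Set G)) (q : ℕ) (hz : orderOf z = q)
    (hq7 : ¬ 7 ∣ q) (a b : ℕ) (ha : ¬ 7 ∣ a) :
    (χ : G → ℂ) (x ^ a * z ^ b) = ((D.sg χ : ℤ) : ℂ) := by
  apply D.hval χ hχ (x ^ a) (Subgroup.pow_mem _ hxP a)
  · intro h
    apply ha
    rw [← hx]
    exact orderOf_dvd_of_pow_eq_one h
  · exact Subgroup.pow_mem _ hzC b
  · intro h
    apply hq7
    have h1 : orderOf (z ^ b) ∣ orderOf z := orderOf_pow_dvd b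
    rw [hz] at h1
    exact h.trans h1

/-- The multiplicities of the restriction of `χ ∈ X` to `⟨z⟩`, `z ∈ C(P)` of order `q`. -/
theorem exists_mult_X {e : ℕ} {P : Sylow 7 G} (D : BData 7 P e) (χ : IrrCharacter G)
    (hχ : χ ∈ D.X) (x z : G) (hxP : x ∈ (P : Subgroup G)) (hx : orderOf x = 7)
    (hzC : z ∈ centralizer ((P : Subgroup G) : Set G)) (q : ℕ) (hz : orderOf z = q)
    (hq : q.Prime) (hq7 : q ≠ 7) (ζ : ℂ) (hζ : IsPrimitiveRoot ζ q) :
    ∃ M : ℕ → ℕ, ∀ i < q, (χ : G → ℂ) (z ^ i) =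
      ((D.sg χ : ℤ) : ℂ) + (7 : ℂ) * ∑ k ∈ Finset.range q, (M k : ℂ) * ζ ^ (k * i) := by
  have h7q : ¬ 7 ∣ q := fun h => hq7 ((Nat.prime_dvd_prime_iff_eq (by norm_num) hq).mp h).symm
  have hcop : Nat.Coprime 7 q := (Nat.Prime.coprime_iff_not_dvd (by norm_num)).mpr h7q
  have hc : Commute x z := (Subgroup.mem_centralizer_iff.mp hzC) x hxP
  have := exists_mult (IsIrrCharacter.isCharacter χ.2) ((D.sg χ : ℤ) : ℂ) 7 q (by norm_num)
    hq.one_lt hcop x z hx hz hc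
    (fun a b ha => hval_pow D χ hχ x z hxP hx hzC q hz h7q a b ha) ζ hζ
  simpa using this

/-- A function `ℕ → ℕ` with sum one on `range q` is an indicator. -/
theorem exists_eq_indicator (M : ℕ → ℕ) (q : ℕ) (h : ∑ k ∈ Finset.range q, M k = 1) :
    ∃ k₀ < q, ∀ k < q, M k = if k = k₀ then 1 else 0 := by
  have hex : ∃ k₀ ∈ Finset.range q, M k₀ ≠ 0 := by
    by_contra hcon
    push Not at hcon
    rw [Finset.sum_eq_zero hcon] at h
    omega
  obtain ⟨k₀, hk₀, hne⟩ := hex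
  refine ⟨k₀, Finset.mem_range.mp hk₀, ?_⟩
  have h1 := Finset.add_sum_erase (Finset.range q) M hk₀
  rw [h] at h1
  have h2 : M k₀ = 1 := by omega
  have h3 : ∑ k ∈ (Finset.range q).erase k₀, M k = 0 := by omega
  intro k hk
  by_cases hkk : k = k₀
  · rw [if_pos hkk, hkk, h2]
  · rw [if_neg hkk]
    exact (Finset.sum_eq_zero_iff.mp h3) k (Finset.mem_erase.mpr ⟨hkk, Finset.mem_range.mpr hk⟩)

/-- Complex conjugate of a root of unity. -/
theorem conj_eq_pow (η : ℂ) (q : ℕ) (hq : 0 < q) (hη : η ^ q = 1) :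
    (starRingEnd ℂ) η = η ^ (q - 1) := by
  have hη0 : η ≠ 0 := by
    intro h
    rw [h, zero_pow hq.ne'] at hη
    exact zero_ne_one hη
  have h1 : ‖η‖ = 1 := Complex.norm_eq_one_of_pow_eq_one hη hq.ne'
  have h2 : η * (starRingEnd ℂ) η = 1 := by
    rw [Complex.mul_conj, Complex.normSq_eq_norm_sq, h1]; norm_num
  have h3 : η * η ^ (q - 1) = 1 := by
    rw [← pow_succ', Nat.sub_add_cancel hq, hη]
  exact mul_left_cancel₀ hη0 (h2.trans h3.symm)

/-- Norms of elements of `ℤ[η]`, `η` a primitive cube root of unity. -/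
theorem normSq_cube (η : ℂ) (hη : IsPrimitiveRoot η 3) (a b : ℤ) :
    Complex.normSq ((a : ℂ) + (b : ℂ) * η) = ((a ^ 2 - a * b + b ^ 2 : ℤ) : ℝ) := by
  have h1 : η ^ 3 = 1 := hη.pow_eq_one
  have h2 : 1 + η + η ^ 2 = 0 := by
    have := hη.geom_sum_eq_zero (by norm_num)
    rw [Finset.sum_range_succ, Finset.sum_range_succ, Finset.sum_range_one] at this
    rw [← this]; ring
  have hc := conj_eq_pow η 3 (by norm_num) h1
  have h3 : ((Complex.normSq ((a : ℂ) + (b : ℂ) * η) : ℝ) : ℂ) =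
      (((a ^ 2 - a * b + b ^ 2 : ℤ) : ℝ) : ℂ) := by
    rw [← Complex.mul_conj, map_add, map_mul, map_intCast, map_intCast, hc]
    push_cast
    linear_combination ((a : ℂ) * b) * h2 + ((b : ℂ) ^ 2) * h1
  exact_mod_cast h3

/-- Norms of elements of `ℤ[η]`, `η` a primitive fifth root of unity: sums over `η, η²`. -/
theorem normSq_fifth (η : ℂ) (hη : IsPrimitiveRoot η 5) (a b : ℤ) :
    Complex.normSq ((a : ℂ) + (b : ℂ) * η) + Complex.normSq ((a : ℂ) + (b : ℂ) * η ^ 2) =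
      ((2 * a ^ 2 - a * b + 2 * b ^ 2 : ℤ) : ℝ) := by
  have h1 : η ^ 5 = 1 := hη.pow_eq_one
  have h2 : 1 + η + η ^ 2 + η ^ 3 + η ^ 4 = 0 := by
    have := hη.geom_sum_eq_zero (by norm_num)
    rw [Finset.sum_range_succ, Finset.sum_range_succ, Finset.sum_range_succ,
      Finset.sum_range_succ, Finset.sum_range_one] at this
    rw [← this]; ring
  have hc := conj_eq_pow η 5 (by norm_num) h1
  have h3 : ((Complex.normSq ((a : ℂ) + (b : ℂ) * η) +
      Complex.normSq ((a : ℂ) + (b : ℂ) * η ^ 2) : ℝ) : ℂ) =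
      (((2 * a ^ 2 - a * b + 2 * b ^ 2 : ℤ) : ℝ) : ℂ) := by
    rw [Complex.ofReal_add, ← Complex.mul_conj, ← Complex.mul_conj, map_add, map_add, map_mul,
      map_mul, map_pow, map_intCast, map_intCast, hc]
    push_cast
    linear_combination ((a : ℂ) * b) * h2 + ((a : ℂ) * b * η ^ 3 + (b : ℂ) ^ 2 * (2 + η ^ 5)) * h1
  exact_mod_cast h3

end Cfsg.Agent.Helper21.O5040
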