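import Mathlib
import Cfsg.Agent.Helper21.O5040d

set_option autoImplicit false
set_option linter.unusedSectionVars false
set_option maxHeartbeats 1000000

/-!
No simple group of order 5040: the case `e = 2` (`|C(P)| = 70` or `21`).
-/

namespace Cfsg.Agent.Helper21.O5040

open Cfsg Cfsg.Agent.Helper24 Cfsg.Agent.Helper5 Cfsg.Agent.Helper5.CC Subgroup
  Cfsg.Agent.Helper15.BrP Cfsg.Agent.Helper21.BrRat Cfsg.Agent.Helper21.BrTw

variable {G : Type*} [Group G] [Finite G] [IsSimpleGroup G]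

/-- The shape of the principal block for `e = 2`. -/
theorem e2_data [DecidableEq (IrrCharacter G)] (hcard : Nat.card G = 5040) (P : Sylow 7 G)
    (D : BData 7 P 2) :
    ∃ (χ : IrrCharacter G) (d : ℕ), χ ≠ trivIrr G ∧ D.X = {trivIrr G, χ} ∧
      (∀ θ ∈ D.Y, irrDeg θ = d) ∧ D.Y.card = 3 ∧
      ((irrDeg χ = 6 ∧ D.sg χ = -1) ∨ (irrDeg χ = 8 ∧ d = 9 ∧ D.sg χ = 1 ∧ D.eps = 1) ∨
        (irrDeg χ = 15 ∧ d = 16 ∧ D.sg χ = 1 ∧ D.eps = 1)) := by
  classical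
  have hX' : (D.X.erase (trivIrr G)).card = 1 := by
    rw [Finset.card_erase_of_mem D.htriv, D.hX]
  obtain ⟨χ, hX1⟩ := Finset.card_eq_one.mp hX'
  have hχ : χ ∈ D.X.erase (trivIrr G) := by rw [hX1]; simp
  rw [Finset.mem_erase] at hχ
  have hXeq : D.X = {trivIrr G, χ} := by
    rw [← Finset.insert_erase D.htriv, hX1]
  have hYne : D.Y.Nonempty := Finset.card_pos.mp (by rw [D.hY]; norm_num)
  obtain ⟨θ₀, hθ₀⟩ := hYne
  have hd1 : irrDeg (trivIrr G) = 1 := by rw [irrDeg_eq_one_iff]; rfl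
  have hsum : ∀ θ ∈ D.Y, D.eps * (irrDeg θ : ℤ) = 1 + D.sg χ * (irrDeg χ : ℤ) := by
    intro θ hθ
    have heq := D.deg_eq θ hθ
    rw [← Finset.add_sum_erase _ _ D.htriv, hX1, Finset.sum_singleton, D.hsgtriv, hd1] at heq
    rw [heq]; push_cast; ring
  refine ⟨χ, irrDeg θ₀, hχ.1, hXeq, ?_, by rw [D.hY], ?_⟩
  · intro θ hθ
    have h1 := hsum θ hθ
    have h2 := hsum θ₀ hθ₀
    have h3 : D.eps * (irrDeg θ : ℤ) = D.eps * (irrDeg θ₀ : ℤ) := by rw [h1, h2]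
    rcases D.heps with h | h <;> rw [h] at h3 <;> omega
  · exact arith_e2 (irrDeg χ) (irrDeg θ₀) (D.sg χ) D.eps (D.hsg χ hχ.2) D.heps
      (irrDeg_dvd hcard χ) (irrDeg_dvd hcard θ₀) (irrDeg_ne_one hcard χ hχ.1)
      (D.hdegX χ hχ.2) (D.hdegY θ₀ hθ₀) (hsum θ₀ hθ₀)

/-- The arithmetic constraints coming from integrality and the second orthogonality relation at
two elements `y, y'` with the same centralizer index. -/
theorem e2_end [Fintype (IrrCharacter G)] [DecidableEq (IrrCharacter G)]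
    (hcard : Nat.card G = 5040) {P : Sylow 7 G} (D : BData 7 P 2) (χ : IrrCharacter G)
    (hne : χ ≠ trivIrr G) (hXeq : D.X = {trivIrr G, χ}) (hY3 : D.Y.card = 3) (c d : ℕ)
    (hc0 : c ≠ 0) (hd0 : d ≠ 0) (hc : irrDeg χ = c) (hd : ∀ θ ∈ D.Y, irrDeg θ = d) (y y' : G)
    (hidx : (centralizer ({y'} : Set G)).index = (centralizer ({y} : Set G)).index)
    (N₁ N₂ : ℤ)
    (h₁ : Complex.normSq ((χ : G → ℂ) y) + Complex.normSq ((χ : G → ℂ) y') = (N₁ : ℝ))
    (h₂ : ∀ θ ∈ D.Y, Complex.normSq ((θ : G → ℂ) y) + Complex.normSq ((θ : G → ℂ) y') = (N₂ : ℝ)) :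
    (centralizer ({y} : Set G)).index ∈ Nat.divisors 5040 ∧
      EndBad c d N₁ N₂ (centralizer ({y} : Set G)).index := by
  unfold EndBad
  set idx := (centralizer ({y} : Set G)).index with hidx'
  have hidxC : idx * Nat.card (centralizer ({y} : Set G)) = 5040 := by
    rw [← hcard]; exact Subgroup.index_mul_card _
  have hidxC' : idx * Nat.card (centralizer ({y'} : Set G)) = 5040 := by
    rw [← hcard, ← hidx]; exact Subgroup.index_mul_card _
  obtain ⟨θ₀, hθ₀⟩ : D.Y.Nonempty := Finset.card_pos.mp (by rw [hY3]; norm_num)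
  refine ⟨Nat.mem_divisors.mpr ⟨Dvd.intro _ hidxC, by norm_num⟩,
    centralChar_normSq_int₂ χ y y' hidx N₁ c hc0 h₁ hc,
    centralChar_normSq_int₂ θ₀ y y' hidx N₂ d hd0 (h₂ θ₀ hθ₀) (hd θ₀ hθ₀), ?_⟩
  have hnot : trivIrr G ∉ ({χ} : Finset (IrrCharacter G)) := by
    rw [Finset.mem_singleton]; exact fun h => hne h.symm
  have s1 := sum_normSq_le (D.X ∪ D.Y) y
  have s2 := sum_normSq_le (D.X ∪ D.Y) y'
  have s3 := add_le_add s1 s2
  rw [← Finset.sum_add_distrib, Finset.sum_union D.hdisj, hXeq, Finset.sum_insert hnot,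
    Finset.sum_singleton, Finset.sum_congr rfl (fun θ hθ => h₂ θ hθ), Finset.sum_const, hY3,
    trivIrr_apply, trivIrr_apply, Complex.normSq_one, h₁] at s3
  have s4 : ((2 + N₁ + 3 * N₂ : ℤ) : ℝ) ≤
      ((Nat.card (centralizer ({y} : Set G)) + Nat.card (centralizer ({y'} : Set G)) : ℕ) : ℝ) := by
    push_cast
    simp only [nsmul_eq_mul] at s3
    push_cast at s3
    linarith
  have s5 : (2 + N₁ + 3 * N₂ : ℤ) ≤
      ((Nat.card (centralizer ({y} : Set G)) + Nat.card (centralizer ({y'} : Set G)) : ℕ) : ℤ) := by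
    exact_mod_cast s4
  have hidx0 : (0 : ℤ) ≤ idx := by positivity
  have s6 := mul_le_mul_of_nonneg_left s5 hidx0
  have s7 : (idx : ℤ) * ((Nat.card (centralizer ({y} : Set G)) +
      Nat.card (centralizer ({y'} : Set G)) : ℕ) : ℤ) = 10080 := by
    have : idx * (Nat.card (centralizer ({y} : Set G)) +
      Nat.card (centralizer ({y'} : Set G))) = 10080 := by
      rw [mul_add, hidxC, hidxC']
    exact_mod_cast this
  rw [s7] at s6
  exact s6

/-- Centralizers of powers. -/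
theorem centralizer_pow_eq (y : G) (k m : ℕ) (h : (y ^ k) ^ m = y) :
    centralizer ({y ^ k} : Set G) = centralizer ({y} : Set G) := by
  have key : ∀ (u : G) (n : ℕ), centralizer ({u} : Set G) ≤ centralizer ({u ^ n} : Set G) := by
    intro u n g hg
    rw [mem_centralizer_iff] at hg ⊢
    intro w hw
    rw [Set.mem_singleton_iff] at hw
    subst hw
    have h1 : Commute u g := hg u rfl
    exact (h1.pow_left n).eq
  apply le_antisymm
  · have := key (y ^ k) m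
    rwa [h] at this
  · exact key y k

/-- Finishing the case `e = 2` at an element of order `3`. -/
theorem e2_fin_q3 [Fintype (IrrCharacter G)] [DecidableEq (IrrCharacter G)]
    (hcard : Nat.card G = 5040) {P : Sylow 7 G} (D : BData 7 P 2) (χ : IrrCharacter G)
    (hne : χ ≠ trivIrr G) (hXeq : D.X = {trivIrr G, χ}) (hY3 : D.Y.card = 3) (c d : ℕ)
    (hc0 : c ≠ 0) (hd0 : d ≠ 0) (hc : irrDeg χ = c) (hd : ∀ θ ∈ D.Y, irrDeg θ = d)
    (hs : D.sg χ = 1) (heps : D.eps = 1) (y : G) (h7y : ¬ 7 ∣ orderOf y) (η : ℂ)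
    (hη : IsPrimitiveRoot η 3) (a b : ℤ) (hχy : (χ : G → ℂ) y = (a : ℂ) + (b : ℂ) * η) :
    (centralizer ({y} : Set G)).index ∈ Nat.divisors 5040 ∧
      EndBad c d (2 * (a ^ 2 - a * b + b ^ 2)) (2 * ((a + 1) ^ 2 - (a + 1) * b + b ^ 2))
        (centralizer ({y} : Set G)).index := by
  have hnot : trivIrr G ∉ ({χ} : Finset (IrrCharacter G)) := by
    rw [Finset.mem_singleton]; exact fun h => hne h.symm
  have hθy : ∀ θ ∈ D.Y, (θ : G → ℂ) y = ((a + 1 : ℤ) : ℂ) + (b : ℂ) * η := by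
    intro θ hθ
    have h := D.hreg θ hθ y h7y
    rw [hXeq, Finset.sum_insert hnot, Finset.sum_singleton, heps, D.hsgtriv, hs,
      trivIrr_apply, hχy] at h
    push_cast at h ⊢
    linear_combination h
  refine e2_end hcard D χ hne hXeq hY3 c d hc0 hd0 hc hd y y rfl _ _ ?_ ?_
  · rw [hχy, normSq_cube η hη a b]
    push_cast
    ring
  · intro θ hθ
    rw [hθy θ hθ, normSq_cube η hη (a + 1) b]
    push_cast
    ring

/-- A primitive cube root of unity. -/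
noncomputable def zeta3 : ℂ := Complex.exp (2 * Real.pi * Complex.I / (3 : ℕ))

theorem zeta3_prim : IsPrimitiveRoot zeta3 3 := Complex.isPrimitiveRoot_exp 3 (by norm_num)

/-- The values of `χ ∈ X` at an element of order `3` of `C(P)`. -/
theorem q3_values {e : ℕ} {P : Sylow 7 G} (D : BData 7 P e) (χ : IrrCharacter G) (hχ : χ ∈ D.X)
    (x y : G) (hxP : x ∈ (P : Subgroup G)) (hx : orderOf x = 7)
    (hyC : y ∈ centralizer ((P : Subgroup G) : Set G)) (hy : orderOf y = 3) :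
    ∃ M₀ M₁ M₂ : ℕ, (irrDeg χ : ℤ) = D.sg χ + 7 * ((M₀ : ℤ) + M₁ + M₂) ∧
      (χ : G → ℂ) y = ((D.sg χ : ℤ) : ℂ) +
        7 * ((M₀ : ℂ) + (M₁ : ℂ) * zeta3 + (M₂ : ℂ) * zeta3 ^ 2) := by
  obtain ⟨M, hM⟩ := exists_mult_X D χ hχ x y hxP hx hyC 3 hy (by norm_num) (by norm_num)
    zeta3 zeta3_prim
  refine ⟨M 0, M 1, M 2, ?_, ?_⟩
  · have h0 := hM 0 (by norm_num)
    rw [pow_zero, irrDeg_spec, Finset.sum_range_succ, Finset.sum_range_succ,
      Finset.sum_range_one] at h0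
    simp only [mul_zero, pow_zero, mul_one] at h0
    have : ((irrDeg χ : ℤ) : ℂ) = ((D.sg χ + 7 * ((M 0 : ℤ) + M 1 + M 2) : ℤ) : ℂ) := by
      push_cast
      rw [h0]
    exact_mod_cast this
  · have h1 := hM 1 (by norm_num)
    rw [pow_one, Finset.sum_range_succ, Finset.sum_range_succ, Finset.sum_range_one] at h1
    simp only [mul_one, pow_zero, pow_one] at h1
    rw [h1]

/-- The pattern `(8; 9, 9, 9)` at an element of order `3`. -/
theorem e2_kill_8_q3 [Fintype (IrrCharacter G)] [DecidableEq (IrrCharacter G)]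
    (hcard : Nat.card G = 5040) {P : Sylow 7 G} (D : BData 7 P 2) (χ : IrrCharacter G)
    (hne : χ ≠ trivIrr G) (hXeq : D.X = {trivIrr G, χ}) (hY3 : D.Y.card = 3)
    (hc : irrDeg χ = 8) (hd : ∀ θ ∈ D.Y, irrDeg θ = 9)
    (hs : D.sg χ = 1) (heps : D.eps = 1) (x y : G) (hxP : x ∈ (P : Subgroup G))
    (hx : orderOf x = 7) (hyC : y ∈ centralizer ((P : Subgroup G) : Set G))
    (hy : orderOf y = 3) : False := by
  have hχX : χ ∈ D.X := by rw [hXeq]; simp
  have hy1 : y ≠ 1 := by intro h; rw [h, orderOf_one] at hy; omega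
  have h7y : ¬ 7 ∣ orderOf y := by rw [hy]; norm_num
  obtain ⟨M₀, M₁, M₂, h0, h1⟩ := q3_values D χ hχX x y hxP hx hyC hy
  rw [hs, hc] at h0
  rw [hs] at h1
  have hη2 : IsPrimitiveRoot (zeta3 ^ 2) 3 := zeta3_prim.pow_of_coprime 2 (by norm_num)
  have hcases : (M₀ = 1 ∧ M₁ = 0 ∧ M₂ = 0) ∨ (M₀ = 0 ∧ M₁ = 1 ∧ M₂ = 0) ∨
      (M₀ = 0 ∧ M₁ = 0 ∧ M₂ = 1) := by omega
  rcases hcases with ⟨r0, r1, r2⟩ | ⟨r0, r1, r2⟩ | ⟨r0, r1, r2⟩
  · rw [r0, r1, r2] at h1
    have h2 : (χ : G → ℂ) y = ((8 : ℤ) : ℂ) := by rw [h1]; push_cast; ring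
    exact int_ne_irrDeg χ (by rw [hc]; norm_num) y hy1 8 h2 (by rw [hc]; norm_num)
  · rw [r0, r1, r2] at h1
    have h2 : (χ : G → ℂ) y = ((1 : ℤ) : ℂ) + ((7 : ℤ) : ℂ) * zeta3 := by
      rw [h1]; push_cast; ring
    obtain ⟨hi, hb⟩ := e2_fin_q3 hcard D χ hne hXeq hY3 8 9 (by norm_num) (by norm_num) hc hd hs
      heps y h7y zeta3 zeta3_prim 1 7 h2
    exact end_8_q3 _ hi hb
  · rw [r0, r1, r2] at h1
    have h2 : (χ : G → ℂ) y = ((1 : ℤ) : ℂ) + ((7 : ℤ) : ℂ) * zeta3 ^ 2 := by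
      rw [h1]; push_cast; ring
    obtain ⟨hi, hb⟩ := e2_fin_q3 hcard D χ hne hXeq hY3 8 9 (by norm_num) (by norm_num) hc hd hs
      heps y h7y (zeta3 ^ 2) hη2 1 7 h2
    exact end_8_q3 _ hi hb

/-- The pattern `(15; 16, 16, 16)` at an element of order `3`. -/
theorem e2_kill_15_q3 [Fintype (IrrCharacter G)] [DecidableEq (IrrCharacter G)]
    (hcard : Nat.card G = 5040) {P : Sylow 7 G} (D : BData 7 P 2) (χ : IrrCharacter G)
    (hne : χ ≠ trivIrr G) (hXeq : D.X = {trivIrr G, χ}) (hY3 : D.Y.card = 3)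
    (hc : irrDeg χ = 15) (hd : ∀ θ ∈ D.Y, irrDeg θ = 16)
    (hs : D.sg χ = 1) (heps : D.eps = 1) (x y : G) (hxP : x ∈ (P : Subgroup G))
    (hx : orderOf x = 7) (hyC : y ∈ centralizer ((P : Subgroup G) : Set G))
    (hy : orderOf y = 3) : False := by
  have hχX : χ ∈ D.X := by rw [hXeq]; simp
  have hy1 : y ≠ 1 := by intro h; rw [h, orderOf_one] at hy; omega
  have h7y : ¬ 7 ∣ orderOf y := by rw [hy]; norm_num
  obtain ⟨M₀, M₁, M₂, h0, h1⟩ := q3_values D χ hχX x y hxP hx hyC hy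
  rw [hs, hc] at h0
  rw [hs] at h1
  have hη2 : IsPrimitiveRoot (zeta3 ^ 2) 3 := zeta3_prim.pow_of_coprime 2 (by norm_num)
  have hz : 1 + zeta3 + zeta3 ^ 2 = 0 := by
    have := zeta3_prim.geom_sum_eq_zero (by norm_num)
    rw [Finset.sum_range_succ, Finset.sum_range_succ, Finset.sum_range_one] at this
    rw [← this]; ring
  have hcases : (M₀ = 2 ∧ M₁ = 0 ∧ M₂ = 0) ∨ (M₀ = 1 ∧ M₁ = 1 ∧ M₂ = 0) ∨
      (M₀ = 1 ∧ M₁ = 0 ∧ M₂ = 1) ∨ (M₀ = 0 ∧ M₁ = 2 ∧ M₂ = 0) ∨ (M₀ = 0 ∧ M₁ = 0 ∧ M₂ = 2) ∨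
      (M₀ = 0 ∧ M₁ = 1 ∧ M₂ = 1) := by omega
  rcases hcases with ⟨r0, r1, r2⟩ | ⟨r0, r1, r2⟩ | ⟨r0, r1, r2⟩ | ⟨r0, r1, r2⟩ | ⟨r0, r1, r2⟩ |
    ⟨r0, r1, r2⟩
  · rw [r0, r1, r2] at h1
    have h2 : (χ : G → ℂ) y = ((15 : ℤ) : ℂ) := by rw [h1]; push_cast; ring
    exact int_ne_irrDeg χ (by rw [hc]; norm_num) y hy1 15 h2 (by rw [hc]; norm_num)
  · rw [r0, r1, r2] at h1
    have h2 : (χ : G → ℂ) y = ((8 : ℤ) : ℂ) + ((7 : ℤ) : ℂ) * zeta3 := by
      rw [h1]; push_cast; ring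
    obtain ⟨hi, hb⟩ := e2_fin_q3 hcard D χ hne hXeq hY3 15 16 (by norm_num) (by norm_num) hc hd
      hs heps y h7y zeta3 zeta3_prim 8 7 h2
    exact end_15_q3_a _ hi hb
  · rw [r0, r1, r2] at h1
    have h2 : (χ : G → ℂ) y = ((8 : ℤ) : ℂ) + ((7 : ℤ) : ℂ) * zeta3 ^ 2 := by
      rw [h1]; push_cast; ring
    obtain ⟨hi, hb⟩ := e2_fin_q3 hcard D χ hne hXeq hY3 15 16 (by norm_num) (by norm_num) hc hd
      hs heps y h7y (zeta3 ^ 2) hη2 8 7 h2
    exact end_15_q3_a _ hi hb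
  · rw [r0, r1, r2] at h1
    have h2 : (χ : G → ℂ) y = ((1 : ℤ) : ℂ) + ((14 : ℤ) : ℂ) * zeta3 := by
      rw [h1]; push_cast; ring
    obtain ⟨hi, hb⟩ := e2_fin_q3 hcard D χ hne hXeq hY3 15 16 (by norm_num) (by norm_num) hc hd
      hs heps y h7y zeta3 zeta3_prim 1 14 h2
    exact end_15_q3_b _ hi hb
  · rw [r0, r1, r2] at h1
    have h2 : (χ : G → ℂ) y = ((1 : ℤ) : ℂ) + ((14 : ℤ) : ℂ) * zeta3 ^ 2 := by
      rw [h1]; push_cast; ring
    obtain ⟨hi, hb⟩ := e2_fin_q3 hcard D χ hne hXeq hY3 15 16 (by norm_num) (by norm_num) hc hd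
      hs heps y h7y (zeta3 ^ 2) hη2 1 14 h2
    exact end_15_q3_b _ hi hb
  · rw [r0, r1, r2] at h1
    have h2 : (χ : G → ℂ) y = ((-6 : ℤ) : ℂ) + ((0 : ℤ) : ℂ) * zeta3 := by
      rw [h1]; push_cast; linear_combination (7 : ℂ) * hz
    obtain ⟨hi, hb⟩ := e2_fin_q3 hcard D χ hne hXeq hY3 15 16 (by norm_num) (by norm_num) hc hd
      hs heps y h7y zeta3 zeta3_prim (-6) 0 h2
    exact end_15_q3_c _ hi hb

/-- A primitive fifth root of unity. -/
noncomputable def zeta5 : ℂ := Complex.exp (2 * Real.pi * Complex.I / (5 : ℕ))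

theorem zeta5_prim : IsPrimitiveRoot zeta5 5 := Complex.isPrimitiveRoot_exp 5 (by norm_num)

/-- The pattern `(8; 9, 9, 9)` at an element of order `5`. -/
theorem e2_kill_8_q5 [Fintype (IrrCharacter G)] [DecidableEq (IrrCharacter G)]
    (hcard : Nat.card G = 5040) {P : Sylow 7 G} (D : BData 7 P 2) (χ : IrrCharacter G)
    (hne : χ ≠ trivIrr G) (hXeq : D.X = {trivIrr G, χ}) (hY3 : D.Y.card = 3)
    (hc : irrDeg χ = 8) (hd : ∀ θ ∈ D.Y, irrDeg θ = 9)
    (hs : D.sg χ = 1) (heps : D.eps = 1) (x y : G) (hxP : x ∈ (P : Subgroup G))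
    (hx : orderOf x = 7) (hyC : y ∈ centralizer ((P : Subgroup G) : Set G))
    (hy : orderOf y = 5) : False := by
  have hχX : χ ∈ D.X := by rw [hXeq]; simp
  have hy1 : y ≠ 1 := by intro h; rw [h, orderOf_one] at hy; omega
  have h7y : ¬ 7 ∣ orderOf y := by rw [hy]; norm_num
  have h7y2 : ¬ 7 ∣ orderOf (y ^ 2) := by
    intro h
    have h1 : orderOf (y ^ 2) ∣ orderOf y := orderOf_pow_dvd 2
    rw [hy] at h1
    have := h.trans h1
    omega
  have hnot : trivIrr G ∉ ({χ} : Finset (IrrCharacter G)) := by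
    rw [Finset.mem_singleton]; exact fun h => hne h.symm
  obtain ⟨M, hM⟩ := exists_mult_X D χ hχX x y hxP hx hyC 5 hy (by norm_num) (by norm_num)
    zeta5 zeta5_prim
  rw [hs] at hM
  have h0 := hM 0 (by norm_num)
  have hsum : ∑ k ∈ Finset.range 5, M k = 1 := by
    rw [pow_zero, irrDeg_spec, hc] at h0
    simp only [mul_zero, pow_zero, mul_one] at h0
    have h0' : ((8 : ℕ) : ℂ) = ((1 + 7 * ∑ k ∈ Finset.range 5, M k : ℕ) : ℂ) := by
      rw [h0]; push_cast; ring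
    have : 8 = 1 + 7 * ∑ k ∈ Finset.range 5, M k := by exact_mod_cast h0'
    omega
  obtain ⟨k₀, hk₀, hind⟩ := exists_eq_indicator M 5 hsum
  have hval : ∀ i < 5, (χ : G → ℂ) (y ^ i) = 1 + 7 * (zeta5 ^ k₀) ^ i := by
    intro i hi
    rw [hM i hi]
    have h1 : ∑ k ∈ Finset.range 5, (M k : ℂ) * zeta5 ^ (k * i) = zeta5 ^ (k₀ * i) := by
      rw [Finset.sum_eq_single k₀]
      · rw [hind k₀ hk₀, if_pos rfl]; simp
      · intro k hk hkk
        rw [hind k (Finset.mem_range.mp hk), if_neg hkk]; simp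
      · intro h; exact absurd (Finset.mem_range.mpr hk₀) h
    rw [h1, pow_mul]
    push_cast
    ring
  have hk0 : k₀ ≠ 0 := by
    intro h
    have h1 := hval 1 (by norm_num)
    rw [h, pow_zero, one_pow, pow_one] at h1
    have h2 : (χ : G → ℂ) y = ((8 : ℤ) : ℂ) := by rw [h1]; norm_num
    exact int_ne_irrDeg χ (by rw [hc]; norm_num) y hy1 8 h2 (by rw [hc]; norm_num)
  set η := zeta5 ^ k₀ with hη
  have hηprim : IsPrimitiveRoot η 5 := by
    apply zeta5_prim.pow_of_coprime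
    have : Nat.Coprime 5 k₀ := by
      rw [Nat.Prime.coprime_iff_not_dvd (by norm_num)]
      intro hdvd
      have := Nat.le_of_dvd (by omega) hdvd
      omega
    exact this.symm
  have hχ1 : (χ : G → ℂ) y = ((1 : ℤ) : ℂ) + ((7 : ℤ) : ℂ) * η := by
    have := hval 1 (by norm_num)
    rw [pow_one, pow_one] at this
    rw [this]; push_cast; ring
  have hχ2 : (χ : G → ℂ) (y ^ 2) = ((1 : ℤ) : ℂ) + ((7 : ℤ) : ℂ) * η ^ 2 := by
    have := hval 2 (by norm_num)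
    rw [this]; push_cast; ring
  have hθ : ∀ θ ∈ D.Y, ∀ g : G, ¬ 7 ∣ orderOf g → (θ : G → ℂ) g = 1 + (χ : G → ℂ) g := by
    intro θ hθ g hg
    have h := D.hreg θ hθ g hg
    rw [hXeq, Finset.sum_insert hnot, Finset.sum_singleton, heps, D.hsgtriv, hs,
      trivIrr_apply] at h
    push_cast at h
    linear_combination h
  have hidx : (centralizer ({y ^ 2} : Set G)).index = (centralizer ({y} : Set G)).index := by
    rw [centralizer_pow_eq y 2 3]
    rw [← pow_mul]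
    have h5 : y ^ 5 = 1 := by rw [← hy]; exact pow_orderOf_eq_one y
    calc y ^ (2 * 3) = y ^ 5 * y := by group
      _ = y := by rw [h5, one_mul]
  obtain ⟨hi, hb⟩ := e2_end hcard D χ hne hXeq hY3 8 9 (by norm_num) (by norm_num) hc hd y (y ^ 2)
    hidx (2 * 1 ^ 2 - 1 * 7 + 2 * 7 ^ 2) (2 * (1 + 1) ^ 2 - (1 + 1) * 7 + 2 * 7 ^ 2)
    (by rw [hχ1, hχ2, normSq_fifth η hηprim 1 7])
    (by
      intro θ hθ'
      rw [hθ θ hθ' y h7y, hθ θ hθ' (y ^ 2) h7y2, hχ1, hχ2]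
      have := normSq_fifth η hηprim (1 + 1) 7
      rw [← this]
      congr 2 <;> push_cast <;> ring)
  exact end_8_q5 _ hi hb

/-- The pattern `(15; 16, 16, 16)` at an involution. -/
theorem e2_kill_15_q2 [Fintype (IrrCharacter G)] [DecidableEq (IrrCharacter G)]
    (hcard : Nat.card G = 5040) {P : Sylow 7 G} (D : BData 7 P 2) (χ : IrrCharacter G)
    (hne : χ ≠ trivIrr G) (hXeq : D.X = {trivIrr G, χ}) (hY3 : D.Y.card = 3)
    (hc : irrDeg χ = 15) (hd : ∀ θ ∈ D.Y, irrDeg θ = 16)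
    (hs : D.sg χ = 1) (heps : D.eps = 1) (x y : G) (hxP : x ∈ (P : Subgroup G))
    (hx : orderOf x = 7) (hyC : y ∈ centralizer ((P : Subgroup G) : Set G))
    (hy : orderOf y = 2) : False := by
  have hχX : χ ∈ D.X := by rw [hXeq]; simp
  have hy1 : y ≠ 1 := by intro h; rw [h, orderOf_one] at hy; omega
  have h7y : ¬ 7 ∣ orderOf y := by rw [hy]; norm_num
  have hnot : trivIrr G ∉ ({χ} : Finset (IrrCharacter G)) := by
    rw [Finset.mem_singleton]; exact fun h => hne h.symm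
  obtain ⟨m, hm⟩ := val_q2 D χ hχX x y hxP hx hyC hy
  rw [hs, hc] at hm
  have b := int_abs_le χ y _ hm
  have n := int_ne_irrDeg χ (by rw [hc]; norm_num) y hy1 _ hm
  rw [hc] at b n
  have hm12 : m = 1 ∨ m = 2 := by
    have := abs_le.mp b
    push_cast at this n
    omega
  have hθ : ∀ θ ∈ D.Y, (θ : G → ℂ) y = 1 + (χ : G → ℂ) y := by
    intro θ hθ
    have h := D.hreg θ hθ y h7y
    rw [hXeq, Finset.sum_insert hnot, Finset.sum_singleton, heps, D.hsgtriv, hs,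
      trivIrr_apply] at h
    push_cast at h
    linear_combination h
  rcases hm12 with h | h
  · rw [h] at hm
    obtain ⟨hi, hb⟩ := e2_end hcard D χ hne hXeq hY3 15 16 (by norm_num) (by norm_num) hc hd y y
      rfl (2 * (-13) ^ 2) (2 * (-13 + 1) ^ 2)
      (by rw [hm, Complex.normSq_intCast]; push_cast; ring)
      (by
        intro θ hθ'
        rw [hθ θ hθ', hm]
        have : (1 : ℂ) + ((14 * ((1 : ℕ) : ℤ) - 12 * 1 - ((15 : ℕ) : ℤ) : ℤ) : ℂ) =
            ((-12 : ℤ) : ℂ) := by push_cast; ring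
        rw [this, Complex.normSq_intCast]; push_cast; ring)
    exact end_15_q2_a _ hi hb
  · rw [h] at hm
    obtain ⟨hi, hb⟩ := e2_end hcard D χ hne hXeq hY3 15 16 (by norm_num) (by norm_num) hc hd y y
      rfl (2 * 1 ^ 2) (2 * (1 + 1) ^ 2)
      (by rw [hm, Complex.normSq_intCast]; push_cast; ring)
      (by
        intro θ hθ'
        rw [hθ θ hθ', hm]
        have : (1 : ℂ) + ((14 * ((2 : ℕ) : ℤ) - 12 * 1 - ((15 : ℕ) : ℤ) : ℤ) : ℂ) =
            ((2 : ℤ) : ℂ) := by push_cast; ring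
        rw [this, Complex.normSq_intCast]; push_cast; ring)
    have h4 := Cfsg.Agent.Helper21.InvCent.four_dvd_card_centralizer
      (by rw [hcard]; norm_num) y hy
    have hidxC : (centralizer ({y} : Set G)).index * Nat.card (centralizer ({y} : Set G)) = 5040 := by
      rw [← hcard]; exact Subgroup.index_mul_card _
    exact end_15_q2_b _ hi hb _ hidxC h4

end Cfsg.Agent.Helper21.O5040
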