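import Mathlib

set_option autoImplicit false
set_option linter.unusedSectionVars false

/-!
A permutation lemma: in a simple group with a Sylow `p`-subgroup `P` of order `p` and exactly
`2 p + 1` Sylow `p`-subgroups, a `p'`-subgroup of `C(P)` has order at most `4`.
-/

namespace Cfsg.Agent.Helper21.PermSyl

open Subgroup

variable {G : Type*} [Group G] [Finite G] {p : ℕ} [hp : Fact p.Prime]

theorem pow_smul_eq_of_commute (k c : G) (hc : Commute k c) (Q : Sylow p G)
    (h : k • Q = c • Q) (n : ℕ) : k ^ n • Q = c ^ n • Q := by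
  induction n with
  | zero => simp
  | succ n ih =>
    have hc' : Commute (k ^ n) c := hc.pow_left n
    rw [pow_succ, mul_smul, h, ← mul_smul, hc'.eq, mul_smul, ih, ← mul_smul, ← pow_succ']

/-- Distinct Sylow subgroups of order `p` intersect trivially. -/
theorem inf_eq_bot (P Q : Sylow p G) (hP : Nat.card (P : Subgroup G) = p) (hQ : Q ≠ P) :
    (P : Subgroup G) ⊓ (Q : Subgroup G) = ⊥ := by
  have h1 : Nat.card ↥((P : Subgroup G) ⊓ (Q : Subgroup G)) ∣ p := by
    have := Subgroup.card_dvd_of_le (inf_le_left : (P : Subgroup G) ⊓ (Q : Subgroup G) ≤ P)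
    rwa [hP] at this
  rcases (Nat.dvd_prime hp.out).mp h1 with h | h
  · exact Subgroup.eq_bot_of_card_eq _ h
  · exfalso
    apply hQ
    have h2 : (P : Subgroup G) ⊓ (Q : Subgroup G) = (P : Subgroup G) :=
      Subgroup.eq_of_le_of_card_ge inf_le_left (by rw [h, hP])
    have h3 : (P : Subgroup G) ≤ (Q : Subgroup G) := by rw [← h2]; exact inf_le_right
    have h4 := P.is_maximal' Q.isPGroup' h3
    exact Sylow.ext h4

/-- The key step: if `k ∈ K ≤ C(P)` is a `p'`-element moving `Q ≠ P` inside its `P`-orbit, then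
`k` fixes `Q`. -/
theorem smul_eq_self (P : Sylow p G) (hP : Nat.card (P : Subgroup G) = p) (K : Subgroup G)
    (hK : K ≤ centralizer ((P : Subgroup G) : Set G)) (hcop : (Nat.card K).Coprime p)
    (Q : Sylow p G) (hQ : Q ≠ P) (k : G) (hk : k ∈ K) (c : G) (hcP : c ∈ (P : Subgroup G))
    (h : k • Q = c • Q) : k • Q = Q := by
  have hcomm : Commute k c := ((Subgroup.mem_centralizer_iff.mp (hK hk)) c hcP).symm
  have h1 := pow_smul_eq_of_commute k c hcomm Q h (orderOf k)
  rw [pow_orderOf_eq_one, one_smul] at h1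
  have h2 : c ^ orderOf k ∈ (P : Subgroup G) ⊓ normalizer (Q : Set G) :=
    ⟨Subgroup.pow_mem _ hcP _, Sylow.smul_eq_iff_mem_normalizer.mp h1.symm⟩
  rw [P.isPGroup'.inf_normalizer_sylow Q, inf_eq_bot P Q hP hQ, Subgroup.mem_bot] at h2
  have h3 : orderOf c ∣ orderOf k := orderOf_dvd_of_pow_eq_one h2
  have h4 : orderOf c ∣ p := by
    have := Subgroup.orderOf_dvd_natCard _ hcP
    rwa [hP] at this
  have h5 : orderOf k ∣ Nat.card K := Subgroup.orderOf_dvd_natCard _ hk
  have h6 : orderOf c ∣ 1 := by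
    have := Nat.dvd_gcd (h3.trans h5) h4
    rwa [hcop] at this
  have h7 : c = 1 := orderOf_eq_one_iff.mp (Nat.dvd_one.mp h6)
  rw [h, h7, one_smul]

/-- Elements of `C(P)` fix `P`. -/
theorem smul_self_of_mem_centralizer (P : Sylow p G) (k : G)
    (hk : k ∈ centralizer ((P : Subgroup G) : Set G)) : k • P = P :=
  Sylow.smul_eq_iff_mem_normalizer.mpr (Subgroup.centralizer_le_normalizer _ hk)

theorem smul_self_of_mem (P : Sylow p G) (c : G) (hc : c ∈ (P : Subgroup G)) : c • P = P :=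
  Sylow.smul_eq_iff_mem_normalizer.mpr (Subgroup.le_normalizer hc)

/-- The decomposition of the set of Sylow subgroups into `P`-orbits when there are `2p+1`. -/
theorem exists_orbit_reps (P : Sylow p G) (hP : Nat.card (P : Subgroup G) = p)
    (hn : Nat.card (Sylow p G) = 2 * p + 1) :
    ∃ Q₁ Q₂ : Sylow p G, Q₁ ≠ P ∧ Q₂ ≠ P ∧ ∀ R : Sylow p G, R = P ∨
      (∃ c ∈ (P : Subgroup G), R = c • Q₁) ∨ (∃ c ∈ (P : Subgroup G), R = c • Q₂) := by
  classical
  have : Fintype (Sylow p G) := Fintype.ofFinite _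
  have : Fintype (P : Subgroup G) := Fintype.ofFinite _
  have hp2 := hp.out.two_le
  set O : Sylow p G → Finset (Sylow p G) := fun Q =>
    Finset.univ.image (fun c : (P : Subgroup G) => (c : G) • Q) with hO
  have hOmem : ∀ Q R, R ∈ O Q ↔ ∃ c ∈ (P : Subgroup G), R = c • Q := by
    intro Q R
    simp only [hO, Finset.mem_image, Finset.mem_univ, true_and]
    constructor
    · rintro ⟨c, rfl⟩; exact ⟨c, c.2, rfl⟩
    · rintro ⟨c, hc, rfl⟩; exact ⟨⟨c, hc⟩, rfl⟩
  have hOle : ∀ Q, (O Q).card ≤ p := by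
    intro Q
    calc (O Q).card ≤ (Finset.univ : Finset (P : Subgroup G)).card := Finset.card_image_le
      _ = p := by rw [Finset.card_univ, ← Nat.card_eq_fintype_card, hP]
  have hOeq : ∀ Q, Q ≠ P → (O Q).card = p := by
    intro Q hQ
    rw [hO]
    rw [Finset.card_image_of_injective, Finset.card_univ, ← Nat.card_eq_fintype_card, hP]
    intro c c' hcc
    simp only at hcc
    have h1 : ((c' : G)⁻¹ * (c : G)) • Q = Q := by
      rw [mul_smul, hcc, inv_smul_smul]
    have h2 : (c' : G)⁻¹ * (c : G) ∈ (P : Subgroup G) ⊓ normalizer (Q : Set G) :=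
      ⟨Subgroup.mul_mem _ (Subgroup.inv_mem _ c'.2) c.2, Sylow.smul_eq_iff_mem_normalizer.mp h1⟩
    rw [P.isPGroup'.inf_normalizer_sylow Q, inf_eq_bot P Q hP hQ, Subgroup.mem_bot] at h2
    apply Subtype.ext
    have : (c : G) = (c' : G) := by
      have := congrArg (fun z => (c' : G) * z) h2
      simpa using this
    exact this
  have hPnot : ∀ Q, Q ≠ P → P ∉ O Q := by
    intro Q hQ hmem
    obtain ⟨c, hc, h⟩ := (hOmem Q P).mp hmem
    apply hQ
    have h1 : c⁻¹ • P = Q := by rw [h, inv_smul_smul]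
    rw [← h1]
    exact smul_self_of_mem P _ (Subgroup.inv_mem _ hc)
  have hcardΩ : Fintype.card (Sylow p G) = 2 * p + 1 := by
    rw [← Nat.card_eq_fintype_card, hn]
  -- first representative
  obtain ⟨Q₁, hQ₁⟩ : ∃ Q₁ : Sylow p G, Q₁ ≠ P := by
    by_contra hcon
    push Not at hcon
    have : Fintype.card (Sylow p G) ≤ 1 :=
      Fintype.card_le_one_iff.mpr (fun a b => by rw [hcon a, hcon b])
    omega
  -- second representative
  obtain ⟨Q₂, hQ₂⟩ : ∃ Q₂ : Sylow p G, Q₂ ∉ insert P (O Q₁) := by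
    by_contra hcon
    push Not at hcon
    have h1 : insert P (O Q₁) = Finset.univ := Finset.eq_univ_iff_forall.mpr hcon
    have h2 := Finset.card_insert_le P (O Q₁)
    rw [h1, Finset.card_univ, hcardΩ] at h2
    have := hOle Q₁
    omega
  rw [Finset.mem_insert, not_or] at hQ₂
  have hQ₂P : Q₂ ≠ P := hQ₂.1
  have hdisj : Disjoint (O Q₁) (O Q₂) := by
    rw [Finset.disjoint_left]
    intro R h1 h2
    obtain ⟨c, hc, rfl⟩ := (hOmem Q₁ R).mp h1
    obtain ⟨c', hc', h⟩ := (hOmem Q₂ _).mp h2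
    apply hQ₂.2
    rw [hOmem]
    refine ⟨c'⁻¹ * c, Subgroup.mul_mem _ (Subgroup.inv_mem _ hc') hc, ?_⟩
    rw [mul_smul, h, inv_smul_smul]
  have hcardB : (insert P (O Q₁ ∪ O Q₂)).card = 2 * p + 1 := by
    rw [Finset.card_insert_of_notMem, Finset.card_union_of_disjoint hdisj, hOeq Q₁ hQ₁,
      hOeq Q₂ hQ₂P]
    · ring
    · rw [Finset.mem_union, not_or]
      exact ⟨hPnot Q₁ hQ₁, hPnot Q₂ hQ₂P⟩
  have hB : insert P (O Q₁ ∪ O Q₂) = Finset.univ := by
    apply Finset.eq_univ_of_card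
    rw [hcardB, hcardΩ]
  refine ⟨Q₁, Q₂, hQ₁, hQ₂P, ?_⟩
  intro R
  have hR : R ∈ insert P (O Q₁ ∪ O Q₂) := by rw [hB]; exact Finset.mem_univ R
  rw [Finset.mem_insert, Finset.mem_union, hOmem, hOmem] at hR
  exact hR

/-- Two elements of `K` moving `Q` move it to the same place. -/
theorem smul_eq_smul_of_ne (P : Sylow p G) (hP : Nat.card (P : Subgroup G) = p) (K : Subgroup G)
    (hK : K ≤ centralizer ((P : Subgroup G) : Set G)) (hcop : (Nat.card K).Coprime p)
    (Q Q' : Sylow p G) (hQ : Q ≠ P)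
    (hcov : ∀ R : Sylow p G, R = P ∨
      (∃ c ∈ (P : Subgroup G), R = c • Q) ∨ (∃ c ∈ (P : Subgroup G), R = c • Q'))
    (k k' : G) (hk : k ∈ K) (hk' : k' ∈ K) (h : k • Q ≠ Q) (h' : k' • Q ≠ Q) :
    k • Q = k' • Q := by
  have key : ∀ k : G, k ∈ K → k • Q ≠ Q → ∃ c ∈ (P : Subgroup G), k • Q = c • Q' := by
    intro k hk h
    rcases hcov (k • Q) with h1 | ⟨c, hc, h1⟩ | ⟨c, hc, h1⟩
    · exfalso
      apply hQ
      have h2 : Q = k⁻¹ • P := by rw [← h1, inv_smul_smul]
      rw [h2]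
      exact smul_self_of_mem_centralizer P _ (Subgroup.inv_mem _ (hK hk))
    · exact absurd (smul_eq_self P hP K hK hcop Q hQ k hk c hc h1) h
    · exact ⟨c, hc, h1⟩
  obtain ⟨c, hc, h1⟩ := key k hk h
  obtain ⟨c', hc', h1'⟩ := key k' hk' h'
  have hd : c * c'⁻¹ ∈ (P : Subgroup G) := Subgroup.mul_mem _ hc (Subgroup.inv_mem _ hc')
  have hcomm : k' * (c * c'⁻¹) = (c * c'⁻¹) * k' :=
    ((Subgroup.mem_centralizer_iff.mp (hK hk')) _ hd).symm
  have h2 : Q' = c'⁻¹ • k' • Q := by rw [h1', inv_smul_smul]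
  have h3 : (k'⁻¹ * k) • Q = (c * c'⁻¹) • Q := by
    have e : k'⁻¹ * ((c * c'⁻¹) * k') = c * c'⁻¹ := by
      rw [← hcomm]; group
    rw [mul_smul, h1, h2, ← mul_smul, ← mul_smul, ← mul_smul]
    congr 1
    rw [← e]; group
  have h4 := smul_eq_self P hP K hK hcop Q hQ (k'⁻¹ * k)
    (Subgroup.mul_mem _ (Subgroup.inv_mem _ hk') hk) _ hd h3
  rw [mul_smul] at h4
  have h5 := congrArg (fun R => k' • R) h4
  simp only [smul_inv_smul] at h5
  exact h5

/-- The action of a simple group on its Sylow `p`-subgroups is faithful when there is more than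
one of them. -/
theorem eq_one_of_smul_eq [IsSimpleGroup G] (hn : 1 < Nat.card (Sylow p G)) (g : G)
    (hg : ∀ R : Sylow p G, g • R = R) : g = 1 := by
  have hker : g ∈ (MulAction.toPermHom G (Sylow p G)).ker := by
    rw [MonoidHom.mem_ker]
    ext R
    simp [hg R]
  rcases (MonoidHom.normal_ker (MulAction.toPermHom G (Sylow p G))).eq_bot_or_eq_top with h | h
  · rw [h] at hker
    exact Subgroup.mem_bot.mp hker
  · exfalso
    have hall : ∀ (a : G) (R : Sylow p G), a • R = R := by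
      intro a R
      have : a ∈ (MulAction.toPermHom G (Sylow p G)).ker := by rw [h]; exact Subgroup.mem_top a
      rw [MonoidHom.mem_ker] at this
      have h2 := congrArg (fun σ : Equiv.Perm (Sylow p G) => σ R) this
      simpa using h2
    have : Nat.card (Sylow p G) ≤ 1 := by
      rw [Finite.card_le_one_iff_subsingleton]
      constructor
      intro R R'
      obtain ⟨a, ha⟩ := MulAction.exists_smul_eq G R R'
      rw [← ha, hall a R]
    omega

/-- The permutation lemma. -/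
theorem card_le_four [IsSimpleGroup G] (P : Sylow p G) (hP : Nat.card (P : Subgroup G) = p)
    (hn : Nat.card (Sylow p G) = 2 * p + 1) (K : Subgroup G)
    (hK : K ≤ centralizer ((P : Subgroup G) : Set G)) (hcop : (Nat.card K).Coprime p) :
    Nat.card K ≤ 4 := by
  classical
  have : Fintype (Sylow p G) := Fintype.ofFinite _
  have : Fintype K := Fintype.ofFinite _
  obtain ⟨Q₁, Q₂, hQ₁, hQ₂, hcov⟩ := exists_orbit_reps P hP hn
  have hcov' : ∀ R : Sylow p G, R = P ∨
      (∃ c ∈ (P : Subgroup G), R = c • Q₂) ∨ (∃ c ∈ (P : Subgroup G), R = c • Q₁) := by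
    intro R
    rcases hcov R with h | h | h
    · exact Or.inl h
    · exact Or.inr (Or.inr h)
    · exact Or.inr (Or.inl h)
  have hR : ∀ (Q Q' : Sylow p G), Q ≠ P → (∀ R : Sylow p G, R = P ∨
      (∃ c ∈ (P : Subgroup G), R = c • Q) ∨ (∃ c ∈ (P : Subgroup G), R = c • Q')) →
      ∃ R : Sylow p G, ∀ k ∈ K, k • Q = Q ∨ k • Q = R := by
    intro Q Q' hQ hc
    by_cases hex : ∃ k₀ ∈ K, k₀ • Q ≠ Q
    · obtain ⟨k₀, hk₀, hne⟩ := hex
      refine ⟨k₀ • Q, fun k hk => ?_⟩
      by_cases h : k • Q = Q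
      · exact Or.inl h
      · exact Or.inr (smul_eq_smul_of_ne P hP K hK hcop Q Q' hQ hc k k₀ hk hk₀ h hne)
    · push Not at hex
      exact ⟨Q, fun k hk => Or.inl (hex k hk)⟩
  obtain ⟨R₁, hR₁⟩ := hR Q₁ Q₂ hQ₁ hcov
  obtain ⟨R₂, hR₂⟩ := hR Q₂ Q₁ hQ₂ hcov'
  have hinj : Set.InjOn (fun k : K => ((k : G) • Q₁, (k : G) • Q₂))
      ((Finset.univ : Finset K) : Set K) := by
    intro k _ k' _ hkk
    simp only [Prod.mk.injEq] at hkk
    obtain ⟨e1, e2⟩ := hkk
    have hg : (k' : G)⁻¹ * (k : G) ∈ K := Subgroup.mul_mem _ (Subgroup.inv_mem _ k'.2) k.2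
    have hfix1 : ((k' : G)⁻¹ * (k : G)) • Q₁ = Q₁ := by rw [mul_smul, e1, inv_smul_smul]
    have hfix2 : ((k' : G)⁻¹ * (k : G)) • Q₂ = Q₂ := by rw [mul_smul, e2, inv_smul_smul]
    have hfixc : ∀ (Q : Sylow p G), ((k' : G)⁻¹ * (k : G)) • Q = Q → ∀ c ∈ (P : Subgroup G),
        ((k' : G)⁻¹ * (k : G)) • c • Q = c • Q := by
      intro Q hfix c hc
      have hcomm : c * ((k' : G)⁻¹ * (k : G)) = ((k' : G)⁻¹ * (k : G)) * c :=
        (Subgroup.mem_centralizer_iff.mp (hK hg)) c hc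
      rw [← mul_smul, ← hcomm, mul_smul, hfix]
    have hall : ∀ R : Sylow p G, ((k' : G)⁻¹ * (k : G)) • R = R := by
      intro R
      rcases hcov R with h | ⟨c, hc, h⟩ | ⟨c, hc, h⟩
      · rw [h]; exact smul_self_of_mem_centralizer P _ (hK hg)
      · rw [h]; exact hfixc Q₁ hfix1 c hc
      · rw [h]; exact hfixc Q₂ hfix2 c hc
    have h1 := eq_one_of_smul_eq (by rw [hn]; have := hp.out.two_le; omega) _ hall
    apply Subtype.ext
    have := congrArg (fun z => (k' : G) * z) h1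
    simpa using this
  have hmaps : ∀ k ∈ (Finset.univ : Finset K), (fun k : K => ((k : G) • Q₁, (k : G) • Q₂)) k ∈
      ({Q₁, R₁} : Finset (Sylow p G)) ×ˢ ({Q₂, R₂} : Finset (Sylow p G)) := by
    intro k _
    simp only [Finset.mem_product, Finset.mem_insert, Finset.mem_singleton]
    exact ⟨hR₁ k k.2, hR₂ k k.2⟩
  have h1 := Finset.card_le_card_of_injOn _ hmaps hinj
  rw [Finset.card_univ, ← Nat.card_eq_fintype_card, Finset.card_product] at h1
  have h2 : ({Q₁, R₁} : Finset (Sylow p G)).card ≤ 2 := Finset.card_le_two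
  have h3 : ({Q₂, R₂} : Finset (Sylow p G)).card ≤ 2 := Finset.card_le_two
  calc Nat.card K ≤ _ := h1
    _ ≤ 2 * 2 := Nat.mul_le_mul h2 h3

end Cfsg.Agent.Helper21.PermSyl
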