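import Mathlib
import Cfsg.Agent.Helper21.O5040e
import Cfsg.Agent.Helper21.PermSyl

set_option autoImplicit false
set_option linter.unusedSectionVars false
set_option maxHeartbeats 1000000

/-!
No simple group of order 5040: the cases `e = 2` and `n₇ = 15`.
-/

namespace Cfsg.Agent.Helper21.O5040

open Cfsg Cfsg.Agent.Helper24 Cfsg.Agent.Helper5 Cfsg.Agent.Helper5.CC Subgroup
  Cfsg.Agent.Helper15.BrP Cfsg.Agent.Helper21.BrRat Cfsg.Agent.Helper21.BrTw

variable {G : Type*} [Group G] [Finite G] [IsSimpleGroup G]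

/-- The case `e = 2`, `|C(P)| = 70`. -/
theorem case_e2_70 (hcard : Nat.card G = 5040) (P : Sylow 7 G)
    (hP : Nat.card (P : Subgroup G) = 7)
    (he : (centralizer ((P : Subgroup G) : Set G)).relIndex
      (normalizer ((P : Subgroup G) : Set G)) = 2)
    (hC : Nat.card (centralizer ((P : Subgroup G) : Set G)) = 70) : False := by
  classical
  have : Fintype (IrrCharacter G) := Fintype.ofFinite _
  obtain ⟨D⟩ := exists_bdata (perfect hcard) 7 (by norm_num) P hP 2 he (by norm_num)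
  obtain ⟨χ, d, hne, hXeq, hY, hY3, hpat⟩ := e2_data hcard P D
  have : Fact (Nat.Prime 2) := ⟨by norm_num⟩
  have : Fact (Nat.Prime 5) := ⟨by norm_num⟩
  obtain ⟨y₂, hy₂C, hy₂⟩ := Cfsg.Agent.Helper15.O4032.exists_centralizer_orderOf P 2
    (by rw [hC]; norm_num)
  obtain ⟨y₅, hy₅C, hy₅⟩ := Cfsg.Agent.Helper15.O4032.exists_centralizer_orderOf P 5
    (by rw [hC]; norm_num)
  obtain ⟨x, hxP, hx⟩ := Cfsg.Agent.Helper15.O4032.exists_gen P hP
  have hχX : χ ∈ D.X := by rw [hXeq]; simp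
  rcases hpat with ⟨h6, hs⟩ | ⟨h8, hd, hs, heps⟩ | ⟨h15, hd, hs, heps⟩
  · exact Cfsg.Agent.Helper15.O4032.kill_minus P hP D χ hχX h6 hs y₂ hy₂C 2 (by norm_num)
      (by norm_num) hy₂
  · subst hd
    exact e2_kill_8_q5 hcard D χ hne hXeq hY3 h8 hY hs heps x y₅ hxP hx hy₅C hy₅
  · subst hd
    exact e2_kill_15_q2 hcard D χ hne hXeq hY3 h15 hY hs heps x y₂ hxP hx hy₂C hy₂

/-- The case `e = 2`, `|C(P)| = 21`. -/
theorem case_e2_21 (hcard : Nat.card G = 5040) (P : Sylow 7 G)
    (hP : Nat.card (P : Subgroup G) = 7)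
    (he : (centralizer ((P : Subgroup G) : Set G)).relIndex
      (normalizer ((P : Subgroup G) : Set G)) = 2)
    (hC : Nat.card (centralizer ((P : Subgroup G) : Set G)) = 21) : False := by
  classical
  have : Fintype (IrrCharacter G) := Fintype.ofFinite _
  obtain ⟨D⟩ := exists_bdata (perfect hcard) 7 (by norm_num) P hP 2 he (by norm_num)
  obtain ⟨χ, d, hne, hXeq, hY, hY3, hpat⟩ := e2_data hcard P D
  have : Fact (Nat.Prime 3) := ⟨by norm_num⟩
  obtain ⟨y, hyC, hy⟩ := Cfsg.Agent.Helper15.O4032.exists_centralizer_orderOf P 3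
    (by rw [hC]; norm_num)
  obtain ⟨x, hxP, hx⟩ := Cfsg.Agent.Helper15.O4032.exists_gen P hP
  have hχX : χ ∈ D.X := by rw [hXeq]; simp
  rcases hpat with ⟨h6, hs⟩ | ⟨h8, hd, hs, heps⟩ | ⟨h15, hd, hs, heps⟩
  · exact Cfsg.Agent.Helper15.O4032.kill_minus P hP D χ hχX h6 hs y hyC 3 (by norm_num)
      (by norm_num) hy
  · subst hd
    exact e2_kill_8_q3 hcard D χ hne hXeq hY3 h8 hY hs heps x y hxP hx hyC hy
  · subst hd
    exact e2_kill_15_q3 hcard D χ hne hXeq hY3 h15 hY hs heps x y hxP hx hyC hy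

/-- The case `n₇ = 15`. -/
theorem case_n15 (P : Sylow 7 G) (hP : Nat.card (P : Subgroup G) = 7)
    (hn : Nat.card (Sylow 7 G) = 15)
    (h8 : 8 ∣ Nat.card (centralizer ((P : Subgroup G) : Set G))) : False := by
  have : Fact (Nat.Prime 2) := ⟨by norm_num⟩
  obtain ⟨K', hK'⟩ := Sylow.exists_subgroup_card_pow_prime 2
    (show 2 ^ 3 ∣ Nat.card (centralizer ((P : Subgroup G) : Set G)) by norm_num; exact h8)
  set K := K'.map (centralizer ((P : Subgroup G) : Set G)).subtype with hK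
  have hKle : K ≤ centralizer ((P : Subgroup G) : Set G) := Subgroup.map_subtype_le K'
  have hKcard : Nat.card K = 8 := by
    rw [hK, Subgroup.card_map_of_injective (Subgroup.subtype_injective _), hK']
    norm_num
  have := Cfsg.Agent.Helper21.PermSyl.card_le_four P hP (by rw [hn]) K hKle
    (by rw [hKcard]; norm_num)
  omega

end Cfsg.Agent.Helper21.O5040
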