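import Mathlib

set_option autoImplicit false

/-!
No simple group of order 5040: arithmetic for the self-centralizing case (`e = 6`).
-/

namespace Cfsg.Agent.Helper21.O5040

/-- The value `u = 2 m - d` of a character of degree `d` at an involution. -/
def u3 (t : ℕ × ℤ × ℕ) : ℤ := 2 * (t.2.2 : ℤ) - (t.1 : ℤ)

/-- The constraints on the values at an involution; the entries of `ts` are `(d, a, m)`. -/
def Cons (ts : List (ℕ × ℤ × ℕ)) (idx : ℕ) : Prop :=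
  1 + (ts.map fun t => t.2.1 * u3 t).sum = 0 ∧
  (idx : ℤ) * (1 + (ts.map fun t => u3 t ^ 2).sum) ≤ 5040 ∧
  ((idx : ℤ) * (1 + (ts.map fun t => u3 t ^ 2).sum) = 5040 →
    1 + (ts.map fun t => (t.1 : ℤ) * u3 t).sum = 0) ∧
  ∃ N₀ ∈ Finset.range 8, (N₀ : ℤ) * 5040 * 720 =
    (idx : ℤ) ^ 2 * (720 + (ts.map fun t => t.2.1 * u3 t ^ 2 * ((720 / t.1 : ℕ) : ℤ)).sum)

instance (ts : List (ℕ × ℤ × ℕ)) (idx : ℕ) : Decidable (Cons ts idx) := by
  unfold Cons; infer_instance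

/-- Integrality of the central character at an involution. -/
def Dv (d idx m : ℕ) : Prop := (d : ℤ) ∣ (idx : ℤ) * (2 * (m : ℤ) - (d : ℤ))

instance (d idx m : ℕ) : Decidable (Dv d idx m) := by unfold Dv; infer_instance

/-- The restriction bound for an involution of `N(P)`. -/
def TB (d : ℕ) (a : ℤ) (m : ℕ) : Prop := 7 * |2 * (m : ℤ) - (d : ℤ)| ≤ (d : ℤ) + 6 * a

instance (d : ℕ) (a : ℤ) (m : ℕ) : Decidable (TB d a m) := by unfold TB; infer_instance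

/-- Signed degrees of the characters with value `±1` at `x`. -/
def E1 : List ℤ := [-48, -20, -6, 8, 15, 36]

/-- Twice the signed degrees of the characters with value `±2` at `x`. -/
def E2 : List ℤ := [-80, -24, -10, 4, 18, 32, 60]

/-- The index set for involutions not centralizing an element of order `7`. -/
def idxT : List ℕ := (List.range 5041).filter (fun i => 5040 % i = 0 ∧ i % 7 = 0 ∧ (5040 / i) % 2 = 0)

/-- Partial second orthogonality. -/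
def Q (idx : ℕ) (s : ℤ) : Prop := (idx : ℤ) * (1 + s) ≤ 5040

instance (idx : ℕ) (s : ℤ) : Decidable (Q idx s) := by unfold Q; infer_instance

/-- The square of the value at an involution. -/
def sq (d m : ℕ) : ℤ := (2 * (m : ℤ) - (d : ℤ)) ^ 2

theorem sq_nonneg' (d m : ℕ) : 0 ≤ sq d m := by unfold sq; positivity

theorem Q_of_le (idx : ℕ) (s s' : ℤ) (h : s ≤ s') (hQ : Q idx s') : Q idx s := by
  unfold Q at hQ ⊢
  have h0 : (0 : ℤ) ≤ idx := by positivity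
  nlinarith

/-- Search statement for six characters with values `±1`, at an involution of `N(P)`. -/
def NoT6 (e1 e2 e3 e4 e5 e6 : ℤ) : Prop :=
  ∀ idx ∈ idxT,
  ∀ m1 ∈ Finset.range e1.natAbs, Dv e1.natAbs idx m1 → TB e1.natAbs e1.sign m1 →
    Q idx (sq e1.natAbs m1) →
  ∀ m2 ∈ Finset.range e2.natAbs, Dv e2.natAbs idx m2 → TB e2.natAbs e2.sign m2 →
    Q idx (sq e1.natAbs m1 + sq e2.natAbs m2) →
  ∀ m3 ∈ Finset.range e3.natAbs, Dv e3.natAbs idx m3 → TB e3.natAbs e3.sign m3 →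
    Q idx (sq e1.natAbs m1 + sq e2.natAbs m2 + sq e3.natAbs m3) →
  ∀ m4 ∈ Finset.range e4.natAbs, Dv e4.natAbs idx m4 → TB e4.natAbs e4.sign m4 →
    Q idx (sq e1.natAbs m1 + sq e2.natAbs m2 + sq e3.natAbs m3 + sq e4.natAbs m4) →
  ∀ m5 ∈ Finset.range e5.natAbs, Dv e5.natAbs idx m5 → TB e5.natAbs e5.sign m5 →
    Q idx (sq e1.natAbs m1 + sq e2.natAbs m2 + sq e3.natAbs m3 + sq e4.natAbs m4 +
      sq e5.natAbs m5) →
  ∀ m6 ∈ Finset.range e6.natAbs, Dv e6.natAbs idx m6 → TB e6.natAbs e6.sign m6 →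
  ¬ Cons [(e1.natAbs, e1.sign, m1), (e2.natAbs, e2.sign, m2), (e3.natAbs, e3.sign, m3),
    (e4.natAbs, e4.sign, m4), (e5.natAbs, e5.sign, m5), (e6.natAbs, e6.sign, m6)] idx

instance (e1 e2 e3 e4 e5 e6 : ℤ) : Decidable (NoT6 e1 e2 e3 e4 e5 e6) := by
  unfold NoT6; infer_instance

theorem noT6 : ∀ e1 ∈ E1, ∀ e2 ∈ E1, e1 ≤ e2 → ∀ e3 ∈ E1, e2 ≤ e3 → ∀ e4 ∈ E1, e3 ≤ e4 →
    ∀ e5 ∈ E1, e4 ≤ e5 → ∀ e6 ∈ E1, e5 ≤ e6 → 1 + e1 + e2 + e3 + e4 + e5 + e6 = 0 →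
    (e1 = -20 ∧ e2 = -20 ∧ e3 = -6 ∧ e4 = 15 ∧ e5 = 15 ∧ e6 = 15) ∨
      NoT6 e1 e2 e3 e4 e5 e6 := by
  decide +kernel

/-- The last pattern, at a central involution of a Sylow `2`-subgroup. -/
theorem noZ6 : ∀ idx ∈ ([7, 21, 35, 63, 105, 315] : List ℕ),
    ∀ m1 ∈ Finset.range 20, Dv 20 idx m1 → Q idx (sq 20 m1) →
    ∀ m2 ∈ Finset.range 20, Dv 20 idx m2 → Q idx (sq 20 m1 + sq 20 m2) →
    ∀ m3 ∈ Finset.range 6, Dv 6 idx m3 → Q idx (sq 20 m1 + sq 20 m2 + sq 6 m3) →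
    ∀ m4 ∈ Finset.range 15, Dv 15 idx m4 → Q idx (sq 20 m1 + sq 20 m2 + sq 6 m3 + sq 15 m4) →
    ∀ m5 ∈ Finset.range 15, Dv 15 idx m5 →
      Q idx (sq 20 m1 + sq 20 m2 + sq 6 m3 + sq 15 m4 + sq 15 m5) →
    ∀ m6 ∈ Finset.range 15, Dv 15 idx m6 →
    ¬ Cons [(20, -1, m1), (20, -1, m2), (6, -1, m3), (15, 1, m4), (15, 1, m5), (15, 1, m6)]
      idx := by
  decide +kernel

/-- Search statement for the patterns with a value `±2`. -/
def NoT3 (f e1 e2 : ℤ) : Prop :=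
  ∀ idx ∈ idxT,
  ∀ m0 ∈ Finset.range (f.natAbs / 2), Dv (f.natAbs / 2) idx m0 →
    TB (f.natAbs / 2) (2 * f.sign) m0 →
  ∀ m1 ∈ Finset.range e1.natAbs, Dv e1.natAbs idx m1 → TB e1.natAbs e1.sign m1 →
  ∀ m2 ∈ Finset.range e2.natAbs, Dv e2.natAbs idx m2 → TB e2.natAbs e2.sign m2 →
  ¬ Cons [(f.natAbs / 2, 2 * f.sign, m0), (e1.natAbs, e1.sign, m1), (e2.natAbs, e2.sign, m2)] idx

instance (f e1 e2 : ℤ) : Decidable (NoT3 f e1 e2) := by
  unfold NoT3; infer_instance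

theorem noT3 : ∀ f ∈ E2, ∀ e1 ∈ E1, ∀ e2 ∈ E1, e1 ≤ e2 → 1 + f + e1 + e2 = 0 →
    NoT3 f e1 e2 := by
  decide +kernel

/-- Membership in `idxT`. -/
theorem mem_idxT (idx c : ℕ) (h : idx * c = 5040) (h7 : 7 ∣ idx) (h2 : 2 ∣ c) : idx ∈ idxT := by
  unfold idxT
  rw [List.mem_filter, List.mem_range]
  have hpos : 0 < idx := by
    rcases Nat.eq_zero_or_pos idx with h0 | h0
    · rw [h0] at h; omega
    · exact h0
  have hc : 5040 / idx = c := by rw [← h]; exact Nat.mul_div_cancel_left c hpos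
  have hle : idx ≤ 5040 := Nat.le_of_dvd (by norm_num) (Dvd.intro _ h)
  refine ⟨by omega, ?_⟩
  simp only [decide_eq_true_eq]
  refine ⟨Nat.mod_eq_zero_of_dvd (Dvd.intro _ h), Nat.mod_eq_zero_of_dvd h7, ?_⟩
  rw [hc]
  exact Nat.mod_eq_zero_of_dvd h2

/-- Signed degrees: characters with value `±1`. -/
theorem filter_deg1 : (Nat.divisors 5040).filter (fun c => (c % 7 = 1 ∨ c % 7 = 6) ∧ c ≤ 70) =
    {1, 6, 8, 15, 20, 36, 48} := by decide +kernel

/-- Signed degrees: characters with value `±2`. -/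
theorem filter_deg2 : (Nat.divisors 5040).filter (fun c => (c % 7 = 2 ∨ c % 7 = 5) ∧ c ≤ 70) =
    {2, 5, 9, 12, 16, 30, 40} := by decide +kernel

theorem signed_mem1 (d : ℕ) (a : ℤ) (ha : a = 1 ∨ a = -1) (hd : d ∣ 5040) (hd1 : d ≠ 1)
    (hle : d ≤ 70) (hcong : (d : ℤ) ≡ a [ZMOD 7]) : a * d ∈ E1 := by
  have h1 : d ∈ (Nat.divisors 5040).filter (fun c => (c % 7 = 1 ∨ c % 7 = 6) ∧ c ≤ 70) := by
    rw [Finset.mem_filter, Nat.mem_divisors]
    refine ⟨⟨hd, by norm_num⟩, ?_, hle⟩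
    unfold Int.ModEq at hcong
    rcases ha with rfl | rfl <;> omega
  rw [filter_deg1] at h1
  simp only [Finset.mem_insert, Finset.mem_singleton] at h1
  unfold Int.ModEq at hcong
  unfold E1
  rcases ha with rfl | rfl <;>
    rcases h1 with rfl | rfl | rfl | rfl | rfl | rfl | rfl <;>
    first | omega | decide

theorem signed_mem2 (d : ℕ) (a : ℤ) (ha : a = 2 ∨ a = -2) (hd : d ∣ 5040)
    (hle : d ≤ 70) (hcong : (d : ℤ) ≡ a [ZMOD 7]) : a * d ∈ E2 := by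
  have h1 : d ∈ (Nat.divisors 5040).filter (fun c => (c % 7 = 2 ∨ c % 7 = 5) ∧ c ≤ 70) := by
    rw [Finset.mem_filter, Nat.mem_divisors]
    refine ⟨⟨hd, by norm_num⟩, ?_, hle⟩
    unfold Int.ModEq at hcong
    rcases ha with rfl | rfl <;> omega
  rw [filter_deg2] at h1
  simp only [Finset.mem_insert, Finset.mem_singleton] at h1
  unfold Int.ModEq at hcong
  unfold E2
  rcases ha with rfl | rfl <;>
    rcases h1 with rfl | rfl | rfl | rfl | rfl | rfl | rfl <;>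
    first | omega | decide

/-- Recovering degree and sign from the signed degree. -/
theorem recover1 (d : ℕ) (a : ℤ) (ha : a = 1 ∨ a = -1) (hd : d ≠ 0) :
    (a * d).natAbs = d ∧ (a * d).sign = a := by
  have hd' : (0 : ℤ) < d := by exact_mod_cast Nat.pos_of_ne_zero hd
  rcases ha with rfl | rfl
  · refine ⟨by simp, ?_⟩
    rw [one_mul]; exact Int.sign_eq_one_of_pos hd'
  · refine ⟨by simp, ?_⟩
    rw [neg_one_mul]; exact Int.sign_eq_neg_one_of_neg (by omega)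

theorem recover2 (d : ℕ) (a : ℤ) (ha : a = 2 ∨ a = -2) (hd : d ≠ 0) :
    (a * d).natAbs / 2 = d ∧ 2 * (a * d).sign = a := by
  have hd' : (0 : ℤ) < d := by exact_mod_cast Nat.pos_of_ne_zero hd
  rcases ha with rfl | rfl
  · constructor
    · have : ((2 : ℤ) * d).natAbs = 2 * d := by
        rw [Int.natAbs_mul]; simp
      rw [this]; omega
    · rw [Int.sign_eq_one_of_pos (by omega)]; norm_num
  · constructor
    · have : ((-2 : ℤ) * d).natAbs = 2 * d := by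
        rw [Int.natAbs_mul]; simp
      rw [this]; omega
    · rw [Int.sign_eq_neg_one_of_neg (by omega)]; norm_num

end Cfsg.Agent.Helper21.O5040
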