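import Mathlib
import Cfsg.Agent.Helper21.O5040b
import Cfsg.Agent.Helper21.O5040i
import Cfsg.Agent.S0995
import Cfsg.Agent.Helper8.PrincipalParity

set_option autoImplicit false
set_option linter.unusedSectionVars false
set_option maxHeartbeats 1000000

/-!
No simple group of order 5040: the self-centralizing case (`e = 6`), local structure and the
characters not vanishing at an element of order `7`.
-/

namespace Cfsg.Agent.Helper21.O5040

open Cfsg Cfsg.Agent.Helper24 Cfsg.Agent.Helper5 Cfsg.Agent.Helper5.CC Subgroup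
  Cfsg.Agent.Helper15.BrP Cfsg.Agent.Helper21.BrRat Cfsg.Agent.Helper21.BrInv

/-- A list sorted by a key, enumerating a finset. -/
theorem exists_sorted_list {α : Type*} [DecidableEq α] (k : α → ℤ) :
    ∀ (n : ℕ) (F : Finset α), F.card = n → ∃ L : List α, L.length = n ∧ L.Nodup ∧
      (∀ y, y ∈ F ↔ y ∈ L) ∧ L.Pairwise (fun a b => k a ≤ k b) := by
  intro n
  induction n with
  | zero =>
    intro F hF
    refine ⟨[], rfl, List.nodup_nil, ?_, List.Pairwise.nil⟩
    intro y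
    rw [Finset.card_eq_zero.mp hF]
    simp
  | succ n ih =>
    intro F hF
    have hne : F.Nonempty := Finset.card_pos.mp (by omega)
    obtain ⟨x1, hx1, hmin⟩ := Finset.exists_min_image F k hne
    have hF1 : (F.erase x1).card = n := by rw [Finset.card_erase_of_mem hx1, hF]; rfl
    obtain ⟨L, hlen, hnd, hmem, hsort⟩ := ih (F.erase x1) hF1
    refine ⟨x1 :: L, by rw [List.length_cons, hlen], ?_, ?_, ?_⟩
    · rw [List.nodup_cons]
      refine ⟨?_, hnd⟩
      intro h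
      have := (hmem x1).mpr h
      exact (Finset.notMem_erase x1 F) this
    · intro y
      rw [List.mem_cons]
      constructor
      · intro hy
        by_cases h : y = x1
        · exact Or.inl h
        · exact Or.inr ((hmem y).mp (Finset.mem_erase.mpr ⟨h, hy⟩))
      · rintro (rfl | h)
        · exact hx1
        · exact Finset.mem_of_mem_erase ((hmem y).mpr h)
    · rw [List.pairwise_cons]
      refine ⟨?_, hsort⟩
      intro y hy
      exact hmin y (Finset.mem_of_mem_erase ((hmem y).mpr hy))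

theorem list_eq_two {α : Type*} (L : List α) (h : L.length = 2) : ∃ a b, L = [a, b] := by
  match L, h with
  | [a, b], _ => exact ⟨a, b, rfl⟩

theorem list_eq_six {α : Type*} (L : List α) (h : L.length = 6) :
    ∃ a b c d e f, L = [a, b, c, d, e, f] := by
  match L, h with
  | [a, b, c, d, e, f], _ => exact ⟨a, b, c, d, e, f, rfl⟩

variable {G : Type*} [Group G] [Finite G] [IsSimpleGroup G]

/-- The local structure at the prime `7` in the self-centralizing case. -/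
theorem local7 (hcard : Nat.card G = 5040) (P : Sylow 7 G)
    (hP : Nat.card (P : Subgroup G) = 7)
    (hC : Nat.card (centralizer ((P : Subgroup G) : Set G)) = 7)
    (hn : Nat.card (Sylow 7 G) = 120) :
    ∃ x : G, x ∈ (P : Subgroup G) ∧ orderOf x = 7 ∧ (P : Subgroup G) = zpowers x ∧
      centralizer ({x} : Set G) = zpowers x ∧ Nat.card (centralizer ({x} : Set G)) = 7 ∧
      (∀ y : G, orderOf y = 7 → IsConj y x) := by
  obtain ⟨x, hxP, hx, hPz⟩ := exists_gen P hP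
  have hCx : centralizer ({x} : Set G) = centralizer ((P : Subgroup G) : Set G) := by
    rw [hPz, centralizer_zpowers]
  have hCx7 : Nat.card (centralizer ({x} : Set G)) = 7 := by rw [hCx, hC]
  have hle : zpowers x ≤ centralizer ({x} : Set G) := by
    rw [zpowers_le]
    rw [mem_centralizer_iff]
    intro h hh
    rw [Set.mem_singleton_iff] at hh
    rw [hh]
  have hCz : centralizer ({x} : Set G) = zpowers x := by
    symm
    apply Subgroup.eq_of_le_of_card_ge hle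
    rw [hCx7, Nat.card_zpowers, hx]
  refine ⟨x, hxP, hx, hPz, hCz, hCx7, ?_⟩
  obtain ⟨n, t, ht, -, hsyl, hform⟩ := Cfsg.Agent.S0995.result (perfect hcard) 7 x hx hCz
  rw [hcard, ← hsyl, hn] at hform
  have ht1 : t = 1 := by omega
  intro y hy
  rw [ht1] at ht
  have hsub := (Nat.card_eq_one_iff_unique.mp ht.symm).1
  have h1 := @Subsingleton.elim _ hsub
    (⟨ConjClasses.mk y, y, rfl, hy⟩ : {c : ConjClasses G // ∃ g : G, ConjClasses.mk g = c ∧
      orderOf g = 7}) ⟨ConjClasses.mk x, x, rfl, hx⟩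
  have h2 := congrArg Subtype.val h1
  exact ConjClasses.mk_eq_mk_iff_isConj.mp h2

theorem irrDeg_le (hcard : Nat.card G = 5040) (χ : IrrCharacter G) : irrDeg χ ≤ 70 := by
  classical
  have : Fintype (IrrCharacter G) := Fintype.ofFinite _
  have h2 := sum_irrDeg_sq_le hcard ({χ} : Finset (IrrCharacter G))
  rw [Finset.sum_singleton] at h2
  by_contra hlt
  push Not at hlt
  have : 71 ^ 2 ≤ irrDeg χ ^ 2 := Nat.pow_le_pow_left hlt 2
  omega

/-- Rational values at `x`: the basic relations. -/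
theorem ratData [Fintype G] [Fintype (IrrCharacter G)]
    [DecidableEq (IrrCharacter G)] (x : G) (hx : orderOf x = 7)
    (hCx7 : Nat.card (centralizer ({x} : Set G)) = 7)
    (hconj : ∀ y : G, orderOf y = 7 → IsConj y x) :
    ∃ (a : IrrCharacter G → ℤ) (F : Finset (IrrCharacter G)),
      (∀ ψ : IrrCharacter G, (ψ : G → ℂ) x = (a ψ : ℂ)) ∧
      (∀ ψ : IrrCharacter G, (irrDeg ψ : ℤ) ≡ a ψ [ZMOD 7]) ∧
      (∀ ψ, ψ ∈ F ↔ ψ ≠ trivIrr G ∧ a ψ ≠ 0) ∧
      ∑ ψ ∈ F, a ψ ^ 2 = 6 ∧ 1 + ∑ ψ ∈ F, a ψ * (irrDeg ψ : ℤ) = 0 := by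
  classical
  have hx1 : x ≠ 1 := by intro h; rw [h, orderOf_one] at hx; omega
  choose a ha using fun ψ : IrrCharacter G => exists_int_value 7 x hx hconj ψ
  have hval : ∀ ψ : IrrCharacter G, (ψ : G → ℂ) x = (a ψ : ℂ) := fun ψ => (ha ψ).1
  have hcong : ∀ ψ : IrrCharacter G, (irrDeg ψ : ℤ) ≡ a ψ [ZMOD 7] := fun ψ => by
    have := (ha ψ).2
    exact_mod_cast this
  have hsq : ∑ ψ : IrrCharacter G, a ψ ^ 2 = 7 := by
    have h := sum_irr_mul_conj x x
    rw [if_pos (IsConj.refl x), hCx7] at h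
    push_cast at h
    have h' : ((∑ ψ : IrrCharacter G, a ψ ^ 2 : ℤ) : ℂ) = ((7 : ℤ) : ℂ) := by
      push_cast
      rw [← h]
      refine Finset.sum_congr rfl fun ψ _ => ?_
      rw [hval ψ, map_intCast, pow_two]
    exact_mod_cast h'
  have hcol : ∑ ψ : IrrCharacter G, a ψ * (irrDeg ψ : ℤ) = 0 := by
    have h := sum_irr_mul_conj (1 : G) x
    rw [if_neg (by rw [isConj_one_right]; exact hx1)] at h
    have h' : ((∑ ψ : IrrCharacter G, a ψ * (irrDeg ψ : ℤ) : ℤ) : ℂ) = ((0 : ℤ) : ℂ) := by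
      push_cast
      rw [← h]
      refine Finset.sum_congr rfl fun ψ _ => ?_
      rw [hval ψ, map_intCast, irrDeg_spec, mul_comm]
    exact_mod_cast h'
  have hatriv : a (trivIrr G) = 1 := by
    have := hval (trivIrr G)
    rw [trivIrr_apply] at this
    exact_mod_cast this.symm
  have hdtriv : irrDeg (trivIrr G) = 1 := by rw [irrDeg_eq_one_iff]; rfl
  refine ⟨a, (Finset.univ.erase (trivIrr G)).filter (fun ψ => a ψ ≠ 0), hval, hcong, ?_, ?_, ?_⟩
  · intro ψ
    rw [Finset.mem_filter, Finset.mem_erase]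
    exact ⟨fun h => ⟨h.1.1, h.2⟩, fun h => ⟨⟨h.1, Finset.mem_univ _⟩, h.2⟩⟩
  · rw [Finset.sum_filter_of_ne]
    · have := Finset.add_sum_erase Finset.univ (fun ψ => a ψ ^ 2) (Finset.mem_univ (trivIrr G))
      rw [hsq, hatriv] at this
      linarith
    · intro ψ _ h hc
      apply h
      rw [hc]; norm_num
  · rw [Finset.sum_filter_of_ne]
    · have := Finset.add_sum_erase Finset.univ (fun ψ => a ψ * (irrDeg ψ : ℤ))
        (Finset.mem_univ (trivIrr G))
      rw [hcol, hatriv, hdtriv] at this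
      push_cast at this
      linarith
    · intro ψ _ h hc
      apply h
      rw [hc]; norm_num

/-- The signed degree. -/
noncomputable def sdeg (a : IrrCharacter G → ℤ) (ψ : IrrCharacter G) : ℤ := a ψ * (irrDeg ψ : ℤ)

/-- The two possible shapes of the set of characters not vanishing at `x`. -/
theorem charData7 (hcard : Nat.card G = 5040) [Fintype G] [Fintype (IrrCharacter G)]
    [DecidableEq (IrrCharacter G)] (x : G) (hx : orderOf x = 7)
    (hCx7 : Nat.card (centralizer ({x} : Set G)) = 7)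
    (hconj : ∀ y : G, orderOf y = 7 → IsConj y x) :
    ∃ a : IrrCharacter G → ℤ, (∀ ψ : IrrCharacter G, (ψ : G → ℂ) x = (a ψ : ℂ)) ∧
      ((∃ χ1 χ2 χ3 χ4 χ5 χ6 : IrrCharacter G,
          (trivIrr G :: [χ1, χ2, χ3, χ4, χ5, χ6]).Nodup ∧
          (∀ ψ, ψ ∉ trivIrr G :: [χ1, χ2, χ3, χ4, χ5, χ6] → a ψ = 0) ∧
          (∀ ψ ∈ [χ1, χ2, χ3, χ4, χ5, χ6], (a ψ = 1 ∨ a ψ = -1) ∧ sdeg a ψ ∈ E1) ∧
          sdeg a χ1 ≤ sdeg a χ2 ∧ sdeg a χ2 ≤ sdeg a χ3 ∧ sdeg a χ3 ≤ sdeg a χ4 ∧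
          sdeg a χ4 ≤ sdeg a χ5 ∧ sdeg a χ5 ≤ sdeg a χ6 ∧
          1 + sdeg a χ1 + sdeg a χ2 + sdeg a χ3 + sdeg a χ4 + sdeg a χ5 + sdeg a χ6 = 0) ∨
        (∃ χ0 χ1 χ2 : IrrCharacter G,
          (trivIrr G :: [χ0, χ1, χ2]).Nodup ∧
          (∀ ψ, ψ ∉ trivIrr G :: [χ0, χ1, χ2] → a ψ = 0) ∧
          (a χ0 = 2 ∨ a χ0 = -2) ∧ sdeg a χ0 ∈ E2 ∧
          (∀ ψ ∈ [χ1, χ2], (a ψ = 1 ∨ a ψ = -1) ∧ sdeg a ψ ∈ E1) ∧
          sdeg a χ1 ≤ sdeg a χ2 ∧ 1 + sdeg a χ0 + sdeg a χ1 + sdeg a χ2 = 0)) := by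
  classical
  obtain ⟨a, F, hval, hcong, hFmem, hFsq, hFcol⟩ := ratData x hx hCx7 hconj
  refine ⟨a, hval, ?_⟩
  have hFpos : ∀ ψ ∈ F, 1 ≤ a ψ ^ 2 := by
    intro ψ hψ
    have h0 := ((hFmem ψ).mp hψ).2
    have : 0 < a ψ ^ 2 := by positivity
    omega
  have hone : ∀ ψ : IrrCharacter G, 1 ≤ a ψ ^ 2 → a ψ ^ 2 < 4 → a ψ = 1 ∨ a ψ = -1 := by
    intro ψ h1 h2
    have h3 : -2 < a ψ := by nlinarith
    have h4 : a ψ < 2 := by nlinarith
    have h5 : a ψ ≠ 0 := by intro h; rw [h] at h1; norm_num at h1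
    omega
  have hE1 : ∀ ψ ∈ F, (a ψ = 1 ∨ a ψ = -1) → sdeg a ψ ∈ E1 := by
    intro ψ hψ h1
    exact signed_mem1 (irrDeg ψ) (a ψ) h1 (irrDeg_dvd hcard ψ)
      (irrDeg_ne_one hcard ψ ((hFmem ψ).mp hψ).1) (irrDeg_le hcard ψ) (hcong ψ)
  by_cases h2 : ∃ ψ₀ ∈ F, 4 ≤ a ψ₀ ^ 2
  · right
    obtain ⟨ψ₀, hψ₀, h4⟩ := h2
    have hle6 : a ψ₀ ^ 2 ≤ 6 := by
      rw [← hFsq]
      exact Finset.single_le_sum (f := fun ψ => a ψ ^ 2) (fun i _ => sq_nonneg (a i)) hψ₀
    have ha2 : a ψ₀ = 2 ∨ a ψ₀ = -2 := by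
      have h3 : -3 < a ψ₀ := by nlinarith
      have h5 : a ψ₀ < 3 := by nlinarith
      have h6 : a ψ₀ ≠ 0 := by intro h; rw [h] at h4; norm_num at h4
      have h7 : a ψ₀ ≠ 1 := by intro h; rw [h] at h4; norm_num at h4
      have h8 : a ψ₀ ≠ -1 := by intro h; rw [h] at h4; norm_num at h4
      omega
    have hsq4 : a ψ₀ ^ 2 = 4 := by rcases ha2 with h | h <;> rw [h] <;> norm_num
    have h8 := Finset.add_sum_erase F (fun ψ => a ψ ^ 2) hψ₀
    rw [hFsq, hsq4] at h8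
    have hF'sq : ∑ ψ ∈ F.erase ψ₀, a ψ ^ 2 = 2 := by linarith
    have hF'one : ∀ ψ ∈ F.erase ψ₀, a ψ = 1 ∨ a ψ = -1 := by
      intro ψ hψ
      apply hone ψ (hFpos ψ (Finset.mem_of_mem_erase hψ))
      have := Finset.single_le_sum (f := fun ψ => a ψ ^ 2) (fun i _ => sq_nonneg (a i)) hψ
      rw [hF'sq] at this
      omega
    have hF'card : (F.erase ψ₀).card = 2 := by
      have h1 : ∑ ψ ∈ F.erase ψ₀, a ψ ^ 2 = ∑ _ψ ∈ F.erase ψ₀, (1 : ℤ) := by
        refine Finset.sum_congr rfl fun ψ hψ => ?_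
        rcases hF'one ψ hψ with h | h <;> rw [h] <;> norm_num
      rw [hF'sq, Finset.sum_const, nsmul_eq_mul, mul_one] at h1
      exact_mod_cast h1.symm
    obtain ⟨L, hlen, hnd, hmem, hsort⟩ := exists_sorted_list (sdeg a) 2 (F.erase ψ₀) hF'card
    obtain ⟨χ1, χ2, rfl⟩ := list_eq_two L hlen
    have m1 : χ1 ∈ F.erase ψ₀ := (hmem χ1).mpr (by simp)
    have m2 : χ2 ∈ F.erase ψ₀ := (hmem χ2).mpr (by simp)
    have hsum : ∑ ψ ∈ F.erase ψ₀, a ψ * (irrDeg ψ : ℤ) = sdeg a χ1 + sdeg a χ2 := by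
      have hFl : F.erase ψ₀ = [χ1, χ2].toFinset := by
        ext y
        rw [hmem y, List.mem_toFinset]
      rw [hFl, List.sum_toFinset _ hnd]
      simp only [List.map_cons, List.map_nil, List.sum_cons, List.sum_nil, sdeg]
      ring
    have h9 := Finset.add_sum_erase F (fun ψ => a ψ * (irrDeg ψ : ℤ)) hψ₀
    rw [hsum] at h9
    refine ⟨ψ₀, χ1, χ2, ?_, ?_, ha2, ?_, ?_, ?_, ?_⟩
    · rw [List.nodup_cons, List.nodup_cons]
      refine ⟨?_, ?_, hnd⟩
      · intro h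
        rw [List.mem_cons] at h
        rcases h with h | h
        · exact ((hFmem ψ₀).mp hψ₀).1 h.symm
        · have := Finset.mem_of_mem_erase ((hmem _).mpr h)
          exact ((hFmem _).mp this).1 rfl
      · intro h
        have := (hmem _).mpr h
        exact (Finset.notMem_erase ψ₀ F) this
    · intro ψ hψ
      by_contra hne
      apply hψ
      by_cases ht : ψ = trivIrr G
      · rw [ht]; simp
      · have hψF : ψ ∈ F := (hFmem ψ).mpr ⟨ht, hne⟩
        by_cases h0 : ψ = ψ₀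
        · rw [h0]; simp
        · have := (hmem ψ).mp (Finset.mem_erase.mpr ⟨h0, hψF⟩)
          exact List.mem_cons_of_mem _ (List.mem_cons_of_mem _ this)
    · exact signed_mem2 (irrDeg ψ₀) (a ψ₀) ha2 (irrDeg_dvd hcard ψ₀) (irrDeg_le hcard ψ₀)
        (hcong ψ₀)
    · intro ψ hψ
      have hψ' := (hmem ψ).mpr hψ
      exact ⟨hF'one ψ hψ', hE1 ψ (Finset.mem_of_mem_erase hψ') (hF'one ψ hψ')⟩
    · rw [List.pairwise_cons] at hsort
      exact hsort.1 χ2 (by simp)
    · unfold sdeg at h9 ⊢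
      linarith
  · left
    push Not at h2
    have hFone : ∀ ψ ∈ F, a ψ = 1 ∨ a ψ = -1 := fun ψ hψ => hone ψ (hFpos ψ hψ) (h2 ψ hψ)
    have hFcard : F.card = 6 := by
      have h1 : ∑ ψ ∈ F, a ψ ^ 2 = ∑ _ψ ∈ F, (1 : ℤ) := by
        refine Finset.sum_congr rfl fun ψ hψ => ?_
        rcases hFone ψ hψ with h | h <;> rw [h] <;> norm_num
      rw [hFsq, Finset.sum_const, nsmul_eq_mul, mul_one] at h1
      exact_mod_cast h1.symm
    obtain ⟨L, hlen, hnd, hmem, hsort⟩ := exists_sorted_list (sdeg a) 6 F hFcard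
    obtain ⟨χ1, χ2, χ3, χ4, χ5, χ6, rfl⟩ := list_eq_six L hlen
    have hsum : ∑ ψ ∈ F, a ψ * (irrDeg ψ : ℤ) =
        sdeg a χ1 + sdeg a χ2 + sdeg a χ3 + sdeg a χ4 + sdeg a χ5 + sdeg a χ6 := by
      have hFl : F = [χ1, χ2, χ3, χ4, χ5, χ6].toFinset := by
        ext y
        rw [hmem y, List.mem_toFinset]
      rw [hFl, List.sum_toFinset _ hnd]
      simp only [List.map_cons, List.map_nil, List.sum_cons, List.sum_nil, sdeg]
      ring
    have h12 := List.rel_of_pairwise_cons hsort List.mem_cons_self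
    have hs2 := hsort.of_cons
    have h23 := List.rel_of_pairwise_cons hs2 List.mem_cons_self
    have hs3 := hs2.of_cons
    have h34 := List.rel_of_pairwise_cons hs3 List.mem_cons_self
    have hs4 := hs3.of_cons
    have h45 := List.rel_of_pairwise_cons hs4 List.mem_cons_self
    have hs5 := hs4.of_cons
    have h56 := List.rel_of_pairwise_cons hs5 List.mem_cons_self
    refine ⟨χ1, χ2, χ3, χ4, χ5, χ6, ?_, ?_, ?_, h12, h23, h34, h45, h56, ?_⟩
    · rw [List.nodup_cons]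
      refine ⟨?_, hnd⟩
      intro h
      have := (hmem _).mpr h
      exact ((hFmem _).mp this).1 rfl
    · intro ψ hψ
      by_contra hne
      apply hψ
      by_cases ht : ψ = trivIrr G
      · rw [ht]; simp
      · have hψF : ψ ∈ F := (hFmem ψ).mpr ⟨ht, hne⟩
        exact List.mem_cons_of_mem _ ((hmem ψ).mp hψF)
    · intro ψ hψ
      have hψ' := (hmem ψ).mpr hψ
      exact ⟨hFone ψ hψ', hE1 ψ hψ' (hFone ψ hψ')⟩
    · rw [hsum] at hFcol
      linarith

end Cfsg.Agent.Helper21.O5040
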