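import Mathlib
import Cfsg.Agent.Helper21.O5040g

set_option autoImplicit false
set_option linter.unusedSectionVars false
set_option maxHeartbeats 2000000

/-!
No simple group of order 5040: the self-centralizing case (`e = 6`), constraints at involutions.
-/

namespace Cfsg.Agent.Helper21.O5040

open Cfsg Cfsg.Agent.Helper24 Cfsg.Agent.Helper5 Cfsg.Agent.Helper5.CC Subgroup
  Cfsg.Agent.Helper15.BrP Cfsg.Agent.Helper5.ClassMul
  Cfsg.Agent.Helper21.BrInv Cfsg.Agent.Helper21.BrRat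

variable {G : Type*} [Group G] [Finite G] [IsSimpleGroup G]

/-- Data of a nontrivial irreducible character at an involution. -/
theorem invData7 (hcard : Nat.card G = 5040) (χ : IrrCharacter G) (hχ : χ ≠ trivIrr G) (t : G)
    (ht : orderOf t = 2) :
    ∃ m : ℕ, m < irrDeg χ ∧
      (χ : G → ℂ) t = ((2 * (m : ℤ) - (irrDeg χ : ℤ) : ℤ) : ℂ) ∧
      Dv (irrDeg χ) (centralizer ({t} : Set G)).index m := by
  have ht1 : t ≠ 1 := by intro h; rw [h, orderOf_one] at ht; omega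
  have hd1 := irrDeg_ne_one hcard χ hχ
  obtain ⟨d₀, m, hd', hm⟩ :=
    Cfsg.Agent.Helper8.char_involution (IsIrrCharacter.isCharacter χ.2) ht
  have hd8 : d₀ = irrDeg χ := by
    rw [irrDeg_spec] at hd'
    exact_mod_cast hd'.symm
  subst hd8
  have hχt : (χ : G → ℂ) t = ((2 * (m : ℤ) - (irrDeg χ : ℤ) : ℤ) : ℂ) := by
    rw [hm]; push_cast; ring
  have hle := int_abs_le χ t _ hχt
  have hne := int_ne_irrDeg χ hd1 t ht1 _ hχt
  have hd0 : irrDeg χ ≠ 0 := by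
    intro h
    have := irrDeg_dvd hcard χ
    rw [h] at this
    omega
  refine ⟨m, ?_, hχt, ?_⟩
  · have := abs_le.mp hle
    omega
  · unfold Dv
    exact centralChar_int χ t _ (irrDeg χ) hd0 hχt rfl

/-- The constraints satisfied by an involution `t`, in terms of a list `L` containing all the
nontrivial characters not vanishing at `x`. -/
theorem inv_cons (hcard : Nat.card G = 5040) [Fintype G] [Fintype (IrrCharacter G)]
    [DecidableEq (IrrCharacter G)] (x : G) (hx : orderOf x = 7)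
    (hCx7 : Nat.card (centralizer ({x} : Set G)) = 7)
    (a : IrrCharacter G → ℤ) (hval : ∀ ψ : IrrCharacter G, (ψ : G → ℂ) x = (a ψ : ℂ))
    (L : List (IrrCharacter G)) (hnd : (trivIrr G :: L).Nodup)
    (hzero : ∀ ψ, ψ ∉ trivIrr G :: L → a ψ = 0) (hdiv : ∀ ψ ∈ L, irrDeg ψ ∣ 720)
    (t : G) (ht : orderOf t = 2) :
    ∃ m : IrrCharacter G → ℕ,
      (∀ ψ ∈ L, m ψ < irrDeg ψ ∧ Dv (irrDeg ψ) (centralizer ({t} : Set G)).index (m ψ) ∧
        (ψ : G → ℂ) t = ((2 * (m ψ : ℤ) - (irrDeg ψ : ℤ) : ℤ) : ℂ)) ∧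
      Cons (L.map fun ψ => (irrDeg ψ, a ψ, m ψ)) (centralizer ({t} : Set G)).index := by
  classical
  have ht1 : t ≠ 1 := by intro h; rw [h, orderOf_one] at ht; omega
  rw [List.nodup_cons] at hnd
  obtain ⟨htrivL, hndL⟩ := hnd
  have hLne : ∀ ψ ∈ L, ψ ≠ trivIrr G := fun ψ hψ h => htrivL (h ▸ hψ)
  -- the data at `t`
  have hex : ∀ ψ : IrrCharacter G, ∃ m : ℕ, ψ ≠ trivIrr G → (m < irrDeg ψ ∧
      (ψ : G → ℂ) t = ((2 * (m : ℤ) - (irrDeg ψ : ℤ) : ℤ) : ℂ) ∧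
      Dv (irrDeg ψ) (centralizer ({t} : Set G)).index m) := by
    intro ψ
    by_cases h : ψ = trivIrr G
    · exact ⟨0, fun h' => absurd h h'⟩
    · obtain ⟨m, hm⟩ := invData7 hcard ψ h t ht
      exact ⟨m, fun _ => hm⟩
  choose m hm using hex
  refine ⟨m, fun ψ hψ => ⟨(hm ψ (hLne ψ hψ)).1, (hm ψ (hLne ψ hψ)).2.2, (hm ψ (hLne ψ hψ)).2.1⟩, ?_⟩
  set idx := (centralizer ({t} : Set G)).index with hidx
  have hidxC : idx * Nat.card (centralizer ({t} : Set G)) = 5040 := by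
    rw [← hcard]; exact Subgroup.index_mul_card _
  set S := L.toFinset with hS
  have htrivS : trivIrr G ∉ S := by rw [hS, List.mem_toFinset]; exact htrivL
  have hSmem : ∀ ψ, ψ ∈ S ↔ ψ ∈ L := fun ψ => List.mem_toFinset
  set u : IrrCharacter G → ℤ := fun ψ => 2 * (m ψ : ℤ) - (irrDeg ψ : ℤ) with hu
  have hut : ∀ ψ ∈ S, (ψ : G → ℂ) t = (u ψ : ℂ) := fun ψ hψ =>
    (hm ψ (hLne ψ ((hSmem ψ).mp hψ))).2.1
  have hvan : ∀ ψ, ψ ∉ insert (trivIrr G) S → (ψ : G → ℂ) x = 0 := by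
    intro ψ hψ
    rw [hval ψ, hzero ψ]
    · norm_num
    · intro h
      apply hψ
      rw [List.mem_cons] at h
      rcases h with h | h
      · rw [h]; exact Finset.mem_insert_self _ _
      · exact Finset.mem_insert_of_mem ((hSmem ψ).mpr h)
  have hnc : ¬ IsConj x t := by
    intro h
    obtain ⟨c, hc⟩ := isConj_iff.mp h
    have h1 := orderOf_injective (MulAut.conj c).toMonoidHom (MulAut.conj c).injective x
    simp only [MulEquiv.coe_toMonoidHom, MulAut.conj_apply] at h1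
    rw [hc, ht, hx] at h1
    omega
  -- splitting sums
  have hsplit : ∀ f : IrrCharacter G → ℂ, (∀ ψ, ψ ∉ insert (trivIrr G) S → f ψ = 0) →
      ∑ ψ, f ψ = f (trivIrr G) + ∑ ψ ∈ S, f ψ := by
    intro f hf
    rw [← Finset.sum_insert htrivS]
    symm
    apply Finset.sum_subset (Finset.subset_univ _)
    intro ψ _ hψ
    exact hf ψ hψ
  -- the linear relation
  have hlin : 1 + ∑ ψ ∈ S, a ψ * u ψ = 0 := by
    have h := sum_irr_mul_conj x t
    rw [if_neg hnc, hsplit _ (fun ψ hψ => by rw [hvan ψ hψ, zero_mul])] at h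
    rw [trivIrr_apply, trivIrr_apply, map_one, mul_one] at h
    have h' : ((1 + ∑ ψ ∈ S, a ψ * u ψ : ℤ) : ℂ) = ((0 : ℤ) : ℂ) := by
      push_cast
      rw [← h]
      congr 1
      refine Finset.sum_congr rfl fun ψ hψ => ?_
      rw [hval ψ, hut ψ hψ, map_intCast]
    exact_mod_cast h'
  -- second orthogonality
  have h2nd : ∑ ψ : IrrCharacter G, Complex.normSq ((ψ : G → ℂ) t) =
      (Nat.card (centralizer ({t} : Set G)) : ℝ) := by
    have := sum_irr_mul_conj t t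
    rw [if_pos (IsConj.refl t)] at this
    simp only [Complex.mul_conj] at this
    exact_mod_cast this
  have hpart : ∑ ψ ∈ insert (trivIrr G) S, Complex.normSq ((ψ : G → ℂ) t) =
      ((1 + ∑ ψ ∈ S, u ψ ^ 2 : ℤ) : ℝ) := by
    rw [Finset.sum_insert htrivS, trivIrr_apply, Complex.normSq_one]
    push_cast
    congr 1
    refine Finset.sum_congr rfl fun ψ hψ => ?_
    rw [hut ψ hψ, Complex.normSq_intCast]
    ring
  have hrest : ∑ ψ ∈ (insert (trivIrr G) S)ᶜ, Complex.normSq ((ψ : G → ℂ) t) =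
      (Nat.card (centralizer ({t} : Set G)) : ℝ) - ((1 + ∑ ψ ∈ S, u ψ ^ 2 : ℤ) : ℝ) := by
    rw [← h2nd, ← hpart, ← Finset.sum_add_sum_compl (insert (trivIrr G) S)]
    ring
  have hrest_nonneg : 0 ≤ ∑ ψ ∈ (insert (trivIrr G) S)ᶜ, Complex.normSq ((ψ : G → ℂ) t) :=
    Finset.sum_nonneg (fun ψ _ => Complex.normSq_nonneg _)
  have hle' : (1 + ∑ ψ ∈ S, u ψ ^ 2 : ℤ) ≤ (Nat.card (centralizer ({t} : Set G)) : ℤ) := by
    have : ((1 + ∑ ψ ∈ S, u ψ ^ 2 : ℤ) : ℝ) ≤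
        ((Nat.card (centralizer ({t} : Set G)) : ℤ) : ℝ) := by
      rw [hrest] at hrest_nonneg
      push_cast at hrest_nonneg ⊢
      linarith
    exact_mod_cast this
  have hidxC' : (idx : ℤ) * (Nat.card (centralizer ({t} : Set G)) : ℤ) = 5040 := by
    exact_mod_cast hidxC
  have hidx0 : (0 : ℤ) ≤ idx := by positivity
  have hidxpos : (0 : ℤ) < idx := by
    rcases hidx0.lt_or_eq with h | h
    · exact h
    · rw [← h] at hidxC'; norm_num at hidxC'
  have horth : (idx : ℤ) * (1 + ∑ ψ ∈ S, u ψ ^ 2) ≤ 5040 := by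
    calc (idx : ℤ) * (1 + ∑ ψ ∈ S, u ψ ^ 2)
        ≤ (idx : ℤ) * (Nat.card (centralizer ({t} : Set G)) : ℤ) :=
          mul_le_mul_of_nonneg_left hle' hidx0
      _ = 5040 := hidxC'
  -- the tight case
  have htight : (idx : ℤ) * (1 + ∑ ψ ∈ S, u ψ ^ 2) = 5040 →
      1 + ∑ ψ ∈ S, (irrDeg ψ : ℤ) * u ψ = 0 := by
    intro heq
    have h1 : (1 + ∑ ψ ∈ S, u ψ ^ 2 : ℤ) = (Nat.card (centralizer ({t} : Set G)) : ℤ) := by
      have := heq.trans hidxC'.symm
      exact mul_left_cancel₀ hidxpos.ne' this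
    have hrest0 : ∑ ψ ∈ (insert (trivIrr G) S)ᶜ, Complex.normSq ((ψ : G → ℂ) t) = 0 := by
      rw [hrest, h1]
      push_cast
      ring
    have hvanish : ∀ ψ, ψ ∉ insert (trivIrr G) S → (ψ : G → ℂ) t = 0 := by
      intro ψ hψ
      have := (Finset.sum_eq_zero_iff_of_nonneg (fun ψ _ => Complex.normSq_nonneg _)).mp hrest0 ψ
        (Finset.mem_compl.mpr hψ)
      exact Complex.normSq_eq_zero.mp this
    have hcol := sum_irr_mul_conj (1 : G) t
    rw [if_neg (by rw [isConj_one_right]; exact ht1),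
      hsplit _ (fun ψ hψ => by rw [hvanish ψ hψ, map_zero, mul_zero])] at hcol
    rw [trivIrr_apply, trivIrr_apply, map_one, mul_one] at hcol
    have h' : ((1 + ∑ ψ ∈ S, (irrDeg ψ : ℤ) * u ψ : ℤ) : ℂ) = ((0 : ℤ) : ℂ) := by
      push_cast
      rw [← hcol]
      congr 1
      refine Finset.sum_congr rfl fun ψ hψ => ?_
      rw [irrDeg_spec, hut ψ hψ, map_intCast]
    exact_mod_cast h'
  -- class multiplication
  set N₀ := Nat.card {b : G // IsConj t b ∧ IsConj t (b⁻¹ * x)} with hN₀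
  have hN₀le : N₀ ≤ 7 := by
    have := card_factorizations_le x t ht
    rwa [hCx7] at this
  have hmul : (N₀ : ℂ) = (Nat.card G : ℂ)⁻¹ * ∑ ψ : IrrCharacter G,
      centralChar (ψ : G → ℂ) t * centralChar (ψ : G → ℂ) t *
        ((ψ : G → ℂ) 1 * (starRingEnd ℂ) ((ψ : G → ℂ) x)) := by
    rw [hN₀, ← conv_classIndicator_apply, conv_classIndicator_eq]
  rw [hsplit _ (fun ψ hψ => by rw [hvan ψ hψ, map_zero, mul_zero, mul_zero])] at hmul
  simp only [centralChar_def] at hmul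
  rw [trivIrr_apply, trivIrr_apply, trivIrr_apply, map_one, hcard, ← hidx] at hmul
  have hSdiv : ∀ ψ ∈ S, irrDeg ψ ∣ 720 := fun ψ hψ => hdiv ψ ((hSmem ψ).mp hψ)
  have hSpos : ∀ ψ ∈ S, irrDeg ψ ≠ 0 := by
    intro ψ hψ h
    have := hSdiv ψ hψ
    rw [h] at this
    omega
  have hterm : ∀ ψ ∈ S, (idx : ℂ) * (ψ : G → ℂ) t / (ψ : G → ℂ) 1 *
      ((idx : ℂ) * (ψ : G → ℂ) t / (ψ : G → ℂ) 1) *
      ((ψ : G → ℂ) 1 * (starRingEnd ℂ) ((ψ : G → ℂ) x)) =
      (idx : ℂ) ^ 2 * (((a ψ * u ψ ^ 2 * ((720 / irrDeg ψ : ℕ) : ℤ) : ℤ) : ℂ) / 720) := by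
    intro ψ hψ
    obtain ⟨k, hk⟩ := hSdiv ψ hψ
    have hd0 : (irrDeg ψ : ℂ) ≠ 0 := by exact_mod_cast hSpos ψ hψ
    have hk' : 720 / irrDeg ψ = k := by
      rw [hk]; exact Nat.mul_div_cancel_left k (Nat.pos_of_ne_zero (hSpos ψ hψ))
    have hkC : (720 : ℂ) = (irrDeg ψ : ℂ) * (k : ℂ) := by exact_mod_cast hk
    have hk0 : (k : ℂ) ≠ 0 := by
      intro h
      rw [h, mul_zero] at hkC
      norm_num at hkC
    rw [irrDeg_spec, hut ψ hψ, hval ψ, map_intCast, hk', hkC]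
    push_cast
    field_simp
  rw [Finset.sum_congr rfl hterm, ← Finset.mul_sum, ← Finset.sum_div] at hmul
  have hmulZ : (N₀ : ℤ) * 5040 * 720 = (idx : ℤ) ^ 2 *
      (720 + ∑ ψ ∈ S, a ψ * u ψ ^ 2 * ((720 / irrDeg ψ : ℕ) : ℤ)) := by
    have h' : (((N₀ : ℤ) * 5040 * 720 : ℤ) : ℂ) = (((idx : ℤ) ^ 2 *
        (720 + ∑ ψ ∈ S, a ψ * u ψ ^ 2 * ((720 / irrDeg ψ : ℕ) : ℤ)) : ℤ) : ℂ) := by
      push_cast
      rw [hmul]
      push_cast
      field_simp
    exact_mod_cast h'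
  -- assemble
  unfold Cons
  simp only [List.map_map, Function.comp_def, u3]
  have conv : ∀ g : IrrCharacter G → ℤ, (L.map g).sum = ∑ ψ ∈ S, g ψ := fun g =>
    (List.sum_toFinset g hndL).symm
  rw [conv, conv, conv, conv]
  exact ⟨hlin, horth, htight, N₀, Finset.mem_range.mpr (by omega), hmulZ⟩

end Cfsg.Agent.Helper21.O5040
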