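import Mathlib
import Cfsg.Agent.Helper21.O5040h
import Cfsg.Agent.Helper21.DihRes

set_option autoImplicit false
set_option linter.unusedSectionVars false
set_option maxHeartbeats 1000000

/-!
No simple group of order 5040: the self-centralizing case (`e = 6`), the restriction bound for
an involution of `N(P)`.
-/

namespace Cfsg.Agent.Helper21.O5040

open Cfsg Cfsg.Agent.Helper24 Cfsg.Agent.Helper5 Subgroup
  Cfsg.Agent.Helper15.BrP Cfsg.Agent.Helper21.BrInv Cfsg.Agent.Helper21.BrRat
  Cfsg.Agent.Helper21.DihRes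

variable {G : Type*} [Group G] [Finite G] [IsSimpleGroup G]

/-- An involution normalizing the self-centralizing `P = ⟨x⟩` inverts it. -/
theorem invol_inverts (x : G) (hx : orderOf x = 7)
    (hCz : centralizer ({x} : Set G) = zpowers x) (t : G) (ht : orderOf t = 2)
    (htN : t ∈ normalizer ((zpowers x : Subgroup G) : Set G)) (c : G) (hc : c ∈ zpowers x) :
    t * c * t⁻¹ = c⁻¹ := by
  have ht2 : t * t = 1 := by
    have := pow_orderOf_eq_one t
    rwa [ht, pow_two] at this
  have htinv : t⁻¹ = t := inv_eq_of_mul_eq_one_left ht2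
  have hcard : Nat.card (zpowers x) = 7 := by rw [Nat.card_zpowers, hx]
  have hc' : t * c * t⁻¹ ∈ zpowers x := (mem_normalizer_iff.mp htN c).mp hc
  have hcomm : ∀ a ∈ zpowers x, ∀ b ∈ zpowers x, a * b = b * a := by
    intro a ha b hb
    obtain ⟨i, rfl⟩ := mem_zpowers_iff.mp ha
    obtain ⟨j, rfl⟩ := mem_zpowers_iff.mp hb
    exact zpow_mul_comm x i j
  set w := c * (t * c * t⁻¹) with hw
  have hwP : w ∈ zpowers x := Subgroup.mul_mem _ hc hc'
  have htw : t * w * t⁻¹ = w := by
    have hc'' : t * c * t ∈ zpowers x := by rw [htinv] at hc'; exact hc'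
    rw [hw, htinv]
    have e : t * (c * (t * c * t)) * t = (t * c * t) * c * (t * t) := by group
    rw [e, ht2, mul_one]
    exact hcomm (t * c * t) hc'' c hc
  by_cases hw1 : w = 1
  · rw [hw] at hw1
    exact (eq_inv_of_mul_eq_one_right hw1)
  · exfalso
    -- `w` generates `P`, hence `t ∈ C(w) = P`
    have hwz : zpowers w = zpowers x := by
      apply Subgroup.eq_of_le_of_card_ge (zpowers_le.mpr hwP)
      rw [hcard, Nat.card_zpowers]
      have h1 : orderOf w ∣ 7 := by
        have := Subgroup.orderOf_dvd_natCard _ hwP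
        rwa [hcard] at this
      rcases (Nat.dvd_prime (by norm_num : Nat.Prime 7)).mp h1 with h | h
      · exact absurd (orderOf_eq_one_iff.mp h) hw1
      · rw [h]
    have htC : t ∈ centralizer ({w} : Set G) := by
      rw [mem_centralizer_iff]
      intro h hh
      rw [Set.mem_singleton_iff] at hh
      subst hh
      exact (mul_inv_eq_iff_eq_mul.mp htw).symm
    rw [← centralizer_zpowers, hwz, centralizer_zpowers, hCz] at htC
    have := Subgroup.orderOf_dvd_natCard _ htC
    rw [hcard, ht] at this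
    omega

/-- All the elements of the coset `t P` are conjugate to `t`. -/
theorem isConj_invol_mul (x : G) (hx : orderOf x = 7)
    (hCz : centralizer ({x} : Set G) = zpowers x) (t : G) (ht : orderOf t = 2)
    (htN : t ∈ normalizer ((zpowers x : Subgroup G) : Set G)) (c : G) (hc : c ∈ zpowers x) :
    IsConj t (t * c) := by
  have hcard : Nat.card (zpowers x) = 7 := by rw [Nat.card_zpowers, hx]
  have hc7 : c ^ 7 = 1 := by
    have h1 : orderOf c ∣ 7 := by
      have := Subgroup.orderOf_dvd_natCard _ hc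
      rwa [hcard] at this
    exact orderOf_dvd_iff_pow_eq_one.mp h1
  set b := c ^ 4 with hb
  have hbP : b ∈ zpowers x := Subgroup.pow_mem _ hc 4
  have hb2 : b * b = c := by
    rw [hb, ← pow_add]
    calc c ^ (4 + 4) = c ^ 7 * c := by group
      _ = c := by rw [hc7, one_mul]
  have hinv := invol_inverts x hx hCz t ht htN b hbP
  -- `t b = b⁻¹ t`
  have h1 : t * b = b⁻¹ * t := mul_inv_eq_iff_eq_mul.mp hinv
  rw [isConj_iff]
  refine ⟨b⁻¹, ?_⟩
  rw [inv_inv, ← h1, mul_assoc, hb2]

/-- The restriction bound for an involution of `N(P)`. -/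
theorem restr_bound (x : G) (hx : orderOf x = 7)
    (hCz : centralizer ({x} : Set G) = zpowers x)
    (hconj : ∀ y : G, orderOf y = 7 → IsConj y x) (a : IrrCharacter G → ℤ)
    (hval : ∀ ψ : IrrCharacter G, (ψ : G → ℂ) x = (a ψ : ℂ)) (t : G) (ht : orderOf t = 2)
    (htN : t ∈ normalizer ((zpowers x : Subgroup G) : Set G)) (ψ : IrrCharacter G) (u : ℤ)
    (hu : (ψ : G → ℂ) t = (u : ℂ)) : 7 * |u| ≤ (irrDeg ψ : ℤ) + 6 * a ψ := by
  classical
  have ht2 : t * t = 1 := by
    have := pow_orderOf_eq_one t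
    rwa [ht, pow_two] at this
  have hcard : Nat.card (zpowers x) = 7 := by rw [Nat.card_zpowers, hx]
  have htP : t ∉ zpowers x := by
    intro h
    have := Subgroup.orderOf_dvd_natCard _ h
    rw [hcard, ht] at this
    omega
  have hnorm : zpowers t ≤ normalizer ((zpowers x : Subgroup G) : Set G) := zpowers_le.mpr htN
  have : Fintype (zpowers x) := Fintype.ofFinite _
  have : Fintype ↥(zpowers t ⊔ zpowers x) := Fintype.ofFinite _
  obtain ⟨hsum, hcardD⟩ := sum_dihedral (ψ : G → ℂ) (zpowers x) t ht2 htP hnorm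
  -- the sum over `P`
  have hP1 : ∑ c : zpowers x, (ψ : G → ℂ) c = ((irrDeg ψ : ℤ) + 6 * a ψ : ℤ) := by
    rw [← Finset.add_sum_erase Finset.univ _ (Finset.mem_univ (1 : zpowers x))]
    have hterm : ∀ c ∈ (Finset.univ : Finset (zpowers x)).erase 1,
        (ψ : G → ℂ) (c : G) = (a ψ : ℂ) := by
      intro c hc
      have hc1 : c ≠ 1 := Finset.ne_of_mem_erase hc
      have h1 : orderOf (c : G) ∣ 7 := by
        have := Subgroup.orderOf_dvd_natCard _ c.2
        rwa [hcard] at this
      have h7 : orderOf (c : G) = 7 := by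
        rcases (Nat.dvd_prime (by norm_num : Nat.Prime 7)).mp h1 with h | h
        · exfalso
          apply hc1
          apply Subtype.ext
          exact orderOf_eq_one_iff.mp h
        · exact h
      rw [irr_apply_of_isConj ψ (hconj _ h7), hval]
    rw [Finset.sum_congr rfl hterm, Finset.sum_const, Finset.card_erase_of_mem (Finset.mem_univ _),
      Finset.card_univ, ← Nat.card_eq_fintype_card, hcard, OneMemClass.coe_one, irrDeg_spec]
    push_cast
    ring
  have hP2 : ∑ c : zpowers x, (ψ : G → ℂ) (t * c) = ((7 * u : ℤ) : ℂ) := by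
    have hterm : ∀ c ∈ (Finset.univ : Finset (zpowers x)), (ψ : G → ℂ) (t * c) = (u : ℂ) := by
      intro c _
      rw [← irr_apply_of_isConj ψ (isConj_invol_mul x hx hCz t ht htN c c.2), hu]
    rw [Finset.sum_congr rfl hterm, Finset.sum_const, Finset.card_univ,
      ← Nat.card_eq_fintype_card, hcard]
    push_cast
    ring
  obtain ⟨mH, mK, h1, h2, hle⟩ := sum_subgroup_mono ψ (zpowers x) (zpowers t ⊔ zpowers x)
    le_sup_right
  rw [hP1, hcard] at h1
  rw [hsum, hP1, hP2, hcardD, hcard] at h2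
  have h1' : (irrDeg ψ : ℤ) + 6 * a ψ = (mH : ℤ) * 7 := by exact_mod_cast h1
  have h2' : (irrDeg ψ : ℤ) + 6 * a ψ + 7 * u = (mK : ℤ) * 14 := by
    have : (((irrDeg ψ : ℤ) + 6 * a ψ + 7 * u : ℤ) : ℂ) = (((mK : ℤ) * 14 : ℤ) : ℂ) := by
      push_cast
      push_cast at h2
      rw [h2]
    exact_mod_cast this
  have hle' : (mK : ℤ) ≤ mH := by exact_mod_cast hle
  have hmK0 : (0 : ℤ) ≤ mK := by positivity
  have hu' : |u| ≤ (mH : ℤ) := abs_le.mpr ⟨by omega, by omega⟩
  omega

end Cfsg.Agent.Helper21.O5040
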