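import Mathlib
import Cfsg.Agent.Helper21.O5040i

set_option autoImplicit false

/-!
No simple group of order 5040: interfaces to the search statements.
-/

namespace Cfsg.Agent.Helper21.O5040

theorem NoT6.elim {e1 e2 e3 e4 e5 e6 : ℤ} (h : NoT6 e1 e2 e3 e4 e5 e6) (idx : ℕ)
    (hidx : idx ∈ idxT) (m1 m2 m3 m4 m5 m6 : ℕ)
    (l1 : m1 < e1.natAbs) (l2 : m2 < e2.natAbs) (l3 : m3 < e3.natAbs) (l4 : m4 < e4.natAbs)
    (l5 : m5 < e5.natAbs) (l6 : m6 < e6.natAbs)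
    (v1 : Dv e1.natAbs idx m1) (v2 : Dv e2.natAbs idx m2) (v3 : Dv e3.natAbs idx m3)
    (v4 : Dv e4.natAbs idx m4) (v5 : Dv e5.natAbs idx m5) (v6 : Dv e6.natAbs idx m6)
    (b1 : TB e1.natAbs e1.sign m1) (b2 : TB e2.natAbs e2.sign m2) (b3 : TB e3.natAbs e3.sign m3)
    (b4 : TB e4.natAbs e4.sign m4) (b5 : TB e5.natAbs e5.sign m5) (b6 : TB e6.natAbs e6.sign m6)
    (hC : Cons [(e1.natAbs, e1.sign, m1), (e2.natAbs, e2.sign, m2), (e3.natAbs, e3.sign, m3),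
      (e4.natAbs, e4.sign, m4), (e5.natAbs, e5.sign, m5), (e6.natAbs, e6.sign, m6)] idx) :
    False := by
  have horth := hC.2.1
  simp only [List.map_cons, List.map_nil, List.sum_cons, List.sum_nil, u3] at horth
  have hQ : Q idx (sq e1.natAbs m1 + sq e2.natAbs m2 + sq e3.natAbs m3 + sq e4.natAbs m4 +
      sq e5.natAbs m5 + sq e6.natAbs m6) := by
    unfold Q sq
    convert horth using 2
    ring
  have n1 := sq_nonneg' e1.natAbs m1
  have n2 := sq_nonneg' e2.natAbs m2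
  have n3 := sq_nonneg' e3.natAbs m3
  have n4 := sq_nonneg' e4.natAbs m4
  have n5 := sq_nonneg' e5.natAbs m5
  have n6 := sq_nonneg' e6.natAbs m6
  exact h idx hidx m1 (Finset.mem_range.mpr l1) v1 b1 (Q_of_le idx _ _ (by linarith) hQ)
    m2 (Finset.mem_range.mpr l2) v2 b2 (Q_of_le idx _ _ (by linarith) hQ)
    m3 (Finset.mem_range.mpr l3) v3 b3 (Q_of_le idx _ _ (by linarith) hQ)
    m4 (Finset.mem_range.mpr l4) v4 b4 (Q_of_le idx _ _ (by linarith) hQ)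
    m5 (Finset.mem_range.mpr l5) v5 b5 (Q_of_le idx _ _ (by linarith) hQ)
    m6 (Finset.mem_range.mpr l6) v6 b6 hC

theorem noZ6_elim (idx : ℕ) (hidx : idx ∈ ([7, 21, 35, 63, 105, 315] : List ℕ))
    (m1 m2 m3 m4 m5 m6 : ℕ)
    (l1 : m1 < 20) (l2 : m2 < 20) (l3 : m3 < 6) (l4 : m4 < 15) (l5 : m5 < 15) (l6 : m6 < 15)
    (v1 : Dv 20 idx m1) (v2 : Dv 20 idx m2) (v3 : Dv 6 idx m3)
    (v4 : Dv 15 idx m4) (v5 : Dv 15 idx m5) (v6 : Dv 15 idx m6)
    (hC : Cons [(20, -1, m1), (20, -1, m2), (6, -1, m3), (15, 1, m4), (15, 1, m5), (15, 1, m6)]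
      idx) : False := by
  have horth := hC.2.1
  simp only [List.map_cons, List.map_nil, List.sum_cons, List.sum_nil, u3] at horth
  have hQ : Q idx (sq 20 m1 + sq 20 m2 + sq 6 m3 + sq 15 m4 + sq 15 m5 + sq 15 m6) := by
    unfold Q sq
    convert horth using 2
    push_cast
    ring
  have n1 := sq_nonneg' 20 m1
  have n2 := sq_nonneg' 20 m2
  have n3 := sq_nonneg' 6 m3
  have n4 := sq_nonneg' 15 m4
  have n5 := sq_nonneg' 15 m5
  have n6 := sq_nonneg' 15 m6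
  exact noZ6 idx hidx m1 (Finset.mem_range.mpr l1) v1 (Q_of_le idx _ _ (by linarith) hQ)
    m2 (Finset.mem_range.mpr l2) v2 (Q_of_le idx _ _ (by linarith) hQ)
    m3 (Finset.mem_range.mpr l3) v3 (Q_of_le idx _ _ (by linarith) hQ)
    m4 (Finset.mem_range.mpr l4) v4 (Q_of_le idx _ _ (by linarith) hQ)
    m5 (Finset.mem_range.mpr l5) v5 (Q_of_le idx _ _ (by linarith) hQ)
    m6 (Finset.mem_range.mpr l6) v6 hC

theorem NoT3.elim {f e1 e2 : ℤ} (h : NoT3 f e1 e2) (idx : ℕ) (hidx : idx ∈ idxT) (m0 m1 m2 : ℕ)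
    (l0 : m0 < f.natAbs / 2) (l1 : m1 < e1.natAbs) (l2 : m2 < e2.natAbs)
    (v0 : Dv (f.natAbs / 2) idx m0) (v1 : Dv e1.natAbs idx m1) (v2 : Dv e2.natAbs idx m2)
    (b0 : TB (f.natAbs / 2) (2 * f.sign) m0) (b1 : TB e1.natAbs e1.sign m1)
    (b2 : TB e2.natAbs e2.sign m2)
    (hC : Cons [(f.natAbs / 2, 2 * f.sign, m0), (e1.natAbs, e1.sign, m1),
      (e2.natAbs, e2.sign, m2)] idx) : False :=
  h idx hidx m0 (Finset.mem_range.mpr l0) v0 b0 m1 (Finset.mem_range.mpr l1) v1 b1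
    m2 (Finset.mem_range.mpr l2) v2 b2 hC

end Cfsg.Agent.Helper21.O5040
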