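import Mathlib
import Cfsg.Agent.Helper21.O5040j
import Cfsg.Agent.Helper21.O5040l

set_option autoImplicit false
set_option linter.unusedSectionVars false
set_option maxHeartbeats 2000000

/-!
No simple group of order 5040: the self-centralizing case (`e = 6`), assembly.
-/

namespace Cfsg.Agent.Helper21.O5040

open Cfsg Cfsg.Agent.Helper24 Cfsg.Agent.Helper5 Subgroup
  Cfsg.Agent.Helper15.BrP Cfsg.Agent.Helper21.BrInv Cfsg.Agent.Helper21.BrRat

variable {G : Type*} [Group G] [Finite G] [IsSimpleGroup G]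

theorem natAbs_dvd_E1 : ∀ e ∈ E1, e.natAbs ∣ 720 := by decide

theorem natAbs_dvd_E2 : ∀ e ∈ E2, e.natAbs / 2 ∣ 720 := by decide

/-- No involution centralizes an element of order `7`. -/
theorem seven_dvd_index (hcard : Nat.card G = 5040) (x : G)
    (hCz : centralizer ({x} : Set G) = zpowers x) (hx : orderOf x = 7)
    (hconj : ∀ y : G, orderOf y = 7 → IsConj y x) (t : G) (ht : orderOf t = 2) :
    7 ∣ (centralizer ({t} : Set G)).index := by
  have hidxC : (centralizer ({t} : Set G)).index * Nat.card (centralizer ({t} : Set G)) = 5040 := by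
    rw [← hcard]; exact Subgroup.index_mul_card _
  by_contra h7
  have h7C : 7 ∣ Nat.card (centralizer ({t} : Set G)) := by
    have h1 : 7 ∣ (centralizer ({t} : Set G)).index * Nat.card (centralizer ({t} : Set G)) := by
      rw [hidxC]; norm_num
    exact ((Nat.Prime.dvd_mul (by norm_num)).mp h1).resolve_left h7
  obtain ⟨y, hy⟩ := exists_prime_orderOf_dvd_card' 7 h7C
  have hy' : orderOf (y : G) = 7 := by rw [Subgroup.orderOf_coe]; exact hy
  have hty : t * (y : G) = (y : G) * t := (mem_centralizer_iff.mp y.2) t rfl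
  obtain ⟨g, hg⟩ := isConj_iff.mp (hconj _ hy')
  have ht' : g * t * g⁻¹ ∈ centralizer ({x} : Set G) := by
    rw [mem_centralizer_iff]
    intro h hh
    rw [Set.mem_singleton_iff] at hh
    subst hh
    rw [← hg]
    have e1 : g * (y : G) * g⁻¹ * (g * t * g⁻¹) = g * ((y : G) * t) * g⁻¹ := by group
    have e2 : g * t * g⁻¹ * (g * (y : G) * g⁻¹) = g * (t * (y : G)) * g⁻¹ := by group
    rw [e1, e2, hty]
  rw [hCz] at ht'
  have h1 := Subgroup.orderOf_dvd_natCard _ ht'
  rw [Nat.card_zpowers, hx] at h1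
  have h2 := orderOf_injective (MulAut.conj g).toMonoidHom (MulAut.conj g).injective t
  simp only [MulEquiv.coe_toMonoidHom, MulAut.conj_apply] at h2
  rw [h2, ht] at h1
  omega

/-- The index of the centralizer of an involution lies in `idxT`. -/
theorem index_mem_idxT (hcard : Nat.card G = 5040) (x : G)
    (hCz : centralizer ({x} : Set G) = zpowers x) (hx : orderOf x = 7)
    (hconj : ∀ y : G, orderOf y = 7 → IsConj y x) (t : G) (ht : orderOf t = 2) :
    (centralizer ({t} : Set G)).index ∈ idxT := by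
  have hidxC : (centralizer ({t} : Set G)).index * Nat.card (centralizer ({t} : Set G)) = 5040 := by
    rw [← hcard]; exact Subgroup.index_mul_card _
  refine mem_idxT _ _ hidxC (seven_dvd_index hcard x hCz hx hconj t ht) ?_
  have htC : t ∈ centralizer ({t} : Set G) := by
    rw [mem_centralizer_iff]
    intro h hh
    rw [Set.mem_singleton_iff] at hh
    rw [hh]
  have := Subgroup.orderOf_dvd_natCard _ htC
  rwa [ht] at this

theorem irrDeg_ne_zero (hcard : Nat.card G = 5040) (ψ : IrrCharacter G) : irrDeg ψ ≠ 0 := by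
  intro h
  have := irrDeg_dvd hcard ψ
  rw [h] at this
  omega

theorem rec1 (hcard : Nat.card G = 5040) (a : IrrCharacter G → ℤ) (ψ : IrrCharacter G)
    (h : a ψ = 1 ∨ a ψ = -1) :
    (sdeg a ψ).natAbs = irrDeg ψ ∧ (sdeg a ψ).sign = a ψ :=
  recover1 (irrDeg ψ) (a ψ) h (irrDeg_ne_zero hcard ψ)

theorem rec2 (hcard : Nat.card G = 5040) (a : IrrCharacter G → ℤ) (ψ : IrrCharacter G)
    (h : a ψ = 2 ∨ a ψ = -2) :
    (sdeg a ψ).natAbs / 2 = irrDeg ψ ∧ 2 * (sdeg a ψ).sign = a ψ :=
  recover2 (irrDeg ψ) (a ψ) h (irrDeg_ne_zero hcard ψ)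

theorem filter_idxZ : (Nat.divisors 315).filter (fun c => 7 ∣ c) = {7, 21, 35, 63, 105, 315} := by
  decide +kernel

/-- The self-centralizing case. -/
theorem case_e6 (hcard : Nat.card G = 5040) (P : Sylow 7 G)
    (hP : Nat.card (P : Subgroup G) = 7)
    (hC : Nat.card (centralizer ((P : Subgroup G) : Set G)) = 7)
    (hN : Nat.card (normalizer ((P : Subgroup G) : Set G)) = 42)
    (hn : Nat.card (Sylow 7 G) = 120) : False := by
  classical
  have : Fintype G := Fintype.ofFinite G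
  have : Fintype (IrrCharacter G) := Fintype.ofFinite _
  obtain ⟨x, hxP, hx, hPz, hCz, hCx7, hconj⟩ := local7 hcard P hP hC hn
  obtain ⟨a, hval, hshape⟩ := charData7 hcard x hx hCx7 hconj
  -- an involution of `N(P)`
  have : Fact (Nat.Prime 2) := ⟨by norm_num⟩
  obtain ⟨t', ht'⟩ := exists_prime_orderOf_dvd_card' 2
    (show 2 ∣ Nat.card (normalizer ((P : Subgroup G) : Set G)) by rw [hN]; norm_num)
  have ht : orderOf (t' : G) = 2 := by rw [Subgroup.orderOf_coe]; exact ht'
  have htN : (t' : G) ∈ normalizer ((zpowers x : Subgroup G) : Set G) := by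
    rw [← hPz]; exact t'.2
  generalize (t' : G) = t at ht htN
  have hidxT := index_mem_idxT hcard x hCz hx hconj t ht
  have hTB : ∀ (ψ : IrrCharacter G) (m : ℕ),
      (ψ : G → ℂ) t = ((2 * (m : ℤ) - (irrDeg ψ : ℤ) : ℤ) : ℂ) → TB (irrDeg ψ) (a ψ) m := by
    intro ψ m h
    unfold TB
    exact restr_bound x hx hCz hconj a hval t ht htN ψ _ h
  rcases hshape with ⟨χ1, χ2, χ3, χ4, χ5, χ6, hnd, hzero, hprop, h12, h23, h34, h45, h56, hsum⟩ |
    ⟨χ0, χ1, χ2, hnd, hzero, ha0, hf, hprop, h12, hsum⟩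
  · -- six characters with values `±1`
    have p1 := hprop χ1 (by simp)
    have p2 := hprop χ2 (by simp)
    have p3 := hprop χ3 (by simp)
    have p4 := hprop χ4 (by simp)
    have p5 := hprop χ5 (by simp)
    have p6 := hprop χ6 (by simp)
    have r1 := rec1 hcard a χ1 p1.1
    have r2 := rec1 hcard a χ2 p2.1
    have r3 := rec1 hcard a χ3 p3.1
    have r4 := rec1 hcard a χ4 p4.1
    have r5 := rec1 hcard a χ5 p5.1
    have r6 := rec1 hcard a χ6 p6.1
    have hdiv : ∀ ψ ∈ [χ1, χ2, χ3, χ4, χ5, χ6], irrDeg ψ ∣ 720 := by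
      intro ψ hψ
      have := hprop ψ hψ
      rw [← (rec1 hcard a ψ this.1).1]
      exact natAbs_dvd_E1 _ this.2
    rcases noT6 _ p1.2 _ p2.2 h12 _ p3.2 h23 _ p4.2 h34 _ p5.2 h45 _ p6.2 h56 hsum with
      hP6 | hNo
    · -- the last pattern: a central involution of a Sylow `2`-subgroup
      obtain ⟨e1, e2, e3, e4, e5, e6⟩ := hP6
      have d1 : irrDeg χ1 = 20 := by rw [← r1.1, e1]; rfl
      have d2 : irrDeg χ2 = 20 := by rw [← r2.1, e2]; rfl
      have d3 : irrDeg χ3 = 6 := by rw [← r3.1, e3]; rfl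
      have d4 : irrDeg χ4 = 15 := by rw [← r4.1, e4]; rfl
      have d5 : irrDeg χ5 = 15 := by rw [← r5.1, e5]; rfl
      have d6 : irrDeg χ6 = 15 := by rw [← r6.1, e6]; rfl
      have a1 : a χ1 = -1 := by rw [← r1.2, e1]; rfl
      have a2 : a χ2 = -1 := by rw [← r2.2, e2]; rfl
      have a3 : a χ3 = -1 := by rw [← r3.2, e3]; rfl
      have a4 : a χ4 = 1 := by rw [← r4.2, e4]; rfl
      have a5 : a χ5 = 1 := by rw [← r5.2, e5]; rfl
      have a6 : a χ6 = 1 := by rw [← r6.2, e6]; rfl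
      obtain ⟨S⟩ : Nonempty (Sylow 2 G) := inferInstance
      have hS16 : Nat.card (S : Subgroup G) = 2 ^ 4 :=
        (Cfsg.Agent.Helper11.sylow_card_of_card_eq_pow 315 4 (by rw [hcard]; norm_num)
          (by norm_num) S).1
      obtain ⟨z, hz, hSz⟩ := exists_central_involution (by rw [hcard]; norm_num) S
      set idx := (centralizer ({z} : Set G)).index with hidx
      have hidxC : idx * Nat.card (centralizer ({z} : Set G)) = 5040 := by
        rw [← hcard]; exact Subgroup.index_mul_card _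
      have hidx315 : idx ∣ 315 := by
        have h1 : Nat.card (S : Subgroup G) ∣ Nat.card (centralizer ({z} : Set G)) :=
          Subgroup.card_dvd_of_le hSz
        rw [hS16] at h1
        obtain ⟨k, hk⟩ := h1
        rw [hk] at hidxC
        exact ⟨k, by nlinarith⟩
      have hidx7 := seven_dvd_index hcard x hCz hx hconj z hz
      rw [← hidx] at hidx7
      have hidxmem : idx ∈ ([7, 21, 35, 63, 105, 315] : List ℕ) := by
        have : idx ∈ (Nat.divisors 315).filter (fun c => 7 ∣ c) := by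
          rw [Finset.mem_filter, Nat.mem_divisors]
          exact ⟨⟨hidx315, by norm_num⟩, hidx7⟩
        rw [filter_idxZ] at this
        simpa using this
      obtain ⟨m, hm, hCons⟩ := inv_cons hcard x hx hCx7 a hval [χ1, χ2, χ3, χ4, χ5, χ6] hnd hzero
        hdiv z hz
      rw [← hidx] at hm hCons
      simp only [List.map_cons, List.map_nil] at hCons
      rw [d1, d2, d3, d4, d5, d6, a1, a2, a3, a4, a5, a6] at hCons
      have q1 := hm χ1 (by simp)
      have q2 := hm χ2 (by simp)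
      have q3 := hm χ3 (by simp)
      have q4 := hm χ4 (by simp)
      have q5 := hm χ5 (by simp)
      have q6 := hm χ6 (by simp)
      rw [d1] at q1
      rw [d2] at q2
      rw [d3] at q3
      rw [d4] at q4
      rw [d5] at q5
      rw [d6] at q6
      exact noZ6_elim idx hidxmem (m χ1) (m χ2) (m χ3) (m χ4) (m χ5) (m χ6) q1.1 q2.1 q3.1 q4.1
        q5.1 q6.1 q1.2.1 q2.2.1 q3.2.1 q4.2.1 q5.2.1 q6.2.1 hCons
    · -- all the other patterns: the involution `t` of `N(P)`
      obtain ⟨m, hm, hCons⟩ := inv_cons hcard x hx hCx7 a hval [χ1, χ2, χ3, χ4, χ5, χ6] hnd hzero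
        hdiv t ht
      simp only [List.map_cons, List.map_nil] at hCons
      have q1 := hm χ1 (by simp)
      have q2 := hm χ2 (by simp)
      have q3 := hm χ3 (by simp)
      have q4 := hm χ4 (by simp)
      have q5 := hm χ5 (by simp)
      have q6 := hm χ6 (by simp)
      have b1 := hTB χ1 _ q1.2.2
      have b2 := hTB χ2 _ q2.2.2
      have b3 := hTB χ3 _ q3.2.2
      have b4 := hTB χ4 _ q4.2.2
      have b5 := hTB χ5 _ q5.2.2
      have b6 := hTB χ6 _ q6.2.2
      rw [← r1.1, ← r2.1, ← r3.1, ← r4.1, ← r5.1, ← r6.1, ← r1.2, ← r2.2, ← r3.2, ← r4.2, ← r5.2,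
        ← r6.2] at hCons
      rw [← r1.1] at q1
      rw [← r2.1] at q2
      rw [← r3.1] at q3
      rw [← r4.1] at q4
      rw [← r5.1] at q5
      rw [← r6.1] at q6
      rw [← r1.1, ← r1.2] at b1
      rw [← r2.1, ← r2.2] at b2
      rw [← r3.1, ← r3.2] at b3
      rw [← r4.1, ← r4.2] at b4
      rw [← r5.1, ← r5.2] at b5
      rw [← r6.1, ← r6.2] at b6
      exact hNo.elim _ hidxT (m χ1) (m χ2) (m χ3) (m χ4) (m χ5) (m χ6) q1.1 q2.1 q3.1 q4.1
        q5.1 q6.1 q1.2.1 q2.2.1 q3.2.1 q4.2.1 q5.2.1 q6.2.1 b1 b2 b3 b4 b5 b6 hCons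
  · -- one character with value `±2`
    have p1 := hprop χ1 (by simp)
    have p2 := hprop χ2 (by simp)
    have r0 := rec2 hcard a χ0 ha0
    have r1 := rec1 hcard a χ1 p1.1
    have r2 := rec1 hcard a χ2 p2.1
    have hdiv : ∀ ψ ∈ [χ0, χ1, χ2], irrDeg ψ ∣ 720 := by
      intro ψ hψ
      rw [List.mem_cons] at hψ
      rcases hψ with rfl | hψ
      · rw [← r0.1]
        exact natAbs_dvd_E2 _ hf
      · have := hprop ψ hψ
        rw [← (rec1 hcard a ψ this.1).1]
        exact natAbs_dvd_E1 _ this.2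
    have hNo := noT3 _ hf _ p1.2 _ p2.2 h12 hsum
    obtain ⟨m, hm, hCons⟩ := inv_cons hcard x hx hCx7 a hval [χ0, χ1, χ2] hnd hzero hdiv t ht
    simp only [List.map_cons, List.map_nil] at hCons
    have q0 := hm χ0 (by simp)
    have q1 := hm χ1 (by simp)
    have q2 := hm χ2 (by simp)
    have b0 := hTB χ0 _ q0.2.2
    have b1 := hTB χ1 _ q1.2.2
    have b2 := hTB χ2 _ q2.2.2
    rw [← r0.1, ← r1.1, ← r2.1, ← r0.2, ← r1.2, ← r2.2] at hCons
    rw [← r0.1] at q0
    rw [← r1.1] at q1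
    rw [← r2.1] at q2
    rw [← r0.1, ← r0.2] at b0
    rw [← r1.1, ← r1.2] at b1
    rw [← r2.1, ← r2.2] at b2
    exact hNo.elim _ hidxT (m χ0) (m χ1) (m χ2) q0.1 q1.1 q2.1 q0.2.1 q1.2.1 q2.2.1 b0 b1 b2 hCons

end Cfsg.Agent.Helper21.O5040
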