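import Mathlib
import Cfsg.Agent.Helper21.BrInv
import Cfsg.Agent.Helper11.O504A
import Cfsg.Agent.Helper24.SelfCentD

set_option autoImplicit false
set_option linter.unusedSectionVars false

/-!
No simple group of order 5760: arithmetic of the degree equation for `p = 5`, basic setup.
-/

namespace Cfsg.Agent.Helper21.O5760

open Cfsg Cfsg.Agent.Helper24 Cfsg.Agent.Helper5 Subgroup Cfsg.Agent.Helper15.BrP

theorem filter_pm1 : (Nat.divisors 5760).filter (fun c => c % 5 = 1 ∨ c % 5 = 4) =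
    {1, 4, 6, 9, 16, 24, 36, 64, 96, 144, 384, 576} := by decide +kernel

theorem filter_pm2 : (Nat.divisors 5760).filter (fun c => c % 5 = 2 ∨ c % 5 = 3) =
    {2, 3, 8, 12, 18, 32, 48, 72, 128, 192, 288, 1152} := by decide +kernel

theorem mem_pm1 (c : ℕ) (s : ℤ) (hs : s = 1 ∨ s = -1) (hc : c ∣ 5760)
    (hcs : (c : ℤ) ≡ s [ZMOD 5]) :
    c ∈ ({1, 4, 6, 9, 16, 24, 36, 64, 96, 144, 384, 576} : Finset ℕ) := by
  rw [← filter_pm1, Finset.mem_filter, Nat.mem_divisors]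
  refine ⟨⟨hc, by norm_num⟩, ?_⟩
  unfold Int.ModEq at hcs
  rcases hs with rfl | rfl <;> omega

theorem mem_pm2 (d : ℕ) (s : ℤ) (hs : s = 1 ∨ s = -1) (hd : d ∣ 5760)
    (hds : (d : ℤ) ≡ s * 2 [ZMOD 5]) :
    d ∈ ({2, 3, 8, 12, 18, 32, 48, 72, 128, 192, 288, 1152} : Finset ℕ) := by
  rw [← filter_pm2, Finset.mem_filter, Nat.mem_divisors]
  refine ⟨⟨hd, by norm_num⟩, ?_⟩
  unfold Int.ModEq at hds
  rcases hs with rfl | rfl <;> omega

/-- The degree equation for `e = 2`. -/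
theorem arith_e2 (c d : ℕ) (s eps : ℤ) (hs : s = 1 ∨ s = -1) (he : eps = 1 ∨ eps = -1)
    (hc : c ∣ 5760) (hd : d ∣ 5760) (hc1 : c ≠ 1) (hcs : (c : ℤ) ≡ s [ZMOD 5])
    (hds : (d : ℤ) ≡ eps * 2 [ZMOD 5]) (heq : eps * (d : ℤ) = 1 + s * (c : ℤ)) :
    (c = 4 ∧ d = 3 ∧ s = -1 ∧ eps = -1) ∨ (c = 9 ∧ d = 8 ∧ s = -1 ∧ eps = -1) := by
  have h1 := mem_pm1 c s hs hc hcs
  have h2 := mem_pm2 d eps he hd hds
  unfold Int.ModEq at hcs hds
  simp only [Finset.mem_insert, Finset.mem_singleton] at h1 h2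
  rcases hs with rfl | rfl <;> rcases he with rfl | rfl <;>
    rcases h1 with rfl | rfl | rfl | rfl | rfl | rfl | rfl | rfl | rfl | rfl | rfl | rfl <;>
    rcases h2 with rfl | rfl | rfl | rfl | rfl | rfl | rfl | rfl | rfl | rfl | rfl | rfl <;> omega

section Setup

variable {G : Type*} [Group G] [Finite G] [IsSimpleGroup G]

instance fact5 : Fact (Nat.Prime 5) := ⟨by norm_num⟩

theorem noncomm (hcard : Nat.card G = 5760) : ¬ IsMulCommutative G :=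
  Cfsg.Agent.Helper11.simple_noncomm_of_card (by rw [hcard]; norm_num)

theorem perfect (hcard : Nat.card G = 5760) : commutator G = ⊤ :=
  Cfsg.Agent.Helper11.O504.commutator_eq_top (noncomm hcard)

theorem irrDeg_dvd (hcard : Nat.card G = 5760) (χ : IrrCharacter G) : irrDeg χ ∣ 5760 := by
  rw [← hcard]; exact irrDeg_dvd_card χ

theorem irrDeg_ne_one (hcard : Nat.card G = 5760) (χ : IrrCharacter G) (hχ : χ ≠ trivIrr G) :
    irrDeg χ ≠ 1 :=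
  Cfsg.Agent.Helper24.SelfCent.irrDeg_ne_one_of_perfect (perfect hcard) χ hχ

/-- The shape of the principal block for `e = 2`. -/
theorem e2_data (hcard : Nat.card G = 5760) (P : Sylow 5 G) (D : BData 5 P 2) :
    ∃ (χ : IrrCharacter G) (c d : ℕ), χ ≠ trivIrr G ∧ χ ∈ D.X ∧
      (∀ f : IrrCharacter G → ℂ, ∑ ψ ∈ D.X, f ψ = f (trivIrr G) + f χ) ∧
      irrDeg χ = c ∧ D.sg χ = -1 ∧
      D.eps = -1 ∧ (∀ θ ∈ D.Y, irrDeg θ = d) ∧ D.Y.card = 2 ∧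
      ((c = 4 ∧ d = 3) ∨ (c = 9 ∧ d = 8)) := by
  classical
  have hX' : (D.X.erase (trivIrr G)).card = 1 := by
    rw [Finset.card_erase_of_mem D.htriv, D.hX]
  obtain ⟨χ, hX1⟩ := Finset.card_eq_one.mp hX'
  have hχ : χ ∈ D.X.erase (trivIrr G) := by rw [hX1]; simp
  rw [Finset.mem_erase] at hχ
  have hY2 : D.Y.card = 2 := by rw [D.hY]
  have hd1 : irrDeg (trivIrr G) = 1 := by rw [irrDeg_eq_one_iff]; rfl
  have hall : ∀ θ ∈ D.Y, (irrDeg χ = 4 ∧ irrDeg θ = 3 ∧ D.sg χ = -1 ∧ D.eps = -1) ∨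
      (irrDeg χ = 9 ∧ irrDeg θ = 8 ∧ D.sg χ = -1 ∧ D.eps = -1) := by
    intro θ hθ
    have heq := D.deg_eq θ hθ
    rw [← Finset.add_sum_erase _ _ D.htriv, hX1, Finset.sum_singleton, D.hsgtriv, hd1] at heq
    exact arith_e2 (irrDeg χ) (irrDeg θ) (D.sg χ) D.eps (D.hsg χ hχ.2) D.heps
      (irrDeg_dvd hcard χ) (irrDeg_dvd hcard θ) (irrDeg_ne_one hcard χ hχ.1) (D.hdegX χ hχ.2)
      (D.hdegY θ hθ) (by rw [heq]; push_cast; ring)
  have hYne : D.Y.Nonempty := Finset.card_pos.mp (by rw [hY2]; norm_num)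
  obtain ⟨θ₀, hθ₀⟩ := hYne
  have hsum : ∀ f : IrrCharacter G → ℂ, ∑ ψ ∈ D.X, f ψ = f (trivIrr G) + f χ := by
    intro f
    rw [← Finset.add_sum_erase _ _ D.htriv, hX1, Finset.sum_singleton]
  rcases hall θ₀ hθ₀ with ⟨h4, -, hs, hε⟩ | ⟨h9, -, hs, hε⟩
  · refine ⟨χ, 4, 3, hχ.1, hχ.2, hsum, h4, hs, hε, ?_, hY2, Or.inl ⟨rfl, rfl⟩⟩
    intro θ hθ
    rcases hall θ hθ with h | h
    · exact h.2.1
    · omega
  · refine ⟨χ, 9, 8, hχ.1, hχ.2, hsum, h9, hs, hε, ?_, hY2, Or.inr ⟨rfl, rfl⟩⟩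
    intro θ hθ
    rcases hall θ hθ with h | h
    · omega
    · exact h.2.1

end Setup

end Cfsg.Agent.Helper21.O5760
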