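import Mathlib
import Cfsg.Agent.Helper21.O5760a
import Cfsg.Agent.S1001
import Cfsg.Agent.Helper11.SelfCent
import Cfsg.Agent.Helper11.SylowCount

set_option autoImplicit false
set_option linter.unusedSectionVars false
set_option maxHeartbeats 1000000

/-!
No simple group of order 5760.
-/

namespace Cfsg.Agent.Helper21.O5760

open Cfsg Cfsg.Agent.Helper24 Cfsg.Agent.Helper5 Cfsg.Agent.Helper5.CC Subgroup
  Cfsg.Agent.Helper15.BrP Cfsg.Agent.Helper24.SelfCent Cfsg.Agent.Helper5.ClassMul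
  Cfsg.Agent.Helper21.BrInv

theorem two_mul_le_two_sq (c : ℤ) : 2 * c ≤ 2 * c ^ 2 := by
  rcases le_or_gt c 0 with h | h
  · nlinarith [sq_nonneg c]
  · nlinarith [mul_nonneg (by omega : (0 : ℤ) ≤ c) (by omega : (0 : ℤ) ≤ c - 1)]

theorem neg_two_mul_le_two_sq (c : ℤ) : -(2 * c) ≤ 2 * c ^ 2 := by
  have := two_mul_le_two_sq (-c)
  nlinarith

/-- final arithmetic, pattern `(1, 4; 3, 3)` -/
theorem no_sq_A (w : ℤ) (n : ℕ) (hn : n ≤ 5) (hn0 : n ≠ 0) (hw : |w| ≤ 360)
    (h : w ^ 2 = 69120 * (n : ℤ)) : False := by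
  have h1 : w ^ 2 ≤ 360 ^ 2 := by
    have := abs_le.mp hw
    nlinarith
  have hn1 : n = 1 := by
    by_contra hne
    have : (2 : ℤ) ≤ n := by omega
    nlinarith
  subst hn1
  have h2 : |w| ^ 2 = 69120 := by rw [sq_abs]; simpa using h
  have h3 : 0 ≤ |w| := abs_nonneg w
  generalize |w| = v at h2 h3
  rcases le_or_gt v 262 with h' | h'
  · nlinarith
  · have : 263 ≤ v := by omega
    nlinarith

/-- final arithmetic, pattern `(1, 9; 8, 8)` -/
theorem no_sq_B (w : ℤ) (n : ℕ) (hn : n ≤ 5) (hn0 : n ≠ 0) (hw : |w| ≤ 810)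
    (h : w ^ 2 = 414720 * (n : ℤ)) : False := by
  have h1 : w ^ 2 ≤ 810 ^ 2 := by
    have := abs_le.mp hw
    nlinarith
  have hn1 : n = 1 := by
    by_contra hne
    have : (2 : ℤ) ≤ n := by omega
    nlinarith
  subst hn1
  have h2 : |w| ^ 2 = 414720 := by rw [sq_abs]; simpa using h
  have h3 : 0 ≤ |w| := abs_nonneg w
  generalize |w| = v at h2 h3
  rcases le_or_gt v 643 with h' | h'
  · nlinarith
  · have : 644 ≤ v := by omega
    nlinarith

variable {G : Type*} [Group G] [Finite G] [IsSimpleGroup G]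

theorem main (hcard : Nat.card G = 5760) : False := by
  classical
  have : Fintype G := Fintype.ofFinite G
  have : Fintype (IrrCharacter G) := Fintype.ofFinite _
  have hG := noncomm hcard
  -- the Sylow 5-subgroup
  have hG' : Nat.card G = 1152 * 5 ^ 1 := by rw [hcard]; norm_num
  have hm : ¬ 5 ∣ 1152 := by norm_num
  obtain ⟨P⟩ : Nonempty (Sylow 5 G) := inferInstance
  have hP : Nat.card (P : Subgroup G) = 5 := by
    have := (Cfsg.Agent.Helper11.sylow_card_of_card_eq_pow 1152 1 hG' hm P).1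
    rwa [pow_one] at this
  obtain ⟨x, hxP, hx, hPz⟩ := exists_gen P hP
  have hx1 : x ≠ 1 := by intro h; rw [h, orderOf_one] at hx; omega
  have hCx : centralizer ({x} : Set G) = zpowers x :=
    Cfsg.Agent.S1001.result 5 2 7 (by norm_num) (by rw [hcard]; norm_num) x hx
  have hCP : centralizer ((P : Subgroup G) : Set G) = zpowers x := by
    rw [hPz, centralizer_zpowers, hCx]
  have hC : Nat.card (centralizer ((P : Subgroup G) : Set G)) = 5 := by
    rw [hCP, Nat.card_zpowers, hx]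
  have hCx5 : Nat.card (centralizer ({x} : Set G)) = 5 := by
    rw [hCx, Nat.card_zpowers, hx]
  -- `e = 2`
  obtain ⟨hk1, hk4, hkC, -⟩ := Cfsg.Agent.Helper11.simple_automizer_data hG 5 P hP
  have hNP := Cfsg.Agent.Helper11.card_sylow_mul_card_normalizer P
  rw [hcard] at hNP
  rw [hC] at hkC
  have hmod : Nat.card (Sylow 5 G) % 5 = 1 := by
    have := card_sylow_modEq_one 5 G
    unfold Nat.ModEq at this
    rw [this]
  have he : (centralizer ((P : Subgroup G) : Set G)).relIndex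
      (normalizer ((P : Subgroup G) : Set G)) = 2 ∧
      Nat.card (normalizer ((P : Subgroup G) : Set G)) = 10 := by
    have hk4' : (centralizer ((P : Subgroup G) : Set G)).relIndex
      (normalizer ((P : Subgroup G) : Set G)) ∣ 4 := hk4
    have hkle := Nat.le_of_dvd (by norm_num) hk4'
    generalize (centralizer ((P : Subgroup G) : Set G)).relIndex
      (normalizer ((P : Subgroup G) : Set G)) = k at hk1 hk4' hkle hkC
    generalize Nat.card (normalizer ((P : Subgroup G) : Set G)) = n at hkC hNP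
    generalize Nat.card (Sylow 5 G) = s at hNP hmod
    interval_cases k
    · omega
    · omega
    · exact ⟨rfl, by omega⟩
    · omega
    · exfalso
      have hn : n = 20 := by omega
      subst hn
      have : s = 288 := by omega
      omega
  obtain ⟨he, hN⟩ := he
  obtain ⟨D⟩ := exists_bdata (perfect hcard) 5 (by norm_num) P hP 2 he (by norm_num)
  obtain ⟨χ, c, d, hχne, hχX, hsumX, hc, hs, hε, hYd, hY2, hcd⟩ := e2_data hcard P D
  have hc0 : c ≠ 0 := by rcases hcd with ⟨h, -⟩ | ⟨h, -⟩ <;> omega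
  have hd0 : d ≠ 0 := by rcases hcd with ⟨-, h⟩ | ⟨-, h⟩ <;> omega
  -- the exceptional characters
  obtain ⟨ε', c', d', T, a, hε', hTcard, htrivT, hdT, -, hdegN, hvalN, hO1, -⟩ :=
    brauer_degree_equation (P : Subgroup G) (hab_of_card_prime (P : Subgroup G) 5 hP)
      (hTI_of_card_prime (P : Subgroup G) 5 hP) (hcent_of_card_prime (P : Subgroup G) 5 hP hC)
      2 2 (by rw [hN, hP]) (by rw [hP]) (by norm_num)
  rw [hP] at hdegN
  have hsum_le : ∑ ψ ∈ Tᶜ, a ψ ^ 2 ≤ 2 := by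
    rw [hO1]
    rcases hε' with rfl | rfl
    · have := two_mul_le_two_sq c'
      push_cast
      linarith
    · have := neg_two_mul_le_two_sq c'
      push_cast
      linarith
  have ha_le : ∀ ψ ∈ Tᶜ, a ψ ^ 2 ≤ 2 := by
    intro ψ hψ
    exact (Finset.single_le_sum (f := fun ψ => a ψ ^ 2) (fun i _ => sq_nonneg (a i)) hψ).trans
      hsum_le
  have hYT : D.Y ⊆ T := by
    intro θ hθ
    by_contra hθT
    obtain ⟨k, hk⟩ := hdegN θ hθT
    rw [hYd θ hθ] at hk
    have h1 := ha_le θ (Finset.mem_compl.mpr hθT)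
    have h2 : -1 ≤ a θ := by nlinarith
    have h3 : a θ ≤ 1 := by nlinarith
    push_cast at hk
    rcases hcd with ⟨-, h⟩ | ⟨-, h⟩ <;> subst h <;> omega
  have hYeqT : D.Y = T := Finset.eq_of_subset_of_card_le hYT (by rw [hTcard, hY2])
  obtain ⟨θ₀, hθ₀⟩ : D.Y.Nonempty := Finset.card_pos.mp (by rw [hY2]; norm_num)
  have hχT : χ ∉ T := by
    intro h
    have h1 := hdT χ h
    have h2 := hdT θ₀ (hYT hθ₀)
    rw [hYd θ₀ hθ₀] at h2
    rw [hc] at h1
    rcases hcd with ⟨h, h'⟩ | ⟨h, h'⟩ <;> omega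
  have hatriv : a (trivIrr G) = 1 := by
    have := hvalN (trivIrr G) htrivT x hxP hx1
    rw [trivIrr_apply] at this
    exact_mod_cast this.symm
  have hχx : (χ : G → ℂ) x = -1 := by
    have h3 := D.hval χ hχX x hxP hx1 1 (Subgroup.one_mem _) (by rw [orderOf_one]; norm_num)
    rw [mul_one, hs] at h3
    rw [h3]; norm_num
  have haχ : a χ = -1 := by
    have := hvalN χ hχT x hxP hx1
    rw [hχx] at this
    exact_mod_cast this.symm
  have hrest : ∀ ψ : IrrCharacter G, ψ ∉ T → ψ ≠ trivIrr G → ψ ≠ χ → a ψ = 0 := by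
    intro ψ hψT hψ1 hψχ
    have hm1 : trivIrr G ∈ Tᶜ := Finset.mem_compl.mpr htrivT
    have hm2 : χ ∈ Tᶜ.erase (trivIrr G) := Finset.mem_erase.mpr ⟨hχne, Finset.mem_compl.mpr hχT⟩
    have hm3 : ψ ∈ (Tᶜ.erase (trivIrr G)).erase χ :=
      Finset.mem_erase.mpr ⟨hψχ, Finset.mem_erase.mpr ⟨hψ1, Finset.mem_compl.mpr hψT⟩⟩
    have h1 := hsum_le
    rw [← Finset.add_sum_erase _ _ hm1, ← Finset.add_sum_erase _ _ hm2, hatriv, haχ] at h1
    have h2 := Finset.single_le_sum (f := fun ψ => a ψ ^ 2) (fun i _ => sq_nonneg (a i)) hm3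
    have h3 : a ψ ^ 2 ≤ 0 := by
      have : (fun ψ => a ψ ^ 2) ψ = a ψ ^ 2 := rfl
      linarith
    exact pow_eq_zero_iff (two_ne_zero) |>.mp (le_antisymm h3 (sq_nonneg _))
  have hvanish : ∀ ψ ∈ (D.X ∪ D.Y)ᶜ, (ψ : G → ℂ) x = 0 := by
    intro ψ hψ
    rw [Finset.mem_compl, Finset.mem_union, not_or] at hψ
    have hψT : ψ ∉ T := by rw [← hYeqT]; exact hψ.2
    have h1 : ψ ≠ trivIrr G := fun h => hψ.1 (h ▸ D.htriv)
    have h2 : ψ ≠ χ := fun h => hψ.1 (h ▸ hχX)
    rw [hvalN ψ hψT x hxP hx1, hrest ψ hψT h1 h2]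
    norm_num
  -- the sum of the exceptional characters at x
  have hcol := sum_irr_mul_conj (1 : G) x
  rw [if_neg (by rw [isConj_one_right]; exact hx1)] at hcol
  rw [← Finset.sum_add_sum_compl (D.X ∪ D.Y), Finset.sum_union D.hdisj, hsumX] at hcol
  have hrestcol : ∑ ψ ∈ (D.X ∪ D.Y)ᶜ, (ψ : G → ℂ) 1 * (starRingEnd ℂ) ((ψ : G → ℂ) x) = 0 := by
    apply Finset.sum_eq_zero
    intro ψ hψ
    rw [hvanish ψ hψ, map_zero, mul_zero]
  have hYcol : ∑ θ ∈ D.Y, (θ : G → ℂ) 1 * (starRingEnd ℂ) ((θ : G → ℂ) x) =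
      (d : ℂ) * ∑ θ ∈ D.Y, (starRingEnd ℂ) ((θ : G → ℂ) x) := by
    rw [Finset.mul_sum]
    refine Finset.sum_congr rfl ?_
    intro θ hθ
    rw [irrDeg_spec, hYd θ hθ]
  rw [hYcol, hrestcol, trivIrr_apply, trivIrr_apply, hχx, irrDeg_spec, hc, map_one] at hcol
  have hS : ∑ θ ∈ D.Y, (starRingEnd ℂ) ((θ : G → ℂ) x) = 1 := by
    rcases hcd with ⟨h, h'⟩ | ⟨h, h'⟩
    · subst h; subst h'
      push_cast at hcol
      simp only [map_neg, map_one] at hcol
      linear_combination hcol / 3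
    · subst h; subst h'
      push_cast at hcol
      simp only [map_neg, map_one] at hcol
      linear_combination hcol / 8
  -- a central involution of a Sylow 2-subgroup
  obtain ⟨S⟩ : Nonempty (Sylow 2 G) := inferInstance
  have hS128 : Nat.card (S : Subgroup G) = 2 ^ 7 := by
    have : Fact (Nat.Prime 2) := ⟨by norm_num⟩
    exact (Cfsg.Agent.Helper11.sylow_card_of_card_eq_pow 45 7 (by rw [hcard]; norm_num) (by norm_num) S).1
  obtain ⟨t, ht, hSt⟩ := exists_central_involution (by rw [hcard]; norm_num) S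
  have ht1 : t ≠ 1 := by intro h; rw [h, orderOf_one] at ht; omega
  set idx := (centralizer ({t} : Set G)).index with hidx
  have hidx0 : idx ≠ 0 := Subgroup.index_ne_zero_of_finite
  have hidx45 : idx ∣ 45 := by
    have h1 : Nat.card (S : Subgroup G) ∣ Nat.card (centralizer ({t} : Set G)) :=
      Subgroup.card_dvd_of_le hSt
    have h2 : idx * Nat.card (centralizer ({t} : Set G)) = 5760 := by
      rw [← hcard]; exact Subgroup.index_mul_card _
    rw [hS128] at h1
    obtain ⟨k, hk⟩ := h1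
    rw [hk] at h2
    exact ⟨k, by nlinarith⟩
  have hidxle : idx ≤ 45 := Nat.le_of_dvd (by norm_num) hidx45
  obtain ⟨d₀, m', hd', hm'⟩ :=
    Cfsg.Agent.Helper8.char_involution (IsIrrCharacter.isCharacter χ.2) ht
  have hd8 : d₀ = c := by
    rw [irrDeg_spec, hc] at hd'
    exact_mod_cast hd'.symm
  set u : ℤ := 2 * (m' : ℤ) - c with hu
  have hχt : (χ : G → ℂ) t = (u : ℂ) := by
    rw [hm', hd8, hu]; push_cast; ring
  have h5t : ¬ 5 ∣ orderOf t := by rw [ht]; norm_num
  have hθt : ∀ θ ∈ D.Y, (θ : G → ℂ) t = (u : ℂ) - 1 := by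
    intro θ hθ
    have h1 := D.hreg θ hθ t h5t
    rw [hsumX, hε, D.hsgtriv, hs, trivIrr_apply, hχt] at h1
    push_cast at h1
    linear_combination -h1
  have huc : u ≠ c := by
    intro h
    apply ht1
    apply eq_one_of_apply_eq_irrDeg χ x (by
      rw [hχx, hc]
      intro h'
      have : ((-1 : ℤ) : ℂ) = ((c : ℤ) : ℂ) := by push_cast; exact h'
      have := Int.cast_injective this
      omega) t
    rw [hχt, h, hc]; norm_num
  have hule : |u| ≤ c := by
    have := norm_le_irrDeg χ t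
    rw [hχt, hc, Complex.norm_intCast] at this
    exact_mod_cast this
  -- class multiplication
  set N₀ := Nat.card {a : G // IsConj t a ∧ IsConj t (a⁻¹ * x)} with hN₀
  have hmul : (N₀ : ℂ) = (Nat.card G : ℂ)⁻¹ * ∑ ψ : IrrCharacter G,
      centralChar (ψ : G → ℂ) t * centralChar (ψ : G → ℂ) t *
        ((ψ : G → ℂ) 1 * (starRingEnd ℂ) ((ψ : G → ℂ) x)) := by
    rw [hN₀, ← conv_classIndicator_apply, conv_classIndicator_eq]
  rw [← Finset.sum_add_sum_compl (D.X ∪ D.Y), Finset.sum_union D.hdisj, hsumX] at hmul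
  have hrestmul : ∑ ψ ∈ (D.X ∪ D.Y)ᶜ, centralChar (ψ : G → ℂ) t * centralChar (ψ : G → ℂ) t *
        ((ψ : G → ℂ) 1 * (starRingEnd ℂ) ((ψ : G → ℂ) x)) = 0 := by
    apply Finset.sum_eq_zero
    intro ψ hψ
    rw [hvanish ψ hψ, map_zero, mul_zero, mul_zero]
  have hYmul : ∑ θ ∈ D.Y, centralChar (θ : G → ℂ) t * centralChar (θ : G → ℂ) t *
        ((θ : G → ℂ) 1 * (starRingEnd ℂ) ((θ : G → ℂ) x)) =
      ((idx : ℂ) * ((u : ℂ) - 1) / d) ^ 2 * d * ∑ θ ∈ D.Y, (starRingEnd ℂ) ((θ : G → ℂ) x) := by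
    rw [Finset.mul_sum]
    refine Finset.sum_congr rfl ?_
    intro θ hθ
    rw [centralChar_def, hθt θ hθ, irrDeg_spec, hYd θ hθ]
    ring
  rw [hYmul, hrestmul, hS, centralChar_def, centralChar_def, trivIrr_apply, trivIrr_apply,
    trivIrr_apply, hχt, hχx, irrDeg_spec, hc, map_one, hcard, ← hidx] at hmul
  have hN₀le : N₀ ≤ 5 := by
    have := card_factorizations_le x t ht
    rwa [hCx5] at this
  have hidxZ : (idx : ℤ) ≤ 45 := by exact_mod_cast hidxle
  have hidxZ0 : (0 : ℤ) ≤ idx := by positivity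
  rcases hcd with ⟨h4, h3⟩ | ⟨h9, h8⟩
  · subst h4; subst h3
    have hkey : (69120 : ℂ) * (N₀ : ℂ) = (((idx : ℤ) * (4 - u) : ℤ) : ℂ) ^ 2 := by
      rw [hmul]
      push_cast
      simp only [map_neg, map_one]
      field_simp
      ring
    have hkeyZ : ((idx : ℤ) * (4 - u)) ^ 2 = 69120 * (N₀ : ℤ) := by
      have : (((((idx : ℤ) * (4 - u)) ^ 2 : ℤ)) : ℂ) = ((69120 * (N₀ : ℤ) : ℤ) : ℂ) := by
        push_cast
        push_cast at hkey
        rw [hkey]
      exact_mod_cast this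
    have hN₀0 : N₀ ≠ 0 := by
      intro h0
      rw [h0] at hkeyZ
      have h1 : (idx : ℤ) * (4 - u) = 0 := by
        have : ((idx : ℤ) * (4 - u)) ^ 2 = 0 := by rw [hkeyZ]; norm_num
        exact pow_eq_zero_iff (two_ne_zero) |>.mp this
      rcases mul_eq_zero.mp h1 with h2 | h2
      · exact hidx0 (by exact_mod_cast h2)
      · exact huc (by push_cast; omega)
    refine no_sq_A _ N₀ hN₀le hN₀0 ?_ hkeyZ
    have h1 := abs_le.mp hule
    push_cast at h1
    rw [abs_mul, abs_of_nonneg hidxZ0]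
    have h2 : |4 - u| ≤ 8 := by rw [abs_le]; constructor <;> omega
    nlinarith [abs_nonneg (4 - u)]
  · subst h9; subst h8
    have hkey : (414720 : ℂ) * (N₀ : ℂ) = (((idx : ℤ) * (9 - u) : ℤ) : ℂ) ^ 2 := by
      rw [hmul]
      push_cast
      simp only [map_neg, map_one]
      field_simp
      ring
    have hkeyZ : ((idx : ℤ) * (9 - u)) ^ 2 = 414720 * (N₀ : ℤ) := by
      have : (((((idx : ℤ) * (9 - u)) ^ 2 : ℤ)) : ℂ) = ((414720 * (N₀ : ℤ) : ℤ) : ℂ) := by
        push_cast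
        push_cast at hkey
        rw [hkey]
      exact_mod_cast this
    have hN₀0 : N₀ ≠ 0 := by
      intro h0
      rw [h0] at hkeyZ
      have h1 : (idx : ℤ) * (9 - u) = 0 := by
        have : ((idx : ℤ) * (9 - u)) ^ 2 = 0 := by rw [hkeyZ]; norm_num
        exact pow_eq_zero_iff (two_ne_zero) |>.mp this
      rcases mul_eq_zero.mp h1 with h2 | h2
      · exact hidx0 (by exact_mod_cast h2)
      · exact huc (by push_cast; omega)
    refine no_sq_B _ N₀ hN₀le hN₀0 ?_ hkeyZ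
    have h1 := abs_le.mp hule
    push_cast at h1
    rw [abs_mul, abs_of_nonneg hidxZ0]
    have h2 : |9 - u| ≤ 18 := by rw [abs_le]; constructor <;> omega
    nlinarith [abs_nonneg (9 - u)]

end Cfsg.Agent.Helper21.O5760
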