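import Mathlib
import Cfsg.Agent.Helper28.OrthSim1
import Cfsg.Agent.Helper6.OS6FirstDefs

/-! # os6 chapter FIRST (driver helper6/helper8), piece FCOMM: `R (G d)` commutes with `conjm g x₀ y₀`. -/

set_option autoImplicit false
set_option linter.unusedSectionVars false

namespace Cfsg.Agent.OS6P

open Matrix Module Cfsg.Agent.Helper28.Sg Cfsg.Agent.Helper28.Spin Cfsg.Agent.Helper28.SLMax
  Cfsg.Agent.Helper28.SimMax Cfsg.Agent.Helper28.OSim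

variable {F : Type*} [Field F] {n : ℕ} {Q : QuadraticForm F (Fin n → F)}

theorem FCOMM.R_mulVec (z x : Fin n → F) :
    FIRST.R Q z *ᵥ x = x - ((Q z)⁻¹ * B Q z x) • z := by
  unfold FIRST.R
  rw [E_mulVec, smul_dotProduct, pv_dot, smul_eq_mul, neg_mul, neg_smul, sub_eq_add_neg]

theorem FCOMM.B_sub_smul_right (x y z : Fin n → F) (t : F) :
    B Q x (y - t • z) = B Q x y - t * B Q x z := by
  show QuadraticMap.polar (⇑Q) x (y - t • z) = QuadraticMap.polar (⇑Q) x y - t * QuadraticMap.polar (⇑Q) x z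
  rw [QuadraticMap.polar_sub_right, QuadraticMap.polar_smul_right, smul_eq_mul]

/-- FCOMM (M): put `G = ↑g`, `c = G d`. `R c * G = G * ρ` with `ρ = E d (-(Q c)⁻¹ • (pv Q c ᵥ* G))`
(`ρ x = x - (B(c, G x)/Q c) d`); `ρ` commutes with `R x₀` (both `R x₀ (ρ x)` and `ρ (R x₀ x)` equal
`x - (B(c,Gx)/Q c) d - (B(x₀,x)/Q x₀) x₀`, using `B x₀ d = 0` and `B c (G x₀) = 0`) and with `R y₀`; then
`R c * G R R G⁻¹ = G ρ R R G⁻¹ = G R R ρ G⁻¹ = G R R G⁻¹ R c` (`ρ G⁻¹ = G⁻¹ R c`).  Easiest: prove the equality on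
vectors with `Spin.matrix_ext_mulVec`, writing `x = G y`. -/
theorem FCOMM.main (g : Matrix.GeneralLinearGroup (Fin n) F) {x₀ y₀ d : Fin n → F}
    (hc : Q ((g : Matrix (Fin n) (Fin n) F) *ᵥ d) ≠ 0)
    (hdx : B Q d x₀ = 0) (hdy : B Q d y₀ = 0)
    (hcx : B Q ((g : Matrix (Fin n) (Fin n) F) *ᵥ d) ((g : Matrix (Fin n) (Fin n) F) *ᵥ x₀) = 0)
    (hcy : B Q ((g : Matrix (Fin n) (Fin n) F) *ᵥ d) ((g : Matrix (Fin n) (Fin n) F) *ᵥ y₀) = 0) :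
    FIRST.R Q ((g : Matrix (Fin n) (Fin n) F) *ᵥ d) * FIRST.conjm Q g x₀ y₀ =
      FIRST.conjm Q g x₀ y₀ * FIRST.R Q ((g : Matrix (Fin n) (Fin n) F) *ᵥ d) := by
  unfold FIRST.conjm
  have hGG' : (g : Matrix (Fin n) (Fin n) F) *
      ((g⁻¹ : Matrix.GeneralLinearGroup (Fin n) F) : Matrix (Fin n) (Fin n) F) = 1 := by
    rw [← Units.val_mul, mul_inv_cancel, Units.val_one]
  have hG'G : ((g⁻¹ : Matrix.GeneralLinearGroup (Fin n) F) : Matrix (Fin n) (Fin n) F) *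
      (g : Matrix (Fin n) (Fin n) F) = 1 := by
    rw [← Units.val_mul, inv_mul_cancel, Units.val_one]
  generalize ((g⁻¹ : Matrix.GeneralLinearGroup (Fin n) F) : Matrix (Fin n) (Fin n) F) = G' at hGG' hG'G ⊢
  generalize (g : Matrix (Fin n) (Fin n) F) = G at hGG' hG'G hc hcx hcy ⊢
  have hρ : ∀ v, FIRST.R Q (G *ᵥ d) *ᵥ (G *ᵥ v) =
      G *ᵥ (v - ((Q (G *ᵥ d))⁻¹ * B Q (G *ᵥ d) (G *ᵥ v)) • d) := by
    intro v
    rw [FCOMM.R_mulVec, Matrix.mulVec_sub, Matrix.mulVec_smul]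
  have hcomm : ∀ w : Fin n → F, B Q d w = 0 → B Q (G *ᵥ d) (G *ᵥ w) = 0 → ∀ v,
      (FIRST.R Q w *ᵥ v) - ((Q (G *ᵥ d))⁻¹ * B Q (G *ᵥ d) (G *ᵥ (FIRST.R Q w *ᵥ v))) • d =
      FIRST.R Q w *ᵥ (v - ((Q (G *ᵥ d))⁻¹ * B Q (G *ᵥ d) (G *ᵥ v)) • d) := by
    intro w hdw hcw v
    have h1 : B Q (G *ᵥ d) (G *ᵥ (FIRST.R Q w *ᵥ v)) = B Q (G *ᵥ d) (G *ᵥ v) := by
      rw [FCOMM.R_mulVec, Matrix.mulVec_sub, Matrix.mulVec_smul, FCOMM.B_sub_smul_right, hcw, mul_zero,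
        sub_zero]
    have h2 : B Q w (v - ((Q (G *ᵥ d))⁻¹ * B Q (G *ᵥ d) (G *ᵥ v)) • d) = B Q w v := by
      rw [FCOMM.B_sub_smul_right, B_comm Q w d, hdw, mul_zero, sub_zero]
    rw [h1, FCOMM.R_mulVec, FCOMM.R_mulVec, h2]
    abel
  have hcancel : ∀ v, G' *ᵥ (G *ᵥ v) = v := by
    intro v
    rw [Matrix.mulVec_mulVec, hG'G, Matrix.one_mulVec]
  apply matrix_ext_mulVec
  intro x
  have hx : x = G *ᵥ (G' *ᵥ x) := by rw [Matrix.mulVec_mulVec, hGG', Matrix.one_mulVec]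
  generalize G' *ᵥ x = y at hx
  subst hx
  simp only [← Matrix.mulVec_mulVec]
  rw [hcancel, hρ y, hcancel, hρ, ← hcomm y₀ hdy hcy y, ← hcomm x₀ hdx hcx (FIRST.R Q y₀ *ᵥ y)]

end Cfsg.Agent.OS6P
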