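import Mathlib
import Cfsg.Agent.Helper28.OrthSim1
import Cfsg.Agent.Helper6.OS6FirstDefs
import Cfsg.Agent.Helper21.OS6FCOMM

/-! # os6 chapter FIRST (driver helper6/helper8), piece FNZ: the covector `pv e ᵥ* conjm - pv e` is nonzero. -/

set_option autoImplicit false
set_option linter.unusedSectionVars false

namespace Cfsg.Agent.OS6P

open Matrix Module Cfsg.Agent.Helper28.Sg Cfsg.Agent.Helper28.Spin Cfsg.Agent.Helper28.SLMax
  Cfsg.Agent.Helper28.SimMax Cfsg.Agent.Helper28.OSim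

variable {F : Type*} [Field F] {n : ℕ} {Q : QuadraticForm F (Fin n → F)}

/-- FNZ (M): evaluate the covector on `G w`: `(pv e ᵥ* conjm g y₀ x₀) ⬝ᵥ (G w) - pv e ⬝ᵥ (G w)
= B e (G (R y₀ (R x₀ w) - w))`, `e = G z`.  If `B e (G y₀) ≠ 0` take `w ⊥ x₀` with `B y₀ w ≠ 0` (exists by
`mem_of_forall_perp hQ (span {x₀}) y₀` and `hind`): value `= -(Q y₀)⁻¹ B y₀ w * B e (G y₀) ≠ 0`.  Otherwise
`B e (G x₀) ≠ 0`, take `w = x₀` (`B x₀ x₀ = 2 Q x₀ ≠ 0`): value `= -2 B e (G x₀) + (..) * B e (G y₀) = -2 B e (G x₀)`. -/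
theorem FNZ.main (h2 : (2 : F) ≠ 0) (hQ : (QuadraticMap.polarBilin Q).Nondegenerate)
    (g : Matrix.GeneralLinearGroup (Fin n) F) {x₀ y₀ z : Fin n → F}
    (hx : Q x₀ ≠ 0) (hy : Q y₀ ≠ 0) (hind : ∀ a : F, y₀ ≠ a • x₀)
    (hne : B Q ((g : Matrix (Fin n) (Fin n) F) *ᵥ z) ((g : Matrix (Fin n) (Fin n) F) *ᵥ x₀) ≠ 0 ∨
      B Q ((g : Matrix (Fin n) (Fin n) F) *ᵥ z) ((g : Matrix (Fin n) (Fin n) F) *ᵥ y₀) ≠ 0) :
    pv Q ((g : Matrix (Fin n) (Fin n) F) *ᵥ z) ᵥ* FIRST.conjm Q g y₀ x₀ -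
      pv Q ((g : Matrix (Fin n) (Fin n) F) *ᵥ z) ≠ 0 := by
  intro h0
  unfold FIRST.conjm at h0
  have hG'G : ((g⁻¹ : Matrix.GeneralLinearGroup (Fin n) F) : Matrix (Fin n) (Fin n) F) *
      (g : Matrix (Fin n) (Fin n) F) = 1 := by
    rw [← Units.val_mul, inv_mul_cancel, Units.val_one]
  generalize ((g⁻¹ : Matrix.GeneralLinearGroup (Fin n) F) : Matrix (Fin n) (Fin n) F) = G' at hG'G h0
  generalize (g : Matrix (Fin n) (Fin n) F) = G at hG'G h0 hne
  have hcancel : ∀ v, G' *ᵥ (G *ᵥ v) = v := by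
    intro v
    rw [Matrix.mulVec_mulVec, hG'G, Matrix.one_mulVec]
  -- evaluation of the covector at `G w`
  have hev : ∀ w, B Q (G *ᵥ z) (G *ᵥ (FIRST.R Q y₀ *ᵥ (FIRST.R Q x₀ *ᵥ w))) = B Q (G *ᵥ z) (G *ᵥ w) := by
    intro w
    have h1 : (pv Q (G *ᵥ z) ᵥ* (G * (FIRST.R Q y₀ * FIRST.R Q x₀) * G') - pv Q (G *ᵥ z)) ⬝ᵥ (G *ᵥ w) = 0 := by
      rw [h0, zero_dotProduct]
    rw [sub_dotProduct, ← Matrix.dotProduct_mulVec, pv_dot, pv_dot, sub_eq_zero] at h1
    simp only [← Matrix.mulVec_mulVec] at h1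
    rw [hcancel] at h1
    exact h1
  -- expansion
  have hexp : ∀ w, B Q (G *ᵥ z) (G *ᵥ (FIRST.R Q y₀ *ᵥ (FIRST.R Q x₀ *ᵥ w))) =
      B Q (G *ᵥ z) (G *ᵥ w) - ((Q x₀)⁻¹ * B Q x₀ w) * B Q (G *ᵥ z) (G *ᵥ x₀) -
        ((Q y₀)⁻¹ * B Q y₀ (FIRST.R Q x₀ *ᵥ w)) * B Q (G *ᵥ z) (G *ᵥ y₀) := by
    intro w
    rw [FCOMM.R_mulVec y₀, Matrix.mulVec_sub, Matrix.mulVec_smul, FCOMM.B_sub_smul_right,
      FCOMM.R_mulVec x₀ w, Matrix.mulVec_sub, Matrix.mulVec_smul, FCOMM.B_sub_smul_right]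
  rcases hne with hnx | hny
  · by_cases hny : B Q (G *ᵥ z) (G *ᵥ y₀) = 0
    · -- take `w = x₀`
      have h1 := hev x₀
      rw [hexp, hny, mul_zero, sub_zero, B_self, sub_eq_self] at h1
      rcases mul_eq_zero.mp h1 with h3 | h3
      · have h4 : (Q x₀)⁻¹ * (2 * Q x₀) = 2 := by
          field_simp
        rw [h4] at h3
        exact h2 h3
      · exact hnx h3
    · -- same as the other case
      have hw : ∃ w, B Q x₀ w = 0 ∧ B Q y₀ w ≠ 0 := by
        by_contra hcon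
        push Not at hcon
        have hmem : y₀ ∈ Submodule.span F ({x₀} : Set (Fin n → F)) := by
          apply mem_of_forall_perp hQ
          intro x hxs
          rw [B_comm]
          apply hcon
          exact hxs x₀ (Submodule.subset_span (Set.mem_singleton _))
        obtain ⟨a, ha⟩ := Submodule.mem_span_singleton.mp hmem
        exact hind a ha.symm
      obtain ⟨w, hw1, hw2⟩ := hw
      have h1 := hev w
      rw [hexp, hw1, mul_zero, zero_mul, sub_zero, sub_eq_self, FCOMM.R_mulVec, hw1, mul_zero, zero_smul,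
        sub_zero] at h1
      rcases mul_eq_zero.mp h1 with h3 | h3
      · rcases mul_eq_zero.mp h3 with h4 | h4
        · exact hy (inv_eq_zero.mp h4)
        · exact hw2 h4
      · exact hny h3
  · have hw : ∃ w, B Q x₀ w = 0 ∧ B Q y₀ w ≠ 0 := by
      by_contra hcon
      push Not at hcon
      have hmem : y₀ ∈ Submodule.span F ({x₀} : Set (Fin n → F)) := by
        apply mem_of_forall_perp hQ
        intro x hxs
        rw [B_comm]
        apply hcon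
        exact hxs x₀ (Submodule.subset_span (Set.mem_singleton _))
      obtain ⟨a, ha⟩ := Submodule.mem_span_singleton.mp hmem
      exact hind a ha.symm
    obtain ⟨w, hw1, hw2⟩ := hw
    have h1 := hev w
    rw [hexp, hw1, mul_zero, zero_mul, sub_zero, sub_eq_self, FCOMM.R_mulVec, hw1, mul_zero, zero_smul,
      sub_zero] at h1
    rcases mul_eq_zero.mp h1 with h3 | h3
    · rcases mul_eq_zero.mp h3 with h4 | h4
      · exact hy (inv_eq_zero.mp h4)
      · exact hw2 h4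
    · exact hny h3

end Cfsg.Agent.OS6P
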