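import Mathlib

/-!
# Covering the `p`-elements of a group generated by `p`-elements

If `L` is generated by its `p`-elements and at most `p` subgroups cover the `p`-elements of `L`,
then one of them contains `L`.
-/

set_option autoImplicit false
set_option linter.style.haveILetI false

namespace Cfsg.Agent.Helper21.PCover

open Subgroup
open scoped Pointwise

variable {G : Type*} [Group G]

/-- A finite `p`-group is not the union of at most `p` proper subgroups. -/
theorem pgroup_cover [Finite G] (p : ℕ) [hp : Fact p.Prime] (P : Subgroup G) (hP : IsPGroup p P)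
    {ι : Type*} [Fintype ι] (K : ι → Subgroup G) (hι : Fintype.card ι ≤ p)
    (hcov : ∀ x ∈ P, ∃ i, x ∈ K i) : ∃ i, P ≤ K i := by
  classical
  by_contra hcon
  push Not at hcon
  haveI : Fintype G := Fintype.ofFinite G
  obtain ⟨k, hk⟩ := hP.exists_card_eq
  have hp2 : 2 ≤ p := hp.out.two_le
  -- k ≥ 1
  have hk1 : 1 ≤ k := by
    rcases Nat.eq_zero_or_pos k with h0 | h0
    · exfalso
      rw [h0, pow_zero] at hk
      have hbot : P = ⊥ := (Subgroup.card_eq_one).mp hk
      obtain ⟨i, _⟩ := hcov 1 P.one_mem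
      apply hcon i
      rw [hbot]
      exact bot_le
    · exact h0
  -- each K i ⊓ P has at most p^(k-1) elements
  have hH : ∀ i, Nat.card (K i ⊓ P : Subgroup G) ≤ p ^ (k - 1) := by
    intro i
    have hle : (K i ⊓ P : Subgroup G) ≤ P := inf_le_right
    have hdvd : Nat.card (K i ⊓ P : Subgroup G) ∣ p ^ k := by
      rw [← hk]; exact Subgroup.card_dvd_of_le hle
    obtain ⟨j, hj, hj'⟩ := (Nat.dvd_prime_pow hp.out).mp hdvd
    rw [hj']
    apply Nat.pow_le_pow_right hp.out.pos
    by_contra hjk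
    have hjk' : j = k := by omega
    apply hcon i
    have : (K i ⊓ P : Subgroup G) = P := by
      apply Subgroup.eq_of_le_of_card_ge hle
      rw [hj', hjk', hk]
    rw [← this]
    exact inf_le_left
  -- counting
  have hsub : (Set.toFinset (P : Set G)) ⊆ insert (1 : G)
      (Finset.univ.biUnion fun i : ι => (Set.toFinset ((K i ⊓ P : Subgroup G) : Set G)).erase 1) := by
    intro x hx
    rw [Set.mem_toFinset] at hx
    by_cases hx1 : x = 1
    · rw [hx1]; exact Finset.mem_insert_self _ _
    · obtain ⟨i, hi⟩ := hcov x hx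
      apply Finset.mem_insert_of_mem
      rw [Finset.mem_biUnion]
      refine ⟨i, Finset.mem_univ _, ?_⟩
      rw [Finset.mem_erase, Set.mem_toFinset]
      exact ⟨hx1, hi, hx⟩
  have h1 := Finset.card_le_card hsub
  have h2 : (Set.toFinset (P : Set G)).card = p ^ k := by
    rw [Set.toFinset_card, ← Nat.card_eq_fintype_card]
    exact hk
  have h3 : ∀ i : ι, ((Set.toFinset ((K i ⊓ P : Subgroup G) : Set G)).erase 1).card
      ≤ p ^ (k - 1) - 1 := by
    intro i
    rw [Finset.card_erase_of_mem (by rw [Set.mem_toFinset]; exact one_mem _)]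
    have : (Set.toFinset ((K i ⊓ P : Subgroup G) : Set G)).card = Nat.card (K i ⊓ P : Subgroup G) := by
      rw [Set.toFinset_card, ← Nat.card_eq_fintype_card]
      rfl
    rw [this]
    exact Nat.sub_le_sub_right (hH i) 1
  have h4 : (insert (1 : G) (Finset.univ.biUnion fun i : ι =>
      (Set.toFinset ((K i ⊓ P : Subgroup G) : Set G)).erase 1)).card ≤ 1 + p * (p ^ (k - 1) - 1) := by
    refine le_trans (Finset.card_insert_le _ _) ?_
    rw [add_comm]
    apply Nat.add_le_add_left
    refine le_trans Finset.card_biUnion_le ?_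
    refine le_trans (Finset.sum_le_sum fun i _ => h3 i) ?_
    rw [Finset.sum_const, smul_eq_mul, Finset.card_univ]
    exact Nat.mul_le_mul_right _ hι
  have h5 : p ^ k ≤ 1 + p * (p ^ (k - 1) - 1) := by
    rw [← h2]; exact le_trans h1 h4
  have h6 : p ^ k = p * p ^ (k - 1) := by
    rw [← pow_succ']
    congr 1
    omega
  have h7 : 1 ≤ p ^ (k - 1) := Nat.one_le_pow _ _ hp.out.pos
  rw [h6, Nat.mul_sub, mul_one] at h5
  have h8 : p ≤ p * p ^ (k - 1) := Nat.le_mul_of_pos_right _ h7
  omega


/-- `x` is a `p`-element. -/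
def IsPElt (p : ℕ) (x : G) : Prop := ∃ k : ℕ, orderOf x = p ^ k

/-- `M` is generated by its `p`-elements. -/
def IsPGen (p : ℕ) (M : Subgroup G) : Prop :=
  ∀ N : Subgroup G, (∀ x ∈ M, IsPElt p x → x ∈ N) → M ≤ N

theorem isPGen_of_closure (p : ℕ) (M : Subgroup G)
    (h : M ≤ closure {g : G | g ∈ M ∧ IsPElt p g}) : IsPGen p M := by
  intro N hN
  refine le_trans h ?_
  rw [closure_le]
  rintro x ⟨hxM, hx⟩
  exact hN x hxM hx

theorem isPGen_sup {p : ℕ} {M M' : Subgroup G} (h : IsPGen p M) (h' : IsPGen p M') :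
    IsPGen p (M ⊔ M') := by
  intro N hN
  apply sup_le
  · exact h N fun x hx hxp => hN x (le_sup_left (a := M) (b := M') hx) hxp
  · exact h' N fun x hx hxp => hN x (le_sup_right (a := M) (b := M') hx) hxp

theorem isPGen_zpowers {p : ℕ} {x : G} (hx : IsPElt p x) : IsPGen p (zpowers x) := by
  intro N hN
  rw [zpowers_le]
  exact hN x (mem_zpowers x) hx

theorem isPElt_of_mem_isPGroup {p : ℕ} [hp : Fact p.Prime] {P : Subgroup G} (hP : IsPGroup p P)
    {x : G} (hx : x ∈ P) : IsPElt p x := by
  obtain ⟨k, hk⟩ := hP ⟨x, hx⟩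
  have hk' : x ^ (p ^ k) = 1 := by
    have := congrArg Subtype.val hk
    simpa using this
  obtain ⟨j, _, hj⟩ := (Nat.dvd_prime_pow hp.out).mp (orderOf_dvd_of_pow_eq_one hk')
  exact ⟨j, hj⟩

theorem isPGen_of_isPGroup {p : ℕ} [Fact p.Prime] {P : Subgroup G} (hP : IsPGroup p P) :
    IsPGen p P := by
  intro N hN x hx
  exact hN x hx (isPElt_of_mem_isPGroup hP hx)

theorem isPElt_conj {p : ℕ} (g : G) {x : G} (hx : IsPElt p x) : IsPElt p (MulAut.conj g x) := by
  obtain ⟨k, hk⟩ := hx
  exact ⟨k, by rw [MulEquiv.orderOf_eq]; exact hk⟩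

theorem isPGen_smul {p : ℕ} (g : G) {M : Subgroup G} (h : IsPGen p M) :
    IsPGen p (MulAut.conj g • M) := by
  intro N hN
  have h1 : M ≤ (MulAut.conj g)⁻¹ • N := by
    apply h
    intro x hx hxp
    rw [mem_pointwise_smul_iff_inv_smul_mem, inv_inv]
    apply hN
    · exact smul_mem_pointwise_smul_iff.mpr hx
    · exact isPElt_conj g hxp
  have h2 := pointwise_smul_le_pointwise_smul_iff (a := MulAut.conj g) |>.mpr h1
  rwa [smul_inv_smul] at h2

/-- The subgroup of elements fixing `M` under conjugation. -/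
def stab (M : Subgroup G) : Subgroup G :=
  (MulAction.stabilizer (MulAut G) M).comap (MulAut.conj : G →* MulAut G)

theorem mem_stab {M : Subgroup G} {g : G} : g ∈ stab M ↔ MulAut.conj g • M = M := by
  rw [stab, mem_comap, MulAction.mem_stabilizer_iff]

theorem le_stab (M : Subgroup G) : M ≤ stab M := fun _ hg =>
  mem_stab.mpr (conj_smul_eq_self_of_mem hg)


theorem card_lt_of_lt' [Finite G] {M L : Subgroup G} (h : M < L) : Nat.card M < Nat.card L :=
  lt_of_le_of_ne (Subgroup.card_le_of_le h.le)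
    (fun he => h.ne (Subgroup.eq_of_le_of_card_ge h.le he.ge))

/-- Main covering theorem. -/
theorem exists_le_of_cover [Finite G] (p : ℕ) [hp : Fact p.Prime] {ι : Type*} [Fintype ι]
    (K : ι → Subgroup G) (hι : Fintype.card ι ≤ p) :
    ∀ n : ℕ, ∀ L : Subgroup G, Nat.card L = n → IsPGen p L →
      (∀ x ∈ L, IsPElt p x → ∃ i, x ∈ K i) → ∃ i, L ≤ K i := by
  classical
  intro n
  induction n using Nat.strong_induction_on with
  | _ n ih =>
  intro L hn hgen hcov
  by_contra hcon
  push Not at hcon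
  -- induction hypothesis in convenient form
  have IH : ∀ M : Subgroup G, M < L → IsPGen p M → ∃ i, M ≤ K i := by
    intro M hML hM
    exact ih (Nat.card M) (hn ▸ card_lt_of_lt' hML) M rfl hM
      (fun x hx hxp => hcov x (hML.le hx) hxp)
  obtain ⟨i₀, _⟩ := hcov 1 L.one_mem ⟨0, by simp⟩
  let 𝓟 : Set (Subgroup G) := {M | M < L ∧ IsPGen p M}
  have h𝓟fin : 𝓟.Finite := Set.toFinite 𝓟
  have hfex : ∀ M : Subgroup G, ∃ i, M ∈ 𝓟 → M ≤ K i := by
    intro M
    by_cases hM : M ∈ 𝓟
    · obtain ⟨i, hi⟩ := IH M hM.1 hM.2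
      exact ⟨i, fun _ => hi⟩
    · exact ⟨i₀, fun h => absurd h hM⟩
  choose f hf using hfex
  -- f is injective on maximal elements
  have finj : ∀ M M' : Subgroup G, Maximal (· ∈ 𝓟) M → Maximal (· ∈ 𝓟) M' → f M = f M' →
      M = M' := by
    intro M M' hM hM' hff
    have h1 : M ≤ K (f M) := hf M hM.prop
    have h2 : M' ≤ K (f M) := hff ▸ hf M' hM'.prop
    have h3 : M ⊔ M' ∈ 𝓟 := by
      refine ⟨lt_of_le_of_ne (sup_le hM.prop.1.le hM'.prop.1.le) ?_,
        isPGen_sup hM.prop.2 hM'.prop.2⟩
      intro he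
      apply hcon (f M)
      rw [← he]
      exact sup_le h1 h2
    have h4 : M ⊔ M' ≤ M := hM.le_of_ge h3 le_sup_left
    have h5 : M ⊔ M' ≤ M' := hM'.le_of_ge h3 le_sup_right
    exact le_antisymm (le_trans le_sup_left h5) (le_trans le_sup_right h4)
  -- every p-element lies in a maximal element
  have hx0 : ∀ x ∈ L, IsPElt p x → ∃ M₀, Maximal (· ∈ 𝓟) M₀ ∧ x ∈ M₀ := by
    intro x hx hxp
    have hz : zpowers x ∈ 𝓟 := by
      refine ⟨lt_of_le_of_ne (zpowers_le.mpr hx) ?_, isPGen_zpowers hxp⟩
      intro he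
      obtain ⟨i, hi⟩ := hcov x hx hxp
      apply hcon i
      rw [← he, zpowers_le]
      exact hi
    obtain ⟨M₀, hle, hmax⟩ := h𝓟fin.exists_le_maximal hz
    exact ⟨M₀, hmax, hle (mem_zpowers x)⟩
  -- conjugates of maximal elements are maximal
  have hconjmax : ∀ g ∈ L, ∀ M, Maximal (· ∈ 𝓟) M → Maximal (· ∈ 𝓟) (MulAut.conj g • M) := by
    have hmem : ∀ g ∈ L, ∀ M, M ∈ 𝓟 → MulAut.conj g • M ∈ 𝓟 := by
      intro g hg M hM
      refine ⟨?_, isPGen_smul g hM.2⟩
      have h1 : MulAut.conj g • M < MulAut.conj g • L := by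
        rw [lt_iff_le_not_ge, pointwise_smul_le_pointwise_smul_iff,
          pointwise_smul_le_pointwise_smul_iff, ← lt_iff_le_not_ge]
        exact hM.1
      rwa [conj_smul_eq_self_of_mem hg] at h1
    intro g hg M hM
    refine ⟨hmem g hg M hM.prop, ?_⟩
    intro N hN hle
    have hN' : (MulAut.conj g)⁻¹ • N ∈ 𝓟 := by
      have := hmem g⁻¹ (L.inv_mem hg) N hN
      rwa [map_inv] at this
    have h1 : M ≤ (MulAut.conj g)⁻¹ • N := by
      have := pointwise_smul_le_pointwise_smul_iff (a := (MulAut.conj g)⁻¹) |>.mpr hle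
      rwa [inv_smul_smul] at this
    have h2 := hM.le_of_ge hN' h1
    have := pointwise_smul_le_pointwise_smul_iff (a := MulAut.conj g) |>.mpr h2
    rwa [smul_inv_smul] at this
  -- p-elements fix every maximal element
  have hfix : ∀ x ∈ L, IsPElt p x → ∀ M, Maximal (· ∈ 𝓟) M → x ∈ stab M := by
    intro x hx hxp M hM
    by_contra hxM
    obtain ⟨M₀, hM₀, hxM₀⟩ := hx0 x hx hxp
    obtain ⟨k, hk⟩ := hxp
    -- the p + 1 distinct maximal elements
    let F : Option (Fin p) → Subgroup G := fun o =>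
      match o with
      | none => M₀
      | some j => MulAut.conj (x ^ (j : ℕ)) • M
    have hFmax : ∀ o, Maximal (· ∈ 𝓟) (F o) := by
      intro o
      cases o with
      | none => exact hM₀
      | some j => exact hconjmax _ (L.pow_mem hx _) M hM
    have hpow : ∀ d : ℕ, 0 < d → d < p → x ^ d ∉ stab M := by
      intro d hd0 hdp hmem
      apply hxM
      have hcop : d.Coprime (orderOf x) := by
        rw [hk]
        apply Nat.Coprime.pow_right
        exact (Nat.coprime_of_lt_prime hd0.ne' hdp hp.out).symm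
      obtain ⟨m, hm⟩ := exists_pow_eq_self_of_coprime hcop
      rw [← hm]
      exact (stab M).pow_mem hmem m
    have hlt : ∀ i j : ℕ, i < j → j < p →
        MulAut.conj (x ^ i) • M ≠ MulAut.conj (x ^ j) • M := by
      intro i j hij hjp he
      apply hpow (j - i) (by omega) (by omega)
      rw [mem_stab]
      have h1 : x ^ j = x ^ i * x ^ (j - i) := by
        rw [← pow_add]; congr 1; omega
      rw [h1, map_mul, mul_smul] at he
      exact (smul_left_cancel _ he).symm
    have hFinj : Function.Injective F := by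
      intro a b hab
      cases a with
      | none =>
        cases b with
        | none => rfl
        | some j =>
          exfalso
          apply hxM
          have h1 : M₀ = MulAut.conj (x ^ (j : ℕ)) • M := hab
          have h2 : MulAut.conj (x ^ (j : ℕ)) • M₀ = M₀ :=
            conj_smul_eq_self_of_mem (M₀.pow_mem hxM₀ _)
          have h3 : M₀ = M := by
            apply smul_left_cancel (MulAut.conj (x ^ (j : ℕ)))
            rw [h2]; exact h1
          exact le_stab M (h3 ▸ hxM₀)
      | some i =>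
        cases b with
        | none =>
          exfalso
          apply hxM
          have h1 : M₀ = MulAut.conj (x ^ (i : ℕ)) • M := hab.symm
          have h2 : MulAut.conj (x ^ (i : ℕ)) • M₀ = M₀ :=
            conj_smul_eq_self_of_mem (M₀.pow_mem hxM₀ _)
          have h3 : M₀ = M := by
            apply smul_left_cancel (MulAut.conj (x ^ (i : ℕ)))
            rw [h2]; exact h1
          exact le_stab M (h3 ▸ hxM₀)
        | some j =>
          have hab' : MulAut.conj (x ^ (i : ℕ)) • M = MulAut.conj (x ^ (j : ℕ)) • M := hab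
          congr 1
          apply Fin.ext
          by_contra hne
          rcases Nat.lt_or_gt_of_ne hne with h | h
          · exact hlt _ _ h j.2 hab'
          · exact hlt _ _ h i.2 hab'.symm
    have hginj : Function.Injective (fun o => f (F o)) := by
      intro a b hab
      exact hFinj (finj _ _ (hFmax a) (hFmax b) hab)
    have hcard := Fintype.card_le_of_injective _ hginj
    rw [Fintype.card_option, Fintype.card_fin] at hcard
    omega
  -- Sylow subgroup of L
  obtain ⟨P⟩ : Nonempty (Sylow p ↥L) := inferInstance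
  set P' : Subgroup G := (P : Subgroup ↥L).map L.subtype with hP'
  have hP'L : P' ≤ L := map_subtype_le _
  have hP'p : IsPGroup p P' := P.2.map L.subtype
  by_cases hPL : P' = L
  · have hLp : IsPGroup p L := hPL ▸ hP'p
    obtain ⟨i, hi⟩ := pgroup_cover p L hLp K hι
      (fun x hx => hcov x hx (isPElt_of_mem_isPGroup hLp hx))
    exact hcon i hi
  · have hP𝓟 : P' ∈ 𝓟 := ⟨lt_of_le_of_ne hP'L hPL, isPGen_of_isPGroup hP'p⟩
    obtain ⟨M, hPM, hM⟩ := h𝓟fin.exists_le_maximal hP𝓟
    have hLM : L ≤ stab M := hgen (stab M) (fun x hx hxp => hfix x hx hxp M hM)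
    apply hM.prop.1.ne
    apply le_antisymm hM.prop.1.le
    apply hgen M
    intro y hy hyp
    obtain ⟨k, hk⟩ := hyp
    have hzp : IsPGroup p (zpowers (⟨y, hy⟩ : ↥L)) := by
      apply IsPGroup.of_card (n := k)
      rw [Nat.card_zpowers, Subgroup.orderOf_mk, hk]
    obtain ⟨S, hS⟩ := hzp.exists_le_sylow
    obtain ⟨g, hg⟩ := MulAction.exists_smul_eq ↥L P S
    have hyS : (⟨y, hy⟩ : ↥L) ∈ S := hS (mem_zpowers _)
    rw [← hg] at hyS
    have hyS' : (⟨y, hy⟩ : ↥L) ∈ MulAut.conj g • (P : Subgroup ↥L) := hyS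
    rw [mem_pointwise_smul_iff_inv_smul_mem] at hyS'
    -- the conjugate lies in P' ≤ M
    have h1 : (g : G)⁻¹ * y * (g : G) ∈ P' := by
      rw [hP', mem_map]
      refine ⟨_, hyS', ?_⟩
      simp [MulAut.smul_def]
    have h2 : (g : G)⁻¹ * y * (g : G) ∈ M := hPM h1
    have h3 : MulAut.conj (g : G) • M = M := mem_stab.mp (hLM g.2)
    rw [← h3, mem_pointwise_smul_iff_inv_smul_mem]
    simpa [MulAut.smul_def, MulAut.conj_inv_apply] using h2

end Cfsg.Agent.Helper21.PCover
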