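import Cfsg.Agent.Helper21.PUB2_CZcore
import Cfsg.Agent.Helper13.PUB2_QL

/-! Board `pu3pieces`, row B2_CZ: `C_G(Z) = Q` for `s = 1`. -/

set_option autoImplicit false

namespace Cfsg.Agent.PU

open Subgroup
open scoped commutatorElement

variable {X : Type*} [Group X]

variable (D : Dat X)

/-- `C_G(Z) = Q`: a `p'`-element `x` of `C_G(Z)` lies in `L`, so `[Q,x] ≤ Z`, `[Z,x] = 1`: `x` centralises `Q` (coprime action), `x ∈ C_G(Q) ≤ Q`, `x = 1`;
so `C_G(Z)` is a normal `p`-subgroup, `≤ S`, and `hB.cent_Z` puts it into `Q` -/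
theorem B2_CZ (hB : D.Base) (hN : D.NAT) (hs : D.IsS 1) : D.G ⊓ centralizer (D.Z : Set X) = D.Q :=
  B2_CZ_aux_core D hB (B2_QL D hB hN hs)

end Cfsg.Agent.PU
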