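import Mathlib
import Cfsg.Prelude.Def_Characters
import Cfsg.Agent.Helper24.QP889Defs
import Cfsg.Agent.Helper24.CliffordCorr
import Cfsg.Agent.Helper24.Expansion
import Cfsg.Agent.Helper24.Restrict
import Cfsg.Agent.Helper8.CharComp

/-!
# S0889 piece CLIF: Clifford dichotomy
-/

set_option autoImplicit false

namespace Cfsg.Agent.QP889

open Cfsg Cfsg.Agent.Helper24
open scoped ComplexConjugate

universe u

theorem clifford_dichotomy {X : Type u} [Group X] [Fintype X] (B : Subgroup X) [B.Normal]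
    (ρ : X → ℂ) (hρ : IsIrrCharacter X ρ) :
    (∃ (κ : B → ℂ) (e : ℕ), IsIrrCharacter B κ ∧ (fun b : B => ρ b) = (e : ℂ) • κ) ∨
    (∃ (T : Subgroup X) (σ : T → ℂ), B ≤ T ∧ T ≠ ⊤ ∧ IsIrrCharacter T σ ∧
      indFun T σ = ρ) := by
  classical
  letI : Fintype B := Fintype.ofFinite B
  letI : Fintype (IrrCharacter B) := Fintype.ofFinite _
  have hρc : IsCharacter X ρ := IsIrrCharacter.isCharacter hρ
  have hres : IsCharacter B (fun b : B => ρ b) := Cfsg.Agent.Helper8.isCharacter_restrict B hρc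
  have hne : (fun b : B => ρ b) ≠ 0 := by
    intro h
    have h1 := congrFun h 1
    simp only [Subgroup.coe_one, Pi.zero_apply] at h1
    exact Cfsg.Agent.Helper24.irr_one_ne_zero ⟨ρ, hρ⟩ h1
  obtain ⟨κ, hκ⟩ := Cfsg.Agent.Helper24.IsCharacter.exists_irr_constituent hres hne
  by_cases hT : Cfsg.Agent.Helper24.inertiaSubgroup B (κ : B → ℂ) = ⊤
  · left
    obtain ⟨m, hm⟩ := Cfsg.Agent.Helper24.IsCharacter.classInner_irr_nat hres κ
    refine ⟨(κ : B → ℂ), m, κ.2, ?_⟩
    have hcl := Cfsg.Agent.Helper24.clifford_finset B hρ κ.2 hκ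
    have himg : Finset.univ.image (Cfsg.Agent.Helper24.conjFun B (κ : B → ℂ)) = {(κ : B → ℂ)} := by
      ext ψ
      simp only [Finset.mem_image, Finset.mem_univ, true_and, Finset.mem_singleton]
      constructor
      · rintro ⟨g, rfl⟩
        have hg : g ∈ Cfsg.Agent.Helper24.inertiaSubgroup B (κ : B → ℂ) := by
          rw [hT]; exact Subgroup.mem_top g
        exact hg
      · rintro rfl
        exact ⟨1, Cfsg.Agent.Helper24.conjFun_one B _⟩
    rw [himg, Finset.sum_singleton, hm] at hcl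
    exact hcl
  · right
    letI : Fintype (Cfsg.Agent.Helper24.inertiaSubgroup B (κ : B → ℂ)) := Fintype.ofFinite _
    obtain ⟨σ, hσ, hind⟩ :=
      Cfsg.Agent.Helper24.exists_irr_inertia_indFun_eq B ρ hρ (κ : B → ℂ) κ.2 hκ
    refine ⟨_, σ, ?_, hT, hσ, hind⟩
    exact Cfsg.Agent.Helper24.le_inertiaSubgroup B _
      (IsCharacter.isClassFunction (IsIrrCharacter.isCharacter κ.2))

end Cfsg.Agent.QP889
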