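import Mathlib
import Cfsg.Prelude.Def_Characters
import Cfsg.Agent.Helper24.QP889Defs
import Cfsg.Agent.Helper24.CliffordCorr
import Cfsg.Agent.Helper24.Expansion
import Cfsg.Agent.Helper24.Restrict
import Cfsg.Agent.Helper8.CharComp
import Cfsg.Agent.Helper8.Ind

/-!
# S0889 piece RESL: if `(Ind_H ϑ)_L = e φ` for a normal subgroup `L ≤ H`, then `ϑ_L = t φ`.
-/

set_option autoImplicit false

namespace Cfsg.Agent.QP889

open Cfsg Cfsg.Agent.Helper24
open scoped ComplexConjugate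

universe u

theorem restrict_core_eq {G : Type u} [Group G] [Fintype G] (H L : Subgroup G) [L.Normal]
    (hLH : L ≤ H) (ϑ : H → ℂ) (hϑ : IsCharacter H ϑ) (φ : L → ℂ) (hφ : IsIrrCharacter L φ)
    (e : ℕ) (hχL : (fun l : L => indFun H ϑ l) = (e : ℂ) • φ) :
    ∃ t : ℕ, (fun l : L => ϑ ⟨l, hLH l.2⟩) = (t : ℂ) • φ := by
  classical
  letI : Fintype L := Fintype.ofFinite L
  letI : Fintype (IrrCharacter L) := Fintype.ofFinite _
  set ϑL : L → ℂ := fun l : L => ϑ ⟨l, hLH l.2⟩ with hϑL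
  have hϑLc : IsCharacter L ϑL :=
    Cfsg.Agent.Helper8.isCharacter_comp (Subgroup.inclusion hLH) hϑ
  -- the restriction of the induced function to `L`
  have hres : (fun l : L => indFun H ϑ l) =
      (Nat.card H : ℂ)⁻¹ • ∑ x : G, Cfsg.Agent.Helper24.conjFun L ϑL x := by
    funext l
    rw [Cfsg.Agent.Helper8.indFun_def, Pi.smul_apply, Finset.sum_apply, smul_eq_mul]
    congr 1
    rw [← Equiv.sum_comp (Equiv.inv G)]
    refine Finset.sum_congr rfl ?_
    intro x _
    have hmem : x * (l : G) * x⁻¹ ∈ L := (inferInstance : L.Normal).conj_mem l l.2 x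
    simp only [Equiv.inv_apply, inv_inv]
    rw [Cfsg.Agent.Helper8.ebz_mem H ϑ (hLH hmem)]
    rfl
  -- every irreducible constituent of `ϑL` is `φ`
  have hzero : ∀ ψ : IrrCharacter L, (ψ : L → ℂ) ≠ φ → classInner ϑL (ψ : L → ℂ) = 0 := by
    intro ψ hψ
    have h1 : classInner (fun l : L => indFun H ϑ l) (ψ : L → ℂ) = 0 := by
      rw [hχL, classInner_smul_left, classInner_of_isIrrCharacter hφ ψ.2, if_neg (Ne.symm hψ),
        mul_zero]
    rw [hres, classInner_smul_left, classInner_sum_left] at h1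
    have hcard : (Nat.card H : ℂ)⁻¹ ≠ 0 := by
      apply inv_ne_zero
      exact_mod_cast (Nat.card_pos (α := H)).ne'
    have h2 : ∑ x : G, classInner (Cfsg.Agent.Helper24.conjFun L ϑL x) (ψ : L → ℂ) = 0 :=
      (mul_eq_zero.mp h1).resolve_left hcard
    -- each term is a natural number
    have hnat : ∀ x : G, ∃ n : ℕ,
        classInner (Cfsg.Agent.Helper24.conjFun L ϑL x) (ψ : L → ℂ) = n := fun x =>
      IsCharacter.classInner_nat (Cfsg.Agent.Helper24.isCharacter_conjFun L hϑLc x)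
        (IsIrrCharacter.isCharacter ψ.2)
    choose n hn using hnat
    simp_rw [hn] at h2
    have h3 : ∑ x : G, n x = 0 := by exact_mod_cast h2
    have h4 : n 1 = 0 := (Finset.sum_eq_zero_iff.mp h3) 1 (Finset.mem_univ _)
    have h5 := hn 1
    rw [Cfsg.Agent.Helper24.conjFun_one, h4] at h5
    simpa using h5
  obtain ⟨t, ht⟩ := IsCharacter.classInner_irr_nat hϑLc ⟨φ, hφ⟩
  refine ⟨t, ?_⟩
  have hexp := IsCharacter.eq_sum_classInner hϑLc
  calc ϑL = ∑ ψ : IrrCharacter L, classInner ϑL (ψ : L → ℂ) • (ψ : L → ℂ) := hexp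
    _ = classInner ϑL ((⟨φ, hφ⟩ : IrrCharacter L) : L → ℂ) • ((⟨φ, hφ⟩ : IrrCharacter L) : L → ℂ) := by
        refine Finset.sum_eq_single (⟨φ, hφ⟩ : IrrCharacter L) ?_ ?_
        · intro ψ _ hψ
          rw [hzero ψ (fun h => hψ (Subtype.ext h)), zero_smul]
        · intro h
          exact absurd (Finset.mem_univ _) h
    _ = (t : ℂ) • φ := by rw [ht]

end Cfsg.Agent.QP889
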