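import Mathlib
import Cfsg.Prelude.Def_Characters
import Cfsg.Agent.Helper24.QP889Defs
import Cfsg.Agent.Helper24.Expansion
import Cfsg.Agent.Helper24.Regular
import Cfsg.Agent.Helper24.Eigen
import Cfsg.Agent.Helper8.CharComp
import Cfsg.Agent.Helper8.Ind
import Cfsg.Agent.Helper5.LinChar
import Cfsg.Agent.Helper23.QuasiPrimA

/-!
# S0889 piece VAN: `χ = Ind_H ϑ` irreducible, `HM = G`, `H ∩ M = L`, `χ_M = f ψ`, `χ_L = e φ` with `φ`
linear: `ψ(1)² = |G:H|`, `ψ` vanishes on `M ∖ L` and `|ψ| = ψ(1)` on `L`.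
-/

set_option autoImplicit false

namespace Cfsg.Agent.QP889

open Cfsg Cfsg.Agent.Helper24
open scoped ComplexConjugate

universe u

theorem sq_degree {G : Type u} [Group G] [Fintype G] (H M L : Subgroup G) [M.Normal] [L.Normal]
    (hsup : H ⊔ M = ⊤) (hinf : H ⊓ M = L) (ϑ : H → ℂ) (hϑ : IsCharacter H ϑ)
    (hirr : IsIrrCharacter G (indFun H ϑ))
    (ψ : M → ℂ) (hψ : IsIrrCharacter M ψ) (f : ℕ)
    (hχM : (fun m : M => indFun H ϑ m) = (f : ℂ) • ψ)
    (φ : L → ℂ) (hφ : IsIrrCharacter L φ) (hφ1 : φ 1 = 1) (e : ℕ)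
    (hχL : (fun l : L => indFun H ϑ l) = (e : ℂ) • φ) :
    (ψ 1) ^ 2 = (H.index : ℂ) ∧ (∀ m : M, (m : G) ∉ L → ψ m = 0) ∧
      (∀ m : M, (m : G) ∈ L → ‖ψ m‖ = ‖ψ 1‖) := by
  classical
  letI : Fintype M := Fintype.ofFinite M
  have hLM : L ≤ M := hinf ▸ inf_le_right
  have hLH : L ≤ H := hinf ▸ inf_le_left
  -- values on `M`
  have hM : ∀ m : M, indFun H ϑ (m : G) = (f : ℂ) * ψ m := fun m => congrFun hχM m
  have hL : ∀ l : L, indFun H ϑ (l : G) = (e : ℂ) * φ l := fun l => congrFun hχL l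
  -- `f ≠ 0`
  have hχ1 : indFun H ϑ (1 : G) ≠ 0 := irr_one_ne_zero ⟨_, hirr⟩
  have hf : (f : ℂ) ≠ 0 := by
    intro h0
    apply hχ1
    have := hM 1
    rw [h0, zero_mul, Subgroup.coe_one] at this
    exact this
  -- `ψ 1 = k`
  obtain ⟨k, hk0, hk⟩ := isIrrCharacter_one hψ
  -- vanishing off `L`
  have hvan : ∀ m : M, (m : G) ∉ L → ψ m = 0 := by
    intro m hm
    have h0 : indFun H ϑ (m : G) = 0 := by
      rw [Cfsg.Agent.Helper8.indFun_def]
      have : ∀ x : G, extendByZero H ϑ (x⁻¹ * (m : G) * x) = 0 := by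
        intro x
        apply Cfsg.Agent.Helper8.ebz_not_mem
        intro hx
        have hxM : x⁻¹ * (m : G) * x ∈ M := by
          have := (inferInstance : M.Normal).conj_mem m m.2 x⁻¹
          simpa using this
        have hxL : x⁻¹ * (m : G) * x ∈ L := by
          rw [← hinf]; exact ⟨hx, hxM⟩
        apply hm
        have := (inferInstance : L.Normal).conj_mem _ hxL x
        simpa [mul_assoc] using this
      simp [this]
    have := hM m
    rw [h0] at this
    exact (mul_eq_zero.mp this.symm).resolve_left hf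
  -- values on `L`
  have hφc : IsCharacter L φ := IsIrrCharacter.isCharacter hφ
  have hnormφ : ∀ l : L, ‖φ l‖ = 1 := by
    intro l
    have hpow : φ l ^ orderOf l = 1 := by
      rw [← Cfsg.Agent.Helper5.linChar_pow hφc hφ1, pow_orderOf_eq_one, hφ1]
    exact norm_eq_one_of_pow_eq_one (orderOf_pos l) hpow
  have hfe : (f : ℂ) * ψ 1 = (e : ℂ) := by
    have h1 := hM 1
    have h2 := hL 1
    rw [Subgroup.coe_one] at h1 h2
    rw [← h1, h2, hφ1, mul_one]
  have hval : ∀ m : M, ∀ hm : (m : G) ∈ L, ψ m = ψ 1 * φ ⟨m, hm⟩ := by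
    intro m hm
    have h1 := hM m
    have h2 := hL ⟨m, hm⟩
    have h3 : (f : ℂ) * ψ m = (f : ℂ) * (ψ 1 * φ ⟨m, hm⟩) := by
      rw [← h1, ← mul_assoc, hfe]
      exact h2
    exact mul_left_cancel₀ hf h3
  have hnorm : ∀ m : M, (m : G) ∈ L → ‖ψ m‖ = ‖ψ 1‖ := by
    intro m hm
    rw [hval m hm, norm_mul, hnormφ, mul_one]
  refine ⟨?_, hvan, hnorm⟩
  -- the degree
  have hsum := Cfsg.Agent.Helper23.QuasiPrim.sum_normSq_irr hψ
  have hterm : ∀ m : M, Complex.normSq (ψ m) =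
      if (m : G) ∈ L then ((k : ℝ)) ^ 2 else 0 := by
    intro m
    split_ifs with hm
    · rw [Complex.normSq_eq_norm_sq, hnorm m hm, hk]
      simp
    · rw [hvan m hm]; simp
  simp_rw [hterm] at hsum
  rw [Finset.sum_ite, Finset.sum_const_zero, add_zero, Finset.sum_const, nsmul_eq_mul] at hsum
  have hcardL : (Finset.univ.filter (fun m : M => (m : G) ∈ L)).card = Nat.card L := by
    rw [← Fintype.card_subtype, ← Nat.card_eq_fintype_card]
    exact Nat.card_congr (Subgroup.subgroupOfEquivOfLe hLM).toEquiv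
  have hcardM : Nat.card M = H.index * Nat.card L := by
    have := Cfsg.Agent.Helper23.QuasiPrim.card_eq_index_mul_card_inf M H hsup
    rw [hinf] at this
    exact this
  rw [hcardL, hcardM] at hsum
  have hLpos : 0 < Nat.card L := Nat.card_pos
  have hnat : Nat.card L * k ^ 2 = H.index * Nat.card L := by
    have : ((Nat.card L * k ^ 2 : ℕ) : ℝ) = ((H.index * Nat.card L : ℕ) : ℝ) := by
      push_cast at hsum ⊢
      exact hsum
    exact_mod_cast this
  have hk2 : k ^ 2 = H.index := by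
    have : Nat.card L * k ^ 2 = Nat.card L * H.index := by rw [hnat, mul_comm]
    exact Nat.eq_of_mul_eq_mul_left hLpos this
  rw [hk, ← hk2]
  push_cast
  rfl

end Cfsg.Agent.QP889
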