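import Mathlib
import Cfsg.Prelude.Def_Sporadic_a

/-! s0429pieces BGISO (helper21): isomorphic set systems have isomorphic block graphs. -/

set_option autoImplicit false

namespace Cfsg.Agent.S0429P

/-- BGISO (S/M): isomorphic set systems have isomorphic block graphs. -/
theorem BGISO {α β : Type*} [DecidableEq α] [DecidableEq β] {B : Set (Finset α)} {B' : Set (Finset β)}
    (hiso : Cfsg.SetSystemIso B B') : Nonempty (Cfsg.blockGraph B ≃g Cfsg.blockGraph B') := by
  obtain ⟨e, he⟩ := hiso
  have hmem : ∀ b : Finset α, b ∈ B → b.image e ∈ B' := fun b hb => he ▸ ⟨b, hb, rfl⟩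
  have hback : ∀ b : Finset α, (b.image e).image e.symm = b := by
    intro b
    rw [Finset.image_image]
    have : (e.symm ∘ e : α → α) = id := by funext x; simp
    rw [this, Finset.image_id]
  have hforth : ∀ b' : Finset β, (b'.image e.symm).image e = b' := by
    intro b'
    rw [Finset.image_image]
    have : (e ∘ e.symm : β → β) = id := by funext x; simp
    rw [this, Finset.image_id]
  have hmem' : ∀ b' : Finset β, b' ∈ B' → b'.image e.symm ∈ B := by
    intro b' hb'
    rw [← he] at hb'
    obtain ⟨b, hb, rfl⟩ := hb'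
    show (b.image e).image e.symm ∈ B
    rw [hback]; exact hb
  let f : ↥B ≃ ↥B' :=
    { toFun := fun b => ⟨b.1.image e, hmem b.1 b.2⟩
      invFun := fun b' => ⟨b'.1.image e.symm, hmem' b'.1 b'.2⟩
      left_inv := fun b => Subtype.ext (hback b.1)
      right_inv := fun b' => Subtype.ext (hforth b'.1) }
  refine ⟨⟨f, ?_⟩⟩
  intro b c
  simp only [Cfsg.blockGraph, SimpleGraph.fromRel_adj]
  have hd : ∀ x y : Finset α, Disjoint (x.image e) (y.image e) ↔ Disjoint x y :=
    fun x y => Finset.disjoint_image e.injective
  constructor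
  · rintro ⟨hne, hdis⟩
    refine ⟨fun h => hne (congrArg f h), ?_⟩
    rcases hdis with h | h
    · left; exact (hd _ _).1 h
    · right; exact (hd _ _).1 h
  · rintro ⟨hne, hdis⟩
    refine ⟨fun h => hne (f.injective h), ?_⟩
    rcases hdis with h | h
    · left; exact (hd _ _).2 h
    · right; exact (hd _ _).2 h

end Cfsg.Agent.S0429P
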