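import Mathlib
import Cfsg.Agent.Helper27.S0745Defs

/-! Board `s0745pieces`, row ALT (core): for `r = 2` the setwise stabiliser of a `(t+1)`-set induces only even
permutations on it. -/

set_option autoImplicit false

namespace Cfsg.Agent.S0745P

open Equiv

variable {α : Type*} [Fintype α] [DecidableEq α]

/-- core: an injective homomorphism into `Perm β` from a group of order `|β|!/2` has even image -/
theorem ALT_aux_core {H β : Type*} [Group H] [Fintype β] [DecidableEq β] (φ : H →* Perm β)
    (hinj : Function.Injective φ) (hcard : Nat.card H * 2 = (Fintype.card β).factorial) (g : H) :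
    Perm.sign (φ g) = 1 := by
  have hR : Nat.card φ.range = Nat.card H :=
    (Nat.card_congr (MonoidHom.ofInjective hinj).toEquiv).symm
  have hperm : Nat.card (Perm β) = (Fintype.card β).factorial := by
    rw [Nat.card_eq_fintype_card, Fintype.card_perm]
  have hidx := φ.range.index_mul_card
  rw [hperm, hR, ← hcard] at hidx
  have hpos : 0 < Nat.card H := by
    rcases Nat.eq_zero_or_pos (Nat.card H) with h0 | h0
    · rw [h0, zero_mul] at hcard
      exact absurd hcard.symm (Nat.factorial_ne_zero _)
    · exact h0
  have h2 : φ.range.index = 2 := by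
    have : φ.range.index * Nat.card H = 2 * Nat.card H := by rw [hidx, mul_comm]
    exact Nat.eq_of_mul_eq_mul_right hpos this
  have halt := Equiv.Perm.eq_alternatingGroup_of_index_eq_two h2
  have hmem : φ g ∈ φ.range := ⟨g, rfl⟩
  rw [halt] at hmem
  exact Equiv.Perm.mem_alternatingGroup.1 hmem

end Cfsg.Agent.S0745P
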