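import Mathlib
import Cfsg.Agent.Helper27.S0745Defs

/-! Board `s0745pieces`, row KILL233 (core): the case `(t, c, r) = (2, 3, 3)` (`n = 11`) is impossible. -/

set_option autoImplicit false

namespace Cfsg.Agent.S0745P

open Equiv

variable {α : Type*} [Fintype α] [DecidableEq α]

/-- core: if the setwise stabilisers of `4`-sets are trivial, `t = 2` and `c = 3` is impossible -/
theorem KILL233_aux_core {G : Subgroup (Perm α)} {r : ℕ} (h : Hyp G 2 3 r)
    (hM : ∀ S : Finset α, S.card = 4 → Nat.card (SS G S) = 1) : False := by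
  have hn : Fintype.card α = r * 3 + 2 := h.deg
  have hr : 2 ≤ r := h.two_le
  -- a `2`-set `Γ`
  obtain ⟨Γ, -, hΓ⟩ := Finset.exists_subset_card_eq (s := (Finset.univ : Finset α)) (n := 2)
    (by rw [Finset.card_univ]; omega)
  have hcard := h.cardH Γ hΓ
  -- a nontrivial element `g` of its pointwise stabiliser
  have hne : PS G Γ ≠ ⊥ := by
    intro hbot
    rw [hbot, Subgroup.card_bot] at hcard
    omega
  obtain ⟨g, hg1⟩ := (Subgroup.ne_bot_iff_exists_ne_one.1 hne)
  have hgP' : (g : Perm α) ∈ PS G Γ := g.2
  have hg1' : (g : Perm α) ≠ 1 := fun h0 => hg1 (Subtype.ext h0)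
  have hg3 : (g : Perm α) ^ 3 = 1 := by
    have := pow_card_eq_one' (G := PS G Γ) (x := g)
    rw [hcard] at this
    exact_mod_cast congrArg Subtype.val this
  set k : Perm α := (g : Perm α) with hk
  have hkG : k ∈ G := hgP'.1
  have hkfix : ∀ y ∈ Γ, k y = y := hgP'.2
  -- a point `γ ∈ Γ` and a point `x ∉ Γ`
  obtain ⟨γ, hγ⟩ : Γ.Nonempty := Finset.card_pos.1 (by omega)
  obtain ⟨x, hx⟩ : ∃ x, x ∉ Γ := by
    by_contra hall
    push Not at hall
    have : Γ = Finset.univ := Finset.eq_univ_iff_forall.2 hall
    rw [this, Finset.card_univ] at hΓ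
    omega
  -- `k` moves `x`
  have hkx : k x ≠ x := by
    intro hfix
    apply hg1'
    refine h.semireg k hkG (insert x Γ) (by rw [Finset.card_insert_of_notMem hx, hΓ]) ?_
    intro y hy
    rcases Finset.mem_insert.1 hy with rfl | hy
    · exact hfix
    · exact hkfix y hy
  have hk3 : ∀ y, k (k (k y)) = y := by
    intro y
    have := congrArg (fun σ : Perm α => σ y) hg3
    simpa [pow_succ, Perm.mul_apply] using this
  have hγx : γ ≠ x := fun e => hx (e ▸ hγ)
  have hkγ : k γ = γ := hkfix γ hγ
  have hγkx : γ ≠ k x := by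
    intro e
    apply hγx
    have : k γ = k x := by rw [hkγ]; exact e
    exact k.injective this
  have hγkkx : γ ≠ k (k x) := by
    intro e
    apply hγkx
    have : k γ = k (k x) := by rw [hkγ]; exact e
    exact k.injective this
  have hxkkx : x ≠ k (k x) := by
    intro e
    apply hkx
    have := hk3 x
    rw [← e] at this
    exact this
  have hkxkkx : k x ≠ k (k x) := by
    intro e
    exact hkx (k.injective e).symm
  -- the `4`-set
  have hS : ({γ, x, k x, k (k x)} : Finset α).card = 4 := by
    rw [Finset.card_insert_of_notMem, Finset.card_insert_of_notMem, Finset.card_insert_of_notMem,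
      Finset.card_singleton]
    · simpa using hkxkkx
    · simp only [Finset.mem_insert, Finset.mem_singleton, not_or]
      exact ⟨fun e => hkx e.symm, hxkkx⟩
    · simp only [Finset.mem_insert, Finset.mem_singleton, not_or]
      exact ⟨hγx, hγkx, hγkkx⟩
  have hkS : k ∈ SS G ({γ, x, k x, k (k x)} : Finset α) := by
    refine mem_SS_of_maps hkG ?_
    intro y hy
    simp only [Finset.mem_insert, Finset.mem_singleton] at hy ⊢
    rcases hy with rfl | rfl | rfl | rfl
    · left; exact hkγ
    · right; right; left; rfl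
    · right; right; right; rfl
    · right; left; exact hk3 _
  have hbot := (Subgroup.card_eq_one).1 (hM _ hS)
  rw [hbot, Subgroup.mem_bot] at hkS
  exact hg1' hkS

end Cfsg.Agent.S0745P
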