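import Mathlib
import Cfsg.Agent.Helper26.S1237Defs
import Cfsg.Agent.Helper23.S1237CUBE
import Cfsg.Agent.Helper20.S1237PHI

/-! # S1237 board, piece CENT: in the minimal situation `Phi M` is central in `M` -/

set_option autoImplicit false

namespace Cfsg.Agent.S1237P

open Cfsg.Agent.S1237P

/-- powers of an automorphism leaving `M` invariant leave `M` invariant -/
theorem CENT_aux_pow {T : Type*} [Group T] (α : MulAut T) (M : Subgroup T)
    (h : ∀ x ∈ M, α x ∈ M) (j : ℕ) : ∀ x ∈ M, (α ^ j) x ∈ M := by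
  induction j with
  | zero => intro x hx; simpa using hx
  | succ n ih =>
    intro x hx
    rw [pow_succ', MulAut.mul_apply]
    exact h _ (ih x hx)

/-- an automorphism of a finite group mapping the subgroup `P` into itself maps it onto itself -/
theorem CENT_aux_surj {T : Type*} [Group T] [Finite T] (α : MulAut T) (P : Subgroup T)
    (h : ∀ x ∈ P, α x ∈ P) : ∀ p ∈ P, ∃ q ∈ P, α q = p := by
  have hinj : Function.Injective (fun x : P => (⟨α x.1, h x.1 x.2⟩ : P)) := by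
    intro x y hxy
    have h1 : α x.1 = α y.1 := congrArg Subtype.val hxy
    exact Subtype.ext (α.injective h1)
  have hsurj := Finite.injective_iff_surjective.1 hinj
  intro p hp
  obtain ⟨q, hq⟩ := hsurj ⟨p, hp⟩
  exact ⟨q.1, q.2, congrArg Subtype.val hq⟩

/-- CENT: in the minimal situation `Phi M` is central in `M`. -/
theorem CENT {T : Type*} [Group T] [Finite T] (hT : IsPGroup 2 T) (ψ τ : MulAut T)
    (hcomm : ∀ x : T, ψ (τ x) = τ (ψ x)) (hτ : τ ^ 3 = 1) (hτM : ∀ i : ℕ, ∃ j : ℕ, τ ^ i = ψ ^ j)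
    (M : Subgroup T) (d : MinData ψ τ M) : ∀ p ∈ Phi M, ∀ x ∈ M, p * x = x * p := by
  -- `M ≠ ⊥`
  have hM1 : M ≠ ⊥ := by
    rintro rfl
    obtain ⟨x, hx, hx'⟩ := d.moves
    rw [Subgroup.mem_bot] at hx
    rw [hx, map_one] at hx'
    exact hx' rfl
  have hPle : Phi M ≤ M := PHI_le M
  have hPlt : Phi M < M := PHI_lt hT M hM1
  have hPψ : ∀ x ∈ Phi M, ψ x ∈ Phi M := fun x hx => PHI_map M ψ d.inv hx
  have hPfix : ∀ p ∈ Phi M, τ p = p := d.min (Phi M) hPlt hPψ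
  -- `M` is `τ`-invariant
  have hMτ : ∀ x ∈ M, τ x ∈ M := by
    obtain ⟨j, hj⟩ := hτM 1
    rw [pow_one] at hj
    intro x hx
    rw [hj]
    exact CENT_aux_pow ψ M d.inv j x hx
  -- the centralizer of `Phi M` in `M`
  let C : Subgroup T := M ⊓ Subgroup.centralizer (Phi M : Set T)
  have hCmem : ∀ x : T, x ∈ C ↔ x ∈ M ∧ ∀ p ∈ Phi M, p * x = x * p := by
    intro x
    change x ∈ M ∧ x ∈ Subgroup.centralizer (Phi M : Set T) ↔ _
    rw [Subgroup.mem_centralizer_iff]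
    rfl
  have hCle : C ≤ M := inf_le_left
  -- `C` is `ψ`-invariant
  have hCψ : ∀ x ∈ C, ψ x ∈ C := by
    intro x hx
    rw [hCmem] at hx ⊢
    refine ⟨d.inv x hx.1, ?_⟩
    intro p hp
    obtain ⟨q, hq, rfl⟩ := CENT_aux_surj ψ (Phi M) hPψ p hp
    rw [← map_mul, ← map_mul, hx.2 q hq]
  -- `x⁻¹ τ(x) ∈ C`
  have hquot : ∀ x ∈ M, x⁻¹ * τ x ∈ C := by
    intro x hx
    rw [hCmem]
    refine ⟨M.mul_mem (M.inv_mem hx) (hMτ x hx), ?_⟩
    intro p hp
    have h1 : x * p * x⁻¹ ∈ Phi M := PHI_conj M hx hp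
    have h2 : τ (x * p * x⁻¹) = x * p * x⁻¹ := hPfix _ h1
    rw [map_mul, map_mul, hPfix p hp, map_inv] at h2
    -- `τ x * p * (τ x)⁻¹ = x * p * x⁻¹`
    have h3 : p * (x⁻¹ * τ x) = x⁻¹ * (x * p * x⁻¹) * τ x := by group
    rw [h3, ← h2]
    group
  -- `C = M`
  have hCM : C = M := by
    by_contra hne
    have hlt : C < M := lt_of_le_of_ne hCle hne
    have hCfix : ∀ x ∈ C, τ x = x := d.min C hlt hCψ
    have hall := CUBE hT τ hτ C M hCfix hquot
    obtain ⟨x, hx, hx'⟩ := d.moves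
    exact hx' (hall x hx)
  intro p hp x hx
  have hxC : x ∈ C := hCM ▸ hx
  exact ((hCmem x).1 hxC).2 p hp

end Cfsg.Agent.S1237P
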