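import Cfsg.Agent.Helper22.S1572Defs

/-! S1572 piece TRC (driver helper22): the monomial group `NN` is transitive on the minimal vectors of
shape `(∓3, ±1^23)`. -/

set_option autoImplicit false

namespace Cfsg.Agent.S1572P

open Cfsg Cfsg.Agent.Helper27 Cfsg.Agent.Helper22.Co0Mono Cfsg.Agent.Helper22.CrossStab
  Cfsg.Agent.Helper22.Co0Center Cfsg.Agent.Helper22.MinTrans Cfsg.Agent.Helper22.Co0Order
  Cfsg.Agent.Helper22.Census
open scoped Pointwise

namespace TRC

/-- every vector of shape `(∓3, ±1^23)` is moved by `NN` to the vector `(-3, 1^23)` -/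
theorem exists_normalize (v : ↥leechLattice) (h : ShapeC (v : GolayPt → ℤ)) :
    ∃ g ∈ NN, ∀ q, ((g • v : ↥leechLattice) : GolayPt → ℤ) q = if q = pt 0 then -3 else 1 := by
  obtain ⟨i, h3, hrest, c, ⟨u, hu, rfl⟩, hmem⟩ := h
  have := M24_isPretransitive
  obtain ⟨τ, hτ⟩ := MulAction.exists_smul_eq (↥M24) i (pt 0)
  have hτ' : τ.1 i = pt 0 := hτ
  have hsymm : ∀ q, τ.1.symm q = i ↔ q = pt 0 := by
    intro q
    rw [Equiv.symm_apply_eq, hτ']
  have hv' : ∀ p, ((epsCo u hu • v : ↥leechLattice) : GolayPt → ℤ) p = if p = i then -3 else 1 := by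
    intro p
    rw [epsCo_apply]
    by_cases hp : p = i
    · subst hp
      rw [if_pos rfl]
      rcases h3 with h | h
      · rw [if_pos ((hmem p).mpr (by rw [h]; norm_num)), h]
      · rw [if_neg (fun hc => by have := (hmem p).mp hc; rw [h] at this; norm_num at this), h]
    · rw [if_neg hp]
      rcases hrest p hp with h | h
      · rw [if_neg (fun hc => by have := (hmem p).mp hc; rw [h] at this; norm_num at this), h]
      · rw [if_pos ((hmem p).mpr (by rw [h]; norm_num)), h]; norm_num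
  refine ⟨piCo τ.1 τ.2 * epsCo u hu, NN.mul_mem (piCo_mem_NN _ _) (epsCo_mem_NN _ _), ?_⟩
  intro q
  rw [mul_smul, piCo_apply, hv']
  by_cases hq : q = pt 0
  · rw [if_pos ((hsymm q).mpr hq), if_pos hq]
  · rw [if_neg (fun hc => hq ((hsymm q).mp hc)), if_neg hq]

end TRC

/-- TRC -/
theorem trans_XC : ∀ v ∈ XC, ∀ w ∈ XC, ∃ g ∈ NN, g • v = w := by
  intro v hv w hw
  obtain ⟨g1, hg1, h1⟩ := TRC.exists_normalize v hv
  obtain ⟨g2, hg2, h2⟩ := TRC.exists_normalize w hw
  refine ⟨g2⁻¹ * g1, NN.mul_mem (NN.inv_mem hg2) hg1, ?_⟩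
  have e : g1 • v = g2 • w := by
    apply Subtype.ext
    funext q
    rw [h1, h2]
  rw [mul_smul, e, inv_smul_smul]

end Cfsg.Agent.S1572P
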