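import Cfsg.Agent.Helper22.S1572Defs

/-! S1572 piece TRYC (driver helper22): the stabiliser of `v0` in `NN` is transitive on the minimal
vectors of shape `(∓3, ±1^23)` having inner product `-16` with `v0`. -/

set_option autoImplicit false

namespace Cfsg.Agent.S1572P

open Cfsg Cfsg.Agent.Helper27 Cfsg.Agent.Helper22.Co0Mono Cfsg.Agent.Helper22.CrossStab
  Cfsg.Agent.Helper22.Co0Center Cfsg.Agent.Helper22.MinTrans Cfsg.Agent.Helper22.Co0Order
  Cfsg.Agent.Helper22.Census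
open scoped Pointwise

namespace TRYC

theorem entry_cases {v : GolayPt → ℤ} (h : ShapeC v) (p : GolayPt) :
    v p = 3 ∨ v p = -3 ∨ v p = 1 ∨ v p = -1 := by
  obtain ⟨i, hi, hrest, -⟩ := h
  by_cases hp : p = i
  · subst hp
    rcases hi with h | h
    · exact Or.inl h
    · exact Or.inr (Or.inl h)
  · rcases hrest p hp with h | h
    · exact Or.inr (Or.inr (Or.inl h))
    · exact Or.inr (Or.inr (Or.inr h))

/-- the sum of squares of a vector of shape `(∓3, ±1^23)` -/
theorem sqNorm_shapeC {v : GolayPt → ℤ} (h : ShapeC v) : sqNorm v = 32 := by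
  classical
  obtain ⟨i, hi, hrest, -⟩ := h
  have h1 : ∀ p, v p ^ 2 = if p = i then 9 else 1 := by
    intro p
    by_cases hp : p = i
    · subst hp
      rw [if_pos rfl]
      rcases hi with h | h <;> rw [h] <;> norm_num
    · rw [if_neg hp]
      rcases hrest p hp with h | h <;> rw [h] <;> norm_num
  unfold sqNorm
  simp only [h1]
  rw [Finset.sum_ite, Finset.filter_eq' Finset.univ i, if_pos (Finset.mem_univ _),
    Finset.filter_ne' Finset.univ i]
  simp only [Finset.sum_const, Finset.card_singleton, Finset.card_erase_of_mem (Finset.mem_univ i),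
    Finset.card_univ, show Fintype.card GolayPt = 24 from by decide]
  norm_num

/-- two vectors of the shape agreeing up to signs differ by the sign change at a codeword -/
theorem exists_eps {v w : ↥leechLattice} (hv : ShapeC (v : GolayPt → ℤ)) (hw : ShapeC (w : GolayPt → ℤ))
    (h : ∀ q, (w : GolayPt → ℤ) q = (v : GolayPt → ℤ) q ∨ (w : GolayPt → ℤ) q = -(v : GolayPt → ℤ) q) :
    ∃ u, ∃ hu : u ∈ golayCode,
      (∀ q, q ∈ support₂ u ↔ (w : GolayPt → ℤ) q = -(v : GolayPt → ℤ) q) ∧ epsCo u hu • v = w := by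
  have hv' := hv
  have hw' := hw
  obtain ⟨i, -, -, c, ⟨a, ha, rfl⟩, hmem⟩ := hv
  obtain ⟨j, -, -, c', ⟨a', ha', rfl⟩, hmem'⟩ := hw
  have key : ∀ q, q ∈ support₂ (a + a') ↔ (w : GolayPt → ℤ) q = -(v : GolayPt → ℤ) q := by
    intro q
    rw [Cfsg.Agent.Helper22.Co2Trans.mem_support₂_add, hmem, hmem']
    rcases entry_cases hv' q with h1 | h1 | h1 | h1 <;> rcases h q with h2 | h2 <;>
      rw [h2, h1] <;> norm_num
  refine ⟨a + a', golayCode.add_mem ha ha', key, ?_⟩
  apply Subtype.ext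
  funext q
  rw [epsCo_apply]
  by_cases hq : q ∈ support₂ (a + a')
  · rw [if_pos hq, (key q).mp hq]
  · rw [if_neg hq]
    rcases h q with h2 | h2
    · exact h2.symm
    · exact absurd ((key q).mpr h2) hq

/-- the first two coordinates of a member of `YC` -/
theorem type_cases {v : ↥leechLattice} (hv : v ∈ YC) :
    ((v : GolayPt → ℤ) (pt 0) = -3 ∧ (v : GolayPt → ℤ) (pt 1) = -1) ∨
      ((v : GolayPt → ℤ) (pt 0) = -1 ∧ (v : GolayPt → ℤ) (pt 1) = -3) := by
  obtain ⟨hC, hd⟩ := hv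
  rw [dot_v0] at hd
  have h01 : pt 0 ≠ pt 1 := by decide
  obtain ⟨i, hi, hrest, -⟩ := hC
  by_cases h0 : pt 0 = i
  · have h1 : pt 1 ≠ i := fun h => h01 (h0.trans h.symm)
    rcases hrest (pt 1) h1 with h | h <;> rcases hi with h' | h' <;> rw [← h0] at h' <;> omega
  · by_cases h1 : pt 1 = i
    · rcases hrest (pt 0) h0 with h | h <;> rcases hi with h' | h' <;> rw [← h1] at h' <;> omega
    · rcases hrest (pt 0) h0 with h | h <;> rcases hrest (pt 1) h1 with h' | h' <;> omega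

/-- vectors of `YC` of the first type are conjugate under the stabiliser of `v0` in `NN` -/
theorem trans_typeI {v w : ↥leechLattice} (hv : ShapeC (v : GolayPt → ℤ)) (hw : ShapeC (w : GolayPt → ℤ))
    (hv0 : (v : GolayPt → ℤ) (pt 0) = -3) (hv1 : (v : GolayPt → ℤ) (pt 1) = -1)
    (hw0 : (w : GolayPt → ℤ) (pt 0) = -3) (hw1 : (w : GolayPt → ℤ) (pt 1) = -1) :
    ∃ g ∈ NN, g • v0 = v0 ∧ g • v = w := by
  have h : ∀ q, (w : GolayPt → ℤ) q = (v : GolayPt → ℤ) q ∨ (w : GolayPt → ℤ) q = -(v : GolayPt → ℤ) q := by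
    intro q
    by_cases hq : q = pt 0
    · subst hq
      left; rw [hv0, hw0]
    · -- both entries are `±1`
      have e1 : (v : GolayPt → ℤ) q = 1 ∨ (v : GolayPt → ℤ) q = -1 := by
        obtain ⟨i, hi, hrest, -⟩ := hv
        by_cases hi0 : pt 0 = i
        · exact hrest q (fun h => hq (h.trans hi0.symm))
        · rcases hrest (pt 0) hi0 with h | h <;> omega
      have e2 : (w : GolayPt → ℤ) q = 1 ∨ (w : GolayPt → ℤ) q = -1 := by
        obtain ⟨i, hi, hrest, -⟩ := hw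
        by_cases hi0 : pt 0 = i
        · exact hrest q (fun h => hq (h.trans hi0.symm))
        · rcases hrest (pt 0) hi0 with h | h <;> omega
      rcases e1 with e1 | e1 <;> rcases e2 with e2 | e2 <;> rw [e1, e2] <;> norm_num
  obtain ⟨u, hu, hsupp, hmove⟩ := exists_eps hv hw h
  refine ⟨epsCo u hu, epsCo_mem_NN u hu, ?_, hmove⟩
  apply Subtype.ext
  funext q
  rw [epsCo_apply, v0_apply]
  by_cases hq : q = pt 0 ∨ q = pt 1
  · rw [if_pos hq]
    have : q ∉ support₂ u := by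
      rw [hsupp]
      rcases hq with rfl | rfl
      · rw [hv0, hw0]; norm_num
      · rw [hv1, hw1]; norm_num
    rw [if_neg this]
  · rw [if_neg hq]
    split_ifs <;> rfl

/-- a member of `M24` interchanging the first two points -/
theorem exists_swap : ∃ τ : ↥M24, τ.1 (pt 0) = pt 1 ∧ τ.1 (pt 1) = pt 0 := by
  have h01 : pt 0 ≠ pt 1 := by decide
  have h2 := M24_isMultiplyPretransitive_of_le (k := 2) (by norm_num)
  rw [MulAction.is_two_pretransitive_iff] at h2
  obtain ⟨τ, h0, h1⟩ := h2 h01 (Ne.symm h01)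
  exact ⟨τ, h0, h1⟩

/-- the swap moves the second type to the first type, fixing `v0` -/
theorem to_typeI {v : ↥leechLattice} (hv : ShapeC (v : GolayPt → ℤ))
    (hv0 : (v : GolayPt → ℤ) (pt 0) = -1) (hv1 : (v : GolayPt → ℤ) (pt 1) = -3) :
    ∃ g ∈ NN, g • v0 = v0 ∧ ShapeC ((g • v : ↥leechLattice) : GolayPt → ℤ) ∧
      ((g • v : ↥leechLattice) : GolayPt → ℤ) (pt 0) = -3 ∧
      ((g • v : ↥leechLattice) : GolayPt → ℤ) (pt 1) = -1 := by
  obtain ⟨τ, h0, h1⟩ := exists_swap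
  have hs0 : τ.1.symm (pt 0) = pt 1 := by rw [Equiv.symm_apply_eq, h1]
  have hs1 : τ.1.symm (pt 1) = pt 0 := by rw [Equiv.symm_apply_eq, h0]
  have e0 : ((piCo τ.1 τ.2 • v : ↥leechLattice) : GolayPt → ℤ) (pt 0) = -3 := by
    rw [piCo_apply, hs0, hv1]
  have e1 : ((piCo τ.1 τ.2 • v : ↥leechLattice) : GolayPt → ℤ) (pt 1) = -1 := by
    rw [piCo_apply, hs1, hv0]
  refine ⟨piCo τ.1 τ.2, piCo_mem_NN _ _, ?_, ?_, e0, e1⟩
  · apply Subtype.ext
    funext q
    rw [piCo_apply, v0_apply, v0_apply]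
    by_cases hq0 : q = pt 0
    · subst hq0
      rw [hs0, if_pos (Or.inr rfl), if_pos (Or.inl rfl)]
    · by_cases hq1 : q = pt 1
      · subst hq1
        rw [hs1, if_pos (Or.inl rfl), if_pos (Or.inr rfl)]
      · have hns : ¬ (τ.1.symm q = pt 0 ∨ τ.1.symm q = pt 1) := by
          rintro (h | h)
          · apply hq1
            rw [← h0, ← h, Equiv.apply_symm_apply]
          · apply hq0
            rw [← h1, ← h, Equiv.apply_symm_apply]
        rw [if_neg hns, if_neg (by tauto)]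
  · apply Cfsg.Agent.Helper22.Co2Trans.shapeC_of_odd (piCo τ.1 τ.2 • v).2
      (by rw [co0_norm]; exact sqNorm_shapeC hv) (p := pt 0)
    rw [e0]; norm_num

/-- every member of `YC` is moved to the first type -/
theorem exists_typeI {v : ↥leechLattice} (hv : v ∈ YC) :
    ∃ g ∈ NN, g • v0 = v0 ∧ ShapeC ((g • v : ↥leechLattice) : GolayPt → ℤ) ∧
      ((g • v : ↥leechLattice) : GolayPt → ℤ) (pt 0) = -3 ∧
      ((g • v : ↥leechLattice) : GolayPt → ℤ) (pt 1) = -1 := by
  rcases type_cases hv with ⟨h0, h1⟩ | ⟨h0, h1⟩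
  · exact ⟨1, NN.one_mem, one_smul _ _, by rw [one_smul]; exact hv.1, by rw [one_smul]; exact h0,
      by rw [one_smul]; exact h1⟩
  · exact to_typeI hv.1 h0 h1

end TRYC

/-- TRYC -/
theorem trans_YC : ∀ v ∈ YC, ∀ w ∈ YC, ∃ g ∈ NN, g • v0 = v0 ∧ g • v = w := by
  intro v hv w hw
  obtain ⟨g1, hg1, hf1, hC1, a0, a1⟩ := TRYC.exists_typeI hv
  obtain ⟨g2, hg2, hf2, hC2, b0, b1⟩ := TRYC.exists_typeI hw
  obtain ⟨g, hg, hf, hmove⟩ := TRYC.trans_typeI hC1 hC2 a0 a1 b0 b1
  refine ⟨g2⁻¹ * (g * g1), NN.mul_mem (NN.inv_mem hg2) (NN.mul_mem hg hg1), ?_, ?_⟩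
  · rw [mul_smul, mul_smul, hf1, hf]
    conv_lhs => rw [← hf2]
    rw [inv_smul_smul]
  · rw [mul_smul, mul_smul, hmove, inv_smul_smul]

end Cfsg.Agent.S1572P
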