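import Mathlib
import Cfsg.Agent.Helper8.S1904Defs
import Cfsg.Agent.Helper19.S1904T1

/-! Board `s1904pieces`, row A1i (core, with row T3 for the centre as a hypothesis). -/

set_option autoImplicit false

namespace Cfsg.Agent.S1904P

open scoped commutatorElement

section

variable {X : Type*} [Group X]

/-- every automorphism maps the centre into itself -/
theorem A1i_aux_center (φ : MulAut X) {z : X} (hz : z ∈ Subgroup.center X) :
    φ z ∈ Subgroup.center X := by
  rw [Subgroup.mem_center_iff] at hz ⊢
  intro g
  have h2 := congrArg φ (hz (φ.symm g))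
  simpa using h2

/-- every automorphism maps the commutator subgroup into itself -/
theorem A1i_aux_commutator (φ : MulAut X) {n : X} (hn : n ∈ commutator X) :
    φ n ∈ commutator X := by
  have hchar : (commutator X).Characteristic := by
    unfold commutator; infer_instance
  have := (Subgroup.characteristic_iff_map_le.1 hchar) φ
  exact this (Subgroup.mem_map_of_mem _ hn)

/-- the commutator subgroup lies in `W` when all commutators do -/
theorem A1i_aux_comm_le (hc : ∀ x y : X, x * y * x⁻¹ * y⁻¹ ∈ WW X) : commutator X ≤ WW X := by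
  unfold commutator
  rw [Subgroup.commutator_le]
  intro x _ y _
  rw [commutatorElement_def]
  exact hc x y

end

/-- A1i (core): `hT3` is row T3 applied to the centre. -/
theorem A1i_aux_core {X : Type*} [Group X] [Finite X] {A : Subgroup (MulAut X)} (H : Hyp A)
    (hT3 : ∀ φ ∈ A, (∀ m ∈ Subgroup.center X, m * m = 1 → φ m = m) →
      ∀ m ∈ Subgroup.center X, φ m = m)
    (hc : ∀ x y : X, x * y * x⁻¹ * y⁻¹ ∈ WW X)
    (hW : ∀ φ ∈ A, ∀ w ∈ WW X, φ w = w) : ∀ z ∈ Subgroup.center X, z * z = 1 := by
  intro z hz
  -- `A` fixes the centre pointwise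
  have hfix : ∀ φ ∈ A, ∀ m ∈ Subgroup.center X, φ m = m := by
    intro φ hφ
    refine hT3 φ hφ ?_
    intro m hm hm2
    exact hW φ hφ m ⟨hm, hm2⟩
  -- hence `z` is a fixed coset of the commutator subgroup
  have hzc : z ∈ commutator X := by
    refine T1 H (commutator X) inferInstance (fun ψ _ n hn => A1i_aux_commutator ψ hn) ?_ z ?_
    · intro x y
      have : x * y * x⁻¹ * y⁻¹ = ⁅x, y⁆ := (commutatorElement_def x y).symm
      rw [this]
      unfold commutator
      exact Subgroup.commutator_mem_commutator (Subgroup.mem_top x) (Subgroup.mem_top y)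
    · intro φ hφ
      rw [hfix φ hφ z hz]
      simp
  exact (A1i_aux_comm_le hc hzc).2

end Cfsg.Agent.S1904P
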