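import Mathlib
import Cfsg.Agent.Helper8.S1904Defs
import Cfsg.Agent.Helper8.S1904T23
import Cfsg.Agent.Helper21.S1904A1icore

/-! Board `s1904pieces`, row A1i: `Z = W` when `A` fixes `W` pointwise. -/

set_option autoImplicit false

namespace Cfsg.Agent.S1904P

/-- A1i: `Z = W` when `A` fixes `W` pointwise. -/
theorem A1i {X : Type*} [Group X] [Finite X] {A : Subgroup (MulAut X)} (H : Hyp A)
    (hc : ∀ x y : X, x * y * x⁻¹ * y⁻¹ ∈ WW X)
    (hW : ∀ φ ∈ A, ∀ w ∈ WW X, φ w = w) : ∀ z ∈ Subgroup.center X, z * z = 1 :=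
  A1i_aux_core H
    (fun φ hφ h1 => T3 H (Subgroup.center X) (fun ψ _ n hn => A1i_aux_center ψ hn)
      (fun a ha b _ => ((Subgroup.mem_center_iff.1 ha) b).symm) φ hφ h1) hc hW

end Cfsg.Agent.S1904P
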