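import Mathlib
import Cfsg.Agent.Helper8.S1904Defs
import Cfsg.Agent.Helper14.Frattini
import Cfsg.Agent.Helper1.PGroup
import Cfsg.Agent.Helper19.S1904T1

/-! Board `s1904pieces`, row A2 (core, with the third clause of row T5 as a hypothesis). -/

set_option autoImplicit false

namespace Cfsg.Agent.S1904P

open scoped commutatorElement

section

variable {X : Type*} [Group X]

/-- every automorphism maps the commutator subgroup into itself -/
theorem A2_aux_commutator (φ : MulAut X) {n : X} (hn : n ∈ commutator X) :
    φ n ∈ commutator X := by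
  have hchar : (commutator X).Characteristic := by
    unfold commutator; infer_instance
  have := (Subgroup.characteristic_iff_map_le.1 hchar) φ
  exact this (Subgroup.mem_map_of_mem _ hn)

/-- the commutator subgroup lies in `W` when all commutators do -/
theorem A2_aux_comm_le (hc : ∀ x y : X, x * y * x⁻¹ * y⁻¹ ∈ WW X) : commutator X ≤ WW X := by
  unfold commutator
  rw [Subgroup.commutator_le]
  intro x _ y _
  rw [commutatorElement_def]
  exact hc x y

/-- all commutators lie in the commutator subgroup -/
theorem A2_aux_mem (x y : X) : x * y * x⁻¹ * y⁻¹ ∈ commutator X := by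
  have : x * y * x⁻¹ * y⁻¹ = ⁅x, y⁆ := (commutatorElement_def x y).symm
  rw [this]
  unfold commutator
  exact Subgroup.commutator_mem_commutator (Subgroup.mem_top x) (Subgroup.mem_top y)

end

/-- A2 (core): `hT5` is the third clause of row T5. -/
theorem A2_aux_core {X : Type*} [Group X] [Finite X] {A : Subgroup (MulAut X)} (H : Hyp A)
    (hT5 : (¬ ∀ φ ∈ A, ∀ w ∈ WW X, φ w = w) →
      ∀ K : Subgroup X, K ≤ WW X → Inv A K → K = ⊥ ∨ K = WW X)
    (hc : ∀ x y : X, x * y * x⁻¹ * y⁻¹ ∈ WW X)
    (hs : ∀ x : X, x * x ∈ Subgroup.center X) (hZ : ∀ z ∈ Subgroup.center X, z * z = 1) :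
    commutator X = Subgroup.center X ∧ frattini X = Subgroup.center X := by
  have hWZ : WW X = Subgroup.center X :=
    le_antisymm WW_le_center (fun z hz => ⟨hz, hZ z hz⟩)
  have hcW : commutator X ≤ WW X := A2_aux_comm_le hc
  have hInv : Inv A (commutator X) := fun ψ _ n hn => A2_aux_commutator ψ hn
  have hne : commutator X ≠ ⊥ := by
    intro hbot
    obtain ⟨a, b, hab⟩ := H.na
    have h1 : a * b * a⁻¹ * b⁻¹ ∈ commutator X := A2_aux_mem a b
    rw [hbot, Subgroup.mem_bot] at h1
    apply hab
    calc a * b = (a * b * a⁻¹ * b⁻¹) * (b * a) := by group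
      _ = b * a := by rw [h1, one_mul]
  have hcomm : commutator X = Subgroup.center X := by
    rw [← hWZ]
    by_cases hW : ∀ φ ∈ A, ∀ w ∈ WW X, φ w = w
    · refine le_antisymm hcW ?_
      intro z hz
      refine T1 H (commutator X) inferInstance hInv A2_aux_mem z ?_
      intro φ hφ
      rw [hW φ hφ z hz]
      simp
    · have h3 := hT5 hW
      rcases h3 (commutator X) hcW hInv with h | h
      · exact absurd h hne
      · exact h
  refine ⟨hcomm, le_antisymm ?_ ?_⟩
  · have : Fact (Nat.Prime 2) := ⟨Nat.prime_two⟩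
    refine Cfsg.Agent.Helper14.frattini_le_of_elemAb 2 _ ?_ ?_
    · intro a b
      rw [commutatorElement_def]
      exact WW_le_center (hc a b)
    · intro a
      rw [pow_two]
      exact hs a
  · rw [← hcomm]
    have : Fact (Nat.Prime 2) := ⟨Nat.prime_two⟩
    exact Cfsg.Agent.Helper1.IsPGroup.commutator_le_frattini H.pX

end Cfsg.Agent.S1904P
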