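import Mathlib
import Cfsg.Agent.Helper8.S1904Defs
import Cfsg.Agent.Helper19.S1904T5
import Cfsg.Agent.Helper21.S1904A2core

/-! Board `s1904pieces`, row A2: `X' = Z = Φ(X)`. -/

set_option autoImplicit false

namespace Cfsg.Agent.S1904P

/-- A2: `X' = Z = Φ(X)`. -/
theorem A2 {X : Type*} [Group X] [Finite X] {A : Subgroup (MulAut X)} (H : Hyp A)
    (hc : ∀ x y : X, x * y * x⁻¹ * y⁻¹ ∈ WW X)
    (hs : ∀ x : X, x * x ∈ Subgroup.center X) (hZ : ∀ z ∈ Subgroup.center X, z * z = 1) :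
    commutator X = Subgroup.center X ∧ frattini X = Subgroup.center X :=
  A2_aux_core H (fun hW => (T5 H hW).2.2) hc hs hZ

end Cfsg.Agent.S1904P
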