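import Mathlib
import Cfsg.Agent.Helper8.S1904Defs
import Cfsg.Agent.Helper19.S1904T1

/-! Board `s1904pieces`, row B5 (core, with row B2's second clause as a hypothesis). -/

set_option autoImplicit false

namespace Cfsg.Agent.S1904P

section

variable {X : Type*} [Group X]

/-- `U = {u ∈ B : u⁴ = 1}` as a set -/
def B5_aux_U (B : Subgroup X) : Set X := {u : X | u ∈ B ∧ u ^ 4 = 1}

/-- `U` is closed under conjugation when `B` is normal -/
theorem B5_aux_U_conj {B : Subgroup X} (hB : B.Normal) {u : X} (hu : u ∈ B5_aux_U B) (g : X) :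
    g * u * g⁻¹ ∈ B5_aux_U B := by
  refine ⟨hB.conj_mem u hu.1 g, ?_⟩
  rw [conj_pow, hu.2]
  group

/-- `U` is mapped into itself by automorphisms preserving `B` -/
theorem B5_aux_U_aut {B : Subgroup X} (φ : MulAut X) (hφ : ∀ b ∈ B, φ b ∈ B) {u : X}
    (hu : u ∈ B5_aux_U B) : φ u ∈ B5_aux_U B := by
  refine ⟨hφ u hu.1, ?_⟩
  rw [← map_pow, hu.2, map_one]

/-- the centralizer of `U` is normal -/
theorem B5_aux_normal {B : Subgroup X} (hB : B.Normal) :
    (Subgroup.centralizer (B5_aux_U B)).Normal := by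
  constructor
  intro n hn g
  rw [Subgroup.mem_centralizer_iff] at hn ⊢
  intro u hu
  have h1 := hn (g⁻¹ * u * g⁻¹⁻¹) (B5_aux_U_conj hB hu g⁻¹)
  calc u * (g * n * g⁻¹) = g * ((g⁻¹ * u * g⁻¹⁻¹) * n) * g⁻¹ := by group
    _ = g * (n * (g⁻¹ * u * g⁻¹⁻¹)) * g⁻¹ := by rw [h1]
    _ = g * n * g⁻¹ * u := by group

/-- if conjugation by `u` multiplies every element by a central element, `u` centralizes all
commutators -/
theorem B5_aux_comm (u : X) (hu : ∀ x : X, u * x * u⁻¹ * x⁻¹ ∈ Subgroup.center X) (x y : X) :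
    u * (x * y * x⁻¹ * y⁻¹) = (x * y * x⁻¹ * y⁻¹) * u := by
  have hcx := Subgroup.mem_center_iff.1 (hu x)
  have hcy := Subgroup.mem_center_iff.1 (hu y)
  set c := u * x * u⁻¹ * x⁻¹ with hc
  set d := u * y * u⁻¹ * y⁻¹ with hd
  have ex : u * x * u⁻¹ = c * x := by rw [hc]; group
  have ey : u * y * u⁻¹ = d * y := by rw [hd]; group
  have hcd : ∀ g : X, g * (c * d) = (c * d) * g := by
    intro g
    calc g * (c * d) = (g * c) * d := by group
      _ = (c * g) * d := by rw [hcx g]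
      _ = c * (g * d) := by group
      _ = c * (d * g) := by rw [hcy g]
      _ = (c * d) * g := by group
  have e1 : (c * x) * (d * y) = (c * d) * (x * y) := by
    calc (c * x) * (d * y) = c * (x * d) * y := by group
      _ = c * (d * x) * y := by rw [hcy x]
      _ = (c * d) * (x * y) := by group
  have e2 : (d * y) * (c * x) = (c * d) * (y * x) := by
    calc (d * y) * (c * x) = d * (y * c) * x := by group
      _ = d * (c * y) * x := by rw [hcx y]
      _ = (d * c) * (y * x) := by group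
      _ = (c * d) * (y * x) := by rw [hcx d]
  have key : u * (x * y * x⁻¹ * y⁻¹) * u⁻¹ = x * y * x⁻¹ * y⁻¹ := by
    calc u * (x * y * x⁻¹ * y⁻¹) * u⁻¹
        = ((u * x * u⁻¹) * (u * y * u⁻¹)) * ((u * y * u⁻¹) * (u * x * u⁻¹))⁻¹ := by group
      _ = ((c * x) * (d * y)) * ((d * y) * (c * x))⁻¹ := by rw [ex, ey]
      _ = ((c * d) * (x * y)) * ((c * d) * (y * x))⁻¹ := by rw [e1, e2]
      _ = ((c * d) * (x * y * (y * x)⁻¹)) * (c * d)⁻¹ := by group
      _ = ((x * y * (y * x)⁻¹) * (c * d)) * (c * d)⁻¹ := by rw [hcd]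
      _ = x * y * x⁻¹ * y⁻¹ := by group
  calc u * (x * y * x⁻¹ * y⁻¹) = (u * (x * y * x⁻¹ * y⁻¹) * u⁻¹) * u := by group
    _ = (x * y * x⁻¹ * y⁻¹) * u := by rw [key]

end

/-- B5 (core): no fixed cosets in `X/C_X(U)`, `U = Ω₂(B)`; `hB2` is the second clause of row B2. -/
theorem B5_aux_core {X : Type*} [Group X] [Finite X] {A : Subgroup (MulAut X)} {B : Subgroup X}
    (H : Hyp A) (hB : MaxAb A B)
    (hB2 : ∀ u ∈ B, u ^ 4 = 1 → ∀ x : X, u * x * u⁻¹ * x⁻¹ ∈ WW X) (x : X)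
    (hx : ∀ φ ∈ A, ∀ u ∈ B, u ^ 4 = 1 → (x⁻¹ * φ x) * u = u * (x⁻¹ * φ x)) :
    ∀ u ∈ B, u ^ 4 = 1 → x * u = u * x := by
  have hmem : x ∈ Subgroup.centralizer (B5_aux_U B) := by
    refine T1 H _ (B5_aux_normal hB.normal) ?_ ?_ x ?_
    · -- invariance
      intro φ hφ n hn
      rw [Subgroup.mem_centralizer_iff] at hn ⊢
      intro u hu
      have hφi : φ⁻¹ ∈ A := inv_mem hφ
      have hu' : φ⁻¹ u ∈ B5_aux_U B := B5_aux_U_aut φ⁻¹ (hB.inv φ⁻¹ hφi) hu
      have h1 := hn _ hu'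
      have h2 := congrArg φ h1
      rw [map_mul, map_mul] at h2
      have e : φ (φ⁻¹ u) = u := by
        change (φ * φ⁻¹) u = u
        rw [mul_inv_cancel]; rfl
      rw [e] at h2
      exact h2
    · -- abelian quotient
      intro a b
      rw [Subgroup.mem_centralizer_iff]
      intro u hu
      exact B5_aux_comm u (fun y => WW_le_center (hB2 u hu.1 hu.2 y)) a b
    · intro φ hφ
      rw [Subgroup.mem_centralizer_iff]
      intro u hu
      exact (hx φ hφ u hu.1 hu.2).symm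
  intro u hu hu4
  rw [Subgroup.mem_centralizer_iff] at hmem
  exact (hmem u ⟨hu, hu4⟩).symm

end Cfsg.Agent.S1904P
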