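import Mathlib
import Cfsg.Agent.Helper8.S1904Defs
import Cfsg.Agent.Helper1.S1904B2
import Cfsg.Agent.Helper21.S1904B5core

/-! Board `s1904pieces`, row B5: no fixed cosets in `X/C_X(U)`, `U = Ω₂(B)`. -/

set_option autoImplicit false

namespace Cfsg.Agent.S1904P

/-- B5: no fixed cosets in `X/C_X(U)`, `U = Ω₂(B)`. -/
theorem B5 {X : Type*} [Group X] [Finite X] {A : Subgroup (MulAut X)} {B : Subgroup X}
    (H : Hyp A) (hB : MaxAb A B) (x : X)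
    (hx : ∀ φ ∈ A, ∀ u ∈ B, u ^ 4 = 1 → (x⁻¹ * φ x) * u = u * (x⁻¹ * φ x)) :
    ∀ u ∈ B, u ^ 4 = 1 → x * u = u * x :=
  B5_aux_core H hB (B2 H hB).2.1 x hx

end Cfsg.Agent.S1904P
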