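import Mathlib
import Cfsg.Agent.S0076

/-! Board `s1906pieces`, row BURN: Burnside's fusion lemma for central elements (from the landed S0076). -/

set_option autoImplicit false

namespace Cfsg.Agent.S1906P

/-- BURN: Burnside's fusion lemma for central elements (landed S0076). -/
theorem BURN {G : Type*} [Group G] [Finite G] (X : Sylow 2 G) (e y : ↥(X : Subgroup G))
    (he : e ∈ Subgroup.center ↥(X : Subgroup G)) (hy : y ∈ Subgroup.center ↥(X : Subgroup G))
    (g : G) (hg : (y : G) = g * (e : G) * g⁻¹) :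
    ∃ n ∈ Subgroup.normalizer ((X : Subgroup G) : Set G), (y : G) = n * (e : G) * n⁻¹ := by
  have : Fact (Nat.Prime 2) := ⟨Nat.prime_two⟩
  have hfix : ∀ z : ↥(X : Subgroup G), z ∈ Subgroup.center ↥(X : Subgroup G) →
      ∀ x ∈ X, (fun t => x * t * x⁻¹) '' ({(z : G)} : Set G) = {(z : G)} := by
    intro z hz x hx
    rw [Set.image_singleton]
    have h1 := (Subgroup.mem_center_iff.1 hz) ⟨x, hx⟩
    have h2 : x * (z : G) = (z : G) * x := congrArg Subtype.val h1
    have h3 : x * (z : G) * x⁻¹ = (z : G) := by rw [h2]; group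
    rw [h3]
  obtain ⟨n, hn, hne⟩ := Cfsg.Agent.S0076.result X ({(e : G)} : Set G) ({(y : G)} : Set G)
    (by intro t ht; rw [Set.mem_singleton_iff] at ht; rw [ht]; exact e.2)
    (by intro t ht; rw [Set.mem_singleton_iff] at ht; rw [ht]; exact y.2)
    (hfix e he) (hfix y hy) g (by rw [Set.image_singleton, hg])
  refine ⟨n, hn, ?_⟩
  rw [Set.image_singleton] at hne
  exact (Set.singleton_eq_singleton_iff.1 hne).symm

end Cfsg.Agent.S1906P
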