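import Mathlib
import Cfsg.Agent.Helper6.S1904PN

/-! Board `s1906pieces`, row COMMINV: a nonabelian finite 2-group has a central involution in its derived
subgroup. -/

set_option autoImplicit false

namespace Cfsg.Agent.S1906P

open scoped commutatorElement

/-- COMMINV: a nonabelian finite 2-group has a central involution in its derived subgroup. -/
theorem COMMINV {P : Type*} [Group P] [Finite P] (hP : IsPGroup 2 P) (hna : ∃ x y : P, x * y ≠ y * x) :
    ∃ t ∈ commutator P, t ∈ Subgroup.center P ∧ t ≠ 1 ∧ t * t = 1 := by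
  have hne : commutator P ≠ ⊥ := by
    intro hbot
    obtain ⟨a, b, hab⟩ := hna
    have h1 : ⁅a, b⁆ ∈ commutator P := by
      unfold commutator
      exact Subgroup.commutator_mem_commutator (Subgroup.mem_top a) (Subgroup.mem_top b)
    rw [hbot, Subgroup.mem_bot, commutatorElement_def] at h1
    apply hab
    calc a * b = (a * b * a⁻¹ * b⁻¹) * (b * a) := by group
      _ = b * a := by rw [h1, one_mul]
  obtain ⟨w, hwK, hw1, hw2, hwc⟩ := Cfsg.Agent.S1904P.PN_aux_inv hP (commutator P) hne
  exact ⟨w, hwK, hwc, hw1, hw2⟩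

end Cfsg.Agent.S1906P
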