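import Cfsg.Agent.Helper21.S2286CASES

/-! # S2286: the "odd-type" relator scheme (works in every characteristic) -/

namespace Cfsg.Agent.Helper21.S2286

open Polynomial Multiplicative

section mataux
variable {F : Type*} [Field F]

theorem hh_one : hh (1 : Fˣ) = 1 := by
  have := hh_zpow (1 : Fˣ) 0
  rw [zpow_zero, zpow_zero] at this
  exact this.symm

theorem x_neg (a : F) : x (-a) = (x a)⁻¹ := by
  rw [eq_inv_iff_mul_eq_one, ← x_add, neg_add_cancel, x_zero]

theorem x_pow (a : F) (n : ℕ) : x a ^ n = x (n * a) := by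
  induction n with
  | zero => simp [x_zero]
  | succ n ih => rw [pow_succ, ih, ← x_add]; congr 1; push_cast; ring

theorem x_commute (a b : F) : Commute (x a) (x b) := by
  unfold Commute SemiconjBy
  rw [← x_add, ← x_add, add_comm]

theorem hh_neg_one_mem_center :
    hh (-1 : Fˣ) ∈ Subgroup.center (Matrix.SpecialLinearGroup (Fin 2) F) := by
  rw [Matrix.SpecialLinearGroup.mem_center_iff]
  refine ⟨-1, by simp, ?_⟩
  ext i j
  fin_cases i <;> fin_cases j <;> simp [hh, Matrix.scalar_apply]

end mataux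

section
variable (p : ℕ) [Fact p.Prime] {F : Type*} [Field F] [Finite F] [CharP F p] (ω : Fˣ)
  (hω : ∀ y : Fˣ, y ∈ Subgroup.zpowers ω)
  (hadj : letI := ZMod.algebra F p; Algebra.adjoin (ZMod p) {(ω : F) ^ 2} = ⊤)

/-- the relators common to all odd-type cases, evaluated at matrices. -/
theorem common_mat (cx : ℕ → ℕ) (nx : ℕ) (cy : ℕ → ℕ) (ny : ℕ)
    (hcx : ev ((ω : F) ^ 2) cx nx = ((ω⁻¹ : Fˣ) : F)) (hcy : ev ((ω : F) ^ 2) cy ny = -(ω : F)) :
    ∀ r ∈ [R1 p, R4 (mcoef p ((ω : F) ^ 2)) (mdeg p ((ω : F) ^ 2)), R5, R7, R8 cx nx cy ny],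
      FreeGroup.lift ![(x (1 : F)), hh ω, t0] r = 1 := by
  intro r hr
  simp only [List.mem_cons, List.not_mem_nil, or_false] at hr
  rcases hr with rfl | rfl | rfl | rfl | rfl
  · rw [lift_R1, x_pow, CharP.cast_eq_zero, zero_mul, x_zero]
  · rw [lift_R4, prodA_mat, (mcoef_facts p ((ω : F) ^ 2)).2.2, x_zero]
  · rw [lift_R5, t0_hh]
  · rw [lift_R7]
    have := weyl_mat (1 : Fˣ) (F := F)
    rw [inv_one, Units.val_one, hh_one, mul_one, x_neg] at this
    exact this
  · rw [lift_R8, prodA_mat, prodA_mat, hcx, hcy, weyl_mat]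

include hω hadj in
/-- generic odd-type case: `comm` is the list of relators forcing commutativity. -/
theorem odd_case (comm : List (FreeGroup (Fin 3)))
    (hcommP : ∀ {P : Type} [Group P] (u h t : P),
      (∀ r ∈ comm, FreeGroup.lift ![u, h, t] r = 1) → u ^ p = 1 →
      prodA h u (mcoef p ((ω : F) ^ 2)) (mdeg p ((ω : F) ^ 2) + 1) = 1 →
      ∀ i j : ℤ, Commute (cj h u i) (cj h u j))
    (hcommF : ∀ r ∈ comm, FreeGroup.lift ![(x (1 : F)), hh ω, t0] r = 1) :
    (∃ rels : Finset (FreeGroup (Fin 3)), rels.card ≤ comm.length + 5 ∧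
      Nonempty (PresentedGroup (↑rels : Set (FreeGroup (Fin 3))) ≃*
        Matrix.SpecialLinearGroup (Fin 2) F)) ∧
    (∃ rels : Finset (FreeGroup (Fin 3)), rels.card ≤ comm.length + 6 ∧
      Nonempty (PresentedGroup (↑rels : Set (FreeGroup (Fin 3))) ≃*
        Matrix.ProjectiveSpecialLinearGroup (Fin 2) F)) ∧
    (p = 2 → ∃ rels : Finset (FreeGroup (Fin 3)), rels.card ≤ comm.length + 5 ∧
      Nonempty (PresentedGroup (↑rels : Set (FreeGroup (Fin 3))) ≃*
        Matrix.ProjectiveSpecialLinearGroup (Fin 2) F)) := by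
  obtain ⟨cx, nx, hcx⟩ := ev_span p ((ω : F) ^ 2) hadj ((ω⁻¹ : Fˣ) : F)
  obtain ⟨cy, ny, hcy⟩ := ev_span p ((ω : F) ^ 2) hadj (-(ω : F))
  set base : List (FreeGroup (Fin 3)) :=
    [R1 p, R4 (mcoef p ((ω : F) ^ 2)) (mdeg p ((ω : F) ^ 2)), R5, R7, R8 cx nx cy ny] with hbase
  have hbmat := common_mat p ω cx nx cy ny hcx hcy
  -- extraction of the equations from a list containing `comm ++ base`
  have hextract : ∀ {P : Type} [Group P] (u h t : P) (L : List (FreeGroup (Fin 3))),
      (∀ r ∈ comm ++ base, r ∈ L) → (∀ r ∈ L, FreeGroup.lift ![u, h, t] r = 1) →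
      (∀ i j : ℤ, Commute (cj h u i) (cj h u j)) ∧ u ^ p = 1 ∧
      prodA h u (mcoef p ((ω : F) ^ 2)) (mdeg p ((ω : F) ^ 2) + 1) = 1 ∧
      t * h * t⁻¹ = h⁻¹ ∧ t * u * t⁻¹ = u⁻¹ * t * u⁻¹ ∧
      t * prodA h u cx nx * t⁻¹ = prodA h u cy ny * h * t * prodA h u cy ny := by
    intro P _ u h t L hsub hL
    have hb : ∀ r ∈ base, FreeGroup.lift ![u, h, t] r = 1 := fun r hr =>
      hL r (hsub r (List.mem_append_right _ hr))
    have r1 := (lift_R1 u h t p).mp (hb (R1 p) (by simp [hbase]))
    have r4 := (lift_R4 u h t _ _).mp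
      (hb (R4 (mcoef p ((ω : F) ^ 2)) (mdeg p ((ω : F) ^ 2))) (by simp [hbase]))
    have r5 := (lift_R5 u h t).mp (hb R5 (by simp [hbase]))
    have r7 := (lift_R7 u h t).mp (hb R7 (by simp [hbase]))
    have r8 := (lift_R8 u h t cx nx cy ny).mp (hb (R8 cx nx cy ny) (by simp [hbase]))
    exact ⟨hcommP u h t (fun r hr => hL r (hsub r (List.mem_append_left _ hr))) r1 r4,
      r1, r4, r5, r7, r8⟩
  refine ⟨?_, ?_, ?_⟩
  · -- SL
    have := wrap (comm ++ base) ![(x (1 : F)), hh ω, t0]
      (by
        intro r hr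
        rcases List.mem_append.mp hr with hr | hr
        · exact hcommF r hr
        · exact hbmat r hr)
      (by
        intro P _ u h t hgen hL Φ hΦu hΦh hΦt
        obtain ⟨hcomm, r1, r4, r5, r7, r8⟩ := hextract u h t (comm ++ base) (fun r hr => hr) hL
        exact pipeline_SL p ω hω hadj cx nx cy ny hcx hcy u h t hgen hcomm r1 r4 r5 r7 r8 Φ
          hΦu hΦh hΦt)
    simpa [hbase] using this
  · -- PSL with t^2
    have := wrap (comm ++ base ++ [R6])
      (fun i => (QuotientGroup.mk (![(x (1 : F)), hh ω, t0] i) :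
        Matrix.ProjectiveSpecialLinearGroup (Fin 2) F))
      (by
        intro r hr
        have hcomp : FreeGroup.lift (fun i => (QuotientGroup.mk (![(x (1 : F)), hh ω, t0] i) :
            Matrix.ProjectiveSpecialLinearGroup (Fin 2) F)) =
            (QuotientGroup.mk' (Subgroup.center (Matrix.SpecialLinearGroup (Fin 2) F))).comp
              (FreeGroup.lift ![(x (1 : F)), hh ω, t0]) := by
          ext i; simp
        rw [hcomp, MonoidHom.comp_apply]
        rcases List.mem_append.mp hr with hr | hr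
        · rcases List.mem_append.mp hr with hr | hr
          · rw [hcommF r hr, map_one]
          · rw [hbmat r hr, map_one]
        · simp only [List.mem_cons, List.not_mem_nil, or_false] at hr
          subst hr
          have : FreeGroup.lift ![(x (1 : F)), hh ω, t0] R6 = hh (-1) := by
            simp only [R6, map_mul, lift_gT, t0_sq]
          rw [this]
          exact (QuotientGroup.eq_one_iff _).mpr hh_neg_one_mem_center)
      (by
        intro P _ u h t hgen hL Φ hΦu hΦh hΦt
        obtain ⟨hcomm, r1, r4, r5, r7, r8⟩ := hextract u h t (comm ++ base ++ [R6])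
          (fun r hr => List.mem_append_left _ hr) hL
        have r6 := (lift_R6 u h t).mp (hL R6 (by simp))
        exact pipeline_PSL p ω hω hadj cx nx cy ny hcx hcy u h t hgen hcomm r1 r4 r5 r7 r8
          (Or.inl r6) Φ hΦu hΦh hΦt)
    simpa [hbase, add_assoc] using this
  · -- PSL in characteristic 2, no t^2 needed
    intro hp
    have := wrap (comm ++ base)
      (fun i => (QuotientGroup.mk (![(x (1 : F)), hh ω, t0] i) :
        Matrix.ProjectiveSpecialLinearGroup (Fin 2) F))
      (by
        intro r hr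
        have hcomp : FreeGroup.lift (fun i => (QuotientGroup.mk (![(x (1 : F)), hh ω, t0] i) :
            Matrix.ProjectiveSpecialLinearGroup (Fin 2) F)) =
            (QuotientGroup.mk' (Subgroup.center (Matrix.SpecialLinearGroup (Fin 2) F))).comp
              (FreeGroup.lift ![(x (1 : F)), hh ω, t0]) := by
          ext i; simp
        rw [hcomp, MonoidHom.comp_apply]
        rcases List.mem_append.mp hr with hr | hr
        · rw [hcommF r hr, map_one]
        · rw [hbmat r hr, map_one])
      (by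
        intro P _ u h t hgen hL Φ hΦu hΦh hΦt
        obtain ⟨hcomm, r1, r4, r5, r7, r8⟩ := hextract u h t (comm ++ base) (fun r hr => hr) hL
        exact pipeline_PSL p ω hω hadj cx nx cy ny hcx hcy u h t hgen hcomm r1 r4 r5 r7 r8
          (Or.inr hp) Φ hΦu hΦh hΦt)
    simpa [hbase] using this

end

end Cfsg.Agent.Helper21.S2286
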