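import Cfsg.Agent.Helper8.S2286DARG
import Cfsg.Agent.Helper8.S2286BRUHAT
import Cfsg.Agent.Helper9.S2286WEYL
import Cfsg.Agent.Helper9.S2286CORE
import Cfsg.Agent.Helper15.S2286MAT
import Cfsg.Agent.Helper18.S2286PHI
import Cfsg.Agent.Helper18.S2286FIELD2
import Cfsg.Agent.Helper19.S2286EVENC

/-! # S2286: abstract pipelines (group with `u,h,t` satisfying the relations ⟹ `Φ` bijective) -/

namespace Cfsg.Agent.Helper21.S2286

open Polynomial Multiplicative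

section
variable (p : ℕ) [Fact p.Prime] {F : Type*} [Field F] [Finite F] [CharP F p] (ω : Fˣ)
  (hω : ∀ y : Fˣ, y ∈ Subgroup.zpowers ω)
  (hadj : letI := ZMod.algebra F p; Algebra.adjoin (ZMod p) {(ω : F) ^ 2} = ⊤)

include hω hadj in
/-- common part: from the relations get `φ`, the Bruhat forms and the kernel condition. -/
theorem pipeline_common
    (cx : ℕ → ℕ) (nx : ℕ) (cy : ℕ → ℕ) (ny : ℕ)
    (hcx : ev ((ω : F) ^ 2) cx nx = ((ω⁻¹ : Fˣ) : F)) (hcy : ev ((ω : F) ^ 2) cy ny = -(ω : F))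
    {P : Type*} [Group P] (u h t : P) (hgen : Subgroup.closure ({u, h, t} : Set P) = ⊤)
    (hcomm : ∀ i j : ℤ, Commute (cj h u i) (cj h u j))
    (r1 : u ^ p = 1)
    (r4 : prodA h u (mcoef p ((ω : F) ^ 2)) (mdeg p ((ω : F) ^ 2) + 1) = 1)
    (r5 : t * h * t⁻¹ = h⁻¹) (r7 : t * u * t⁻¹ = u⁻¹ * t * u⁻¹)
    (r8 : t * prodA h u cx nx * t⁻¹ = prodA h u cy ny * h * t * prodA h u cy ny)
    (M : ℤ) (hM : ω ^ M = -1) :
    ∃ φ : Multiplicative F →* P, φ (ofAdd 1) = u ∧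
      (∀ (c : ℕ → ℕ) (n : ℕ), φ (ofAdd (ev ((ω : F) ^ 2) c n)) = prodA h u c n) ∧
      (∀ g : P, (∃ (a : F) (j : ℤ), g = φ (ofAdd a) * h ^ j) ∨
        (∃ (a : F) (j : ℤ) (b : F), g = φ (ofAdd a) * h ^ j * t * φ (ofAdd b))) ∧
      (∀ j : ℤ, ω ^ j = 1 → h ^ j = 1) ∧ t * t = h ^ (-M) := by
  obtain ⟨φ, hφ1, hconj, hφev⟩ := exists_phi p ((ω : F) ^ 2) hadj h u r1 hcomm r4
  have hφneg : φ (ofAdd (-1 : F)) = u⁻¹ := by
    rw [ofAdd_neg, map_inv, hφ1]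
  have hw1 : t * φ (ofAdd 1) * t⁻¹ = φ (ofAdd (-1)) * t * φ (ofAdd (-1)) := by
    rw [hφ1, hφneg]; exact r7
  have hw2 : t * φ (ofAdd ((ω⁻¹ : Fˣ) : F)) * t⁻¹ =
      φ (ofAdd (-(ω : F))) * h * t * φ (ofAdd (-(ω : F))) := by
    rw [← hcx, ← hcy, hφev, hφev]; exact r8
  obtain ⟨hw, hker, hz, hzc⟩ := weyl_odd ω hω φ h t hconj r5 hw1 hw2 M hM
  have hlam : (ω : F) ^ 2 ≠ 0 := pow_ne_zero _ (Units.ne_zero ω)
  have hgen' : Subgroup.closure ({φ (ofAdd 1), h, t} : Set P) = ⊤ := by rw [hφ1]; exact hgen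
  exact ⟨φ, hφ1, hφev, fun g => bruhat φ h t _ hlam hconj r5 hw (-M) hz hzc hgen' g, hker, hz⟩

include hω hadj in
theorem pipeline_SL
    (cx : ℕ → ℕ) (nx : ℕ) (cy : ℕ → ℕ) (ny : ℕ)
    (hcx : ev ((ω : F) ^ 2) cx nx = ((ω⁻¹ : Fˣ) : F)) (hcy : ev ((ω : F) ^ 2) cy ny = -(ω : F))
    {P : Type*} [Group P] (u h t : P) (hgen : Subgroup.closure ({u, h, t} : Set P) = ⊤)
    (hcomm : ∀ i j : ℤ, Commute (cj h u i) (cj h u j))
    (r1 : u ^ p = 1)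
    (r4 : prodA h u (mcoef p ((ω : F) ^ 2)) (mdeg p ((ω : F) ^ 2) + 1) = 1)
    (r5 : t * h * t⁻¹ = h⁻¹) (r7 : t * u * t⁻¹ = u⁻¹ * t * u⁻¹)
    (r8 : t * prodA h u cx nx * t⁻¹ = prodA h u cy ny * h * t * prodA h u cy ny)
    (Φ : P →* Matrix.SpecialLinearGroup (Fin 2) F) (hΦu : Φ u = x 1) (hΦh : Φ h = hh ω)
    (hΦt : Φ t = t0) : Function.Bijective Φ := by
  obtain ⟨M, hM⟩ : ∃ M : ℤ, ω ^ M = -1 := Subgroup.mem_zpowers_iff.mp (hω (-1))
  obtain ⟨φ, hφ1, hφev, hform, hker, -⟩ :=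
    pipeline_common p ω hω hadj cx nx cy ny hcx hcy u h t hgen hcomm r1 r4 r5 r7 r8 M hM
  refine core_SL ω φ h t hform hker Φ ?_ hΦh hΦt
  intro a
  obtain ⟨c, n, rfl⟩ := ev_span p ((ω : F) ^ 2) hadj a
  rw [hφev, map_prodA, hΦh, hΦu, prodA_mat]

include hω hadj in
theorem pipeline_PSL
    (cx : ℕ → ℕ) (nx : ℕ) (cy : ℕ → ℕ) (ny : ℕ)
    (hcx : ev ((ω : F) ^ 2) cx nx = ((ω⁻¹ : Fˣ) : F)) (hcy : ev ((ω : F) ^ 2) cy ny = -(ω : F))
    {P : Type*} [Group P] (u h t : P) (hgen : Subgroup.closure ({u, h, t} : Set P) = ⊤)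
    (hcomm : ∀ i j : ℤ, Commute (cj h u i) (cj h u j))
    (r1 : u ^ p = 1)
    (r4 : prodA h u (mcoef p ((ω : F) ^ 2)) (mdeg p ((ω : F) ^ 2) + 1) = 1)
    (r5 : t * h * t⁻¹ = h⁻¹) (r7 : t * u * t⁻¹ = u⁻¹ * t * u⁻¹)
    (r8 : t * prodA h u cx nx * t⁻¹ = prodA h u cy ny * h * t * prodA h u cy ny)
    (r6 : t * t = 1 ∨ p = 2)
    (Φ : P →* Matrix.ProjectiveSpecialLinearGroup (Fin 2) F)
    (hΦu : Φ u = QuotientGroup.mk (x 1)) (hΦh : Φ h = QuotientGroup.mk (hh ω))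
    (hΦt : Φ t = QuotientGroup.mk t0) : Function.Bijective Φ := by
  obtain ⟨M, hM, hM2⟩ : ∃ M : ℤ, ω ^ M = -1 ∧ (p = 2 → M = 0) := by
    by_cases hp : p = 2
    · subst hp
      refine ⟨0, ?_, fun _ => rfl⟩
      rw [zpow_zero]
      apply Units.ext
      rw [Units.val_one, Units.val_neg, Units.val_one]
      exact (CharTwo.neg_eq (1 : F)).symm
    · obtain ⟨M, hM⟩ := Subgroup.mem_zpowers_iff.mp (hω (-1))
      exact ⟨M, hM, fun h => absurd h hp⟩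
  obtain ⟨φ, hφ1, hφev, hform, hker, hz⟩ :=
    pipeline_common p ω hω hadj cx nx cy ny hcx hcy u h t hgen hcomm r1 r4 r5 r7 r8 M hM
  have hhM : h ^ M = 1 := by
    rcases r6 with r6 | r6
    · rw [r6] at hz
      rw [zpow_neg] at hz
      exact inv_eq_one.mp hz.symm
    · rw [hM2 r6, zpow_zero]
  refine core_PSL ω φ h t hform ?_ Φ ?_ hΦh hΦt
  · intro j hj
    have h1 : (ω ^ j) ^ 2 = 1 := by rw [← zpow_natCast, ← zpow_mul, mul_comm]; exact_mod_cast hj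
    have h2 : ((ω ^ j : Fˣ) : F) = 1 ∨ ((ω ^ j : Fˣ) : F) = -1 := by
      have : ((ω ^ j : Fˣ) : F) ^ 2 = 1 := by
        rw [← Units.val_pow_eq_pow_val, h1, Units.val_one]
      exact sq_eq_one_iff.mp this
    rcases h2 with h2 | h2
    · exact hker j (Units.ext (by rw [h2, Units.val_one]))
    · have h3 : ω ^ (j - M) = 1 := by
        rw [zpow_sub, hM]
        apply Units.ext
        rw [Units.val_mul, h2, Units.val_inv_eq_inv_val, Units.val_neg, Units.val_one]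
        norm_num
      have h4 := hker _ h3
      rw [zpow_sub, hhM, inv_one, mul_one] at h4
      exact h4
  · intro a
    obtain ⟨c, n, rfl⟩ := ev_span p ((ω : F) ^ 2) hadj a
    rw [hφev, map_prodA, hΦh, hΦu]
    have := map_prodA (QuotientGroup.mk' (Subgroup.center (Matrix.SpecialLinearGroup (Fin 2) F)))
      (hh ω) (x 1) c n
    rw [prodA_mat] at this
    exact this.symm

end

section even
variable {F : Type*} [Field F] [Finite F] [CharP F 2] (ω : Fˣ)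
  (hω : ∀ y : Fˣ, y ∈ Subgroup.zpowers ω)
  (hadj : letI := ZMod.algebra F 2; Algebra.adjoin (ZMod 2) {(ω : F) ^ 2} = ⊤)

include hω hadj in
theorem pipeline_even_common (k : ℕ) (hk : ((ω : F) ^ 2) ^ k = 1 + (ω : F) ^ 2)
    {P : Type*} [Group P] (u h t : P) (hgen : Subgroup.closure ({u, h, t} : Set P) = ⊤)
    (r1 : u ^ 2 = 1) (r3 : cj h u k = u * cj h u 1)
    (r4 : prodA h u (mcoef 2 ((ω : F) ^ 2)) (mdeg 2 ((ω : F) ^ 2) + 1) = h ^ orderOf ω)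
    (r5 : t * h * t⁻¹ = h⁻¹) (r7 : u * t * u = t * u * t) :
    ∃ φ : Multiplicative F →* P, φ (ofAdd 1) = u ∧
      (∀ (c : ℕ → ℕ) (n : ℕ), φ (ofAdd (ev ((ω : F) ^ 2) c n)) = prodA h u c n) ∧
      (∀ g : P, (∃ (a : F) (j : ℤ), g = φ (ofAdd a) * h ^ j) ∨
        (∃ (a : F) (j : ℤ) (b : F), g = φ (ofAdd a) * h ^ j * t * φ (ofAdd b))) ∧
      (∀ j : ℤ, ω ^ j = 1 → h ^ j = 1) := by
  have hcomm := comm_S2 h u (k : ℤ) r1 r3
  have hN : h ^ orderOf ω = 1 := even_hN ((ω : F) ^ 2) hadj k hk h u r1 hcomm r3 _ r4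
  obtain ⟨φ, hφ1, hconj, hφev⟩ := exists_phi 2 ((ω : F) ^ 2) hadj h u r1 hcomm (r4.trans hN)
  have huinv : u⁻¹ = u := by
    rw [inv_eq_iff_mul_eq_one, ← sq, r1]
  -- t = (u t) u (u t)⁻¹
  have ht : t = (u * t) * u * (u * t)⁻¹ := by
    have : (u * t) * u = t * (u * t) := by rw [r7]; group
    rw [this]; group
  have ht2 : t * t = 1 := by
    have : t * t = (u * t) * (u * u) * (u * t)⁻¹ := by
      conv_lhs => rw [ht]
      group
    rw [this, ← sq, r1]; group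
  have htinv : t⁻¹ = t := by rw [inv_eq_iff_mul_eq_one, ht2]
  have hw1 : t * φ (ofAdd 1) * t⁻¹ = φ (ofAdd 1) * t * φ (ofAdd 1) := by
    rw [hφ1, htinv, r7]
  have hw := weyl_even ω hω φ h t hconj r5 hw1
  have hlam : (ω : F) ^ 2 ≠ 0 := pow_ne_zero _ (Units.ne_zero ω)
  have hgen' : Subgroup.closure ({φ (ofAdd 1), h, t} : Set P) = ⊤ := by rw [hφ1]; exact hgen
  refine ⟨φ, hφ1, hφev, fun g => bruhat φ h t _ hlam hconj r5 hw 0 (by rw [ht2, zpow_zero])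
    (fun a => by rw [zpow_zero]; exact Commute.one_left _) hgen' g, ?_⟩
  intro j hj
  obtain ⟨m, rfl⟩ := (orderOf_dvd_iff_zpow_eq_one.mpr hj)
  rw [zpow_mul, zpow_natCast, hN, one_zpow]

include hω hadj in
theorem pipeline_even_SL (k : ℕ) (hk : ((ω : F) ^ 2) ^ k = 1 + (ω : F) ^ 2)
    {P : Type*} [Group P] (u h t : P) (hgen : Subgroup.closure ({u, h, t} : Set P) = ⊤)
    (r1 : u ^ 2 = 1) (r3 : cj h u k = u * cj h u 1)
    (r4 : prodA h u (mcoef 2 ((ω : F) ^ 2)) (mdeg 2 ((ω : F) ^ 2) + 1) = h ^ orderOf ω)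
    (r5 : t * h * t⁻¹ = h⁻¹) (r7 : u * t * u = t * u * t)
    (Φ : P →* Matrix.SpecialLinearGroup (Fin 2) F) (hΦu : Φ u = x 1) (hΦh : Φ h = hh ω)
    (hΦt : Φ t = t0) : Function.Bijective Φ := by
  obtain ⟨φ, hφ1, hφev, hform, hker⟩ :=
    pipeline_even_common ω hω hadj k hk u h t hgen r1 r3 r4 r5 r7
  refine core_SL ω φ h t hform hker Φ ?_ hΦh hΦt
  intro a
  obtain ⟨c, n, rfl⟩ := ev_span 2 ((ω : F) ^ 2) hadj a
  rw [hφev, map_prodA, hΦh, hΦu, prodA_mat]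

include hω hadj in
theorem pipeline_even_PSL (k : ℕ) (hk : ((ω : F) ^ 2) ^ k = 1 + (ω : F) ^ 2)
    {P : Type*} [Group P] (u h t : P) (hgen : Subgroup.closure ({u, h, t} : Set P) = ⊤)
    (r1 : u ^ 2 = 1) (r3 : cj h u k = u * cj h u 1)
    (r4 : prodA h u (mcoef 2 ((ω : F) ^ 2)) (mdeg 2 ((ω : F) ^ 2) + 1) = h ^ orderOf ω)
    (r5 : t * h * t⁻¹ = h⁻¹) (r7 : u * t * u = t * u * t)
    (Φ : P →* Matrix.ProjectiveSpecialLinearGroup (Fin 2) F)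
    (hΦu : Φ u = QuotientGroup.mk (x 1)) (hΦh : Φ h = QuotientGroup.mk (hh ω))
    (hΦt : Φ t = QuotientGroup.mk t0) : Function.Bijective Φ := by
  obtain ⟨φ, hφ1, hφev, hform, hker⟩ :=
    pipeline_even_common ω hω hadj k hk u h t hgen r1 r3 r4 r5 r7
  refine core_PSL ω φ h t hform ?_ Φ ?_ hΦh hΦt
  · intro j hj
    apply hker
    have h1 : ((ω ^ j : Fˣ) : F) ^ 2 = 1 := by
      rw [← Units.val_pow_eq_pow_val, ← zpow_natCast, ← zpow_mul, mul_comm]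
      have := congrArg Units.val hj
      rw [Units.val_one] at this
      exact_mod_cast this
    have h2 : (((ω ^ j : Fˣ) : F) - 1) ^ 2 = 0 := by
      rw [CharTwo.sub_eq_add, CharTwo.add_sq, h1, one_pow, CharTwo.add_self_eq_zero]
    apply Units.ext
    rw [Units.val_one]
    exact sub_eq_zero.mp (pow_eq_zero_iff (two_ne_zero) |>.mp h2)
  · intro a
    obtain ⟨c, n, rfl⟩ := ev_span 2 ((ω : F) ^ 2) hadj a
    rw [hφev, map_prodA, hΦh, hΦu]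
    have := map_prodA (QuotientGroup.mk' (Subgroup.center (Matrix.SpecialLinearGroup (Fin 2) F)))
      (hh ω) (x 1) c n
    rw [prodA_mat] at this
    exact this.symm

end even

end Cfsg.Agent.Helper21.S2286
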