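import Cfsg.Agent.Helper21.S2287FRONT

/-! # S2287: relator lists -/

namespace Cfsg.Agent.Helper21.S2287

open Multiplicative Cfsg.Agent.Helper21.S2286

/-! ## generic wrapper for four generators -/

theorem lift_vec4_eq_mk (rels : Set (FreeGroup (Fin 4))) :
    FreeGroup.lift ![(PresentedGroup.of 0 : PresentedGroup rels), PresentedGroup.of 1,
      PresentedGroup.of 2, PresentedGroup.of 3] = PresentedGroup.mk rels := by
  ext i
  fin_cases i <;> rfl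

theorem closure_four (rels : Set (FreeGroup (Fin 4))) :
    Subgroup.closure ({(PresentedGroup.of 0 : PresentedGroup rels), PresentedGroup.of 1,
      PresentedGroup.of 2, PresentedGroup.of 3} : Set (PresentedGroup rels)) = ⊤ := by
  rw [← PresentedGroup.closure_range_of rels]
  congr 1
  ext g
  simp only [Set.mem_insert_iff, Set.mem_singleton_iff, Set.mem_range]
  constructor
  · rintro (rfl | rfl | rfl | rfl)
    exacts [⟨0, rfl⟩, ⟨1, rfl⟩, ⟨2, rfl⟩, ⟨3, rfl⟩]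
  · rintro ⟨i, rfl⟩
    fin_cases i
    · left; rfl
    · right; left; rfl
    · right; right; left; rfl
    · right; right; right; rfl

theorem wrap4 (L : List (FreeGroup (Fin 4))) {H : Type*} [Group H] (f : Fin 4 → H)
    (hf : ∀ r ∈ L, FreeGroup.lift f r = 1)
    (hpipe : ∀ {P : Type} [Group P] (u h t c : P),
      Subgroup.closure ({u, h, t, c} : Set P) = ⊤ →
      (∀ r ∈ L, FreeGroup.lift ![u, h, t, c] r = 1) → ∀ Φ : P →* H, Φ u = f 0 → Φ h = f 1 →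
        Φ t = f 2 → Φ c = f 3 → Function.Bijective Φ) :
    ∃ rels : Finset (FreeGroup (Fin 4)), rels.card ≤ L.length ∧
      Nonempty (PresentedGroup (↑rels : Set (FreeGroup (Fin 4))) ≃* H) := by
  classical
  refine ⟨L.toFinset, List.toFinset_card_le L, ?_⟩
  have hf' : ∀ r ∈ (↑L.toFinset : Set (FreeGroup (Fin 4))), FreeGroup.lift f r = 1 := by
    intro r hr
    exact hf r (by simpa using hr)
  have hb := hpipe (P := PresentedGroup (↑L.toFinset : Set (FreeGroup (Fin 4))))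
    (PresentedGroup.of 0) (PresentedGroup.of 1) (PresentedGroup.of 2) (PresentedGroup.of 3)
    (closure_four _)
    (by
      intro r hr
      rw [lift_vec4_eq_mk]
      exact PresentedGroup.one_of_mem (by simpa using hr))
    (PresentedGroup.toGroup hf') (PresentedGroup.toGroup.of hf') (PresentedGroup.toGroup.of hf')
    (PresentedGroup.toGroup.of hf') (PresentedGroup.toGroup.of hf')
  exact ⟨MulEquiv.ofBijective _ hb⟩

/-! ## relators -/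

/-- the word for `s = (c h c⁻¹)⁻¹`. -/
def fS : FreeGroup (Fin 4) := (fC * fH * fC⁻¹)⁻¹

def Q1 (p : ℕ) : FreeGroup (Fin 4) := fU ^ p
def Q2 : FreeGroup (Fin 4) := fU * cj fS fU 1 * (cj fS fU 1 * fU)⁻¹
def Q3 (k : ℤ) : FreeGroup (Fin 4) := cj fS fU k * (fU * cj fS fU 1)⁻¹
def Q4 (mc : ℕ → ℕ) (e : ℕ) : FreeGroup (Fin 4) := prodA fS fU mc (e + 1)
def Q5 : FreeGroup (Fin 4) := fH * fU * fH⁻¹ * (cj fS fU 2)⁻¹
def Q6 : FreeGroup (Fin 4) := fT * fH * fT⁻¹ * fH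
def Q7 : FreeGroup (Fin 4) := fT * fU * fT⁻¹ * (fU⁻¹ * fT * fU⁻¹)⁻¹
def Q8 : FreeGroup (Fin 4) := fC * fC * fC
def Q9 : FreeGroup (Fin 4) := fH * (fC * fH * fC⁻¹) * ((fC * fH * fC⁻¹) * fH)⁻¹
def Q10 : FreeGroup (Fin 4) := fH * (fC * fH * fC⁻¹) * (fC * fC * fH * fC⁻¹ * fC⁻¹)
def Q11 : FreeGroup (Fin 4) := fT * (fC * fH * fC⁻¹) * fT⁻¹ * (fH * (fC * fH * fC⁻¹))⁻¹
def Q12 : FreeGroup (Fin 4) := fT * fC⁻¹ * fT * fC⁻¹
/-- `[x01(ω^i), x12(1)] = x02(ω^i)`. -/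
def Q13 (i : ℤ) : FreeGroup (Fin 4) :=
  cj fS fU i * (fC * fU * fC⁻¹) * (cj fS fU i)⁻¹ * (fC * fU * fC⁻¹)⁻¹ *
    (fC ^ 2 * (fT * (cj fS fU i)⁻¹ * fT⁻¹) * (fC ^ 2)⁻¹)⁻¹
/-- `[x01(1), x02(1)] = 1`. -/
def Q14 : FreeGroup (Fin 4) :=
  fU * (fC ^ 2 * (fT * fU⁻¹ * fT⁻¹) * (fC ^ 2)⁻¹) *
    ((fC ^ 2 * (fT * fU⁻¹ * fT⁻¹) * (fC ^ 2)⁻¹) * fU)⁻¹

section lifts
variable {P : Type*} [Group P] (u h t c : P)

@[simp] theorem lift_fU : FreeGroup.lift ![u, h, t, c] fU = u := by simp [fU]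
@[simp] theorem lift_fH : FreeGroup.lift ![u, h, t, c] fH = h := by simp [fH]
@[simp] theorem lift_fT : FreeGroup.lift ![u, h, t, c] fT = t := by simp [fT]
@[simp] theorem lift_fC : FreeGroup.lift ![u, h, t, c] fC = c := by
  simp only [fC, FreeGroup.lift_apply_of]; rfl
@[simp] theorem lift_fS : FreeGroup.lift ![u, h, t, c] fS = (c * h * c⁻¹)⁻¹ := by
  simp only [fS, map_inv, map_mul, lift_fC, lift_fH]

theorem lift_Q1 (p : ℕ) : FreeGroup.lift ![u, h, t, c] (Q1 p) = 1 ↔ u ^ p = 1 := by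
  simp only [Q1, map_pow, lift_fU]
theorem lift_Q2 : FreeGroup.lift ![u, h, t, c] Q2 = 1 ↔
    Commute u (cj (c * h * c⁻¹)⁻¹ u 1) := by
  simp only [Q2, map_mul, map_inv, map_cj, lift_fU, lift_fS, mul_inv_eq_one]
  exact Iff.rfl
theorem lift_Q3 (k : ℤ) : FreeGroup.lift ![u, h, t, c] (Q3 k) = 1 ↔
    cj (c * h * c⁻¹)⁻¹ u k = u * cj (c * h * c⁻¹)⁻¹ u 1 := by
  simp only [Q3, map_mul, map_inv, map_cj, lift_fU, lift_fS, mul_inv_eq_one]
theorem lift_Q4 (mc : ℕ → ℕ) (e : ℕ) : FreeGroup.lift ![u, h, t, c] (Q4 mc e) = 1 ↔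
    prodA (c * h * c⁻¹)⁻¹ u mc (e + 1) = 1 := by
  simp only [Q4, map_prodA, lift_fU, lift_fS]
theorem lift_Q5 : FreeGroup.lift ![u, h, t, c] Q5 = 1 ↔
    h * u * h⁻¹ = cj (c * h * c⁻¹)⁻¹ u 2 := by
  simp only [Q5, map_mul, map_inv, map_cj, lift_fU, lift_fH, lift_fS, mul_inv_eq_one]
theorem lift_Q6 : FreeGroup.lift ![u, h, t, c] Q6 = 1 ↔ t * h * t⁻¹ = h⁻¹ := by
  simp only [Q6, map_mul, map_inv, lift_fT, lift_fH, mul_eq_one_iff_eq_inv]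
theorem lift_Q7 : FreeGroup.lift ![u, h, t, c] Q7 = 1 ↔ t * u * t⁻¹ = u⁻¹ * t * u⁻¹ := by
  simp only [Q7, map_mul, map_inv, lift_fT, lift_fU, mul_inv_eq_one]
theorem lift_Q8 : FreeGroup.lift ![u, h, t, c] Q8 = 1 ↔ c * c * c = 1 := by
  simp only [Q8, map_mul, lift_fC]
theorem lift_Q9 : FreeGroup.lift ![u, h, t, c] Q9 = 1 ↔ Commute h (c * h * c⁻¹) := by
  simp only [Q9, map_mul, map_inv, lift_fC, lift_fH, mul_inv_eq_one]
  exact Iff.rfl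
theorem lift_Q10 : FreeGroup.lift ![u, h, t, c] Q10 = 1 ↔
    h * (c * h * c⁻¹) * (c * c * h * c⁻¹ * c⁻¹) = 1 := by
  simp only [Q10, map_mul, map_inv, lift_fC, lift_fH]
theorem lift_Q11 : FreeGroup.lift ![u, h, t, c] Q11 = 1 ↔
    t * (c * h * c⁻¹) * t⁻¹ = h * (c * h * c⁻¹) := by
  simp only [Q11, map_mul, map_inv, lift_fC, lift_fH, lift_fT, mul_inv_eq_one]
theorem lift_Q12 : FreeGroup.lift ![u, h, t, c] Q12 = 1 ↔ t * c⁻¹ * t * c⁻¹ = 1 := by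
  simp only [Q12, map_mul, map_inv, lift_fC, lift_fT]
theorem lift_Q13 (i : ℤ) : FreeGroup.lift ![u, h, t, c] (Q13 i) = 1 ↔
    cj (c * h * c⁻¹)⁻¹ u i * (c * u * c⁻¹) * (cj (c * h * c⁻¹)⁻¹ u i)⁻¹ * (c * u * c⁻¹)⁻¹ =
      c ^ 2 * (t * (cj (c * h * c⁻¹)⁻¹ u i)⁻¹ * t⁻¹) * (c ^ 2)⁻¹ := by
  simp only [Q13, map_mul, map_inv, map_pow, map_cj, lift_fU, lift_fC, lift_fT, lift_fS,
    mul_inv_eq_one]
theorem lift_Q14 : FreeGroup.lift ![u, h, t, c] Q14 = 1 ↔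
    Commute u (c ^ 2 * (t * u⁻¹ * t⁻¹) * (c ^ 2)⁻¹) := by
  simp only [Q14, map_mul, map_inv, map_pow, lift_fU, lift_fC, lift_fT, mul_inv_eq_one]
  exact Iff.rfl

end lifts

end Cfsg.Agent.Helper21.S2287
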