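import Cfsg.Agent.Helper21.S2287DEFS
import Cfsg.Agent.Helper21.S2286FIN
import Cfsg.Agent.Helper11.S2287BNABS
import Cfsg.Agent.Helper11.S2287CUBES
import Cfsg.Agent.Helper20.S2287HACT
import Cfsg.Agent.Helper20.S2287CORE3
import Cfsg.Agent.Helper22.S2287MAT3
import Cfsg.Agent.Helper25.S2287ROOTS
import Cfsg.Agent.Helper19.S2287WEYL3
import Cfsg.Agent.Helper19.S2287TORUS
import Cfsg.Agent.Helper8.S2287BOREL
import Cfsg.Agent.Helper8.S2287NSTR
import Cfsg.Agent.Helper8.S2287COMM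
import Cfsg.Agent.Helper3.S2287NACT

/-! # S2287: the Bruhat cover `P = B N B` -/

namespace Cfsg.Agent.Helper21.S2287

open Multiplicative Cfsg.Agent.Helper21.S2286

variable {F : Type*} [Field F] {P : Type*} [Group P] (D : A2Data F P)

namespace A2Data

/-- the Borel subgroup. -/
def borel (hC : D.Comm) : Subgroup P where
  carrier := D.borelSet
  mul_mem' := fun hg hg' => D.borel_mul hC hg hg'
  one_mem' := D.borel_one
  inv_mem' := fun hg => D.borel_inv hC hg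

/-- the monomial subgroup. -/
def norm (M : ℤ) (hM : D.ω ^ M = -1) : Subgroup P where
  carrier := D.normSet
  mul_mem' := fun hg hg' => D.norm_mul M hM hg hg'
  one_mem' := D.norm_one
  inv_mem' := fun hg => D.norm_inv M hM hg

/-- the root subgroup `X_{kl}`. -/
def rootSub (k l : Fin 3) : Subgroup P where
  carrier := {g | ∃ a : F, g = D.xr k l a}
  mul_mem' := by
    rintro _ _ ⟨a, rfl⟩ ⟨b, rfl⟩
    exact ⟨a + b, (D.xr_add k l a b).symm⟩
  one_mem' := ⟨0, (D.xr_zero k l).symm⟩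
  inv_mem' := by
    rintro _ ⟨a, rfl⟩
    exact ⟨-a, (D.xr_neg k l a).symm⟩

theorem n2_mem_norm (M : ℤ) (hM : D.ω ^ M = -1) : D.n2 ∈ D.norm M hM := by
  have h1 : D.c ∈ D.norm M hM := D.c_mem_norm
  have h2 : D.t ∈ D.norm M hM := D.t_mem_norm
  exact mul_mem (mul_mem h1 h2) (inv_mem h1)

theorem perm_case (σ : Equiv.Perm (Fin 3)) (k l : Fin 3) (hkl : k ≠ l) :
    σ k < σ l ∨ σ l < σ k := by
  rcases lt_trichotomy (σ k) (σ l) with h | h | h
  · exact Or.inl h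
  · exact absurd (σ.injective h) hkl
  · exact Or.inr h

/-- the BN step for the first simple reflection `t`. -/
theorem step_t (hC : D.Comm) (M : ℤ) (hM : D.ω ^ M = -1) (b : P) (hb : b ∈ D.borel hC) (n : P)
    (hn : n ∈ D.norm M hM) (b' : P) (hb' : b' ∈ D.borel hC) :
    ∃ b1 ∈ D.borel hC, ∃ n1 ∈ D.norm M hM, ∃ b2 ∈ D.borel hC, b * n * b' * D.t = b1 * n1 * b2 := by
  obtain ⟨hw, -, hz, -⟩ := D.weyl3 M hM
  refine bn_step (D.borel hC) (D.norm M hM) (D.rootSub 0 1) (D.rootSub 1 0) D.t D.t_mem_norm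
    ?_ ?_ ?_ ?_ ?_ ?_ b hb n hn b' hb'
  · intro g hg
    obtain ⟨a, g', hg', rfl, hconj⟩ := D.borel_split_t hC hg
    exact ⟨_, ⟨a, rfl⟩, g', hg', rfl, hconj⟩
  · rintro _ ⟨a, rfl⟩ hne
    have ha : a ≠ 0 := by
      rintro rfl
      exact hne (D.xr_zero 0 1)
    have hx : ∀ a : F, D.xr 0 1 a = D.φ (ofAdd a) := by
      intro a; simp [xr]
    obtain ⟨a', j, b'', h⟩ := hw a ha
    refine ⟨_, ⟨a', rfl⟩, D.h ^ j, ?_, _, ⟨b'', rfl⟩, ?_⟩
    · have : D.h ^ j = D.tor j 0 := by simp [tor]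
      rw [this]
      exact ⟨D.tor_mem_borel j 0, D.tor_mem_norm j 0⟩
    · rw [hx, hx, hx]; exact h
  · rw [D.t_sq M hM]
    exact ⟨D.tor_mem_borel _ _, D.tor_mem_norm _ _⟩
  · rintro _ ⟨a, rfl⟩
    obtain ⟨a', h⟩ := D.t_xr_inv 0 1 a
    refine ⟨a', ?_⟩
    rw [h]; simp
  · intro n hn
    obtain ⟨σ, hσ⟩ := D.norm_perm hn
    rcases perm_case σ 0 1 (by decide) with h | h
    · left
      rintro _ ⟨a, rfl⟩
      obtain ⟨a', h'⟩ := hσ 0 1 a
      rw [h']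
      exact D.xr_mem_borel _ _ h a'
    · right
      rintro _ ⟨a, rfl⟩
      obtain ⟨a', h'⟩ := hσ 1 0 a
      rw [h']
      exact D.xr_mem_borel _ _ h a'
  · rintro _ ⟨a, rfl⟩
    exact D.xr_mem_borel 0 1 (by decide) a

/-- the BN step for the second simple reflection `n2`. -/
theorem step_n2 (hC : D.Comm) (M : ℤ) (hM : D.ω ^ M = -1) (b : P) (hb : b ∈ D.borel hC) (n : P)
    (hn : n ∈ D.norm M hM) (b' : P) (hb' : b' ∈ D.borel hC) :
    ∃ b1 ∈ D.borel hC, ∃ n1 ∈ D.norm M hM, ∃ b2 ∈ D.borel hC,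
      b * n * b' * D.n2 = b1 * n1 * b2 := by
  obtain ⟨hw, -, hz, -⟩ := D.weyl3 M hM
  have hx01 : ∀ a : F, D.xr 0 1 a = D.φ (ofAdd a) := by
    intro a; simp [xr]
  have hx12 : ∀ a : F, D.xr 1 2 a = D.c * D.xr 0 1 a * D.c⁻¹ := by
    intro a
    have := D.c_xr 0 1 a
    simpa using this.symm
  refine bn_step (D.borel hC) (D.norm M hM) (D.rootSub 1 2) (D.rootSub 2 1) D.n2
    (D.n2_mem_norm M hM) ?_ ?_ ?_ ?_ ?_ ?_ b hb n hn b' hb'
  · intro g hg
    obtain ⟨a, g', hg', rfl, hconj⟩ := D.borel_split_n2 hC hg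
    exact ⟨_, ⟨a, rfl⟩, g', hg', rfl, hconj⟩
  · rintro _ ⟨a, rfl⟩ hne
    have ha : a ≠ 0 := by
      rintro rfl
      exact hne (D.xr_zero 1 2)
    obtain ⟨a', j, b'', h⟩ := hw a ha
    refine ⟨_, ⟨a', rfl⟩, D.c * D.h ^ j * D.c⁻¹, ?_, _, ⟨b'', rfl⟩, ?_⟩
    · have h1 : D.h ^ j = D.tor j 0 := by simp [tor]
      rw [h1, D.c_tor]
      exact ⟨D.tor_mem_borel _ _, D.tor_mem_norm _ _⟩
    · rw [hx12, hx12, hx12, hx01, hx01, hx01, n2]
      have : D.c * D.t * D.c⁻¹ * (D.c * D.φ (ofAdd a) * D.c⁻¹) * (D.c * D.t * D.c⁻¹)⁻¹ =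
          D.c * (D.t * D.φ (ofAdd a) * D.t⁻¹) * D.c⁻¹ := by group
      rw [this, h]; group
  · have : D.n2 * D.n2 = D.c * (D.t * D.t) * D.c⁻¹ := by simp only [n2]; group
    rw [this, D.t_sq M hM, D.c_tor]
    exact ⟨D.tor_mem_borel _ _, D.tor_mem_norm _ _⟩
  · rintro _ ⟨a, rfl⟩
    obtain ⟨a', h⟩ := D.n2_xr_inv 1 2 a
    refine ⟨a', ?_⟩
    rw [h]; simp
  · intro n hn
    obtain ⟨σ, hσ⟩ := D.norm_perm hn
    rcases perm_case σ 1 2 (by decide) with h | h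
    · left
      rintro _ ⟨a, rfl⟩
      obtain ⟨a', h'⟩ := hσ 1 2 a
      rw [h']
      exact D.xr_mem_borel _ _ h a'
    · right
      rintro _ ⟨a, rfl⟩
      obtain ⟨a', h'⟩ := hσ 2 1 a
      rw [h']
      exact D.xr_mem_borel _ _ h a'
  · rintro _ ⟨a, rfl⟩
    exact D.xr_mem_borel 1 2 (by decide) a

/-- **Bruhat cover.** -/
theorem cover (hC : D.Comm)
    (hgen : Subgroup.closure ({D.φ (ofAdd 1), D.h, D.t, D.c} : Set P) = ⊤) (g : P) :
    ∃ b ∈ D.borelSet, ∃ n ∈ D.normSet, ∃ b' ∈ D.borelSet, g = b * n * b' := by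
  obtain ⟨M, hM⟩ : ∃ M : ℤ, D.ω ^ M = -1 := Subgroup.mem_zpowers_iff.mp (D.hω (-1))
  let B := D.borel hC
  let N := D.norm M hM
  -- the set S = B N B
  let S : Set P := {g | ∃ b ∈ B, ∃ n ∈ N, ∃ b' ∈ B, g = b * n * b'}
  have hSB : ∀ g ∈ S, ∀ y ∈ B, g * y ∈ S := by
    rintro _ ⟨b, hb, n, hn, b', hb', rfl⟩ y hy
    exact ⟨b, hb, n, hn, b' * y, mul_mem hb' hy, by group⟩
  have hSt : ∀ g ∈ S, g * D.t ∈ S := by
    rintro _ ⟨b, hb, n, hn, b', hb', rfl⟩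
    obtain ⟨b1, hb1, n1, hn1, b2, hb2, h⟩ := D.step_t hC M hM b hb n hn b' hb'
    exact ⟨b1, hb1, n1, hn1, b2, hb2, h⟩
  have hSn : ∀ g ∈ S, g * D.n2 ∈ S := by
    rintro _ ⟨b, hb, n, hn, b', hb', rfl⟩
    obtain ⟨b1, hb1, n1, hn1, b2, hb2, h⟩ := D.step_n2 hC M hM b hb n hn b' hb'
    exact ⟨b1, hb1, n1, hn1, b2, hb2, h⟩
  have htorB : ∀ i j : ℤ, D.tor i j ∈ B := fun i j => D.tor_mem_borel i j
  have hSc : ∀ g ∈ S, g * D.c ∈ S := by
    intro g hg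
    obtain ⟨i, j, hc⟩ := D.c_eq M hM
    have : g * D.c = g * D.t * D.n2 * D.tor i j := by rw [hc]; group
    rw [this]
    exact hSB _ (hSn _ (hSt _ hg)) _ (htorB i j)
  have hStinv : ∀ g ∈ S, g * D.t⁻¹ ∈ S := by
    intro g hg
    have h1 : D.t⁻¹ = D.t * (D.tor (-M) 0)⁻¹ := by
      rw [← D.t_sq M hM]; group
    rw [h1, ← mul_assoc]
    exact hSB _ (hSt _ hg) _ (inv_mem (htorB _ _))
  have hScinv : ∀ g ∈ S, g * D.c⁻¹ ∈ S := by
    intro g hg
    have h1 : D.c⁻¹ = D.c * D.c := by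
      rw [inv_eq_iff_mul_eq_one, ← mul_assoc]; exact D.c3
    rw [h1, ← mul_assoc]
    exact hSc _ (hSc _ hg)
  have hφB : D.φ (ofAdd 1) ∈ B := by
    have : D.φ (ofAdd 1) ∈ D.borelSet := by
      have := D.xr_mem_borel 0 1 (by decide) 1
      simpa [xr] using this
    exact this
  have hhB : D.h ∈ B := by
    have : D.h ∈ D.borelSet := by
      have := D.tor_mem_borel 1 0
      simpa [tor] using this
    exact this
  have hone : (1 : P) ∈ S := ⟨1, one_mem _, 1, one_mem _, 1, one_mem _, by group⟩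
  have hall : g ∈ S := by
    have hg : g ∈ Subgroup.closure ({D.φ (ofAdd 1), D.h, D.t, D.c} : Set P) := by
      rw [hgen]; trivial
    induction hg using Subgroup.closure_induction_right with
    | one => exact hone
    | mul_right x hx y hy ih =>
      simp only [Set.mem_insert_iff, Set.mem_singleton_iff] at hy
      rcases hy with rfl | rfl | rfl | rfl
      · exact hSB _ ih _ hφB
      · exact hSB _ ih _ hhB
      · exact hSt _ ih
      · exact hSc _ ih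
    | mul_inv_cancel x hx y hy ih =>
      simp only [Set.mem_insert_iff, Set.mem_singleton_iff] at hy
      rcases hy with rfl | rfl | rfl | rfl
      · exact hSB _ ih _ (inv_mem hφB)
      · exact hSB _ ih _ (inv_mem hhB)
      · exact hStinv _ ih
      · exact hScinv _ ih
  obtain ⟨b, hb, n, hn, b', hb', h⟩ := hall
  exact ⟨b, hb, n, hn, b', hb', h⟩

end A2Data

end Cfsg.Agent.Helper21.S2287
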