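import Cfsg.Agent.Helper21.S2286DEFS

/-!
# S2287: a bounded presentation of `SL(3,q)` — shared definitions

Generators `u, h, t, c`  ↦  `x_{12}(1)`, `diag(ω, ω⁻¹, 1)`, `n_{12}`, the cyclic permutation matrix.
`A2Data F P`: a group `P` with elements satisfying the torus / Weyl / rank-one relations.
-/

namespace Cfsg.Agent.Helper21.S2287

open Multiplicative

/-- Level-1 data: a group `P` with a root homomorphism `φ` and elements `h, t, c`. -/
structure A2Data (F : Type*) [Field F] (P : Type*) [Group P] where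
  ω : Fˣ
  φ : Multiplicative F →* P
  h : P
  t : P
  c : P
  hω : ∀ y : Fˣ, y ∈ Subgroup.zpowers ω
  s_conj : ∀ a : F, (c * h * c⁻¹)⁻¹ * φ (ofAdd a) * (c * h * c⁻¹) = φ (ofAdd ((ω : F) * a))
  h_conj : ∀ a : F, h * φ (ofAdd a) * h⁻¹ = φ (ofAdd ((ω : F) ^ 2 * a))
  hhc : Commute h (c * h * c⁻¹)
  c3 : c * c * c = 1
  hprod : h * (c * h * c⁻¹) * (c * c * h * c⁻¹ * c⁻¹) = 1
  th : t * h * t⁻¹ = h⁻¹
  thc : t * (c * h * c⁻¹) * t⁻¹ = h * (c * h * c⁻¹)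
  tc : t * c⁻¹ * t * c⁻¹ = 1
  w1 : t * φ (ofAdd 1) * t⁻¹ = φ (ofAdd (-1)) * t * φ (ofAdd (-1))

namespace A2Data

variable {F : Type*} [Field F] {P : Type*} [Group P] (D : A2Data F P)

/-- `s = (c h c⁻¹)⁻¹`  ↦  `diag(1, ω⁻¹, ω)`; acts on `φ` by `ω`. -/
def s : P := (D.c * D.h * D.c⁻¹)⁻¹

/-- torus element `h^i s^j`  ↦  `diag(ω^i, ω^(-i-j), ω^j)`. -/
def tor (i j : ℤ) : P := D.h ^ i * D.s ^ j

/-- exponents of the diagonal entries of `tor i j`. -/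
def ee (i j : ℤ) : Fin 3 → ℤ := ![i, -i - j, j]

/-- root elements: `xr 0 1 = φ`, `xr 1 0 a = t φ(-a) t⁻¹`, the others by conjugation with `c`. -/
def xr (k l : Fin 3) (a : F) : P :=
  if l = k + 1 then D.c ^ (k : ℕ) * D.φ (ofAdd a) * (D.c ^ (k : ℕ))⁻¹
  else if k = l + 1 then
    D.c ^ (l : ℕ) * (D.t * D.φ (ofAdd (-a)) * D.t⁻¹) * (D.c ^ (l : ℕ))⁻¹
  else 1

/-- the second simple reflection `n₂ = c t c⁻¹`. -/
def n2 : P := D.c * D.t * D.c⁻¹

/-- the Borel set `X₀₁ X₁₂ X₀₂ T`. -/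
def borelSet : Set P :=
  {g | ∃ (a b d : F) (i j : ℤ), g = D.xr 0 1 a * D.xr 1 2 b * D.xr 0 2 d * D.tor i j}

/-- the monomial set `T c^m t^e`. -/
def normSet : Set P :=
  {g | ∃ (i j : ℤ) (m e : ℕ), g = D.tor i j * D.c ^ m * D.t ^ e}

/-- the Chevalley commutator relations among the positive root groups. -/
structure Comm : Prop where
  comm_all : ∀ a b : F, D.xr 0 1 a * D.xr 1 2 b * (D.xr 0 1 a)⁻¹ * (D.xr 1 2 b)⁻¹ = D.xr 0 2 (a * b)
  comm_13 : ∀ a b : F, Commute (D.xr 0 1 a) (D.xr 0 2 b)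
  comm_23 : ∀ a b : F, Commute (D.xr 1 2 a) (D.xr 0 2 b)

end A2Data

section mat
variable {F : Type*} [Field F]

/-- `hm s = diag(s, s⁻¹, 1)`. -/
def hm (s : Fˣ) : Matrix.SpecialLinearGroup (Fin 3) F :=
  ⟨!![(s : F), 0, 0; 0, ((s⁻¹ : Fˣ) : F), 0; 0, 0, 1], by simp [Matrix.det_fin_three]⟩

/-- `tm = n₁₂`. -/
def tm : Matrix.SpecialLinearGroup (Fin 3) F :=
  ⟨!![0, 1, 0; -1, 0, 0; 0, 0, 1], by simp [Matrix.det_fin_three]⟩

/-- `cm`: the permutation matrix `e₀ ↦ e₁ ↦ e₂ ↦ e₀`. -/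
def cm : Matrix.SpecialLinearGroup (Fin 3) F :=
  ⟨!![0, 0, 1; 1, 0, 0; 0, 1, 0], by simp [Matrix.det_fin_three]⟩

/-- root elements of `SL₃`. -/
def xm (k l : Fin 3) (a : F) : Matrix.SpecialLinearGroup (Fin 3) F :=
  if hkl : k ≠ l then Matrix.SpecialLinearGroup.transvection hkl a else 1

/-- `dm i j = diag(ω^i, ω^(-i-j), ω^j)`. -/
def dm (s : Fˣ) (i j : ℤ) : Matrix.SpecialLinearGroup (Fin 3) F :=
  ⟨!![((s ^ i : Fˣ) : F), 0, 0; 0, ((s ^ (-i - j) : Fˣ) : F), 0; 0, 0, ((s ^ j : Fˣ) : F)], by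
    simp only [Matrix.det_fin_three, Matrix.of_apply, Matrix.cons_val', Matrix.cons_val_zero,
      Matrix.cons_val_one, Matrix.cons_val_two, Matrix.empty_val', Matrix.cons_val_fin_one,
      Matrix.head_cons, Matrix.tail_cons, Matrix.head_fin_const]
    simp only [mul_zero, zero_mul, sub_zero, add_zero]
    rw [← Units.val_mul, ← Units.val_mul, ← zpow_add, ← zpow_add]
    have : i + (-i - j) + j = 0 := by ring
    rw [this, zpow_zero, Units.val_one]⟩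

end mat

/-- the four generators of the free group. -/
abbrev fU : FreeGroup (Fin 4) := FreeGroup.of 0
abbrev fH : FreeGroup (Fin 4) := FreeGroup.of 1
abbrev fT : FreeGroup (Fin 4) := FreeGroup.of 2
abbrev fC : FreeGroup (Fin 4) := FreeGroup.of 3

end Cfsg.Agent.Helper21.S2287
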