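import Cfsg.Agent.Helper21.S2287CASES

/-! # S2287: the cases and the final statement -/

namespace Cfsg.Agent.Helper21.S2287

open Multiplicative Cfsg.Agent.Helper21.S2286

section mataux
variable {F : Type*} [Field F]

theorem xm_neg (k l : Fin 3) (a : F) : xm k l (-a) = (xm k l a)⁻¹ := by
  rw [eq_inv_iff_mul_eq_one, ← xm_add, neg_add_cancel, xm_zero]

theorem xm_pow (k l : Fin 3) (a : F) (n : ℕ) : xm k l a ^ n = xm k l (n * a) := by
  induction n with
  | zero => simp [xm_zero]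
  | succ n ih => rw [pow_succ, ih, ← xm_add]; congr 1; push_cast; ring

/-- the matrix of `x02(a)` written with `cm`, `tm`. -/
theorem x02_mat (a : F) :
    (cm : Matrix.SpecialLinearGroup (Fin 3) F) ^ 2 * (tm * (xm 0 1 a)⁻¹ * tm⁻¹) * (cm ^ 2)⁻¹ =
      xm 0 2 a := by
  rw [← xm_neg, tm_xm01]
  have h1 := cm_xm 1 0 a
  have h2 := cm_xm (1 + 1) (0 + 1) a
  have e1 : ((1 : Fin 3) + 1 + 1) = 0 := by decide
  have e2 : ((0 : Fin 3) + 1 + 1) = 2 := by decide
  rw [e1, e2] at h2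
  rw [← h2, ← h1, sq]
  group

theorem x12_mat (a : F) :
    (cm : Matrix.SpecialLinearGroup (Fin 3) F) * xm 0 1 a * cm⁻¹ = xm 1 2 a := by
  have := cm_xm 0 1 a
  have e1 : ((0 : Fin 3) + 1) = 1 := by decide
  have e2 : ((1 : Fin 3) + 1) = 2 := by decide
  rwa [e1, e2] at this

end mataux

section
variable (p : ℕ) [Fact p.Prime] {F : Type*} [Field F] [Finite F] [CharP F p] (ω : Fˣ)
  (hω : ∀ y : Fˣ, y ∈ Subgroup.zpowers ω)

/-- the ten common relators. -/
noncomputable def baseRels : List (FreeGroup (Fin 4)) :=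
  [Q1 p, Q4 (mcoef p (ω : F)) (mdeg p (ω : F)), Q5, Q6, Q7, Q8, Q9, Q10, Q11, Q12]

theorem base_mat : ∀ r ∈ baseRels p ω,
    FreeGroup.lift ![(xm 0 1 (1 : F)), hm ω, tm, cm] r = 1 := by
  intro r hr
  simp only [baseRels, List.mem_cons, List.not_mem_nil, or_false] at hr
  rcases hr with rfl | rfl | rfl | rfl | rfl | rfl | rfl | rfl | rfl | rfl
  · rw [lift_Q1, xm_pow, CharP.cast_eq_zero, zero_mul, xm_zero]
  · rw [lift_Q4, prodA_mat3, (mcoef_facts p (ω : F)).2.2, xm_zero]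
  · rw [lift_Q5, hm_conj, cj_mat3, zpow_ofNat]
  · rw [lift_Q6, tm_hm]
  · rw [lift_Q7, ← xm_neg]; exact weyl_mat3
  · rw [lift_Q8]; exact cm_cube
  · rw [lift_Q9]; exact hm_comm ω
  · rw [lift_Q10]; exact hm_prod ω
  · rw [lift_Q11]; exact tm_hmc ω
  · rw [lift_Q12]; exact tm_cm

theorem q13_mat (i : ℤ) :
    FreeGroup.lift ![(xm 0 1 (1 : F)), hm ω, tm, cm] (Q13 i) = 1 := by
  rw [lift_Q13, cj_mat3, x12_mat, comm_mat, x02_mat, mul_one]

theorem q14_mat : FreeGroup.lift ![(xm 0 1 (1 : F)), hm ω, tm, cm] Q14 = 1 := by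
  rw [lift_Q14, x02_mat]; exact comm13_mat 1 1

/-- the Chevalley relation instance in terms of `D.xr`. -/
theorem c1_of_rel {P : Type*} [Group P] (D : A2Data F P) (u : P) (i : ℤ)
    (hφ : D.φ (ofAdd ((D.ω : F) ^ i)) = cj (D.c * D.h * D.c⁻¹)⁻¹ u i)
    (r13 : cj (D.c * D.h * D.c⁻¹)⁻¹ u i * (D.c * u * D.c⁻¹) *
        (cj (D.c * D.h * D.c⁻¹)⁻¹ u i)⁻¹ * (D.c * u * D.c⁻¹)⁻¹ =
      D.c ^ 2 * (D.t * (cj (D.c * D.h * D.c⁻¹)⁻¹ u i)⁻¹ * D.t⁻¹) * (D.c ^ 2)⁻¹)
    (hφ1 : D.φ (ofAdd 1) = u) :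
    D.xr 0 1 ((D.ω : F) ^ i) * D.xr 1 2 1 * (D.xr 0 1 ((D.ω : F) ^ i))⁻¹ * (D.xr 1 2 1)⁻¹ =
      D.xr 0 2 ((D.ω : F) ^ i) := by
  have h01 : ∀ a : F, D.xr 0 1 a = D.φ (ofAdd a) := by intro a; simp [A2Data.xr]
  have h12 : D.xr 1 2 1 = D.c * u * D.c⁻¹ := by
    rw [← hφ1]
    simp [A2Data.xr]
  have h02 : ∀ a : F, D.xr 0 2 a = D.c ^ 2 * (D.t * (D.φ (ofAdd a))⁻¹ * D.t⁻¹) * (D.c ^ 2)⁻¹ := by
    intro a
    have e : ((2 : Fin 3) : ℕ) = 2 := rfl
    have hne : ¬ ((2 : Fin 3) = 0 + 1) := by decide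
    have heq : ((0 : Fin 3) = 2 + 1) := by decide
    unfold A2Data.xr
    rw [if_neg hne, if_pos heq, e, ofAdd_neg, map_inv]
  rw [h01, h12, h02, hφ]
  exact r13

include hω in
/-- generic case. `comm` forces the commutativity of the `cj s u i`, `crel` the Chevalley
commutator relations. -/
theorem sl3_case (comm crel : List (FreeGroup (Fin 4)))
    (hcommP : ∀ {P : Type} [Group P] (u h t c : P),
      (∀ r ∈ comm, FreeGroup.lift ![u, h, t, c] r = 1) → u ^ p = 1 →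
      prodA (c * h * c⁻¹)⁻¹ u (mcoef p (ω : F)) (mdeg p (ω : F) + 1) = 1 →
      ∀ i j : ℤ, Commute (cj (c * h * c⁻¹)⁻¹ u i) (cj (c * h * c⁻¹)⁻¹ u j))
    (hcommF : ∀ r ∈ comm, FreeGroup.lift ![(xm 0 1 (1 : F)), hm ω, tm, cm] r = 1)
    (hcrelP : ∀ {P : Type} [Group P] (u h t c : P),
      (∀ r ∈ crel, FreeGroup.lift ![u, h, t, c] r = 1) →
      ∀ D : A2Data F P, D.ω = ω → D.h = h → D.t = t → D.c = c →
        (∀ i : ℤ, D.φ (ofAdd ((ω : F) ^ i)) = cj (c * h * c⁻¹)⁻¹ u i) → D.Comm)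
    (hcrelF : ∀ r ∈ crel, FreeGroup.lift ![(xm 0 1 (1 : F)), hm ω, tm, cm] r = 1) :
    ∃ rels : Finset (FreeGroup (Fin 4)), rels.card ≤ comm.length + 10 + crel.length ∧
      Nonempty (PresentedGroup (↑rels : Set (FreeGroup (Fin 4))) ≃*
        Matrix.SpecialLinearGroup (Fin 3) F) := by
  have hbm := base_mat p ω
  have := wrap4 (comm ++ baseRels p ω ++ crel) ![(xm 0 1 (1 : F)), hm ω, tm, cm]
    (by
      intro r hr
      rcases List.mem_append.mp hr with hr | hr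
      · rcases List.mem_append.mp hr with hr | hr
        · exact hcommF r hr
        · exact hbm r hr
      · exact hcrelF r hr)
    (by
      intro P _ u h t c hgen hL Φ hΦu hΦh hΦt hΦc
      have hb : ∀ r ∈ baseRels p ω, FreeGroup.lift ![u, h, t, c] r = 1 := fun r hr =>
        hL r (List.mem_append_left _ (List.mem_append_right _ hr))
      have r1 := (lift_Q1 u h t c p).mp (hb (Q1 p) (by simp [baseRels]))
      have r4 := (lift_Q4 u h t c _ _).mp
        (hb (Q4 (mcoef p (ω : F)) (mdeg p (ω : F))) (by simp [baseRels]))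
      have r5 := (lift_Q5 u h t c).mp (hb Q5 (by simp [baseRels]))
      have r6 := (lift_Q6 u h t c).mp (hb Q6 (by simp [baseRels]))
      have r7 := (lift_Q7 u h t c).mp (hb Q7 (by simp [baseRels]))
      have r8 := (lift_Q8 u h t c).mp (hb Q8 (by simp [baseRels]))
      have r9 := (lift_Q9 u h t c).mp (hb Q9 (by simp [baseRels]))
      have r10 := (lift_Q10 u h t c).mp (hb Q10 (by simp [baseRels]))
      have r11 := (lift_Q11 u h t c).mp (hb Q11 (by simp [baseRels]))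
      have r12 := (lift_Q12 u h t c).mp (hb Q12 (by simp [baseRels]))
      have hcomm := hcommP u h t c
        (fun r hr => hL r (List.mem_append_left _ (List.mem_append_left _ hr))) r1 r4
      exact pipeline3 p ω hω u h t c hgen hcomm r1 r4 r5 r6 r7 r8 r9 r10 r11 r12
        (hcrelP u h t c (fun r hr => hL r (List.mem_append_right _ hr)))
        Φ hΦu hΦh hΦt hΦc)
  obtain ⟨rels, h1, h2⟩ := this
  refine ⟨rels, ?_, h2⟩
  simp only [baseRels, List.length_append, List.length_cons, List.length_nil] at h1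
  omega

end

section cases
variable (p : ℕ) [Fact p.Prime] {F : Type*} [Field F] [Fintype F] [CharP F p] (ω : Fˣ)
  (hω : ∀ y : Fˣ, y ∈ Subgroup.zpowers ω)

theorem xr02_eq {P : Type*} [Group P] (D : A2Data F P) (a : F) :
    D.xr 0 2 a = D.c ^ 2 * (D.t * (D.φ (ofAdd a))⁻¹ * D.t⁻¹) * (D.c ^ 2)⁻¹ := by
  have e : ((2 : Fin 3) : ℕ) = 2 := rfl
  have hne : ¬ ((2 : Fin 3) = 0 + 1) := by decide
  have heq : ((0 : Fin 3) = 2 + 1) := by decide
  unfold A2Data.xr
  rw [if_neg hne, if_pos heq, e, ofAdd_neg, map_inv]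

/-- Chevalley relations from the two relators `Q13 0`, `Q14` when `|F| ≠ 4`. -/
theorem comm_of_two (h4 : Fintype.card F ≠ 4) {P : Type*} [Group P] (u h t c : P)
    (r13 : cj (c * h * c⁻¹)⁻¹ u 0 * (c * u * c⁻¹) * (cj (c * h * c⁻¹)⁻¹ u 0)⁻¹ * (c * u * c⁻¹)⁻¹ =
      c ^ 2 * (t * (cj (c * h * c⁻¹)⁻¹ u 0)⁻¹ * t⁻¹) * (c ^ 2)⁻¹)
    (r14 : Commute u (c ^ 2 * (t * u⁻¹ * t⁻¹) * (c ^ 2)⁻¹))
    (D : A2Data F P) (hDω : D.ω = ω) (hDh : D.h = h) (hDt : D.t = t) (hDc : D.c = c)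
    (hφpow : ∀ i : ℤ, D.φ (ofAdd ((ω : F) ^ i)) = cj (c * h * c⁻¹)⁻¹ u i) : D.Comm := by
  subst hDω hDh hDt hDc
  have hQ := cubes_span h4
  have hφ1 : D.φ (ofAdd 1) = u := by
    have := hφpow 0
    rwa [zpow_zero, cj_zero] at this
  have c1 := c1_of_rel D u 0 (hφpow 0) r13 hφ1
  rw [zpow_zero] at c1
  have h1 := D.comm1 1 one_ne_zero c1
  have c2 : Commute (D.xr 0 1 1) (D.xr 0 2 1) := by
    have h01 : D.xr 0 1 1 = u := by rw [← hφ1]; simp [A2Data.xr]
    rw [h01, xr02_eq, hφ1]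
    exact r14
  have h2 := D.comm2 hQ c2
  refine D.comm4 (D.comm3 hQ ?_ h2)
  intro a b ha hb ⟨y, hy, hab⟩
  exact h1 a b ha hb ⟨y, hy, by rw [one_mul]; exact hab⟩

include hω in
theorem case3_P (h4 : Fintype.card F ≠ 4) (hdeg : mdeg p (ω : F) = 1) :
    ∃ rels : Finset (FreeGroup (Fin 4)), rels.card ≤ 14 ∧
      Nonempty (PresentedGroup (↑rels : Set (FreeGroup (Fin 4))) ≃*
        Matrix.SpecialLinearGroup (Fin 3) F) := by
  have := sl3_case p ω hω [] [Q13 0, Q14]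
    (by
      intro P _ u h t c _ r1 r4
      have hp : 0 < p := (Fact.out : p.Prime).pos
      refine comm_P _ u (isOfFinOrder_iff_pow_eq_one.mpr ⟨p, hp, r1⟩) ?_
      rw [hdeg] at r4
      have hc1 : mcoef p (ω : F) 1 = 1 := by
        have := (mcoef_facts p (ω : F)).1
        rwa [hdeg] at this
      have : prodA (c * h * c⁻¹)⁻¹ u (mcoef p (ω : F)) 2 =
          u ^ (mcoef p (ω : F) 0) * cj (c * h * c⁻¹)⁻¹ u 1 := by
        simp [prodA, List.range_succ, hc1]
      rw [this] at r4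
      have h1 : cj (c * h * c⁻¹)⁻¹ u 1 = (u ^ (mcoef p (ω : F) 0))⁻¹ :=
        eq_inv_of_mul_eq_one_right r4
      rw [← cj_one, h1]
      exact Subgroup.inv_mem _ (Subgroup.pow_mem _ (Subgroup.mem_zpowers u) _))
    (by intro r hr; simp at hr)
    (by
      intro P _ u h t c hc D hDω hDh hDt hDc hφpow
      exact comm_of_two ω h4 u h t c ((lift_Q13 u h t c 0).mp (hc (Q13 0) (by simp)))
        ((lift_Q14 u h t c).mp (hc Q14 (by simp))) D hDω hDh hDt hDc hφpow)
    (by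
      intro r hr
      simp only [List.mem_cons, List.not_mem_nil, or_false] at hr
      rcases hr with rfl | rfl
      · exact q13_mat ω 0
      · exact q14_mat ω)
  obtain ⟨rels, h1, h2⟩ := this
  exact ⟨rels, by simpa using h1.trans (by simp), h2⟩

include hω in
include p in
theorem case3_G (h4 : Fintype.card F ≠ 4) (K : ℤ) (hK : (ω : F) ^ K = 1 + (ω : F)) :
    ∃ rels : Finset (FreeGroup (Fin 4)), rels.card ≤ 14 ∧
      Nonempty (PresentedGroup (↑rels : Set (FreeGroup (Fin 4))) ≃*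
        Matrix.SpecialLinearGroup (Fin 3) F) := by
  have := sl3_case p ω hω [Q2, Q3 K] [Q13 0, Q14]
    (by
      intro P _ u h t c hc _ _
      exact comm_S _ u K ((lift_Q2 u h t c).mp (hc Q2 (by simp)))
        ((lift_Q3 u h t c K).mp (hc (Q3 K) (by simp))))
    (by
      intro r hr
      simp only [List.mem_cons, List.not_mem_nil, or_false] at hr
      rcases hr with rfl | rfl
      · rw [lift_Q2, cj_mat3]
        unfold Commute SemiconjBy
        rw [← xm_add, ← xm_add, add_comm]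
      · rw [lift_Q3, cj_mat3, cj_mat3, ← xm_add, hK, zpow_one, mul_one, mul_one])
    (by
      intro P _ u h t c hc D hDω hDh hDt hDc hφpow
      exact comm_of_two ω h4 u h t c ((lift_Q13 u h t c 0).mp (hc (Q13 0) (by simp)))
        ((lift_Q14 u h t c).mp (hc Q14 (by simp))) D hDω hDh hDt hDc hφpow)
    (by
      intro r hr
      simp only [List.mem_cons, List.not_mem_nil, or_false] at hr
      rcases hr with rfl | rfl
      · exact q13_mat ω 0
      · exact q14_mat ω)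
  obtain ⟨rels, h1, h2⟩ := this
  exact ⟨rels, by simpa using h1, h2⟩

end cases

section q4
variable {F : Type*} [Field F] [Fintype F] [CharP F 2] (ω : Fˣ)
  (hω : ∀ y : Fˣ, y ∈ Subgroup.zpowers ω)

include hω in
/-- Chevalley relations from the three relators `Q13 0, Q13 1, Q13 2`. -/
theorem comm_of_three {P : Type*} [Group P] (u h t c : P)
    (r13 : ∀ i : ℤ, (i = 0 ∨ i = 1 ∨ i = 2) →
      cj (c * h * c⁻¹)⁻¹ u i * (c * u * c⁻¹) * (cj (c * h * c⁻¹)⁻¹ u i)⁻¹ * (c * u * c⁻¹)⁻¹ =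
      c ^ 2 * (t * (cj (c * h * c⁻¹)⁻¹ u i)⁻¹ * t⁻¹) * (c ^ 2)⁻¹)
    (D : A2Data F P) (hDω : D.ω = ω) (hDh : D.h = h) (hDt : D.t = t) (hDc : D.c = c)
    (hφpow : ∀ i : ℤ, D.φ (ofAdd ((ω : F) ^ i)) = cj (c * h * c⁻¹)⁻¹ u i) : D.Comm := by
  subst hDω hDh hDt hDc
  have hφ1 : D.φ (ofAdd 1) = u := by
    have := hφpow 0
    rwa [zpow_zero, cj_zero] at this
  refine D.comm4 ?_
  intro a b
  by_cases ha : a = 0
  · subst ha
    rw [D.xr_zero, zero_mul, D.xr_zero]; group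
  by_cases hb : b = 0
  · subst hb
    rw [D.xr_zero, mul_zero, D.xr_zero]; group
  -- a / b = ω^m
  obtain ⟨m, hm⟩ := Subgroup.mem_zpowers_iff.mp (hω (Units.mk0 (a / b) (div_ne_zero ha hb)))
  have hm' : ((D.ω : F)) ^ m = a / b := by
    have := congrArg Units.val hm
    rwa [Units.val_zpow_eq_zpow_val, Units.val_mk0] at this
  have hi : (m % 3 = 0 ∨ m % 3 = 1 ∨ m % 3 = 2) := by omega
  have c1 := c1_of_rel D u (m % 3) (hφpow (m % 3)) (r13 (m % 3) hi) hφ1
  have hω0 : (D.ω : F) ≠ 0 := Units.ne_zero _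
  refine D.comm1 ((D.ω : F) ^ (m % 3)) (zpow_ne_zero _ hω0) c1 a b ha hb
    ⟨(D.ω : F) ^ (m / 3), zpow_ne_zero _ hω0, ?_⟩
  have hsplit : m = m % 3 + 3 * (m / 3) := by omega
  have : a = (D.ω : F) ^ m * b := by rw [hm']; field_simp
  rw [this]
  have hpw : (D.ω : F) ^ m = (D.ω : F) ^ (m % 3) * ((D.ω : F) ^ (m / 3)) ^ 3 := by
    have h1 : (D.ω : F) ^ m = (D.ω : F) ^ (m % 3 + (m / 3) * 3) := by
      congr 1; omega
    rw [h1, zpow_add₀ hω0, zpow_mul]
    norm_cast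
  rw [hpw]
  ring

include hω in
theorem case3_Q4 (K : ℤ) (hK : (ω : F) ^ K = 1 + (ω : F)) :
    ∃ rels : Finset (FreeGroup (Fin 4)), rels.card ≤ 14 ∧
      Nonempty (PresentedGroup (↑rels : Set (FreeGroup (Fin 4))) ≃*
        Matrix.SpecialLinearGroup (Fin 3) F) := by
  have := sl3_case 2 ω hω [Q3 K] [Q13 0, Q13 1, Q13 2]
    (by
      intro P _ u h t c hc r1 _
      exact comm_S2 _ u K r1 ((lift_Q3 u h t c K).mp (hc (Q3 K) (by simp))))
    (by
      intro r hr
      simp only [List.mem_cons, List.not_mem_nil, or_false] at hr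
      subst hr
      rw [lift_Q3, cj_mat3, cj_mat3, ← xm_add, hK, zpow_one, mul_one, mul_one])
    (by
      intro P _ u h t c hc D hDω hDh hDt hDc hφpow
      refine comm_of_three ω hω u h t c ?_ D hDω hDh hDt hDc hφpow
      rintro i (rfl | rfl | rfl)
      · exact (lift_Q13 u h t c 0).mp (hc (Q13 0) (by simp))
      · exact (lift_Q13 u h t c 1).mp (hc (Q13 1) (by simp))
      · exact (lift_Q13 u h t c 2).mp (hc (Q13 2) (by simp)))
    (by
      intro r hr
      simp only [List.mem_cons, List.not_mem_nil, or_false] at hr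
      rcases hr with rfl | rfl | rfl
      · exact q13_mat ω 0
      · exact q13_mat ω 1
      · exact q13_mat ω 2)
  obtain ⟨rels, h1, h2⟩ := this
  exact ⟨rels, by simpa using h1, h2⟩

end q4

/-- **S2287.** -/
theorem main {F : Type*} [Field F] [Fintype F] :
    ∃ rels : Finset (FreeGroup (Fin 4)), rels.card ≤ 14 ∧
      Nonempty (PresentedGroup (↑rels : Set (FreeGroup (Fin 4))) ≃*
        Matrix.SpecialLinearGroup (Fin 3) F) := by
  obtain ⟨p, hpc⟩ := CharP.exists F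
  have : Fact p.Prime := ⟨CharP.char_is_prime F p⟩
  obtain ⟨ω, hω⟩ := IsCyclic.exists_generator (α := Fˣ)
  have getK : 1 + (ω : F) ≠ 0 → ∃ K : ℤ, (ω : F) ^ K = 1 + (ω : F) := by
    intro hne
    obtain ⟨K, hK⟩ := Subgroup.mem_zpowers_iff.mp (hω (Units.mk0 _ hne))
    refine ⟨K, ?_⟩
    have := congrArg Units.val hK
    rwa [Units.val_zpow_eq_zpow_val, Units.val_mk0] at this
  by_cases h4 : Fintype.card F = 4
  · -- characteristic 2
    have hp2 : p = 2 := by
      have h0 : ((Fintype.card F : ℕ) : F) = 0 := Nat.cast_card_eq_zero F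
      rw [h4] at h0
      have hdvd : p ∣ 4 := (CharP.cast_eq_zero_iff F p 4).mp (by exact_mod_cast h0)
      have hp := (Fact.out : p.Prime)
      have : p ∣ 2 ^ 2 := by norm_num; exact hdvd
      exact (Nat.prime_dvd_prime_iff_eq hp Nat.prime_two).mp (hp.dvd_of_dvd_pow this)
    subst hp2
    have hne : 1 + (ω : F) ≠ 0 := by
      intro h0
      have hω1 : ω = 1 := by
        apply Units.ext
        rw [Units.val_one]
        have : (ω : F) = -1 := by linear_combination h0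
        rw [this, CharTwo.neg_eq]
      have hall : ∀ y : Fˣ, y = 1 := by
        intro y
        obtain ⟨k, hk⟩ := Subgroup.mem_zpowers_iff.mp (hω y)
        rw [← hk, hω1, one_zpow]
      classical
      have hcu : Fintype.card Fˣ = 1 := Fintype.card_eq_one_iff.mpr ⟨1, hall⟩
      rw [Fintype.card_units, h4] at hcu
      omega
    obtain ⟨K, hK⟩ := getK hne
    exact case3_Q4 ω hω K hK
  · by_cases hdeg : mdeg p (ω : F) = 1
    · exact case3_P p ω hω h4 hdeg
    · have hne : 1 + (ω : F) ≠ 0 := by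
        intro h0
        apply hdeg
        have : (ω : F) = ((-1 : ℤ) : F) := by
          rw [Int.cast_neg, Int.cast_one]
          linear_combination h0
        rw [this]
        exact mdeg_intCast p (-1)
      obtain ⟨K, hK⟩ := getK hne
      exact case3_G p ω hω h4 K hK

end Cfsg.Agent.Helper21.S2287
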