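import Cfsg.Agent.Helper21.S2287COVER

/-! # S2287: from relations to `A2Data`, and the abstract pipeline -/

namespace Cfsg.Agent.Helper21.S2287

open Multiplicative Cfsg.Agent.Helper21.S2286

theorem adjoin_gen (p : ℕ) [Fact p.Prime] {F : Type*} [Field F] [Finite F] [CharP F p] (ω : Fˣ)
    (hω : ∀ y : Fˣ, y ∈ Subgroup.zpowers ω) :
    letI := ZMod.algebra F p; Algebra.adjoin (ZMod p) {(ω : F)} = ⊤ := by
  letI := ZMod.algebra F p
  rw [eq_top_iff]
  intro a _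
  by_cases ha : a = 0
  · rw [ha]; exact zero_mem _
  · have h1 : Units.mk0 a ha ∈ Submonoid.powers ω :=
      (isOfFinOrder_of_finite ω).mem_powers_iff_mem_zpowers.mpr (hω _)
    obtain ⟨n, hn⟩ := h1
    have hk' : (ω : F) ^ n = a := by
      have := congrArg Units.val hn
      rwa [Units.val_pow_eq_pow_val, Units.val_mk0] at this
    rw [← hk']
    exact pow_mem (Algebra.subset_adjoin (Set.mem_singleton _)) n

section
variable (p : ℕ) [Fact p.Prime] {F : Type*} [Field F] [Finite F] [CharP F p] (ω : Fˣ)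
  (hω : ∀ y : Fˣ, y ∈ Subgroup.zpowers ω)

include hω in
/-- the abstract pipeline: relations in `P` ⟹ `Φ` bijective. `hcommrel` supplies the Chevalley
commutator relations for the constructed data. -/
theorem pipeline3 {P : Type*} [Group P] (u h t c : P)
    (hgen : Subgroup.closure ({u, h, t, c} : Set P) = ⊤)
    (hcomm : ∀ i j : ℤ, Commute (cj (c * h * c⁻¹)⁻¹ u i) (cj (c * h * c⁻¹)⁻¹ u j))
    (r1 : u ^ p = 1)
    (r4 : prodA (c * h * c⁻¹)⁻¹ u (mcoef p (ω : F)) (mdeg p (ω : F) + 1) = 1)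
    (r5 : h * u * h⁻¹ = cj (c * h * c⁻¹)⁻¹ u 2)
    (r6 : t * h * t⁻¹ = h⁻¹) (r7 : t * u * t⁻¹ = u⁻¹ * t * u⁻¹)
    (r8 : c * c * c = 1) (r9 : Commute h (c * h * c⁻¹))
    (r10 : h * (c * h * c⁻¹) * (c * c * h * c⁻¹ * c⁻¹) = 1)
    (r11 : t * (c * h * c⁻¹) * t⁻¹ = h * (c * h * c⁻¹))
    (r12 : t * c⁻¹ * t * c⁻¹ = 1)
    (hcommrel : ∀ D : A2Data F P, D.ω = ω → D.h = h → D.t = t → D.c = c →
      (∀ i : ℤ, D.φ (ofAdd ((ω : F) ^ i)) = cj (c * h * c⁻¹)⁻¹ u i) → D.Comm)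
    (Φ : P →* Matrix.SpecialLinearGroup (Fin 3) F) (hΦu : Φ u = xm 0 1 1) (hΦh : Φ h = hm ω)
    (hΦt : Φ t = tm) (hΦc : Φ c = cm) : Function.Bijective Φ := by
  have hadj := adjoin_gen p ω hω
  set s : P := (c * h * c⁻¹)⁻¹ with hs
  obtain ⟨φ, hφ1, hconj, hφev⟩ := exists_phi p (ω : F) hadj s u r1 hcomm r4
  have hhs : Commute h s := r9.inv_right
  have hsinv : s⁻¹ = c * h * c⁻¹ := by rw [hs, inv_inv]
  have hφneg : φ (ofAdd (-1 : F)) = u⁻¹ := by rw [ofAdd_neg, map_inv, hφ1]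
  let D : A2Data F P :=
    { ω := ω, φ := φ, h := h, t := t, c := c, hω := hω
      s_conj := by
        intro a
        have := hconj a
        rw [hsinv] at this
        exact this
      h_conj := fun a => h_act p (ω : F) hadj φ h s u hφev hφ1 hconj hhs r5 a
      hhc := r9
      c3 := r8
      hprod := r10
      th := r6
      thc := r11
      tc := r12
      w1 := by rw [hφ1, hφneg]; exact r7 }
  have hφpow : ∀ i : ℤ, φ (ofAdd ((ω : F) ^ i)) = cj s u i := by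
    intro i
    have key : ∀ (i : ℤ) (a : F), s ^ i * φ (ofAdd a) * (s ^ i)⁻¹ = φ (ofAdd ((ω : F) ^ i * a)) := by
      intro i a
      induction i using Int.induction_on generalizing a with
      | zero => simp
      | succ n ih =>
        rw [zpow_add_one, zpow_add_one₀ (Units.ne_zero ω)]
        have : s ^ (n : ℤ) * s * φ (ofAdd a) * (s ^ (n : ℤ) * s)⁻¹ =
            s ^ (n : ℤ) * (s * φ (ofAdd a) * s⁻¹) * (s ^ (n : ℤ))⁻¹ := by group
        rw [this, hconj, ih]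
        congr 2; ring
      | pred n ih =>
        rw [zpow_sub_one, zpow_sub_one₀ (Units.ne_zero ω)]
        have h1 : φ (ofAdd a) = s * φ (ofAdd ((ω : F)⁻¹ * a)) * s⁻¹ := by
          rw [hconj, ← mul_assoc, mul_inv_cancel₀ (Units.ne_zero ω), one_mul]
        have : s ^ (-(n : ℤ)) * s⁻¹ * φ (ofAdd a) * (s ^ (-(n : ℤ)) * s⁻¹)⁻¹ =
            s ^ (-(n : ℤ)) * (s⁻¹ * φ (ofAdd a) * s) * (s ^ (-(n : ℤ)))⁻¹ := by group
        rw [this]
        conv_lhs => rw [h1]
        have : s⁻¹ * (s * φ (ofAdd ((ω : F)⁻¹ * a)) * s⁻¹) * s = φ (ofAdd ((ω : F)⁻¹ * a)) := by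
          group
        rw [this, ih]
        congr 2; ring
    have := key i 1
    rw [mul_one, hφ1] at this
    rw [← this, cj]
  have hC : D.Comm := hcommrel D rfl rfl rfl rfl hφpow
  have hgen' : Subgroup.closure ({D.φ (ofAdd 1), D.h, D.t, D.c} : Set P) = ⊤ := by
    show Subgroup.closure ({φ (ofAdd 1), h, t, c} : Set P) = ⊤
    rw [hφ1]; exact hgen
  refine core3 D hC (fun g => D.cover hC hgen' g) (fun i j hi hj => D.tor_eq_one i j hi hj) Φ ?_
    hΦh hΦt hΦc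
  intro a
  obtain ⟨cc, n, rfl⟩ := ev_span p (ω : F) hadj a
  show Φ (φ (ofAdd (ev (ω : F) cc n))) = _
  rw [hφev, map_prodA, hΦu, hs, map_inv, map_mul, map_mul, map_inv, hΦh, hΦc, prodA_mat3]

end

end Cfsg.Agent.Helper21.S2287
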