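import Mathlib
import Cfsg.Agent.Helper21.S2289WORDS
import Cfsg.Agent.Helper21.S2289GOOD
import Cfsg.Agent.Helper2.HermCount
import Cfsg.Agent.Lead.S2289FETA
import Cfsg.Agent.Helper5.S2289FCOSET
import Cfsg.Agent.Helper5.S2289MODELEV
import Cfsg.Agent.Helper5.S2289UWORD
import Cfsg.Agent.Helper6.S2289ZBLOCK
import Cfsg.Agent.Helper8.S2289CENTRAL
import Cfsg.Agent.Helper29.S2289QSTAGE
import Cfsg.Agent.Helper13.S2289BN1
import Cfsg.Agent.Helper1.S2289BN2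

/-!
# S2289: the pipeline. A group `Γ` generated by `u, h, n` satisfying the relations `P.Rels` and mapping to the model
`G` (with `U3Data`) by `Φ` (generators to generators) is mapped bijectively.
-/

set_option autoImplicit false

namespace Cfsg.Agent.Helper21.S2289

open Cfsg.Agent.Helper21.S2286 Polynomial Multiplicative

namespace PIPE

section grp
variable {Γ : Type*} [Group Γ]

/-- the subgroup generated by the conjugates -/
def cl (h u : Γ) : Subgroup Γ := Subgroup.closure {g : Γ | ∃ i : ℤ, g = cj h u i}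

theorem cj_mem_cl (h u : Γ) (i : ℤ) : cj h u i ∈ cl h u :=
  Subgroup.subset_closure ⟨i, rfl⟩

theorem prodA_mem_cl (h u : Γ) (c : ℕ → ℕ) (n : ℕ) : prodA h u c n ∈ cl h u := by
  unfold prodA
  apply Subgroup.list_prod_mem
  intro x hx
  rw [List.mem_map] at hx
  obtain ⟨i, -, rfl⟩ := hx
  exact Subgroup.pow_mem _ (cj_mem_cl h u _) _

theorem conj_mem_cl (h u : Γ) {x : Γ} (hx : x ∈ cl h u) :
    h * x * h⁻¹ ∈ cl h u ∧ h⁻¹ * x * h ∈ cl h u := by
  unfold cl at hx ⊢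
  induction hx using Subgroup.closure_induction with
  | mem x hx =>
    obtain ⟨i, rfl⟩ := hx
    refine ⟨?_, ?_⟩
    · rw [conj_cj]; exact Subgroup.subset_closure ⟨_, rfl⟩
    · have : h⁻¹ * cj h u i * h = cj h u (i - 1) := by
        simp only [cj, zpow_sub, zpow_one, mul_inv_rev, inv_inv]; group
      rw [this]; exact Subgroup.subset_closure ⟨_, rfl⟩
  | one => simp [Subgroup.one_mem]
  | mul x y _ _ ihx ihy =>
    refine ⟨?_, ?_⟩
    · have : h * (x * y) * h⁻¹ = (h * x * h⁻¹) * (h * y * h⁻¹) := by group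
      rw [this]; exact Subgroup.mul_mem _ ihx.1 ihy.1
    · have : h⁻¹ * (x * y) * h = (h⁻¹ * x * h) * (h⁻¹ * y * h) := by group
      rw [this]; exact Subgroup.mul_mem _ ihx.2 ihy.2
  | inv x _ ihx =>
    refine ⟨?_, ?_⟩
    · have : h * x⁻¹ * h⁻¹ = (h * x * h⁻¹)⁻¹ := by group
      rw [this]; exact Subgroup.inv_mem _ ihx.1
    · have : h⁻¹ * x⁻¹ * h = (h⁻¹ * x * h)⁻¹ := by group
      rw [this]; exact Subgroup.inv_mem _ ihx.2

/-- the conjugates of the commutator are commutators of conjugates -/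
theorem cj_zW (h u : Γ) (i : ℤ) :
    cj h (zW h u) i = cj h u i * cj h u (i + 1) * (cj h u i)⁻¹ * (cj h u (i + 1))⁻¹ := by
  simp only [cj, zW, zpow_add, zpow_one, mul_inv_rev]
  group

theorem clz_le (h u : Γ) : cl h (zW h u) ≤ cl h u := by
  unfold cl
  rw [Subgroup.closure_le]
  rintro _ ⟨i, rfl⟩
  rw [cj_zW]
  exact Subgroup.mul_mem _ (Subgroup.mul_mem _ (Subgroup.mul_mem _ (cj_mem_cl h u _)
    (cj_mem_cl h u _)) (Subgroup.inv_mem _ (cj_mem_cl h u _))) (Subgroup.inv_mem _ (cj_mem_cl h u _))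

theorem UW_mem (h u : Γ) (c : ℕ → ℕ) (n : ℕ) (c' : ℕ → ℕ) (n' : ℕ) : UW h u c n c' n' ∈ cl h u :=
  Subgroup.mul_mem _ (prodA_mem_cl h u c n) (clz_le h u (prodA_mem_cl h (zW h u) c' n'))

theorem UCw_mem (w : UC) (h u : Γ) : w.w h u ∈ cl h u := UW_mem h u _ _ _ _

end grp

/-- the relations as a conjunction -/
theorem rels_iff {Γ : Type*} [Group Γ] (P : Params) (u h n : Γ) :
    P.Rels u h n ↔
      (zW h u ^ P.p = 1 ∧
      zW h u * cj h (zW h u) 1 = cj h (zW h u) 1 * zW h u ∧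
      cj h (zW h u) (P.kη : ℤ) = zW h u * cj h (zW h u) 1 ∧
      prodA h (zW h u) P.mcη (P.dη + 1) = 1 ∧
      h ^ (P.q ^ 2 - 1) = 1 ∧
      n * n = 1 ∧
      n * h * n⁻¹ = (h ^ P.q)⁻¹ ∧
      cj h u 0 * zW h u = zW h u * cj h u 0 ∧
      cj h u 1 * zW h u = zW h u * cj h u 1 ∧
      cj h u 2 * zW h u = zW h u * cj h u 2 ∧
      cj h u 3 = prodA (h ^ (P.q - 1)) (cj h u 0) P.e₀ P.n₀ *
        prodA (h ^ (P.q - 1)) (cj h u 1) P.e₁ P.n₁ *
        prodA (h ^ (P.q - 1)) (cj h u 2) P.e₂ P.n₂ * prodA h (zW h u) P.zc4 P.zn4 ∧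
      u ^ P.p = prodA h (zW h u) P.zc1 P.zn1 ∧
      prodA h u P.mcμ (P.dμ + 1) = prodA h (zW h u) P.zc3 P.zn3 ∧
      (P.wz.eq u h n).1 = (P.wz.eq u h n).2 ∧ (P.w0.eq u h n).1 = (P.w0.eq u h n).2 ∧
      (P.w1.eq u h n).1 = (P.w1.eq u h n).2 ∧ (P.w2.eq u h n).1 = (P.w2.eq u h n).2) ∧
      ∀ e ∈ P.eqsB u h, e.1 = e.2 := by
  unfold Params.Rels Params.eqs
  simp only [List.forall_mem_append, List.forall_mem_cons, List.not_mem_nil, false_imp_iff,
    implies_true, and_true, and_assoc]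

end PIPE

section pipe
variable {F : Type*} [Field F] [Fintype F] {q : ℕ} {G : Type*} [Group G] [Finite G] (D : U3Data F q G)

open PIPE

theorem pipe (p : ℕ) [Fact p.Prime] [CharP F p] (hF : Fintype.card F = q ^ 2) (h2 : q ≠ 2)
    (h3 : q ≠ 3) (ζ : Fˣ) (hζ : ∀ y : Fˣ, y ∈ Subgroup.zpowers ζ)
    (β₀ : F) (hβ : β₀ + β₀ ^ q = -1)
    (hgen : ∀ y : F, y ^ (q + 1) = 1 → ∃ m : ℕ, y = (-β₀ / β₀ ^ q) ^ m)
    (P : Params) (hPp : P.p = p) (hPq : P.q = q)
    (hmcη : P.mcη = mcoef p ((ζ : F) ^ (q + 1))) (hdη : P.dη = mdeg p ((ζ : F) ^ (q + 1)))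
    (hmcμ : P.mcμ = mcoef p ((ζ : F) ^ 2 / (ζ : F) ^ q))
    (hdμ : P.dμ = mdeg p ((ζ : F) ^ 2 / (ζ : F) ^ q))
    (hns : P.ns = true → ¬ 3 ∣ P.kμ)
    (hXz : ∃ v : F, v ≠ 0 ∧ v + v ^ q = 0 ∧ P.wz.X.w (D.hG (ζ : F)) (D.uG 1 β₀) = D.uG 0 v)
    (hX0 : P.w0.X.w (D.hG (ζ : F)) (D.uG 1 β₀) = D.uG ((ζ : F) ^ 0) (β₀ * ((ζ : F) ^ 0) ^ (q + 1)))
    (hX1 : P.w1.X.w (D.hG (ζ : F)) (D.uG 1 β₀) = D.uG ((ζ : F) ^ 1) (β₀ * ((ζ : F) ^ 1) ^ (q + 1)))
    (hX2 : P.w2.X.w (D.hG (ζ : F)) (D.uG 1 β₀) = D.uG ((ζ : F) ^ 2) (β₀ * ((ζ : F) ^ 2) ^ (q + 1)))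
    {Γ : Type} [Group Γ] (u h n : Γ) (hgenΓ : Subgroup.closure ({u, h, n} : Set Γ) = ⊤)
    (hR : P.Rels u h n) (Φ : Γ →* G) (hΦu : Φ u = D.uG 1 β₀) (hΦh : Φ h = D.hG (ζ : F))
    (hΦn : Φ n = D.nG) : Function.Bijective Φ := by
  classical
  have hq2 : 2 ≤ q := Cfsg.Agent.Helper2.Herm.two_le_q hF
  obtain ⟨⟨r1, r2, r3, r4, rH, rN1, rN2, rc0, rc1, rc2, rc3, ru1, ru3, rwz, rw0, rw1, rw2⟩, rB⟩ :=
    (rels_iff P u h n).1 hR
  rw [hPp] at r1 ru1
  rw [hPq] at rH rN2 rc3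
  rw [hmcη, hdη] at r4
  rw [hmcμ, hdμ] at ru3
  obtain ⟨hηq, hη1, -, -⟩ := eta_facts hF h2 h3 ζ hζ
  have hN : 0 < q ^ 2 - 1 := by
    have : 4 ≤ q ^ 2 := by nlinarith
    omega
  -- the centre block
  obtain ⟨Zab, Zfin, Zcard, Zc, Zprod⟩ := zblock p hF ((ζ : F) ^ (q + 1)) hηq hη1 P.kη h (zW h u)
    (q ^ 2 - 1) hN rH r1 r2 r3 r4
  have hzmem : zW h u ∈ cl h (zW h u) := by
    have := cj_mem_cl h (zW h u) 0
    rwa [cj_zero] at this
  -- centrality
  have hZc : ∀ i : ℤ, ∀ x ∈ cl h (zW h u), Commute (cj h u i) x := by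
    refine central_of h u (q ^ 2 - 1) hN rH (q - 1) (zW h u) (cl h (zW h u)) rfl Zab Zc 3 ?_ ?_
    · intro l hl
      interval_cases l
      · exact rc0
      · exact rc1
      · exact rc2
    · rw [show ((3 : ℕ) : ℤ) = 3 from rfl, rc3]
      have hsub : ∀ l : ℕ, l < 3 → ∀ (e : ℕ → ℕ) (m : ℕ),
          prodA (h ^ (q - 1)) (cj h u l) e m ∈ Subgroup.closure
            ({g : Γ | ∃ (l : ℕ) (i : ℤ), l < 3 ∧ g = cj (h ^ (q - 1)) (cj h u l) i} ∪
              (cl h (zW h u) : Set Γ)) := by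
        intro l hl e m
        have h1 := prodA_mem_cl (h ^ (q - 1)) (cj h u l) e m
        refine (Subgroup.closure_mono ?_) h1
        rintro _ ⟨i, rfl⟩
        exact Or.inl ⟨l, i, hl, rfl⟩
      refine Subgroup.mul_mem _ (Subgroup.mul_mem _ (Subgroup.mul_mem _ ?_ ?_) ?_) ?_
      · exact hsub 0 (by norm_num) _ _
      · exact hsub 1 (by norm_num) _ _
      · exact hsub 2 (by norm_num) _ _
      · exact Subgroup.subset_closure (Or.inr (Zprod _ _))
  -- the lift of `U`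
  have hle : cl h (zW h u) ≤ cl h u := clz_le h u
  haveI : Finite (cl h (zW h u)) := Zfin
  obtain ⟨Ufin, Ucard⟩ := card_U_le p ((ζ : F) ^ 2 / (ζ : F) ^ q) h u (q ^ 2 - 1) hN rH
    (cl h (zW h u)) (fun x hx => (conj_mem_cl h (zW h u) hx).1) hZc
    (by rw [ru1]; exact Zprod _ _) hzmem
    (by
      unfold Params.eqsB at rB
      by_cases hnsb : P.ns = true
      · rw [if_pos hnsb] at rB
        right
        refine ⟨P.kμ, hns hnsb, ?_, ?_, ?_⟩
        · have := rB _ (List.mem_cons_self)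
          simp only at this
          rw [this]; exact Zprod _ _
        · have := rB _ (List.mem_cons_of_mem _ List.mem_cons_self)
          simp only at this
          rw [this]; exact Zprod _ _
        · have := rB _ (List.mem_cons_of_mem _ (List.mem_cons_of_mem _ List.mem_cons_self))
          simp only at this
          rw [this]
          have e : ∀ (E W : Γ), (E * W)⁻¹ * E = W⁻¹ := fun E W => by group
          rw [e]
          exact Subgroup.inv_mem _ (Zprod _ _)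
      · rw [if_neg hnsb] at rB
        left
        refine ⟨P.kμ, ?_⟩
        have := rB _ List.mem_cons_self
        simp only at this
        rw [this]
        have e : ∀ (E W : Γ), (E * W)⁻¹ * E = W⁻¹ := fun E W => by group
        rw [e]
        exact Subgroup.inv_mem _ (Zprod _ _))
    (by rw [ru3]; exact Zprod _ _)
  have hsup : (Subgroup.closure {g : Γ | ∃ i : ℤ, g = cj h u i} ⊔ cl h (zW h u) : Subgroup Γ) =
      cl h u := sup_eq_left.2 hle
  rw [hsup] at Ufin Ucard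
  haveI : Finite (cl h u) := Ufin
  have hUcard : Nat.card (cl h u) ≤ q ^ 3 := by
    refine Ucard.trans ?_
    rw [hF]
    calc Nat.card (cl h (zW h u)) * q ^ 2 ≤ q * q ^ 2 := Nat.mul_le_mul_right _ Zcard
      _ = q ^ 3 := by ring
  have hv0 : Val q (1 : F) β₀ := by
    unfold Val
    rw [one_pow, hβ]; ring
  have hu : u ∈ cl h u := by
    have := cj_mem_cl h u 0
    rwa [cj_zero] at this
  -- images
  have hΦU : ∀ x ∈ cl h u, ∃ a b : F, Val q a b ∧ Φ x = D.uG a b := by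
    intro x hx
    unfold cl at hx
    induction hx using Subgroup.closure_induction with
    | mem x hx =>
      obtain ⟨i, rfl⟩ := hx
      obtain ⟨e1, e2⟩ := cj_hu D hF ζ i hv0
      exact ⟨_, _, e2, by rw [map_cj, hΦh, hΦu, e1]⟩
    | one =>
      refine ⟨0, 0, ?_, by rw [map_one, D.u_zero]⟩
      unfold Val
      have : (0 : F) ^ q = 0 := zero_pow (by omega)
      rw [this, zero_pow (by omega)]; ring
    | mul x y _ _ ihx ihy =>
      obtain ⟨a, b, hv, e⟩ := ihx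
      obtain ⟨a', b', hv', e'⟩ := ihy
      exact ⟨_, _, val_mul hF hv hv', by rw [map_mul, e, e', D.u_mul a b a' b' hv hv']⟩
    | inv x _ ihx =>
      obtain ⟨a, b, hv, e⟩ := ihx
      obtain ⟨e1, e2⟩ := uG_inv D hF hv
      exact ⟨_, _, e2, by rw [map_inv, e, e1]⟩
  have hUΦ : ∀ a b : F, Val q a b → ∃ x ∈ cl h u, Φ x = D.uG a b := by
    intro a b hv
    obtain ⟨c, m, c', m', e⟩ := uword D p hF h2 h3 ζ hζ hv0 one_ne_zero hv
    refine ⟨UW h u c m c' m', UW_mem h u _ _ _ _, ?_⟩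
    rw [map_UW, hΦh, hΦu]
    exact e
  -- seeds
  have hgoodW : ∀ w : WP, (w.eq u h n).1 = (w.eq u h n).2 → Good h n (cl h u) (w.X.w h u) := by
    intro w hw
    right
    refine ⟨w.Fw.w h u, UCw_mem _ h u, (w.m : ℤ), w.Gw.w h u, UCw_mem _ h u, ?_⟩
    rw [zpow_natCast]
    exact hw
  have hgood : ∀ x ∈ cl h u, Good h n (cl h u) x := by
    refine all_good D hF ζ hζ β₀ hβ hgen h n Φ hΦh hΦn (cl h u) hUcard
      (fun x hx => (conj_mem_cl h u hx).1) (fun x hx => (conj_mem_cl h u hx).2) hΦU hUΦ rN1 rN2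
      ?_ ?_ ?_
    · obtain ⟨v, hv0', hvi, hXv⟩ := hXz
      refine ⟨v, hv0', hvi, P.wz.X.w h u, UCw_mem _ h u, ?_, hgoodW _ rwz⟩
      rw [UC.map_w, hΦh, hΦu, hXv]
    · intro i hi
      interval_cases i
      · exact ⟨P.w0.X.w h u, UCw_mem _ h u, by rw [UC.map_w, hΦh, hΦu, hX0], hgoodW _ rw0⟩
      · exact ⟨P.w1.X.w h u, UCw_mem _ h u, by rw [UC.map_w, hΦh, hΦu, hX1], hgoodW _ rw1⟩
      · exact ⟨P.w2.X.w h u, UCw_mem _ h u, by rw [UC.map_w, hΦh, hΦu, hX2], hgoodW _ rw2⟩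
    · intro a ha
      exact coset_cover hF h2 ζ hζ 1 a one_ne_zero ha
  exact bn_bijective D hF ζ hζ u h n hgenΓ Φ hΦh hΦn (cl h u) hUcard hu
    (fun x hx => (conj_mem_cl h u hx).1) (fun x hx => (conj_mem_cl h u hx).2) hUΦ rH rN1 rN2 hgood

end pipe

end Cfsg.Agent.Helper21.S2289
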