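import Mathlib
import Cfsg.Agent.Helper21.S2289WORDS
import Cfsg.Agent.Helper21.S2289PIPE
import Cfsg.Agent.Lead.S2293QUOT
import Cfsg.Agent.Lead.S2289FBETA
import Cfsg.Agent.Helper6.S2289FDICH
import Cfsg.Agent.Helper8.S2289MODELSU
import Cfsg.Agent.Lead.S2289PSUCEN
import Cfsg.Agent.Helper23.S2289RELT
import Cfsg.Agent.Helper23.S2289RELC
import Cfsg.Agent.Helper5.S2289RELR1
import Cfsg.Agent.Helper26.S2289RELZ
import Cfsg.Agent.Helper19.S2289RELU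
import Cfsg.Agent.Helper5.S2289RELBS
import Cfsg.Agent.Helper5.S2289RELBNS
import Cfsg.Agent.Helper26.S2289RELCP

/-!
# S2289: the relations hold in the model; the final assembly
-/

set_option autoImplicit false

namespace Cfsg.Agent.Helper21.S2289

open Cfsg.Agent.Helper21.S2286 Polynomial Multiplicative

/-! ## the relations hold in the model -/
section relmodel
variable {F : Type*} [Field F] [Fintype F] {q : ℕ} {G : Type*} [Group G]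

namespace FIN

theorem val_seed (hF : Fintype.card F = q ^ 2) (β₀ : F) (hβ : β₀ + β₀ ^ q = -1) (a : F) :
    Val q a (β₀ * a ^ (q + 1)) := by
  have hN : (a ^ (q + 1)) ^ q = a ^ (q + 1) := MODELEV.norm_pow_q hF a
  unfold Val
  rw [mul_pow, hN]
  linear_combination (a ^ (q + 1)) * hβ

theorem beta_ne_zero (hF : Fintype.card F = q ^ 2) (β₀ : F) (hβ : β₀ + β₀ ^ q = -1) : β₀ ≠ 0 := by
  have hq : 2 ≤ q := Cfsg.Agent.Helper2.Herm.two_le_q hF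
  rintro rfl
  rw [zero_pow (by omega), add_zero] at hβ
  have : (1 : F) = 0 := by linear_combination hβ
  exact one_ne_zero this

end FIN

theorem exists_params (p : ℕ) [Fact p.Prime] [CharP F p] (hF : Fintype.card F = q ^ 2) (h2 : q ≠ 2)
    (h3 : q ≠ 3) (D : U3Data F q G) (ζ : Fˣ) (hζ : ∀ y : Fˣ, y ∈ Subgroup.zpowers ζ)
    (β₀ : F) (hβ : β₀ + β₀ ^ q = -1) :
    ∃ P : Params, P.p = p ∧ P.q = q ∧
      P.mcη = mcoef p ((ζ : F) ^ (q + 1)) ∧ P.dη = mdeg p ((ζ : F) ^ (q + 1)) ∧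
      P.mcμ = mcoef p ((ζ : F) ^ 2 / (ζ : F) ^ q) ∧ P.dμ = mdeg p ((ζ : F) ^ 2 / (ζ : F) ^ q) ∧
      (P.ns = true → ¬ 3 ∣ P.kμ) ∧
      (∃ v : F, v ≠ 0 ∧ v + v ^ q = 0 ∧ P.wz.X.w (D.hG (ζ : F)) (D.uG 1 β₀) = D.uG 0 v) ∧
      P.w0.X.w (D.hG (ζ : F)) (D.uG 1 β₀) = D.uG ((ζ : F) ^ 0) (β₀ * ((ζ : F) ^ 0) ^ (q + 1)) ∧
      P.w1.X.w (D.hG (ζ : F)) (D.uG 1 β₀) = D.uG ((ζ : F) ^ 1) (β₀ * ((ζ : F) ^ 1) ^ (q + 1)) ∧
      P.w2.X.w (D.hG (ζ : F)) (D.uG 1 β₀) = D.uG ((ζ : F) ^ 2) (β₀ * ((ζ : F) ^ 2) ^ (q + 1)) ∧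
      P.Rels (D.uG 1 β₀) (D.hG (ζ : F)) D.nG := by
  classical
  obtain ⟨⟨v, hv0, hvq, hzv⟩, rz1, rz2, ⟨kη, rz3⟩, rz4⟩ := rel_z D p hF h2 h3 ζ hζ β₀ hβ
  obtain ⟨rH, rN1, rN2⟩ := rel_t D hF ζ
  have rc0 := rel_c D hF ζ β₀ hβ 0
  have rc1 := rel_c D hF ζ β₀ hβ 1
  have rc2 := rel_c D hF ζ β₀ hβ 2
  obtain ⟨e₀, n₀, e₁, n₁, e₂, n₂, zc4, zn4, rcp⟩ := rel_cp D p hF h2 h3 ζ hζ β₀ hβ
  obtain ⟨⟨zc1, zn1, ru1⟩, ⟨zc3, zn3, ru3⟩⟩ := rel_u D p hF h2 h3 ζ hζ β₀ hβ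
  have hβ0 := FIN.beta_ne_zero hF β₀ hβ
  have hζ0 : (ζ : F) ≠ 0 := ζ.ne_zero
  obtain ⟨wz, hwzX, hwz⟩ := rel_rank1 D p hF h2 h3 ζ hζ β₀ hβ ((val_zero_iff hF v).2 hvq) hv0
  have hseed : ∀ i : ℕ, ∃ w : WP, w.X.w (D.hG (ζ : F)) (D.uG 1 β₀) =
      D.uG ((ζ : F) ^ i) (β₀ * ((ζ : F) ^ i) ^ (q + 1)) ∧
      (w.eq (D.uG 1 β₀) (D.hG (ζ : F)) D.nG).1 = (w.eq (D.uG 1 β₀) (D.hG (ζ : F)) D.nG).2 := by
    intro i
    exact rel_rank1 D p hF h2 h3 ζ hζ β₀ hβ (FIN.val_seed hF β₀ hβ _)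
      (mul_ne_zero hβ0 (pow_ne_zero _ (pow_ne_zero _ hζ0)))
  obtain ⟨w0, hw0X, hw0⟩ := hseed 0
  obtain ⟨w1, hw1X, hw1⟩ := hseed 1
  obtain ⟨w2, hw2X, hw2⟩ := hseed 2
  rcases mu_dichotomy hF h2 h3 ζ hζ with ⟨k, hk⟩ | ⟨j, hj3, hj⟩
  · obtain ⟨zc2, zn2, rb⟩ := rel_bs D p hF h2 h3 ζ hζ β₀ hβ k hk
    refine ⟨{
      p := p, q := q, kη := kη, mcη := mcoef p ((ζ : F) ^ (q + 1)),
      dη := mdeg p ((ζ : F) ^ (q + 1)), e₀ := e₀, n₀ := n₀, e₁ := e₁, n₁ := n₁, e₂ := e₂, n₂ := n₂,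
      zc4 := zc4, zn4 := zn4, zc1 := zc1, zn1 := zn1, mcμ := mcoef p ((ζ : F) ^ 2 / (ζ : F) ^ q),
      dμ := mdeg p ((ζ : F) ^ 2 / (ζ : F) ^ q), zc3 := zc3, zn3 := zn3, wz := wz, w0 := w0, w1 := w1,
      w2 := w2, ns := false, kμ := k, zc2 := zc2, zn2 := zn2, zc2b := fun _ => 0, zn2b := 0,
      zc2c := fun _ => 0, zn2c := 0 }, rfl, rfl, rfl, rfl, rfl, rfl, ?_, ⟨v, hv0, hvq, hwzX⟩, hw0X, hw1X,
      hw2X, ?_⟩
    · intro h; exact absurd h (by simp)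
    · rw [PIPE.rels_iff]
      refine ⟨⟨rz1, rz2, rz3, rz4, rH, rN1, rN2, ?_, rc1, rc2, rcp, ru1, ru3, hwz, hw0, hw1, hw2⟩, ?_⟩
      · exact rc0
      · intro e he
        simp only [Params.eqsB, Bool.false_eq_true, if_false, List.mem_singleton] at he
        subst he
        exact rb
  · obtain ⟨zc2, zn2, zc2b, zn2b, zc2c, zn2c, rb1, rb2, rb3⟩ :=
      rel_bns D p hF h2 h3 ζ hζ β₀ hβ j hj
    refine ⟨{
      p := p, q := q, kη := kη, mcη := mcoef p ((ζ : F) ^ (q + 1)),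
      dη := mdeg p ((ζ : F) ^ (q + 1)), e₀ := e₀, n₀ := n₀, e₁ := e₁, n₁ := n₁, e₂ := e₂, n₂ := n₂,
      zc4 := zc4, zn4 := zn4, zc1 := zc1, zn1 := zn1, mcμ := mcoef p ((ζ : F) ^ 2 / (ζ : F) ^ q),
      dμ := mdeg p ((ζ : F) ^ 2 / (ζ : F) ^ q), zc3 := zc3, zn3 := zn3, wz := wz, w0 := w0, w1 := w1,
      w2 := w2, ns := true, kμ := j, zc2 := zc2, zn2 := zn2, zc2b := zc2b, zn2b := zn2b,
      zc2c := zc2c, zn2c := zn2c }, rfl, rfl, rfl, rfl, rfl, rfl, ?_, ⟨v, hv0, hvq, hwzX⟩, hw0X, hw1X,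
      hw2X, ?_⟩
    · intro _; exact hj3
    · rw [PIPE.rels_iff]
      refine ⟨⟨rz1, rz2, rz3, rz4, rH, rN1, rN2, ?_, rc1, rc2, rcp, ru1, ru3, hwz, hw0, hw1, hw2⟩, ?_⟩
      · exact rc0
      · intro e he
        simp only [Params.eqsB, if_true, List.mem_cons, List.not_mem_nil, or_false] at he
        rcases he with rfl | rfl | rfl
        · exact rb1
        · exact rb2
        · exact rb3

end relmodel

/-! ## the wrapper for three generators, returning the isomorphism on words -/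
theorem wrap3 (L : List (FreeGroup (Fin 3))) {H : Type*} [Group H] (f : Fin 3 → H)
    (hf : ∀ r ∈ L, FreeGroup.lift f r = 1)
    (hpipe : ∀ {P : Type} [Group P] (u h t : P), Subgroup.closure ({u, h, t} : Set P) = ⊤ →
      (∀ r ∈ L, FreeGroup.lift ![u, h, t] r = 1) → ∀ Φ : P →* H, Φ u = f 0 → Φ h = f 1 →
        Φ t = f 2 → Function.Bijective Φ) :
    ∃ rels : Finset (FreeGroup (Fin 3)), rels.card ≤ L.length ∧
      ∃ e : PresentedGroup (↑rels : Set (FreeGroup (Fin 3))) ≃* H,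
        ∀ w : FreeGroup (Fin 3), e (PresentedGroup.mk _ w) = FreeGroup.lift f w := by
  classical
  refine ⟨L.toFinset, List.toFinset_card_le L, ?_⟩
  have hf' : ∀ r ∈ (↑L.toFinset : Set (FreeGroup (Fin 3))), FreeGroup.lift f r = 1 := by
    intro r hr
    exact hf r (by simpa using hr)
  have hb := hpipe (P := PresentedGroup (↑L.toFinset : Set (FreeGroup (Fin 3))))
    (PresentedGroup.of 0) (PresentedGroup.of 1) (PresentedGroup.of 2) (closure_three _)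
    (by
      intro r hr
      rw [lift_vec_eq_mk]
      exact PresentedGroup.one_of_mem (by simpa using hr))
    (PresentedGroup.toGroup hf') (PresentedGroup.toGroup.of hf') (PresentedGroup.toGroup.of hf')
    (PresentedGroup.toGroup.of hf')
  refine ⟨MulEquiv.ofBijective _ hb, ?_⟩
  intro w
  rfl

/-- **S2289.** -/
theorem main {F : Type*} [Field F] [Fintype F] (q : ℕ) (hF : Fintype.card F = q ^ 2) (h2 : q ≠ 2)
    (h3 : q ≠ 3) (h5 : q ≠ 5) :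
    (∃ rels : Finset (FreeGroup (Fin 3)), rels.card ≤ 23 ∧
      Nonempty (PresentedGroup (↑rels : Set (FreeGroup (Fin 3))) ≃* ↥(Cfsg.SU 3 F q))) ∧
    (∃ rels : Finset (FreeGroup (Fin 3)), rels.card ≤ 24 ∧
      Nonempty (PresentedGroup (↑rels : Set (FreeGroup (Fin 3))) ≃* Cfsg.PSU 3 F q)) := by
  classical
  obtain ⟨p, hpc⟩ := CharP.exists F
  haveI : Fact p.Prime := ⟨CharP.char_is_prime F p⟩
  obtain ⟨D⟩ := exists_suData (F := F) hF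
  obtain ⟨ζ, hζ⟩ := IsCyclic.exists_generator (α := Fˣ)
  obtain ⟨β₀, hβ, hgen⟩ := exists_beta (F := F) hF
  obtain ⟨P, hPp, hPq, hmcη, hdη, hmcμ, hdμ, hns, hXz, hX0, hX1, hX2, hRel⟩ :=
    exists_params p hF h2 h3 D ζ hζ β₀ hβ
  obtain ⟨rels, hcard, e, he⟩ := wrap3 P.rels ![D.uG 1 β₀, D.hG (ζ : F), D.nG]
    ((P.lift_rels _ _ _).2 hRel)
    (by
      intro Γ _ u h t hgenΓ hL Φ hΦu hΦh hΦt
      exact pipe D p hF h2 h3 ζ hζ β₀ hβ hgen P hPp hPq hmcη hdη hmcμ hdμ hns hXz hX0 hX1 hX2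
        u h t hgenΓ ((P.lift_rels u h t).1 hL) Φ hΦu hΦh hΦt)
  have hlen := P.length_rels
  refine ⟨⟨rels, by omega, ⟨e⟩⟩, ?_⟩
  -- PSU
  set m : ℕ := (q ^ 2 - 1) / Nat.gcd 3 (q + 1) with hm
  have hN : Subgroup.center (Cfsg.SU 3 F q) =
      Subgroup.normalClosure {e (PresentedGroup.mk _ (gH ^ m))} := by
    rw [he, map_pow, lift_gH]
    refine psu_center hF h2 D ζ hζ β₀ hβ ?_
    rw [eq_top_iff]
    intro g _
    obtain ⟨x, rfl⟩ := e.surjective g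
    obtain ⟨w, rfl⟩ := QuotientGroup.mk_surjective x
    have h1 : e (PresentedGroup.mk _ w) = FreeGroup.lift ![D.uG 1 β₀, D.hG (ζ : F), D.nG] w := he w
    have h2' : FreeGroup.lift ![D.uG 1 β₀, D.hG (ζ : F), D.nG] w ∈
        (FreeGroup.lift ![D.uG 1 β₀, D.hG (ζ : F), D.nG]).range := ⟨w, rfl⟩
    rw [FreeGroup.range_lift_eq_closure] at h2'
    have h3' : e ((QuotientGroup.mk w : PresentedGroup (↑rels : Set (FreeGroup (Fin 3))))) =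
        FreeGroup.lift ![D.uG 1 β₀, D.hG (ζ : F), D.nG] w := h1
    rw [h3']
    refine Subgroup.closure_mono ?_ h2'
    rintro _ ⟨i, rfl⟩
    fin_cases i <;> simp
  obtain ⟨e'⟩ := Cfsg.Agent.Helper21.S2293.presented_quot (↑rels : Set (FreeGroup (Fin 3))) e (gH ^ m)
    (Subgroup.center (Cfsg.SU 3 F q)) hN
  refine ⟨insert (gH ^ m) rels, ?_, ⟨?_⟩⟩
  · have := Finset.card_insert_le (gH ^ m) rels
    omega
  · have hco : (↑(insert (gH ^ m) rels) : Set (FreeGroup (Fin 3))) =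
        (↑rels : Set (FreeGroup (Fin 3))) ∪ {gH ^ m} := by
      rw [Finset.coe_insert, Set.union_singleton]
    rw [hco]
    exact e'

end Cfsg.Agent.Helper21.S2289
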