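import Cfsg.Agent.Helper21.S2293FRONT

/-! # S2293: relator lists -/

namespace Cfsg.Agent.Helper21.S2293

open Multiplicative Cfsg.Agent.Helper21.S2286

/-! ## generic wrapper for six generators -/

theorem lift_vec6_eq_mk (rels : Set (FreeGroup (Fin 6))) :
    FreeGroup.lift ![(PresentedGroup.of 0 : PresentedGroup rels), PresentedGroup.of 1,
      PresentedGroup.of 2, PresentedGroup.of 3, PresentedGroup.of 4, PresentedGroup.of 5] =
      PresentedGroup.mk rels := by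
  ext i
  fin_cases i <;> rfl

theorem closure_six (rels : Set (FreeGroup (Fin 6))) :
    Subgroup.closure ({(PresentedGroup.of 0 : PresentedGroup rels), PresentedGroup.of 1,
      PresentedGroup.of 2, PresentedGroup.of 3, PresentedGroup.of 4, PresentedGroup.of 5} :
      Set (PresentedGroup rels)) = ⊤ := by
  rw [← PresentedGroup.closure_range_of rels]
  congr 1
  ext g
  simp only [Set.mem_insert_iff, Set.mem_singleton_iff, Set.mem_range]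
  constructor
  · rintro (rfl | rfl | rfl | rfl | rfl | rfl)
    exacts [⟨0, rfl⟩, ⟨1, rfl⟩, ⟨2, rfl⟩, ⟨3, rfl⟩, ⟨4, rfl⟩, ⟨5, rfl⟩]
  · rintro ⟨i, rfl⟩
    fin_cases i
    · left; rfl
    · right; left; rfl
    · right; right; left; rfl
    · right; right; right; left; rfl
    · right; right; right; right; left; rfl
    · right; right; right; right; right; rfl

/-- the wrapper: a list of relators that hold in `H` and force bijectivity gives a presentation;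
the isomorphism sends the generators to the prescribed elements. -/
theorem wrap6 (L : List (FreeGroup (Fin 6))) {H : Type*} [Group H] (f : Fin 6 → H)
    (hf : ∀ r ∈ L, FreeGroup.lift f r = 1)
    (hpipe : ∀ {P : Type} [Group P] (ua ub h1 h2 na nb : P),
      Subgroup.closure ({ua, ub, h1, h2, na, nb} : Set P) = ⊤ →
      (∀ r ∈ L, FreeGroup.lift ![ua, ub, h1, h2, na, nb] r = 1) → ∀ Φ : P →* H, Φ ua = f 0 →
        Φ ub = f 1 → Φ h1 = f 2 → Φ h2 = f 3 → Φ na = f 4 → Φ nb = f 5 →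
        Function.Bijective Φ) :
    ∃ rels : Finset (FreeGroup (Fin 6)), rels.card ≤ L.length ∧ (↑rels : Set _) = {r | r ∈ L} ∧
      ∃ e : PresentedGroup (↑rels : Set (FreeGroup (Fin 6))) ≃* H,
        ∀ w : FreeGroup (Fin 6), e (PresentedGroup.mk _ w) = FreeGroup.lift f w := by
  classical
  refine ⟨L.toFinset, List.toFinset_card_le L, by ext r; simp, ?_⟩
  have hf' : ∀ r ∈ (↑L.toFinset : Set (FreeGroup (Fin 6))), FreeGroup.lift f r = 1 := by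
    intro r hr
    exact hf r (by simpa using hr)
  have hb := hpipe (P := PresentedGroup (↑L.toFinset : Set (FreeGroup (Fin 6))))
    (PresentedGroup.of 0) (PresentedGroup.of 1) (PresentedGroup.of 2) (PresentedGroup.of 3)
    (PresentedGroup.of 4) (PresentedGroup.of 5)
    (closure_six _)
    (by
      intro r hr
      rw [lift_vec6_eq_mk]
      exact PresentedGroup.one_of_mem (by simpa using hr))
    (PresentedGroup.toGroup hf') (PresentedGroup.toGroup.of hf') (PresentedGroup.toGroup.of hf')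
    (PresentedGroup.toGroup.of hf') (PresentedGroup.toGroup.of hf') (PresentedGroup.toGroup.of hf')
    (PresentedGroup.toGroup.of hf')
  refine ⟨MulEquiv.ofBijective _ hb, ?_⟩
  intro w
  rfl

/-! ## relators -/

/-- the word for `c = na nb`. -/
def gC : FreeGroup (Fin 6) := gNa * gNb

def T1 : FreeGroup (Fin 6) := gH1 * gH2 * (gH2 * gH1)⁻¹
def T2 : FreeGroup (Fin 6) := gNa * gH1 * gNa⁻¹ * gH2⁻¹
def T3 : FreeGroup (Fin 6) := gNa * gH2 * gNa⁻¹ * gH1⁻¹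
def T4 : FreeGroup (Fin 6) := gNb * gH1 * gNb⁻¹ * gH1⁻¹
def T5 : FreeGroup (Fin 6) := gNb * gH2 * gNb⁻¹ * gH2
def T6 (M : ℤ) : FreeGroup (Fin 6) := gC ^ 4 * (gH1 ^ M * gH2 ^ M)⁻¹
def A1 (p : ℕ) : FreeGroup (Fin 6) := gUa ^ p
def A2 : FreeGroup (Fin 6) := gUa * cj gH1 gUa 1 * (cj gH1 gUa 1 * gUa)⁻¹
def A3 (k : ℤ) : FreeGroup (Fin 6) := cj gH1 gUa k * (gUa * cj gH1 gUa 1)⁻¹
def A4 (mc : ℕ → ℕ) (e : ℕ) : FreeGroup (Fin 6) := prodA gH1 gUa mc (e + 1)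
def A5 : FreeGroup (Fin 6) := gH2 * gUa * gH2⁻¹ * (cj gH1 gUa (-1))⁻¹
def B1 (p : ℕ) : FreeGroup (Fin 6) := gUb ^ p
def B2 : FreeGroup (Fin 6) := gUb * cj gH2 gUb 1 * (cj gH2 gUb 1 * gUb)⁻¹
def B3 (k : ℤ) : FreeGroup (Fin 6) := cj gH2 gUb k * (gUb * cj gH2 gUb 1)⁻¹
def BNS2 : FreeGroup (Fin 6) :=
  (gUb * cj gH2 gUb 1) * (cj gH2 gUb 1 * cj gH2 gUb 2) *
    ((cj gH2 gUb 1 * cj gH2 gUb 2) * (gUb * cj gH2 gUb 1))⁻¹
def BNS3 (k : ℤ) : FreeGroup (Fin 6) :=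
  cj gH2 gUb (2 * k - 1) * ((gUb * cj gH2 gUb 1) * (cj gH2 gUb 1 * cj gH2 gUb 2))⁻¹
def B4 (mc : ℕ → ℕ) (e : ℕ) : FreeGroup (Fin 6) := prodA gH2 gUb mc (e + 1)
def B5 : FreeGroup (Fin 6) := gH1 * gUb * gH1⁻¹ * gUb⁻¹
def W1 : FreeGroup (Fin 6) := gNa * gUa * gNa⁻¹ * (gUa⁻¹ * gNa * gUa⁻¹)⁻¹
def W2 : FreeGroup (Fin 6) := gNb * gUb * gNb⁻¹ * (gUb⁻¹ * gNb * gUb⁻¹)⁻¹
def W3 (cx : ℕ → ℕ) (nx : ℕ) (cy : ℕ → ℕ) (ny : ℕ) : FreeGroup (Fin 6) :=
  gNb * prodA gH2 gUb cx nx * gNb⁻¹ *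
    (prodA gH2 gUb cy ny * gH2 * gNb * prodA gH2 gUb cy ny)⁻¹
def K1 : FreeGroup (Fin 6) := gNa * gUa * gNa⁻¹ * (gC ^ 2 * gUa * (gC ^ 2)⁻¹)⁻¹
def K2 : FreeGroup (Fin 6) := gNa * gUb * gNa⁻¹ * (gC ^ 3 * gUb * (gC ^ 3)⁻¹)⁻¹
/-- the words for `x_{α+β}(1)` and `x_{2α+β}(1)`. -/
def gX : FreeGroup (Fin 6) := gC * gUa * gC⁻¹
def gY : FreeGroup (Fin 6) := gC ^ 3 * gUb * (gC ^ 3)⁻¹
def S1 : FreeGroup (Fin 6) := gUb * gY * (gY * gUb)⁻¹
def S2 : FreeGroup (Fin 6) := gUb * gX * (gX * gUb)⁻¹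
def S3 : FreeGroup (Fin 6) := gUa * gY * (gY * gUa)⁻¹
def S4 : FreeGroup (Fin 6) := gX * gY * (gY * gX)⁻¹
def S5 : FreeGroup (Fin 6) :=
  gUa * gX * gUa⁻¹ * gX⁻¹ * (gC ^ 3 * gUb ^ 2 * (gC ^ 3)⁻¹)⁻¹
def S6 : FreeGroup (Fin 6) := gUa * gUb * gUa⁻¹ * gUb⁻¹ * (gX * gY)⁻¹
/-- the extra relator for `PSp₄`. -/
def Z1 : FreeGroup (Fin 6) := gNa * gNa

section lifts
variable {P : Type*} [Group P] (ua ub h1 h2 na nb : P)

@[simp] theorem lift_gUa : FreeGroup.lift ![ua, ub, h1, h2, na, nb] gUa = ua := by simp [gUa]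
@[simp] theorem lift_gUb : FreeGroup.lift ![ua, ub, h1, h2, na, nb] gUb = ub := by simp [gUb]
@[simp] theorem lift_gH1 : FreeGroup.lift ![ua, ub, h1, h2, na, nb] gH1 = h1 := by simp [gH1]
@[simp] theorem lift_gH2 : FreeGroup.lift ![ua, ub, h1, h2, na, nb] gH2 = h2 := by
  simp only [gH2, FreeGroup.lift_apply_of]; rfl
@[simp] theorem lift_gNa : FreeGroup.lift ![ua, ub, h1, h2, na, nb] gNa = na := by
  simp only [gNa, FreeGroup.lift_apply_of]; rfl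
@[simp] theorem lift_gNb : FreeGroup.lift ![ua, ub, h1, h2, na, nb] gNb = nb := by
  simp only [gNb, FreeGroup.lift_apply_of]; rfl
@[simp] theorem lift_gC : FreeGroup.lift ![ua, ub, h1, h2, na, nb] gC = na * nb := by
  simp only [gC, map_mul, lift_gNa, lift_gNb]
@[simp] theorem lift_gX : FreeGroup.lift ![ua, ub, h1, h2, na, nb] gX =
    (na * nb) * ua * (na * nb)⁻¹ := by
  simp only [gX, map_mul, map_inv, lift_gC, lift_gUa]
@[simp] theorem lift_gY : FreeGroup.lift ![ua, ub, h1, h2, na, nb] gY =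
    (na * nb) ^ 3 * ub * ((na * nb) ^ 3)⁻¹ := by
  simp only [gY, map_mul, map_inv, map_pow, lift_gC, lift_gUb]

theorem lift_T1 : FreeGroup.lift ![ua, ub, h1, h2, na, nb] T1 = 1 ↔ Commute h1 h2 := by
  simp only [T1, map_mul, map_inv, lift_gH1, lift_gH2, mul_inv_eq_one]
  exact Iff.rfl
theorem lift_T2 : FreeGroup.lift ![ua, ub, h1, h2, na, nb] T2 = 1 ↔ na * h1 * na⁻¹ = h2 := by
  simp only [T2, map_mul, map_inv, lift_gH1, lift_gH2, lift_gNa, mul_inv_eq_one]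
theorem lift_T3 : FreeGroup.lift ![ua, ub, h1, h2, na, nb] T3 = 1 ↔ na * h2 * na⁻¹ = h1 := by
  simp only [T3, map_mul, map_inv, lift_gH1, lift_gH2, lift_gNa, mul_inv_eq_one]
theorem lift_T4 : FreeGroup.lift ![ua, ub, h1, h2, na, nb] T4 = 1 ↔ nb * h1 * nb⁻¹ = h1 := by
  simp only [T4, map_mul, map_inv, lift_gH1, lift_gNb, mul_inv_eq_one]
theorem lift_T5 : FreeGroup.lift ![ua, ub, h1, h2, na, nb] T5 = 1 ↔ nb * h2 * nb⁻¹ = h2⁻¹ := by
  simp only [T5, map_mul, map_inv, lift_gH2, lift_gNb, mul_eq_one_iff_eq_inv]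
theorem lift_T6 (M : ℤ) : FreeGroup.lift ![ua, ub, h1, h2, na, nb] (T6 M) = 1 ↔
    (na * nb) ^ 4 = h1 ^ M * h2 ^ M := by
  simp only [T6, map_mul, map_inv, map_pow, map_zpow, lift_gC, lift_gH1, lift_gH2, mul_inv_eq_one]
theorem lift_A1 (p : ℕ) : FreeGroup.lift ![ua, ub, h1, h2, na, nb] (A1 p) = 1 ↔ ua ^ p = 1 := by
  simp only [A1, map_pow, lift_gUa]
theorem lift_A2 : FreeGroup.lift ![ua, ub, h1, h2, na, nb] A2 = 1 ↔
    Commute ua (cj h1 ua 1) := by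
  simp only [A2, map_mul, map_inv, map_cj, lift_gUa, lift_gH1, mul_inv_eq_one]
  exact Iff.rfl
theorem lift_A3 (k : ℤ) : FreeGroup.lift ![ua, ub, h1, h2, na, nb] (A3 k) = 1 ↔
    cj h1 ua k = ua * cj h1 ua 1 := by
  simp only [A3, map_mul, map_inv, map_cj, lift_gUa, lift_gH1, mul_inv_eq_one]
theorem lift_A4 (mc : ℕ → ℕ) (e : ℕ) : FreeGroup.lift ![ua, ub, h1, h2, na, nb] (A4 mc e) = 1 ↔
    prodA h1 ua mc (e + 1) = 1 := by
  simp only [A4, map_prodA, lift_gUa, lift_gH1]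
theorem lift_A5 : FreeGroup.lift ![ua, ub, h1, h2, na, nb] A5 = 1 ↔
    h2 * ua * h2⁻¹ = cj h1 ua (-1) := by
  simp only [A5, map_mul, map_inv, map_cj, lift_gUa, lift_gH1, lift_gH2, mul_inv_eq_one]
theorem lift_B1 (p : ℕ) : FreeGroup.lift ![ua, ub, h1, h2, na, nb] (B1 p) = 1 ↔ ub ^ p = 1 := by
  simp only [B1, map_pow, lift_gUb]
theorem lift_B2 : FreeGroup.lift ![ua, ub, h1, h2, na, nb] B2 = 1 ↔
    Commute ub (cj h2 ub 1) := by
  simp only [B2, map_mul, map_inv, map_cj, lift_gUb, lift_gH2, mul_inv_eq_one]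
  exact Iff.rfl
theorem lift_B3 (k : ℤ) : FreeGroup.lift ![ua, ub, h1, h2, na, nb] (B3 k) = 1 ↔
    cj h2 ub k = ub * cj h2 ub 1 := by
  simp only [B3, map_mul, map_inv, map_cj, lift_gUb, lift_gH2, mul_inv_eq_one]
theorem lift_BNS2 : FreeGroup.lift ![ua, ub, h1, h2, na, nb] BNS2 = 1 ↔
    Commute (ub * cj h2 ub 1) (cj h2 ub 1 * cj h2 ub 2) := by
  simp only [BNS2, map_mul, map_inv, map_cj, lift_gUb, lift_gH2, mul_inv_eq_one]
  exact Iff.rfl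
theorem lift_BNS3 (k : ℤ) : FreeGroup.lift ![ua, ub, h1, h2, na, nb] (BNS3 k) = 1 ↔
    cj h2 ub (2 * k - 1) = (ub * cj h2 ub 1) * (cj h2 ub 1 * cj h2 ub 2) := by
  simp only [BNS3, map_mul, map_inv, map_cj, lift_gUb, lift_gH2, mul_inv_eq_one]
theorem lift_B4 (mc : ℕ → ℕ) (e : ℕ) : FreeGroup.lift ![ua, ub, h1, h2, na, nb] (B4 mc e) = 1 ↔
    prodA h2 ub mc (e + 1) = 1 := by
  simp only [B4, map_prodA, lift_gUb, lift_gH2]
theorem lift_B5 : FreeGroup.lift ![ua, ub, h1, h2, na, nb] B5 = 1 ↔ h1 * ub * h1⁻¹ = ub := by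
  simp only [B5, map_mul, map_inv, lift_gUb, lift_gH1, mul_inv_eq_one]
theorem lift_W1 : FreeGroup.lift ![ua, ub, h1, h2, na, nb] W1 = 1 ↔
    na * ua * na⁻¹ = ua⁻¹ * na * ua⁻¹ := by
  simp only [W1, map_mul, map_inv, lift_gUa, lift_gNa, mul_inv_eq_one]
theorem lift_W2 : FreeGroup.lift ![ua, ub, h1, h2, na, nb] W2 = 1 ↔
    nb * ub * nb⁻¹ = ub⁻¹ * nb * ub⁻¹ := by
  simp only [W2, map_mul, map_inv, lift_gUb, lift_gNb, mul_inv_eq_one]
theorem lift_W3 (cx : ℕ → ℕ) (nx : ℕ) (cy : ℕ → ℕ) (ny : ℕ) :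
    FreeGroup.lift ![ua, ub, h1, h2, na, nb] (W3 cx nx cy ny) = 1 ↔
      nb * prodA h2 ub cx nx * nb⁻¹ = prodA h2 ub cy ny * h2 * nb * prodA h2 ub cy ny := by
  simp only [W3, map_mul, map_inv, map_prodA, lift_gUb, lift_gH2, lift_gNb, mul_inv_eq_one]
theorem lift_K1 : FreeGroup.lift ![ua, ub, h1, h2, na, nb] K1 = 1 ↔
    na * ua * na⁻¹ = (na * nb) ^ 2 * ua * ((na * nb) ^ 2)⁻¹ := by
  simp only [K1, map_mul, map_inv, map_pow, lift_gUa, lift_gNa, lift_gC, mul_inv_eq_one]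
theorem lift_K2 : FreeGroup.lift ![ua, ub, h1, h2, na, nb] K2 = 1 ↔
    na * ub * na⁻¹ = (na * nb) ^ 3 * ub * ((na * nb) ^ 3)⁻¹ := by
  simp only [K2, map_mul, map_inv, map_pow, lift_gUb, lift_gNa, lift_gC, mul_inv_eq_one]
theorem lift_S1 : FreeGroup.lift ![ua, ub, h1, h2, na, nb] S1 = 1 ↔
    Commute ub ((na * nb) ^ 3 * ub * ((na * nb) ^ 3)⁻¹) := by
  simp only [S1, map_mul, map_inv, lift_gUb, lift_gY, mul_inv_eq_one]
  exact Iff.rfl
theorem lift_S2 : FreeGroup.lift ![ua, ub, h1, h2, na, nb] S2 = 1 ↔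
    Commute ub ((na * nb) * ua * (na * nb)⁻¹) := by
  simp only [S2, map_mul, map_inv, lift_gUb, lift_gX, mul_inv_eq_one]
  exact Iff.rfl
theorem lift_S3 : FreeGroup.lift ![ua, ub, h1, h2, na, nb] S3 = 1 ↔
    Commute ua ((na * nb) ^ 3 * ub * ((na * nb) ^ 3)⁻¹) := by
  simp only [S3, map_mul, map_inv, lift_gUa, lift_gY, mul_inv_eq_one]
  exact Iff.rfl
theorem lift_S4 : FreeGroup.lift ![ua, ub, h1, h2, na, nb] S4 = 1 ↔
    Commute ((na * nb) * ua * (na * nb)⁻¹) ((na * nb) ^ 3 * ub * ((na * nb) ^ 3)⁻¹) := by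
  simp only [S4, map_mul, map_inv, lift_gX, lift_gY, mul_inv_eq_one]
  exact Iff.rfl
theorem lift_S5 : FreeGroup.lift ![ua, ub, h1, h2, na, nb] S5 = 1 ↔
    ua * ((na * nb) * ua * (na * nb)⁻¹) * ua⁻¹ * ((na * nb) * ua * (na * nb)⁻¹)⁻¹ =
      (na * nb) ^ 3 * ub ^ 2 * ((na * nb) ^ 3)⁻¹ := by
  simp only [S5, map_mul, map_inv, map_pow, lift_gUa, lift_gUb, lift_gX, lift_gC, mul_inv_eq_one]
theorem lift_S6 : FreeGroup.lift ![ua, ub, h1, h2, na, nb] S6 = 1 ↔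
    ua * ub * ua⁻¹ * ub⁻¹ =
      ((na * nb) * ua * (na * nb)⁻¹) * ((na * nb) ^ 3 * ub * ((na * nb) ^ 3)⁻¹) := by
  simp only [S6, map_mul, map_inv, lift_gUa, lift_gUb, lift_gX, lift_gY, mul_inv_eq_one]
theorem lift_Z1 : FreeGroup.lift ![ua, ub, h1, h2, na, nb] Z1 = na * na := by
  simp only [Z1, map_mul, lift_gNa]

end lifts

end Cfsg.Agent.Helper21.S2293
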