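import Cfsg.Agent.Helper21.S2293DEFS
import Cfsg.Agent.Helper21.S2286FIN
import Cfsg.Agent.Helper11.S2287BNABS
import Cfsg.Agent.Helper16.S2293TORUS4
import Cfsg.Agent.Helper16.S2293WEYL4
import Cfsg.Agent.Helper19.S2293ROOTS4
import Cfsg.Agent.Helper19.S2293NACT4
import Cfsg.Agent.Helper8.S2293COMMA
import Cfsg.Agent.Helper8.S2293COMMB
import Cfsg.Agent.Helper8.S2293BOREL4
import Cfsg.Agent.Helper11.S2293NSTR4
import Cfsg.Agent.Helper23.S2293SQUARES
import Cfsg.Agent.Helper23.S2293MAT4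
import Cfsg.Agent.Helper23.S2293CENTER4
import Cfsg.Agent.Helper12.S2293CORE4
import Cfsg.Agent.Lead.S2293HOMEXT
import Cfsg.Agent.Lead.S2293QUOT

/-! # S2293: the Bruhat cover `P = B N B` for type `C₂` -/

namespace Cfsg.Agent.Helper21.S2293

open Multiplicative Cfsg.Agent.Helper21.S2286 Cfsg.Agent.Helper21.S2287

variable {F : Type*} [Field F] {P : Type*} [Group P] (D : C2Data F P)

namespace C2Data

/-- the Borel subgroup. -/
def borel (hC : D.Comm) : Subgroup P where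
  carrier := D.borelSet
  mul_mem' := fun hg hg' => D.borel_mul hC hg hg'
  one_mem' := D.borel_one
  inv_mem' := fun hg => D.borel_inv hC hg

/-- the monomial subgroup. -/
def norm : Subgroup P where
  carrier := D.normSet
  mul_mem' := fun hg hg' => D.norm_mul hg hg'
  one_mem' := D.norm_one
  inv_mem' := fun hg => D.norm_inv hg

/-- short root subgroups. -/
def rootS (k : Fin 4) : Subgroup P where
  carrier := {g | ∃ a : F, g = D.xs k a}
  mul_mem' := by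
    rintro _ _ ⟨a, rfl⟩ ⟨b, rfl⟩
    exact ⟨a + b, (D.xs_add k a b).symm⟩
  one_mem' := ⟨0, (D.xs_zero k).symm⟩
  inv_mem' := by
    rintro _ ⟨a, rfl⟩
    exact ⟨-a, (D.xs_neg k a).symm⟩

/-- long root subgroups. -/
def rootL (k : Fin 4) : Subgroup P where
  carrier := {g | ∃ a : F, g = D.xl k a}
  mul_mem' := by
    rintro _ _ ⟨a, rfl⟩ ⟨b, rfl⟩
    exact ⟨a + b, (D.xl_add k a b).symm⟩
  one_mem' := ⟨0, (D.xl_zero k).symm⟩
  inv_mem' := by
    rintro _ ⟨a, rfl⟩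
    exact ⟨-a, (D.xl_neg k a).symm⟩

theorem xs0_eq (a : F) : D.xs 0 a = D.φa (ofAdd a) := by simp [xs]

theorem xl0_eq (a : F) : D.xl 0 a = D.φb (ofAdd a) := by simp [xl]

theorem fin4_cases_s (x : Fin 4) : (x = 0 ∨ x = 1) ∨ (x + 2 = 0 ∨ x + 2 = 1) := by
  fin_cases x <;> decide

theorem fin4_cases_l (x : Fin 4) : (x = 0 ∨ x = 3) ∨ (x + 2 = 0 ∨ x + 2 = 3) := by
  fin_cases x <;> decide

/-- the BN step for the first simple reflection `na`. -/
theorem step_na (hC : D.Comm) (b : P) (hb : b ∈ D.borel hC) (n : P)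
    (hn : n ∈ D.norm) (b' : P) (hb' : b' ∈ D.borel hC) :
    ∃ b1 ∈ D.borel hC, ∃ n1 ∈ D.norm, ∃ b2 ∈ D.borel hC, b * n * b' * D.na = b1 * n1 * b2 := by
  obtain ⟨hw, hz⟩ := D.weyl_a
  refine bn_step (D.borel hC) D.norm (D.rootS 0) (D.rootS 2) D.na D.na_mem_norm
    ?_ ?_ ?_ ?_ ?_ ?_ b hb n hn b' hb'
  · intro g hg
    obtain ⟨a, g', hg', rfl, hconj⟩ := D.borel_split_na hC hg
    exact ⟨_, ⟨a, rfl⟩, g', hg', rfl, hconj⟩
  · rintro _ ⟨a, rfl⟩ hne
    have ha : a ≠ 0 := by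
      rintro rfl
      exact hne (D.xs_zero 0)
    obtain ⟨a', j, b'', h⟩ := hw a ha
    refine ⟨_, ⟨a', rfl⟩, D.tor j (-j), ⟨D.tor_mem_borel _ _, D.tor_mem_norm _ _⟩, _, ⟨b'', rfl⟩, ?_⟩
    rw [D.xs0_eq, D.xs0_eq, D.xs0_eq]; exact h
  · rw [hz]
    exact ⟨D.tor_mem_borel _ _, D.tor_mem_norm _ _⟩
  · rintro _ ⟨a, rfl⟩
    obtain ⟨a', h⟩ := D.na_inv_xs 0 a
    refine ⟨a', ?_⟩
    rw [h]; simp
  · intro n hn
    obtain ⟨σs, σl, h1, h2, hs, hl⟩ := D.norm_perm hn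
    rcases fin4_cases_s (σs 0) with h | h
    · left
      rintro _ ⟨a, rfl⟩
      obtain ⟨a', h'⟩ := hs 0 a
      rw [h']
      rcases h with h | h <;> rw [h]
      · exact D.xs0_mem_borel a'
      · exact D.xs1_mem_borel a'
    · right
      rintro _ ⟨a, rfl⟩
      obtain ⟨a', h'⟩ := hs 2 a
      rw [h']
      have : σs 2 = σs 0 + 2 := by
        have := h1 0
        simpa using this
      rw [this]
      rcases h with h | h <;> rw [h]
      · exact D.xs0_mem_borel a'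
      · exact D.xs1_mem_borel a'
  · rintro _ ⟨a, rfl⟩
    exact D.xs0_mem_borel a

/-- the BN step for the second simple reflection `nb`. -/
theorem step_nb (hC : D.Comm) (b : P) (hb : b ∈ D.borel hC) (n : P)
    (hn : n ∈ D.norm) (b' : P) (hb' : b' ∈ D.borel hC) :
    ∃ b1 ∈ D.borel hC, ∃ n1 ∈ D.norm, ∃ b2 ∈ D.borel hC, b * n * b' * D.nb = b1 * n1 * b2 := by
  obtain ⟨hw, hz⟩ := D.weyl_b
  refine bn_step (D.borel hC) D.norm (D.rootL 0) (D.rootL 2) D.nb D.nb_mem_norm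
    ?_ ?_ ?_ ?_ ?_ ?_ b hb n hn b' hb'
  · intro g hg
    obtain ⟨a, g', hg', rfl, hconj⟩ := D.borel_split_nb hC hg
    exact ⟨_, ⟨a, rfl⟩, g', hg', rfl, hconj⟩
  · rintro _ ⟨a, rfl⟩ hne
    have ha : a ≠ 0 := by
      rintro rfl
      exact hne (D.xl_zero 0)
    obtain ⟨a', j, b'', h⟩ := hw a ha
    refine ⟨_, ⟨a', rfl⟩, D.tor 0 j, ⟨D.tor_mem_borel _ _, D.tor_mem_norm _ _⟩, _, ⟨b'', rfl⟩, ?_⟩
    rw [D.xl0_eq, D.xl0_eq, D.xl0_eq]; exact h
  · rw [hz]
    exact ⟨D.tor_mem_borel _ _, D.tor_mem_norm _ _⟩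
  · rintro _ ⟨a, rfl⟩
    obtain ⟨a', h⟩ := D.nb_inv_xl 0 a
    refine ⟨a', ?_⟩
    rw [h]; simp
  · intro n hn
    obtain ⟨σs, σl, h1, h2, hs, hl⟩ := D.norm_perm hn
    rcases fin4_cases_l (σl 0) with h | h
    · left
      rintro _ ⟨a, rfl⟩
      obtain ⟨a', h'⟩ := hl 0 a
      rw [h']
      rcases h with h | h <;> rw [h]
      · exact D.xl0_mem_borel a'
      · exact D.xl3_mem_borel a'
    · right
      rintro _ ⟨a, rfl⟩
      obtain ⟨a', h'⟩ := hl 2 a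
      rw [h']
      have : σl 2 = σl 0 + 2 := by
        have := h2 0
        simpa using this
      rw [this]
      rcases h with h | h <;> rw [h]
      · exact D.xl0_mem_borel a'
      · exact D.xl3_mem_borel a'
  · rintro _ ⟨a, rfl⟩
    exact D.xl0_mem_borel a

/-- **Bruhat cover.** -/
theorem cover (hC : D.Comm)
    (hgen : Subgroup.closure ({D.φa (ofAdd 1), D.φb (ofAdd 1), D.h1, D.h2, D.na, D.nb} : Set P) = ⊤)
    (g : P) : ∃ b ∈ D.borelSet, ∃ n ∈ D.normSet, ∃ b' ∈ D.borelSet, g = b * n * b' := by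
  let B := D.borel hC
  let N := D.norm
  let S : Set P := {g | ∃ b ∈ B, ∃ n ∈ N, ∃ b' ∈ B, g = b * n * b'}
  have hSB : ∀ g ∈ S, ∀ y ∈ B, g * y ∈ S := by
    rintro _ ⟨b, hb, n, hn, b', hb', rfl⟩ y hy
    exact ⟨b, hb, n, hn, b' * y, mul_mem hb' hy, by group⟩
  have hSa : ∀ g ∈ S, g * D.na ∈ S := by
    rintro _ ⟨b, hb, n, hn, b', hb', rfl⟩
    obtain ⟨b1, hb1, n1, hn1, b2, hb2, h⟩ := D.step_na hC b hb n hn b' hb'
    exact ⟨b1, hb1, n1, hn1, b2, hb2, h⟩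
  have hSb : ∀ g ∈ S, g * D.nb ∈ S := by
    rintro _ ⟨b, hb, n, hn, b', hb', rfl⟩
    obtain ⟨b1, hb1, n1, hn1, b2, hb2, h⟩ := D.step_nb hC b hb n hn b' hb'
    exact ⟨b1, hb1, n1, hn1, b2, hb2, h⟩
  have htorB : ∀ i j : ℤ, D.tor i j ∈ B := fun i j => D.tor_mem_borel i j
  have hSainv : ∀ g ∈ S, g * D.na⁻¹ ∈ S := by
    intro g hg
    have h1 : D.na⁻¹ = D.na * (D.tor (-D.M) D.M)⁻¹ := by
      rw [← D.weyl_a.2]; group
    rw [h1, ← mul_assoc]
    exact hSB _ (hSa _ hg) _ (inv_mem (htorB _ _))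
  have hSbinv : ∀ g ∈ S, g * D.nb⁻¹ ∈ S := by
    intro g hg
    have h1 : D.nb⁻¹ = D.nb * (D.tor 0 (-D.M))⁻¹ := by
      rw [← D.weyl_b.2]; group
    rw [h1, ← mul_assoc]
    exact hSB _ (hSb _ hg) _ (inv_mem (htorB _ _))
  have hφaB : D.φa (ofAdd 1) ∈ B := by
    have : D.φa (ofAdd 1) ∈ D.borelSet := by
      rw [← D.xs0_eq]; exact D.xs0_mem_borel 1
    exact this
  have hφbB : D.φb (ofAdd 1) ∈ B := by
    have : D.φb (ofAdd 1) ∈ D.borelSet := by
      rw [← D.xl0_eq]; exact D.xl0_mem_borel 1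
    exact this
  have hh1B : D.h1 ∈ B := by
    have : D.h1 ∈ D.borelSet := by
      have := D.tor_mem_borel 1 0
      simpa [tor] using this
    exact this
  have hh2B : D.h2 ∈ B := by
    have : D.h2 ∈ D.borelSet := by
      have := D.tor_mem_borel 0 1
      simpa [tor] using this
    exact this
  have hone : (1 : P) ∈ S := ⟨1, one_mem _, 1, one_mem _, 1, one_mem _, by group⟩
  have hall : g ∈ S := by
    have hg : g ∈ Subgroup.closure
        ({D.φa (ofAdd 1), D.φb (ofAdd 1), D.h1, D.h2, D.na, D.nb} : Set P) := by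
      rw [hgen]; trivial
    induction hg using Subgroup.closure_induction_right with
    | one => exact hone
    | mul_right x hx y hy ih =>
      simp only [Set.mem_insert_iff, Set.mem_singleton_iff] at hy
      rcases hy with rfl | rfl | rfl | rfl | rfl | rfl
      · exact hSB _ ih _ hφaB
      · exact hSB _ ih _ hφbB
      · exact hSB _ ih _ hh1B
      · exact hSB _ ih _ hh2B
      · exact hSa _ ih
      · exact hSb _ ih
    | mul_inv_cancel x hx y hy ih =>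
      simp only [Set.mem_insert_iff, Set.mem_singleton_iff] at hy
      rcases hy with rfl | rfl | rfl | rfl | rfl | rfl
      · exact hSB _ ih _ (inv_mem hφaB)
      · exact hSB _ ih _ (inv_mem hφbB)
      · exact hSB _ ih _ (inv_mem hh1B)
      · exact hSB _ ih _ (inv_mem hh2B)
      · exact hSainv _ ih
      · exact hSbinv _ ih
  obtain ⟨b, hb, n, hn, b', hb', h⟩ := hall
  exact ⟨b, hb, n, hn, b', hb', h⟩

end C2Data

end Cfsg.Agent.Helper21.S2293
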