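import Cfsg.Agent.Helper21.S2286DEFS

/-!
# S2293: a bounded presentation of `Sp(4,q)` — shared definitions

Root system `C₂`, simple roots `α = e₁ - e₂` (short), `β = 2e₂` (long); positive roots
`α, β, α+β, 2α+β`.  Generators `u_a, u_b, h1, h2, na, nb`  ↦
`x_α(1), x_β(1), diag(ω,1,ω⁻¹,1), diag(1,ω,1,ω⁻¹), n_α, n_β`.
`C2Data F P`: a group `P` with two root homomorphisms and elements satisfying the torus / Weyl /
rank-one relations.
-/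

namespace Cfsg.Agent.Helper21.S2293

open Multiplicative

/-- Level-1 data for type `C₂`. -/
structure C2Data (F : Type*) [Field F] (P : Type*) [Group P] where
  ω : Fˣ
  M : ℤ
  φa : Multiplicative F →* P
  φb : Multiplicative F →* P
  h1 : P
  h2 : P
  na : P
  nb : P
  hω : ∀ y : Fˣ, y ∈ Subgroup.zpowers ω
  hM : ω ^ M = -1
  h12 : Commute h1 h2
  h1a : ∀ a : F, h1 * φa (ofAdd a) * h1⁻¹ = φa (ofAdd ((ω : F) * a))
  h2a : ∀ a : F, h2 * φa (ofAdd a) * h2⁻¹ = φa (ofAdd (((ω⁻¹ : Fˣ) : F) * a))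
  h1b : ∀ b : F, h1 * φb (ofAdd b) * h1⁻¹ = φb (ofAdd b)
  h2b : ∀ b : F, h2 * φb (ofAdd b) * h2⁻¹ = φb (ofAdd ((ω : F) ^ 2 * b))
  na_h1 : na * h1 * na⁻¹ = h2
  na_h2 : na * h2 * na⁻¹ = h1
  nb_h1 : nb * h1 * nb⁻¹ = h1
  nb_h2 : nb * h2 * nb⁻¹ = h2⁻¹
  wa : na * φa (ofAdd 1) * na⁻¹ = φa (ofAdd (-1)) * na * φa (ofAdd (-1))
  wb1 : nb * φb (ofAdd 1) * nb⁻¹ = φb (ofAdd (-1)) * nb * φb (ofAdd (-1))
  wb2 : nb * φb (ofAdd ((ω⁻¹ : Fˣ) : F)) * nb⁻¹ =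
    φb (ofAdd (-(ω : F))) * h2 * nb * φb (ofAdd (-(ω : F)))
  c4 : (na * nb) ^ 4 = h1 ^ M * h2 ^ M
  ra : ∀ a : F, na * φa (ofAdd a) * na⁻¹ = (na * nb) ^ 2 * φa (ofAdd a) * ((na * nb) ^ 2)⁻¹
  rc : ∀ b : F, na * φb (ofAdd b) * na⁻¹ = (na * nb) ^ 3 * φb (ofAdd b) * ((na * nb) ^ 3)⁻¹

namespace C2Data

variable {F : Type*} [Field F] {P : Type*} [Group P] (D : C2Data F P)

/-- the Coxeter element `c = na nb`  (order 8, `c⁴ = -1`). -/
def c : P := D.na * D.nb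

/-- torus element `h1^i h2^j`  ↦  `diag(ω^i, ω^j, ω^(-i), ω^(-j))`. -/
def tor (i j : ℤ) : P := D.h1 ^ i * D.h2 ^ j

/-- short root elements: `xs 0 = x_α`, `xs 1 = x_{α+β}`, `xs 2 = x_{-α}`, `xs 3 = x_{-α-β}`. -/
def xs (k : Fin 4) (a : F) : P := D.c ^ (k : ℕ) * D.φa (ofAdd a) * (D.c ^ (k : ℕ))⁻¹

/-- long root elements: `xl 0 = x_β`, `xl 1 = x_{-2α-β}`, `xl 2 = x_{-β}`, `xl 3 = x_{2α+β}`. -/
def xl (k : Fin 4) (b : F) : P := D.c ^ (k : ℕ) * D.φb (ofAdd b) * (D.c ^ (k : ℕ))⁻¹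

/-- exponents of the torus characters on the short roots. -/
def es (i j : ℤ) : Fin 4 → ℤ := ![i - j, i + j, j - i, -i - j]

/-- exponents of the torus characters on the long roots. -/
def el (i j : ℤ) : Fin 4 → ℤ := ![2 * j, -(2 * i), -(2 * j), 2 * i]

/-- the Borel set `X_α X_β X_{α+β} X_{2α+β} T`. -/
def borelSet : Set P :=
  {g | ∃ (a b c d : F) (i j : ℤ), g = D.xs 0 a * D.xl 0 b * D.xs 1 c * D.xl 3 d * D.tor i j}

/-- the monomial set `T c^m na^e`. -/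
def normSet : Set P :=
  {g | ∃ (i j : ℤ) (m e : ℕ), g = D.tor i j * D.c ^ m * D.na ^ e}

/-- the Chevalley commutator relations among the positive root groups. -/
structure Comm : Prop where
  comm_ab : ∀ a b : F, D.xs 0 a * D.xl 0 b * (D.xs 0 a)⁻¹ * (D.xl 0 b)⁻¹ =
    D.xs 1 (a * b) * D.xl 3 (a ^ 2 * b)
  comm_aab : ∀ a b : F, D.xs 0 a * D.xs 1 b * (D.xs 0 a)⁻¹ * (D.xs 1 b)⁻¹ = D.xl 3 (2 * a * b)
  comm_s0l3 : ∀ a b : F, Commute (D.xs 0 a) (D.xl 3 b)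
  comm_l0s1 : ∀ a b : F, Commute (D.xl 0 a) (D.xs 1 b)
  comm_l0l3 : ∀ a b : F, Commute (D.xl 0 a) (D.xl 3 b)
  comm_s1l3 : ∀ a b : F, Commute (D.xs 1 a) (D.xl 3 b)

/-! unfolding lemmas (stated here so that the equation lemmas of the definitions are generated in
this module and not in several sibling modules) -/
theorem c_def : D.c = D.na * D.nb := by unfold c; rfl
theorem tor_def (i j : ℤ) : D.tor i j = D.h1 ^ i * D.h2 ^ j := by unfold tor; rfl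
theorem xs_def (k : Fin 4) (a : F) :
    D.xs k a = D.c ^ (k : ℕ) * D.φa (ofAdd a) * (D.c ^ (k : ℕ))⁻¹ := by unfold xs; rfl
theorem xl_def (k : Fin 4) (b : F) :
    D.xl k b = D.c ^ (k : ℕ) * D.φb (ofAdd b) * (D.c ^ (k : ℕ))⁻¹ := by unfold xl; rfl
theorem es_def (i j : ℤ) : es i j = ![i - j, i + j, j - i, -i - j] := by unfold es; rfl
theorem el_def (i j : ℤ) : el i j = ![2 * j, -(2 * i), -(2 * j), 2 * i] := by unfold el; rfl
theorem mem_borelSet_iff (g : P) : g ∈ D.borelSet ↔ ∃ (a b c d : F) (i j : ℤ),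
    g = D.xs 0 a * D.xl 0 b * D.xs 1 c * D.xl 3 d * D.tor i j := by unfold borelSet; rfl
theorem mem_normSet_iff (g : P) : g ∈ D.normSet ↔ ∃ (i j : ℤ) (m e : ℕ),
    g = D.tor i j * D.c ^ m * D.na ^ e := by unfold normSet; rfl

end C2Data

/-! ## matrices in `Sp(4,F)` (index order `e₁, e₂, f₁, f₂`) -/
section mat
variable {F : Type*} [Field F]

open Matrix

/-- `x_α(a)`, `α = e₁ - e₂`. -/
def xam (a : F) : symplecticGroup (Fin 2) F :=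
  ⟨fromBlocks !![1, a; 0, 1] 0 0 !![1, 0; -a, 1], by
    rw [SymplecticGroup.fromBlocks_mem_iff]
    refine ⟨by simp, by simp, ?_⟩
    ext i j; fin_cases i <;> fin_cases j <;> simp [Matrix.mul_apply, Fin.sum_univ_two]⟩

/-- `x_β(b)`, `β = 2e₂`. -/
def xbm (b : F) : symplecticGroup (Fin 2) F :=
  ⟨fromBlocks 1 !![0, 0; 0, b] 0 1, by
    rw [SymplecticGroup.fromBlocks_mem_iff]
    refine ⟨by simp, ?_, by simp⟩
    ext i j; fin_cases i <;> fin_cases j <;> simp⟩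

/-- `x_{α+β}(c)`, `α+β = e₁ + e₂`. -/
def xabm (c : F) : symplecticGroup (Fin 2) F :=
  ⟨fromBlocks 1 !![0, c; c, 0] 0 1, by
    rw [SymplecticGroup.fromBlocks_mem_iff]
    refine ⟨by simp, ?_, by simp⟩
    ext i j; fin_cases i <;> fin_cases j <;> simp⟩

/-- `x_{2α+β}(d)`, `2α+β = 2e₁`. -/
def x2abm (d : F) : symplecticGroup (Fin 2) F :=
  ⟨fromBlocks 1 !![d, 0; 0, 0] 0 1, by
    rw [SymplecticGroup.fromBlocks_mem_iff]
    refine ⟨by simp, ?_, by simp⟩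
    ext i j; fin_cases i <;> fin_cases j <;> simp⟩

/-- torus element `diag(s, t, s⁻¹, t⁻¹)`. -/
def dm (s t : Fˣ) : symplecticGroup (Fin 2) F :=
  ⟨fromBlocks !![(s : F), 0; 0, (t : F)] 0 0 !![((s⁻¹ : Fˣ) : F), 0; 0, ((t⁻¹ : Fˣ) : F)], by
    rw [SymplecticGroup.fromBlocks_mem_iff]
    refine ⟨by simp, by simp, ?_⟩
    ext i j; fin_cases i <;> fin_cases j <;> simp [Matrix.mul_apply, Fin.sum_univ_two]⟩

/-- `n_α`. -/
def nam : symplecticGroup (Fin 2) F :=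
  ⟨fromBlocks !![0, 1; -1, 0] 0 0 !![0, 1; -1, 0], by
    rw [SymplecticGroup.fromBlocks_mem_iff]
    refine ⟨by simp, by simp, ?_⟩
    ext i j; fin_cases i <;> fin_cases j <;> simp [Matrix.mul_apply, Fin.sum_univ_two]⟩

/-- `n_β`. -/
def nbm : symplecticGroup (Fin 2) F :=
  ⟨fromBlocks !![1, 0; 0, 0] !![0, 0; 0, 1] !![0, 0; 0, -1] !![1, 0; 0, 0], by
    rw [SymplecticGroup.fromBlocks_mem_iff]
    refine ⟨?_, ?_, ?_⟩ <;>
    · ext i j; fin_cases i <;> fin_cases j <;> simp [Matrix.mul_apply, Fin.sum_univ_two]⟩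

/-- the Coxeter element `cmat = nam * nbm`. -/
def cmat : symplecticGroup (Fin 2) F := nam * nbm

theorem xam_val (a : F) : (xam a : Matrix (Fin 2 ⊕ Fin 2) (Fin 2 ⊕ Fin 2) F) =
    fromBlocks !![1, a; 0, 1] 0 0 !![1, 0; -a, 1] := by unfold xam; rfl
theorem xbm_val (b : F) : (xbm b : Matrix (Fin 2 ⊕ Fin 2) (Fin 2 ⊕ Fin 2) F) =
    fromBlocks 1 !![0, 0; 0, b] 0 1 := by unfold xbm; rfl
theorem xabm_val (c : F) : (xabm c : Matrix (Fin 2 ⊕ Fin 2) (Fin 2 ⊕ Fin 2) F) =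
    fromBlocks 1 !![0, c; c, 0] 0 1 := by unfold xabm; rfl
theorem x2abm_val (d : F) : (x2abm d : Matrix (Fin 2 ⊕ Fin 2) (Fin 2 ⊕ Fin 2) F) =
    fromBlocks 1 !![d, 0; 0, 0] 0 1 := by unfold x2abm; rfl
theorem dm_val (s t : Fˣ) : (dm s t : Matrix (Fin 2 ⊕ Fin 2) (Fin 2 ⊕ Fin 2) F) =
    fromBlocks !![(s : F), 0; 0, (t : F)] 0 0 !![((s⁻¹ : Fˣ) : F), 0; 0, ((t⁻¹ : Fˣ) : F)] := by
  unfold dm; rfl
theorem nam_val : ((nam : symplecticGroup (Fin 2) F) : Matrix (Fin 2 ⊕ Fin 2) (Fin 2 ⊕ Fin 2) F) =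
    fromBlocks !![0, 1; -1, 0] 0 0 !![0, 1; -1, 0] := by unfold nam; rfl
theorem nbm_val : ((nbm : symplecticGroup (Fin 2) F) : Matrix (Fin 2 ⊕ Fin 2) (Fin 2 ⊕ Fin 2) F) =
    fromBlocks !![1, 0; 0, 0] !![0, 0; 0, 1] !![0, 0; 0, -1] !![1, 0; 0, 0] := by unfold nbm; rfl
theorem cmat_def : (cmat : symplecticGroup (Fin 2) F) = nam * nbm := by unfold cmat; rfl

end mat

/-- the six generators of the free group. -/
abbrev gUa : FreeGroup (Fin 6) := FreeGroup.of 0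
abbrev gUb : FreeGroup (Fin 6) := FreeGroup.of 1
abbrev gH1 : FreeGroup (Fin 6) := FreeGroup.of 2
abbrev gH2 : FreeGroup (Fin 6) := FreeGroup.of 3
abbrev gNa : FreeGroup (Fin 6) := FreeGroup.of 4
abbrev gNb : FreeGroup (Fin 6) := FreeGroup.of 5

end Cfsg.Agent.Helper21.S2293
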