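import Cfsg.Agent.Helper21.S2293CASES
import Cfsg.Prelude.Def_Classical

/-! # S2293: the cases and the final statement -/

namespace Cfsg.Agent.Helper21.S2293

open Multiplicative Cfsg.Agent.Helper21.S2286

section mataux
variable {F : Type*} [Field F]

theorem xam_neg (a : F) : xam (-a) = (xam a)⁻¹ := by
  rw [eq_inv_iff_mul_eq_one, ← xam_add, neg_add_cancel, xam_zero]

theorem xbm_neg (a : F) : xbm (-a) = (xbm a)⁻¹ := by
  rw [eq_inv_iff_mul_eq_one, ← xbm_add, neg_add_cancel, xbm_zero]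

theorem dm_inv (s t : Fˣ) : (dm s t)⁻¹ = dm s⁻¹ t⁻¹ := by
  rw [inv_eq_iff_mul_eq_one, dm_mul, mul_inv_cancel, mul_inv_cancel, dm_one]

theorem xam_comm (a b : F) : Commute (xam a) (xam b) := by
  unfold Commute SemiconjBy
  rw [← xam_add, ← xam_add, add_comm]

theorem xbm_comm (a b : F) : Commute (xbm a) (xbm b) := by
  unfold Commute SemiconjBy
  rw [← xbm_add, ← xbm_add, add_comm]

end mataux

section
variable (p : ℕ) [Fact p.Prime] {F : Type*} [Field F] [Finite F] [CharP F p] (ω : Fˣ)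
  (hω : ∀ y : Fˣ, y ∈ Subgroup.zpowers ω)
  (hadj2 : letI := ZMod.algebra F p; Algebra.adjoin (ZMod p) {(ω : F) ^ 2} = ⊤)

/-- the images of the generators. -/
def fgen : Fin 6 → Matrix.symplecticGroup (Fin 2) F :=
  ![xam 1, xbm 1, dm ω 1, dm 1 ω, nam, nbm]

/-- the 23 common relators. -/
noncomputable def baseRels (M : ℤ) (cx : ℕ → ℕ) (nx : ℕ) (cy : ℕ → ℕ) (ny : ℕ) :
    List (FreeGroup (Fin 6)) :=
  [T1, T2, T3, T4, T5, T6 M, A1 p, A4 (mcoef p (ω : F)) (mdeg p (ω : F)), A5,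
    B1 p, B4 (mcoef p ((ω : F) ^ 2)) (mdeg p ((ω : F) ^ 2)), B5, W1, W2, W3 cx nx cy ny,
    K1, K2, S1, S2, S3, S4, S5, S6]

theorem base_mat (M : ℤ) (hM : ω ^ M = -1) (cx : ℕ → ℕ) (nx : ℕ) (cy : ℕ → ℕ) (ny : ℕ)
    (hcx : ev ((ω : F) ^ 2) cx nx = ((ω⁻¹ : Fˣ) : F)) (hcy : ev ((ω : F) ^ 2) cy ny = -(ω : F)) :
    ∀ r ∈ baseRels p ω M cx nx cy ny, FreeGroup.lift (fgen ω) r = 1 := by
  intro r hr
  have hXm : ((nam : Matrix.symplecticGroup (Fin 2) F) * nbm) * xam 1 * (nam * nbm)⁻¹ = xabm 1 :=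
    c_xam 1
  have hYm : ((nam : Matrix.symplecticGroup (Fin 2) F) * nbm) ^ 3 * xbm 1 * ((nam * nbm) ^ 3)⁻¹ =
      x2abm 1 := c3_xbm 1
  simp only [baseRels, List.mem_cons, List.not_mem_nil, or_false] at hr
  unfold fgen
  rcases hr with rfl | rfl | rfl | rfl | rfl | rfl | rfl | rfl | rfl | rfl | rfl | rfl | rfl |
    rfl | rfl | rfl | rfl | rfl | rfl | rfl | rfl | rfl | rfl
  · rw [lift_T1]
    unfold Commute SemiconjBy
    rw [dm_mul, dm_mul, mul_one, one_mul]
  · rw [lift_T2, nam_dm]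
  · rw [lift_T3, nam_dm]
  · rw [lift_T4, nbm_dm, inv_one]
  · rw [lift_T5, nbm_dm, dm_inv, inv_one]
  · rw [lift_T6, c4_mat, dm_zpow, dm_zpow, dm_mul, one_zpow, mul_one, one_mul, hM]
  · rw [lift_A1, xam_pow, CharP.cast_eq_zero, zero_mul, xam_zero]
  · rw [lift_A4, prodA_mat_a, (mcoef_facts p (ω : F)).2.2, xam_zero]
  · rw [lift_A5, dm_xam, cj_mat_a, Units.val_one, one_mul, zpow_neg_one,
      Units.val_inv_eq_inv_val]
  · rw [lift_B1, xbm_pow, CharP.cast_eq_zero, zero_mul, xbm_zero]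
  · rw [lift_B4, prodA_mat_b, (mcoef_facts p ((ω : F) ^ 2)).2.2, xbm_zero]
  · rw [lift_B5, dm_xbm, Units.val_one, one_pow, one_mul]
  · rw [lift_W1, ← xam_neg]; exact weyl_a_mat
  · rw [lift_W2, ← xbm_neg]; exact weyl_b1_mat
  · rw [lift_W3, prodA_mat_b, prodA_mat_b, hcx, hcy]; exact weyl_b2_mat ω
  · rw [lift_K1]; exact ra_mat 1
  · rw [lift_K2]; exact rc_mat 1
  · rw [lift_S1, hYm]; exact comm_mat_l0l3 1 1
  · rw [lift_S2, hXm]; exact comm_mat_l0s1 1 1
  · rw [lift_S3, hYm]; exact comm_mat_s0l3 1 1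
  · rw [lift_S4, hXm, hYm]; exact comm_mat_s1l3 1 1
  · rw [lift_S5, hXm, comm_aab_mat]
    have : ((nam : Matrix.symplecticGroup (Fin 2) F) * nbm) ^ 3 * xbm 1 ^ 2 *
        ((nam * nbm) ^ 3)⁻¹ =
        ((nam * nbm) ^ 3 * xbm 1 * ((nam * nbm) ^ 3)⁻¹) ^ 2 := by
      rw [sq, sq]; group
    rw [this, hYm, sq, ← x2abm_add]
    congr 1; ring
  · rw [lift_S6, hXm, hYm, comm_ab_mat]
    congr 2 <;> ring

include hω in
/-- the relators forcing the commutativity of the `α`-family. -/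
theorem exists_commA :
    ∃ L : List (FreeGroup (Fin 6)), L.length ≤ 2 ∧
      (∀ {P : Type} [Group P] (ua ub h1 h2 na nb : P),
        (∀ r ∈ L, FreeGroup.lift ![ua, ub, h1, h2, na, nb] r = 1) → ua ^ p = 1 →
        prodA h1 ua (mcoef p (ω : F)) (mdeg p (ω : F) + 1) = 1 →
        ∀ i j : ℤ, Commute (cj h1 ua i) (cj h1 ua j)) ∧
      (∀ r ∈ L, FreeGroup.lift (fgen ω) r = 1) := by
  by_cases hdeg : mdeg p (ω : F) = 1
  · refine ⟨[], by simp, ?_, by intro r hr; simp at hr⟩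
    intro P _ ua ub h1 h2 na nb _ r1 r4
    have hp : 0 < p := (Fact.out : p.Prime).pos
    refine comm_P _ ua (isOfFinOrder_iff_pow_eq_one.mpr ⟨p, hp, r1⟩) ?_
    rw [hdeg] at r4
    have hc1 : mcoef p (ω : F) 1 = 1 := by
      have := (mcoef_facts p (ω : F)).1
      rwa [hdeg] at this
    have : prodA h1 ua (mcoef p (ω : F)) 2 = ua ^ (mcoef p (ω : F) 0) * cj h1 ua 1 := by
      simp [prodA, List.range_succ, hc1]
    rw [this] at r4
    have h1' : cj h1 ua 1 = (ua ^ (mcoef p (ω : F) 0))⁻¹ := eq_inv_of_mul_eq_one_right r4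
    rw [← cj_one, h1']
    exact Subgroup.inv_mem _ (Subgroup.pow_mem _ (Subgroup.mem_zpowers ua) _)
  · have hne : 1 + (ω : F) ≠ 0 := by
      intro h0
      apply hdeg
      have : (ω : F) = ((-1 : ℤ) : F) := by
        rw [Int.cast_neg, Int.cast_one]
        linear_combination h0
      rw [this]
      exact mdeg_intCast p (-1)
    obtain ⟨K, hK⟩ := Subgroup.mem_zpowers_iff.mp (hω (Units.mk0 _ hne))
    have hK' : (ω : F) ^ K = 1 + (ω : F) := by
      have := congrArg Units.val hK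
      rwa [Units.val_zpow_eq_zpow_val, Units.val_mk0] at this
    refine ⟨[A2, A3 K], by simp, ?_, ?_⟩
    · intro P _ ua ub h1 h2 na nb hc _ _
      exact comm_S h1 ua K ((lift_A2 ua ub h1 h2 na nb).mp (hc A2 (by simp)))
        ((lift_A3 ua ub h1 h2 na nb K).mp (hc (A3 K) (by simp)))
    · intro r hr
      simp only [List.mem_cons, List.not_mem_nil, or_false] at hr
      unfold fgen
      rcases hr with rfl | rfl
      · rw [lift_A2, cj_mat_a]; exact xam_comm _ _
      · rw [lift_A3, cj_mat_a, cj_mat_a, ← xam_add, hK', zpow_one, mul_one, mul_one]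

include hω in
/-- the relators forcing the commutativity of the `β`-family. -/
theorem exists_commB :
    ∃ L : List (FreeGroup (Fin 6)), L.length ≤ 3 ∧
      (∀ {P : Type} [Group P] (ua ub h1 h2 na nb : P),
        (∀ r ∈ L, FreeGroup.lift ![ua, ub, h1, h2, na, nb] r = 1) → ub ^ p = 1 →
        prodA h2 ub (mcoef p ((ω : F) ^ 2)) (mdeg p ((ω : F) ^ 2) + 1) = 1 →
        ∀ i j : ℤ, Commute (cj h2 ub i) (cj h2 ub j)) ∧
      (∀ r ∈ L, FreeGroup.lift (fgen ω) r = 1) := by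
  by_cases hdeg : mdeg p ((ω : F) ^ 2) = 1
  · refine ⟨[], by simp, ?_, by intro r hr; simp at hr⟩
    intro P _ ua ub h1 h2 na nb _ r1 r4
    have hp : 0 < p := (Fact.out : p.Prime).pos
    refine comm_P _ ub (isOfFinOrder_iff_pow_eq_one.mpr ⟨p, hp, r1⟩) ?_
    rw [hdeg] at r4
    have hc1 : mcoef p ((ω : F) ^ 2) 1 = 1 := by
      have := (mcoef_facts p ((ω : F) ^ 2)).1
      rwa [hdeg] at this
    have : prodA h2 ub (mcoef p ((ω : F) ^ 2)) 2 =
        ub ^ (mcoef p ((ω : F) ^ 2) 0) * cj h2 ub 1 := by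
      simp [prodA, List.range_succ, hc1]
    rw [this] at r4
    have h1' : cj h2 ub 1 = (ub ^ (mcoef p ((ω : F) ^ 2) 0))⁻¹ := eq_inv_of_mul_eq_one_right r4
    rw [← cj_one, h1']
    exact Subgroup.inv_mem _ (Subgroup.pow_mem _ (Subgroup.mem_zpowers ub) _)
  · have hne : 1 + (ω : F) ^ 2 ≠ 0 := by
      intro h0
      apply hdeg
      have : (ω : F) ^ 2 = ((-1 : ℤ) : F) := by
        rw [Int.cast_neg, Int.cast_one]
        linear_combination h0
      rw [this]
      exact mdeg_intCast p (-1)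
    obtain ⟨K, hK⟩ := Subgroup.mem_zpowers_iff.mp (hω (Units.mk0 _ hne))
    have hK' : (ω : F) ^ K = 1 + (ω : F) ^ 2 := by
      have := congrArg Units.val hK
      rwa [Units.val_zpow_eq_zpow_val, Units.val_mk0] at this
    rcases Int.even_or_odd K with hev | hodd
    · obtain ⟨k, rfl⟩ := hev
      have hk : ((ω : F) ^ 2) ^ k = 1 + (ω : F) ^ 2 := by
        rw [← hK', ← zpow_natCast, ← zpow_mul]
        congr 1; push_cast; ring
      refine ⟨[B2, B3 k], by simp, ?_, ?_⟩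
      · intro P _ ua ub h1 h2 na nb hc _ _
        exact comm_S h2 ub k ((lift_B2 ua ub h1 h2 na nb).mp (hc B2 (by simp)))
          ((lift_B3 ua ub h1 h2 na nb k).mp (hc (B3 k) (by simp)))
      · intro r hr
        simp only [List.mem_cons, List.not_mem_nil, or_false] at hr
        unfold fgen
        rcases hr with rfl | rfl
        · rw [lift_B2, cj_mat_b]; exact xbm_comm _ _
        · rw [lift_B3, cj_mat_b, cj_mat_b, ← xbm_add, hk, zpow_one, mul_one, mul_one]
    · obtain ⟨m, rfl⟩ := hodd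
      have hk : (ω : F) ^ (2 * (m + 1) - 1) = 1 + (ω : F) ^ 2 := by
        rw [← hK']; congr 1; ring
      refine ⟨[B2, BNS2, BNS3 (m + 1)], by simp, ?_, ?_⟩
      · intro P _ ua ub h1 h2 na nb hc _ _
        exact comm_NS h2 ub (m + 1) ((lift_B2 ua ub h1 h2 na nb).mp (hc B2 (by simp)))
          ((lift_BNS2 ua ub h1 h2 na nb).mp (hc BNS2 (by simp)))
          ((lift_BNS3 ua ub h1 h2 na nb (m + 1)).mp (hc (BNS3 (m + 1)) (by simp)))
      · intro r hr
        simp only [List.mem_cons, List.not_mem_nil, or_false] at hr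
        unfold fgen
        rcases hr with rfl | rfl | rfl
        · rw [lift_B2, cj_mat_b]; exact xbm_comm _ _
        · rw [lift_BNS2, cj_mat_b, cj_mat_b, ← xbm_add, ← xbm_add]; exact xbm_comm _ _
        · rw [lift_BNS3, cj_mat_b, cj_mat_b, cj_mat_b, ← xbm_add, ← xbm_add, ← xbm_add]
          congr 1
          have : ((ω : F) ^ 2) ^ (2 * (m + 1) - 1) = ((ω : F) ^ (2 * (m + 1) - 1)) ^ 2 := by
            rw [← zpow_natCast, ← zpow_natCast, ← zpow_mul, ← zpow_mul, mul_comm]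
          rw [this, hk]
          simp only [zpow_one, mul_one]
          rw [zpow_ofNat]
          ring

include hω hadj2 in
/-- the presentation of `Sp₄(F)`, with the isomorphism on words. -/
theorem sp4_pres :
    ∃ rels : Finset (FreeGroup (Fin 6)), rels.card ≤ 28 ∧
      ∃ e : PresentedGroup (↑rels : Set (FreeGroup (Fin 6))) ≃* Matrix.symplecticGroup (Fin 2) F,
        ∀ w : FreeGroup (Fin 6), e (PresentedGroup.mk _ w) = FreeGroup.lift (fgen ω) w := by
  obtain ⟨M, hM⟩ : ∃ M : ℤ, ω ^ M = -1 := Subgroup.mem_zpowers_iff.mp (hω (-1))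
  obtain ⟨cx, nx, hcx⟩ := ev_span p ((ω : F) ^ 2) hadj2 ((ω⁻¹ : Fˣ) : F)
  obtain ⟨cy, ny, hcy⟩ := ev_span p ((ω : F) ^ 2) hadj2 (-(ω : F))
  obtain ⟨LA, hlenA, hforceA, hmatA⟩ := exists_commA p ω hω
  obtain ⟨LB, hlenB, hforceB, hmatB⟩ := exists_commB p ω hω
  have hbm := base_mat p ω M hM cx nx cy ny hcx hcy
  have := wrap6 (LA ++ LB ++ baseRels p ω M cx nx cy ny) (fgen ω)
    (by
      intro r hr
      rcases List.mem_append.mp hr with hr | hr
      · rcases List.mem_append.mp hr with hr | hr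
        · exact hmatA r hr
        · exact hmatB r hr
      · exact hbm r hr)
    (by
      intro P _ ua ub h1 h2 na nb hgen hL Φ hΦua hΦub hΦ1 hΦ2 hΦna hΦnb
      have hb : ∀ r ∈ baseRels p ω M cx nx cy ny,
          FreeGroup.lift ![ua, ub, h1, h2, na, nb] r = 1 := fun r hr =>
        hL r (List.mem_append_right _ hr)
      have t1 := (lift_T1 ua ub h1 h2 na nb).mp (hb T1 (by simp [baseRels]))
      have t2 := (lift_T2 ua ub h1 h2 na nb).mp (hb T2 (by simp [baseRels]))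
      have t3 := (lift_T3 ua ub h1 h2 na nb).mp (hb T3 (by simp [baseRels]))
      have t4 := (lift_T4 ua ub h1 h2 na nb).mp (hb T4 (by simp [baseRels]))
      have t5 := (lift_T5 ua ub h1 h2 na nb).mp (hb T5 (by simp [baseRels]))
      have t6 := (lift_T6 ua ub h1 h2 na nb M).mp (hb (T6 M) (by simp [baseRels]))
      have a1 := (lift_A1 ua ub h1 h2 na nb p).mp (hb (A1 p) (by simp [baseRels]))
      have a4 := (lift_A4 ua ub h1 h2 na nb _ _).mp
        (hb (A4 (mcoef p (ω : F)) (mdeg p (ω : F))) (by simp [baseRels]))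
      have a5 := (lift_A5 ua ub h1 h2 na nb).mp (hb A5 (by simp [baseRels]))
      have b1 := (lift_B1 ua ub h1 h2 na nb p).mp (hb (B1 p) (by simp [baseRels]))
      have b4 := (lift_B4 ua ub h1 h2 na nb _ _).mp
        (hb (B4 (mcoef p ((ω : F) ^ 2)) (mdeg p ((ω : F) ^ 2))) (by simp [baseRels]))
      have b5 := (lift_B5 ua ub h1 h2 na nb).mp (hb B5 (by simp [baseRels]))
      have w1 := (lift_W1 ua ub h1 h2 na nb).mp (hb W1 (by simp [baseRels]))
      have w2 := (lift_W2 ua ub h1 h2 na nb).mp (hb W2 (by simp [baseRels]))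
      have w3 := (lift_W3 ua ub h1 h2 na nb cx nx cy ny).mp
        (hb (W3 cx nx cy ny) (by simp [baseRels]))
      have k1 := (lift_K1 ua ub h1 h2 na nb).mp (hb K1 (by simp [baseRels]))
      have k2 := (lift_K2 ua ub h1 h2 na nb).mp (hb K2 (by simp [baseRels]))
      have s1 := (lift_S1 ua ub h1 h2 na nb).mp (hb S1 (by simp [baseRels]))
      have s2 := (lift_S2 ua ub h1 h2 na nb).mp (hb S2 (by simp [baseRels]))
      have s3 := (lift_S3 ua ub h1 h2 na nb).mp (hb S3 (by simp [baseRels]))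
      have s4 := (lift_S4 ua ub h1 h2 na nb).mp (hb S4 (by simp [baseRels]))
      have s5 := (lift_S5 ua ub h1 h2 na nb).mp (hb S5 (by simp [baseRels]))
      have s6 := (lift_S6 ua ub h1 h2 na nb).mp (hb S6 (by simp [baseRels]))
      have hcomma := hforceA ua ub h1 h2 na nb
        (fun r hr => hL r (List.mem_append_left _ (List.mem_append_left _ hr))) a1 a4
      have hcommb := hforceB ua ub h1 h2 na nb
        (fun r hr => hL r (List.mem_append_left _ (List.mem_append_right _ hr))) b1 b4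
      exact pipeline4 p ω hω hadj2 ua ub h1 h2 na nb hgen M hM hcomma hcommb t1 t2 t3 t4 t5 t6
        a1 a4 a5 b1 b4 b5 w1 w2 cx nx cy ny hcx hcy w3 k1 k2 s1 s2 s3 s4 s5 s6
        Φ hΦua hΦub hΦ1 hΦ2 hΦna hΦnb)
  obtain ⟨rels, h1, -, e, he⟩ := this
  refine ⟨rels, ?_, e, he⟩
  simp only [baseRels, List.length_append, List.length_cons, List.length_nil] at h1
  omega

end

/-- **S2293.** -/
theorem main {F : Type*} [Field F] [Fintype F] :
    (∃ rels : Finset (FreeGroup (Fin 6)), rels.card ≤ 35 ∧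
      Nonempty (PresentedGroup (↑rels : Set (FreeGroup (Fin 6))) ≃*
        Matrix.symplecticGroup (Fin 2) F)) ∧
    (∃ rels : Finset (FreeGroup (Fin 6)), rels.card ≤ 36 ∧
      Nonempty (PresentedGroup (↑rels : Set (FreeGroup (Fin 6))) ≃* Cfsg.PSp 2 F)) := by
  classical
  obtain ⟨p, hpc⟩ := CharP.exists F
  have : Fact p.Prime := ⟨CharP.char_is_prime F p⟩
  obtain ⟨ω, hω, hadj2⟩ := field_facts p (F := F)
  obtain ⟨rels, hcard, e, he⟩ := sp4_pres p ω hω hadj2
  refine ⟨⟨rels, by omega, ⟨e⟩⟩, ⟨insert Z1 rels, ?_, ?_⟩⟩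
  · have := Finset.card_insert_le Z1 rels
    omega
  · have hset : (↑(insert Z1 rels) : Set (FreeGroup (Fin 6))) = ↑rels ∪ {Z1} := by
      ext x; simp
    rw [hset]
    have hz : e (PresentedGroup.mk _ Z1) = nam * nam := by
      rw [he, fgen, lift_Z1]
    exact presented_quot (↑rels : Set (FreeGroup (Fin 6))) e Z1
      (Subgroup.center (Matrix.symplecticGroup (Fin 2) F)) (by rw [hz]; exact center_sp4)

end Cfsg.Agent.Helper21.S2293
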