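import Cfsg.Agent.Helper21.S2293COVER
import Cfsg.Agent.Helper21.S2287FRONT

/-! # S2293: from relations to `C2Data`, and the abstract pipeline -/

namespace Cfsg.Agent.Helper21.S2293

open Multiplicative Cfsg.Agent.Helper21.S2286

section
variable (p : ℕ) [Fact p.Prime] {F : Type*} [Field F] [Finite F] [CharP F p] (ω : Fˣ)
  (hω : ∀ y : Fˣ, y ∈ Subgroup.zpowers ω)
  (hadj2 : letI := ZMod.algebra F p; Algebra.adjoin (ZMod p) {(ω : F) ^ 2} = ⊤)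

/-- conjugation as a homomorphism `F → P`. -/
def conjHom {P : Type*} [Group P] (g : P) (φ : Multiplicative F →* P) : Multiplicative F →* P :=
  (MulAut.conj g).toMonoidHom.comp φ

omit [Finite F] in
theorem conjHom_apply {P : Type*} [Group P] (g : P) (φ : Multiplicative F →* P) (a : F) :
    conjHom g φ (ofAdd a) = g * φ (ofAdd a) * g⁻¹ := rfl

include hω hadj2 in
/-- the abstract pipeline: relations in `P` ⟹ `Ψ` bijective. -/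
theorem pipeline4 {P : Type*} [Group P] (ua ub h1 h2 na nb : P)
    (hgen : Subgroup.closure ({ua, ub, h1, h2, na, nb} : Set P) = ⊤)
    (M : ℤ) (hM : ω ^ M = -1)
    (hcomma : ∀ i j : ℤ, Commute (cj h1 ua i) (cj h1 ua j))
    (hcommb : ∀ i j : ℤ, Commute (cj h2 ub i) (cj h2 ub j))
    (t1 : Commute h1 h2) (t2 : na * h1 * na⁻¹ = h2) (t3 : na * h2 * na⁻¹ = h1)
    (t4 : nb * h1 * nb⁻¹ = h1) (t5 : nb * h2 * nb⁻¹ = h2⁻¹)
    (t6 : (na * nb) ^ 4 = h1 ^ M * h2 ^ M)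
    (a1 : ua ^ p = 1)
    (a4 : prodA h1 ua (mcoef p (ω : F)) (mdeg p (ω : F) + 1) = 1)
    (a5 : h2 * ua * h2⁻¹ = cj h1 ua (-1))
    (b1 : ub ^ p = 1)
    (b4 : prodA h2 ub (mcoef p ((ω : F) ^ 2)) (mdeg p ((ω : F) ^ 2) + 1) = 1)
    (b5 : h1 * ub * h1⁻¹ = ub)
    (w1 : na * ua * na⁻¹ = ua⁻¹ * na * ua⁻¹) (w2 : nb * ub * nb⁻¹ = ub⁻¹ * nb * ub⁻¹)
    (cx : ℕ → ℕ) (nx : ℕ) (cy : ℕ → ℕ) (ny : ℕ)
    (hcx : ev ((ω : F) ^ 2) cx nx = ((ω⁻¹ : Fˣ) : F)) (hcy : ev ((ω : F) ^ 2) cy ny = -(ω : F))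
    (w3 : nb * prodA h2 ub cx nx * nb⁻¹ = prodA h2 ub cy ny * h2 * nb * prodA h2 ub cy ny)
    (k1 : na * ua * na⁻¹ = (na * nb) ^ 2 * ua * ((na * nb) ^ 2)⁻¹)
    (k2 : na * ub * na⁻¹ = (na * nb) ^ 3 * ub * ((na * nb) ^ 3)⁻¹)
    (s1 : Commute ub ((na * nb) ^ 3 * ub * ((na * nb) ^ 3)⁻¹))
    (s2 : Commute ub ((na * nb) * ua * (na * nb)⁻¹))
    (s3 : Commute ua ((na * nb) ^ 3 * ub * ((na * nb) ^ 3)⁻¹))
    (s4 : Commute ((na * nb) * ua * (na * nb)⁻¹) ((na * nb) ^ 3 * ub * ((na * nb) ^ 3)⁻¹))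
    (s5 : ua * ((na * nb) * ua * (na * nb)⁻¹) * ua⁻¹ * ((na * nb) * ua * (na * nb)⁻¹)⁻¹ =
      (na * nb) ^ 3 * ub ^ 2 * ((na * nb) ^ 3)⁻¹)
    (s6 : ua * ub * ua⁻¹ * ub⁻¹ =
      ((na * nb) * ua * (na * nb)⁻¹) * ((na * nb) ^ 3 * ub * ((na * nb) ^ 3)⁻¹))
    (Ψ : P →* Matrix.symplecticGroup (Fin 2) F) (hΨua : Ψ ua = xam 1) (hΨub : Ψ ub = xbm 1)
    (hΨ1 : Ψ h1 = dm ω 1) (hΨ2 : Ψ h2 = dm 1 ω) (hΨna : Ψ na = nam) (hΨnb : Ψ nb = nbm) :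
    Function.Bijective Ψ := by
  have hadj := Cfsg.Agent.Helper21.S2287.adjoin_gen p ω hω
  have hω0 : (ω : F) ≠ 0 := Units.ne_zero ω
  have hω20 : (ω : F) ^ 2 ≠ 0 := pow_ne_zero _ hω0
  obtain ⟨φa, hφa1, hconja, hφaev⟩ := exists_phi p (ω : F) hadj h1 ua a1 hcomma a4
  obtain ⟨φb, hφb1, hconjb, hφbev⟩ := exists_phi p ((ω : F) ^ 2) hadj2 h2 ub b1 hcommb b4
  have hφaneg : φa (ofAdd (-1 : F)) = ua⁻¹ := by rw [ofAdd_neg, map_inv, hφa1]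
  have hφbneg : φb (ofAdd (-1 : F)) = ub⁻¹ := by rw [ofAdd_neg, map_inv, hφb1]
  -- torus actions
  have h2a : ∀ a : F, h2 * φa (ofAdd a) * h2⁻¹ = φa (ofAdd (((ω⁻¹ : Fˣ) : F) * a)) := by
    intro a
    have := h_act_k p (ω : F) hω0 hadj φa h2 h1 ua hφa1 hconja t1.symm (-1) a5 a
    rw [this, zpow_neg_one, Units.val_inv_eq_inv_val]
  have h1b : ∀ b : F, h1 * φb (ofAdd b) * h1⁻¹ = φb (ofAdd b) := by
    intro b
    have := h_act_k p ((ω : F) ^ 2) hω20 hadj2 φb h1 h2 ub hφb1 hconjb t1 0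
      (by rw [cj_zero]; exact b5) b
    rw [this, zpow_zero, one_mul]
  -- conjugation of the torus by `c`
  set c : P := na * nb with hc
  have hna_inv_h1 : na⁻¹ * h1 * na = h2 := by rw [← t3]; group
  have hna_inv_h2 : na⁻¹ * h2 * na = h1 := by rw [← t2]; group
  have hnb_inv_h1 : nb⁻¹ * h1 * nb = h1 := by
    conv_lhs => rw [← t4]
    group
  have hnb_inv_h2 : nb⁻¹ * h2 * nb = h2⁻¹ := by
    have : nb * h2⁻¹ * nb⁻¹ = h2 := by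
      have e : nb * h2⁻¹ * nb⁻¹ = (nb * h2 * nb⁻¹)⁻¹ := by group
      rw [e, t5, inv_inv]
    conv_lhs => rw [← this]
    group
  have hc_inv_h1 : c⁻¹ * h1 * c = h2⁻¹ := by
    have e : c⁻¹ * h1 * c = nb⁻¹ * (na⁻¹ * h1 * na) * nb := by rw [hc]; group
    rw [e, hna_inv_h1, hnb_inv_h2]
  have hc_inv_h2 : c⁻¹ * h2 * c = h1 := by
    have e : c⁻¹ * h2 * c = nb⁻¹ * (na⁻¹ * h2 * na) * nb := by rw [hc]; group
    rw [e, hna_inv_h2, hnb_inv_h1]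
  have hc_h1 : c * h1 * c⁻¹ = h2 := by rw [← hc_inv_h2]; group
  have hc_h2 : c * h2 * c⁻¹ = h1⁻¹ := by
    have : c⁻¹ * h1⁻¹ * c = h2 := by
      have e : c⁻¹ * h1⁻¹ * c = (c⁻¹ * h1 * c)⁻¹ := by group
      rw [e, hc_inv_h1, inv_inv]
    conv_lhs => rw [← this]
    group
  -- `ra`: both sides are homs equivariant under `h2` acting by `ω`
  have ra : ∀ a : F, na * φa (ofAdd a) * na⁻¹ = c ^ 2 * φa (ofAdd a) * (c ^ 2)⁻¹ := by
    intro a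
    have := hom_ext_act p (ω : F) hadj (conjHom na φa) (conjHom (c ^ 2) φa) h2 ?_ ?_ ?_ a
    · simpa only [conjHom_apply] using this
    · intro a
      simp only [conjHom_apply]
      have e : h2 * (na * φa (ofAdd a) * na⁻¹) * h2⁻¹ =
          na * ((na⁻¹ * h2 * na) * φa (ofAdd a) * (na⁻¹ * h2 * na)⁻¹) * na⁻¹ := by group
      rw [e, hna_inv_h2, hconja]
    · intro a
      simp only [conjHom_apply]
      have hcc : (c ^ 2)⁻¹ * h2 * c ^ 2 = h2⁻¹ := by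
        have e : (c ^ 2)⁻¹ * h2 * c ^ 2 = c⁻¹ * (c⁻¹ * h2 * c) * c := by
          rw [pow_two]; group
        rw [e, hc_inv_h2, hc_inv_h1]
      have e : h2 * (c ^ 2 * φa (ofAdd a) * (c ^ 2)⁻¹) * h2⁻¹ =
          c ^ 2 * (((c ^ 2)⁻¹ * h2 * c ^ 2) * φa (ofAdd a) * ((c ^ 2)⁻¹ * h2 * c ^ 2)⁻¹) *
            (c ^ 2)⁻¹ := by group
      rw [e, hcc]
      have h3 : h2⁻¹ * φa (ofAdd a) * h2⁻¹⁻¹ = φa (ofAdd ((ω : F) * a)) := by
        have := h2a ((ω : F) * a)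
        rw [Units.val_inv_eq_inv_val, ← mul_assoc, inv_mul_cancel₀ hω0, one_mul] at this
        rw [← this]; group
      rw [h3]
    · simp only [conjHom_apply]
      rw [hφa1]; exact k1
  -- `rc`: both sides are homs equivariant under `h1` acting by `ω²`
  have rc : ∀ b : F, na * φb (ofAdd b) * na⁻¹ = c ^ 3 * φb (ofAdd b) * (c ^ 3)⁻¹ := by
    intro b
    have := hom_ext_act p ((ω : F) ^ 2) hadj2 (conjHom na φb) (conjHom (c ^ 3) φb) h1 ?_ ?_ ?_ b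
    · simpa only [conjHom_apply] using this
    · intro b
      simp only [conjHom_apply]
      have e : h1 * (na * φb (ofAdd b) * na⁻¹) * h1⁻¹ =
          na * ((na⁻¹ * h1 * na) * φb (ofAdd b) * (na⁻¹ * h1 * na)⁻¹) * na⁻¹ := by group
      rw [e, hna_inv_h1, hconjb]
    · intro b
      simp only [conjHom_apply]
      have hcc : (c ^ 3)⁻¹ * h1 * c ^ 3 = h2 := by
        have e : (c ^ 3)⁻¹ * h1 * c ^ 3 = c⁻¹ * (c⁻¹ * (c⁻¹ * h1 * c) * c) * c := by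
          rw [pow_succ, pow_two]; group
        rw [e, hc_inv_h1]
        have e2 : c⁻¹ * h2⁻¹ * c = (c⁻¹ * h2 * c)⁻¹ := by group
        rw [e2, hc_inv_h2]
        have e3 : c⁻¹ * h1⁻¹ * c = (c⁻¹ * h1 * c)⁻¹ := by group
        rw [e3, hc_inv_h1, inv_inv]
      have e : h1 * (c ^ 3 * φb (ofAdd b) * (c ^ 3)⁻¹) * h1⁻¹ =
          c ^ 3 * (((c ^ 3)⁻¹ * h1 * c ^ 3) * φb (ofAdd b) * ((c ^ 3)⁻¹ * h1 * c ^ 3)⁻¹) *
            (c ^ 3)⁻¹ := by group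
      rw [e, hcc, hconjb]
    · simp only [conjHom_apply]
      rw [hφb1]; exact k2
  let D : C2Data F P :=
    { ω := ω, M := M, φa := φa, φb := φb, h1 := h1, h2 := h2, na := na, nb := nb, hω := hω
      hM := hM, h12 := t1, h1a := hconja, h2a := h2a, h1b := h1b, h2b := hconjb
      na_h1 := t2, na_h2 := t3, nb_h1 := t4, nb_h2 := t5
      wa := by rw [hφa1, hφaneg]; exact w1
      wb1 := by rw [hφb1, hφbneg]; exact w2
      wb2 := by rw [← hcx, ← hcy, hφbev, hφbev]; exact w3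
      c4 := t6
      ra := ra
      rc := rc }
  have hQ := fun a : F => squares_span a
  have hxs0 : ∀ a : F, D.xs 0 a = φa (ofAdd a) := fun a => D.xs0_eq a
  have hxl0 : ∀ a : F, D.xl 0 a = φb (ofAdd a) := fun a => D.xl0_eq a
  have hxs1 : ∀ a : F, D.xs 1 a = c * φa (ofAdd a) * c⁻¹ := by
    intro a
    have : D.xs 1 a = (na * nb) ^ 1 * φa (ofAdd a) * ((na * nb) ^ 1)⁻¹ := rfl
    rw [this, pow_one]
  have hxl3 : ∀ a : F, D.xl 3 a = c ^ 3 * φb (ofAdd a) * (c ^ 3)⁻¹ := by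
    intro a
    show D.c ^ ((3 : Fin 4) : ℕ) * φb (ofAdd a) * (D.c ^ ((3 : Fin 4) : ℕ))⁻¹ = _
    rfl
  have hl0l3 := D.comm_l0l3_of hQ (by rw [hxl0, hxl3, hφb1]; exact s1)
  have hl0s1 := D.comm_l0s1_of hQ (by rw [hxl0, hxs1, hφb1, hφa1]; exact s2)
  have hs0l3 := D.comm_s0l3_of hQ (by rw [hxs0, hxl3, hφb1, hφa1]; exact s3)
  have hs1l3 := D.comm_s1l3_of hQ (by rw [hxs1, hxl3, hφb1, hφa1]; exact s4)
  have haab := D.comm_aab_of hQ hs0l3 hs1l3 (by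
    rw [hxs0, hxs1, hxl3, hφa1]
    have : φb (ofAdd (2 : F)) = ub ^ 2 := by
      rw [← one_add_one_eq_two, ofAdd_add, map_mul, hφb1, sq]
    rw [this]; exact s5)
  have hab := D.comm_ab_of hQ hl0l3 hl0s1 hs1l3 (by
    rw [hxs0, hxl0, hxs1, hxl3, hφa1, hφb1]; exact s6)
  have hC : D.Comm := ⟨hab, haab, hs0l3, hl0s1, hl0l3, hs1l3⟩
  have hgen' : Subgroup.closure
      ({D.φa (ofAdd 1), D.φb (ofAdd 1), D.h1, D.h2, D.na, D.nb} : Set P) = ⊤ := by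
    show Subgroup.closure ({φa (ofAdd 1), φb (ofAdd 1), h1, h2, na, nb} : Set P) = ⊤
    rw [hφa1, hφb1]; exact hgen
  refine core4 D hC (fun g => D.cover hC hgen' g) (fun i j hi hj => D.tor_eq_one i j hi hj) Ψ ?_ ?_
    hΨ1 hΨ2 hΨna hΨnb
  · intro a
    obtain ⟨cc, n, rfl⟩ := ev_span p (ω : F) hadj a
    show Ψ (φa (ofAdd (ev (ω : F) cc n))) = _
    rw [hφaev, map_prodA, hΨua, hΨ1, prodA_mat_a]
  · intro b
    obtain ⟨cc, n, rfl⟩ := ev_span p ((ω : F) ^ 2) hadj2 b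
    show Ψ (φb (ofAdd (ev ((ω : F) ^ 2) cc n))) = _
    rw [hφbev, map_prodA, hΨub, hΨ2, prodA_mat_b]

end

end Cfsg.Agent.Helper21.S2293
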