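import Mathlib
import Cfsg.Agent.Helper21.S2549Defs
import Cfsg.Agent.Helper21.OrthFrameTrans
import Cfsg.Agent.Helper12.OrthGenO

set_option autoImplicit false
set_option linter.unusedSectionVars false
set_option linter.unusedVariables false
open scoped Matrix

/-! S2549 piece DECOMP (driver helper21): the Siegel group of the minus-type form is transitive on the
coordinate hyperbolic frame up to scalars. -/

namespace Cfsg.Agent.S2549P

open Cfsg.Agent.MatBN Cfsg.Agent.Helper28.Spin Cfsg.Agent.Helper28.Sg Cfsg.Agent.Helper12.OrthGen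

variable {F : Type*} [Field F] {a b : F}

namespace DECOMP

/-- non-degeneracy of the polar form of the minus-type form with anisotropic binary part -/
theorem nondeg [Fintype F] (m : ℕ)
    (hab : ∀ z₁ z₂ : F, z₁ ^ 2 + a * z₁ * z₂ + b * z₂ ^ 2 = 0 → z₁ = 0 ∧ z₂ = 0) :
    (QuadraticMap.polarBilin (QfMinus m F a b)).Nondegenerate := by
  by_cases h2 : (2 : F) = 0
  · haveI : CharP F 2 := CharTwo.of_one_ne_zero_of_two_eq_zero one_ne_zero h2
    have ha := Cfsg.Agent.S2171.ne_zero_of_aniso a b hab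
    apply Cfsg.Agent.S2171.QfMinus_nondeg_of
    rw [show (4 : F) = 2 * 2 by norm_num, h2]
    simpa using ha
  · have hδ := Cfsg.Agent.S2621.not_isSquare_disc h2 a b hab
    apply Cfsg.Agent.S2171.QfMinus_nondeg_of
    intro h
    apply hδ
    have : a ^ 2 - 4 * b = 0 := by linear_combination -h
    rw [this]
    exact ⟨0, by simp⟩

theorem hinj (m : ℕ) : Function.Injective
    (Sum.elim (fun j : Fin m => (Sum.inl (Sum.inl j) : Idx m)) (fun j : Fin m => Sum.inl (Sum.inr j))) := by
  intro x y h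
  rcases x with x | x <;> rcases y with y | y <;>
    simp only [Sum.elim_inl, Sum.elim_inr, Sum.inl.injEq, Sum.inr.injEq, reduceCtorEq] at h
  · rw [h]
  · rw [h]

/-- the coordinate frame -/
noncomputable def frame (m : ℕ) (a b : F) : HFrame (QfMinus m F a b) m :=
  coordFrame (fun j : Fin m => (Sum.inl (Sum.inl j) : Idx m)) (fun j : Fin m => Sum.inl (Sum.inr j))
    (hinj m) (fun j => Cfsg.Agent.S2615.hypPair_minus m a b j)

theorem frame_e (m : ℕ) (i : Fin m) : (frame m a b).e i = eV m i := rfl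

theorem frame_f (m : ℕ) (i : Fin m) : (frame m a b).f i = fV m i := rfl

/-- the nonsingular vector `z₁` orthogonal to the frame -/
theorem z0_inV0 (m : ℕ) : (frame m a b).InV0 (Pi.single (Sum.inr 0) 1 : Idx m → F) := by
  unfold frame
  rw [coordFrame_inV0_iff]
  intro j
  constructor <;> simp

end DECOMP

open DECOMP

/-- DECOMP: the Siegel group is transitive on hyperbolic frames up to scalars -/
theorem exists_S_frame [Fintype F] (m : ℕ)
    (hab : ∀ z₁ z₂ : F, z₁ ^ 2 + a * z₁ * z₂ + b * z₂ ^ 2 = 0 → z₁ = 0 ∧ z₂ = 0)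
    (g : OG m F a b) :
    ∃ s : OG m F a b, s ∈ (S (QfMinus m F a b) : Subgroup (OG m F a b)) ∧ ∀ i : Fin m,
      (∃ c : F, (((s * g : OG m F a b) : Matrix.GeneralLinearGroup (Idx m) F) : Matrix (Idx m) (Idx m) F) *ᵥ
        eV m i = c • eV m i) ∧
      (∃ c : F, (((s * g : OG m F a b) : Matrix.GeneralLinearGroup (Idx m) F) : Matrix (Idx m) (Idx m) F) *ᵥ
        fV m i = c • fV m i) := by
  have hQ := nondeg m hab
  have hz : QfMinus m F a b (Pi.single (Sum.inr 0) 1) ≠ 0 := by
    rw [QfMinus_z0]; exact one_ne_zero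
  obtain ⟨s, hs, h⟩ := Cfsg.Agent.OrthBN.exists_S_lines hQ (frame m a b) hz (z0_inV0 m) g m le_rfl
  exact ⟨s, hs, fun i => h i i.2⟩

end Cfsg.Agent.S2549P
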