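import Mathlib
import Cfsg.Agent.Helper21.S2549Defs
import Cfsg.Agent.Helper21.S2549DECOMP

set_option autoImplicit false
set_option linter.unusedSectionVars false
set_option linter.unusedVariables false
open scoped Matrix

/-! S2549 piece USTEP (driver helper21): an `F`-side unitriangular isometry of the minus-type form is a
product of Siegel transformations. -/

namespace Cfsg.Agent.S2549P

open Cfsg.Agent.MatBN Cfsg.Agent.Helper28.Spin Cfsg.Agent.Helper28.Sg Cfsg.Agent.Helper12.OrthGen

variable {F : Type*} [Field F] {a b : F}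

namespace USTEP

/-- `x ∈ span {e_l : l < i}`, in coordinates -/
def Es (m i : ℕ) (x : Idx m → F) : Prop :=
  (∀ l : Fin m, i ≤ l.val → x (.inl (.inl l)) = 0) ∧ (∀ l : Fin m, x (.inl (.inr l)) = 0) ∧
    ∀ j : Fin 2, x (.inr j) = 0

/-- the vectors `z₁, z₂` -/
def zV (m : ℕ) (j : Fin 2) : Idx m → F := Pi.single (.inr j) 1

theorem Es_zero (m i : ℕ) : Es m i (0 : Idx m → F) :=
  ⟨fun _ _ => rfl, fun _ => rfl, fun _ => rfl⟩

theorem Es.add_smul_e {m i : ℕ} {x : Idx m → F} (hx : Es m i x) (k : Fin m) (hk : k.val < i) (c : F) :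
    Es m i (x + c • eV m k) := by
  refine ⟨fun l hl => ?_, fun l => ?_, fun j => ?_⟩
  · have : l ≠ k := by
      rintro rfl; omega
    simp [eV, hx.1 l hl, this]
  · simp [eV, hx.2.1 l]
  · simp [eV, hx.2.2 j]

theorem B_e (m : ℕ) (l : Fin m) (x : Idx m → F) :
    B (QfMinus m F a b) (eV m l) x = x (.inl (.inr l)) :=
  Cfsg.Agent.Helper28.Sg.polar_single_left (Cfsg.Agent.S2615.hypPair_minus m a b l) x

theorem B_f (m : ℕ) (l : Fin m) (x : Idx m → F) :
    B (QfMinus m F a b) (fV m l) x = x (.inl (.inl l)) :=
  Cfsg.Agent.Helper28.Sg.polar_single_right (Cfsg.Agent.S2615.hypPair_minus m a b l) x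

theorem Q_e (m : ℕ) (l : Fin m) : QfMinus m F a b (eV m l) = 0 :=
  Cfsg.Agent.Helper28.Sg.Q_single_left (Cfsg.Agent.S2615.hypPair_minus m a b l)

theorem Q_f (m : ℕ) (l : Fin m) : QfMinus m F a b (fV m l) = 0 :=
  Cfsg.Agent.Helper28.Sg.Q_single_right (Cfsg.Agent.S2615.hypPair_minus m a b l)

/-- unitriangularity in vector form -/
def UTv (m : ℕ) (u : ↥(Cfsg.isometryGroup F ⇑(QfMinus m F a b))) : Prop :=
  (∀ i : Fin m, Es m i.val (mt (QfMinus m F a b) u *ᵥ eV m i - eV m i)) ∧
    ∀ j : Fin 2, Es m m (mt (QfMinus m F a b) u *ᵥ zV m j - zV m j)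

theorem UTv_of_UT (m : ℕ) (u : ↥(Cfsg.isometryGroup F ⇑(QfMinus m F a b)))
    (hu : UT m ((u : Matrix.GeneralLinearGroup (Idx m) F) : Matrix (Idx m) (Idx m) F)) : UTv m u := by
  obtain ⟨h1, h2⟩ := hu
  constructor
  · intro i
    obtain ⟨hd, ho⟩ := h1 i
    have hcol : ∀ r, (mt (QfMinus m F a b) u *ᵥ eV m i - eV m i : Idx m → F) r =
        mt (QfMinus m F a b) u r (.inl (.inl i)) - (if r = .inl (.inl i) then 1 else 0) := by
      intro r
      simp [eV, Pi.single_apply]
    refine ⟨fun l hl => ?_, fun l => ?_, fun j => ?_⟩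
    · rw [hcol]
      by_cases hli : l = i
      · subst hli
        simp [hd]
      · rw [if_neg (by simpa using hli), sub_zero]
        by_contra hne
        obtain ⟨i', hi', hlt⟩ := ho _ (by simpa using hli) hne
        simp only [Sum.inl.injEq] at hi'
        subst hi'
        have : l.val < i.val := hlt
        omega
    · rw [hcol, if_neg (by simp), sub_zero]
      by_contra hne
      obtain ⟨i', hi', hlt⟩ := ho _ (by simp) hne
      simp at hi'
    · rw [hcol, if_neg (by simp), sub_zero]
      by_contra hne
      obtain ⟨i', hi', hlt⟩ := ho _ (by simp) hne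
      simp at hi'
  · intro j
    obtain ⟨hd, ho⟩ := h2 j
    have hcol : ∀ r, (mt (QfMinus m F a b) u *ᵥ zV m j - zV m j : Idx m → F) r =
        mt (QfMinus m F a b) u r (.inr j) - (if r = .inr j then 1 else 0) := by
      intro r
      simp [zV, Pi.single_apply]
    refine ⟨fun l hl => ?_, fun l => ?_, fun j' => ?_⟩
    · exact absurd l.2 (by omega)
    · rw [hcol, if_neg (by simp), sub_zero]
      by_contra hne
      obtain ⟨i', hi'⟩ := ho _ (by simp) hne
      simp at hi'
    · rw [hcol]
      by_cases hjj : j' = j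
      · subst hjj
        simp [hd]
      · rw [if_neg (by simpa using hjj), sub_zero]
        by_contra hne
        obtain ⟨i', hi'⟩ := ho _ (by simpa using hjj) hne
        simp at hi'

/-- the isometry group of `QfMinus` (definitionally `OG m F a b`) -/
abbrev OQt (m : ℕ) (a b : F) : Type _ := ↥(Cfsg.isometryGroup F ⇑(QfMinus m F a b))

section main

variable {m : ℕ}

local notation "Qm" => (QfMinus m F a b)

local notation "OQ" => (OQt m a b)

theorem B_ee (l l' : Fin m) : B Qm (eV m l) (eV m l') = 0 := by
  rw [B_e]; simp [eV]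

theorem B_ff (l l' : Fin m) : B Qm (fV m l) (fV m l') = 0 := by
  rw [B_f]; simp [fV]

theorem B_ef (l l' : Fin m) : B Qm (eV m l) (fV m l') = if l' = l then 1 else 0 := by
  rw [B_e]; simp [fV, Pi.single_apply, eq_comm]

theorem B_fe (l l' : Fin m) : B Qm (fV m l) (eV m l') = if l' = l then 1 else 0 := by
  rw [B_f]; simp [eV, Pi.single_apply, eq_comm]

theorem B_ez (l : Fin m) (j : Fin 2) : B Qm (eV m l) (zV m j) = 0 := by
  rw [B_e]; simp [zV]

theorem eq_one_of_fix (u : OQ) (he : ∀ i, mt Qm u *ᵥ eV m i = eV m i)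
    (hf : ∀ i, mt Qm u *ᵥ fV m i = fV m i) (hz : ∀ j, mt Qm u *ᵥ zV m j = zV m j) : u = 1 := by
  apply O_ext Qm
  intro x
  rw [mt_one_mulVec]
  have : mt Qm u = 1 := by
    ext r c
    have hc : mt Qm u *ᵥ Pi.single c 1 = Pi.single c 1 := by
      rcases c with (c | c) | c
      · exact he c
      · exact hf c
      · exact hz c
    have h1 := congrFun hc r
    rw [Matrix.mulVec_single_one] at h1
    rw [Matrix.one_apply]
    simpa [Pi.single_apply] using h1
  rw [this, Matrix.one_mulVec]

/-- if `u` fixes `f_l` then `u x - x` has no `e_l`-coordinate -/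
theorem diff_coord_e (u : OQ) (l : Fin m) (hl : mt Qm u *ᵥ fV m l = fV m l) (x : Idx m → F) :
    (mt Qm u *ᵥ x - x : Idx m → F) (.inl (.inl l)) = 0 := by
  rw [← B_f (a := a) (b := b) m l (mt Qm u *ᵥ x - x)]
  show QuadraticMap.polar ⇑Qm (fV m l) (mt Qm u *ᵥ x - x) = 0
  rw [QuadraticMap.polar_sub_right]
  have h1 : QuadraticMap.polar ⇑Qm (fV m l) (mt Qm u *ᵥ x) = QuadraticMap.polar ⇑Qm (fV m l) x := by
    conv_lhs => rw [← hl]
    exact B_isom Qm u _ _
  rw [h1, sub_self]

theorem mem_S_aux : ∀ (d k : ℕ), k + d = m → ∀ u : OQ, UTv m u →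
    (∀ i : Fin m, i.val < k → mt Qm u *ᵥ eV m i = eV m i ∧ mt Qm u *ᵥ fV m i = fV m i) →
    u ∈ S Qm := by
  intro d
  induction d with
  | zero =>
    intro k hk u hu hfix
    have hkm : k = m := by omega
    have hlt : ∀ i : Fin m, i.val < k := fun i => by have := i.2; omega
    have : u = 1 := by
      apply eq_one_of_fix
      · intro i; exact (hfix i (hlt i)).1
      · intro i; exact (hfix i (hlt i)).2
      · intro j
        have hd := hu.2 j
        have h0 : (mt Qm u *ᵥ zV m j - zV m j : Idx m → F) = 0 := by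
          funext r
          rcases r with (l | l) | j'
          · exact diff_coord_e u l (hfix l (hlt l)).2 _
          · exact hd.2.1 l
          · exact hd.2.2 j'
        exact sub_eq_zero.mp h0
    rw [this]; exact one_mem _
  | succ d ih =>
    intro k hk u hu hfix
    have hkm : k < m := by omega
    obtain ⟨kk, hkk⟩ : ∃ kk : Fin m, kk.val = k := ⟨⟨k, hkm⟩, rfl⟩
    -- (1) `u e_k = e_k`
    have hek : mt Qm u *ᵥ eV m kk = eV m kk := by
      have hd := hu.1 kk
      have h0 : (mt Qm u *ᵥ eV m kk - eV m kk : Idx m → F) = 0 := by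
        funext r
        rcases r with (l | l) | j'
        · by_cases hl : l.val < k
          · exact diff_coord_e u l (hfix l hl).2 _
          · exact hd.1 l (by omega)
        · exact hd.2.1 l
        · exact hd.2.2 j'
      exact sub_eq_zero.mp h0
    -- (2) the Siegel transformation
    obtain ⟨w, hw⟩ : ∃ w, mt Qm u *ᵥ fV m kk = w := ⟨_, rfl⟩
    obtain ⟨α, hα⟩ : ∃ α, B Qm (fV m kk) w = α := ⟨_, rfl⟩
    obtain ⟨y, hy⟩ : ∃ y : Idx m → F, y = w - fV m kk - α • eV m kk := ⟨_, rfl⟩
    have hQw : Qm w = 0 := by
      rw [← hw, isom_apply]; exact Q_f m kk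
    have hBew : B Qm (eV m kk) w = 1 := by
      rw [← hw]
      conv_lhs => rw [← hek]
      rw [B_isom, B_ef, if_pos rfl]
    have hBee := B_ee (a := a) (b := b) kk kk
    have hBef := B_ef (a := a) (b := b) kk kk
    have hBfe := B_fe (a := a) (b := b) kk kk
    have hBff := B_ff (a := a) (b := b) kk kk
    rw [if_pos rfl] at hBef hBfe
    simp only [B] at hBee hBef hBfe hBff hBew hα
    have hey : B Qm (eV m kk) y = 0 := by
      simp only [hy, B, QuadraticMap.polar_sub_right, QuadraticMap.polar_smul_right, smul_eq_mul,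
        hBee, hBef, hBew]
      ring
    have hfy : B Qm (fV m kk) y = 0 := by
      simp only [hy, B, QuadraticMap.polar_sub_right, QuadraticMap.polar_smul_right, smul_eq_mul,
        hBfe, hBff, hα]
      ring
    have hQy : Qm y = -α := by
      have hwd : w = y + (fV m kk + α • eV m kk) := by rw [hy]; module
      have h1 : Qm w = Qm y + Qm (fV m kk + α • eV m kk) + B Qm y (fV m kk + α • eV m kk) :=
        by rw [hwd]; exact Q_add Qm _ _
      have h2 : Qm (fV m kk + α • eV m kk) = α := by
        rw [Q_add, Q_smul, Q_e, Q_f]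
        show 0 + α * α * 0 + QuadraticMap.polar ⇑Qm (fV m kk) (α • eV m kk) = α
        rw [QuadraticMap.polar_smul_right, hBfe]
        simp
      have h3 : B Qm y (fV m kk + α • eV m kk) = 0 := by
        apply B_add_right_zero
        · rw [B_comm]; exact hfy
        · apply B_smul_right_zero
          rw [B_comm]; exact hey
      rw [h2, h3, hQw] at h1
      linear_combination -h1
    obtain ⟨E, hE⟩ : ∃ E, E = siegO Qm (eV m kk) y (Q_e m kk) hey := ⟨_, rfl⟩
    have hES : E ∈ S Qm := by rw [hE]; exact siegO_mem_S Qm _ _ _ _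
    have hEf : mt Qm E *ᵥ fV m kk = w := by
      have hyf : B Qm y (fV m kk) = 0 := by rw [B_comm]; exact hfy
      simp only [B] at hyf
      rw [hE, siegO_mulVec]
      simp only [B, hBef, hyf, hQy]
      rw [hy]; module
    -- `E⁻¹` on vectors orthogonal to `e_k`
    have hEinv : ∀ x : Idx m → F, B Qm (eV m kk) x = 0 →
        mt Qm E⁻¹ *ᵥ x = x + B Qm y x • eV m kk := by
      intro x hx
      have hey' : B Qm (eV m kk) (-y) = 0 := by rw [B_neg_right, hey, neg_zero]
      rw [hE, siegO_inv Qm (Q_e m kk) hey hey', siegO_mulVec, hx]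
      have : B Qm (-y) x = - B Qm y x := by
        show QuadraticMap.polar ⇑Qm (-y) x = - QuadraticMap.polar ⇑Qm y x
        rw [QuadraticMap.polar_neg_left]
      rw [this]
      simp
    have hEfix : ∀ x : Idx m → F, B Qm (eV m kk) x = 0 → B Qm y x = 0 → mt Qm E⁻¹ *ᵥ x = x := by
      intro x h1 h2
      rw [hEinv x h1, h2, zero_smul, add_zero]
    -- orthogonality of `y` to the earlier pairs
    have hye : ∀ i : Fin m, i.val < k → B Qm y (eV m i) = 0 := by
      intro i hi
      have hik : i ≠ kk := by
        intro h; rw [h] at hi; omega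
      have h1 : B Qm (eV m i) w = 0 := by
        rw [← hw]
        conv_lhs => rw [← (hfix i hi).1]
        rw [B_isom, B_ef, if_neg (Ne.symm hik)]
      have h2 := B_ef (a := a) (b := b) i kk
      rw [if_neg (Ne.symm hik)] at h2
      have h3 := B_ee (a := a) (b := b) i kk
      rw [B_comm]
      simp only [B] at h1 h2 h3
      simp only [hy, B, QuadraticMap.polar_sub_right, QuadraticMap.polar_smul_right, smul_eq_mul,
        h1, h2, h3]
      ring
    have hyf : ∀ i : Fin m, i.val < k → B Qm y (fV m i) = 0 := by
      intro i hi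
      have hik : i ≠ kk := by
        intro h; rw [h] at hi; omega
      have h1 : B Qm (fV m i) w = 0 := by
        rw [← hw]
        conv_lhs => rw [← (hfix i hi).2]
        rw [B_isom, B_ff]
      have h2 := B_ff (a := a) (b := b) i kk
      have h3 := B_fe (a := a) (b := b) i kk
      rw [if_neg (Ne.symm hik)] at h3
      rw [B_comm]
      simp only [B] at h1 h2 h3
      simp only [hy, B, QuadraticMap.polar_sub_right, QuadraticMap.polar_smul_right, smul_eq_mul,
        h1, h2, h3]
      ring
    -- (3) the new element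
    have hu'S : E⁻¹ * u ∈ S Qm := by
      apply ih (k + 1) (by omega)
      · -- UTv
        constructor
        · intro i
          rw [mt_mul_mulVec]
          by_cases hik : i.val ≤ k
          · have hui : mt Qm u *ᵥ eV m i = eV m i := by
              rcases Nat.lt_or_eq_of_le hik with h | h
              · exact (hfix i h).1
              · have : i = kk := Fin.ext (by omega)
                rw [this]; exact hek
            rw [hui]
            have : mt Qm E⁻¹ *ᵥ eV m i = eV m i := by
              apply hEfix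
              · exact B_ee kk i
              · rcases Nat.lt_or_eq_of_le hik with h | h
                · exact hye i h
                · have : i = kk := Fin.ext (by omega)
                  rw [this, B_comm]; exact hey
            rw [this, sub_self]
            exact Es_zero m _
          · have hB : B Qm (eV m kk) (mt Qm u *ᵥ eV m i) = 0 := by
              conv_lhs => rw [← hek]
              rw [B_isom]; exact B_ee kk i
            rw [hEinv _ hB]
            have : mt Qm u *ᵥ eV m i + B Qm y (mt Qm u *ᵥ eV m i) • eV m kk - eV m i =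
                (mt Qm u *ᵥ eV m i - eV m i) + B Qm y (mt Qm u *ᵥ eV m i) • eV m kk := by
              abel
            rw [this]
            exact (hu.1 i).add_smul_e kk (by omega) _
        · intro j
          rw [mt_mul_mulVec]
          have hB : B Qm (eV m kk) (mt Qm u *ᵥ zV m j) = 0 := by
            conv_lhs => rw [← hek]
            rw [B_isom]; exact B_ez kk j
          rw [hEinv _ hB]
          have : mt Qm u *ᵥ zV m j + B Qm y (mt Qm u *ᵥ zV m j) • eV m kk - zV m j =
              (mt Qm u *ᵥ zV m j - zV m j) + B Qm y (mt Qm u *ᵥ zV m j) • eV m kk := by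
            abel
          rw [this]
          exact (hu.2 j).add_smul_e kk (by omega) _
      · intro i hi
        rw [mt_mul_mulVec, mt_mul_mulVec]
        rcases Nat.lt_or_eq_of_le (Nat.le_of_lt_succ hi) with h | h
        · rw [(hfix i h).1, (hfix i h).2]
          have hik : i ≠ kk := by
            intro h'; rw [h'] at h; omega
          constructor
          · apply hEfix
            · exact B_ee kk i
            · exact hye i h
          · apply hEfix
            · rw [B_ef, if_neg hik]
            · exact hyf i h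
        · have : i = kk := Fin.ext (by omega)
          rw [this, hek, hw]
          constructor
          · apply hEfix
            · exact B_ee kk kk
            · rw [B_comm]; exact hey
          · rw [← hEf]; exact mt_inv_mulVec Qm E _
    have : u = E * (E⁻¹ * u) := by rw [mul_inv_cancel_left]
    rw [this]
    exact (S Qm).mul_mem hES hu'S

end main

end USTEP

open USTEP

/-- USTEP: `F`-side unitriangular isometries are products of Siegel transformations -/
theorem mem_S_of_UT (m : ℕ) (hab : ∀ z₁ z₂ : F, z₁ ^ 2 + a * z₁ * z₂ + b * z₂ ^ 2 = 0 → z₁ = 0 ∧ z₂ = 0)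
    (g : OG m F a b)
    (hg : UT m ((g : Matrix.GeneralLinearGroup (Idx m) F) : Matrix (Idx m) (Idx m) F)) :
    g ∈ (S (QfMinus m F a b) : Subgroup (OG m F a b)) :=
  mem_S_aux (m := m) m 0 (by omega) g (UTv_of_UT m g hg) (fun i hi => absurd hi (by omega))

end Cfsg.Agent.S2549P
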