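import Mathlib
import Cfsg.Agent.Helper8.MatBNDefs
import Cfsg.Agent.Helper8.S2546Defs
import Cfsg.Agent.Helper23.S2546MONALG
import Cfsg.Agent.Helper21.MatBNW
import Cfsg.Agent.Helper21.S2549Defs
import Cfsg.Agent.Helper1.S2549SLEOMEGA
import Cfsg.Agent.Helper11.S2549HD
import Cfsg.Agent.Helper15.S2549COLFRAME
import Cfsg.Agent.Helper15.S2549PRES
import Cfsg.Agent.Helper16.S2549HAL
import Cfsg.Agent.Helper16.S2549HALAST
import Cfsg.Agent.Helper17.S2549SIEGTRI
import Cfsg.Agent.Helper18.S2549DIAG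
import Cfsg.Agent.Helper18.S2549MONREV
import Cfsg.Agent.Helper18.S2549OPPVAN
import Cfsg.Agent.Helper18.S2549PRESJ
import Cfsg.Agent.Helper18.S2549REFL
import Cfsg.Agent.Helper19.S2549ENTRY
import Cfsg.Agent.Helper20.S2549DICHM
import Cfsg.Agent.Helper20.S2549HE
import Cfsg.Agent.Helper20.S2549SUPP
import Cfsg.Agent.Helper20.S2549YLOW
import Cfsg.Agent.Helper21.S2549DECOMP
import Cfsg.Agent.Helper21.S2549USTEP
import Cfsg.Agent.Helper24.S2549IDX2
import Cfsg.Agent.Helper24.S2549MONCLOS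
import Cfsg.Agent.Helper24.S2549PERMW
import Cfsg.Agent.Helper24.S2549TAU
import Cfsg.Agent.Helper24.S2549W0
import Cfsg.Agent.Helper26.S2549EXTSC
import Cfsg.Agent.Helper26.S2549FIELD
import Cfsg.Agent.Helper3.S2549SMEM
import Cfsg.Agent.Helper3.S2549XMEM
import Cfsg.Agent.Helper7.S2549DESCENT
import Cfsg.Agent.Helper7.S2549QJCOORD
import Cfsg.Agent.Helper7.S2549RAT
import Cfsg.Agent.Helper7.S2549RHOINJ
import Cfsg.Agent.Helper8.S2549DIAGCASE
import Cfsg.Agent.Helper8.S2549UTOFUNI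
import Cfsg.Agent.Helper17.S2549LOWG1
import Cfsg.Agent.Helper17.S2549SLEG1

set_option autoImplicit false
open scoped Matrix

/-! S2549 piece DATA (driver helper21): assembly of the `MatBNW.DataW` of the group `G₁ ≤ O⁻_{2m+2}(F)`. -/

namespace Cfsg.Agent.S2549P

open Cfsg.Agent.MatBN Cfsg.Agent.MatBNW

variable {F : Type*} [Field F] {a b : F} {K : Type*} [Field K]

namespace DATA

variable (E : QExt F a b K) (m : ℕ)

theorem rho1_injective : Function.Injective (rho1 E m) := by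
  intro x y h
  apply Subtype.ext
  exact rho_injective E m h

theorem rho1_mul_inv (g : G1 E m) : rho1 E m g * rho1 E m g⁻¹ = 1 := by
  rw [← map_mul, mul_inv_cancel, map_one]

theorem rho1_inv_mul (g : G1 E m) : rho1 E m g⁻¹ * rho1 E m g = 1 := by
  rw [← map_mul, inv_mul_cancel, map_one]

theorem presQ_rho1 (g : G1 E m) : PresQ (2 * m + 2) (rho1 E m g) := presQ_rho E m g.1

theorem rat_rho1 (g : G1 E m) : Rat E.σ m (rho1 E m g) := rat_rho E m g.1

/-- a triangular rational isometry is in `G₁` -/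
theorem exists_G1_of_tri (M : Matrix (Fin (2 * m + 2)) (Fin (2 * m + 2)) K)
    (hP : PresQ (2 * m + 2) M) (hR : Rat E.σ m M) (hT : IsTri M) : ∃ x : G1 E m, rho1 E m x = M := by
  obtain ⟨g, hg⟩ := exists_of_pres E m M hP hR
  refine ⟨⟨g, Subgroup.subset_closure (Or.inl ?_)⟩, hg⟩
  show IsTri (rho E m g)
  rw [hg]; exact hT

theorem isUni_of_mem_XM (j : ℕ) (hj : j < m) (M : Matrix (Fin (2 * m + 2)) (Fin (2 * m + 2)) K)
    (hM : M ∈ XM E m j) : IsUni M := by
  obtain ⟨h1, h2⟩ := supp_XM E m j hj M hM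
  refine ⟨?_, h1⟩
  intro r c hcr
  by_contra hne
  have := (h2 r c hcr.ne' hne).1
  exact absurd this (not_lt.mpr hcr.le)

theorem pres_of_mem_XM (j : ℕ) (hj : j < m) (M : Matrix (Fin (2 * m + 2)) (Fin (2 * m + 2)) K)
    (hM : M ∈ XM E m j) : PresQ (2 * m + 2) M ∧ Rat E.σ m M := by
  unfold XM at hM
  by_cases h : j + 1 < m
  · rw [if_pos h] at hM
    obtain ⟨t, rfl⟩ := hM
    exact pres_xLin E.σ m j h (E.inc t) (E.hσinc t)
  · rw [if_neg h] at hM
    obtain ⟨t, rfl⟩ := hM
    exact pres_xLast E.σ E.hσσ m (by omega) t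

theorem exists_X1 (j : ℕ) (hj : j < m) (M : Matrix (Fin (2 * m + 2)) (Fin (2 * m + 2)) K)
    (hM : M ∈ XM E m j) : ∃ x : G1 E m, x ∈ X1 E m j ∧ rho1 E m x = M := by
  obtain ⟨hP, hR⟩ := pres_of_mem_XM E m j hj M hM
  obtain ⟨x, hx⟩ := exists_G1_of_tri E m M hP hR (isUni_of_mem_XM E m j hj M hM).1
  refine ⟨x, ?_, hx⟩
  show rho1 E m x ∈ XM E m j
  rw [hx]; exact hM

theorem xLin_zero (j : ℕ) : xLin m j (0 : K) = 1 := by
  unfold xLin Cfsg.Agent.S2546P.xL
  simp

theorem xLast_zero (σ : K →+* K) : xLast σ m (0 : K) = 1 := by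
  unfold xLast
  simp

/-- uniqueness of a two-sided inverse -/
theorem inv_unique {n : ℕ} {A B C : Matrix (Fin n) (Fin n) K} (h1 : A * B = 1) (h2 : C * A = 1) :
    B = C := by
  calc B = (C * A) * B := by rw [h2, Matrix.one_mul]
    _ = C * (A * B) := by rw [Matrix.mul_assoc]
    _ = C := by rw [h1, Matrix.mul_one]

theorem rho1_inv_lin (j : ℕ) (hj : j + 1 < m) (x : G1 E m) (t : K) (hx : rho1 E m x = xLin m j t) :
    rho1 E m x⁻¹ = xLin m j (-t) := by
  apply inv_unique (rho1_mul_inv E m x)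
  rw [hx, xLin_add m j hj, neg_add_cancel, xLin_zero]

theorem rho1_inv_last (hm : 1 ≤ m) (x : G1 E m) (t : K) (hx : rho1 E m x = xLast E.σ m t) :
    rho1 E m x⁻¹ = xLast E.σ m (-t) := by
  apply inv_unique (rho1_mul_inv E m x)
  rw [hx, xLast_add E.σ m hm, neg_add_cancel, xLast_zero]

/-- cancel an invertible factor on the right -/
theorem eq_of_mul_right {n : ℕ} {A B C D : Matrix (Fin n) (Fin n) K} (h : A * C = B * C)
    (hC : C * D = 1) : A = B := by
  calc A = A * (C * D) := by rw [hC, Matrix.mul_one]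
    _ = (A * C) * D := by rw [Matrix.mul_assoc]
    _ = (B * C) * D := by rw [h]
    _ = B * (C * D) := by rw [Matrix.mul_assoc]
    _ = B := by rw [hC, Matrix.mul_one]

end DATA

open DATA

theorem exists_dataW (E : QExt F a b K) (m : ℕ) :
    ∃ D : DataW (G1 E m) K (2 * m + 2) m, D.ρ = rho1 E m := by
  -- the lifts of the simple reflections
  have hs : ∀ j : Fin m, ∃ s : G1 E m, rho1 E m s = sM m j := by
    intro j
    obtain ⟨hP, hR, -⟩ := pres_sM (K := K) E.σ m j j.2
    obtain ⟨g, hg⟩ := exists_of_pres E m (sM m j) hP hR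
    exact ⟨⟨g, Subgroup.subset_closure (Or.inr ⟨j, j.2, hg⟩)⟩, hg⟩
  choose s hs1 using hs
  have hs2 : ∀ j : Fin m, Mon (rho1 E m (s j)) (tauM m j) := by
    intro j
    rw [hs1 j]
    exact (pres_sM (K := K) E.σ m j j.2).2.2
  have hsN : ∀ j : Fin m, sM m j * rho1 E m (s j)⁻¹ = (1 : Matrix _ _ K) := by
    intro j
    rw [← hs1 j]
    exact rho1_mul_inv E m (s j)
  -- the longest element
  obtain ⟨n₀, hn₀, hmon₀⟩ : ∃ n₀ ∈ Subgroup.closure (Set.range s), Mon (rho1 E m n₀) (w0 m) := by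
    apply exists_mon_of_mem_closure (rho1 E m) s (fun j : Fin m => tauM m j) hs2
    have h1 := w0_mem_closure m
    refine Subgroup.closure_mono ?_ h1
    rintro π ⟨j, hj, rfl⟩
    exact ⟨⟨j, hj⟩, rfl⟩
  have hw0inv : (w0 m)⁻¹ = w0 m := by
    rw [inv_eq_iff_mul_eq_one]
    exact w0_sq m
  have hcase : ∀ j : Fin m, ¬ (j : ℕ) + 1 < m → (j : ℕ) = m - 1 := by
    intro j h
    have := j.2
    omega
  refine ⟨{ ρ := rho1 E m
            ρ_inj := rho1_injective E m
            s := s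
            τ := fun j => tauM m j
            X := fun j => X1 E m j
            n₀ := n₀
            mon_s := hs2
            τ_sq := fun j => tauM_sq m j
            τ_inj := ?_
            X_uni := fun j x hx => isUni_of_mem_XM E m j j.2 _ hx
            Y_low := ?_
            X_ne := ?_
            ha := ?_
            hd := ?_
            he := ?_
            gen := ?_
            diag := ?_
            n₀_mem := hn₀
            n₀_opp := ?_
            n₀_low := ?_ }, rfl⟩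
  · intro j j' h
    exact Fin.ext (tauM_inj m j.2 j'.2 h)
  · -- Y_low
    intro j x hx
    rw [map_mul, map_mul, hs1 j]
    exact ylow_M E m j j.2 _ hx _ (hsN j)
  · -- X_ne
    intro j
    obtain ⟨M, hM, hM1⟩ := XM_ne_one E m j j.2
    obtain ⟨x, hxX, hx⟩ := exists_X1 E m j j.2 M hM
    refine ⟨x, hxX, ?_⟩
    intro h
    apply hM1
    rw [← hx, h, map_one]
  · -- ha
    intro j g hg
    by_cases h : (j : ℕ) + 1 < m
    · obtain ⟨t, ht⟩ := ha_lin E m j h (rho1 E m g) (presQ_rho1 E m g) (rat_rho1 E m g) hg _ (hsN j)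
      have hmem : xLin m j (E.inc t) ∈ XM E m j := by
        unfold XM; rw [if_pos h]; exact ⟨t, rfl⟩
      obtain ⟨x, hxX, hx⟩ := exists_X1 E m j j.2 _ hmem
      refine ⟨x, hxX, ?_⟩
      rw [map_mul, map_mul, map_mul, hs1 j, rho1_inv_lin E m j h x _ hx]
      exact ht
    · have hj := hcase j h
      have hm : 1 ≤ m := by have := j.2; omega
      have hsN' : sM m (m - 1) * rho1 E m (s j)⁻¹ = (1 : Matrix _ _ K) := by
        rw [← hj]; exact hsN j
      obtain ⟨t, ht⟩ := ha_last E m hm (rho1 E m g) (presQ_rho1 E m g) (rat_rho1 E m g) hg _ hsN'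
      have hmem : xLast E.σ m t ∈ XM E m j := by
        unfold XM; rw [if_neg h]; exact ⟨t, rfl⟩
      obtain ⟨x, hxX, hx⟩ := exists_X1 E m j j.2 _ hmem
      refine ⟨x, hxX, ?_⟩
      rw [map_mul, map_mul, map_mul, hs1 j, rho1_inv_last E m hm x _ hx, hj]
      exact ht
  · -- hd
    intro j x hx hx1
    by_cases h : (j : ℕ) + 1 < m
    · have hx' : rho1 E m x ∈ XM E m j := hx
      unfold XM at hx'
      rw [if_pos h] at hx'
      obtain ⟨t, ht⟩ := hx'
      have ht0 : E.inc t ≠ 0 := by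
        intro h0
        apply hx1
        apply rho1_injective E m
        rw [ht, h0, xLin_zero, map_one]
      obtain ⟨B₁, hB₁, hid⟩ := hd_lin (K := K) m j h (E.inc t) ht0 _ (hsN j)
      have hmem : xLin m j (E.inc t)⁻¹ ∈ XM E m j := by
        unfold XM; rw [if_pos h]; exact ⟨t⁻¹, by rw [map_inv₀]⟩
      obtain ⟨x', hx'X, hx'⟩ := exists_X1 E m j j.2 _ hmem
      refine ⟨s j * x * (s j * x' * (s j)⁻¹)⁻¹, ?_, x', hx'X, by group⟩
      have e1 : rho1 E m (s j * x * (s j * x' * (s j)⁻¹)⁻¹) * rho1 E m (s j * x' * (s j)⁻¹) =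
          B₁ * rho1 E m (s j * x' * (s j)⁻¹) := by
        rw [← map_mul]
        have : s j * x * (s j * x' * (s j)⁻¹)⁻¹ * (s j * x' * (s j)⁻¹) = s j * x := by group
        rw [this, map_mul, map_mul (rho1 E m) (s j * x'), map_mul (rho1 E m) (s j), hs1 j, ht, hx']
        exact hid
      have e2 := eq_of_mul_right e1 (rho1_mul_inv E m _)
      rw [e2]
      exact hB₁
    · have hj := hcase j h
      have hm : 1 ≤ m := by have := j.2; omega
      have hsN' : sM m (m - 1) * rho1 E m (s j)⁻¹ = (1 : Matrix _ _ K) := by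
        rw [← hj]; exact hsN j
      have hx' : rho1 E m x ∈ XM E m j := hx
      unfold XM at hx'
      rw [if_neg h] at hx'
      obtain ⟨t, ht⟩ := hx'
      have ht0 : t ≠ 0 := by
        intro h0
        apply hx1
        apply rho1_injective E m
        rw [ht, h0, xLast_zero, map_one]
      obtain ⟨B₁, hB₁, hid⟩ := hd_last (K := K) E.σ E.hσσ m hm t ht0 _ hsN'
      have hmem : xLast E.σ m (-t⁻¹) ∈ XM E m j := by
        unfold XM; rw [if_neg h]; exact ⟨-t⁻¹, rfl⟩
      obtain ⟨x', hx'X, hx'⟩ := exists_X1 E m j j.2 _ hmem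
      refine ⟨s j * x * (s j * x' * (s j)⁻¹)⁻¹, ?_, x', hx'X, by group⟩
      have e1 : rho1 E m (s j * x * (s j * x' * (s j)⁻¹)⁻¹) * rho1 E m (s j * x' * (s j)⁻¹) =
          B₁ * rho1 E m (s j * x' * (s j)⁻¹) := by
        rw [← map_mul]
        have : s j * x * (s j * x' * (s j)⁻¹)⁻¹ * (s j * x' * (s j)⁻¹) = s j * x := by group
        rw [this, map_mul, map_mul (rho1 E m) (s j * x'), map_mul (rho1 E m) (s j), hs1 j, ht, hx', hj]
        exact hid
      have e2 := eq_of_mul_right e1 (rho1_mul_inv E m _)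
      rw [e2]
      exact hB₁
  · -- he
    intro j g π hg
    rcases he_M E m j j.2 (rho1 E m g) (rho1 E m g⁻¹) (rho1_mul_inv E m g) (presQ_rho1 E m g)
      (rat_rho1 E m g) π hg _ (hsN j) with h | h
    · left
      intro x hx
      rw [map_mul, map_mul]
      exact h _ hx
    · right
      intro x hx
      rw [map_mul, map_mul, map_mul, map_mul, hs1 j]
      exact h _ hx
  · -- gen
    intro g
    have hle : G1 E m ≤ (Subgroup.closure ({b : G1 E m | IsTri (rho1 E m b)} ∪ Set.range s)).map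
        (G1 E m).subtype := by
      unfold G1
      rw [Subgroup.closure_le]
      rintro x (hx | ⟨j, hj, hx⟩)
      · have hxG : x ∈ G1 E m := Subgroup.subset_closure (Or.inl hx)
        exact ⟨⟨x, hxG⟩, Subgroup.subset_closure (Or.inl hx), rfl⟩
      · refine ⟨s ⟨j, hj⟩, Subgroup.subset_closure (Or.inr ⟨⟨j, hj⟩, rfl⟩), ?_⟩
        apply rho_injective E m
        rw [hx]
        exact hs1 ⟨j, hj⟩
    obtain ⟨y, hy, hyg⟩ := hle g.2
    have : y = g := Subtype.ext hyg
    rw [← this]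
    exact hy
  · -- diag
    intro g hg
    obtain ⟨hP, hR⟩ := pres_diag E.σ m (rho1 E m g) (presQ_rho1 E m g) (rat_rho1 E m g) hg
    refine exists_G1_of_tri E m _ hP hR ?_
    intro r c hcr
    exact Matrix.diagonal_apply_ne _ hcr.ne'
  · -- n₀_opp
    apply opp_of_mon (rho1 E m) (rho1_injective E m) n₀ (w0 m) hmon₀
    intro r c hrc
    rw [hw0inv]
    rcases w0_rev m r c hrc with h | ⟨h1, h2⟩
    · exact Or.inl h
    · right
      intro g hg
      exact oppvan_tri m _ (presQ_rho1 E m g) hg r c h1 h2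
  · -- n₀_low
    apply low_of_mon (rho1 E m) n₀ (w0 m) hmon₀
    intro r c hrc
    rcases w0_rev m r c hrc with h | ⟨h1, h2⟩
    · exact Or.inl h
    · right
      intro g hg
      exact oppvan_low m _ (presQ_rho1 E m g) hg r c h1 h2

end Cfsg.Agent.S2549P
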