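import Mathlib
import Cfsg.Prelude.Def_FusionSystem
import Cfsg.Prelude.Def_KGroupFacts
import Cfsg.Agent.Helper7.S2647.Defs

/-! S2647 piece TRANS: transport of the hypotheses of FUSA along a group isomorphism. -/

set_option autoImplicit false
set_option linter.unusedSectionVars false
set_option linter.unusedVariables false

namespace Cfsg.Agent.S2647P

open Matrix Cfsg.Agent.Helper28.IsoTransport Cfsg.Agent.Helper28.Spin

variable {F : Type*} [Field F]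

namespace TRANS

/-- the three hypotheses (non-trivial, self-normalising, no strongly closed subgroups) pass to the image under an
isomorphism. -/
theorem map_props {G G' : Type*} [Group G] [Group G'] (e : G' ≃* G) (S₀ : Subgroup G')
    (h1 : S₀ ≠ ⊥)
    (hN : ∀ g : G', (∀ s ∈ S₀, g * s * g⁻¹ ∈ S₀) → g ∈ S₀)
    (hSC : ∀ T : Subgroup G', T ≤ S₀ →
      (∀ t ∈ T, ∀ g : G', g * t * g⁻¹ ∈ S₀ → g * t * g⁻¹ ∈ T) → T = ⊥ ∨ T = S₀) :
    S₀.map e.toMonoidHom ≠ ⊥ ∧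
      (∀ g : G, (∀ s ∈ S₀.map e.toMonoidHom, g * s * g⁻¹ ∈ S₀.map e.toMonoidHom) →
        g ∈ S₀.map e.toMonoidHom) ∧
      (∀ T : Subgroup G, T ≤ S₀.map e.toMonoidHom →
        (∀ t ∈ T, ∀ g : G, g * t * g⁻¹ ∈ S₀.map e.toMonoidHom → g * t * g⁻¹ ∈ T) →
        T = ⊥ ∨ T = S₀.map e.toMonoidHom) := by
  have hmem : ∀ x : G, x ∈ S₀.map e.toMonoidHom ↔ e.symm x ∈ S₀ := fun x =>
    Subgroup.mem_map_equiv
  have hmem' : ∀ y : G', e y ∈ S₀.map e.toMonoidHom ↔ y ∈ S₀ := by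
    intro y
    rw [hmem, MulEquiv.symm_apply_apply]
  refine ⟨?_, ?_, ?_⟩
  · intro hb
    apply h1
    rw [Subgroup.map_eq_bot_iff_of_injective _ e.injective] at hb
    exact hb
  · intro g hg
    rw [hmem]
    apply hN
    intro s hs
    have := hg (e s) ((hmem' s).2 hs)
    rw [hmem] at this
    simpa using this
  · intro T hT hsc
    have hT' : T.comap e.toMonoidHom ≤ S₀ := by
      intro y hy
      have : e y ∈ T := hy
      exact (hmem' y).1 (hT this)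
    have hTm : (T.comap e.toMonoidHom).map e.toMonoidHom = T :=
      Subgroup.map_comap_eq_self_of_surjective e.surjective T
    have hsc' : ∀ t ∈ T.comap e.toMonoidHom, ∀ g : G', g * t * g⁻¹ ∈ S₀ →
        g * t * g⁻¹ ∈ T.comap e.toMonoidHom := by
      intro t ht g hg
      show e (g * t * g⁻¹) ∈ T
      have e1 : e (g * t * g⁻¹) = e g * e t * (e g)⁻¹ := by
        rw [map_mul, map_mul, map_inv]
      rw [e1]
      apply hsc (e t) ht (e g)
      rw [← e1]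
      exact (hmem' _).2 hg
    rcases hSC (T.comap e.toMonoidHom) hT' hsc' with h | h
    · left
      rw [← hTm, h, Subgroup.map_bot]
    · right
      rw [← hTm, h]

end TRANS

theorem transport_equiv {G G' : Type*} [Group G] [Group G'] (e : G' ≃* G) (S₀ : Subgroup G')
    (hp : IsPGroup 2 ↥S₀) (h1 : S₀ ≠ ⊥)
    (hN : ∀ g : G', (∀ s ∈ S₀, g * s * g⁻¹ ∈ S₀) → g ∈ S₀)
    (hSC : ∀ T : Subgroup G', T ≤ S₀ →
      (∀ t ∈ T, ∀ g : G', g * t * g⁻¹ ∈ S₀ → g * t * g⁻¹ ∈ T) → T = ⊥ ∨ T = S₀) :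
    ∃ S₁ : Subgroup G, IsPGroup 2 ↥S₁ ∧ S₁ ≠ ⊥ ∧
      (∀ g : G, (∀ s ∈ S₁, g * s * g⁻¹ ∈ S₁) → g ∈ S₁) ∧
      (∀ T : Subgroup G, T ≤ S₁ →
        (∀ t ∈ T, ∀ g : G, g * t * g⁻¹ ∈ S₁ → g * t * g⁻¹ ∈ T) → T = ⊥ ∨ T = S₁) := by
  obtain ⟨a, b, c⟩ := TRANS.map_props e S₀ h1 hN hSC
  exact ⟨S₀.map e.toMonoidHom, hp.map _, a, b, c⟩

end Cfsg.Agent.S2647P
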