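import Mathlib
import Cfsg.Prelude.Def_FusionSystem
import Cfsg.Prelude.Def_KGroupFacts
import Cfsg.Agent.Helper7.S2647.Defs
import Cfsg.Agent.Helper21.S2647TRANS

/-! S2647 piece FUSA: a self-normalising `2`-subgroup is Sylow; transfer to every Sylow subgroup. -/

set_option autoImplicit false
set_option linter.unusedSectionVars false
set_option linter.unusedVariables false

namespace Cfsg.Agent.S2647P

open Matrix Cfsg.Agent.Helper28.IsoTransport Cfsg.Agent.Helper28.Spin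

variable {F : Type*} [Field F]

namespace FUSA

/-- a self-normalising `2`-subgroup of a finite group is a Sylow `2`-subgroup. -/
theorem eq_sylow {G : Type*} [Group G] [Finite G] (S₀ : Subgroup G) (hp : IsPGroup 2 ↥S₀)
    (hN : ∀ g : G, (∀ s ∈ S₀, g * s * g⁻¹ ∈ S₀) → g ∈ S₀) :
    ∃ P : Sylow 2 G, (P : Subgroup G) = S₀ := by
  have : Fact (Nat.Prime 2) := ⟨Nat.prime_two⟩
  obtain ⟨P, hP⟩ := hp.exists_le_sylow
  refine ⟨P, ?_⟩
  by_contra hne
  have hlt : S₀.subgroupOf (P : Subgroup G) < ⊤ := by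
    rw [lt_top_iff_ne_top]
    intro h
    rw [Subgroup.subgroupOf_eq_top] at h
    exact hne (le_antisymm h hP)
  have hnil : Group.IsNilpotent ↥(P : Subgroup G) := P.isPGroup'.isNilpotent
  have hnc := @Group.normalizerCondition_of_isNilpotent ↥(P : Subgroup G) _ hnil
  have hlt2 := hnc _ hlt
  obtain ⟨x, hxN, hx⟩ := SetLike.exists_of_lt hlt2
  apply hx
  rw [Subgroup.mem_subgroupOf]
  apply hN
  intro s hs
  have hsP : s ∈ (P : Subgroup G) := hP hs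
  have h1 : (⟨s, hsP⟩ : (P : Subgroup G)) ∈ S₀.subgroupOf (P : Subgroup G) := by
    rw [Subgroup.mem_subgroupOf]
    exact hs
  have h2 := (Subgroup.mem_normalizer_iff.1 hxN ⟨s, hsP⟩).1 h1
  rw [Subgroup.mem_subgroupOf] at h2
  simpa using h2

theorem coe_smul_eq_map {G : Type*} [Group G] (g : G) (P : Sylow 2 G) :
    ((g • P : Sylow 2 G) : Subgroup G) = (P : Subgroup G).map (MulAut.conj g).toMonoidHom := by
  ext x
  rw [Sylow.coe_subgroup_smul, Subgroup.mem_smul_pointwise_iff_exists, Subgroup.mem_map]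
  rfl

end FUSA

theorem transfer_to_sylow {G : Type*} [Group G] [Finite G] (S₀ : Subgroup G) (hp : IsPGroup 2 ↥S₀)
    (h1 : S₀ ≠ ⊥)
    (hN : ∀ g : G, (∀ s ∈ S₀, g * s * g⁻¹ ∈ S₀) → g ∈ S₀)
    (hSC : ∀ T : Subgroup G, T ≤ S₀ →
      (∀ t ∈ T, ∀ g : G, g * t * g⁻¹ ∈ S₀ → g * t * g⁻¹ ∈ T) → T = ⊥ ∨ T = S₀)
    (S : Sylow 2 G) :
    (S : Subgroup G) ≠ ⊥ ∧
    (∀ g : G, (∀ s ∈ (S : Subgroup G), g * s * g⁻¹ ∈ (S : Subgroup G)) → g ∈ (S : Subgroup G)) ∧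
    (∀ T : Subgroup G, T ≤ (S : Subgroup G) →
      (∀ t ∈ T, ∀ g : G, g * t * g⁻¹ ∈ (S : Subgroup G) → g * t * g⁻¹ ∈ T) →
      T = ⊥ ∨ T = (S : Subgroup G)) := by
  have : Fact (Nat.Prime 2) := ⟨Nat.prime_two⟩
  obtain ⟨P, hP⟩ := FUSA.eq_sylow S₀ hp hN
  obtain ⟨g, hg⟩ := MulAction.exists_smul_eq G P S
  have hS : (S : Subgroup G) = S₀.map (MulAut.conj g).toMonoidHom := by
    rw [← hg, FUSA.coe_smul_eq_map, hP]
  rw [hS]
  exact TRANS.map_props (MulAut.conj g) S₀ h1 hN hSC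

end Cfsg.Agent.S2647P
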