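import Mathlib
import Cfsg.Prelude.Def_FusionSystem
import Cfsg.Prelude.Def_KGroupFacts
import Cfsg.Agent.Helper7.S2647.Defs
import Cfsg.Agent.Helper25.PSLFusionA
import Cfsg.Agent.Helper25.FusionBGH1

/-! S2647 piece FUSB: `Aut_F(S) = Inn(S)`, no strongly closed subgroups, and simplicity, for a self-normalising Sylow
`2`-subgroup without strongly closed subgroups. -/

set_option autoImplicit false
set_option linter.unusedSectionVars false
set_option linter.unusedVariables false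

namespace Cfsg.Agent.S2647P

open Matrix Cfsg.Agent.Helper28.IsoTransport Cfsg.Agent.Helper28.Spin

variable {F : Type*} [Field F]

namespace FUSB

open Cfsg Cfsg.FusionSystem Cfsg.Agent.Helper25

theorem autGroup_eq {G : Type*} [Group G] [Finite G] (S : Sylow 2 G)
    (hN : ∀ g : G, (∀ s ∈ (S : Subgroup G), g * s * g⁻¹ ∈ (S : Subgroup G)) →
      g ∈ (S : Subgroup G)) :
    (Cfsg.groupFusionSystem (S : Subgroup G)).autGroup (S : Subgroup G) =
        Cfsg.Inn ↥(S : Subgroup G) := by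
  apply le_antisymm
  · intro α hα
    rw [mem_autGroup_iff _ le_rfl] at hα
    obtain ⟨-, -, g, hg⟩ := hα
    have hgS : g ∈ (S : Subgroup G) := by
      apply hN
      intro s hs
      have := hg ⟨s, hs⟩
      rw [← this]
      exact (α ⟨s, hs⟩).2
    refine ⟨⟨g, hgS⟩, ?_⟩
    ext x
    have := hg x
    simp only [MulAut.conj_apply]
    exact this.symm
  · exact inn_le_autGroup _ le_rfl

theorem stronglyClosed {G : Type*} [Group G] [Finite G] (S : Sylow 2 G)
    (hSC : ∀ T : Subgroup G, T ≤ (S : Subgroup G) →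
      (∀ t ∈ T, ∀ g : G, g * t * g⁻¹ ∈ (S : Subgroup G) → g * t * g⁻¹ ∈ T) →
      T = ⊥ ∨ T = (S : Subgroup G))
    (T : Subgroup G) (hT : (Cfsg.groupFusionSystem (S : Subgroup G)).StronglyClosed T) :
    T = ⊥ ∨ T = (S : Subgroup G) := by
  apply hSC T hT.1
  intro t ht g hg
  have hle : Subgroup.zpowers t ≤ T := (Subgroup.zpowers_le).mpr ht
  have hmem : conjHom (Subgroup.zpowers t) g ∈
      (groupFusionSystem (S : Subgroup G)).Hom (Subgroup.zpowers t) := by
    refine ⟨hle.trans hT.1, ?_, g, fun x => rfl⟩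
    intro x
    have h1 : Subgroup.zpowers t ≤ (S : Subgroup G).comap (MulAut.conj g).toMonoidHom := by
      rw [Subgroup.zpowers_le]
      exact hg
    exact h1 x.2
  exact hT.2 _ hle _ hmem ⟨t, Subgroup.mem_zpowers t⟩

end FUSB

theorem fusion_of_sylow {G : Type*} [Group G] [Finite G] (S : Sylow 2 G)
    (h1 : (S : Subgroup G) ≠ ⊥)
    (hN : ∀ g : G, (∀ s ∈ (S : Subgroup G), g * s * g⁻¹ ∈ (S : Subgroup G)) →
      g ∈ (S : Subgroup G))
    (hSC : ∀ T : Subgroup G, T ≤ (S : Subgroup G) →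
      (∀ t ∈ T, ∀ g : G, g * t * g⁻¹ ∈ (S : Subgroup G) → g * t * g⁻¹ ∈ T) →
      T = ⊥ ∨ T = (S : Subgroup G)) :
    (Cfsg.groupFusionSystem (S : Subgroup G)).autGroup (S : Subgroup G) =
        Cfsg.Inn ↥(S : Subgroup G) ∧
      (∀ T : Subgroup G, (Cfsg.groupFusionSystem (S : Subgroup G)).StronglyClosed T →
        T = ⊥ ∨ T = (S : Subgroup G)) ∧
      (Cfsg.groupFusionSystem (S : Subgroup G)).IsSimple 2 := by
  have : Fact (Nat.Prime 2) := ⟨Nat.prime_two⟩
  refine ⟨FUSB.autGroup_eq S hN, FUSB.stronglyClosed S hSC, ?_⟩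
  apply Cfsg.Agent.Helper25.groupFusionSystem_isSimple_of_centric_gen 2 S h1 hSC
  intro g hg
  apply Subgroup.subset_closure
  have hgS : g ∈ (S : Subgroup G) := by
    apply hN
    intro s hs
    exact (Subgroup.mem_normalizer_iff.1 hg s).1 hs
  refine ⟨hg, (S : Subgroup G), Cfsg.Agent.Helper25.isCentric_self, ?_⟩
  apply Subgroup.subset_closure
  refine ⟨hg, ?_⟩
  obtain ⟨k, hk⟩ := S.isPGroup' ⟨g, hgS⟩
  have hk' : g ^ 2 ^ k = 1 := by
    have := congrArg Subtype.val hk
    simpa using this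
  have hd : orderOf g ∣ 2 ^ k := orderOf_dvd_of_pow_eq_one hk'
  obtain ⟨j, -, hj⟩ := (Nat.dvd_prime_pow Nat.prime_two).1 hd
  exact ⟨j, hj⟩

end Cfsg.Agent.S2647P
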