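import Mathlib
import Cfsg.Prelude.Def_PLocal
import Cfsg.Agent.Helper28.S2768Defs
import Cfsg.Agent.Helper28.S2768DWV
import Cfsg.Agent.Helper28.S2768SJQ

set_option autoImplicit false

/-! # S2768/S2769 board, piece C2B (blueprint 5.11): `[W,S] ∩ Z(S) = [W,S] ∩ C_G(O_p(G))` is normal. -/

namespace Cfsg.Agent.S2768P

open Subgroup

variable {G : Type*} [Group G] [Finite G] {p : ℕ} [Fact p.Prime]

/-- C2B (S): 5.11, S2769 in the main case. -/
theorem C2B (S : Sylow p G) (M : Subgroup G) (hc : Ctx p S M) :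
    (⁅W (S : Subgroup G), (S : Subgroup G)⁆ ⊓ Z (S : Subgroup G)).Normal := by
  obtain ⟨-, -, -, -, hYn, hYW⟩ := DWV S M hc
  obtain ⟨hJQ, -, -, -, -⟩ := SJQ S M hc
  have hQn : (Cfsg.pCore p G).Normal := Cfsg.Agent.Helper14.pCore_normal p
  have hQS : Cfsg.pCore p G ≤ (S : Subgroup G) := le_sup_right.trans hJQ.le
  have hJS : J (S : Subgroup G) ≤ (S : Subgroup G) := le_sup_left.trans hJQ.le
  have key : ⁅W (S : Subgroup G), (S : Subgroup G)⁆ ⊓ Z (S : Subgroup G) =
      ⁅W (S : Subgroup G), (S : Subgroup G)⁆ ⊓ centralizer (Cfsg.pCore p G : Set G) := by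
    apply le_antisymm
    · intro y hy0
      obtain ⟨hy, hyZ⟩ := mem_inf.1 hy0
      obtain ⟨-, hyC⟩ := mem_inf.1 hyZ
      exact mem_inf.2 ⟨hy, centralizer_le (fun x hx => hQS hx) hyC⟩
    · intro y hy0
      obtain ⟨hy, hyQ⟩ := mem_inf.1 hy0
      have hyW : y ∈ J (S : Subgroup G) ⊓ centralizer (J (S : Subgroup G) : Set G) := hYW hy
      obtain ⟨hyJ, hyCJ⟩ := mem_inf.1 hyW
      have h1 : J (S : Subgroup G) ⊔ Cfsg.pCore p G ≤ centralizer ({y} : Set G) := by
        refine sup_le ?_ ?_
        · intro x hx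
          rw [mem_centralizer_iff]
          intro h hh
          rw [Set.mem_singleton_iff] at hh
          subst hh
          exact ((mem_centralizer_iff.1 hyCJ) x hx).symm
        · intro x hx
          rw [mem_centralizer_iff]
          intro h hh
          rw [Set.mem_singleton_iff] at hh
          subst hh
          exact ((mem_centralizer_iff.1 hyQ) x hx).symm
      have hyCS : y ∈ centralizer ((S : Subgroup G) : Set G) := by
        rw [mem_centralizer_iff]
        intro x hx
        have := mem_centralizer_iff.1 (h1 (hJQ.ge hx)) y (Set.mem_singleton y)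
        exact this.symm
      exact mem_inf.2 ⟨hy, mem_inf.2 ⟨hJS hyJ, hyCS⟩⟩
  rw [key]
  have := hYn
  have := hQn
  infer_instance

end Cfsg.Agent.S2768P
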