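import Mathlib
import Cfsg.Prelude.Def_LocalEven
import Cfsg.Prelude.Def_Amalgam

/-! s2806pieces CHARPN (helper21): the hypothesis of S2806 in relative form: a `p`-local `N_G(Z)` has
relative characteristic `p`. -/

set_option autoImplicit false

namespace Cfsg.Agent.S2806P

open Cfsg

variable {G : Type*} [Group G]

/-- the type-level form `C_H(O_p(H)) ≤ O_p(H)` gives the ambient form. -/
theorem CHARPN_aux_ambient {p : ℕ} {H : Subgroup G}
    (h : Subgroup.centralizer (pCore p ↥H : Set ↥H) ≤ pCore p ↥H) :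
    H ⊓ Subgroup.centralizer (pCoreOf p H : Set G) ≤ pCoreOf p H := by
  intro x hx
  obtain ⟨hxH, hxC⟩ := Subgroup.mem_inf.mp hx
  have hx' : (⟨x, hxH⟩ : ↥H) ∈ Subgroup.centralizer (pCore p ↥H : Set ↥H) := by
    rw [Subgroup.mem_centralizer_iff]
    intro y hy
    have hyG : (y : G) ∈ pCoreOf p H := ⟨y, hy, rfl⟩
    have := Subgroup.mem_centralizer_iff.mp hxC (y : G) hyG
    exact Subtype.ext this
  exact ⟨⟨x, hxH⟩, h hx', rfl⟩

variable [Finite G] {p : ℕ} [Fact p.Prime]

/-- CHARPN (S/M): the hypothesis of S2806 in relative form: a `p`-local `N_G(Z)` has relative characteristic `p`. -/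
theorem charP_normalizer (hH : Cfsg.IsOfLocalCharacteristic p G) {Z : Subgroup G}
    (hZ : IsPGroup p Z) (hne : Z ≠ ⊥) :
    Subgroup.normalizer (Z : Set G) ⊓
      Subgroup.centralizer (pCoreOf p (Subgroup.normalizer (Z : Set G)) : Set G) ≤
      pCoreOf p (Subgroup.normalizer (Z : Set G)) :=
  CHARPN_aux_ambient (hH.2 Z hZ hne)

end Cfsg.Agent.S2806P
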