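import Cfsg.Agent.S2855P.Defs

/-!
S2855 piece PROP: transport of `IsMaxOver` along conjugation by an element of `L`.
-/

set_option autoImplicit false
set_option linter.unusedSectionVars false

namespace Cfsg.Agent.S2855P

open Cfsg
open scoped commutatorElement

section Minimal

variable {H : Type*} [Group H] [Finite H] {p : ℕ} [Fact p.Prime]

namespace PROP

/-- the image of `M.subgroupOf E` under the isomorphism `E ≃ φ(E)` -/
theorem map_subgroupOf_equiv {H' : Type*} [Group H'] (φ : H →* H') (hφ : Function.Injective φ)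
    (E M : Subgroup H) (hME : M ≤ E) :
    (M.subgroupOf E).map (E.equivMapOfInjective φ hφ).toMonoidHom =
      (M.map φ).subgroupOf (E.map φ) := by
  ext x
  constructor
  · rintro ⟨y, hy, rfl⟩
    have hy' : y.1 ∈ M := Subgroup.mem_subgroupOf.mp hy
    rw [Subgroup.mem_subgroupOf]
    exact ⟨y.1, hy', (Subgroup.coe_equivMapOfInjective_apply E φ hφ y).symm⟩
  · intro hx
    rw [Subgroup.mem_subgroupOf] at hx
    obtain ⟨m, hm, hmx⟩ := hx
    refine ⟨⟨m, hME hm⟩, ?_, ?_⟩
    · show (⟨m, hME hm⟩ : ↥E) ∈ M.subgroupOf E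
      rw [Subgroup.mem_subgroupOf]
      exact hm
    · apply Subtype.ext
      show ((E.equivMapOfInjective φ hφ) ⟨m, hME hm⟩ : H') = x.1
      rw [Subgroup.coe_equivMapOfInjective_apply]
      exact hmx

end PROP

/-- piece PROP -/
theorem isMaxOver_map_conj (T L E M : Subgroup H) (hTL : T ≤ L) (h : H) (hh : h ∈ L)
    (hM : IsMaxOver T E M) (hLE : L ⊓ E ≤ M) :
    IsMaxOver T (E.map (MulAut.conj h).toMonoidHom) (M.map (MulAut.conj h).toMonoidHom) := by
  obtain ⟨hME, hco, hTE⟩ := hM
  have hinj : Function.Injective (MulAut.conj h).toMonoidHom := (MulAut.conj h).injective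
  refine ⟨Subgroup.map_mono hME, ?_, ?_⟩
  · rw [← PROP.map_subgroupOf_equiv _ hinj E M hME]
    exact Helper14.ThreeMin.isCoatom_map_of_mulEquiv _ _ hco
  · rintro t ⟨htT, htE⟩
    obtain ⟨e, heE, het⟩ := htE
    refine ⟨e, hLE ⟨?_, heE⟩, het⟩
    have h1 : e = h⁻¹ * t * h := by
      rw [← het]
      simp [MulAut.conj_apply, mul_assoc]
    rw [h1]
    exact L.mul_mem (L.mul_mem (L.inv_mem hh) (hTL htT)) hh

end Minimal

end Cfsg.Agent.S2855P
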