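import Cfsg.Agent.S2855P.Defs

/-!
S2855 piece RESBACK: `O^p(X)` for `X ≥ Q` is determined by `O^p` of the image of `X` modulo `Q`.
-/

set_option autoImplicit false
set_option linter.unusedSectionVars false

namespace Cfsg.Agent.S2855P

open Cfsg
open scoped commutatorElement

section General

variable {G : Type*} [Group G] [Finite G] {p : ℕ} [Fact p.Prime]

namespace RESBACK

theorem resOf_le_self (E : Subgroup G) : resOf p E ≤ E := by
  rw [resOf, Subgroup.closure_le]
  exact fun g hg => hg.1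

theorem resOf_le_of_map_eq (Q : Subgroup G) [Q.Normal] (X Y : Subgroup G) (hQY : Q ≤ Y)
    (h : resOf p (X.map (QuotientGroup.mk' Q)) = resOf p (Y.map (QuotientGroup.mk' Q))) :
    resOf p X ≤ resOf p Y := by
  have key : ∀ x : G, x ∈ X → Nat.Coprime (orderOf x) p → x ∈ resOf p Y := by
    intro x hxX hxp
    have h1 : (QuotientGroup.mk' Q x) ∈ resOf p (X.map (QuotientGroup.mk' Q)) :=
      Subgroup.subset_closure
        ⟨Subgroup.mem_map_of_mem _ hxX, Nat.Coprime.coprime_dvd_left (orderOf_map_dvd _ x) hxp⟩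
    rw [h] at h1
    obtain ⟨y, hyY, hy⟩ := resOf_le_self _ h1
    have h3 : y⁻¹ * x ∈ Q := by
      rw [← QuotientGroup.eq]
      exact hy
    have hxY : x ∈ Y := by
      have := Y.mul_mem hyY (hQY h3)
      simpa using this
    exact Subgroup.subset_closure ⟨hxY, hxp⟩
  rw [resOf, Subgroup.closure_le]
  rintro x ⟨hxX, hxp⟩
  exact key x hxX hxp

end RESBACK

/-- piece RESBACK: `O^p(X)` for `X ≥ Q` is determined by `O^p` of the image of `X` modulo `Q`. -/
theorem resOf_eq_of_map_eq (Q : Subgroup G) [Q.Normal] (X Y : Subgroup G) (hQX : Q ≤ X)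
    (hQY : Q ≤ Y)
    (h : resOf p (X.map (QuotientGroup.mk' Q)) = resOf p (Y.map (QuotientGroup.mk' Q))) :
    resOf p X = resOf p Y :=
  le_antisymm (RESBACK.resOf_le_of_map_eq Q X Y hQY h) (RESBACK.resOf_le_of_map_eq Q Y X hQX h.symm)

end General

end Cfsg.Agent.S2855P
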