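import Mathlib
import Cfsg.Agent.Helper7.S2862Defs
import Cfsg.Agent.Helper22.S2862CP4
import Cfsg.Agent.Helper22.S2862CP7

/-! Board `s2862pieces`, row B8, the CORE (B7c, B7d and `CP_normal` as hypotheses): for `l ∈ L`:
`C_X(Y^l) = F_l × C_L` and `C_{X_L}(Y^l) = F_l` (conjugate B7c by `l`; Dedekind with B7d). -/

set_option autoImplicit false

namespace Cfsg.Agent.S2862P

open Cfsg
open Cfsg.Agent.Helper14 (cj)
open Subgroup
open scoped commutatorElement Pointwise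

variable {G : Type*} [Group G] [Finite G] {p : ℕ} [Fact p.Prime]
variable {H Y D L L0 Vt Vb : Subgroup G}

omit [Finite G] in
/-- Dedekind's modular law: `A ≤ C`, `B` normalises `A`: `C ∩ AB = A (C ∩ B)`. -/
theorem B8_aux_dedekind {A B C : Subgroup G} (hAC : A ≤ C) (hBA : B ≤ normalizer (A : Set G)) :
    C ⊓ (A ⊔ B) = A ⊔ (C ⊓ B) := by
  apply le_antisymm
  · intro x hx
    obtain ⟨hxC, hxAB⟩ := Subgroup.mem_inf.1 hx
    have h1 : x ∈ ((A ⊔ B : Subgroup G) : Set G) := hxAB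
    rw [Subgroup.coe_mul_of_right_le_normalizer_left A B hBA] at h1
    obtain ⟨a, ha, b, hb, rfl⟩ := Set.mem_mul.1 h1
    have hbC : b ∈ C := by
      have h2 : b = a⁻¹ * (a * b) := by group
      rw [h2]
      exact C.mul_mem (C.inv_mem (hAC ha)) hxC
    exact (A ⊔ (C ⊓ B)).mul_mem (Subgroup.mem_sup_left ha) (Subgroup.mem_sup_right (Subgroup.mem_inf.2 ⟨hbC, hb⟩))
  · exact sup_le (le_inf hAC le_sup_left) (inf_le_inf_left C le_sup_right)

/-- B8, the core: B7c (first part), B7d (second part) and `CP_normal` for `commP Vt Vb (cjs l Y)` as hypotheses. -/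
theorem B8_aux_core (K : KHyp p H Y D L L0) (C : ChiefPair p H Vt Vb) {l : G} (hl : l ∈ L)
    (hB7c : commP Vt Vb Y ⊔ fixP Vt Vb L = fixP Vt Vb Y) (hB7d : commP Vt Vb L ⊓ fixP Vt Vb L = Vb)
    (hn : Vt ≤ normalizer ((commP Vt Vb (cjs l Y) : Subgroup G) : Set G)) :
    fixP Vt Vb (cjs l Y) = commP Vt Vb (cjs l Y) ⊔ fixP Vt Vb L ∧
      commP Vt Vb L ⊓ fixP Vt Vb (cjs l Y) = commP Vt Vb (cjs l Y) := by
  have hYL : Y ≤ L := K.hYL0.trans K.hL0L
  have hYH : Y ≤ H := hYL.trans K.hLH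
  have hlH : l ∈ H := K.hLH hl
  have hcjL : cjs l L = L := Cfsg.Agent.Helper14.map_cj_eq_self_of_mem hl
  have hfixL : cjs l (fixP Vt Vb L) = fixP Vt Vb L := by
    rw [← fixP_cjs C K.hLH hlH, hcjL]
  have hcjYL : cjs l Y ≤ L := by
    rw [← hcjL]
    exact Subgroup.map_mono hYL
  have h1 : fixP Vt Vb (cjs l Y) = commP Vt Vb (cjs l Y) ⊔ fixP Vt Vb L := by
    rw [fixP_cjs C hYH hlH, ← hB7c]
    show Subgroup.map (cj l) (commP Vt Vb Y ⊔ fixP Vt Vb L) = _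
    rw [Subgroup.map_sup]
    show cjs l (commP Vt Vb Y) ⊔ cjs l (fixP Vt Vb L) = _
    rw [hfixL, ← commP_cjs C hYH hlH]
  refine ⟨h1, ?_⟩
  have hA_le : commP Vt Vb (cjs l Y) ≤ commP Vt Vb L := commP_mono hcjYL
  have hnorm : fixP Vt Vb L ≤ normalizer ((commP Vt Vb (cjs l Y) : Subgroup G) : Set G) :=
    (fixP_le C K.hLH).trans hn
  rw [h1, B8_aux_dedekind hA_le hnorm, hB7d]
  exact sup_eq_left.2 (le_commP _)

end Cfsg.Agent.S2862P
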