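import Mathlib
import Cfsg.Agent.Helper21.S2862B8core
import Cfsg.Agent.Helper20.S2862B7c
import Cfsg.Agent.Helper20.S2862B7d
import Cfsg.Agent.Helper17.S2862CP2

/-! Board `s2862pieces`, row B8: for `l ∈ L`: `C_X(Y^l) = F_l × C_L` and `C_{X_L}(Y^l) = F_l`
(`B8_aux_core` with B7c, B7d, `CP_normal`). -/

set_option autoImplicit false

namespace Cfsg.Agent.S2862P

open Cfsg
open Cfsg.Agent.Helper14 (cj)
open Subgroup
open scoped commutatorElement

variable {G : Type*} [Group G] [Finite G] {p : ℕ} [Fact p.Prime]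
variable {H Y D L L0 Vt Vb : Subgroup G}

/-- B8 : for `l ∈ L`: `C_X(Y^l) = F_l × C_L` and `C_{X_L}(Y^l) = F_l`. -/
theorem B8 (K : KHyp p H Y D L L0) (C : ChiefPair p H Vt Vb) (hnc : Noncentral H Vt Vb) {h : G} (hh : h ∈ L)
    (hh0 : h ∉ L0) {l : G} (hl : l ∈ L) :
    fixP Vt Vb (cjs l Y) = commP Vt Vb (cjs l Y) ⊔ fixP Vt Vb L ∧
      commP Vt Vb L ⊓ fixP Vt Vb (cjs l Y) = commP Vt Vb (cjs l Y) := by
  have hcjYL : cjs l Y ≤ L := by
    have hcjL : cjs l L = L := Cfsg.Agent.Helper14.map_cj_eq_self_of_mem hl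
    rw [← hcjL]
    exact Subgroup.map_mono (K.hYL0.trans K.hL0L)
  exact B8_aux_core K C hl (B7c K C hnc hh hh0).1 (B7d K C hnc hh hh0).2
    (CP_normal C (Cfsg.Agent.S2862P.le_commP _) (Cfsg.Agent.S2862P.commP_le C (hcjYL.trans K.hLH)))

end Cfsg.Agent.S2862P
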