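import Mathlib
import Cfsg.Prelude.Def_JComponents
import Cfsg.Prelude.Def_Involutions
import Cfsg.Agent.Helper5.S2951Defs
import Cfsg.Agent.Helper14.PCore
import Cfsg.Agent.Helper7.S3Iso

set_option autoImplicit false

/-! # S2951 board, piece E1 (auxiliary part): transport of Lemma D's conclusion to the amalgam theorem S2858

Nothing here depends on the other pieces of the board; `E1_aux_of_concl` takes the conclusion of `LEMD` as a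
hypothesis. -/

universe u

namespace Cfsg.Agent.S2951P

open Cfsg Subgroup Cfsg.Agent.Helper15.JComp Cfsg.Agent.S2951P
open scoped commutatorElement

section aux

variable {G : Type u} [Group G]

/-- `O₂` of `P.subgroupOf Q` is `O₂(P)` seen in `Q`. -/
theorem E1_aux_pCoreOf_subgroupOf {P Q : Subgroup G} (hPQ : P ≤ Q) :
    pCoreOf 2 (P.subgroupOf Q) = (pCoreOf 2 P).subgroupOf Q := by
  have hmap := Cfsg.Agent.Helper14.pCore_map_equiv 2 (Subgroup.subgroupOfEquivOfLe hPQ)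
  ext x
  constructor
  · rintro ⟨y, hy, rfl⟩
    rw [Subgroup.mem_subgroupOf]
    refine ⟨Subgroup.subgroupOfEquivOfLe hPQ y, ?_, ?_⟩
    · rw [← hmap]
      exact ⟨y, hy, rfl⟩
    · rfl
  · intro hx
    rw [Subgroup.mem_subgroupOf] at hx
    obtain ⟨z, hz, hzx⟩ := hx
    rw [← hmap] at hz
    obtain ⟨y, hy, rfl⟩ := hz
    refine ⟨y, hy, ?_⟩
    apply Subtype.ext
    exact hzx

theorem E1_aux_h1 {P Q : Subgroup G} (hPQ : P ≤ Q)
    (h : centralizer (pCoreOf 2 P : Set G) ≤ pCoreOf 2 P) :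
    P.subgroupOf Q ⊓ centralizer (pCoreOf 2 (P.subgroupOf Q) : Set ↥Q) ≤
      pCoreOf 2 (P.subgroupOf Q) := by
  rw [E1_aux_pCoreOf_subgroupOf hPQ]
  rintro x ⟨_, hx⟩
  rw [Subgroup.mem_subgroupOf]
  apply h
  rw [Subgroup.mem_centralizer_iff]
  intro y hy
  have hyQ : y ∈ Q := hPQ (Cfsg.Agent.Helper14.pCoreOf_le 2 P hy)
  have := (Subgroup.mem_centralizer_iff.1 hx) ⟨y, hyQ⟩ (by
    change (⟨y, hyQ⟩ : ↥Q) ∈ (pCoreOf 2 P).subgroupOf Q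
    rw [Subgroup.mem_subgroupOf]; exact hy)
  exact congrArg Subtype.val this

theorem E1_aux_h2 [Finite G] {P Q T : Subgroup G} (hPQ : P ≤ Q) (h : IsSylowTwoIn T P) :
    ∃ S : Sylow 2 ↥(P.subgroupOf Q),
      (S : Subgroup ↥(P.subgroupOf Q)) = (T.subgroupOf Q).subgroupOf (P.subgroupOf Q) := by
  have : Fact (Nat.Prime 2) := ⟨Nat.prime_two⟩
  obtain ⟨hTP, hT2, hodd⟩ := h
  have hp : IsPGroup 2 ↥((T.subgroupOf Q).subgroupOf (P.subgroupOf Q)) :=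
    (hT2.comap_subtype).comap_subtype
  have hidx : ((T.subgroupOf Q).subgroupOf (P.subgroupOf Q)).index = T.relIndex P := by
    change (T.comap Q.subtype).relIndex (P.subgroupOf Q) = _
    rw [Subgroup.relIndex_comap, Subgroup.map_subgroupOf_eq_of_le hPQ]
  have hnd : ¬ 2 ∣ ((T.subgroupOf Q).subgroupOf (P.subgroupOf Q)).index := by
    rw [hidx]
    intro h2
    exact (Nat.not_even_iff_odd.2 hodd) (even_iff_two_dvd.2 h2)
  exact ⟨hp.toSylow hnd, IsPGroup.toSylow_coe hp hnd⟩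

theorem E1_aux_h3 {Q T : Subgroup G} (hT2 : IsPGroup 2 ↥T) (hO : pCoreOf 2 Q = ⊥)
    (N : Subgroup ↥Q) (hN : N.Normal) (hNT : N ≤ T.subgroupOf Q) : N = ⊥ := by
  have h1 : pCore 2 ↥Q = ⊥ := by
    unfold pCoreOf at hO
    exact (Subgroup.map_eq_bot_iff_of_injective _ Q.subtype_injective).1 hO
  have h2 : N ≤ pCore 2 ↥Q :=
    Cfsg.Agent.Helper14.le_pCore 2 hN ((hT2.comap_subtype (K := Q)).to_le hNT)
  rw [h1] at h2
  exact le_bot_iff.1 h2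

theorem E1_aux_h4 [Finite G] {P Q : Subgroup G} (hPQ : P ≤ Q)
    (h6 : (pCoreOf 2 P).relIndex P = 6) (hna : ¬ ⁅P, P⁆ ≤ pCoreOf 2 P) :
    Nonempty (↥(P.subgroupOf Q) ⧸ pCore 2 ↥(P.subgroupOf Q) ≃* Equiv.Perm (Fin 3)) := by
  have hsub : (pCoreOf 2 P).subgroupOf P = pCore 2 ↥P := by
    unfold pCoreOf
    exact Subgroup.comap_map_eq_self_of_injective P.subtype_injective _
  have hcard : Nat.card (↥P ⧸ pCore 2 ↥P) = 6 := by
    rw [← Subgroup.index_eq_card, ← hsub]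
    exact h6
  have hnab : ∃ a b : ↥P ⧸ pCore 2 ↥P, a * b ≠ b * a := by
    by_contra hcon
    push Not at hcon
    apply hna
    rw [Subgroup.commutator_le]
    intro x hx y hy
    let x' : ↥P := ⟨x, hx⟩
    let y' : ↥P := ⟨y, hy⟩
    have hc := hcon (QuotientGroup.mk x') (QuotientGroup.mk y')
    have hmem : ⁅x', y'⁆ ∈ pCore 2 ↥P := by
      rw [← QuotientGroup.eq_one_iff]
      change (QuotientGroup.mk' (pCore 2 ↥P)) ⁅x', y'⁆ = 1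
      rw [map_commutatorElement, commutatorElement_eq_one_iff_mul_comm]
      exact hc
    exact ⟨⁅x', y'⁆, hmem, rfl⟩
  obtain ⟨e₃⟩ := Cfsg.Agent.Helper7.nonempty_mulEquiv_perm_three_of_card_six hcard hnab
  have e₁ : ↥(P.subgroupOf Q) ⧸ pCore 2 ↥(P.subgroupOf Q) ≃* ↥P ⧸ pCore 2 ↥P :=
    QuotientGroup.congr _ _ (Subgroup.subgroupOfEquivOfLe hPQ)
      (Cfsg.Agent.Helper14.pCore_map_equiv 2 (Subgroup.subgroupOfEquivOfLe hPQ))
  exact ⟨e₁.trans e₃⟩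

theorem E1_aux_h5 {P Q T : Subgroup G} (hPQ : P ≤ Q) (hTP : T ≤ P)
    (h : ⁅omegaCenterOf T, P⁆ ≠ ⊥) :
    ¬ P.subgroupOf Q ≤ centralizer
      (omegaOne 2 (T.subgroupOf Q ⊓ centralizer ((T.subgroupOf Q : Subgroup ↥Q) : Set ↥Q)) : Set ↥Q) := by
  intro hcon
  apply h
  rw [Subgroup.commutator_eq_bot_iff_le_centralizer]
  unfold omegaCenterOf omegaOne
  rw [Subgroup.closure_le]
  rintro x ⟨⟨hxT, hxC⟩, hx2⟩
  have hxQ : x ∈ Q := hPQ (hTP hxT)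
  have hx' : (⟨x, hxQ⟩ : ↥Q) ∈
      omegaOne 2 (T.subgroupOf Q ⊓ centralizer ((T.subgroupOf Q : Subgroup ↥Q) : Set ↥Q)) := by
    apply Subgroup.subset_closure
    refine ⟨⟨?_, ?_⟩, ?_⟩
    · change (⟨x, hxQ⟩ : ↥Q) ∈ T.subgroupOf Q
      rw [Subgroup.mem_subgroupOf]; exact hxT
    · change (⟨x, hxQ⟩ : ↥Q) ∈ centralizer ((T.subgroupOf Q : Subgroup ↥Q) : Set ↥Q)
      rw [Subgroup.mem_centralizer_iff]
      intro y hy
      apply Subtype.ext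
      exact (Subgroup.mem_centralizer_iff.1 hxC) y.1 (Subgroup.mem_subgroupOf.1 hy)
    · apply Subtype.ext
      exact hx2
  change x ∈ centralizer (P : Set G)
  rw [Subgroup.mem_centralizer_iff]
  intro y hy
  have hyQ : y ∈ Q := hPQ hy
  have hy' : (⟨y, hyQ⟩ : ↥Q) ∈ P.subgroupOf Q := by
    rw [Subgroup.mem_subgroupOf]; exact hy
  have := (Subgroup.mem_centralizer_iff.1 (hcon hy')) ⟨x, hxQ⟩ hx'
  exact (congrArg Subtype.val this).symm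

/-- The transport: the local conditions on `P₁`, `P₂`, `T` inside `G` give the conclusion of the amalgam theorem. -/
theorem E1_aux_main [Finite G] (hA : Amalgam.{u}) (P₁ P₂ T : Subgroup G) (hT : P₁ ⊓ P₂ = T)
    (hO : pCoreOf 2 (P₁ ⊔ P₂) = ⊥)
    (h : ∀ P ∈ [P₁, P₂], centralizer (pCoreOf 2 P : Set G) ≤ pCoreOf 2 P ∧ IsSylowTwoIn T P ∧
      (pCoreOf 2 P).relIndex P = 6 ∧ ¬ ⁅P, P⁆ ≤ pCoreOf 2 P ∧ ⁅omegaCenterOf T, P⁆ ≠ ⊥) :
    (Nonempty (↥P₁ ≃* Equiv.Perm (Fin 4)) ∧ Nonempty (↥P₂ ≃* Equiv.Perm (Fin 4))) ∨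
      (Nonempty (↥P₁ ≃* Equiv.Perm (Fin 4) × Multiplicative (ZMod 2)) ∧
        Nonempty (↥P₂ ≃* Equiv.Perm (Fin 4) × Multiplicative (ZMod 2))) := by
  have h₁Q : P₁ ≤ P₁ ⊔ P₂ := le_sup_left
  have h₂Q : P₂ ≤ P₁ ⊔ P₂ := le_sup_right
  have hP₁ := h P₁ (by simp)
  have hP₂ := h P₂ (by simp)
  have hT2 : IsPGroup 2 ↥T := hP₁.2.1.2.1
  have key : ∀ P ∈ [P₁, P₂], P ≤ P₁ ⊔ P₂ := by
    intro P hP
    simp only [List.mem_cons, List.mem_nil_iff, or_false] at hP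
    rcases hP with rfl | rfl
    · exact h₁Q
    · exact h₂Q
  have hset : ∀ P ∈ ({P₁.subgroupOf (P₁ ⊔ P₂), P₂.subgroupOf (P₁ ⊔ P₂)} : Set (Subgroup ↥(P₁ ⊔ P₂))),
      ∃ P' ∈ [P₁, P₂], P = P'.subgroupOf (P₁ ⊔ P₂) := by
    intro P hP
    rcases hP with rfl | rfl
    · exact ⟨P₁, by simp, rfl⟩
    · exact ⟨P₂, by simp, rfl⟩
  have res := hA (H := ↥(P₁ ⊔ P₂)) (P₁.subgroupOf (P₁ ⊔ P₂)) (P₂.subgroupOf (P₁ ⊔ P₂))
    (by rw [← Subgroup.subgroupOf_sup h₁Q h₂Q, Subgroup.subgroupOf_self])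
    (T.subgroupOf (P₁ ⊔ P₂))
    (by rw [← hT]; rfl)
    (by
      intro P hP
      obtain ⟨P', hP', rfl⟩ := hset P hP
      exact E1_aux_h1 (key P' hP') (h P' hP').1)
    (by
      intro P hP
      obtain ⟨P', hP', rfl⟩ := hset P hP
      exact E1_aux_h2 (key P' hP') (h P' hP').2.1)
    (fun N hN hNT => E1_aux_h3 hT2 hO N hN hNT)
    (by
      intro P hP
      obtain ⟨P', hP', rfl⟩ := hset P hP
      exact E1_aux_h4 (key P' hP') (h P' hP').2.2.1 (h P' hP').2.2.2.1)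
    (by
      intro P hP
      obtain ⟨P', hP', rfl⟩ := hset P hP
      exact E1_aux_h5 (key P' hP') (h P' hP').2.1.1 (h P' hP').2.2.2.2)
  rcases res with ⟨⟨e₁⟩, ⟨e₂⟩⟩ | ⟨⟨e₁⟩, ⟨e₂⟩⟩
  · left
    exact ⟨⟨(Subgroup.subgroupOfEquivOfLe h₁Q).symm.trans e₁⟩,
      ⟨(Subgroup.subgroupOfEquivOfLe h₂Q).symm.trans e₂⟩⟩
  · right
    exact ⟨⟨((Subgroup.subgroupOfEquivOfLe h₁Q).symm.trans e₁).trans MulEquiv.prodComm⟩,
      ⟨((Subgroup.subgroupOfEquivOfLe h₂Q).symm.trans e₂).trans MulEquiv.prodComm⟩⟩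

/-- `E1` from the conclusion of `LEMD`. -/
theorem E1_aux_of_concl [Finite G] (hA : Amalgam.{u}) {T K₁ K₂ : Subgroup G}
    (hC : Concl53 T K₁ K₂) (hT : (K₁ ⊔ T) ⊓ (K₂ ⊔ T) = T) :
    (Nonempty (↥(K₁ ⊔ T) ≃* Equiv.Perm (Fin 4)) ∧ Nonempty (↥(K₂ ⊔ T) ≃* Equiv.Perm (Fin 4))) ∨
      (Nonempty (↥(K₁ ⊔ T) ≃* Equiv.Perm (Fin 4) × Multiplicative (ZMod 2)) ∧
        Nonempty (↥(K₂ ⊔ T) ≃* Equiv.Perm (Fin 4) × Multiplicative (ZMod 2))) := by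
  obtain ⟨-, -, -, hO, hP⟩ := hC
  refine E1_aux_main hA (K₁ ⊔ T) (K₂ ⊔ T) T hT hO ?_
  intro P hPm
  obtain ⟨a, b, c, e, f, -⟩ := hP P hPm
  exact ⟨a, b, c, e, f⟩

end aux

end Cfsg.Agent.S2951P
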