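import Mathlib
import Cfsg.Prelude.Def_JComponents
import Cfsg.Prelude.Def_Involutions
import Cfsg.Agent.Helper5.S2951Defs
import Cfsg.Agent.Helper21.S2951E1Aux
import Cfsg.Agent.Helper5.S2951LEMD

set_option autoImplicit false

/-! # S2951 board, piece E1: transport to S2858 (uses `LEMD`; the work is in `S2951E1Aux`) -/

universe u

namespace Cfsg.Agent.S2951P

open Cfsg Subgroup Cfsg.Agent.Helper15.JComp Cfsg.Agent.S2951P

variable {G : Type u} [Group G] [Finite G] {M T K K' L L' : Subgroup G}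

/-- E1 (M–L) = (E1): transport to S2858. -/
theorem E1 (hA : Amalgam.{u}) {K₁ K₂ L₁ L₂ : Subgroup G} (d : PairData M T K₁ K₂ L₁ L₂) :
    (Nonempty (↥(K₁ ⊔ T) ≃* Equiv.Perm (Fin 4)) ∧ Nonempty (↥(K₂ ⊔ T) ≃* Equiv.Perm (Fin 4))) ∨
      (Nonempty (↥(K₁ ⊔ T) ≃* Equiv.Perm (Fin 4) × Multiplicative (ZMod 2)) ∧
        Nonempty (↥(K₂ ⊔ T) ≃* Equiv.Perm (Fin 4) × Multiplicative (ZMod 2))) :=
  E1_aux_of_concl hA (LEMD d).1 (LEMD d).2.1

end Cfsg.Agent.S2951P
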