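import Mathlib
import Cfsg.Agent.Helper25.S2981BDefs
import Cfsg.Agent.Helper28.S3000TOOL

/-! S2981 part (B), board `s2981pieces`, row NCL = (B3), the CORE (ALLQ as a hypothesis): `N = Ncomp (TT T) E` lies in the
normal closure in `P` of every strict offender `B₁ ≤ P` (conjugate `B₁` into `T`: it is a conjugate of `A` by ALLQ; every `cjs t E`
is `cjs t A ⊔ cjs (t w) A` by `Tool.hgen`). -/

set_option autoImplicit false

namespace Cfsg.Agent.S2981P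

open Cfsg.Agent.S2789P Cfsg.Agent.S2999P Cfsg.Agent.S3000P
open scoped commutatorElement

variable {G : Type*} [Group G] [Finite G] {p : ℕ} [Fact p.Prime] {V P : Subgroup G} {T : Sylow p ↥P} {M : Subgroup ↥P} {q : ℕ}
variable {A E : Subgroup G}

/-- NCL, the core: ALLQ for (the conjugate into `T` of) `B₁` as a hypothesis. -/
theorem NCL_aux_core (Hy : Hyp p V P T M) (hq2 : 2 < q) (X : PkgT p V P T M q A E)
    {B₁ : Subgroup G} (hBP : B₁ ≤ P) (hB : StrictOff p V B₁)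
    (hALLQ : ∀ B₂ : Subgroup G, B₂ ≤ TT T → StrictOff p V B₂ → ∃ t ∈ TT T, B₂ = cjs t A) :
    Ncomp (TT T) E ≤ ⨆ x : ↥P, cjs (x : G) B₁ := by
  have hpg : IsPGroup p ↥B₁ := F2_aux_isPGroup hB.hA
  obtain ⟨g, hgP, hgT⟩ := F2_aux_conj_into P T hBP hpg
  have hS' : StrictOff p V (cjs g B₁) := hB.conj (Hy.hPV hgP)
  obtain ⟨t, htT, hEq⟩ := hALLQ (cjs g B₁) hgT hS'
  obtain ⟨H, w, K⟩ := TOOL Hy hq2 X.hK
  have hTP : TT T ≤ P := Subgroup.map_subtype_le _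
  have hA : ∀ y ∈ P, cjs y A ≤ ⨆ x : ↥P, cjs (x : G) B₁ := by
    intro y hy
    have h1 : cjs y A = cjs (y * t⁻¹ * g) B₁ := by
      rw [← cj_mul, ← cj_mul, hEq, cj_inv_cj]
    rw [h1]
    exact le_iSup (fun x : ↥P => cjs (x : G) B₁)
      ⟨y * t⁻¹ * g, P.mul_mem (P.mul_mem hy (P.inv_mem (hTP htT))) hgP⟩
  refine Ncomp_le fun s hs => ?_
  have hE : E = A ⊔ cjs w A := (K.hgen w K.hwE K.hwA).symm
  rw [hE, cj_sup, cj_mul]
  exact sup_le (hA s (hTP hs)) (hA (s * w) (P.mul_mem (hTP hs) (K.hEP K.hwE)))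

end Cfsg.Agent.S2981P
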