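import Mathlib
import Cfsg.Agent.Helper21.S2981NCLcore
import Cfsg.Agent.Helper15.S2981ALLQ

/-! S2981 part (B), board `s2981pieces`, row NCL = (B3): `NCL_aux_core` with ALLQ. -/

set_option autoImplicit false

namespace Cfsg.Agent.S2981P

open Cfsg.Agent.S2789P Cfsg.Agent.S2999P Cfsg.Agent.S3000P
open scoped commutatorElement

variable {G : Type*} [Group G] [Finite G] {p : ℕ} [Fact p.Prime] {V P : Subgroup G} {T : Sylow p ↥P} {M : Subgroup ↥P} {q : ℕ}
variable {A E : Subgroup G}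

/-- NCL (M): (B3). -/
theorem NCL (Hy : Hyp p V P T M) (hq : MinQ p V P q) (hq2 : 2 < q) (X : PkgT p V P T M q A E)
    {B₁ : Subgroup G} (hBP : B₁ ≤ P) (hB : StrictOff p V B₁) : Ncomp (TT T) E ≤ ⨆ x : ↥P, cjs (x : G) B₁ :=
  NCL_aux_core Hy hq2 X hBP hB (fun _ hBT hS => ALLQ Hy hq hq2 X hBT hS)

end Cfsg.Agent.S2981P
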