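import Mathlib
import Cfsg.Agent.Helper29.TV2Basic

/-! Board `tv2pieces`, row DEC (helper21): `W = C_W(E) + U`; the core, with the facts of the rows
DE, USPAN, TRANS, KCARD as hypotheses. -/

set_option autoImplicit false

namespace Cfsg.Agent.TV2

variable {P : Type*} [Group P] [Finite P] {W : Type*} [AddCommGroup W] [Module (ZMod 2) W] [Finite W]
  [DistribMulAction P W]

omit [Finite W] in
theorem DEC_aux_smul_mem (U : AddSubgroup W) (r : ZMod 2) {u : W} (hu : u ∈ U) : r • u ∈ U := by
  rcases zmod2_cases r with h | h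
  · rw [h, zero_smul]; exact U.zero_mem
  · rw [h, one_smul]; exact hu

omit [Finite W] in
theorem DEC_aux_map_smul (φ : W →+ ZMod 2) (r : ZMod 2) (u : W) : φ (r • u) = r * φ u := by
  rcases zmod2_cases r with h | h
  · rw [h, zero_smul, map_zero, zero_mul]
  · rw [h, one_smul, one_mul]

theorem DEC_aux_zmod (s f : ZMod 2) : 1 * s + (s - f) = f := by
  revert s f; decide

omit [Finite W] in
theorem DEC_core (C : Ctx P W)
    (hTv : ∀ d ∈ C.D, Tv W d)
    (hcl : Subgroup.closure C.D1 = C.E)
    (hcen : ∀ d ∈ C.D, cen W d ∈ C.U)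
    (hK : ∀ x ∈ C.D1, ∀ y ∈ C.K x, C.K y = C.K x)
    (hB1 : ∀ x ∈ C.D1, ∀ y ∈ C.K x, ∀ y' ∈ C.K x, y ≠ y' → B W y y' = 1)
    (hB0 : ∀ x ∈ C.D1, ∀ y ∈ C.K x, ∀ y' ∈ C.D1, y' ∉ C.K x → B W y y' = 0)
    (hcard : ∀ x ∈ C.D1, Even (C.K x).ncard) (w : W) :
    ∃ w0 ∈ fixS W C.E, w - w0 ∈ C.U := by
  classical
  haveI : Fintype P := Fintype.ofFinite P
  let D1f : Finset P := Finset.univ.filter (fun y => y ∈ C.D1)
  let Kf : P → Finset P := fun x => Finset.univ.filter (fun y => y ∈ C.K x)
  have hD1f : ∀ y, y ∈ D1f ↔ y ∈ C.D1 := fun y => by simp [D1f]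
  have hKf : ∀ x y, y ∈ Kf x ↔ y ∈ C.K x := fun x y => by simp [Kf]
  have hKsub : ∀ x, Kf x ⊆ D1f := by
    intro x y hy
    rw [hKf] at hy
    rw [hD1f]
    exact hy.1
  have hself : ∀ x ∈ C.D1, x ∈ C.K x := fun x hx => ⟨hx, Or.inl rfl⟩
  have hKcard : ∀ x, (Kf x).card = (C.K x).ncard := by
    intro x
    rw [← Set.ncard_coe_finset]
    congr 1
    ext y
    simp [Kf]
  let s : P → ZMod 2 := fun x => ∑ y ∈ Kf x, fn W y w
  let u : W := ∑ y ∈ D1f, (s y + fn W y w) • cen W y
  have hD1D : ∀ y ∈ C.D1, y ∈ C.D := fun y hy => hy.1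
  have huU : u ∈ C.U := by
    apply AddSubgroup.sum_mem
    intro y hy
    rw [hD1f] at hy
    exact DEC_aux_smul_mem _ _ (hcen y (hD1D y hy))
  have key : ∀ x ∈ C.D1, fn W x u = fn W x w := by
    intro x hx
    have hxK : x ∈ Kf x := (hKf x x).mpr (hself x hx)
    have e1 : fn W x u = ∑ y ∈ D1f, (s y + fn W y w) * B W x y := by
      show fn W x (∑ y ∈ D1f, (s y + fn W y w) • cen W y) = _
      rw [map_sum]
      apply Finset.sum_congr rfl
      intro y _
      rw [DEC_aux_map_smul]
      rfl
    have e2 : ∑ y ∈ D1f, (s y + fn W y w) * B W x y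
        = ∑ y ∈ (Kf x).erase x, (s x + fn W y w) := by
      have hsub : (Kf x).erase x ⊆ D1f := (Finset.erase_subset _ _).trans (hKsub x)
      rw [← Finset.sum_subset hsub]
      · apply Finset.sum_congr rfl
        intro y hy
        rw [Finset.mem_erase] at hy
        have hyK : y ∈ C.K x := (hKf x y).mp hy.2
        have hB : B W x y = 1 := hB1 x hx x (hself x hx) y hyK (Ne.symm hy.1)
        have hs : s y = s x := by
          show ∑ y' ∈ Kf y, fn W y' w = ∑ y' ∈ Kf x, fn W y' w
          have : Kf y = Kf x := by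
            ext z
            rw [hKf, hKf, hK x hx y hyK]
          rw [this]
        rw [hB, mul_one, hs]
      · intro y hy hny
        rw [hD1f] at hy
        rw [Finset.mem_erase, not_and_or] at hny
        have hB : B W x y = 0 := by
          rcases hny with h | h
          · have : y = x := not_not.mp h
            rw [this]
            exact B_self (hTv x (hD1D x hx))
          · have hnK : y ∉ C.K x := fun hc => h ((hKf x y).mpr hc)
            exact hB0 x hx x (hself x hx) y hy hnK
        rw [hB, mul_zero]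
    have e3 : ∑ y ∈ (Kf x).erase x, (s x + fn W y w) = fn W x w := by
      rw [Finset.sum_add_distrib, Finset.sum_const, Finset.sum_erase_eq_sub hxK,
        Finset.card_erase_of_mem hxK, nsmul_eq_mul]
      have hk : Even (Kf x).card := by rw [hKcard]; exact hcard x hx
      have hpos : 1 ≤ (Kf x).card := Finset.card_pos.mpr ⟨x, hxK⟩
      have hcast : (((Kf x).card - 1 : ℕ) : ZMod 2) = 1 := by
        obtain ⟨m, hm⟩ := hk
        have h2 : (Kf x).card - 1 = 2 * (m - 1) + 1 := by omega
        rw [h2]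
        push_cast
        have : (2 : ZMod 2) = 0 := by decide
        rw [this, zero_mul, zero_add]
      rw [hcast]
      exact DEC_aux_zmod _ _
    rw [e1, e2, e3]
  refine ⟨w - u, ?_, ?_⟩
  · -- `E` fixes `w - u`
    have hle : Subgroup.closure C.D1 ≤ MulAction.stabilizer P (w - u) := by
      rw [Subgroup.closure_le]
      intro x hx
      show x ∈ MulAction.stabilizer P (w - u)
      rw [MulAction.mem_stabilizer_iff]
      have hxT : Tv W x := hTv x (hD1D x hx)
      rw [hxT.fixed_iff, map_sub, key x hx, sub_self]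
    intro e he
    have he' : e ∈ Subgroup.closure C.D1 := by rw [hcl]; exact he
    exact MulAction.mem_stabilizer_iff.mp (hle he')
  · rw [sub_sub_cancel]
    exact huU

end Cfsg.Agent.TV2
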