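import Mathlib
import Cfsg.Agent.Helper29.TV2Basic
import Cfsg.Agent.Helper21.TV2_DECcore
import Cfsg.Agent.Helper24.TV2_DE
import Cfsg.Agent.Helper18.TV2_USPANa
import Cfsg.Agent.Helper11.TV2_TRANS
import Cfsg.Agent.Helper24.TV2_KCARD

/-! Board `tv2pieces`, row DEC (helper21): `W = C_W(E) + U`. -/

set_option autoImplicit false

namespace Cfsg.Agent.TV2

variable {P : Type*} [Group P] [Finite P] {W : Type*} [AddCommGroup W] [Module (ZMod 2) W] [Finite W]
  [DistribMulAction P W]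

theorem DEC (C : Ctx P W) (w : W) : ∃ w0 ∈ fixS W C.E, w - w0 ∈ C.U := by
  obtain ⟨n, hn, hcard⟩ := KCARD C
  refine DEC_core C (fun d hd => DE_tv C hd) (DE_closure_D1 C) (fun d hd => USPAN_cen_mem C hd)
    (fun x hx y hy => TRANS_K_eq C hx hy)
    (fun x hx y hy y' hy' hne => TRANS_B_one C hx hy hy' hne)
    (fun x hx y hy y' hy' hn => TRANS_B_zero C hx hy hy' hn) ?_ w
  intro x hx
  rw [hcard x hx]
  exact (Nat.even_pow.mpr ⟨even_two, by omega⟩)

end Cfsg.Agent.TV2
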