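import Mathlib
import Cfsg.Agent.Helper29.TV2Q2Defs
import Cfsg.Agent.Helper29.TV2S_FINAL
import Cfsg.Agent.Helper25.S2981BDefs
import Cfsg.Agent.Helper28.S3000Q2

/-! Board `s2981pieces`, row Q2_B3, the CORE (STR2 and TVD as hypotheses): (B3) for `q = 2`: `E = ⟨D⟩` lies in the normal closure in `P`
of every strict offender `B₁ ≤ P` (conjugate `B₁` into `T`; it contains a transvection `d` (STR2), `d ∈ D` (TVD), and `D` is one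
conjugacy class). -/

set_option autoImplicit false

namespace Cfsg.Agent.S2981P

open Cfsg.Agent.TV2 Cfsg.Agent.S2789P Cfsg.Agent.S2999P Cfsg.Agent.S3000P
open scoped commutatorElement

variable {G : Type*} [Group G] [Finite G] {V P : Subgroup G} {hV : Cfsg.IsElementaryAbelian 2 V}
  {hPV : P ≤ Subgroup.normalizer (V : Set G)}

/-- Q2_B3, the core. -/
theorem Q2_B3_aux_core (C : Ctx ↥P (WV V P hV hPV)) (Hy : Hyp 2 V P C.T C.M) {B₁ : Subgroup G} (hBP : B₁ ≤ P)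
    (hS : StrictOff 2 V B₁)
    (hSTR2 : ∀ B₂ : Subgroup ↥P, B₂ ≤ (C.T : Subgroup ↥P) → StrictOff 2 V (B₂.map P.subtype) →
      ∃ d ∈ B₂, Tv (WV V P hV hPV) d)
    (hTVD : ∀ d : ↥P, Tv (WV V P hV hPV) d → d ∈ C.D) :
    (C.E).map P.subtype ≤ ⨆ x : ↥P, cjs (x : G) B₁ := by
  have hpg : IsPGroup 2 ↥B₁ := F2_aux_isPGroup hS.hA
  obtain ⟨g, hgP, hgT⟩ := F2_aux_conj_into P C.T hBP hpg
  have hS' : StrictOff 2 V (cjs g B₁) := hS.conj (Hy.hPV hgP)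
  have hgBP : cjs g B₁ ≤ P := hgT.trans (Subgroup.map_subtype_le _)
  have hmap : ((cjs g B₁).subgroupOf P).map P.subtype = cjs g B₁ :=
    Subgroup.map_subgroupOf_eq_of_le hgBP
  have hBT' : (cjs g B₁).subgroupOf P ≤ (C.T : Subgroup ↥P) := by
    intro b hb
    have h1 : (b : G) ∈ (C.T : Subgroup ↥P).map P.subtype := hgT (Subgroup.mem_subgroupOf.1 hb)
    obtain ⟨t, ht, hte⟩ := h1
    have h2 : t = b := Subtype.ext hte
    rwa [← h2]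
  obtain ⟨d, hdB, hdTv⟩ := hSTR2 _ hBT' (by rw [hmap]; exact hS')
  have hdD : d ∈ C.D := hTVD d hdTv
  have hdG : (d : G) ∈ cjs g B₁ := Subgroup.mem_subgroupOf.1 hdB
  rw [Subgroup.map_le_iff_le_comap]
  show Subgroup.closure C.D ≤ _
  rw [Subgroup.closure_le]
  intro x hx
  obtain ⟨g1, rfl⟩ := hx
  obtain ⟨g2, hg2⟩ := hdD
  show ((g1 * C.a * g1⁻¹ : ↥P) : G) ∈ ⨆ x : ↥P, cjs (x : G) B₁
  have hx2 : (g1 * C.a * g1⁻¹ : ↥P) = (g1 * g2⁻¹) * d * (g1 * g2⁻¹)⁻¹ := by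
    rw [hg2]; group
  have h3 : ((g1 * C.a * g1⁻¹ : ↥P) : G) ∈ cjs ((g1 * g2⁻¹ : ↥P) : G) (cjs g B₁) := by
    rw [hx2]
    have h4 : (((g1 * g2⁻¹) * d * (g1 * g2⁻¹)⁻¹ : ↥P) : G) =
        ((g1 * g2⁻¹ : ↥P) : G) * (d : G) * ((g1 * g2⁻¹ : ↥P) : G)⁻¹ := by
      simp
    rw [h4]
    exact cj_mem_conj.2 hdG
  rw [cj_mul] at h3
  exact le_iSup (fun x : ↥P => cjs (x : G) B₁) ⟨((g1 * g2⁻¹ : ↥P) : G) * g, P.mul_mem (g1 * g2⁻¹).2 hgP⟩ h3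

end Cfsg.Agent.S2981P
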