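import Mathlib
import Cfsg.Agent.Helper21.S2981Q2B3core
import Cfsg.Agent.Helper29.S2981Q2_STR2
import Cfsg.Agent.Helper20.S2981Q2_TVD

/-! Board `s2981pieces`, row Q2_B3: (B3) for `q = 2` (`Q2_B3_aux_core` with STR2, TVD). -/

set_option autoImplicit false

namespace Cfsg.Agent.S2981P

open Cfsg.Agent.TV2 Cfsg.Agent.S2789P Cfsg.Agent.S2999P Cfsg.Agent.S3000P
open scoped commutatorElement

variable {G : Type*} [Group G] [Finite G] {V P : Subgroup G} {hV : Cfsg.IsElementaryAbelian 2 V}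
  {hPV : P ≤ Subgroup.normalizer (V : Set G)}

/-- Q2_B3: (B3) for `q = 2`: `E` lies in the normal closure of every strict offender. -/
theorem Q2_B3 (C : Ctx ↥P (WV V P hV hPV)) (Hy : Hyp 2 V P C.T C.M) {B₁ : Subgroup G} (hBP : B₁ ≤ P) (hS : StrictOff 2 V B₁) :
    (C.E).map P.subtype ≤ ⨆ x : ↥P, cjs (x : G) B₁ :=
  Q2_B3_aux_core C Hy hBP hS
    (fun _ hBT hS2 => by
      obtain ⟨d, hd, hTv, -⟩ := STR2 C Hy hBT hS2
      exact ⟨d, hd, hTv⟩)
    (fun _ hd => TVD C hd)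

end Cfsg.Agent.S2981P
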