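import Mathlib
import Cfsg.Agent.Helper12.S2999Basic
import Cfsg.Agent.Helper3.S3001S1

/-! S3001 endgame, board `s3001pieces`, piece BASM (assembly of case (b) with GENORB): the CORE, with the lemmas
GENORB, COPRK, SYLE, NORMN0 (third clause), S3C and BLINE (conclusion) as hypotheses, for one component `E₁`.
`T₁ := Tg ⊓ E₁`, `T₀ := ⨆_{t ∈ Tg} ᵗT₁`, `X := C_V(T₀)`, `B₁ := E₁ ⊓ N(T₁)`, `O₁ := ⟨odd-order elements of B₁⟩`,
`R' := T₁ O₁`, `U := [X, R']`. -/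

set_option autoImplicit false

namespace Cfsg.Agent.S3001P

open Cfsg.Agent.S2789P Cfsg.Agent.S2999P Cfsg.Agent.S3000P
open scoped commutatorElement

universe u

variable {G : Type u} [Group G]

/-- if every element of `K` maps `A` into itself by conjugation, every element of `K` normalises `A` -/
theorem BASM_aux_cj_eq {K A : Subgroup G} (h : ∀ t ∈ K, cjs t A ≤ A) {t : G} (ht : t ∈ K) : cjs t A = A := by
  refine le_antisymm (h t ht) ?_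
  have h1 := h t⁻¹ (K.inv_mem ht)
  have h2 := cj_mono (g := t) h1
  rwa [cj_cj_inv] at h2

/-- `⨆_{s ∈ Tg} ˢT₁` is `Tg`-invariant -/
theorem BASM_aux_T0_inv (Tg T₁ : Subgroup G) {t : G} (ht : t ∈ Tg) :
    cjs t (⨆ s : ↥Tg, cjs (s : G) T₁) = ⨆ s : ↥Tg, cjs (s : G) T₁ := by
  refine BASM_aux_cj_eq (K := Tg) ?_ ht
  intro t ht
  show (⨆ s : ↥Tg, cjs (s : G) T₁).map (MulAut.conj t).toMonoidHom ≤ _
  rw [Subgroup.map_iSup]
  refine iSup_le fun s => ?_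
  have h1 : Subgroup.map (MulAut.conj t).toMonoidHom (cjs (s : G) T₁) = cjs (t * s) T₁ := cj_mul t s T₁
  rw [h1]
  exact le_iSup (fun s : ↥Tg => cjs (s : G) T₁) ⟨t * s, Tg.mul_mem ht s.2⟩

/-- an element commuting with `v` … for a supremum -/
theorem BASM_aux_iSup_comm {ι : Sort*} {A : ι → Subgroup G} {v : G} (h : ∀ i, ∀ a ∈ A i, a * v = v * a) :
    ∀ a ∈ ⨆ i, A i, a * v = v * a := by
  have h1 : (⨆ i, A i) ≤ Subgroup.centralizer ({v} : Set G) := by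
    refine iSup_le fun i a ha => ?_
    rw [Subgroup.mem_centralizer_iff]
    intro w hw
    rw [Set.mem_singleton_iff] at hw
    subst hw
    exact (h i a ha).symm
  intro a ha
  have h2 := h1 ha
  rw [Subgroup.mem_centralizer_iff] at h2
  exact (h2 v rfl).symm

/-- an element centralising `A` normalises it -/
theorem BASM_aux_cj_of_comm {b : G} {A : Subgroup G} (h : ∀ y ∈ A, b * y = y * b) : cjs b A = A := by
  ext y
  rw [cj_mem]
  constructor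
  · intro hy
    have h1 := h _ hy
    have h2 : b⁻¹ * y * b = y := by
      have h3 : b * (b⁻¹ * y * b) = y * b := by group
      rw [h3] at h1
      exact (mul_right_cancel h1).symm
    rwa [h2] at hy
  · intro hy
    have h1 := h y hy
    have h2 : b⁻¹ * y * b = y := by
      rw [mul_assoc, ← h1, inv_mul_cancel_left]
    rwa [h2]

/-- `[X, A] ≤ V` when `X ≤ V` and `A` normalises `V` -/
theorem BASM_aux_comm_le {V A X : Subgroup G} (hA : A ≤ Subgroup.normalizer (V : Set G)) (hX : X ≤ V) :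
    ⁅X, A⁆ ≤ V := by
  rw [Subgroup.commutator_le]
  intro x hx a ha
  have h1 : a * x⁻¹ * a⁻¹ ∈ V := (Subgroup.mem_normalizer_iff.1 (hA ha) x⁻¹).1 (V.inv_mem (hX hx))
  have h2 : ⁅x, a⁆ = x * (a * x⁻¹ * a⁻¹) := by
    rw [commutatorElement_def]; group
  rw [h2]
  exact V.mul_mem (hX hx) h1

/-- the order of a conjugate -/
theorem BASM_aux_orderOf_conj (s x : G) : orderOf (s * x * s⁻¹) = orderOf x := by
  have h := orderOf_injective (MulAut.conj s).toMonoidHom (MulAut.conj s).injective x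
  simpa [MulAut.conj_apply] using h

/-- BASM, the core: one component `E₁`, the lemmas of the board as hypotheses, abstract conclusion `C`. -/
theorem BASM_core [Finite G] {p : ℕ} {V P Tg E₁ Rr : Subgroup G}
    (hV : Cfsg.IsElementaryAbelian p V) (hPV : P ≤ Subgroup.normalizer (V : Set G))
    (hTP : Tg ≤ P) (hEP : E₁ ≤ P) (hRV : Rr ≤ V) {C : Prop}
    (hGEN : ∀ U R' : Subgroup G, U ≤ V → R' ≤ P → U ≠ ⊥ →
      (∀ u ∈ U, (∀ r ∈ R', r * u = u * r) → u = 1) →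
      (∀ t ∈ Tg, cjs t U ≤ U ∨ ∀ r ∈ R', ∀ u ∈ cjs t U, r * u = u * r) → C)
    (hCOPRK : ∀ X B Q : Subgroup G, (∀ x ∈ X, ∀ y ∈ X, x * y = y * x) → IsPGroup p ↥X →
      (∀ b ∈ B, cjs b X = X) → Q ≤ B → (∀ b ∈ B, cjs b Q = Q) → IsPGroup p ↥Q →
      (∀ a ∈ Q, ∀ x ∈ X, a * x = x * a) →
      (∀ S : Subgroup G, S ≤ B → IsPGroup p ↥S → Nat.card ↥S ≤ Nat.card ↥Q) →
      ∀ u ∈ ⁅X, B⁆, (∀ b ∈ B, b * u = u * b) → u = 1)
    (hSyl1 : IsPGroup p ↥(Tg ⊓ E₁))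
    (hSyl2 : ∀ S : Subgroup G, S ≤ E₁ → IsPGroup p ↥S → Nat.card ↥S ≤ Nat.card ↥(Tg ⊓ E₁))
    (hN : ∀ t ∈ Tg, cjs t E₁ = E₁ ∨ ∀ x ∈ E₁, ∀ y ∈ cjs t E₁, x * y = y * x)
    (hS3a : ∀ t ∈ Tg, cjs t E₁ ≠ E₁ → ∀ y ∈ cjs t E₁, Odd (orderOf y) → ∀ u ∈ ⁅V, E₁⁆ ⊔ Rr, y * u = u * y)
    (hS3b : ∀ t ∈ Tg, cjs t E₁ ≠ E₁ → ∀ x ∈ E₁, Odd (orderOf x) → ∀ u ∈ ⁅V, cjs t E₁⁆, x * u = u * x)
    (hBL : (∀ a ∈ Tg ⊓ E₁, ∃ x ∈ E₁, ∃ y ∈ E₁, Odd (orderOf x) ∧ Odd (orderOf y) ∧ a = x * y) ∧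
      ∃ h ∈ E₁, Odd (orderOf h) ∧ (∀ a ∈ Tg ⊓ E₁, h * a * h⁻¹ ∈ Tg ⊓ E₁) ∧
        ∃ v ∈ ⁅V, E₁⁆ ⊔ Rr, (∀ a ∈ Tg ⊓ E₁, a * v = v * a) ∧ h * v * h⁻¹ ≠ v) : C := by
  classical
  obtain ⟨hBL1, h, hhE, hhodd, hhT, v, hvU, hvT, hhv⟩ := hBL
  obtain ⟨T₁, hT₁def⟩ : ∃ T₁ : Subgroup G, T₁ = Tg ⊓ E₁ := ⟨_, rfl⟩
  rw [← hT₁def] at hSyl1 hSyl2 hBL1 hhT hvT
  obtain ⟨T₀, hT₀def⟩ : ∃ T₀ : Subgroup G, T₀ = ⨆ s : ↥Tg, cjs (s : G) T₁ := ⟨_, rfl⟩
  obtain ⟨B₁, hB₁def⟩ : ∃ B₁ : Subgroup G, B₁ = E₁ ⊓ Subgroup.normalizer (T₁ : Set G) := ⟨_, rfl⟩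
  obtain ⟨O₁, hO₁def⟩ : ∃ O₁ : Subgroup G, O₁ = Subgroup.closure {x | x ∈ B₁ ∧ Odd (orderOf x)} := ⟨_, rfl⟩
  have hT₁E : T₁ ≤ E₁ := hT₁def ▸ inf_le_right
  have hT₁T₀ : T₁ ≤ T₀ := by
    rw [hT₀def]
    calc T₁ = cjs 1 T₁ := (cj_one T₁).symm
      _ ≤ _ := le_iSup (fun s : ↥Tg => cjs (s : G) T₁) ⟨1, Tg.one_mem⟩
  have hB₁E : B₁ ≤ E₁ := hB₁def ▸ inf_le_left
  have hB₁n : ∀ b ∈ B₁, cjs b T₁ = T₁ := by
    intro b hb
    rw [hB₁def] at hb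
    exact cj_norm hb.2
  have hT₁B₁ : T₁ ≤ B₁ := by
    rw [hB₁def]
    exact le_inf hT₁E Subgroup.le_normalizer
  have hO₁B₁ : O₁ ≤ B₁ := by
    rw [hO₁def]
    exact (Subgroup.closure_le _).2 (fun x hx => hx.1)
  have hR'B₁ : T₁ ⊔ O₁ ≤ B₁ := sup_le hT₁B₁ hO₁B₁
  have hB₁P : B₁ ≤ P := hB₁E.trans hEP
  -- the `Tg`-conjugates of `T₁`
  have hcjT₁ : ∀ s ∈ Tg, cjs s E₁ = E₁ → cjs s T₁ = T₁ := by
    intro s hs h1
    rw [hT₁def, cj_inf, cj_self hs, h1]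
  have hcomm : ∀ s ∈ Tg, cjs s E₁ ≠ E₁ → ∀ x ∈ E₁, ∀ y ∈ cjs s E₁, x * y = y * x := by
    intro s hs h1
    rcases hN s hs with h2 | h2
    · exact absurd h2 h1
    · exact h2
  -- `B₁` normalises `T₀` and `X`
  have hB₁T₀ : ∀ b ∈ B₁, cjs b T₀ = T₀ := by
    intro b hb
    rw [hT₀def]
    show (⨆ s : ↥Tg, cjs (s : G) T₁).map (MulAut.conj b).toMonoidHom = _
    rw [Subgroup.map_iSup]
    refine iSup_congr fun s => ?_
    show cjs b (cjs (s : G) T₁) = cjs (s : G) T₁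
    by_cases h1 : cjs (s : G) E₁ = E₁
    · rw [hcjT₁ s s.2 h1]
      exact hB₁n b hb
    · exact BASM_aux_cj_of_comm fun y hy => hcomm s s.2 h1 b (hB₁E hb) y (cj_mono hT₁E hy)
  have hB₁X : ∀ b ∈ B₁, cjs b (fixV V T₀) = fixV V T₀ := by
    intro b hb
    rw [← cj_fix T₀ (hPV (hB₁P hb)), hB₁T₀ b hb]
  have hTgT₀ : ∀ t ∈ Tg, cjs t T₀ = T₀ := by
    intro t ht
    rw [hT₀def]
    exact BASM_aux_T0_inv Tg T₁ ht
  have hTgX : ∀ t ∈ Tg, cjs t (fixV V T₀) = fixV V T₀ := by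
    intro t ht
    rw [← cj_fix T₀ (hPV (hTP ht)), hTgT₀ t ht]
  have hXV : fixV V T₀ ≤ V := fix_le _ _
  have hUtV : ⁅V, E₁⁆ ⊔ Rr ≤ V := sup_le (BASM_aux_comm_le (hEP.trans hPV) le_rfl) hRV
  -- `h ∈ B₁`
  have hhB₁ : h ∈ B₁ := by
    rw [hB₁def]
    refine Subgroup.mem_inf.2 ⟨hhE, ?_⟩
    have h1 : cjs h T₁ ≤ T₁ := by
      intro y hy
      rw [cj_mem] at hy
      have h2 := hhT _ hy
      have h3 : h * (h⁻¹ * y * h) * h⁻¹ = y := by group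
      rwa [h3] at h2
    have h2 : cjs h T₁ = T₁ := Subgroup.eq_of_le_of_card_ge h1 (cj_card h T₁).ge
    have h3 : cjs h⁻¹ T₁ = T₁ := by
      conv_lhs => rw [← h2]
      exact cj_inv_cj h T₁
    exact S1_aux_mem_normalizer_of_cjs h2.le h3.le
  have hhO₁ : h ∈ O₁ := by
    rw [hO₁def]
    exact Subgroup.subset_closure ⟨hhB₁, hhodd⟩
  -- `v ∈ X`
  have hvX : v ∈ fixV V T₀ := by
    refine mem_fix.2 ⟨hUtV hvU, ?_⟩
    rw [hT₀def]
    refine BASM_aux_iSup_comm fun s a ha => ?_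
    by_cases h1 : cjs (s : G) E₁ = E₁
    · rw [hcjT₁ s s.2 h1] at ha
      exact hvT a ha
    · rw [cj_mem] at ha
      obtain ⟨x, hx, y, hy, hxo, hyo, hxy⟩ := hBL1 _ ha
      have h2 : a = ((s : G) * x * (s : G)⁻¹) * ((s : G) * y * (s : G)⁻¹) := by
        have h3 : a = (s : G) * ((s : G)⁻¹ * a * (s : G)) * (s : G)⁻¹ := by group
        rw [h3, hxy]; group
      have hx' := hS3a s s.2 h1 ((s : G) * x * (s : G)⁻¹) (cj_mem_conj.2 hx)
        (by rw [BASM_aux_orderOf_conj]; exact hxo) v hvU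
      have hy' := hS3a s s.2 h1 ((s : G) * y * (s : G)⁻¹) (cj_mem_conj.2 hy)
        (by rw [BASM_aux_orderOf_conj]; exact hyo) v hvU
      rw [h2, mul_assoc, hy', ← mul_assoc, hx', mul_assoc]
  -- apply GENORB
  refine hGEN ⁅fixV V T₀, T₁ ⊔ O₁⁆ (T₁ ⊔ O₁) (BASM_aux_comm_le ((hR'B₁.trans hB₁P).trans hPV) hXV)
    (hR'B₁.trans hB₁P) ?_ ?_ ?_
  · -- `U ≠ ⊥`
    intro hbot
    have h1 : ⁅v, h⁆ ∈ ⁅fixV V T₀, T₁ ⊔ O₁⁆ :=
      Subgroup.commutator_mem_commutator hvX (Subgroup.mem_sup_right hhO₁)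
    rw [hbot, Subgroup.mem_bot, commutatorElement_def] at h1
    apply hhv
    have h2 : h * v * h⁻¹ = (v * h * v⁻¹ * h⁻¹)⁻¹ * v := by group
    rw [h2, h1, inv_one, one_mul]
  · -- h1 : COPRK
    have hXp : IsPGroup p ↥(fixV V T₀) := by
      intro x
      refine ⟨1, ?_⟩
      apply Subtype.ext
      rw [pow_one, Subgroup.coe_pow]
      exact hV.2 _ (hXV x.2)
    exact hCOPRK (fixV V T₀) (T₁ ⊔ O₁) T₁
      (fun x hx y hy => S1_aux_comm hV (hXV hx) (hXV hy)) hXp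
      (fun b hb => hB₁X b (hR'B₁ hb)) le_sup_left (fun b hb => hB₁n b (hR'B₁ hb)) hSyl1
      (fun a ha x hx => (mem_fix.1 hx).2 a (hT₁T₀ ha))
      (fun S hS hSp => hSyl2 S (hS.trans (hR'B₁.trans hB₁E)) hSp)
  · -- h2
    intro t ht
    by_cases h1 : cjs t E₁ = E₁
    · left
      have hT₁t : ∀ t ∈ Tg, cjs t E₁ = E₁ → cjs t T₁ = T₁ := hcjT₁
      have hB₁t : cjs t B₁ ≤ B₁ := by
        intro y hy
        rw [cj_mem] at hy
        rw [hB₁def]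
        have hy' := hy
        rw [hB₁def] at hy'
        have hyE : y ∈ E₁ := by
          have h2 : t * (t⁻¹ * y * t) * t⁻¹ ∈ cjs t E₁ := cj_mem_conj.2 hy'.1
          have h3 : t * (t⁻¹ * y * t) * t⁻¹ = y := by group
          rw [h3, h1] at h2
          exact h2
        refine Subgroup.mem_inf.2 ⟨hyE, ?_⟩
        rw [Subgroup.mem_normalizer_iff_map_conj_eq]
        show cjs y T₁ = T₁
        have h4 : cjs (t⁻¹ * y * t) T₁ = T₁ := hB₁n _ hy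
        have h5 : cjs y T₁ = cjs t (cjs (t⁻¹ * y * t) (cjs t⁻¹ T₁)) := by
          rw [cj_mul, cj_mul]
          congr 1
          group
        have h6 : cjs t⁻¹ T₁ = T₁ := by
          conv_lhs => rw [← hT₁t t ht h1]
          exact cj_inv_cj t T₁
        rw [h5, h6, h4, hT₁t t ht h1]
      have hO₁t : cjs t O₁ ≤ O₁ := by
        show O₁.map (MulAut.conj t).toMonoidHom ≤ O₁
        rw [Subgroup.map_le_iff_le_comap]
        conv_lhs => rw [hO₁def]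
        rw [Subgroup.closure_le]
        intro x hx
        show (MulAut.conj t).toMonoidHom x ∈ O₁
        have h2 : (MulAut.conj t).toMonoidHom x = t * x * t⁻¹ := by simp [MulAut.conj_apply]
        rw [h2, hO₁def]
        refine Subgroup.subset_closure ⟨hB₁t (cj_mem_conj.2 hx.1), ?_⟩
        rw [BASM_aux_orderOf_conj]
        exact hx.2
      rw [cj_comm, hTgX t ht, cj_sup, hT₁t t ht h1]
      exact Subgroup.commutator_mono le_rfl (sup_le_sup_left hO₁t T₁)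
    · right
      have hxc : ∀ x ∈ E₁, Odd (orderOf x) →
          x ∈ Subgroup.centralizer ((⁅V, cjs t E₁⁆ : Subgroup G) : Set G) := by
        intro x hx hxo
        rw [Subgroup.mem_centralizer_iff]
        intro u hu
        exact (hS3b t ht h1 x hx hxo u hu).symm
      have hR'c : T₁ ⊔ O₁ ≤ Subgroup.centralizer ((⁅V, cjs t E₁⁆ : Subgroup G) : Set G) := by
        refine sup_le ?_ ?_
        · intro a ha
          obtain ⟨x, hx, y, hy, hxo, hyo, rfl⟩ := hBL1 a ha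
          exact mul_mem (hxc x hx hxo) (hxc y hy hyo)
        · rw [hO₁def, Subgroup.closure_le]
          intro x hx
          exact hxc x (hB₁E hx.1) hx.2
      have hUle : cjs t ⁅fixV V T₀, T₁ ⊔ O₁⁆ ≤ ⁅V, cjs t E₁⁆ := by
        rw [cj_comm, hTgX t ht]
        exact Subgroup.commutator_mono hXV (cj_mono (hR'B₁.trans hB₁E))
      intro r hr u hu
      have h2 := hR'c hr
      rw [Subgroup.mem_centralizer_iff] at h2
      exact (h2 u (hUle hu)).symm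

end Cfsg.Agent.S3001P
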