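import Mathlib
import Cfsg.Agent.Helper21.S3001BASMcore
import Cfsg.Agent.Helper14.S3001G8
import Cfsg.Agent.Helper23.S3001GENORB
import Cfsg.Agent.Helper14.S3001COPRK
import Cfsg.Agent.Helper14.S3001SYLE
import Cfsg.Agent.Helper14.S3001NORMN0
import Cfsg.Agent.Helper10.S3001S3C
import Cfsg.Agent.Helper27.S3001BLINE

/-! S3001 endgame, board `s3001pieces`, piece BASM: the assembly of case (b) (`SL₂(2ⁿ)`, `n ≥ 2`) with GENORB:
`BASM_core` (Helper21.S3001BASMcore) applied to `E₁ := E i₀`, with GENORB, COPRK, SYLE, NORMN0, S3C, BLINE and helper10's copy `S3C_aux_g3r` of G3R. -/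

set_option autoImplicit false

namespace Cfsg.Agent.S3001P

open Cfsg.Agent.S2789P Cfsg.Agent.S2999P Cfsg.Agent.S3000P

universe u

variable {G : Type u} [Group G] [Finite G] {p : ℕ} [Fact p.Prime] {V P : Subgroup G}

variable {r : ℕ} {E : Fin r → Subgroup G}

/-- BASM (L): assembly of (b) with GENORB. -/
theorem BASM (H : Hyp1 p V P) (T : Sylow p ↥P) (hC : ConclPBB p (V0 p V P) V P (TT T) r E) (hT : ∀ i, ∀ t ∈ TT T, ∃ j, cjs t (E i) = E j)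
    (hp : p = 2) (i₀ : Fin r) {F : Type} [Field F] [Fintype F] {n : ℕ} (hn : 2 ≤ n) (hF : Fintype.card F = p ^ n)
    (hiso : Nonempty (↥(E i₀) ≃* Matrix.SpecialLinearGroup (Fin 2) F))
    (hact : Cfsg.ActsAsSL2OnSection F ⊤ (E i₀) (⁅V, E i₀⁆ ⊔ V0 p V P) (fixMod (V0 p V P) (⁅V, E i₀⁆ ⊔ V0 p V P) (E i₀))) :
    ⁅fixV V (TT T), P⁆ ≠ ⊥ := by
  subst hp
  have hTP : TT T ≤ P := Subgroup.map_subtype_le _
  have hEP : E i₀ ≤ P := hC.2.1 i₀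
  have hodd : ∀ x : G, Odd (orderOf x) → (orderOf x).Coprime 2 := fun x hx => Nat.coprime_two_right.2 hx
  obtain ⟨hS1, hS2⟩ := SYLE H T hC hT i₀
  obtain ⟨-, -, hN3⟩ := NORMN0 H T hC hT
  have hUtV : ⁅V, E i₀⁆ ⊔ V0 2 V P ≤ V :=
    sup_le (BASM_aux_comm_le (hEP.trans H.hPV) le_rfl) (V0_le_V 2 V P)
  have hUtN : ⁅V, E i₀⁆ ⊔ V0 2 V P ≤ NR (V0 2 V P) := hUtV.trans (V_le_NR H.hV)
  have hEN : E i₀ ≤ NR (V0 2 V P) := hEP.trans (P_le_NR H.hPV)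
  have hS3a : ∀ t ∈ TT T, cjs t (E i₀) ≠ E i₀ → ∀ y ∈ cjs t (E i₀), Odd (orderOf y) →
      ∀ u ∈ ⁅V, E i₀⁆ ⊔ V0 2 V P, y * u = u * y := by
    intro t ht hne y hy hyo u hu
    obtain ⟨j, hj⟩ := hT i₀ t ht
    have hij : i₀ ≠ j := by
      rintro rfl
      exact hne hj
    rw [hj] at hy
    exact S3C H T hC hij hy (hodd y hyo) u hu
  have hS3b : ∀ t ∈ TT T, cjs t (E i₀) ≠ E i₀ → ∀ x ∈ E i₀, Odd (orderOf x) →
      ∀ u ∈ ⁅V, cjs t (E i₀)⁆, x * u = u * x := by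
    intro t ht hne x hx hxo u hu
    obtain ⟨j, hj⟩ := hT i₀ t ht
    have hij : i₀ ≠ j := by
      rintro rfl
      exact hne hj
    rw [hj] at hu
    exact S3C H T hC hij.symm hx (hodd x hxo) u (Subgroup.mem_sup_left hu)
  have hBL := BLINE (E₁ := E i₀) (Ut := ⁅V, E i₀⁆ ⊔ V0 2 V P)
    (U₀ := fixMod (V0 2 V P) (⁅V, E i₀⁆ ⊔ V0 2 V P) (E i₀)) (T₁ := TT T ⊓ E i₀) hn hF
    (fun u hu v hv => S1_aux_comm H.hV (hUtV hu) (hUtV hv))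
    (fun u hu => by rw [← pow_two]; exact H.hV.2 u (hUtV hu))
    hiso hact
    (fun x hx hxo u hu => by
      have h1 := (mem_fixMod hUtN hEN).1 hu
      exact S3C_aux_g3r H (hEP hx) (hodd x hxo) (hUtV h1.1) (h1.2 x hx))
    inf_le_right hS1 hS2
  exact BASM_core H.hV H.hPV hTP hEP (V0_le_V 2 V P)
    (fun U R' hUV hRP hne h1 h2 => GENORB H.hV H.hPV T hUV hRP hne h1 h2)
    (fun X B Q h1 h2 h3 h4 h5 h6 h7 h8 => COPRK h1 h2 h3 h4 h5 h6 h7 h8)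
    hS1 hS2 (hN3 i₀) hS3a hS3b hBL

end Cfsg.Agent.S3001P
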