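import Mathlib
import Cfsg.Prelude.Def_Transfer
import Cfsg.Agent.Helper29.S3501DER

set_option autoImplicit false
set_option linter.unusedSectionVars false
set_option linter.unusedVariables false

/-! # S3556, case (A) (helper21): an abelian minimal normal subgroup of a faithful primitive group is regular and
elementary abelian. -/

namespace Cfsg.Agent.S3556P

open MulAction

/-- an abelian transitive subgroup of a faithful action is semiregular -/
theorem ABEL.aux_regular {G Ω : Type*} [Group G] [MulAction G Ω] [FaithfulSMul G Ω]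
    (N : Subgroup G) (hab : IsMulCommutative N) [IsPretransitive N Ω] (a : Ω) :
    stabilizer N a = ⊥ := by
  rw [Subgroup.eq_bot_iff_forall]
  intro n hn
  have hna : n • a = a := hn
  apply Subtype.ext
  apply FaithfulSMul.eq_of_smul_eq_smul (α := Ω)
  intro b
  obtain ⟨m, rfl⟩ := exists_smul_eq N a b
  have hc : n * m = m * n := hab.is_comm.comm n m
  show (n : G) • (m • a) = (1 : G) • (m • a)
  rw [one_smul]
  calc (n : G) • (m • a) = (n * m) • a := by rw [mul_smul]; rfl
    _ = (m * n) • a := by rw [hc]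
    _ = m • (n • a) := by rw [mul_smul]
    _ = m • a := by rw [hna]

/-- the elements of exponent dividing `r` of a commutative subgroup -/
def ABEL.aux_omega {G : Type*} [Group G] (N : Subgroup G) (hab : IsMulCommutative N) (r : ℕ) :
    Subgroup G where
  carrier := {x | x ∈ N ∧ x ^ r = 1}
  one_mem' := ⟨N.one_mem, one_pow r⟩
  mul_mem' := by
    rintro x y ⟨hx, hxr⟩ ⟨hy, hyr⟩
    refine ⟨N.mul_mem hx hy, ?_⟩
    have hc : (⟨x, hx⟩ : N) * ⟨y, hy⟩ = ⟨y, hy⟩ * ⟨x, hx⟩ := hab.is_comm.comm _ _
    have hc' : Commute x y := congrArg Subtype.val hc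
    rw [hc'.mul_pow, hxr, hyr, one_mul]
  inv_mem' := by
    rintro x ⟨hx, hxr⟩
    exact ⟨N.inv_mem hx, by rw [inv_pow, hxr, inv_one]⟩

/-- case (A): an abelian minimal normal subgroup of a finite faithful primitive group is an elementary abelian
regular normal subgroup. -/
theorem ABEL {G Ω : Type*} [Group G] [Finite G] [MulAction G Ω] [FaithfulSMul G Ω] [Finite Ω]
    (hprim : MulAction.IsPreprimitive G Ω)
    (N : Subgroup G) [N.Normal] (hN : N ≠ ⊥)
    (hmin : ∀ M : Subgroup G, M.Normal → M ≤ N → M = ⊥ ∨ M = N)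
    (hab : IsMulCommutative N) :
    ∃ r : ℕ, r.Prime ∧ Cfsg.IsElementaryAbelian r N ∧ MulAction.IsPretransitive N Ω ∧
      ∀ a : Ω, MulAction.stabilizer N a = ⊥ := by
  classical
  have htr : IsPretransitive N Ω := Cfsg.Agent.S3501P.DER.normal_transitive N hN
  -- a prime dividing `|N|`
  have hcard : Nat.card N ≠ 1 := by
    intro h
    exact hN (Subgroup.card_eq_one.mp h)
  obtain ⟨r, hr, hrd⟩ := Nat.exists_prime_and_dvd hcard
  have hfr : Fact r.Prime := ⟨hr⟩
  obtain ⟨x, hx⟩ := exists_prime_orderOf_dvd_card' (G := N) r hrd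
  -- the subgroup of elements of exponent `r`
  have hΩn : (ABEL.aux_omega N hab r).Normal := by
    constructor
    rintro y ⟨hy, hyr⟩ g
    refine ⟨‹N.Normal›.conj_mem y hy g, ?_⟩
    rw [conj_pow, hyr, mul_one, mul_inv_cancel]
  have hΩle : ABEL.aux_omega N hab r ≤ N := fun y hy => hy.1
  have hxmem : (x : G) ∈ ABEL.aux_omega N hab r := by
    refine ⟨x.2, ?_⟩
    have : x ^ r = 1 := by rw [← hx]; exact pow_orderOf_eq_one x
    have := congrArg Subtype.val this
    simpa using this
  have hx1 : (x : G) ≠ 1 := by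
    intro h
    have : x = 1 := Subtype.ext h
    rw [this, orderOf_one] at hx
    exact hr.one_lt.ne hx
  have hΩeq : ABEL.aux_omega N hab r = N := by
    rcases hmin _ hΩn hΩle with h | h
    · exfalso
      rw [Subgroup.eq_bot_iff_forall] at h
      exact hx1 (h _ hxmem)
    · exact h
  refine ⟨r, hr, ⟨hab, ?_⟩, htr, fun a => ABEL.aux_regular N hab a⟩
  intro a ha
  have : a ∈ ABEL.aux_omega N hab r := by rw [hΩeq]; exact ha
  exact this.2

end Cfsg.Agent.S3556P
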