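import Mathlib
import Cfsg.Agent.Helper3.S3557K1

set_option autoImplicit false
set_option linter.unusedSectionVars false
set_option linter.unusedVariables false
set_option linter.style.haveILetI false

/-! # S3641 piece KTRIV: a normal subgroup normalising every Sylow subgroup of a group with trivial centre
is trivial.

If `K ≠ 1`, take a prime `r ∣ |K|`, a Sylow `r`-subgroup `T` of `G` meeting `K` non-trivially and
`1 ≠ z ∈ K ∩ Z(T)`. For `s ≠ r`, a Sylow `s`-subgroup `Q` and `y ∈ Q`: `z y z⁻¹ y⁻¹ ∈ Q` (`z` normalises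
`Q`), and `y z⁻¹ y⁻¹ ∈ K` is an `r`-element normalising `T`, hence in `T`, so `z y z⁻¹ y⁻¹ ∈ T ∩ Q = 1`.
So `C_G(z)` contains a Sylow `s`-subgroup for every `s`, `C_G(z) = G`, `z ∈ Z(G) = 1`. -/

namespace Cfsg.Agent.S3641P

/-- A subgroup containing a Sylow `s`-subgroup for every prime `s` dividing the order is the whole
group. -/
theorem KTRIV.aux_top {G : Type*} [Group G] [Finite G] (C : Subgroup G)
    (h : ∀ (s : ℕ) [Fact s.Prime], s ∣ Nat.card G → ∃ Q : Sylow s G, (Q : Subgroup G) ≤ C) : C = ⊤ := by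
  apply Subgroup.eq_top_of_card_eq
  apply Nat.dvd_antisymm (Subgroup.card_subgroup_dvd_card C)
  have hG0 : Nat.card G ≠ 0 := Nat.card_pos.ne'
  have hC0 : Nat.card C ≠ 0 := Nat.card_pos.ne'
  rw [← Nat.factorization_le_iff_dvd hG0 hC0]
  intro s
  by_cases hs : s.Prime
  · haveI : Fact s.Prime := ⟨hs⟩
    by_cases hsG : s ∣ Nat.card G
    · obtain ⟨Q, hQ⟩ := h s hsG
      have h1 : Nat.card (Q : Subgroup G) ∣ Nat.card C := Subgroup.card_dvd_of_le hQ
      rw [Q.card_eq_multiplicity] at h1
      exact (hs.pow_dvd_iff_le_factorization hC0).mp h1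
    · rw [Nat.factorization_eq_zero_of_not_dvd hsG]
      exact Nat.zero_le _
  · rw [Nat.factorization_eq_zero_of_not_prime _ hs]
    exact Nat.zero_le _

/-- KTRIV: a normal subgroup normalising every Sylow subgroup of a group with trivial centre is trivial. -/
theorem KTRIV {G : Type*} [Group G] [Finite G] (hZ : Subgroup.center G = ⊥) (K : Subgroup G)
    [K.Normal]
    (h : ∀ (r : ℕ) [Fact r.Prime], r ∣ Nat.card G → ∀ R : Sylow r G,
      K ≤ Subgroup.normalizer ((R : Subgroup G) : Set G)) : K = ⊥ := by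
  classical
  by_contra hK
  have hcard : Nat.card K ≠ 1 := fun h1 => hK (Subgroup.card_eq_one.mp h1)
  obtain ⟨r, hr, hrK⟩ := Nat.exists_prime_and_dvd hcard
  haveI : Fact r.Prime := ⟨hr⟩
  have hrG : r ∣ Nat.card G := dvd_trans hrK (Subgroup.card_subgroup_dvd_card K)
  -- an element of order `r` of `K`, inside a Sylow `r`-subgroup `T`
  obtain ⟨x, hx⟩ := exists_prime_orderOf_dvd_card' r hrK
  have hxG : orderOf (x : G) = r := by rw [Subgroup.orderOf_coe]; exact hx
  have hxP : IsPGroup r (Subgroup.zpowers (x : G)) := by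
    apply IsPGroup.of_card (n := 1)
    rw [Nat.card_zpowers, hxG, pow_one]
  obtain ⟨T, hT⟩ := hxP.exists_le_sylow
  have hxT : (x : G) ∈ (T : Subgroup G) := hT (Subgroup.mem_zpowers _)
  have hx1 : (x : G) ≠ 1 := by
    intro h1
    rw [h1, orderOf_one] at hxG
    exact hr.one_lt.ne hxG
  -- a non-trivial element of `K ∩ Z(T)`
  have hKT : K.subgroupOf (T : Subgroup G) ≠ ⊥ := by
    intro hbot
    have : (⟨x, hxT⟩ : (T : Subgroup G)) ∈ K.subgroupOf (T : Subgroup G) := by
      rw [Subgroup.mem_subgroupOf]; exact x.2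
    rw [hbot, Subgroup.mem_bot] at this
    exact hx1 (congrArg Subtype.val this)
  obtain ⟨c, hcK, hcZ, hc1⟩ :=
    S3557P.K1_normal_inf_center r T.isPGroup' (K.subgroupOf (T : Subgroup G)) hKT
  have hzK : (c : G) ∈ K := hcK
  have hzT : (c : G) ∈ (T : Subgroup G) := c.2
  have hz1 : (c : G) ≠ 1 := fun h1 => hc1 (Subtype.ext h1)
  have hzcent : ∀ y ∈ (T : Subgroup G), y * (c : G) = (c : G) * y := by
    intro y hy
    have := Subgroup.mem_center_iff.mp hcZ ⟨y, hy⟩
    exact congrArg Subtype.val this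
  -- the centraliser of `z` is everything
  have htop : Subgroup.centralizer ({(c : G)} : Set G) = ⊤ := by
    apply KTRIV.aux_top
    intro s _ hsG
    by_cases hsr : s = r
    · subst hsr
      refine ⟨T, fun y hy => ?_⟩
      rw [Subgroup.mem_centralizer_singleton_iff]
      exact hzcent y hy
    · obtain ⟨Q⟩ : Nonempty (Sylow s G) := inferInstance
      refine ⟨Q, fun y hy => ?_⟩
      rw [Subgroup.mem_centralizer_singleton_iff]
      -- `u = y z⁻¹ y⁻¹ ∈ K` is an `r`-element normalising `T`, so `u ∈ T`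
      set u : G := y * (c : G)⁻¹ * y⁻¹ with hu
      have huK : u ∈ K := ‹K.Normal›.conj_mem _ (K.inv_mem hzK) y
      have huN : u ∈ Subgroup.normalizer ((T : Subgroup G) : Set G) := h r hrG T huK
      have huP : IsPGroup r (Subgroup.zpowers u) := by
        have hcP : IsPGroup r (Subgroup.zpowers (c : G)⁻¹) :=
          T.isPGroup'.to_le (by
            rw [Subgroup.zpowers_le]; exact (T : Subgroup G).inv_mem hzT)
        have hmap : Subgroup.zpowers u = (Subgroup.zpowers (c : G)⁻¹).map (MulAut.conj y).toMonoidHom := by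
          rw [MonoidHom.map_zpowers]
          rfl
        rw [hmap]
        exact hcP.map _
      have huT : u ∈ (T : Subgroup G) := by
        have h1 := huP.inf_normalizer_sylow T
        have h2 : u ∈ Subgroup.zpowers u ⊓ Subgroup.normalizer ((T : Subgroup G) : Set G) :=
          ⟨Subgroup.mem_zpowers u, huN⟩
        have h3 : u ∈ Subgroup.zpowers u ⊓ (T : Subgroup G) := by
          rw [← h1]; exact h2
        exact h3.2
      -- `w = z u ∈ T ∩ Q = 1`
      have hzN : (c : G) ∈ Subgroup.normalizer ((Q : Subgroup G) : Set G) := h s hsG Q hzK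
      have hwQ : (c : G) * y * (c : G)⁻¹ * y⁻¹ ∈ (Q : Subgroup G) :=
        (Q : Subgroup G).mul_mem ((Subgroup.mem_normalizer_iff.mp hzN y).mp hy)
          ((Q : Subgroup G).inv_mem hy)
      have hwT : (c : G) * y * (c : G)⁻¹ * y⁻¹ ∈ (T : Subgroup G) := by
        have : (c : G) * y * (c : G)⁻¹ * y⁻¹ = (c : G) * u := by rw [hu]; group
        rw [this]
        exact (T : Subgroup G).mul_mem hzT huT
      have hdisj := IsPGroup.disjoint_of_ne r s (fun hh => hsr hh.symm) (T : Subgroup G) (Q : Subgroup G)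
        T.isPGroup' Q.isPGroup'
      have hw1 : (c : G) * y * (c : G)⁻¹ * y⁻¹ = 1 := by
        have : (c : G) * y * (c : G)⁻¹ * y⁻¹ ∈ (T : Subgroup G) ⊓ (Q : Subgroup G) := ⟨hwT, hwQ⟩
        rw [hdisj.eq_bot, Subgroup.mem_bot] at this
        exact this
      calc y * (c : G) = ((c : G) * y * (c : G)⁻¹ * y⁻¹)⁻¹ * ((c : G) * y) := by group
        _ = (c : G) * y := by rw [hw1]; group
  -- so `z` is central
  have hzc : (c : G) ∈ Subgroup.center G := by
    rw [Subgroup.mem_center_iff]
    intro g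
    have : g ∈ Subgroup.centralizer ({(c : G)} : Set G) := by rw [htop]; trivial
    exact Subgroup.mem_centralizer_singleton_iff.mp this
  rw [hZ, Subgroup.mem_bot] at hzc
  exact hz1 hzc

end Cfsg.Agent.S3641P
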