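import Mathlib

set_option autoImplicit false
set_option linter.unusedSectionVars false
set_option linter.unusedVariables false
set_option linter.style.haveILetI false

/-! # S3641 sub-piece PERM.CARD: orbit-stabiliser twice.

`H` is transitive on the 18 points (`h2tr` through a third point), the stabiliser of `a` is transitive on
the other 17 points, so `|H| = 18 · 17 · |H_{ab}|`. -/

namespace Cfsg.Agent.S3641P

open MulAction

/-- PERM.CARD: orbit-stabiliser twice. -/
theorem PERM.CARD {Ω : Type*} [Fintype Ω] [DecidableEq Ω] (hΩ : Fintype.card Ω = 18)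
    (H : Subgroup (Equiv.Perm Ω))
    (h2tr : ∀ a b c : Ω, b ≠ a → c ≠ a → ∃ h ∈ H, h a = a ∧ h b = c)
    (a b : Ω) (hab : a ≠ b) :
    Nat.card H = 18 * 17 * Nat.card {h : Equiv.Perm Ω // h ∈ H ∧ h a = a ∧ h b = b} := by
  classical
  have hΩ' : Nat.card Ω = 18 := by rw [Nat.card_eq_fintype_card]; exact hΩ
  have hsm : ∀ (h : H) (x : Ω), h • x = (h : Equiv.Perm Ω) x := fun h x => rfl
  -- `H` is transitive
  have horb1 : orbit H a = Set.univ := by
    ext y
    simp only [Set.mem_univ, iff_true]
    by_cases hya : y = a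
    · rw [hya]; exact mem_orbit_self _
    · obtain ⟨z, hza, hzy⟩ : ∃ z, z ≠ a ∧ z ≠ y := by
        by_contra hcon
        push Not at hcon
        have hsub : (Finset.univ : Finset Ω) ⊆ {a, y} := by
          intro z _
          by_cases h : z = a
          · simp [h]
          · simp [hcon z h]
        have h1 := Finset.card_le_card hsub
        have h2 : ({a, y} : Finset Ω).card ≤ 2 := Finset.card_le_two
        rw [Finset.card_univ, hΩ] at h1
        omega
      obtain ⟨h, hH, _, hay⟩ := h2tr z a y (Ne.symm hza) (fun hh => hzy hh.symm)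
      exact ⟨⟨h, hH⟩, hay⟩
  have hcount1 : Nat.card (stabilizer H a) * 18 = Nat.card H := by
    have e1 := Subgroup.card_mul_index (stabilizer H a)
    rw [MulAction.index_stabilizer, horb1, Set.ncard_univ, hΩ'] at e1
    exact e1
  -- the stabiliser of `a` is transitive on the other points
  have hsmK : ∀ (k : stabilizer H a) (x : Ω), k • x = ((k : H) : Equiv.Perm Ω) x := fun k x => rfl
  have horb2 : orbit (stabilizer H a) b = ({a} : Set Ω)ᶜ := by
    ext y
    simp only [Set.mem_compl_iff, Set.mem_singleton_iff]
    constructor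
    · rintro ⟨k, rfl⟩ hka
      have hk : ((k : H) : Equiv.Perm Ω) a = a := mem_stabilizer_iff.mp k.2
      have hka' : ((k : H) : Equiv.Perm Ω) b = a := hka
      have : ((k : H) : Equiv.Perm Ω) b = ((k : H) : Equiv.Perm Ω) a := by rw [hka', hk]
      exact hab ((Equiv.injective _ this).symm)
    · intro hya
      obtain ⟨h, hH, hha, hby⟩ := h2tr a b y (Ne.symm hab) hya
      exact ⟨⟨⟨h, hH⟩, mem_stabilizer_iff.mpr hha⟩, hby⟩
  have hcount2 : Nat.card (stabilizer (stabilizer H a) b) * 17 = Nat.card (stabilizer H a) := by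
    have e1 := Subgroup.card_mul_index (stabilizer (stabilizer H a) b)
    rw [MulAction.index_stabilizer, horb2, Set.ncard_compl, hΩ', Set.ncard_singleton] at e1
    exact e1
  -- the two-point stabiliser
  have hcongr : Nat.card (stabilizer (stabilizer H a) b) =
      Nat.card {h : Equiv.Perm Ω // h ∈ H ∧ h a = a ∧ h b = b} := by
    apply Nat.card_congr
    refine
      { toFun := fun k => ⟨((k : stabilizer H a) : H), (k : stabilizer H a).1.2,
          mem_stabilizer_iff.mp (k : stabilizer H a).2, mem_stabilizer_iff.mp k.2⟩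
        invFun := fun h => ⟨⟨⟨h.1, h.2.1⟩, mem_stabilizer_iff.mpr h.2.2.1⟩,
          mem_stabilizer_iff.mpr h.2.2.2⟩
        left_inv := fun k => rfl
        right_inv := fun h => rfl }
  rw [← hcount1, ← hcount2, hcongr]
  ring

end Cfsg.Agent.S3641P
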