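import Mathlib

set_option autoImplicit false
set_option linter.unusedSectionVars false
set_option linter.unusedVariables false
set_option linter.style.haveILetI false

/-! # S3641 sub-piece PERM.CONJ: all two-point stabilisers have the same order.

`H` is 2-transitive (`h2tr` twice, the first time through a third point), and conjugation by an element of
`H` mapping `(a, b)` to `(a', b')` is a bijection between the two-point stabilisers. -/

namespace Cfsg.Agent.S3641P

/-- PERM.CONJ: if point stabilisers of `H` are transitive on the remaining points, all two-point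
stabilisers have the same order. -/
theorem PERM.CONJ {Ω : Type*} [Fintype Ω] [DecidableEq Ω] (hΩ : 3 ≤ Fintype.card Ω)
    (H : Subgroup (Equiv.Perm Ω))
    (h2tr : ∀ a b c : Ω, b ≠ a → c ≠ a → ∃ h ∈ H, h a = a ∧ h b = c)
    (a b a' b' : Ω) (hab : a ≠ b) (hab' : a' ≠ b') :
    Nat.card {h : Equiv.Perm Ω // h ∈ H ∧ h a = a ∧ h b = b} =
      Nat.card {h : Equiv.Perm Ω // h ∈ H ∧ h a' = a' ∧ h b' = b'} := by
  classical
  -- `H` is transitive
  have htr : ∀ x y : Ω, ∃ g ∈ H, g x = y := by
    intro x y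
    by_cases hxy : x = y
    · exact ⟨1, H.one_mem, by simp [hxy]⟩
    · obtain ⟨z, hzx, hzy⟩ : ∃ z, z ≠ x ∧ z ≠ y := by
        by_contra hcon
        push Not at hcon
        have hsub : (Finset.univ : Finset Ω) ⊆ {x, y} := by
          intro z _
          by_cases h : z = x
          · simp [h]
          · simp [hcon z h]
        have h1 := Finset.card_le_card hsub
        have h2 : ({x, y} : Finset Ω).card ≤ 2 := Finset.card_le_two
        rw [Finset.card_univ] at h1
        omega
      obtain ⟨h, hH, _, hxy'⟩ := h2tr z x y (Ne.symm hzx) (Ne.symm hzy)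
      exact ⟨h, hH, hxy'⟩
  -- `H` is 2-transitive
  obtain ⟨g₁, hg₁, hg₁a⟩ := htr a a'
  have hne : g₁ b ≠ a' := by
    intro h
    rw [← hg₁a] at h
    exact hab (g₁.injective h).symm
  obtain ⟨g₂, hg₂, hg₂a, hg₂b⟩ := h2tr a' (g₁ b) b' hne (Ne.symm hab')
  set g : Equiv.Perm Ω := g₂ * g₁ with hg
  have hgH : g ∈ H := H.mul_mem hg₂ hg₁
  have hga : g a = a' := by rw [hg, Equiv.Perm.mul_apply, hg₁a, hg₂a]
  have hgb : g b = b' := by rw [hg, Equiv.Perm.mul_apply, hg₂b]
  have hga' : g⁻¹ a' = a := by rw [← hga]; simp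
  have hgb' : g⁻¹ b' = b := by rw [← hgb]; simp
  apply Nat.card_congr
  refine
    { toFun := fun h => ⟨g * h.1 * g⁻¹, H.mul_mem (H.mul_mem hgH h.2.1) (H.inv_mem hgH), ?_, ?_⟩
      invFun := fun h => ⟨g⁻¹ * h.1 * g, H.mul_mem (H.mul_mem (H.inv_mem hgH) h.2.1) hgH, ?_, ?_⟩
      left_inv := fun h => Subtype.ext (by simp [mul_assoc])
      right_inv := fun h => Subtype.ext (by simp [mul_assoc]) }
  · rw [Equiv.Perm.mul_apply, Equiv.Perm.mul_apply, hga', h.2.2.1, hga]
  · rw [Equiv.Perm.mul_apply, Equiv.Perm.mul_apply, hgb', h.2.2.2, hgb]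
  · rw [Equiv.Perm.mul_apply, Equiv.Perm.mul_apply, hga, h.2.2.1, hga']
  · rw [Equiv.Perm.mul_apply, Equiv.Perm.mul_apply, hgb, h.2.2.2, hgb']

end Cfsg.Agent.S3641P
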