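import Mathlib
import Cfsg.Prelude.Def_OddOrderLocal

set_option autoImplicit false
set_option linter.unusedSectionVars false

/-! Local analysis for S4018: abelian Sylow 3-subgroup `P` with `|C(P)| = 2|P|`. -/

namespace Cfsg.Agent.Helper21.S4018a

open Subgroup

variable {G : Type*} [Group G] [Finite G]

theorem eq_one_of_sq_of_odd {H : Subgroup G} (hH : Odd (Nat.card H)) {x : G} (hx : x ∈ H)
    (h2 : x * x = 1) : x = 1 := by
  have h1 : orderOf x ∣ 2 := orderOf_dvd_of_pow_eq_one (by rw [pow_two]; exact h2)
  have h3 : orderOf x ∣ Nat.card H := by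
    have := orderOf_dvd_natCard (⟨x, hx⟩ : H)
    rwa [Subgroup.orderOf_mk] at this
  have h4 : orderOf x ∣ Nat.gcd 2 (Nat.card H) := Nat.dvd_gcd h1 h3
  have h5 : Nat.gcd 2 (Nat.card H) = 1 := (Nat.coprime_two_left.mpr hH)
  rw [h5, Nat.dvd_one, orderOf_eq_one_iff] at h4
  exact h4

section local_structure

variable (P : Sylow 3 G) (hab : ∀ a ∈ (P : Subgroup G), ∀ b ∈ (P : Subgroup G), a * b = b * a)
  (hC : Nat.card (centralizer ((P : Subgroup G) : Set G)) = 2 * Nat.card P)
  (z : G) (hz : orderOf z = 2) (hzK : z ∈ centralizer ((P : Subgroup G) : Set G))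

include P in
theorem odd_card : Odd (Nat.card P) := by
  have : Fact (Nat.Prime 3) := ⟨Nat.prime_three⟩
  obtain ⟨n, hn⟩ := IsPGroup.iff_card.mp P.isPGroup'
  rw [hn]
  exact Odd.pow (by decide)

include hab in
theorem le_centralizer : (P : Subgroup G) ≤ centralizer ((P : Subgroup G) : Set G) := by
  intro x hx
  rw [mem_centralizer_iff]
  intro y hy
  exact hab y hy x hx

include hz in
theorem z_not_mem : z ∉ (P : Subgroup G) := by
  intro h
  have h1 : z = 1 := eq_one_of_sq_of_odd (odd_card P) h (by
    have := pow_orderOf_eq_one z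
    rwa [hz, pow_two] at this)
  rw [h1, orderOf_one] at hz
  omega

include hab hC hz hzK in
theorem mem_or_mul_mem (k : G) (hk : k ∈ centralizer ((P : Subgroup G) : Set G)) :
    k ∈ (P : Subgroup G) ∨ z * k ∈ (P : Subgroup G) := by
  set K := centralizer ((P : Subgroup G) : Set G) with hK
  have hle := le_centralizer P hab
  have hidx : ((P : Subgroup G).subgroupOf K).index = 2 := by
    have h1 := Subgroup.card_mul_index ((P : Subgroup G).subgroupOf K)
    have h2 : Nat.card ((P : Subgroup G).subgroupOf K) = Nat.card P :=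
      Nat.card_congr (Subgroup.subgroupOfEquivOfLe hle).toEquiv
    rw [h2, hC] at h1
    have hpos : 0 < Nat.card P := Nat.card_pos
    have : Nat.card P * ((P : Subgroup G).subgroupOf K).index = Nat.card P * 2 := by
      rw [h1]; ring
    exact Nat.eq_of_mul_eq_mul_left hpos this
  by_cases hkP : k ∈ (P : Subgroup G)
  · exact Or.inl hkP
  · right
    have := (Subgroup.mul_mem_iff_of_index_two hidx (a := ⟨z, hzK⟩) (b := ⟨k, hk⟩))
    rw [mem_subgroupOf, mem_subgroupOf, mem_subgroupOf] at this
    exact this.mpr ⟨fun h => absurd h (z_not_mem P z hz), fun h => absurd h hkP⟩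

include hab hC hz hzK in
theorem comm_K (a : G) (ha : a ∈ centralizer ((P : Subgroup G) : Set G)) (b : G)
    (hb : b ∈ centralizer ((P : Subgroup G) : Set G)) : a * b = b * a := by
  rcases mem_or_mul_mem P hab hC z hz hzK a ha with h | h
  · exact ((mem_centralizer_iff.mp hb) a h)
  · -- z * a ∈ P, so z*a commutes with b; z commutes with b?
    rcases mem_or_mul_mem P hab hC z hz hzK b hb with h' | h'
    · exact ((mem_centralizer_iff.mp ha) b h').symm
    · have h1 : (z * a) * b = b * (z * a) := (mem_centralizer_iff.mp hb) _ h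
      have h2 : (z * b) * a = a * (z * b) := (mem_centralizer_iff.mp ha) _ h'
      have h3 : (z * a) * (z * b) = (z * b) * (z * a) := hab _ h _ h'
      have h4 : (z * a) * z = z * (z * a) := (mem_centralizer_iff.mp hzK) _ h
      have h5 : (z * b) * z = z * (z * b) := (mem_centralizer_iff.mp hzK) _ h'
      -- from h4: a z = z a ; from h5: b z = z b
      have h6 : a * z = z * a := by
        have := congrArg (fun t => z⁻¹ * t) h4
        simpa [mul_assoc] using this
      have h7 : b * z = z * b := by
        have := congrArg (fun t => z⁻¹ * t) h5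
        simpa [mul_assoc] using this
      -- h3: z a z b = z b z a -> a z b = b z a -> z a b = z b a
      have h8 : z * (a * b) = z * (b * a) := by
        have e1 : (z * a) * (z * b) = z * (z * (a * b)) := by
          rw [mul_assoc, ← mul_assoc a z b, h6, mul_assoc]
        have e2 : (z * b) * (z * a) = z * (z * (b * a)) := by
          rw [mul_assoc, ← mul_assoc b z a, h7, mul_assoc]
        rw [e1, e2] at h3
        exact mul_left_cancel h3
      exact mul_left_cancel h8

include hab hC hz hzK in
theorem invol_K (k : G) (hk : k ∈ centralizer ((P : Subgroup G) : Set G)) (h2 : k * k = 1) :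
    k = 1 ∨ k = z := by
  have hzz : z * z = 1 := by
    have := pow_orderOf_eq_one z
    rwa [hz, pow_two] at this
  rcases mem_or_mul_mem P hab hC z hz hzK k hk with h | h
  · exact Or.inl (eq_one_of_sq_of_odd (odd_card P) h h2)
  · right
    have hc := comm_K P hab hC z hz hzK z hzK k hk
    have h3 : (z * k) * (z * k) = 1 := by
      calc (z * k) * (z * k) = z * (k * z) * k := by group
        _ = z * (z * k) * k := by rw [← hc]
        _ = (z * z) * (k * k) := by group
        _ = 1 := by rw [hzz, h2, one_mul]
    have h4 := eq_one_of_sq_of_odd (odd_card P) h h3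
    calc k = z * (z * k) := by rw [← mul_assoc, hzz, one_mul]
      _ = z := by rw [h4, mul_one]

include hab hC hz hzK in
theorem conj_z (n : G) (hn : n ∈ normalizer ((P : Subgroup G) : Set G)) : n * z * n⁻¹ = z := by
  have hmem : n * z * n⁻¹ ∈ centralizer ((P : Subgroup G) : Set G) := by
    rw [mem_centralizer_iff]
    intro x hx
    have hx' : n⁻¹ * x * n ∈ (P : Subgroup G) := (mem_normalizer_iff''.mp hn x).mp hx
    have h1 := (mem_centralizer_iff.mp hzK) _ hx'
    calc x * (n * z * n⁻¹) = n * ((n⁻¹ * x * n) * z) * n⁻¹ := by group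
      _ = n * (z * (n⁻¹ * x * n)) * n⁻¹ := by rw [h1]
      _ = n * z * n⁻¹ * x := by group
  have hsq : (n * z * n⁻¹) * (n * z * n⁻¹) = 1 := by
    have hzz : z * z = 1 := by
      have := pow_orderOf_eq_one z
      rwa [hz, pow_two] at this
    calc (n * z * n⁻¹) * (n * z * n⁻¹) = n * (z * z) * n⁻¹ := by group
      _ = 1 := by rw [hzz]; group
  rcases invol_K P hab hC z hz hzK _ hmem hsq with h | h
  · exfalso
    have : z = 1 := by
      have := congrArg (fun t => n⁻¹ * t * n) h
      simpa [mul_assoc] using this
    rw [this, orderOf_one] at hz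
    omega
  · exact h

end local_structure

end Cfsg.Agent.Helper21.S4018a
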