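import Mathlib
import Cfsg.Agent.Helper17.Basic
import Cfsg.Agent.Helper21.S4018a

set_option autoImplicit false
set_option linter.unusedSectionVars false

/-! Final contradiction for S4018 from the conclusion of the abstract Brauer-Suzuki-Wall theorem. -/

namespace Cfsg.Agent.Helper21.S4018a

open Subgroup

variable {G : Type*} [Group G] [Finite G]

theorem sq_eq_one_of_orderOf_two {u : G} (hu : orderOf u = 2) : u * u = 1 := by
  have := pow_orderOf_eq_one u
  rwa [hu, pow_two] at this

theorem inv_eq_of_orderOf_two {u : G} (hu : orderOf u = 2) : u⁻¹ = u :=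
  inv_eq_of_mul_eq_one_left (sq_eq_one_of_orderOf_two hu)

/-- elements of `D ⊔ ⟨u⟩` for an involution `u` normalizing `D` -/
theorem mem_sup_zpowers_cases (D : Subgroup G) (u : G) (hu : orderOf u = 2)
    (hn : ∀ d ∈ D, u * d * u⁻¹ ∈ D) (x : G) (hx : x ∈ D ⊔ zpowers u) :
    x ∈ D ∨ ∃ d ∈ D, x = d * u := by
  have huu := sq_eq_one_of_orderOf_two hu
  have hui := inv_eq_of_orderOf_two hu
  rw [sup_eq_closure] at hx
  induction hx using Subgroup.closure_induction with
  | mem y hy =>
    rcases hy with hy | hy
    · exact Or.inl hy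
    · obtain ⟨k, rfl⟩ := mem_zpowers_iff.mp hy
      have h := zpow_mod_orderOf u k
      rw [hu] at h
      simp only [Nat.cast_ofNat] at h
      rcases Int.emod_two_eq_zero_or_one k with h0 | h1
      · left
        rw [← h, h0, zpow_zero]; exact D.one_mem
      · right
        exact ⟨1, D.one_mem, by rw [← h, h1, zpow_one, one_mul]⟩
  | one => exact Or.inl D.one_mem
  | mul a b _ _ ha hb =>
    rcases ha with ha | ⟨d1, hd1, rfl⟩
    · rcases hb with hb | ⟨d2, hd2, rfl⟩
      · exact Or.inl (D.mul_mem ha hb)
      · exact Or.inr ⟨a * d2, D.mul_mem ha hd2, by group⟩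
    · rcases hb with hb | ⟨d2, hd2, rfl⟩
      · refine Or.inr ⟨d1 * (u * b * u⁻¹), D.mul_mem hd1 (hn b hb), by group⟩
      · refine Or.inl ?_
        have : d1 * u * (d2 * u) = d1 * (u * d2 * u⁻¹) * (u * u) := by group
        rw [this, huu, mul_one]
        exact D.mul_mem hd1 (hn d2 hd2)
  | inv a _ ha =>
    rcases ha with ha | ⟨d1, hd1, rfl⟩
    · exact Or.inl (D.inv_mem ha)
    · refine Or.inr ⟨u * d1⁻¹ * u⁻¹, hn _ (D.inv_mem hd1), ?_⟩
      have : (d1 * u)⁻¹ = u⁻¹ * d1⁻¹ := by group
      rw [this, hui]
      have : u * d1⁻¹ * u * u = u * d1⁻¹ * (u * u) := by group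
      rw [this, huu, mul_one]


theorem card_centralizer_of_isConj {a b : G} (h : IsConj a b) :
    Nat.card (centralizer ({a} : Set G)) = Nat.card (centralizer ({b} : Set G)) := by
  obtain ⟨g, hg⟩ := isConj_iff.mp h
  refine Nat.card_congr
    { toFun := fun x => ⟨g * x * g⁻¹, ?_⟩
      invFun := fun y => ⟨g⁻¹ * y * g, ?_⟩
      left_inv := fun x => by ext; simp [mul_assoc]
      right_inv := fun y => by ext; simp [mul_assoc] }
  · have hx := mem_centralizer_singleton_iff.mp x.2
    rw [mem_centralizer_singleton_iff, ← hg]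
    calc g * ↑x * g⁻¹ * (g * a * g⁻¹) = g * (↑x * a) * g⁻¹ := by group
      _ = g * (a * ↑x) * g⁻¹ := by rw [hx]
      _ = g * a * g⁻¹ * (g * ↑x * g⁻¹) := by group
  · have hy : (y : G) * (g * a * g⁻¹) = (g * a * g⁻¹) * (y : G) := by
      have := mem_centralizer_singleton_iff.mp y.2
      rw [hg]; exact this
    rw [mem_centralizer_singleton_iff]
    calc g⁻¹ * ↑y * g * a = g⁻¹ * (↑y * (g * a * g⁻¹)) * g := by group
      _ = g⁻¹ * ((g * a * g⁻¹) * ↑y) * g := by rw [hy]
      _ = a * (g⁻¹ * ↑y * g) := by group

theorem normalizer_zpowers_of_orderOf_two {w : G} (hw : orderOf w = 2) :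
    normalizer ((zpowers w : Subgroup G) : Set G) = centralizer ({w} : Set G) := by
  have hww := sq_eq_one_of_orderOf_two hw
  have hw1 : w ≠ 1 := by
    intro h; rw [h, orderOf_one] at hw; omega
  ext g
  constructor
  · intro hg
    have h1 : g * w * g⁻¹ ∈ zpowers w := (mem_normalizer_iff.mp hg w).mp (mem_zpowers w)
    obtain ⟨k, hk⟩ := mem_zpowers_iff.mp h1
    have h := zpow_mod_orderOf w k
    rw [hw] at h
    simp only [Nat.cast_ofNat] at h
    rw [mem_centralizer_singleton_iff]
    rcases Int.emod_two_eq_zero_or_one k with h0 | h1'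
    · exfalso
      rw [h0, zpow_zero] at h
      rw [← h] at hk
      apply hw1
      have := congrArg (fun t => g⁻¹ * t * g) hk
      simpa [mul_assoc] using this.symm
    · rw [h1', zpow_one] at h
      rw [← h] at hk
      have := congrArg (fun t => t * g) hk
      simpa [mul_assoc] using this.symm
  · intro hg
    have hc := mem_centralizer_singleton_iff.mp hg
    rw [mem_normalizer_iff]
    intro x
    have key : ∀ y ∈ zpowers w, g * y * g⁻¹ = y := by
      intro y hy
      obtain ⟨k, rfl⟩ := mem_zpowers_iff.mp hy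
      have : Commute g (w ^ k) := (show Commute g w from hc).zpow_right k
      rw [this.eq, mul_inv_cancel_right]
    constructor
    · intro hx; rw [key x hx]; exact hx
    · intro hx
      have h2 : g⁻¹ * (g * x * g⁻¹) * g ∈ zpowers w := by
        have hc' : Commute g⁻¹ w := (show Commute g w from hc).inv_left
        obtain ⟨k, hk⟩ := mem_zpowers_iff.mp hx
        rw [← hk]
        have : Commute g⁻¹ (w ^ k) := hc'.zpow_right k
        rw [this.eq, inv_mul_cancel_right]
        exact zpow_mem (mem_zpowers w) k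
      have : g⁻¹ * (g * x * g⁻¹) * g = x := by group
      rwa [this] at h2


theorem final_contra [IsSimpleGroup G] (P : Sylow 3 G)
    (hN : Nat.card (normalizer ((P : Subgroup G) : Set G)) = 4 * Nat.card P)
    (hNtop : normalizer ((P : Subgroup G) : Set G) ≠ ⊤)
    (heven : ∀ H : Subgroup G, H ≠ ⊤ → 2 ∣ Nat.card H → Nat.card H ∣ 4 * Nat.card P)
    (z : G) (hz : orderOf z = 2) (hzP : ∀ x ∈ (P : Subgroup G), z * x = x * z)
    (hCz : Nat.card (centralizer ({z} : Set G)) = 4 * Nat.card P)
    (hconj : ∀ x y : G, orderOf x = 2 → orderOf y = 2 → IsConj x y)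
    (Q D : Subgroup G)
    (hE1 : 2 * Nat.card G = Nat.card Q * (Nat.card Q + 1) * (Nat.card Q - 1))
    (hE3 : IsMulCommutative D) (hE4 : 2 * Nat.card D + 1 = Nat.card Q) (hE5 : Q ⊓ D = ⊥)
    (hE6 : normalizer (Q : Set G) = Q ⊔ D)
    (hE7 : ∀ X : Subgroup G, X ≤ D → X ≠ ⊥ →
      normalizer (X : Set G) = normalizer (D : Set G) ∧
        ∃ u : G, orderOf u = 2 ∧ u ∉ D ∧ (∀ d ∈ D, u * d * u⁻¹ = d⁻¹) ∧
          normalizer (D : Set G) = D ⊔ zpowers u) : False := by
  have hp3 : Fact (Nat.Prime 3) := ⟨Nat.prime_three⟩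
  have hp2 : Fact (Nat.Prime 2) := ⟨Nat.prime_two⟩
  have hPpos : 0 < Nat.card P := Nat.card_pos
  have hDpos : 0 < Nat.card D := Nat.card_pos
  have hPodd : Odd (Nat.card P) := odd_card P
  by_cases hD : D = ⊥
  · -- |G| = 12
    have hD1 : Nat.card D = 1 := by rw [hD]; exact Subgroup.card_bot
    have hq : Nat.card Q = 3 := by omega
    rw [hq] at hE1
    have hG : Nat.card G = 12 := by omega
    have h1 : 4 * Nat.card P ∣ 12 := by
      rw [← hN, ← hG]; exact Subgroup.card_subgroup_dvd_card _
    have h2 : Nat.card P ∣ 3 := by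
      have : 4 * Nat.card P ∣ 4 * 3 := h1
      exact Nat.dvd_of_mul_dvd_mul_left (by norm_num) this
    have h3 : Nat.card P = 1 ∨ Nat.card P = 3 := (Nat.dvd_prime Nat.prime_three).mp h2
    rcases h3 with h3 | h3
    · have : (P : Subgroup G) = ⊥ := Subgroup.card_eq_one.mp h3
      apply hNtop
      rw [this]
      exact (Subgroup.normalizer_eq_top_iff (H := (⊥ : Subgroup G))).mpr inferInstance
    · apply hNtop
      apply Subgroup.eq_top_of_card_eq
      rw [hN, h3, hG]
  · obtain ⟨-, u, hu, huD, huinv, hND⟩ := hE7 D le_rfl hD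
    have huu := sq_eq_one_of_orderOf_two hu
    have hui := inv_eq_of_orderOf_two hu
    have hun : ∀ d ∈ D, u * d * u⁻¹ ∈ D := fun d hd => by
      rw [huinv d hd]; exact D.inv_mem hd
    have hNDtop : normalizer (D : Set G) ≠ ⊤ := by
      intro h
      have hn : D.Normal := Subgroup.normalizer_eq_top_iff.mp h
      rcases hn.eq_bot_or_eq_top with h' | h'
      · exact hD h'
      · apply huD; rw [h']; exact Subgroup.mem_top u
    have huND : u ∈ normalizer (D : Set G) := by
      rw [hND]; exact (le_sup_right : zpowers u ≤ D ⊔ zpowers u) (mem_zpowers u)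
    have h2ND : 2 ∣ Nat.card (normalizer (D : Set G)) := by
      have := orderOf_dvd_natCard (⟨u, huND⟩ : normalizer (D : Set G))
      rwa [Subgroup.orderOf_mk, hu] at this
    have hdvd := heven _ hNDtop h2ND
    have hDle : D ≤ normalizer (D : Set G) := Subgroup.le_normalizer
    have hDdvd : Nat.card D ∣ Nat.card (normalizer (D : Set G)) := Subgroup.card_dvd_of_le hDle
    have hDcomm : ∀ a ∈ D, ∀ b ∈ D, a * b = b * a := fun a ha b hb =>
      congrArg Subtype.val (hE3.is_comm.comm ⟨a, ha⟩ ⟨b, hb⟩)
    rcases Nat.even_or_odd (Nat.card D) with hDeven | hDodd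
    · -- even case
      have h2D : 2 ∣ Nat.card D := even_iff_two_dvd.mp hDeven
      obtain ⟨w', hw'⟩ := exists_prime_orderOf_dvd_card' (G := D) 2 h2D
      have hw : orderOf (w' : G) = 2 := by rw [Subgroup.orderOf_coe]; exact hw'
      have hwD : (w' : G) ∈ D := w'.2
      have hXle : zpowers (w' : G) ≤ D := by rw [zpowers_le]; exact hwD
      have hXne : zpowers (w' : G) ≠ ⊥ := by
        intro h
        have : (w' : G) = 1 := by
          have hm : (w' : G) ∈ zpowers (w' : G) := mem_zpowers _
          rw [h] at hm; exact Subgroup.mem_bot.mp hm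
        rw [this, orderOf_one] at hw; omega
      have hNX := (hE7 _ hXle hXne).1
      rw [normalizer_zpowers_of_orderOf_two hw] at hNX
      have hc1 : Nat.card (centralizer ({(w' : G)} : Set G)) = 4 * Nat.card P := by
        rw [← hCz]; exact card_centralizer_of_isConj (hconj _ _ hw hz)
      have hNDcard : Nat.card (normalizer (D : Set G)) = 4 * Nat.card P := by
        rw [← hNX]; exact hc1
      -- |ND| ≤ 2 |D|
      have hzn : zpowers u ≤ normalizer (D : Set G) := by rw [zpowers_le]; exact huND
      have hprod := Cfsg.Agent.Helper17.card_sup_mul_card_inf D (zpowers u) hzn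
      rw [← hND, Nat.card_zpowers, hu] at hprod
      have hle : Nat.card (normalizer (D : Set G)) ≤ Nat.card D * 2 := by
        rw [← hprod]
        exact Nat.le_mul_of_pos_right _ Nat.card_pos
      -- |N(Q)| = q |D|
      have hDQ : D ≤ normalizer (Q : Set G) := by rw [hE6]; exact le_sup_right
      have hprod2 := Cfsg.Agent.Helper17.card_sup_mul_card_inf Q D hDQ
      rw [hE5, Subgroup.card_bot, mul_one, ← hE6] at hprod2
      have hNQtop : normalizer (Q : Set G) ≠ ⊤ := by
        intro h
        have hn : Q.Normal := Subgroup.normalizer_eq_top_iff.mp h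
        rcases hn.eq_bot_or_eq_top with h' | h'
        · have : Nat.card Q = 1 := by rw [h']; exact Subgroup.card_bot
          omega
        · have hqG : Nat.card Q = Nat.card G := by rw [h']; exact Subgroup.card_top
          rw [← hqG] at hE1
          have hq3 : 3 ≤ Nat.card Q := by omega
          have : 2 * Nat.card Q < Nat.card Q * (Nat.card Q + 1) * (Nat.card Q - 1) := by
            have h1 : 2 ≤ Nat.card Q - 1 := by omega
            have h2 : 4 ≤ Nat.card Q + 1 := by omega
            calc 2 * Nat.card Q < Nat.card Q * 4 * 2 := by omega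
              _ ≤ Nat.card Q * (Nat.card Q + 1) * (Nat.card Q - 1) :=
                Nat.mul_le_mul (Nat.mul_le_mul_left _ h2) h1
          omega
      have h2NQ : 2 ∣ Nat.card (normalizer (Q : Set G)) := by
        rw [hprod2]; exact Dvd.dvd.mul_left h2D _
      have hdvd2 := heven _ hNQtop h2NQ
      rw [hprod2, ← hNDcard] at hdvd2
      have hle2 : Nat.card Q * Nat.card D ≤ Nat.card D * 2 :=
        le_trans (Nat.le_of_dvd Nat.card_pos hdvd2) hle
      have hq3 : 3 ≤ Nat.card Q := by omega
      nlinarith
    · -- odd case: D is a 3-group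
      have hcop : Nat.Coprime (Nat.card D) 4 := by
        have : Nat.Coprime (Nat.card D) 2 := Nat.coprime_two_right.mpr hDodd
        exact Nat.Coprime.pow_right 2 this
      have hDP : Nat.card D ∣ Nat.card P := by
        have : Nat.card D ∣ 4 * Nat.card P := dvd_trans hDdvd hdvd
        exact hcop.dvd_of_dvd_mul_left this
      obtain ⟨n, hn⟩ := IsPGroup.iff_card.mp P.isPGroup'
      rw [hn] at hDP
      obtain ⟨k, -, hk⟩ := (Nat.dvd_prime_pow Nat.prime_three).mp hDP
      have hDp : IsPGroup 3 D := IsPGroup.of_card hk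
      obtain ⟨P', hP'⟩ := hDp.exists_le_sylow
      obtain ⟨g, hg⟩ := MulAction.exists_smul_eq G P' P
      -- z' = g⁻¹ z g centralizes P' ⊇ D
      have hz' : ∀ x ∈ D, (g⁻¹ * z * g) * x = x * (g⁻¹ * z * g) := by
        intro x hx
        have hx' : g * x * g⁻¹ ∈ (P : Subgroup G) := by
          rw [← hg, Sylow.coe_subgroup_smul]
          rw [Subgroup.mem_pointwise_smul_iff_inv_smul_mem]
          simp only [MulAut.smul_def, MulAut.conj_inv_apply]
          have : g⁻¹ * (g * x * g⁻¹) * g = x := by group
          rw [this]; exact hP' hx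
        have h1 := hzP _ hx'
        calc (g⁻¹ * z * g) * x = g⁻¹ * (z * (g * x * g⁻¹)) * g := by group
          _ = g⁻¹ * ((g * x * g⁻¹) * z) * g := by rw [h1]
          _ = x * (g⁻¹ * z * g) := by group
      set z' := g⁻¹ * z * g with hz'def
      have hz'ord : orderOf z' = 2 := by
        have h1 : z' = (MulAut.conj g⁻¹) z := by
          rw [MulAut.conj_apply, inv_inv]
        rw [h1, MulEquiv.orderOf_eq]
        exact hz
      have hz'N : z' ∈ normalizer (D : Set G) := by
        rw [mem_normalizer_iff]
        intro x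
        constructor
        · intro hx
          have : z' * x * z'⁻¹ = x := by rw [hz' x hx, mul_inv_cancel_right]
          rw [this]; exact hx
        · intro hx
          have h1 := hz' _ hx
          have : x = z' * x * z'⁻¹ := by
            calc x = z'⁻¹ * ((z' * x * z'⁻¹) * z') := by group
              _ = z'⁻¹ * (z' * (z' * x * z'⁻¹)) := by rw [h1]
              _ = z' * x * z'⁻¹ := by group
          rw [this]; exact hx
      rw [hND] at hz'N
      rcases mem_sup_zpowers_cases D u hu hun z' hz'N with h | ⟨d, hd, hzd⟩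
      · have := eq_one_of_sq_of_odd hDodd h (sq_eq_one_of_orderOf_two hz'ord)
        rw [this, orderOf_one] at hz'ord; omega
      · apply hD
        rw [Subgroup.eq_bot_iff_forall]
        intro x hx
        have h1 := hz' x hx
        rw [hzd] at h1
        -- d u x = x d u ; u x = x⁻¹ u
        have h2 : u * x = x⁻¹ * u := by
          have := huinv x hx
          calc u * x = (u * x * u⁻¹) * u := by group
            _ = x⁻¹ * u := by rw [this]
        have h3 : d * x⁻¹ = x * d := by
          have : d * u * x = d * (u * x) := by group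
          rw [this, h2] at h1
          have h4 : d * (x⁻¹ * u) = (d * x⁻¹) * u := by group
          have h5 : x * (d * u) = (x * d) * u := by group
          rw [h4, h5] at h1
          exact mul_right_cancel h1
        have h4 : d * x⁻¹ = x⁻¹ * d := hDcomm d hd _ (D.inv_mem hx)
        have h5 : x * d = d * x := (hDcomm d hd x hx).symm
        have h6 : x⁻¹ = x := by
          have : d * x⁻¹ = d * x := by rw [h3, h5]
          exact mul_left_cancel this
        have h7 : x * x = 1 := by
          calc x * x = x⁻¹ * x := by rw [h6]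
            _ = 1 := inv_mul_cancel x
        exact eq_one_of_sq_of_odd hDodd hx h7

end Cfsg.Agent.Helper21.S4018a
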