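import Mathlib
import Cfsg.Prelude.Def_OddOrderLocal
import Cfsg.Agent.S3282
import Cfsg.Agent.S0219
import Cfsg.Agent.Helper16.ThompsonTransfer
import Cfsg.Agent.Helper21.S4018b

set_option autoImplicit false
set_option linter.unusedSectionVars false

/-! S4018: assembly.  A simple group satisfying the hypotheses has `C(z) = N(P) = P ⋊ V₄`,
the abstract Brauer–Suzuki–Wall theorem (S3282) applies and its conclusion contradicts the
hypothesis on proper subgroups of even order. -/

namespace Cfsg.Agent.Helper21.S4018a

open Subgroup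

variable {G : Type*} [Group G] [Finite G]

/-- a simple group with a central involution has order 2 -/
theorem card_eq_two_of_central [IsSimpleGroup G] (z : G) (hz : orderOf z = 2)
    (hc : centralizer ({z} : Set G) = ⊤) : Nat.card G = 2 := by
  have hcomm : ∀ g : G, g * z = z * g := fun g =>
    mem_centralizer_singleton_iff.mp (hc ▸ Subgroup.mem_top g)
  have hn : (zpowers z).Normal := by
    refine ⟨fun n hn g => ?_⟩
    obtain ⟨k, rfl⟩ := mem_zpowers_iff.mp hn
    have : Commute g (z ^ k) := (show Commute g z from hcomm g).zpow_right k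
    rw [this.eq, mul_inv_cancel_right]
    exact zpow_mem (mem_zpowers z) k
  rcases hn.eq_bot_or_eq_top with h | h
  · exfalso
    have : z = 1 := by
      have hm : z ∈ zpowers z := mem_zpowers z
      rw [h] at hm; exact Subgroup.mem_bot.mp hm
    rw [this, orderOf_one] at hz; omega
  · have h1 : Nat.card (zpowers z) = Nat.card G := by rw [h]; exact Subgroup.card_top
    rw [← h1, Nat.card_zpowers, hz]

/-- a simple 2-group has order 2 -/
theorem card_eq_two_of_isPGroup [IsSimpleGroup G] (h2 : IsPGroup 2 G) : Nat.card G = 2 := by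
  have hp2 : Fact (Nat.Prime 2) := ⟨Nat.prime_two⟩
  have hnt : Nontrivial G := IsSimpleGroup.toNontrivial
  have hcn : Nontrivial (center G) := h2.center_nontrivial
  have hctop : center G = ⊤ := by
    rcases (inferInstance : (center G).Normal).eq_bot_or_eq_top with h | h
    · exfalso
      obtain ⟨a, b, hab⟩ := hcn
      apply hab
      have hle : center G ≤ ⊥ := le_of_eq h
      have ha : (a : G) ∈ (⊥ : Subgroup G) := hle a.2
      have hb : (b : G) ∈ (⊥ : Subgroup G) := hle b.2
      ext
      rw [Subgroup.mem_bot.mp ha, Subgroup.mem_bot.mp hb]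
    · exact h
  obtain ⟨n, hn⟩ := IsPGroup.iff_card.mp h2
  have hn0 : n ≠ 0 := by
    intro h0
    rw [h0, pow_zero] at hn
    have := Finite.one_lt_card_iff_nontrivial.mpr hnt
    omega
  have hdvd : 2 ∣ Nat.card G := by rw [hn]; exact dvd_pow_self 2 hn0
  obtain ⟨z, hz⟩ := exists_prime_orderOf_dvd_card' (G := G) 2 hdvd
  apply card_eq_two_of_central z hz
  rw [eq_top_iff]
  intro g _
  rw [mem_centralizer_singleton_iff]
  have hzc : z ∈ center G := hctop ▸ Subgroup.mem_top z
  exact ((Subgroup.mem_center_iff.mp hzc) g)

/-- a simple group of order `≠ 2` has no subgroup of index 2 -/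
theorem no_index_two [IsSimpleGroup G] (hG : Nat.card G ≠ 2) (H : Subgroup G) : H.index ≠ 2 := by
  intro hH
  have hn : H.Normal := Subgroup.normal_of_index_eq_two hH
  rcases hn.eq_bot_or_eq_top with h | h
  · rw [h, Subgroup.index_bot] at hH; exact hG hH
  · rw [h, Subgroup.index_top] at hH; omega

/-- elements of `zpowers z` for an involution `z` -/
theorem mem_zpowers_two {z : G} (hz : orderOf z = 2) {x : G} (hx : x ∈ zpowers z) :
    x = 1 ∨ x = z := by
  obtain ⟨k, rfl⟩ := mem_zpowers_iff.mp hx
  have h := zpow_mod_orderOf z k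
  rw [hz] at h
  simp only [Nat.cast_ofNat] at h
  rcases Int.emod_two_eq_zero_or_one k with h0 | h1
  · left; rw [← h, h0, zpow_zero]
  · right; rw [← h, h1, zpow_one]

end Cfsg.Agent.Helper21.S4018a
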