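import Mathlib
import Cfsg.Prelude.Def_OddOrderLocal
import Cfsg.Agent.S3282
import Cfsg.Agent.S0219
import Cfsg.Agent.Helper16.ThompsonTransfer
import Cfsg.Agent.Helper21.S4018c

set_option autoImplicit false
set_option linter.unusedSectionVars false

namespace Cfsg.Agent.Helper21.S4018a

open Subgroup

variable {G : Type*} [Group G] [Finite G]

theorem pow_card_of_mem {H : Subgroup G} {x : G} (hx : x ∈ H) : x ^ Nat.card H = 1 := by
  have h := pow_card_eq_one' (G := H) (x := ⟨x, hx⟩)
  have h2 := congrArg Subtype.val h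
  rw [SubgroupClass.coe_pow] at h2
  exact h2

section
variable (P : Sylow 3 G) (hab : ∀ a ∈ (P : Subgroup G), ∀ b ∈ (P : Subgroup G), a * b = b * a)
  (hC : Nat.card (centralizer ((P : Subgroup G) : Set G)) = 2 * Nat.card P)
  (z : G) (hz : orderOf z = 2) (hzK : z ∈ centralizer ((P : Subgroup G) : Set G))

include hab hC hz hzK in
/-- an element normalizing `C(P)` normalizes `P` (one direction) -/
theorem conj_mem_P_of_normalizer (g : G)
    (hg : g ∈ normalizer ((centralizer ((P : Subgroup G) : Set G) : Subgroup G) : Set G))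
    (x : G) (hx : x ∈ (P : Subgroup G)) : g * x * g⁻¹ ∈ (P : Subgroup G) := by
  have hxK := le_centralizer P hab hx
  have h1 : g * x * g⁻¹ ∈ centralizer ((P : Subgroup G) : Set G) := (mem_normalizer_iff.mp hg x).mp hxK
  rcases mem_or_mul_mem P hab hC z hz hzK _ h1 with h | h
  · exact h
  · exfalso
    -- (z * y)^|P| = 1 and y^|P| = 1 give z^|P| = 1
    set y := g * x * g⁻¹ with hy
    have hzy : Commute z y := by
      have := comm_K P hab hC z hz hzK z hzK y h1
      exact this
    have hpow1 : (z * y) ^ Nat.card P = 1 := pow_card_of_mem h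
    have hpow2 : y ^ Nat.card P = 1 := by
      have hx1 : x ^ Nat.card P = 1 := pow_card_of_mem hx
      rw [hy, conj_pow, hx1]; group
    rw [hzy.mul_pow, hpow2, mul_one] at hpow1
    have hodd := odd_card P
    obtain ⟨m, hm⟩ := hodd
    have hzz := sq_eq_one_of_orderOf_two hz
    have : z ^ Nat.card P = z := by
      rw [hm, pow_succ, pow_mul, pow_two, hzz, one_pow, one_mul]
    rw [this] at hpow1
    rw [hpow1, orderOf_one] at hz; omega

include hab hC hz hzK in
theorem normalizer_centralizer_le :
    normalizer ((centralizer ((P : Subgroup G) : Set G) : Subgroup G) : Set G) ≤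
      normalizer ((P : Subgroup G) : Set G) := by
  intro g hg
  rw [mem_normalizer_iff]
  intro x
  constructor
  · exact conj_mem_P_of_normalizer P hab hC z hz hzK g hg x
  · intro hx
    have hg' := Subgroup.inv_mem _ hg
    have := conj_mem_P_of_normalizer P hab hC z hz hzK g⁻¹ hg' _ hx
    have h2 : g⁻¹ * (g * x * g⁻¹) * g⁻¹⁻¹ = x := by group
    rwa [h2] at this

include hab hC hz hzK in
theorem normalizer_le_normalizer_centralizer :
    normalizer ((P : Subgroup G) : Set G) ≤
    normalizer ((centralizer ((P : Subgroup G) : Set G) : Subgroup G) : Set G) := by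
  have key : ∀ n ∈ normalizer ((P : Subgroup G) : Set G), ∀ k ∈ centralizer ((P : Subgroup G) : Set G),
      n * k * n⁻¹ ∈ centralizer ((P : Subgroup G) : Set G) := by
    intro n hn k hk
    rw [mem_centralizer_iff]
    intro x hx
    have hx' : n⁻¹ * x * n ∈ (P : Subgroup G) := (mem_normalizer_iff''.mp hn x).mp hx
    have h1 := (mem_centralizer_iff.mp hk) _ hx'
    calc x * (n * k * n⁻¹) = n * ((n⁻¹ * x * n) * k) * n⁻¹ := by group
      _ = n * (k * (n⁻¹ * x * n)) * n⁻¹ := by rw [h1]
      _ = n * k * n⁻¹ * x := by group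
  intro n hn
  rw [mem_normalizer_iff]
  intro k
  constructor
  · exact key n hn k
  · intro hk
    have := key n⁻¹ (Subgroup.inv_mem _ hn) _ hk
    have h2 : n⁻¹ * (n * k * n⁻¹) * n⁻¹⁻¹ = k := by group
    rwa [h2] at this

end

end Cfsg.Agent.Helper21.S4018a
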