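import Mathlib
import Cfsg.Prelude.Def_OddOrderLocal
import Cfsg.Agent.S3282
import Cfsg.Agent.S0219
import Cfsg.Agent.Helper16.ThompsonTransfer
import Cfsg.Agent.Helper21.S4018d

set_option autoImplicit false
set_option linter.unusedSectionVars false
set_option maxHeartbeats 1000000

namespace Cfsg.Agent.Helper21.S4018a

open Subgroup

variable {G : Type*} [Group G] [Finite G]

theorem main (P : Sylow 3 G)
    (hab : ∀ a ∈ (P : Subgroup G), ∀ b ∈ (P : Subgroup G), a * b = b * a)
    (hN : Nat.card (normalizer ((P : Subgroup G) : Set G)) = 4 * Nat.card P)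
    (hC : Nat.card (centralizer ((P : Subgroup G) : Set G)) = 2 * Nat.card P)
    (hTI : Cfsg.IsTISubset ((centralizer ((P : Subgroup G) : Set G) : Subgroup G) : Set G))
    (heven : ∀ H : Subgroup G, H ≠ ⊤ → 2 ∣ Nat.card H → Nat.card H ∣ 4 * Nat.card P) :
    ¬ IsSimpleGroup G := by
  intro hsimple
  have hp3 : Fact (Nat.Prime 3) := ⟨Nat.prime_three⟩
  have hp2 : Fact (Nat.Prime 2) := ⟨Nat.prime_two⟩
  have hPpos : 0 < Nat.card P := Nat.card_pos
  have hPodd : Odd (Nat.card P) := odd_card P
  set K := centralizer ((P : Subgroup G) : Set G) with hKdef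
  set N := normalizer ((P : Subgroup G) : Set G) with hNdef
  have hPK : (P : Subgroup G) ≤ K := le_centralizer P hab
  have hKN : K ≤ N := centralizer_le_normalizer _
  -- the involution z
  obtain ⟨z0, hz0⟩ := exists_prime_orderOf_dvd_card' (G := K) 2 (by rw [hC]; exact dvd_mul_right 2 _)
  set z : G := (z0 : G) with hzdef
  have hz : orderOf z = 2 := by rw [hzdef, Subgroup.orderOf_coe]; exact hz0
  have hzK : z ∈ K := z0.2
  have hzz := sq_eq_one_of_orderOf_two hz
  have hzi := inv_eq_of_orderOf_two hz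
  have hz1 : z ≠ 1 := by intro h; rw [h, orderOf_one] at hz; omega
  -- |G| ≥ 4
  have hG4 : 4 ≤ Nat.card G := by
    have h1 : Nat.card N ≤ Nat.card G := Subgroup.card_le_card_group N
    rw [hN] at h1; omega
  have hG2 : Nat.card G ≠ 2 := by omega
  -- C(z) = N
  have hCztop : centralizer ({z} : Set G) ≠ ⊤ := fun h => hG2 (card_eq_two_of_central z hz h)
  have hzCz : z ∈ centralizer ({z} : Set G) := mem_centralizer_singleton_iff.mpr rfl
  have h2Cz : 2 ∣ Nat.card (centralizer ({z} : Set G)) := by
    have := orderOf_dvd_natCard (⟨z, hzCz⟩ : centralizer ({z} : Set G))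
    rwa [Subgroup.orderOf_mk, hz] at this
  have hNCz : N ≤ centralizer ({z} : Set G) := by
    intro n hn
    rw [mem_centralizer_singleton_iff]
    have := conj_z P hab hC z hz hzK n hn
    calc n * z = (n * z * n⁻¹) * n := by group
      _ = z * n := by rw [this]
  have hCzN : centralizer ({z} : Set G) = N := by
    symm
    apply Subgroup.eq_of_le_of_card_ge hNCz
    rw [hN]
    exact Nat.le_of_dvd (by omega) (heven _ hCztop h2Cz)
  have hCzcard : Nat.card (centralizer ({z} : Set G)) = 4 * Nat.card P := by rw [hCzN, hN]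
  -- N ≠ ⊤
  have hNtop : N ≠ ⊤ := by rw [← hCzN]; exact hCztop
  -- Sylow 2-subgroup containing z
  have hzp : IsPGroup 2 (zpowers z) := IsPGroup.of_card (n := 1) (by rw [Nat.card_zpowers, hz, pow_one])
  obtain ⟨S, hzS⟩ := hzp.exists_le_sylow
  have hzS' : z ∈ (S : Subgroup G) := hzS (mem_zpowers z)
  obtain ⟨m, hm⟩ := IsPGroup.iff_card.mp S.isPGroup'
  have hStop : (S : Subgroup G) ≠ ⊤ := by
    intro h
    have h1 : Nat.card G = 2 ^ m := by
      rw [← hm, h, Subgroup.card_top]
    exact hG2 (card_eq_two_of_isPGroup (IsPGroup.of_card h1))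
  have h2S : 2 ∣ Nat.card (S : Subgroup G) := by
    have := orderOf_dvd_natCard (⟨z, hzS'⟩ : (S : Subgroup G))
    rwa [Subgroup.orderOf_mk, hz] at this
  have hS4 : Nat.card (S : Subgroup G) = 4 := by
    have h1 : Nat.card (S : Subgroup G) ∣ 4 * Nat.card P := heven _ hStop h2S
    have hcop : Nat.Coprime (Nat.card (S : Subgroup G)) (Nat.card P) := by
      rw [hm]
      exact Nat.Coprime.pow_left m (Nat.coprime_two_left.mpr hPodd)
    have h2 : Nat.card (S : Subgroup G) ∣ 4 := hcop.dvd_of_dvd_mul_right h1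
    have h3 : 4 ∣ Nat.card (S : Subgroup G) := by
      rw [Sylow.card_eq_multiplicity]
      have h4 : 2 ^ 2 ∣ Nat.card G := by
        have : 4 ∣ Nat.card N := by rw [hN]; exact dvd_mul_right 4 _
        exact dvd_trans this (Subgroup.card_subgroup_dvd_card N)
      have h5 : 2 ≤ (Nat.card G).factorization 2 :=
        (Nat.Prime.pow_dvd_iff_le_factorization Nat.prime_two (by omega)).mp h4
      exact pow_dvd_pow 2 h5
    exact Nat.dvd_antisymm h2 h3
  -- S is not cyclic, hence of exponent 2
  have hnoidx : ∀ H : Subgroup G, H.index ≠ 2 := no_index_two hG2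
  have hGeven : Even (Nat.card G) := by
    rw [even_iff_two_dvd]
    exact dvd_trans h2S (Subgroup.card_subgroup_dvd_card _)
  have hSnc : ¬ IsCyclic (S : Subgroup G) := by
    intro hcyc
    obtain ⟨H, hH⟩ := Cfsg.Agent.S0219.result hGeven S hcyc
    exact hnoidx H hH
  have hSexp : ∀ y ∈ (S : Subgroup G), y * y = 1 := by
    intro y hy
    have h1 : orderOf (⟨y, hy⟩ : (S : Subgroup G)) ∣ 4 := by
      rw [← hS4]; exact orderOf_dvd_natCard _
    have h2 : orderOf (⟨y, hy⟩ : (S : Subgroup G)) ≠ 4 := by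
      intro h
      apply hSnc
      exact isCyclic_of_orderOf_eq_card (⟨y, hy⟩ : (S : Subgroup G)) (by rw [h, hS4])
    have h3 : orderOf (⟨y, hy⟩ : (S : Subgroup G)) ∣ 2 := by
      have h4 : orderOf (⟨y, hy⟩ : (S : Subgroup G)) ∈ Nat.divisors 4 :=
        Nat.mem_divisors.mpr ⟨h1, by norm_num⟩
      have h5 : Nat.divisors 4 = {1, 2, 4} := by decide
      rw [h5] at h4
      simp only [Finset.mem_insert, Finset.mem_singleton] at h4
      rcases h4 with h4 | h4 | h4
      · rw [h4]; norm_num
      · rw [h4]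
      · exact absurd h4 h2
    rw [Subgroup.orderOf_mk] at h3
    have := orderOf_dvd_iff_pow_eq_one.mp h3
    rwa [pow_two] at this
  -- the second involution u
  have hexu : ∃ u ∈ (S : Subgroup G), u ∉ zpowers z := by
    by_contra hcon
    push Not at hcon
    have hle : (S : Subgroup G) ≤ zpowers z := fun y hy => hcon y hy
    have := Subgroup.card_le_of_le hle
    rw [hS4, Nat.card_zpowers, hz] at this
    omega
  obtain ⟨u, huS, huz⟩ := hexu
  have huu : u * u = 1 := hSexp u huS
  have hu1 : u ≠ 1 := fun h => huz (h ▸ Subgroup.one_mem _)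
  have hu : orderOf u = 2 := orderOf_eq_prime (by rw [pow_two]; exact huu) hu1
  have hui := inv_eq_of_orderOf_two hu
  have huzc : u * z = z * u := by
    have h1 : (u * z) * (u * z) = 1 := hSexp _ ((S : Subgroup G).mul_mem huS hzS')
    have h2 : u * z = (u * z)⁻¹ := eq_inv_of_mul_eq_one_left h1
    rw [h2, mul_inv_rev, hzi, hui]
  have huCz : u ∈ centralizer ({z} : Set G) := mem_centralizer_singleton_iff.mpr huzc
  have huN : u ∈ N := hCzN ▸ huCz
  have huK : u ∉ K := by
    intro h
    rcases invol_K P hab hC z hz hzK u h huu with h' | h'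
    · exact hu1 h'
    · exact huz (h' ▸ mem_zpowers z)
  -- all involutions are conjugate to z
  have hSodd : Odd (S : Subgroup G).index := by
    rw [← Nat.not_even_iff_odd, even_iff_two_dvd]; exact S.not_dvd_index
  have hconjz : ∀ x : G, orderOf x = 2 → ∃ g : G, g * x * g⁻¹ = z := by
    intro x hx
    have hM' : ((zpowers z).subgroupOf (S : Subgroup G)).index = 2 := by
      have h1 := Subgroup.card_mul_index ((zpowers z).subgroupOf (S : Subgroup G))
      have h2 : Nat.card ((zpowers z).subgroupOf (S : Subgroup G)) = 2 := by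
        rw [Nat.card_congr (Subgroup.subgroupOfEquivOfLe hzS).toEquiv, Nat.card_zpowers, hz]
      rw [h2, hS4] at h1
      omega
    obtain ⟨g, hgS, hgM⟩ := Cfsg.Agent.Helper16.thompson_transfer_general hnoidx (S : Subgroup G)
      hSodd ((zpowers z).subgroupOf (S : Subgroup G)) hM' x 1 le_rfl (by rw [hx, pow_one])
      (fun y hy => by
        have hy1 : (y : G) ≠ 1 := by
          intro h
          apply hy
          rw [mem_subgroupOf, h]; exact Subgroup.one_mem _
        have h0 : 0 < orderOf (y : G) := orderOf_pos _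
        have h1 : orderOf (y : G) ≠ 1 := fun h => hy1 (orderOf_eq_one_iff.mp h)
        simp only [Nat.sub_self, pow_zero]
        omega)
    refine ⟨g, ?_⟩
    rw [mem_subgroupOf] at hgM
    rcases mem_zpowers_two hz hgM with h | h
    · exfalso
      simp only at h
      have : x = 1 := by
        have := congrArg (fun t => g⁻¹ * t * g) h
        simpa [mul_assoc] using this
      rw [this, orderOf_one] at hx; omega
    · exact h
  have hconj : ∀ x y : G, orderOf x = 2 → orderOf y = 2 → IsConj x y := by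
    intro x y hx hy
    obtain ⟨g, hg⟩ := hconjz x hx
    obtain ⟨k, hk⟩ := hconjz y hy
    rw [isConj_iff]
    refine ⟨k⁻¹ * g, ?_⟩
    calc k⁻¹ * g * x * (k⁻¹ * g)⁻¹ = k⁻¹ * (g * x * g⁻¹) * k := by group
      _ = k⁻¹ * (k * y * k⁻¹) * k := by rw [hg, hk]
      _ = y := by group
  -- u has no fixed points on P
  have hfix : ∀ x ∈ (P : Subgroup G), u * x = x * u → x = 1 := by
    intro x hx hux
    obtain ⟨g, hg⟩ := hconjz u hu
    -- y = g x g⁻¹ commutes with z, so lies in N, is a 3-element, so lies in P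
    set y := g * x * g⁻¹ with hy
    have hyz : y * z = z * y := by
      rw [← hg, hy]
      calc g * x * g⁻¹ * (g * u * g⁻¹) = g * (x * u) * g⁻¹ := by group
        _ = g * (u * x) * g⁻¹ := by rw [hux]
        _ = g * u * g⁻¹ * (g * x * g⁻¹) := by group
    have hyN : y ∈ N := by
      rw [← hCzN]; exact mem_centralizer_singleton_iff.mpr hyz
    have hyP : y ∈ (P : Subgroup G) := by
      have hyp : IsPGroup 3 (zpowers y) := by
        obtain ⟨n, hn⟩ := IsPGroup.iff_card.mp P.isPGroup'
        have h1 : orderOf y = orderOf x := by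
          have : y = (MulAut.conj g) x := by rw [MulAut.conj_apply]
          rw [this, MulEquiv.orderOf_eq]
        have h2 : orderOf x ∣ 3 ^ n := by
          rw [← hn]
          have := orderOf_dvd_natCard (⟨x, hx⟩ : (P : Subgroup G))
          rwa [Subgroup.orderOf_mk] at this
        obtain ⟨k, -, hk⟩ := (Nat.dvd_prime_pow Nat.prime_three).mp h2
        exact IsPGroup.of_card (n := k) (by rw [Nat.card_zpowers, h1, hk])
      have h3 := hyp.inf_normalizer_sylow P
      have h4 : y ∈ zpowers y ⊓ normalizer ((P : Subgroup G) : Set G) :=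
        ⟨mem_zpowers y, hyN⟩
      have h5 : y ∈ zpowers y ⊓ (P : Subgroup G) := h3 ▸ h4
      exact h5.2
    -- TI
    by_cases hgn : g⁻¹ ∈ normalizer ((K : Subgroup G) : Set G)
    · exfalso
      apply huK
      have h1 : g⁻¹ * z * g⁻¹⁻¹ ∈ K := (mem_normalizer_iff.mp hgn z).mp hzK
      have h2 : g⁻¹ * z * g⁻¹⁻¹ = u := by rw [← hg]; group
      rwa [h2] at h1
    · have h1 : g⁻¹ * y * g⁻¹⁻¹ ∈ ((K : Subgroup G) : Set G) := by
        have : g⁻¹ * y * g⁻¹⁻¹ = x := by rw [hy]; group
        rw [this]; exact hPK hx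
      have h2 := hTI g⁻¹ hgn y (hPK hyP) h1
      have : x = g⁻¹ * y * g := by rw [hy]; group
      rw [this, h2]; group
  have hinvP : ∀ x ∈ (P : Subgroup G), u * x * u⁻¹ = x⁻¹ := by
    intro x hx
    have hx' : u * x * u⁻¹ ∈ (P : Subgroup G) := (mem_normalizer_iff.mp huN x).mp hx
    have hw : x * (u * x * u⁻¹) ∈ (P : Subgroup G) := (P : Subgroup G).mul_mem hx hx'
    have hc : u * (x * (u * x * u⁻¹)) = (x * (u * x * u⁻¹)) * u := by
      have h1 := hab x hx _ hx'
      calc u * (x * (u * x * u⁻¹)) = (u * x * u⁻¹) * (u * u) * x * u⁻¹ := by group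
        _ = (u * x * u⁻¹) * x * u⁻¹ := by rw [huu, mul_one]
        _ = x * (u * x * u⁻¹) * u⁻¹ := by rw [h1]
        _ = x * (u * x * u⁻¹) * u := by rw [hui]
    have := hfix _ hw hc
    exact eq_inv_of_mul_eq_one_right this
  -- hypotheses of the abstract Brauer-Suzuki-Wall theorem
  have hKcomm := comm_K P hab hC z hz hzK
  have hKab : IsMulCommutative ↥K := ⟨⟨fun a b => Subtype.ext (hKcomm a a.2 b b.2)⟩⟩
  have hKH : K ≤ centralizer ({z} : Set G) := fun k hk =>
    mem_centralizer_singleton_iff.mpr (hKcomm k hk z hzK)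
  have hinvK : ∀ x ∈ K, u * x * u⁻¹ = x⁻¹ := by
    intro x hx
    rcases mem_or_mul_mem P hab hC z hz hzK x hx with h | h
    · exact hinvP x h
    · have h1 := hinvP _ h
      have h2 : u * z * u⁻¹ = z := by rw [huzc, mul_inv_cancel_right]
      have h3 : u * x * u⁻¹ = (u * z * u⁻¹)⁻¹ * (u * (z * x) * u⁻¹) := by group
      rw [h3, h1, h2, mul_inv_rev, hzi]
      have h4 := hKcomm z hzK x⁻¹ (K.inv_mem hx)
      calc z * (x⁻¹ * z) = z * (z * x⁻¹) := by rw [h4]
        _ = (z * z) * x⁻¹ := by group
        _ = x⁻¹ := by rw [hzz, one_mul]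
  have hCK : K ⊓ centralizer ({u} : Set G) = zpowers z := by
    apply le_antisymm
    · rintro k ⟨hkK, hku⟩
      have hku' : k * u = u * k := mem_centralizer_singleton_iff.mp hku
      rcases mem_or_mul_mem P hab hC z hz hzK k hkK with h | h
      · rw [hfix k h hku'.symm]; exact Subgroup.one_mem _
      · have h1 : u * (z * k) = (z * k) * u := by
          calc u * (z * k) = (u * z) * k := by group
            _ = (z * u) * k := by rw [huzc]
            _ = z * (u * k) := by group
            _ = z * (k * u) := by rw [hku']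
            _ = (z * k) * u := by group
        have h2 := hfix _ h h1
        have h3 : k = z := by
          calc k = z * (z * k) := by rw [← mul_assoc, hzz, one_mul]
            _ = z := by rw [h2, mul_one]
        rw [h3]; exact mem_zpowers z
    · rw [zpowers_le]
      exact ⟨hzK, mem_centralizer_singleton_iff.mpr huzc.symm⟩
  have hH : K ⊔ zpowers u = centralizer ({z} : Set G) := by
    rw [hCzN]
    have hle : K ⊔ zpowers u ≤ N := sup_le hKN (by rw [zpowers_le]; exact huN)
    apply Subgroup.eq_of_le_of_card_ge hle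
    have hzn : zpowers u ≤ normalizer ((K : Subgroup G) : Set G) := by
      rw [zpowers_le]
      exact normalizer_le_normalizer_centralizer P hab hC z hz hzK huN
    have hprod := Cfsg.Agent.Helper17.card_sup_mul_card_inf K (zpowers u) hzn
    have hinf : K ⊓ zpowers u = ⊥ := by
      rw [Subgroup.eq_bot_iff_forall]
      rintro x ⟨hxK, hxu⟩
      rcases mem_zpowers_two hu hxu with h | h
      · exact h
      · exact absurd (h ▸ hxK) huK
    rw [hinf, Subgroup.card_bot, mul_one, Nat.card_zpowers, hu, hC] at hprod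
    rw [hN, hprod]; omega
  have hTI' : ∀ g : G, g ∉ centralizer ({z} : Set G) →
      K ⊓ K.map (MulAut.conj g).toMonoidHom = ⊥ := by
    intro g hg
    have hgn : g ∉ normalizer ((K : Subgroup G) : Set G) := by
      intro h
      apply hg
      rw [hCzN]
      exact normalizer_centralizer_le P hab hC z hz hzK h
    rw [Subgroup.eq_bot_iff_forall]
    rintro y ⟨hyK, hyM⟩
    obtain ⟨x, hxK, hxy⟩ := Subgroup.mem_map.mp hyM
    have hxy' : g * x * g⁻¹ = y := by
      rw [← hxy]; rfl
    have h1 : x = 1 := hTI g hgn x hxK (by rw [hxy']; exact hyK)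
    rw [← hxy', h1]; group
  obtain ⟨Q, D, hE1, -, hE3, hE4, hE5, hE6, hE7⟩ :=
    Cfsg.Agent.S3282.result z hz K hKab hKH hzK u hu huCz huK hH hCK hinvK hTI' hconj
  have hzP : ∀ x ∈ (P : Subgroup G), z * x = x * z := fun x hx =>
    hKcomm z hzK x (hPK hx)
  exact final_contra P hN hNtop heven z hz hzP hCzcard hconj Q D hE1 hE3 hE4 hE5 hE6 hE7

end Cfsg.Agent.Helper21.S4018a
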