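import Mathlib
import Cfsg.Agent.Helper26.S4057Defs
import Cfsg.Agent.Helper1.PGroup
import Cfsg.Agent.Helper18.PearlR2
import Cfsg.Agent.Helper2.S4057PCENT

set_option autoImplicit false

/-! # S4057 board, piece PCGEN (blueprint Lemma 4): a `p`-central `p`-group whose elements of order
`p` lie in a central subgroup of order `≤ p^r` is `r`-generated. -/

namespace Cfsg.Agent.S4057P

open scoped commutatorElement

/-- PCGEN: a `p`-central subgroup `V` (`p` odd) whose elements of order `p` lie in a central subgroup
of order at most `p ^ r` is generated by `r` elements. -/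
theorem PCGEN {P : Type*} [Group P] [Finite P] {p : ℕ} [Fact p.Prime] (hp : p ≠ 2)
    (hP : IsPGroup p P) (V E : Subgroup P) (hEV : E ≤ V)
    (hEc : ∀ e ∈ E, ∀ v ∈ V, e * v = v * e) (hT : ∀ v ∈ V, v ^ p = 1 → v ∈ E)
    (r : ℕ) (hE : Nat.card E ≤ p ^ r) :
    ∃ S : Finset P, S.card ≤ r ∧ Subgroup.closure (S : Set P) = V := by
  apply Cfsg.Agent.Helper18.Pearl.exists_finset_closure_eq_of_card_le_frattini hP V r
  have hVp : IsPGroup p V := hP.to_subgroup V
  have hcent : ∀ v : V, v ^ p = 1 → v ∈ Subgroup.center V := by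
    intro v hv
    have hvE : (v : P) ∈ E := hT v v.2 (by
      have := congrArg Subtype.val hv
      simpa using this)
    rw [Subgroup.mem_center_iff]
    intro w
    apply Subtype.ext
    have := hEc (v : P) hvE (w : P) w.2
    simpa using this.symm
  -- the p-th power map into the Frattini subgroup
  let f : V → frattini V := fun v => ⟨v ^ p, Cfsg.Agent.Helper1.IsPGroup.pow_mem_frattini hVp v⟩
  have hfib : ∀ v u : V, f v = f u → ((v⁻¹ * u : V) : P) ∈ E := by
    intro v u h
    have h1 : v ^ p = u ^ p := congrArg Subtype.val h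
    have h2 := PCENT hp hVp hcent v u h1
    refine hT _ (v⁻¹ * u).2 ?_
    have := congrArg Subtype.val h2
    simpa using this
  let g : V → (E.subgroupOf V) × frattini V := fun v =>
    (⟨(Function.invFun f (f v))⁻¹ * v, by
      rw [Subgroup.mem_subgroupOf]
      exact hfib _ _ (Function.invFun_eq ⟨v, rfl⟩)⟩, f v)
  have hg : Function.Injective g := by
    intro v u h
    have h1 : f v = f u := congrArg Prod.snd h
    have h2 := congrArg (fun x => ((Prod.fst x : E.subgroupOf V) : V)) h
    simp only [g] at h2
    rw [h1] at h2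
    exact mul_left_cancel h2
  have h3 : Nat.card V ≤ Nat.card ((E.subgroupOf V) × frattini V) :=
    Nat.card_le_card_of_injective g hg
  rw [Nat.card_prod] at h3
  have h4 : Nat.card (E.subgroupOf V) = Nat.card E :=
    Nat.card_congr (Subgroup.subgroupOfEquivOfLe hEV).toEquiv
  rw [h4] at h3
  exact h3.trans (Nat.mul_le_mul_right _ hE)

end Cfsg.Agent.S4057P
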