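import Mathlib
import Cfsg.Agent.Helper9.S4091Defs
import Cfsg.Agent.Helper20.S4091LHOM

set_option autoImplicit false

/-!
# S4091, piece LAMB (board s4091pieces)

The generalised Brauer–Wielandt inequality (L) for subgroups `P`, `N ⊴ G` of an ambient group
(conjugation action), from the abstract form LHOM.
-/

namespace Cfsg.Agent.S4091P

open Cfsg.Agent.Helper7 (subFinset mem_subFinset)

universe u

variable {p : ℕ} [Fact p.Prime]

/-- the conjugation action of `P` on the normal subgroup `N` -/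
def LAMB_aux_phi {G : Type u} [Group G] (P N : Subgroup G) [N.Normal] : ↥P →* MulAut ↥N :=
  (MulAut.conjNormal : G →* MulAut ↥N).comp P.subtype

theorem LAMB_aux_phi_apply {G : Type u} [Group G] (P N : Subgroup G) [N.Normal] (x : ↥P)
    (n : ↥N) : ((LAMB_aux_phi P N x n : ↥N) : G) = (x : G) * (n : G) * (x : G)⁻¹ := by
  simp [LAMB_aux_phi]

theorem LAMB_aux_fixSub {G : Type u} [Group G] (P N : Subgroup G) [N.Normal] (x : ↥P) :
    fixSub (LAMB_aux_phi P N x)
      = (N ⊓ Subgroup.centralizer ({(x : G)} : Set G)).subgroupOf N := by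
  ext n
  rw [mem_fixSub, Subgroup.mem_subgroupOf, Subgroup.mem_inf, Subgroup.mem_centralizer_iff]
  constructor
  · intro h
    refine ⟨n.2, ?_⟩
    intro y hy
    rw [Set.mem_singleton_iff] at hy
    rw [hy]
    have h1 := congrArg Subtype.val h
    rw [LAMB_aux_phi_apply] at h1
    calc (x : G) * (n : G) = ((x : G) * (n : G) * (x : G)⁻¹) * (x : G) := by group
      _ = (n : G) * (x : G) := by rw [h1]
  · rintro ⟨_, h⟩
    apply Subtype.ext
    rw [LAMB_aux_phi_apply]
    have h1 := h (x : G) (Set.mem_singleton _)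
    rw [h1]
    group

theorem LAMB_aux_iInf {G : Type u} [Group G] (P N : Subgroup G) [N.Normal] :
    (⨅ x : ↥P, fixSub (LAMB_aux_phi P N x))
      = (N ⊓ Subgroup.centralizer ((P : Subgroup G) : Set G)).subgroupOf N := by
  ext n
  rw [Subgroup.mem_iInf, Subgroup.mem_subgroupOf, Subgroup.mem_inf, Subgroup.mem_centralizer_iff]
  constructor
  · intro h
    refine ⟨n.2, fun y hy => ?_⟩
    have h1 := h ⟨y, hy⟩
    rw [LAMB_aux_fixSub, Subgroup.mem_subgroupOf, Subgroup.mem_inf,
      Subgroup.mem_centralizer_iff] at h1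
    exact h1.2 y (Set.mem_singleton _)
  · rintro ⟨_, h⟩ x
    rw [LAMB_aux_fixSub, Subgroup.mem_subgroupOf, Subgroup.mem_inf, Subgroup.mem_centralizer_iff]
    refine ⟨n.2, fun y hy => ?_⟩
    rw [Set.mem_singleton_iff] at hy
    rw [hy]
    exact h x x.2

/-- LAMB: (L) for subgroups `P`, `N ⊴ G` of an ambient group (conjugation action) -/
theorem LAMB {G : Type u} [Group G] [Finite G] (P N : Subgroup G) [N.Normal]
    (hP : IsPGroup p P) (hN : ¬ p ∣ Nat.card N) :
    (∏ x ∈ subFinset P, Nat.card ↥(N ⊓ Subgroup.centralizer ({x} : Set G))) ^ p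
      ≤ (Nat.card N * Nat.card ↥(N ⊓ Subgroup.centralizer (P : Set G)) ^ (p - 1)) ^ Nat.card P := by
  classical
  have : Fintype ↥P := Fintype.ofFinite ↥P
  have h := LHOM (p := p) (Nat.card ↥N) (N := ↥N) rfl hN (P := ↥P) hP (LAMB_aux_phi P N)
  have h1 : ∀ x : ↥P, fx (LAMB_aux_phi P N x)
      = Nat.card ↥(N ⊓ Subgroup.centralizer ({(x : G)} : Set G)) := by
    intro x
    unfold fx
    rw [LAMB_aux_fixSub]
    exact Nat.card_congr (Subgroup.subgroupOfEquivOfLe inf_le_left).toEquiv
  have h2 : fxAll (LAMB_aux_phi P N)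
      = Nat.card ↥(N ⊓ Subgroup.centralizer ((P : Subgroup G) : Set G)) := by
    unfold fxAll
    rw [LAMB_aux_iInf]
    exact Nat.card_congr (Subgroup.subgroupOfEquivOfLe inf_le_left).toEquiv
  have h3 : ∏ x ∈ subFinset P, Nat.card ↥(N ⊓ Subgroup.centralizer ({x} : Set G))
      = ∏ x : ↥P, fx (LAMB_aux_phi P N x) := by
    rw [Finset.prod_subtype (subFinset P) (fun x => mem_subFinset)
      (fun x => Nat.card ↥(N ⊓ Subgroup.centralizer ({x} : Set G)))]
    exact Finset.prod_congr rfl (fun x _ => (h1 x).symm)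
  rw [h3, ← h2]
  exact h

end Cfsg.Agent.S4091P
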