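import Mathlib
import Cfsg.Agent.Helper2.S4130Defs
import Cfsg.Agent.Helper7.S4130DIV
import Cfsg.Agent.Helper10.S4130PLINESA

/-! Board `s4130pieces`, row PABL: (SQ)-group, normal abelian Sylow `q`-subgroup `P` containing `G'`:
`|[P, G]|` divides `q` (PLINESA with `Γ = G`, `V = P`, `ρ = MulAut.conjNormal`). -/

set_option autoImplicit false

namespace Cfsg.Agent.S4130P

universe u

open Subgroup

open scoped commutatorElement in
/-- (PABL) (SQ)-group, normal abelian Sylow `q`-subgroup `P` containing `G'`: `|[P, G]| ∣ q`. -/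
theorem PABL {G : Type*} [Group G] [Finite G] (h : SqfCls G) (q : ℕ) [Fact q.Prime]
    (P : Sylow q G) [(P : Subgroup G).Normal] (hab : IsMulCommutative (P : Subgroup G))
    (hG' : commutator G ≤ P) :
    Nat.card (⁅(P : Subgroup G), (⊤ : Subgroup G)⁆ : Subgroup G) ∣ q := by
  classical
  have hq : q.Prime := Fact.out
  have hPc : ∀ a b : ↥(P : Subgroup G), a * b = b * a := fun a b => hab.is_comm.comm a b
  -- conjugation by an element of `P` is trivial on `P`
  have hρP : ∀ c : G, c ∈ (P : Subgroup G) → ∀ v : ↥(P : Subgroup G), c * (v : G) * c⁻¹ = v := by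
    intro c hc v
    have h1 : (⟨c, hc⟩ : ↥(P : Subgroup G)) * v = v * ⟨c, hc⟩ := hPc _ _
    have h2 : c * (v : G) = v * c := congrArg Subtype.val h1
    rw [h2, mul_inv_cancel_right]
  set ρ : G →* MulAut ↥(P : Subgroup G) := MulAut.conjNormal with hρ
  have hρapp : ∀ (g : G) (v : ↥(P : Subgroup G)), ((ρ g v : ↥(P : Subgroup G)) : G) = g * v * g⁻¹ :=
    fun g v => MulAut.conjNormal_apply g v
  have hρtriv : ∀ c : G, c ∈ (P : Subgroup G) → ρ c = 1 := by
    intro c hc
    ext v
    rw [hρapp, MulAut.one_apply]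
    exact hρP c hc v
  have hcomm : ∀ γ δ : G, ρ γ * ρ δ = ρ δ * ρ γ := by
    intro γ δ
    have h1 : γ * δ = (δ * γ) * ⁅γ⁻¹, δ⁻¹⁆ := by
      rw [commutatorElement_def]
      group
    have h2 : ⁅γ⁻¹, δ⁻¹⁆ ∈ (P : Subgroup G) := by
      apply hG'
      rw [commutator_def]
      exact Subgroup.commutator_mem_commutator (Subgroup.mem_top _) (Subgroup.mem_top _)
    rw [← map_mul, ← map_mul, h1, map_mul, hρtriv _ h2, mul_one]
  have hcop : ∀ γ : G, (orderOf (ρ γ)).Coprime q := by
    intro γ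
    have h1 : (ρ γ) ^ (P : Subgroup G).index = 1 := by
      rw [← map_pow]
      exact hρtriv _ ((P : Subgroup G).pow_index_mem γ)
    have h2 : orderOf (ρ γ) ∣ (P : Subgroup G).index := orderOf_dvd_of_pow_eq_one h1
    have h3 : ¬ q ∣ (P : Subgroup G).index := P.not_dvd_index
    exact Nat.Coprime.coprime_dvd_left h2 ((Nat.Prime.coprime_iff_not_dvd hq).2 h3).symm
  have hidx : ∀ γ : G, ∃ C : Subgroup ↥(P : Subgroup G), (∀ v : ↥(P : Subgroup G), v ∈ C ↔ ρ γ v = v) ∧
      (C.index = 1 ∨ C.index = q) := by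
    intro γ
    refine ⟨(centralizer ({γ} : Set G)).subgroupOf (P : Subgroup G), ?_, DIVR h (P : Subgroup G) q P.isPGroup' γ⟩
    intro v
    rw [Subgroup.mem_subgroupOf, Subgroup.mem_centralizer_iff]
    constructor
    · intro h1
      apply Subtype.ext
      rw [hρapp]
      have h2 : γ * (v : G) = v * γ := h1 γ (Set.mem_singleton γ)
      rw [h2, mul_inv_cancel_right]
    · intro h1 g hg
      rw [Set.mem_singleton_iff] at hg
      rw [hg]
      have h2 : γ * (v : G) * γ⁻¹ = v := by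
        rw [← hρapp, h1]
      calc γ * (v : G) = (γ * (v : G) * γ⁻¹) * γ := by group
        _ = v * γ := by rw [h2]
  have hmain := PLINESA hPc ρ q P.isPGroup' hcomm hcop hidx
  set K : Subgroup ↥(P : Subgroup G) :=
    closure {w : ↥(P : Subgroup G) | ∃ (γ : G) (v : ↥(P : Subgroup G)), w = ρ γ v * v⁻¹} with hK
  have hle : ⁅(P : Subgroup G), (⊤ : Subgroup G)⁆ ≤ K.map (P : Subgroup G).subtype := by
    rw [Subgroup.commutator_comm, Subgroup.commutator_le]
    intro g _ v hv
    refine ⟨ρ g ⟨v, hv⟩ * (⟨v, hv⟩ : ↥(P : Subgroup G))⁻¹, Subgroup.subset_closure ⟨g, ⟨v, hv⟩, rfl⟩, ?_⟩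
    rw [commutatorElement_def]
    show ((ρ g ⟨v, hv⟩ : ↥(P : Subgroup G)) : G) * v⁻¹ = _
    rw [hρapp]
  have hcard : Nat.card (K.map (P : Subgroup G).subtype) = Nat.card K :=
    Subgroup.card_map_of_injective (Subgroup.subtype_injective _)
  exact (Subgroup.card_dvd_of_le hle).trans (hcard ▸ hmain)

end Cfsg.Agent.S4130P
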