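import Mathlib
import Cfsg.Agent.Helper27.S4150Defs
import Cfsg.Agent.S0732

/-! # S4150 piece SIX30: no transitive group of degree 6 and order 30. -/

set_option autoImplicit false

namespace Cfsg.Agent.S4150P

open Equiv Equiv.Perm MulAction

section
variable {α : Type*} [Fintype α] [DecidableEq α]

/-- SIX30 [S]: no transitive group of degree 6 and order 30 (`Cfsg.Agent.S0732.result`, p = 5,
d = 1). -/
theorem SIX30.main (hα : Fintype.card α = 6) (H : Subgroup (Perm α)) (htr : IsPretransitive H α)
    (hH : Nat.card H = 30) : False := by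
  have := htr
  have hp : (5 : ℕ).Prime := by norm_num
  have h := Cfsg.Agent.S0732.result (p := 5) (d := 1) hp (by rw [hα]) H (by rw [hH]) (by norm_num)
  rcases h with ⟨h1, -⟩ | ⟨h1, -⟩ | ⟨q, hq, h1, -⟩
  · omega
  · omega
  · have h2 : (2 : ℕ) ^ q = 6 := by omega
    have h3 : q < 3 := by
      by_contra hc
      push Not at hc
      have : (2 : ℕ) ^ 3 ≤ 2 ^ q := Nat.pow_le_pow_right (by norm_num) hc
      omega
    interval_cases q <;> omega

end

end Cfsg.Agent.S4150P
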