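import Mathlib
import Cfsg.Agent.Helper27.S4150Defs
import Cfsg.Agent.Helper18.Klein4
import Cfsg.Agent.Helper15.S4150CYCP
import Cfsg.Agent.Helper26.S4150COMM2P

/-! # S4150 piece SIX60: a 2-transitive group of degree 6 and order 60 is `A₅`. -/

set_option autoImplicit false

namespace Cfsg.Agent.S4150P

open Equiv Equiv.Perm MulAction

section
variable {α : Type*} [Fintype α] [DecidableEq α]

namespace SIX60

/-- a non-trivial subgroup normalised by a 2-transitive group is transitive, so it has at least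
`|α|` elements -/
theorem card_le_of_normal (H : Subgroup (Perm α)) (h2 : IsMultiplyPretransitive H α 2)
    (N : Subgroup (Perm α)) (hnorm : ∀ h ∈ H, ∀ n ∈ N, h * n * h⁻¹ ∈ N) (hN : N ≠ ⊥) :
    Fintype.card α ≤ Nat.card N := by
  obtain ⟨⟨n, hnN⟩, hn1⟩ := (Subgroup.ne_bot_iff_exists_ne_one).mp hN
  have hn1' : n ≠ 1 := fun h => hn1 (Subtype.ext h)
  obtain ⟨u, hu⟩ : ∃ u, n u ≠ u := by
    by_contra hcon
    push Not at hcon
    exact hn1' (Equiv.Perm.ext hcon)
  have hsurj : Function.Surjective (fun k : N => (k : Perm α) u) := by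
    intro w
    by_cases hw : w = u
    · exact ⟨1, by simp [hw]⟩
    · rw [MulAction.is_two_pretransitive_iff] at h2
      obtain ⟨h, h1, h2'⟩ := h2 (a := u) (b := n u) (c := u) (d := w) (Ne.symm hu) (Ne.symm hw)
      have h1' : (h : Perm α) u = u := h1
      have h2'' : (h : Perm α) (n u) = w := h2'
      refine ⟨⟨(h : Perm α) * n * (h : Perm α)⁻¹, hnorm h h.2 n hnN⟩, ?_⟩
      show ((h : Perm α) * n * (h : Perm α)⁻¹) u = w
      have h3 : (h : Perm α)⁻¹ u = u := by
        rw [Perm.inv_eq_iff_eq]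
        exact h1'.symm
      rw [Perm.mul_apply, Perm.mul_apply, h3]
      exact h2''
  have h3 := Nat.card_le_card_of_surjective _ hsurj
  rwa [Nat.card_eq_fintype_card] at h3

/-- a `p`-Sylow subgroup of a group of order 60 (`p ∈ {3, 5}`) has fewer than 6 elements -/
theorem sylow_card_lt {G : Type*} [Group G] [Finite G] (hG : Nat.card G = 60) {p : ℕ}
    [Fact p.Prime] (hp : p = 3 ∨ p = 5) (P : Sylow p G) : Nat.card (P : Subgroup G) < 6 := by
  obtain ⟨k, hk⟩ := IsPGroup.iff_card.mp P.isPGroup'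
  have hdvd : Nat.card (P : Subgroup G) ∣ 60 := by
    rw [← hG]
    exact Subgroup.card_subgroup_dvd_card _
  rw [hk] at hdvd ⊢
  rcases hp with rfl | rfl
  · have hk1 : k < 2 := by
      by_contra hc
      push Not at hc
      have h9 : 3 ^ 2 ∣ 3 ^ k := pow_dvd_pow 3 hc
      have := dvd_trans h9 hdvd
      norm_num at this
    interval_cases k <;> norm_num
  · have hk1 : k < 2 := by
      by_contra hc
      push Not at hc
      have h9 : 5 ^ 2 ∣ 5 ^ k := pow_dvd_pow 5 hc
      have := dvd_trans h9 hdvd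
      norm_num at this
    interval_cases k <;> norm_num

/-- the Sylow `p`-subgroups (`p ∈ {3,5}`) of a 2-transitive group of degree 6 and order 60 are not
unique -/
theorem not_subsingleton_sylow (hα : Fintype.card α = 6) (H : Subgroup (Perm α))
    (h2 : IsMultiplyPretransitive H α 2) (hH : Nat.card H = 60) {p : ℕ} [Fact p.Prime]
    (hp : p = 3 ∨ p = 5) : ¬ Subsingleton (Sylow p ↥H) := by
  intro hss
  obtain ⟨P⟩ : Nonempty (Sylow p ↥H) := inferInstance
  have hPn : (P : Subgroup ↥H).Normal := Sylow.normal_of_subsingleton P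
  have hpdvd : p ∣ Nat.card ↥H := by
    rw [hH]
    rcases hp with rfl | rfl <;> norm_num
  have hPne : (P : Subgroup ↥H) ≠ ⊥ := Sylow.ne_bot_of_dvd_card P hpdvd
  set N : Subgroup (Perm α) := (P : Subgroup ↥H).map H.subtype with hN
  have hinj : Function.Injective H.subtype := H.subtype_injective
  have hNne : N ≠ ⊥ := by
    intro h0
    apply hPne
    rw [hN, Subgroup.map_eq_bot_iff_of_injective _ hinj] at h0
    exact h0
  have hnorm : ∀ h ∈ H, ∀ n ∈ N, h * n * h⁻¹ ∈ N := by
    rintro h hh n ⟨k, hk, rfl⟩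
    refine ⟨⟨h, hh⟩ * k * ⟨h, hh⟩⁻¹, hPn.conj_mem k hk ⟨h, hh⟩, ?_⟩
    simp
  have hcard : Nat.card N = Nat.card (P : Subgroup ↥H) := by
    rw [hN]
    exact Subgroup.card_map_of_injective hinj
  have h6 := card_le_of_normal H h2 N hnorm hNne
  have hlt := sylow_card_lt hH hp P
  rw [hα, hcard] at h6
  omega

/-- no element of order 10 on 6 points -/
theorem orderOf_ne_ten (hα : Fintype.card α = 6) (g : Perm α) : orderOf g ≠ 10 := by
  intro h10
  have hz : (g ^ 5) ^ 2 = 1 := by
    have h0 : g ^ 10 = 1 := by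
      rw [← h10]
      exact pow_orderOf_eq_one g
    rw [← pow_mul]
    exact h0
  have ht : orderOf (g ^ 2) = 5 := by
    rw [orderOf_pow, h10]
    rfl
  have hcomm : g ^ 5 * g ^ 2 = g ^ 2 * g ^ 5 := by
    rw [← pow_add, ← pow_add]
  have hcard : (g ^ 5).support.card < 2 * 5 := by
    have := Finset.card_le_univ (g ^ 5).support
    rw [hα] at this
    omega
  have hdisj := COMM2P.main (p := 5) (by norm_num) (by norm_num) (g ^ 5) (g ^ 2) hz ht hcomm hcard
  obtain ⟨-, hts⟩ := CYCP.main (p := 5) (by norm_num) (by rw [hα]; norm_num) ht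
  have hle : (g ^ 5).support.card + (g ^ 2).support.card ≤ 6 := by
    rw [← Finset.card_union_of_disjoint hdisj, ← hα]
    exact Finset.card_le_univ _
  have h1 : (g ^ 5).support.card ≤ 1 := by omega
  have h5 : g ^ 5 = 1 := by
    rw [← Equiv.Perm.card_support_eq_zero]
    have := Equiv.Perm.card_support_ne_one (g ^ 5)
    omega
  have := orderOf_dvd_of_pow_eq_one h5
  rw [h10] at this
  norm_num at this

end SIX60

/-- SIX60 [M]: a 2-transitive group of degree 6 and order 60 is `A₅`. -/
theorem SIX60.main (hα : Fintype.card α = 6) (H : Subgroup (Perm α))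
    (h2 : IsMultiplyPretransitive H α 2) (hH : Nat.card H = 60) :
    Nonempty (H ≃* alternatingGroup (Fin 5)) := by
  have : Fact (Nat.Prime 3) := ⟨Nat.prime_three⟩
  have : Fact (Nat.Prime 5) := ⟨Nat.prime_five⟩
  apply Cfsg.Agent.Helper18.Klein.nonempty_equiv_A5 hH
  · exact SIX60.not_subsingleton_sylow hα H h2 hH (Or.inl rfl)
  · exact SIX60.not_subsingleton_sylow hα H h2 hH (Or.inr rfl)
  · intro g
    rw [← Subgroup.orderOf_coe]
    exact SIX60.orderOf_ne_ten hα (g : Perm α)

end

end Cfsg.Agent.S4150P
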