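import Mathlib
import Cfsg.Agent.Helper27.S4150Defs
import Cfsg.Agent.Helper13.S4150SIXIDX
import Cfsg.Agent.Helper23.S4150SIXTWO
import Cfsg.Agent.Helper21.S4150SIX30
import Cfsg.Agent.Helper21.S4150SIX60

/-! # S4150 piece SIX: assembly of the degree 6 case. -/

set_option autoImplicit false

namespace Cfsg.Agent.S4150P

open Equiv Equiv.Perm MulAction

section
variable {α : Type*} [Fintype α] [DecidableEq α]

/-- SIX [M, assembly]: `30 ∣ |H| ∣ 360`, SIXIDX, SIX30, SIXTWO + SIX60. -/
theorem SIX.main (hα : Fintype.card α = 6) (H : Subgroup (Perm α))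
    (hHA : H ≤ alternatingGroup α) (htr : IsPretransitive H α) {y : Perm α} (hy : y ∈ H)
    (hyo : orderOf y = 5) :
    alternatingGroup α ≤ H ∨ Nonempty (H ≃* alternatingGroup (Fin 5)) := by
  by_cases hA : alternatingGroup α ≤ H
  · exact Or.inl hA
  right
  have := htr
  have h60 : Nat.card H ≤ 60 := SIXIDX.main hα H hHA hA
  have h2 : IsMultiplyPretransitive H α 2 := SIXTWO.main hα H htr hy hyo
  -- `6 ∣ |H|`
  have hne : Nonempty α := by
    rw [← Fintype.card_pos_iff, hα]
    norm_num
  obtain ⟨a⟩ := hne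
  have h6 : 6 ∣ Nat.card H := by
    have h1 := MulAction.index_stabilizer_of_transitive (G := H) (x := a)
    rw [Nat.card_eq_fintype_card, hα] at h1
    rw [← h1]
    exact Subgroup.index_dvd_card _
  -- `5 ∣ |H|`
  have h5 : 5 ∣ Nat.card H := by
    have h1 : orderOf (⟨y, hy⟩ : H) = 5 := by
      rw [← Subgroup.orderOf_coe]
      exact hyo
    rw [← h1]
    exact orderOf_dvd_natCard _
  have hpos : 0 < Nat.card H := Nat.card_pos
  have h30 : Nat.card H = 30 ∨ Nat.card H = 60 := by omega
  rcases h30 with h | h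
  · exact (SIX30.main hα H htr h).elim
  · exact SIX60.main hα H h2 h

end

end Cfsg.Agent.S4150P
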