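import Mathlib
import Cfsg.Agent.Helper5.S4330Defs
import Cfsg.Agent.Lead.GenCent
import Cfsg.Agent.Helper27.S4330B0R

/-! Board `s4330pieces`, piece B0: an abelian semiregular `p`-group of automorphisms of `V ≠ 1` is cyclic. -/

set_option autoImplicit false

namespace Cfsg.Agent.Helper5.S4330

variable {V : Type*} [CommGroup V] [Finite V]

/-- in a group, `x ^ p = 1`, `0 < i < p` and `x ^ i ∈ zpowers y` give `x ∈ zpowers y` -/
theorem B0_aux_root {A : Type*} [Group A] {p : ℕ} (hp : p.Prime) (x y : A) (hx : x ^ p = 1) {i : ℕ}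
    (hi0 : i ≠ 0) (hip : i < p) (h : x ^ i ∈ Subgroup.zpowers y) : x ∈ Subgroup.zpowers y := by
  have hcop : Nat.Coprime i p :=
    Nat.Coprime.symm ((Nat.Prime.coprime_iff_not_dvd hp).2
      (Nat.not_dvd_of_pos_of_lt (Nat.pos_of_ne_zero hi0) hip))
  obtain ⟨m, -, hm⟩ := Nat.exists_mul_mod_eq_one_of_coprime hcop hp.one_lt
  have h1 : (x ^ i) ^ m = x := by
    rw [← pow_mul, ← Nat.div_add_mod (i * m) p, hm, pow_add, pow_mul, hx, one_pow, one_mul, pow_one]
  rw [← h1]
  exact Subgroup.pow_mem _ h m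

/-- B0: an abelian semiregular `p`-group of automorphisms of `V ≠ 1` is cyclic. -/
theorem isCyclic_of_semiReg {p : ℕ} [Fact p.Prime] [Nontrivial V] {E : Subgroup (MulAut V)}
    (hE : Comm E) (hEp : IsPGroup p E) (hsr : SemiReg E) (hcop : (Nat.card V).Coprime p) :
    IsCyclic E := by
  classical
  have hp : p.Prime := Fact.out
  by_contra hnc
  have : IsMulCommutative E := ⟨⟨fun a b => Subtype.ext (hE a a.2 b b.2)⟩⟩
  obtain ⟨r, hr, x, y, hx, hy, hy1, hxy⟩ := Cfsg.Agent.Lead.exists_rank_two_of_not_isCyclic hnc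
  -- `r = p`
  have hoy : orderOf y = r := by
    rcases (Nat.dvd_prime hr).1 (orderOf_dvd_of_pow_eq_one hy) with h | h
    · exact absurd (orderOf_eq_one_iff.1 h) hy1
    · exact h
  have hrp : r = p := by
    obtain ⟨k, hk⟩ := hEp y
    have h1 : r ∣ p ^ k := by
      rw [← hoy]
      exact orderOf_dvd_of_pow_eq_one hk
    exact (Nat.prime_dvd_prime_iff_eq hr hp).1 (hr.dvd_of_dvd_pow h1)
  subst hrp
  -- apply B0R with `W = ⊤`
  have hab : (x : MulAut V) * (y : MulAut V) = (y : MulAut V) * (x : MulAut V) := hE x x.2 y y.2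
  have ha : (x : MulAut V) ^ r = 1 := by
    have := congrArg Subtype.val hx
    simpa using this
  have hb : (y : MulAut V) ^ r = 1 := by
    have := congrArg Subtype.val hy
    simpa using this
  have hbot : (⊤ : Subgroup V) = ⊥ := by
    apply eq_bot_of_rank_two_fpf hab ha hb ⊤ (fun w _ => Subgroup.mem_top _) (fun w _ => Subgroup.mem_top _) hcop
    intro i j hi hj hij w _ hw
    have hmem : (x : MulAut V) ^ i * (y : MulAut V) ^ j ∈ E :=
      E.mul_mem (E.pow_mem x.2 i) (E.pow_mem y.2 j)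
    refine hsr _ hmem ?_ w hw
    intro h1
    have h2 : x ^ i * y ^ j = 1 := by
      apply Subtype.ext
      simpa using h1
    by_cases hi0 : i = 0
    · have hj0 : j ≠ 0 := by
        intro hj0
        apply hij
        rw [hi0, hj0]
      rw [hi0, pow_zero, one_mul] at h2
      have h3 : r ∣ j := by
        rw [← hoy]
        exact orderOf_dvd_of_pow_eq_one h2
      have := Nat.le_of_dvd (Nat.pos_of_ne_zero hj0) h3
      omega
    · apply hxy
      apply B0_aux_root hp x y hx hi0 hi
      have h3 : x ^ i = (y ^ j)⁻¹ := eq_inv_of_mul_eq_one_left h2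
      rw [h3]
      exact Subgroup.inv_mem _ (Subgroup.pow_mem _ (Subgroup.mem_zpowers y) j)
  exact top_ne_bot hbot

end Cfsg.Agent.Helper5.S4330
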