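import Mathlib
import Cfsg.Agent.S3762

/-! Board `s4330pieces`, piece B1: in a `p`-group of symplectic type, `p` odd, commutators are central of order
dividing `p` (from S3762 on main: `G = E ∘ R`, `E` extraspecial or trivial, `R` cyclic). -/

set_option autoImplicit false
open scoped commutatorElement

namespace Cfsg.Agent.Helper5.S4330

/-- a central right factor in the first argument of a commutator can be dropped -/
theorem B1_aux_comm_left {G : Type*} [Group G] (a b z : G) (hz : z * b = b * z) :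
    ⁅a * z, b⁆ = ⁅a, b⁆ := by
  rw [commutatorElement_def, commutatorElement_def]
  have h1 : z * b * z⁻¹ = b := by rw [hz, mul_inv_cancel_right]
  calc a * z * b * (a * z)⁻¹ * b⁻¹ = a * (z * b * z⁻¹) * a⁻¹ * b⁻¹ := by group
    _ = a * b * a⁻¹ * b⁻¹ := by rw [h1]

/-- a central right factor in the second argument of a commutator can be dropped -/
theorem B1_aux_comm_right {G : Type*} [Group G] (a b z : G) (hz : z * a = a * z) :
    ⁅a, b * z⁆ = ⁅a, b⁆ := by
  rw [commutatorElement_def, commutatorElement_def]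
  have h1 : z * a⁻¹ * z⁻¹ = a⁻¹ := by
    have : z * a⁻¹ = a⁻¹ * z := by
      have h2 : a⁻¹ * (z * a) * a⁻¹ = a⁻¹ * (a * z) * a⁻¹ := by rw [hz]
      have h3 : a⁻¹ * (z * a) * a⁻¹ = a⁻¹ * z := by group
      have h4 : a⁻¹ * (a * z) * a⁻¹ = z * a⁻¹ := by group
      rw [← h4, ← h2, h3]
    rw [this, mul_inv_cancel_right]
  calc a * (b * z) * a⁻¹ * (b * z)⁻¹ = a * b * (z * a⁻¹ * z⁻¹) * b⁻¹ := by group
    _ = a * b * a⁻¹ * b⁻¹ := by rw [h1]

/-- B1: symplectic type, `p` odd: commutators are central of order dividing `p`. -/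
theorem comm_central_of_symplectic {p : ℕ} [Fact p.Prime] (hp : p ≠ 2) {G : Type*} [Group G]
    [Finite G] (hG : IsPGroup p G)
    (hsymp : ∀ A : Subgroup G, A.Characteristic → IsMulCommutative A → IsCyclic A) (a b : G) :
    ⁅a, b⁆ ∈ Subgroup.center G ∧ ⁅a, b⁆ ^ p = 1 := by
  classical
  obtain ⟨E, R, hER, hsup, hE, hR⟩ := Cfsg.Agent.S3762.result hG hsymp
  have hRcyc : IsCyclic R := by
    rcases hR with h | h
    · exact h
    · exact absurd h.1 hp
  -- `R` is central
  have hRR : ∀ r ∈ R, ∀ s ∈ R, s * r = r * s := by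
    intro r hr s hs
    have hc : IsMulCommutative R := IsCyclic.isMulCommutative
    have h1 : (⟨s, hs⟩ : R) * ⟨r, hr⟩ = ⟨r, hr⟩ * ⟨s, hs⟩ := hc.is_comm.comm _ _
    exact congrArg Subtype.val h1
  have hcent : ∀ c : G, (∀ e ∈ E, e * c = c * e) → (∀ r ∈ R, r * c = c * r) → ∀ g : G, g * c = c * g := by
    intro c hcE hcR g
    have h1 : (⊤ : Subgroup G) ≤ Subgroup.centralizer {c} := by
      rw [← hsup]
      apply sup_le
      · intro e he
        rw [Subgroup.mem_centralizer_iff]
        intro h hh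
        rw [Set.mem_singleton_iff] at hh
        rw [hh]
        exact (hcE e he).symm
      · intro r hr
        rw [Subgroup.mem_centralizer_iff]
        intro h hh
        rw [Set.mem_singleton_iff] at hh
        rw [hh]
        exact (hcR r hr).symm
    have h2 := h1 (Subgroup.mem_top g)
    rw [Subgroup.mem_centralizer_iff] at h2
    exact (h2 c (Set.mem_singleton c)).symm
  have hRc : ∀ r ∈ R, ∀ g : G, g * r = r * g := by
    intro r hr
    exact hcent r (fun e he => hER e he r hr) (fun s hs => hRR r hr s hs)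
  -- decomposition `g = e * r`
  have hRn : R.Normal := by
    constructor
    intro n hn g
    rw [hRc n hn g, mul_inv_cancel_right]
    exact hn
  have hdec : ∀ g : G, ∃ e ∈ E, ∃ r ∈ R, g = e * r := by
    intro g
    have h1 : g ∈ ((E ⊔ R : Subgroup G) : Set G) := by
      rw [hsup]
      exact Subgroup.mem_top g
    rw [Subgroup.mul_normal E R, Set.mem_mul] at h1
    obtain ⟨e, he, r, hr, h⟩ := h1
    exact ⟨e, he, r, hr, h.symm⟩
  obtain ⟨e₁, he₁, r₁, hr₁, rfl⟩ := hdec a
  obtain ⟨e₂, he₂, r₂, hr₂, rfl⟩ := hdec b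
  have hcomm : ⁅e₁ * r₁, e₂ * r₂⁆ = ⁅e₁, e₂⁆ := by
    rw [B1_aux_comm_left (e₁) (e₂ * r₂) r₁ (hRc r₁ hr₁ _).symm.symm.symm,
      B1_aux_comm_right e₁ e₂ r₂ (hRc r₂ hr₂ _).symm]
  rw [hcomm]
  rcases hE with hE | hE
  · -- `E = ⊥`
    rw [hE, Subgroup.mem_bot] at he₁ he₂
    rw [he₁, he₂, commutatorElement_one_left]
    exact ⟨Subgroup.one_mem _, one_pow p⟩
  · -- `E` extraspecial
    obtain ⟨⟨-, -, hcomE⟩, hcard⟩ := hE
    set c' : E := ⁅(⟨e₁, he₁⟩ : E), ⟨e₂, he₂⟩⁆ with hc'
    have hc'Z : c' ∈ Subgroup.center E := by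
      rw [← hcomE, commutator_def]
      exact Subgroup.commutator_mem_commutator (Subgroup.mem_top _) (Subgroup.mem_top _)
    have hval : (c' : G) = ⁅e₁, e₂⁆ := by
      rw [hc']
      exact map_commutatorElement E.subtype _ _
    rw [← hval]
    constructor
    · rw [Subgroup.mem_center_iff]
      intro g
      apply hcent
      · intro e he
        have h1 := (Subgroup.mem_center_iff.1 hc'Z) ⟨e, he⟩
        exact congrArg Subtype.val h1
      · intro r hr
        exact (hER c' c'.2 r hr).symm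
    · have h1 : (⟨c', hc'Z⟩ : Subgroup.center E) ^ p = 1 := by
        rw [← hcard]
        exact pow_card_eq_one'
      have h2 := congrArg (fun x : Subgroup.center E => ((x : E) : G)) h1
      simpa using h2

end Cfsg.Agent.Helper5.S4330
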