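import Mathlib
import Cfsg.Agent.Helper5.S4330Defs
import Cfsg.Agent.Helper21.S4330B0
import Cfsg.Agent.Helper21.S4330B1

/-! Board `s4330pieces`, piece B1M: under (SR) commutators of `D` are central in `D` and of order dividing `p`. -/

set_option autoImplicit false
open scoped commutatorElement

namespace Cfsg.Agent.Helper5.S4330

variable {V : Type*} [CommGroup V] [Finite V]

/-- conjugation by an element normalizing `D`, as an automorphism of `D` -/
def B1M_conj {G : Type*} [Group G] (D : Subgroup G) (l : G) (h1 : ∀ d ∈ D, l * d * l⁻¹ ∈ D)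
    (h2 : ∀ d ∈ D, l⁻¹ * d * l ∈ D) : D ≃* D where
  toFun d := ⟨l * d * l⁻¹, h1 d d.2⟩
  invFun d := ⟨l⁻¹ * d * l, h2 d d.2⟩
  left_inv d := Subtype.ext (by
    show l⁻¹ * (l * (d : G) * l⁻¹) * l = d
    group)
  right_inv d := Subtype.ext (by
    show l * (l⁻¹ * (d : G) * l) * l⁻¹ = d
    group)
  map_mul' a b := Subtype.ext (by
    show l * ((a : G) * (b : G)) * l⁻¹ = (l * (a : G) * l⁻¹) * (l * (b : G) * l⁻¹)
    group)

theorem B1M_conj_apply {G : Type*} [Group G] (D : Subgroup G) (l : G) (h1 : ∀ d ∈ D, l * d * l⁻¹ ∈ D)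
    (h2 : ∀ d ∈ D, l⁻¹ * d * l ∈ D) (d : D) : ((B1M_conj D l h1 h2 d : D) : G) = l * d * l⁻¹ := rfl

/-- B1M: under (SR) commutators of `D` are central in `D` and of order dividing `p`. -/
theorem class_two_of_semiReg {p : ℕ} [Fact p.Prime] (hp : p ≠ 2) [Nontrivial V]
    (hcop : (Nat.card V).Coprime p) {𝓛 D : Subgroup (MulAut V)} (hD𝓛 : D ≤ 𝓛)
    (hDn : NormBy 𝓛 D) (hDp : IsPGroup p D)
    (hSR : ∀ E : Subgroup (MulAut V), E ≤ D → NormBy 𝓛 E → Comm E → SemiReg E) :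
    ∀ a ∈ D, ∀ b ∈ D, (∀ c ∈ D, (a * b * a⁻¹ * b⁻¹) * c = c * (a * b * a⁻¹ * b⁻¹)) ∧
      (a * b * a⁻¹ * b⁻¹) ^ p = 1 := by
  classical
  have hsymp : ∀ A : Subgroup D, A.Characteristic → IsMulCommutative A → IsCyclic A := by
    intro A hAchar hAcomm
    set E : Subgroup (MulAut V) := A.map D.subtype with hEdef
    have hED : E ≤ D := by
      rintro _ ⟨a, -, rfl⟩
      exact a.2
    have hEn : NormBy 𝓛 E := by
      rintro l hl _ ⟨a, ha, rfl⟩
      have h1 : ∀ d ∈ D, l * d * l⁻¹ ∈ D := fun d hd => hDn l hl d hd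
      have h2 : ∀ d ∈ D, l⁻¹ * d * l ∈ D := by
        intro d hd
        have := hDn l⁻¹ (𝓛.inv_mem hl) d hd
        rwa [inv_inv] at this
      have h3 : a ∈ A.comap (B1M_conj D l h1 h2).toMonoidHom := by
        rw [hAchar.fixed]
        exact ha
      exact ⟨B1M_conj D l h1 h2 a, h3, rfl⟩
    have hEc : Comm E := by
      rintro _ ⟨a, ha, rfl⟩ _ ⟨b, hb, rfl⟩
      have h1 : (⟨a, ha⟩ : A) * ⟨b, hb⟩ = ⟨b, hb⟩ * ⟨a, ha⟩ := hAcomm.is_comm.comm _ _
      have h2 : a * b = b * a := congrArg Subtype.val h1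
      exact congrArg Subtype.val h2
    have hEp : IsPGroup p E := hDp.to_le hED
    have hEcyc : IsCyclic E := isCyclic_of_semiReg hEc hEp (hSR E hED hEn hEc) hcop
    exact ((Subgroup.equivMapOfInjective A D.subtype (Subgroup.subtype_injective D)).isCyclic).2 hEcyc
  intro a ha b hb
  obtain ⟨h1, h2⟩ := comm_central_of_symplectic hp hDp hsymp ⟨a, ha⟩ ⟨b, hb⟩
  have hval : ((⁅(⟨a, ha⟩ : D), ⟨b, hb⟩⁆ : D) : MulAut V) = a * b * a⁻¹ * b⁻¹ := by
    rw [commutatorElement_def]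
    rfl
  constructor
  · intro c hc
    have h3 := (Subgroup.mem_center_iff.1 h1) ⟨c, hc⟩
    have h4 := congrArg Subtype.val h3
    rw [← hval]
    exact h4.symm
  · rw [← hval]
    have h4 := congrArg Subtype.val h2
    simpa using h4

end Cfsg.Agent.Helper5.S4330
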