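import Mathlib
import Cfsg.Agent.Helper26.S4394Defs

set_option autoImplicit false

/-!
# S4394, piece GI (board s4394pieces): `Good` is invariant under isomorphism.
-/

namespace Cfsg.Agent.S4394P

/-- transport of `GoodZ` along an isomorphism (with `Z' = Z.comap e.symm`). -/
theorem GI_aux_goodZ {p : ℕ} {T T' : Type*} [Group T] [Group T'] (e : T ≃* T') (Z : Subgroup T)
    (h : GoodZ p T Z) : GoodZ p T' (Z.comap (e.symm : T' →* T)) := by
  obtain ⟨h1, h2, h3, h4, h5⟩ := h
  have hmem : ∀ x' : T', x' ∈ Z.comap (e.symm : T' →* T) ↔ e.symm x' ∈ Z := fun x' => Iff.rfl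
  refine ⟨?_, ?_, ?_, ?_, ?_⟩
  · intro x' hx'
    rw [Subgroup.mem_center_iff]
    intro g'
    have hc := Subgroup.mem_center_iff.mp (h1 ((hmem x').mp hx')) (e.symm g')
    apply e.symm.injective
    rw [map_mul, map_mul]
    exact hc
  · intro x' y'
    rw [hmem]
    simp only [map_mul, map_inv]
    exact h2 _ _
  · intro x'
    rw [hmem, map_pow]
    exact h3 _
  · intro x' hx' z' hz'
    obtain ⟨t, ht⟩ := h4 (e.symm x') (fun hc => hx' ((hmem x').mpr hc)) (e.symm z') ((hmem z').mp hz')
    refine ⟨e t, ?_⟩
    apply e.symm.injective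
    simp only [map_mul, map_inv, MulEquiv.symm_apply_apply]
    exact ht
  · intro hp hidx A' hZA' hA' N' hN'Z hN'ne
    have hidxZ : Z.index = p ^ 2 := by
      rw [← hidx]
      exact (Subgroup.index_comap_of_surjective Z e.symm.surjective).symm
    have hZA : Z ≤ A'.comap (e : T →* T') := by
      intro z hz
      show e z ∈ A'
      apply hZA'
      rw [hmem]
      simpa using hz
    have hA : (A'.comap (e : T →* T')).index = p := by
      rw [← hA']
      exact Subgroup.index_comap_of_surjective A' e.surjective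
    have hNZ : N'.comap (e : T →* T') ≤ Z := by
      intro n hn
      have h1' : e n ∈ Z.comap (e.symm : T' →* T) := hN'Z hn
      rw [hmem] at h1'
      simpa using h1'
    have hNne : N'.comap (e : T →* T') ≠ Z := by
      intro heq
      apply hN'ne
      apply le_antisymm hN'Z
      intro x' hx'
      have h1' : e.symm x' ∈ N'.comap (e : T →* T') := by
        rw [heq]
        exact (hmem x').mp hx'
      have h2' : e (e.symm x') ∈ N' := h1'
      simpa using h2'
    obtain ⟨a, haA, haN⟩ := h5 hp hidxZ _ hZA hA _ hNZ hNne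
    refine ⟨e a, haA, ?_⟩
    intro hc
    apply haN
    show e (a ^ p) ∈ N'
    rw [map_pow]
    exact hc

/-- GI (S/M): `Good` is invariant under isomorphism. -/
theorem GI {p : ℕ} {T T' : Type*} [Group T] [Group T'] (e : T ≃* T') (h : Good p T) : Good p T' := by
  obtain ⟨Z, hZ⟩ := h
  exact ⟨Z.comap (e.symm : T' →* T), GI_aux_goodZ e Z hZ⟩

end Cfsg.Agent.S4394P
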