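import Mathlib
import Cfsg.Agent.Helper26.S4395Defs

set_option autoImplicit false

/-! Board `s4395pieces` (BND sub-board of helper27), piece BF2: abstract count `|F| ≤ |S|^2`, and `S = ⊤`
when `|F| = p^a` with `a` odd. -/

namespace Cfsg.Agent.S4395P

open Cfsg Cfsg.Agent.S4395P Cfsg.Agent.S4394P

/-- the additive subgroup `S + ζ S` -/
def BF2_aux_W {F : Type*} [Field F] (ζ : F) (S : AddSubgroup F) : AddSubgroup F where
  carrier := {x | ∃ u ∈ S, ∃ v ∈ S, x = u + ζ * v}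
  zero_mem' := ⟨0, S.zero_mem, 0, S.zero_mem, by rw [mul_zero, add_zero]⟩
  add_mem' := by
    rintro _ _ ⟨u, hu, v, hv, rfl⟩ ⟨u', hu', v', hv', rfl⟩
    exact ⟨u + u', S.add_mem hu hu', v + v', S.add_mem hv hv', by ring⟩
  neg_mem' := by
    rintro _ ⟨u, hu, v, hv, rfl⟩
    exact ⟨-u, S.neg_mem hu, -v, S.neg_mem hv, by ring⟩

theorem BF2_aux_W_top {F : Type*} [Field F] (ζ : F) (hζ0 : ζ ≠ 0)
    (hgen : ∀ W : AddSubgroup F, (∀ w ∈ W, ζ * w ∈ W) → W = ⊥ ∨ W = ⊤)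
    (S : AddSubgroup F) (hmul : ∀ s ∈ S, ∀ t ∈ S, s * t ∈ S)
    (hne : S ≠ ⊥) (hs1 : ζ + ζ⁻¹ ∈ S) : BF2_aux_W ζ S = ⊤ := by
  have hle : S ≤ BF2_aux_W ζ S := by
    intro u hu
    exact ⟨u, hu, 0, S.zero_mem, by rw [mul_zero, add_zero]⟩
  have hinvar : ∀ w ∈ BF2_aux_W ζ S, ζ * w ∈ BF2_aux_W ζ S := by
    rintro _ ⟨u, hu, v, hv, rfl⟩
    refine ⟨-v, S.neg_mem hv, u + (ζ + ζ⁻¹) * v, S.add_mem hu (hmul _ hs1 _ hv), ?_⟩
    have h1 : ζ * ζ⁻¹ = 1 := mul_inv_cancel₀ hζ0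
    calc ζ * (u + ζ * v) = ζ * u + ζ * ζ * v := by ring
      _ = -v + ζ * (u + (ζ + ζ⁻¹) * v) + (1 - ζ * ζ⁻¹) * v := by ring
      _ = -v + ζ * (u + (ζ + ζ⁻¹) * v) := by rw [h1, sub_self, zero_mul, add_zero]
  rcases hgen _ hinvar with h | h
  · exfalso
    apply hne
    rw [eq_bot_iff]
    exact h ▸ hle
  · exact h

/-- BF2 (M/L): abstract count: a nonzero additive subgroup `S` of `F = F_p(ζ)`, closed under
multiplication and inverses and containing `ζ + ζ⁻¹`, has `|F| ≤ |S|^2`, and `S = ⊤` if `|F| = p^a`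
with `a` odd. -/
theorem BF2 (p : ℕ) [Fact p.Prime] (a : ℕ)
    {F : Type*} [Field F] [Finite F] (hF : Nat.card F = p ^ a) (ζ : F) (hζ0 : ζ ≠ 0)
    (hgen : ∀ W : AddSubgroup F, (∀ w ∈ W, ζ * w ∈ W) → W = ⊥ ∨ W = ⊤)
    (S : AddSubgroup F) (hmul : ∀ s ∈ S, ∀ t ∈ S, s * t ∈ S) (hinv : ∀ s ∈ S, s ≠ 0 → s⁻¹ ∈ S)
    (hne : S ≠ ⊥) (hs1 : ζ + ζ⁻¹ ∈ S) :
    Nat.card F ≤ Nat.card S ^ 2 ∧ (a % 2 = 1 → S = ⊤) := by
  have hp : p.Prime := Fact.out
  have hWtop := BF2_aux_W_top ζ hζ0 hgen S hmul hne hs1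
  let φ : S × S → F := fun x => (x.1 : F) + ζ * (x.2 : F)
  have hsurj : Function.Surjective φ := by
    intro x
    have hx : x ∈ BF2_aux_W ζ S := by rw [hWtop]; exact AddSubgroup.mem_top x
    obtain ⟨u, hu, v, hv, rfl⟩ := hx
    exact ⟨(⟨u, hu⟩, ⟨v, hv⟩), rfl⟩
  have hcardprod : Nat.card (S × S) = Nat.card S ^ 2 := by
    rw [Nat.card_prod, sq]
  refine ⟨?_, ?_⟩
  · rw [← hcardprod]
    exact Nat.card_le_card_of_surjective φ hsurj
  · intro hodd
    by_cases hζS : ζ ∈ S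
    · rcases hgen S (fun w hw => hmul ζ hζS w hw) with h | h
      · exact absurd h hne
      · exact h
    · exfalso
      have hinj : Function.Injective φ := by
        rintro ⟨⟨u, hu⟩, ⟨v, hv⟩⟩ ⟨⟨u', hu'⟩, ⟨v', hv'⟩⟩ hxy
        have hxy' : u + ζ * v = u' + ζ * v' := hxy
        by_cases hvv : v = v'
        · subst hvv
          have : u = u' := add_right_cancel hxy'
          subst this
          rfl
        · exfalso
          apply hζS
          have hd : v - v' ≠ 0 := sub_ne_zero.2 hvv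
          have hz : ζ = (u' - u) * (v - v')⁻¹ := by
            rw [eq_mul_inv_iff_mul_eq₀ hd]
            linear_combination hxy'
          rw [hz]
          exact hmul _ (S.sub_mem hu' hu) _ (hinv _ (S.sub_mem hv hv') hd)
      have hcard : Nat.card F = Nat.card S ^ 2 := by
        rw [← hcardprod]
        exact (Nat.card_eq_of_bijective φ ⟨hinj, hsurj⟩).symm
      have hdvd : Nat.card S ∣ p ^ a := by
        rw [← hF]
        exact AddSubgroup.card_addSubgroup_dvd_card S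
      obtain ⟨m, _, hm⟩ := (Nat.dvd_prime_pow hp).1 hdvd
      rw [hF, hm, ← pow_mul] at hcard
      have := Nat.pow_right_injective hp.two_le hcard
      omega

end Cfsg.Agent.S4395P
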