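import Mathlib
import Cfsg.Agent.Helper26.S4395Defs
import Cfsg.Agent.Helper26.S4395HeisDefs

set_option autoImplicit false

/-! Board `s4395pieces`, piece EXev1: `σ = x ↦ x^(p^b)` is an involution of the field of order `p^(2b)`
and `σ ζ * ζ = 1` for `ζ` of order `q` when `ord_q(p) = 2b`. -/

namespace Cfsg.Agent.S4395P

open Cfsg

/-- `p^b = -1` in `ZMod q` when the order of `p` is `2b`. -/
theorem EXev1_aux_dvd (p q : ℕ) [Fact p.Prime] [Fact q.Prime] (hpq : p ≠ q) (b : ℕ)
    (hb : orderOf (p : ZMod q) = 2 * b) : q ∣ p ^ b + 1 := by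
  have hp : p.Prime := Fact.out
  have hq : q.Prime := Fact.out
  have hp0 : (p : ZMod q) ≠ 0 := by
    intro h
    have hdvd : q ∣ p := (ZMod.natCast_eq_zero_iff p q).1 h
    exact hpq ((Nat.prime_dvd_prime_iff_eq hq hp).1 hdvd).symm
  have hfin : IsOfFinOrder (p : ZMod q) := by
    rw [isOfFinOrder_iff_pow_eq_one]
    exact ⟨q - 1, Nat.sub_pos_of_lt hq.one_lt, ZMod.pow_card_sub_one_eq_one hp0⟩
  have hpos : 0 < orderOf (p : ZMod q) := hfin.orderOf_pos
  have hb1 : 1 ≤ b := by
    rw [hb] at hpos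
    omega
  set u : ZMod q := (p : ZMod q) ^ b with hu
  have hu2 : u * u = 1 := by
    rw [hu, ← pow_add, ← two_mul, ← hb, pow_orderOf_eq_one]
  have hu1 : u ≠ 1 := by
    rw [hu]
    apply pow_ne_one_of_lt_orderOf (by omega)
    rw [hb]; omega
  have hum : u = -1 := by
    rcases mul_self_eq_one_iff.1 hu2 with h | h
    · exact absurd h hu1
    · exact h
  rw [← ZMod.natCast_eq_zero_iff]
  push_cast
  rw [← hu, hum]
  ring

/-- EXev1 (M): the setting: `σ = x ↦ x^(p^b)` on the field of order `p^(2b)` is an involution and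
`σ ζ * ζ = 1` for `ζ` of order `q` (since `p^b ≡ -1 mod q`). -/
theorem EXev1 (p q : ℕ) [Fact p.Prime] [Fact q.Prime] (hpq : p ≠ q) (b : ℕ)
    (hb : orderOf (p : ZMod q) = 2 * b)
    {F : Type*} [Field F] [Finite F] [CharP F p] (hF : Nat.card F = p ^ (2 * b)) (ζ : F) (hζ : orderOf ζ = q) :
    (∀ x : F, iterateFrobenius F p b (iterateFrobenius F p b x) = x) ∧
    iterateFrobenius F p b ζ * ζ = 1 := by
  constructor
  · intro x
    have : Fintype F := Fintype.ofFinite F
    rw [iterateFrobenius_def, iterateFrobenius_def, ← pow_mul, ← pow_add, ← two_mul, ← hF,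
      Nat.card_eq_fintype_card]
    exact FiniteField.pow_card x
  · rw [iterateFrobenius_def, ← pow_succ]
    apply orderOf_dvd_iff_pow_eq_one.1
    rw [hζ]
    exact EXev1_aux_dvd p q hpq b hb

end Cfsg.Agent.S4395P
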