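import Mathlib
import Cfsg.Agent.Helper26.S4395Defs

set_option autoImplicit false

/-! Board `s4395pieces`, piece MNPIso: `MNP` is invariant under isomorphism (no finiteness needed). -/

namespace Cfsg.Agent.S4395P

open Cfsg Pointwise

universe u

/-- `HasNormalPComplement` is invariant under isomorphism (no finiteness, no primality). -/
theorem MNPIso_aux_npc {p : ℕ} {A B : Type*} [Group A] [Group B] (e : A ≃* B)
    (h : Cfsg.HasNormalPComplement p A) : Cfsg.HasNormalPComplement p B := by
  obtain ⟨P, N, hN, hc⟩ := h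
  have hinj : Function.Injective e.symm.toMonoidHom := e.symm.injective
  have hrange : (P : Subgroup A) ≤ e.symm.toMonoidHom.range := by
    rw [MonoidHom.range_eq_top.2 e.symm.surjective]
    exact le_top
  refine ⟨P.comapOfInjective e.symm.toMonoidHom hinj hrange, N.comap e.symm.toMonoidHom,
    hN.comap _, ?_⟩
  rw [Sylow.coe_comapOfInjective]
  apply Subgroup.isComplement'_of_disjoint_and_mul_eq_univ
  · rw [disjoint_iff, ← Subgroup.comap_inf, hc.disjoint.eq_bot]
    ext x
    simp only [Subgroup.mem_comap, Subgroup.mem_bot]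
    constructor
    · intro hx
      have : e.symm x = e.symm 1 := by rw [map_one]; exact hx
      exact e.symm.injective this
    · intro hx
      rw [hx]
      exact map_one _
  · rw [Set.eq_univ_iff_forall]
    intro g
    have hmul := (Subgroup.isComplement'_def.1 hc).mul_eq
    have hg : e.symm g ∈ ((N : Set A) * ((P : Subgroup A) : Set A)) := by
      rw [hmul]; exact Set.mem_univ _
    obtain ⟨n, hn, q, hq, hnq⟩ := Set.mem_mul.1 hg
    refine Set.mem_mul.2 ⟨e n, ?_, e q, ?_, ?_⟩
    · show e.symm (e n) ∈ N
      rw [MulEquiv.symm_apply_apply]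
      exact hn
    · show e.symm (e q) ∈ (P : Subgroup A)
      rw [MulEquiv.symm_apply_apply]
      exact hq
    · rw [← map_mul, hnq, MulEquiv.apply_symm_apply]

/-- MNPIso (S/M): `MNP` is invariant under isomorphism. -/
theorem MNPIso {p : ℕ} {X X' : Type*} [Group X] [Group X'] (e : X ≃* X') (h : MNP p X) : MNP p X' := by
  obtain ⟨h1, h2⟩ := h
  refine ⟨fun h' => h1 (MNPIso_aux_npc e.symm h'), fun K' hK' => ?_⟩
  have hK : K'.map e.symm.toMonoidHom ≠ ⊤ := by
    intro htop
    apply hK'
    rw [eq_top_iff]
    intro x _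
    have hx : e.symm x ∈ K'.map e.symm.toMonoidHom := by rw [htop]; exact Subgroup.mem_top _
    obtain ⟨y, hy, hyx⟩ := Subgroup.mem_map.1 hx
    have : y = x := e.symm.injective hyx
    rwa [← this]
  have h3 := h2 _ hK
  exact MNPIso_aux_npc (e.symm.subgroupMap K').symm h3

end Cfsg.Agent.S4395P
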