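import Mathlib
import Cfsg.Agent.Helper9.S4415Defs

/-! Board `s4415pieces`, row D1D: a group acting faithfully on an invariant subspace `M` with `|M| ≤ 81`
has order dividing `|GL₄(3)| = 2⁹·3⁶·5·13`. -/

set_option autoImplicit false
set_option linter.unusedVariables false
set_option linter.unusedSectionVars false

namespace Cfsg.Agent.S4415P

open Subgroup

variable {S : Type*} [Group S] [Finite S] {E : Type*} [AddCommGroup E] [Module (ZMod 3) E] [Finite E]

/-- `|GL_m(3)|` divides `|GL₄(3)|` for `m ≤ 4`. -/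
theorem D1D_aux_gl (m : ℕ) (hm : m ≤ 4) :
    Nat.card (GL (Fin m) (ZMod 3)) ∣ 2 ^ 9 * 3 ^ 6 * 5 * 13 := by
  rw [Matrix.card_GL_field]
  have h3 : Fintype.card (ZMod 3) = 3 := ZMod.card 3
  rw [h3]
  interval_cases m
  · simp
  · simp
  · simp [Fin.prod_univ_succ]
  · simp [Fin.prod_univ_succ]
  · simp [Fin.prod_univ_succ]

/-- the restriction homomorphism `D → End(M)`. -/
noncomputable def D1D_aux_hom (ρ : Representation (ZMod 3) S E) (D : Subgroup S) (M : Submodule (ZMod 3) E)
    (hM : Inv ρ D M) : ↥D →* Module.End (ZMod 3) ↥M where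
  toFun d := (ρ (d : S)).restrict (hM d d.2)
  map_one' := by
    apply LinearMap.ext
    intro v
    apply Subtype.ext
    simp [LinearMap.restrict_apply]
  map_mul' a b := by
    apply LinearMap.ext
    intro v
    apply Subtype.ext
    simp [LinearMap.restrict_apply, map_mul]

/-- D1D -/
theorem card_dvd_gl4 (ρ : Representation (ZMod 3) S E) (D : Subgroup S) (M : Submodule (ZMod 3) E) (hM : Inv ρ D M)
    (hfaith : ∀ d ∈ D, (∀ v ∈ M, ρ d v = v) → d = 1) (h81 : Nat.card ↥M ≤ 81) :
    Nat.card ↥D ∣ 2 ^ 9 * 3 ^ 6 * 5 * 13 := by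
  classical
  set m := Module.finrank (ZMod 3) ↥M with hm
  have hcardM : Nat.card ↥M = 3 ^ m := by
    have := Module.natCard_eq_pow_finrank (K := ZMod 3) (V := ↥M)
    rw [this, Nat.card_eq_fintype_card, ZMod.card]
  have hm4 : m ≤ 4 := by
    by_contra hcon
    push Not at hcon
    have : 3 ^ 5 ≤ 3 ^ m := Nat.pow_le_pow_right (by norm_num) hcon
    rw [← hcardM] at this
    omega
  -- the group hom into the units
  let φ : ↥D →* (Module.End (ZMod 3) ↥M)ˣ := (D1D_aux_hom ρ D M hM).toHomUnits
  have hinj : Function.Injective φ := by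
    rw [injective_iff_map_eq_one]
    intro d hd
    have h1 : D1D_aux_hom ρ D M hM d = 1 := by
      have := congrArg Units.val hd
      simpa [φ] using this
    have : (d : S) = 1 := by
      refine hfaith d d.2 ?_
      intro v hv
      have := congrArg (fun f => ((f ⟨v, hv⟩ : ↥M) : E)) h1
      simpa [D1D_aux_hom, LinearMap.restrict_apply] using this
    exact Subtype.ext this
  -- units of End(M) ≃ GL_m(3)
  let bas := Module.finBasis (ZMod 3) ↥M
  let e : (Module.End (ZMod 3) ↥M)ˣ ≃* GL (Fin m) (ZMod 3) :=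
    Units.mapEquiv (LinearMap.toMatrixAlgEquiv bas).toMulEquiv
  have hcard : Nat.card (Module.End (ZMod 3) ↥M)ˣ = Nat.card (GL (Fin m) (ZMod 3)) :=
    Nat.card_congr e.toEquiv
  have h1 : Nat.card ↥D ∣ Nat.card (Module.End (ZMod 3) ↥M)ˣ := by
    have := Subgroup.card_dvd_of_injective φ hinj
    exact this
  rw [hcard] at h1
  exact h1.trans (D1D_aux_gl m hm4)

end Cfsg.Agent.S4415P
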