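import Mathlib
import Cfsg.Agent.Helper20.S4705BLK

/-!
# S4503 (Brauer: `p ∥ |G|`, no normal subgroup of order `p`, faithful `χ` ⇒ `p ≤ 2 χ(1) + 1`):
shared definitions of the piece project

`trN P ψ`        : `c ↦ |C|⁻¹ Σ_{n ∈ N_G(P)} ψ (n c n⁻¹)`, the sum of the `N/C`-conjugates of a function
                   `ψ` on `C = C_G(P)`.
`SmallNormal p H`: the statement proved by induction on the group order: every Sylow `p`-subgroup of
                   order `p` of a group `H` with a faithful character of degree `< (p - 1) / 2` is normal.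
-/

set_option autoImplicit false

namespace Cfsg.Agent.S4503P

open Cfsg Cfsg.Agent.Helper8.D1

universe u

/-- `c ↦ |C|⁻¹ Σ_{n ∈ N_G(P)} ψ (n c n⁻¹)` on `C = C_G(P)` -/
noncomputable def trN {G : Type u} [Group G] (P : Subgroup G)
    (ψ : Subgroup.centralizer (P : Set G) → ℂ) : Subgroup.centralizer (P : Set G) → ℂ := fun c =>
  (Nat.card (Subgroup.centralizer (P : Set G)) : ℂ)⁻¹ *
    ∑ᶠ n : Subgroup.normalizer (P : Set G), ψ (kap P n.1 n.2 c)

/-- the induction statement: Sylow `p`-subgroups of order `p` are normal in groups with a faithful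
character of degree `< (p - 1) / 2` -/
def SmallNormal (p : ℕ) (H : Type u) [Group H] [Finite H] : Prop :=
  ∀ Q : Sylow p H, Nat.card Q = p → ∀ χ : H → ℂ, IsCharacter H χ →
    (∀ g : H, χ g = χ 1 → g = 1) → 2 * charDegree χ + 1 < p → (Q : Subgroup H).Normal

end Cfsg.Agent.S4503P
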