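import Mathlib
import Cfsg.Prelude.Def_Characters
import Cfsg.Prelude.Def_Blocks
import Cfsg.Agent.Helper24.Abelian
import Cfsg.Agent.Helper24.Linear
import Cfsg.Agent.Helper1.W2pDefs
import Cfsg.Agent.Lead.S4705Defs
import Cfsg.Agent.Helper24.Deg2Klein
import Cfsg.Agent.Helper24.RealChar
import Cfsg.Agent.Helper15.O7920n

set_option autoImplicit false

namespace Cfsg.Agent.Helper21.S4705IDB

open Cfsg Cfsg.Agent.Helper24
open scoped ComplexConjugate

universe u

variable {G : Type u} [Group G] [Finite G]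

/-- central elements act by scalars: `χ(zg) χ(1) = χ(z) χ(g)`. -/
theorem cmul (χ : IrrCharacter G) (z : G) (hz : z ∈ Subgroup.center G) (g : G) :
    (χ : G → ℂ) (z * g) * (χ : G → ℂ) 1 = (χ : G → ℂ) z * (χ : G → ℂ) g := by
  obtain ⟨n, ρ, hirr, hχ⟩ := χ.2
  haveI := hirr
  obtain ⟨c, hc⟩ := Cfsg.Agent.Helper24.Deg2.scalar_of_mem_center ρ hz
  rw [← hχ]
  simp only [Representation.character, map_mul, hc, map_one, map_smul, smul_mul_assoc, one_mul,
    smul_eq_mul]
  ring

theorem deg_ne_zero (χ : IrrCharacter G) : (χ : G → ℂ) 1 ≠ 0 := by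
  rw [irrDeg_spec]
  exact_mod_cast (irrDeg_pos χ).ne'

/-- the central character -/
noncomputable def cw (χ : IrrCharacter G) (z : G) : ℂ := (χ : G → ℂ) z / (χ : G → ℂ) 1

theorem cw_one (χ : IrrCharacter G) : cw χ 1 = 1 := div_self (deg_ne_zero χ)

theorem cw_mul (χ : IrrCharacter G) (z : G) (hz : z ∈ Subgroup.center G) (g : G) :
    cw χ (z * g) = cw χ z * cw χ g := by
  unfold cw
  have h := cmul χ z hz g
  have h1 := deg_ne_zero χ
  field_simp
  linear_combination h

theorem cw_conj (χ : IrrCharacter G) (z : G) : conj (cw χ z) = cw χ z⁻¹ := by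
  unfold cw
  rw [map_div₀, ← irr_inv, irrDeg_spec, Complex.conj_natCast]

theorem cw_mul_conj (χ : IrrCharacter G) (z : G) (hz : z ∈ Subgroup.center G) :
    cw χ z * conj (cw χ z) = 1 := by
  rw [cw_conj, ← cw_mul χ z hz, mul_inv_cancel, cw_one]

theorem cw_eq_iff (ζ χ : IrrCharacter G) (z : G) :
    cw χ z = cw ζ z ↔ (χ : G → ℂ) z * (ζ : G → ℂ) 1 = (ζ : G → ℂ) z * (χ : G → ℂ) 1 := by
  unfold cw
  rw [div_eq_div_iff (deg_ne_zero χ) (deg_ne_zero ζ)]

/-- orthogonality of central characters, equal case -/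
theorem sum_cw_same [Fintype (Subgroup.center G)] (ζ χ : IrrCharacter G)
    (h : Cfsg.Agent.S4705P.SameCentral ζ χ) :
    ∑ z : Subgroup.center G, cw ζ (z : G) * conj (cw χ (z : G)) =
      (Nat.card (Subgroup.center G) : ℂ) := by
  have : ∀ z : Subgroup.center G, cw ζ (z : G) * conj (cw χ (z : G)) = 1 := by
    intro z
    have h1 : cw χ (z : G) = cw ζ (z : G) := (cw_eq_iff ζ χ z).mpr (h z z.2)
    rw [h1, cw_mul_conj ζ z z.2]
  rw [Finset.sum_congr rfl (fun z _ => this z)]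
  simp [Nat.card_eq_fintype_card]

/-- orthogonality of central characters, different case -/
theorem sum_cw_diff [Fintype (Subgroup.center G)] (ζ χ : IrrCharacter G)
    (h : ¬ Cfsg.Agent.S4705P.SameCentral ζ χ) :
    ∑ z : Subgroup.center G, cw ζ (z : G) * conj (cw χ (z : G)) = 0 := by
  unfold Cfsg.Agent.S4705P.SameCentral at h
  push Not at h
  obtain ⟨z₀, hz₀, hne⟩ := h
  have hne' : cw χ z₀ ≠ cw ζ z₀ := fun hh => hne ((cw_eq_iff ζ χ z₀).mp hh)
  obtain ⟨u, hu⟩ : ∃ u : G → ℂ, u = fun z => cw ζ z * conj (cw χ z) := ⟨_, rfl⟩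
  have humul : ∀ z : G, u (z₀ * z) = u z₀ * u z := by
    intro z
    simp only [hu]
    rw [cw_mul ζ z₀ hz₀, cw_mul χ z₀ hz₀, map_mul]
    ring
  have hshift : ∑ z : Subgroup.center G, u ((z : G))
      = ∑ z : Subgroup.center G, u (z₀ * (z : G)) := by
    symm
    exact Fintype.sum_equiv (Equiv.mulLeft (⟨z₀, hz₀⟩ : Subgroup.center G)) _ _ (fun z => rfl)
  have hS : ∑ z : Subgroup.center G, u ((z : G))
      = u z₀ * ∑ z : Subgroup.center G, u ((z : G)) := by
    conv_lhs => rw [hshift]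
    rw [Finset.mul_sum]
    exact Finset.sum_congr rfl (fun z _ => humul z)
  have hu1 : u z₀ ≠ 1 := by
    intro h1
    apply hne'
    have h2 := cw_mul_conj χ z₀ hz₀
    simp only [hu] at h1
    have : cw ζ z₀ * conj (cw χ z₀) * cw χ z₀ = cw χ z₀ := by rw [h1, one_mul]
    rw [mul_assoc, mul_comm (conj _), h2, mul_one] at this
    exact this.symm
  have h0 : (1 - u z₀) * ∑ z : Subgroup.center G, u ((z : G)) = 0 := by
    rw [sub_mul, one_mul, ← hS, sub_self]
  have hfin : ∑ z : Subgroup.center G, u ((z : G)) = 0 := by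
    rcases mul_eq_zero.mp h0 with h0 | h0
    · exact absurd (sub_eq_zero.mp h0).symm hu1
    · exact h0
  rw [hu] at hfin
  exact hfin

end Cfsg.Agent.Helper21.S4705IDB

namespace Cfsg.Agent.Helper21.S4705IDB

open Cfsg Cfsg.Agent.Helper24
open scoped ComplexConjugate

universe u

variable {G : Type u} [Group G] [Finite G]

omit [Finite G] in
theorem centralizer_inv (t : G) :
    Subgroup.centralizer ({t⁻¹} : Set G) = Subgroup.centralizer ({t} : Set G) := by
  ext g
  simp only [Subgroup.mem_centralizer_iff, Set.mem_singleton_iff, forall_eq]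
  constructor
  · intro h
    have : Commute t⁻¹ g := h
    exact (Commute.inv_left_iff.mp this)
  · intro h
    have : Commute t g := h
    exact (Commute.inv_left_iff.mpr this)

/-- value at `x * z` for central `z` -/
theorem apply_mul_central (χ : IrrCharacter G) (z : G) (hz : z ∈ Subgroup.center G) (x : G) :
    (χ : G → ℂ) (x * z) = cw χ z * (χ : G → ℂ) x := by
  have h := cmul χ z hz x
  have h1 := deg_ne_zero χ
  rw [Subgroup.mem_center_iff.mp hz x]
  unfold cw
  field_simp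
  linear_combination h

end Cfsg.Agent.Helper21.S4705IDB

namespace Cfsg.Agent.S4705P

open Cfsg Cfsg.Agent.Helper24 Cfsg.Agent.Helper1.W2p
open scoped ComplexConjugate

universe u

variable {G : Type u} [Group G] [Finite G]

open Cfsg.Agent.Helper21.S4705IDB

/-! ### IDB -/
theorem twisted_identity (p : ℕ) [Fact p.Prime] (P : Subgroup G) (ζ : IrrCharacter G)
    (D : TwData p P ζ) (t x : G) (hx : x ∈ P) (hx1 : x ≠ 1) (htp : ¬ p ∣ orderOf t)
    (hcount1 : Nat.card {s : G // IsConj t s ∧ IsConj t⁻¹ (s⁻¹ * x)} = p)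
    (hcount0 : ∀ z ∈ Subgroup.center G, z ≠ 1 →
      Nat.card {s : G // IsConj t s ∧ IsConj t⁻¹ (s⁻¹ * (x * z))} = 0) :
    (p : ℂ) * (Nat.card (Subgroup.centralizer ({t} : Set G)) : ℂ) ^ 2 =
      (Nat.card G : ℂ) * (Nat.card (Subgroup.center G) : ℂ) *
        ((D.χb : G → ℂ) t * conj ((D.χb : G → ℂ) t) / (D.χb : G → ℂ) 1
          - (D.χa : G → ℂ) t * conj ((D.χa : G → ℂ) t) / (D.χa : G → ℂ) 1
          + (ζ : G → ℂ) t * conj ((ζ : G → ℂ) t) / (ζ : G → ℂ) 1) := by
  classical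
  haveI : Fintype G := Fintype.ofFinite G
  haveI : Fintype (IrrCharacter G) := Fintype.ofFinite _
  haveI : Fintype (Subgroup.center G) := Fintype.ofFinite _
  obtain ⟨idx, hidx⟩ : ∃ i : ℕ, i = (Subgroup.centralizer ({t} : Set G)).index := ⟨_, rfl⟩
  obtain ⟨cc, hcc⟩ : ∃ i : ℕ, i = Nat.card (Subgroup.centralizer ({t} : Set G)) := ⟨_, rfl⟩
  obtain ⟨nZ, hnZ⟩ : ∃ i : ℕ, i = Nat.card (Subgroup.center G) := ⟨_, rfl⟩
  have hidxc : (idx : ℂ) * (cc : ℂ) = (Nat.card G : ℂ) := by
    have := Subgroup.index_mul_card (Subgroup.centralizer ({t} : Set G))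
    rw [← hidx, ← hcc] at this
    exact_mod_cast this
  have hGne : (Nat.card G : ℂ) ≠ 0 := by
    exact_mod_cast (Nat.card_pos (α := G)).ne'
  -- the coefficient function
  obtain ⟨c, hc⟩ : ∃ c : IrrCharacter G → ℂ, c = fun ψ : IrrCharacter G =>
      (ψ : G → ℂ) t * conj ((ψ : G → ℂ) t) * conj ((ψ : G → ℂ) x) / (ψ : G → ℂ) 1 := ⟨_, rfl⟩
  -- the class multiplication formula for every central z
  have key : ∀ z : Subgroup.center G,
      (Nat.card {s : G // IsConj t s ∧ IsConj t⁻¹ (s⁻¹ * (x * (z : G)))} : ℂ) * (Nat.card G : ℂ) =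
        (idx : ℂ) * (idx : ℂ) * ∑ ψ : IrrCharacter G, c ψ * conj (cw ψ (z : G)) := by
    intro z
    have h := Cfsg.Agent.Helper15.O7920.card_factorizations_gen t t⁻¹ (x * (z : G))
    rw [centralizer_inv, ← hidx] at h
    rw [h]
    congr 1
    refine Finset.sum_congr rfl ?_
    intro ψ _
    rw [hc]
    simp only
    rw [apply_mul_central ψ z z.2 x, irr_inv, map_mul]
    ring
  -- sum over z weighted by the central character of ζ
  have hL : ∑ z : Subgroup.center G, cw ζ (z : G) *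
      ((Nat.card {s : G // IsConj t s ∧ IsConj t⁻¹ (s⁻¹ * (x * (z : G)))} : ℂ) * (Nat.card G : ℂ))
      = (p : ℂ) * (Nat.card G : ℂ) := by
    rw [Finset.sum_eq_single (1 : Subgroup.center G)]
    · simp only [Subgroup.coe_one, mul_one, cw_one, one_mul]
      rw [hcount1]
    · intro z _ hz
      have hz' : (z : G) ≠ 1 := fun h => hz (Subtype.ext h)
      rw [hcount0 z z.2 hz']
      simp
    · intro h
      exact absurd (Finset.mem_univ _) h
  have hR : ∑ z : Subgroup.center G, cw ζ (z : G) *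
      ((idx : ℂ) * (idx : ℂ) * ∑ ψ : IrrCharacter G, c ψ * conj (cw ψ (z : G)))
      = (idx : ℂ) * (idx : ℂ) * ∑ ψ : IrrCharacter G, c ψ *
          ∑ z : Subgroup.center G, cw ζ (z : G) * conj (cw ψ (z : G)) := by
    simp only [Finset.mul_sum]
    rw [Finset.sum_comm]
    refine Finset.sum_congr rfl ?_
    intro ψ _
    refine Finset.sum_congr rfl ?_
    intro z _
    ring
  have hLR : (p : ℂ) * (Nat.card G : ℂ) = (idx : ℂ) * (idx : ℂ) * ∑ ψ : IrrCharacter G, c ψ *
          ∑ z : Subgroup.center G, cw ζ (z : G) * conj (cw ψ (z : G)) := by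
    rw [← hL, ← hR]
    refine Finset.sum_congr rfl ?_
    intro z _
    rw [key z]
  -- evaluate the sum over ψ
  have hp1 : ¬ p ∣ orderOf (1 : G) := by
    rw [orderOf_one]
    exact (Fact.out : p.Prime).one_lt.ne' ∘ Nat.dvd_one.mp
  have hterm : ∀ ψ : IrrCharacter G, c ψ *
      ∑ z : Subgroup.center G, cw ζ (z : G) * conj (cw ψ (z : G)) =
      (nZ : ℂ) * ((if ψ = D.χb then (D.χb : G → ℂ) t * conj ((D.χb : G → ℂ) t) / (D.χb : G → ℂ) 1 else 0)
        + (if ψ = D.χa then -((D.χa : G → ℂ) t * conj ((D.χa : G → ℂ) t) / (D.χa : G → ℂ) 1) else 0)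
        + (if ψ ∈ D.Y then (ζ : G → ℂ) t * conj ((ζ : G → ℂ) t) / (ζ : G → ℂ) 1
            * conj ((ψ : G → ℂ) x) else 0)) := by
    intro ψ
    by_cases hb : ψ = D.χb
    · rw [if_pos hb, if_neg (by rw [hb]; exact D.hab.symm), if_neg (by rw [hb]; exact D.hb_notin),
        hb, sum_cw_same ζ D.χb D.over_b, ← hnZ, hc]
      simp only
      rw [D.val_b x hx hx1]
      simp
      ring
    · by_cases ha : ψ = D.χa
      · rw [if_neg hb, if_pos ha, if_neg (by rw [ha]; exact D.ha_notin),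
          ha, sum_cw_same ζ D.χa D.over_a, ← hnZ, hc]
        simp only
        rw [D.val_a x hx hx1]
        simp
        ring
      · by_cases hY : ψ ∈ D.Y
        · rw [if_neg hb, if_neg ha, if_pos hY, sum_cw_same ζ ψ (D.over_Y ψ hY), ← hnZ, hc]
          simp only
          rw [D.reg_Y ψ hY t htp, D.reg_Y ψ hY 1 hp1]
          ring
        · rw [if_neg hb, if_neg ha, if_neg hY]
          by_cases hS : SameCentral ζ ψ
          · rw [hc]
            simp only
            rw [D.van ψ hS ha hb hY x hx hx1]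
            simp
          · rw [sum_cw_diff ζ ψ hS]
            simp
  have hsumY : ∑ ψ : IrrCharacter G, (if ψ ∈ D.Y then (ζ : G → ℂ) t * conj ((ζ : G → ℂ) t) / (ζ : G → ℂ) 1
            * conj ((ψ : G → ℂ) x) else 0) = (ζ : G → ℂ) t * conj ((ζ : G → ℂ) t) / (ζ : G → ℂ) 1 := by
    have h1 := D.sum_Y x hx hx1
    rw [finsum_mem_eq_finite_toFinset_sum _ (Set.toFinite D.Y)] at h1
    rw [← Finset.sum_filter, ← Finset.mul_sum, ← map_sum]
    have h2 : Finset.filter (fun ψ => ψ ∈ D.Y) Finset.univ = (Set.toFinite D.Y).toFinset := by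
      ext ψ
      simp
    rw [h2, h1, map_one, mul_one]
  have hsum : ∑ ψ : IrrCharacter G, c ψ *
      ∑ z : Subgroup.center G, cw ζ (z : G) * conj (cw ψ (z : G)) =
      (nZ : ℂ) * ((D.χb : G → ℂ) t * conj ((D.χb : G → ℂ) t) / (D.χb : G → ℂ) 1
          - (D.χa : G → ℂ) t * conj ((D.χa : G → ℂ) t) / (D.χa : G → ℂ) 1
          + (ζ : G → ℂ) t * conj ((ζ : G → ℂ) t) / (ζ : G → ℂ) 1) := by
    rw [Finset.sum_congr rfl (fun ψ _ => hterm ψ), ← Finset.mul_sum, Finset.sum_add_distrib,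
      Finset.sum_add_distrib, Finset.sum_ite_eq' Finset.univ D.χb, Finset.sum_ite_eq' Finset.univ D.χa,
      hsumY]
    simp only [Finset.mem_univ, if_true]
    ring
  rw [hsum] at hLR
  rw [← hcc, ← hnZ]
  -- p |G| = idx² nZ S  and idx * cc = |G|
  have h3 : (p : ℂ) * (Nat.card G : ℂ) * (cc : ℂ) ^ 2 = (Nat.card G : ℂ) ^ 2 * ((nZ : ℂ) *
      ((D.χb : G → ℂ) t * conj ((D.χb : G → ℂ) t) / (D.χb : G → ℂ) 1
          - (D.χa : G → ℂ) t * conj ((D.χa : G → ℂ) t) / (D.χa : G → ℂ) 1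
          + (ζ : G → ℂ) t * conj ((ζ : G → ℂ) t) / (ζ : G → ℂ) 1)) := by
    rw [hLR, ← hidxc]
    ring
  apply mul_left_cancel₀ hGne
  rw [← mul_assoc, mul_comm (Nat.card G : ℂ) (p : ℂ), h3]
  ring

end Cfsg.Agent.S4705P
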