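import Mathlib
import Cfsg.Prelude.Def_RootSubgroups
import Cfsg.Agent.Helper25.RootInvA
import Cfsg.Agent.Helper22.S5047Defs

set_option autoImplicit false

/-!
# S5047, piece ITER (board s5047pieces)

Iterating `θ` from `b` inside `D ∩ C(a) ∩ U` and using periodicity of an injective self-map of a
finite set gives `u ∈ D` with `(a u)² = b`.
-/

namespace Cfsg.Agent.S5047P

variable {G : Type*} [Group G]

/-- an involution `a` inverting `τ` and commuting with `v` conjugates `τ⁻¹ v τ` to `τ v τ⁻¹`. -/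
theorem ITER_aux_conj {τ a v : G} (ha : a * a = 1) (haτ : a * τ * a = τ⁻¹) (hav : a * v = v * a) :
    a * (τ⁻¹ * v * τ) * a = τ * v * τ⁻¹ := by
  have ha2 : ∀ x : G, a * (a * x) = x := fun x => by rw [← mul_assoc, ha, one_mul]
  have e1 : a * τ⁻¹ * a = τ := by
    rw [← haτ]
    simp [mul_assoc, ha, ha2]
  have e2 : a * v * a = v := by rw [hav, mul_assoc, ha, mul_one]
  calc a * (τ⁻¹ * v * τ) * a = (a * τ⁻¹ * a) * (a * v * a) * (a * τ * a) := by
        simp [mul_assoc, ha2]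
    _ = τ * v * τ⁻¹ := by rw [e1, e2, haτ]

/-- if `a` is an involution inverting `σ` and commuting with `v`, then `(a (σ⁻¹ v σ))² = θ v`. -/
theorem ITER_aux_sq {σ a v : G} (ha : a * a = 1) (haσ : a * σ * a = σ⁻¹) (hav : a * v = v * a) :
    (a * (σ⁻¹ * v * σ)) ^ 2 = th σ v := by
  have h := ITER_aux_conj ha haσ hav
  calc (a * (σ⁻¹ * v * σ)) ^ 2 = (a * (σ⁻¹ * v * σ) * a) * (σ⁻¹ * v * σ) := by
        rw [pow_two]; simp only [mul_assoc]
    _ = th σ v := by rw [h]; rfl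

/-- the square of a conjugate of an involution is trivial. -/
theorem ITER_aux_conj_sq {g v : G} (hv : v * v = 1) : (g * v * g⁻¹) * (g * v * g⁻¹) = 1 := by
  calc (g * v * g⁻¹) * (g * v * g⁻¹) = g * (v * v) * g⁻¹ := by group
    _ = 1 := by rw [hv]; group

/-- ITER: iterating `θ` from `b` inside `D ∩ C(a) ∩ U` and using periodicity gives `u ∈ D` with `(a u)² = b`. -/
theorem ITER [Finite G] {D : Set G} (hD : Cfsg.IsRootInvolutionSet D) {σ a b : G}
    (ha : a ∈ D) (hb : b ∈ D) (hab : a * b = b * a) (haσ : a * σ * a = σ⁻¹)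
    (hU1 : ∀ u ∈ UU σ b, ∀ v ∈ UU σ b, u * v = v * u)
    (hU3 : ∀ u ∈ UU σ b, σ * u * σ⁻¹ ∈ UU σ b) (hU4 : ∀ u ∈ UU σ b, σ⁻¹ * u * σ ∈ UU σ b)
    (hinj : ∀ u ∈ UU σ b, ∀ v ∈ UU σ b, th σ u = th σ v → u = v) :
    ∃ u ∈ D, (a * u) ^ 2 = b := by
  classical
  have hsq : ∀ d ∈ D, d * d = 1 := by
    intro d hd
    have h := hD.orderOf_eq d hd
    have h2 := pow_orderOf_eq_one d
    rw [h, pow_two] at h2
    exact h2
  have haa : a * a = 1 := hsq a ha
  have ha2 : ∀ x : G, a * (a * x) = x := fun x => by rw [← mul_assoc, haa, one_mul]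
  have hb1 : b ≠ 1 := by
    intro h
    have h2 := hD.orderOf_eq b hb
    rw [h, orderOf_one] at h2
    norm_num at h2
  have hbU : b ∈ UU σ b := by
    have h0 : dd σ b 0 ∈ UU σ b := Subgroup.subset_closure ⟨0, rfl⟩
    simpa [dd] using h0
  have hthU : ∀ v ∈ UU σ b, th σ v ∈ UU σ b := fun v hv => mul_mem (hU3 v hv) (hU4 v hv)
  have haσ' : a * σ⁻¹ * a = σ⁻¹⁻¹ := by
    rw [inv_inv, ← haσ]
    simp [mul_assoc, haa, ha2]
  -- the invariant
  have hstep : ∀ v : G, (v ∈ UU σ b ∧ a * v = v * a ∧ (v ∈ D ∨ v = 1)) →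
      (th σ v ∈ UU σ b ∧ a * th σ v = th σ v * a ∧ (th σ v ∈ D ∨ th σ v = 1)) := by
    rintro v ⟨hvU, hav, hvD⟩
    have hX : σ * v * σ⁻¹ ∈ UU σ b := hU3 v hvU
    have hY : σ⁻¹ * v * σ ∈ UU σ b := hU4 v hvU
    have hXY : (σ * v * σ⁻¹) * (σ⁻¹ * v * σ) = (σ⁻¹ * v * σ) * (σ * v * σ⁻¹) := hU1 _ hX _ hY
    have c1 : a * (σ⁻¹ * v * σ) * a = σ * v * σ⁻¹ := ITER_aux_conj haa haσ hav
    have c2 : a * (σ * v * σ⁻¹) * a = σ⁻¹ * v * σ := by
      have := ITER_aux_conj (τ := σ⁻¹) haa haσ' hav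
      simpa [inv_inv] using this
    refine ⟨hthU v hvU, ?_, ?_⟩
    · -- a commutes with θ v
      have : a * th σ v = (a * (σ * v * σ⁻¹) * a) * (a * (σ⁻¹ * v * σ) * a) * a := by
        unfold th
        simp [mul_assoc, haa, ha2]
      rw [this, c1, c2, ← hXY]
      rfl
    · rcases hvD with hvD | hv1
      · have hvv : v * v = 1 := hsq v hvD
        have huD : σ⁻¹ * v * σ ∈ D := by
          have := hD.conj_mem v hvD σ⁻¹
          simpa [inv_inv] using this
        have hsqv : (a * (σ⁻¹ * v * σ)) ^ 2 = th σ v := ITER_aux_sq haa haσ hav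
        have hXX : (σ * v * σ⁻¹) * (σ * v * σ⁻¹) = 1 := ITER_aux_conj_sq hvv
        have hYY : (σ⁻¹ * v * σ) * (σ⁻¹ * v * σ) = 1 := by
          have := ITER_aux_conj_sq (g := σ⁻¹) hvv
          simpa [inv_inv] using this
        have hth2 : th σ v * th σ v = 1 := by
          unfold th
          calc (σ * v * σ⁻¹) * (σ⁻¹ * v * σ) * ((σ * v * σ⁻¹) * (σ⁻¹ * v * σ))
              = (σ * v * σ⁻¹) * ((σ⁻¹ * v * σ) * (σ * v * σ⁻¹)) * (σ⁻¹ * v * σ) := by
                simp only [mul_assoc]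
            _ = (σ * v * σ⁻¹) * ((σ * v * σ⁻¹) * (σ⁻¹ * v * σ)) * (σ⁻¹ * v * σ) := by rw [← hXY]
            _ = ((σ * v * σ⁻¹) * (σ * v * σ⁻¹)) * ((σ⁻¹ * v * σ) * (σ⁻¹ * v * σ)) := by
                simp only [mul_assoc]
            _ = 1 := by rw [hXX, hYY, one_mul]
        rcases hD.pair a ha _ huD with h | h | ⟨_, hmem⟩
        · right
          rw [← hsqv, pow_two]
          have huu := hsq _ huD
          calc a * (σ⁻¹ * v * σ) * (a * (σ⁻¹ * v * σ))
              = a * ((σ⁻¹ * v * σ) * a) * (σ⁻¹ * v * σ) := by simp only [mul_assoc]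
            _ = a * (a * (σ⁻¹ * v * σ)) * (σ⁻¹ * v * σ) := by rw [h]
            _ = (a * a) * ((σ⁻¹ * v * σ) * (σ⁻¹ * v * σ)) := by simp only [mul_assoc]
            _ = 1 := by rw [haa, huu, one_mul]
        · right
          have h4 : (a * (σ⁻¹ * v * σ)) ^ 4 = 1 := by
            rw [show 4 = 2 * 2 by norm_num, pow_mul, hsqv, pow_two, hth2]
          have hdvd : orderOf (a * (σ⁻¹ * v * σ)) ∣ 4 := orderOf_dvd_of_pow_eq_one h4
          have hle : orderOf (a * (σ⁻¹ * v * σ)) ≤ 4 := Nat.le_of_dvd (by norm_num) hdvd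
          have hone : orderOf (a * (σ⁻¹ * v * σ)) = 1 := by
            generalize orderOf (a * (σ⁻¹ * v * σ)) = n at h hdvd hle
            interval_cases n
            · simp at hdvd
            · rfl
            · exact absurd h (by decide)
            · exact absurd hdvd (by decide)
            · exact absurd h (by decide)
          have h1 : a * (σ⁻¹ * v * σ) = 1 := orderOf_eq_one_iff.mp hone
          rw [← hsqv, h1, one_pow]
        · left
          rw [← hsqv]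
          exact hmem
      · right
        rw [hv1]
        simp [th]
  -- θ as a permutation of the finite set U
  let f : ↥(UU σ b) → ↥(UU σ b) := fun v => ⟨th σ (v : G), hthU v v.2⟩
  have finj : Function.Injective f := by
    intro x y h
    exact Subtype.ext (hinj x x.2 y y.2 (congrArg Subtype.val h))
  let e : Equiv.Perm ↥(UU σ b) := Equiv.ofBijective f (Finite.injective_iff_bijective.mp finj)
  have he : ∀ x : ↥(UU σ b), ((e x : ↥(UU σ b)) : G) = th σ (x : G) := fun x => rfl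
  let b0 : ↥(UU σ b) := ⟨b, hbU⟩
  have hpow : ∀ k : ℕ, ((((e ^ k) b0 : ↥(UU σ b)) : G) ∈ UU σ b ∧
      a * (((e ^ k) b0 : ↥(UU σ b)) : G) = (((e ^ k) b0 : ↥(UU σ b)) : G) * a ∧
      ((((e ^ k) b0 : ↥(UU σ b)) : G) ∈ D ∨ (((e ^ k) b0 : ↥(UU σ b)) : G) = 1)) := by
    intro k
    induction k with
    | zero =>
      simp only [pow_zero, Equiv.Perm.coe_one, id_eq]
      exact ⟨hbU, hab, Or.inl hb⟩
    | succ k ih =>
      rw [pow_succ', Equiv.Perm.mul_apply, he]
      exact hstep _ ih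
  have hn : 0 < orderOf e := orderOf_pos e
  obtain ⟨k, hk⟩ : ∃ k, orderOf e = k + 1 := ⟨orderOf e - 1, by omega⟩
  have hper : e ((e ^ k) b0) = b0 := by
    rw [← Equiv.Perm.mul_apply, ← pow_succ', ← hk, pow_orderOf_eq_one]
    rfl
  have hthb : th σ (((e ^ k) b0 : ↥(UU σ b)) : G) = b := by
    rw [← he, hper]
  obtain ⟨_, hcomm, hDor⟩ := hpow k
  rcases hDor with hbD | hb'1
  · refine ⟨σ⁻¹ * (((e ^ k) b0 : ↥(UU σ b)) : G) * σ, ?_, ?_⟩
    · have := hD.conj_mem _ hbD σ⁻¹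
      simpa [inv_inv] using this
    · rw [ITER_aux_sq haa haσ hcomm, hthb]
  · exfalso
    apply hb1
    rw [← hthb, hb'1]
    simp [th]

end Cfsg.Agent.S5047P
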