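import Mathlib
import Cfsg.Prelude.Def_FusionSystem
import Cfsg.Agent.Helper18.S5113Defs
import Cfsg.Agent.Helper25.FusionHyperfocal
import Cfsg.Agent.Helper17.S5113TRANS
import Cfsg.Agent.Helper14.S5113MAXSUB
import Cfsg.Agent.Helper18.S5113STEP

/-!
# S5113 piece IND (helper21): existence of the subsystem of `p`-power index, by induction on `|S|`

`T = S`: take `F`.  `T < S`: MAXSUB gives `T ≤ T₁ < S` with `foc(F) ≤ T₁` and `S / T₁` of exponent `p`,
STEP a saturated `E₁` over `T₁` of `p`-power index; `hyp(E₁) ≤ hyp(F) ≤ T`, so the induction hypothesis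
applies to `(E₁, T)`; TRANS.
-/

set_option autoImplicit false

namespace Cfsg.Agent.S5113P

open Cfsg Cfsg.FusionSystem Cfsg.Agent.Helper25 Cfsg.Agent.Helper25.Park Cfsg.Agent.Helper26.CB

universe u

/-- The hyperfocal subgroup of a subsystem (over a possibly smaller subgroup) is contained in the
hyperfocal subgroup of the system. -/
theorem IND.aux_hyp_mono {Ω : Type u} [Group Ω] {S T₁ : Subgroup Ω} (p : ℕ)
    {H : FusionSystem T₁} {F : FusionSystem S} (hTS : T₁ ≤ S) (hHF : H.IsSubsystemOf F) :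
    H.hyperfocalSubgroup p ≤ F.hyperfocalSubgroup p := by
  unfold hyperfocalSubgroup
  rw [Subgroup.closure_le]
  rintro _ ⟨P, α, x, hPT, hα, rfl⟩
  apply Subgroup.subset_closure
  have hPS : P ≤ S := le_trans hPT hTS
  have hle : H.autGroup P ≤ F.autGroup P := by
    intro β hβ
    rw [mem_autGroup_iff H hPT] at hβ
    rw [mem_autGroup_iff F hPS]
    exact hHF P hβ
  refine ⟨P, Subgroup.inclusion hle α, x, hPS, ?_, rfl⟩
  exact map_mem_pResidual p (Subgroup.inclusion hle) hα

/-- A system has `p`-power index in itself. -/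
theorem IND.aux_refl {Ω : Type u} [Group Ω] {S : Subgroup Ω} (p : ℕ) (F : FusionSystem S) :
    F.HasPPowerIndexIn F p := by
  refine ⟨fun P => subset_rfl, hyperfocalSubgroup_le F p, ?_⟩
  intro P _
  exact Subgroup.map_subtype_le _

theorem IND {Ω : Type u} [Group Ω] (p : ℕ) [Fact p.Prime] :
    ∀ (n : ℕ) (S : Subgroup Ω) [Finite S], Nat.card S = n → IsPGroup p S →
      ∀ F : FusionSystem S, F.IsSaturated p → ∀ T : Subgroup Ω, T ≤ S →
        F.hyperfocalSubgroup p ≤ T →
        ∃ E : FusionSystem T, E.IsSaturated p ∧ E.HasPPowerIndexIn F p := by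
  intro n
  induction n using Nat.strong_induction_on with
  | _ n ih =>
    intro S _ hn hS F hF T hTS hT
    by_cases hne : T = S
    · subst hne
      exact ⟨F, hF, IND.aux_refl p F⟩
    · obtain ⟨T₁, hTT₁, hT₁S, hT₁ne, hfoc, hexp⟩ := MAXSUB p hS F hF hTS hne hT
      obtain ⟨E₁, hE₁sat, hE₁idx⟩ := STEP p hS F hF hT₁S hfoc hexp
      have : Finite ↥T₁ := Finite.of_injective (Subgroup.inclusion hT₁S)
        (Subgroup.inclusion_injective hT₁S)
      have hcard : Nat.card ↥T₁ < n := by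
        rw [← hn]
        have h1 : (T₁ : Set Ω) ⊂ (S : Set Ω) :=
          SetLike.coe_ssubset_coe.mpr (lt_of_le_of_ne hT₁S hT₁ne)
        have h2 := Set.ncard_lt_ncard h1 (Set.toFinite _)
        rwa [← Nat.card_coe_set_eq, ← Nat.card_coe_set_eq] at h2
      have hT₁p : IsPGroup p ↥T₁ := hS.to_le hT₁S
      have hhyp : E₁.hyperfocalSubgroup p ≤ T :=
        le_trans (IND.aux_hyp_mono p hT₁S hE₁idx.1) hT
      obtain ⟨E, hEsat, hEidx⟩ := ih (Nat.card ↥T₁) hcard T₁ rfl hT₁p E₁ hE₁sat T hTT₁ hhyp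
      exact ⟨E, hEsat, TRANS p F E₁ E hE₁idx hEidx hT⟩

end Cfsg.Agent.S5113P
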