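import Mathlib
import Cfsg.Prelude.Def_Classical
import Cfsg.Agent.Helper26.S5320.Defs
import Cfsg.Agent.Helper23.S5320EMB
import Cfsg.Agent.Helper23.S5320SWMEM
import Cfsg.Agent.Helper16.S5320NW

/-! S5320 piece NFORM: `N(Q ≀ 2) ≤ {emb (u, u) * s | u ∈ N_L(Q), s ∈ Q ≀ 2}`. -/

set_option autoImplicit false
set_option linter.unusedSectionVars false
set_option linter.unusedVariables false

namespace Cfsg.Agent.S5320P

open Matrix

variable {F : Type*} [Field F]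

namespace NFORM

theorem emb_mul' (a b c d : L F) : (emb (a, b) : Gt F) * emb (c, d) = emb (a * c, b * d) :=
  (map_mul emb (a, b) (c, d)).symm

theorem emb_inv' (a b : L F) : (emb (a, b) : Gt F)⁻¹ = emb (a⁻¹, b⁻¹) :=
  (map_inv emb (a, b)).symm

theorem emb_mem_SW_iff (Q : Subgroup (L F)) (x y : L F) :
    emb (x, y) ∈ SW Q ↔ x ∈ Q ∧ y ∈ Q := by
  constructor
  · intro h
    obtain ⟨a, ha, b, hb, hab | hab⟩ := (mem_SW_iff Q _).1 h
    · have := emb_injective hab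
      rw [(Prod.mk.inj this).1, (Prod.mk.inj this).2]
      exact ⟨ha, hb⟩
    · exfalso
      apply sig_not_mem_range (F := F)
      refine ⟨(a⁻¹ * x, b⁻¹ * y), ?_⟩
      have : (sig : Gt F) = (emb (a, b) : Gt F)⁻¹ * emb (x, y) := by
        rw [hab]
        group
      rw [this, emb_inv', emb_mul']
  · rintro ⟨hx, hy⟩
    exact (mem_SW_iff Q _).2 ⟨x, hx, y, hy, Or.inl rfl⟩

theorem sig_mem_SW (Q : Subgroup (L F)) : (sig : Gt F) ∈ SW Q := by
  refine (mem_SW_iff Q _).2 ⟨1, Subgroup.one_mem _, 1, Subgroup.one_mem _, Or.inr ?_⟩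
  have : (emb ((1 : L F), (1 : L F)) : Gt F) = 1 := map_one emb
  rw [this, one_mul]

/-- if `emb (u, v)` normalizes `Q ≀ 2` then `u`, `v` conjugate `Q` into `Q`. -/
theorem conj_mem (Q : Subgroup (L F)) {u v : L F}
    (h : emb (u, v) ∈ Subgroup.normalizer ((SW Q : Subgroup (Gt F)) : Set (Gt F))) {a : L F}
    (ha : a ∈ Q) : u * a * u⁻¹ ∈ Q ∧ v * a * v⁻¹ ∈ Q := by
  rw [Subgroup.mem_normalizer_iff] at h
  have h1 := (h (emb (a, a))).1 ((emb_mem_SW_iff Q a a).2 ⟨ha, ha⟩)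
  rw [emb_inv', emb_mul', emb_mul'] at h1
  exact (emb_mem_SW_iff Q _ _).1 h1

theorem mem_normalizer_of (Q : Subgroup (L F)) {u v : L F}
    (h : emb (u, v) ∈ Subgroup.normalizer ((SW Q : Subgroup (Gt F)) : Set (Gt F))) :
    u ∈ Subgroup.normalizer ((Q : Subgroup (L F)) : Set (L F)) ∧
      v ∈ Subgroup.normalizer ((Q : Subgroup (L F)) : Set (L F)) := by
  have hi : emb (u⁻¹, v⁻¹) ∈ Subgroup.normalizer ((SW Q : Subgroup (Gt F)) : Set (Gt F)) := by
    rw [← emb_inv']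
    exact Subgroup.inv_mem _ h
  constructor
  · rw [Subgroup.mem_normalizer_iff]
    intro a
    constructor
    · intro ha
      exact (conj_mem Q h ha).1
    · intro ha
      have := (conj_mem Q hi ha).1
      have e : u⁻¹ * (u * a * u⁻¹) * u⁻¹⁻¹ = a := by group
      rwa [e] at this
  · rw [Subgroup.mem_normalizer_iff]
    intro a
    constructor
    · intro ha
      exact (conj_mem Q h ha).2
    · intro ha
      have := (conj_mem Q hi ha).2
      have e : v⁻¹ * (v * a * v⁻¹) * v⁻¹⁻¹ = a := by group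
      rwa [e] at this

/-- the main computation for `g = emb (u, v)`. -/
theorem of_emb (Q : Subgroup (L F)) {u v : L F}
    (h : emb (u, v) ∈ Subgroup.normalizer ((SW Q : Subgroup (Gt F)) : Set (Gt F))) :
    u ∈ Subgroup.normalizer ((Q : Subgroup (L F)) : Set (L F)) ∧ u⁻¹ * v ∈ Q := by
  obtain ⟨hu, hv⟩ := mem_normalizer_of Q h
  refine ⟨hu, ?_⟩
  have h1 := ((Subgroup.mem_normalizer_iff.1 h) sig).1 (sig_mem_SW Q)
  have e : (emb (u, v) : Gt F) * sig * (emb (u, v))⁻¹ = emb (u * v⁻¹, v * u⁻¹) * sig := by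
    have e2 : (emb (u, v) : Gt F) * sig * (emb (u, v))⁻¹ =
        emb (u, v) * (sig * (emb (u, v))⁻¹ * sig⁻¹) * sig := by group
    rw [e2, emb_inv', sig_conj, emb_mul']
  rw [e] at h1
  have h2 : (emb (u * v⁻¹, v * u⁻¹) : Gt F) ∈ SW Q := by
    have := Subgroup.mul_mem _ h1 (Subgroup.inv_mem _ (sig_mem_SW Q))
    rwa [mul_inv_cancel_right] at this
  have h3 := ((emb_mem_SW_iff Q _ _).1 h2).2
  -- `u⁻¹ * (v * u⁻¹) * u ∈ Q`
  have hui : u⁻¹ ∈ Subgroup.normalizer ((Q : Subgroup (L F)) : Set (L F)) :=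
    Subgroup.inv_mem _ hu
  have := ((Subgroup.mem_normalizer_iff.1 hui) (v * u⁻¹)).1 h3
  have e3 : u⁻¹ * (v * u⁻¹) * u⁻¹⁻¹ = u⁻¹ * v := by group
  rwa [e3] at this

end NFORM

theorem NFORM.exists_eq [Fintype F] (hodd : Fintype.card F % 2 = 1) (Q : Sylow 2 (L F)) (g : Gt F)
    (hg : g ∈ Subgroup.normalizer ((SW (Q : Subgroup (L F)) : Subgroup (Gt F)) : Set (Gt F))) :
    ∃ u ∈ Subgroup.normalizer ((Q : Subgroup (L F)) : Set (L F)),
      ∃ s ∈ SW (Q : Subgroup (L F)), g = emb (u, u) * s := by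
  have hW := NW.le hodd Q hg
  obtain ⟨u, -, v, -, huv | huv⟩ := (mem_SW_iff _ g).1 hW
  · rw [huv] at hg
    obtain ⟨hu, huv'⟩ := NFORM.of_emb _ hg
    refine ⟨u, hu, emb (1, u⁻¹ * v), ?_, ?_⟩
    · exact (NFORM.emb_mem_SW_iff _ _ _).2 ⟨Subgroup.one_mem _, huv'⟩
    · rw [huv, NFORM.emb_mul']
      congr 2
      · simp
      · simp
  · have hs : (sig : Gt F) ∈ Subgroup.normalizer
        ((SW (Q : Subgroup (L F)) : Subgroup (Gt F)) : Set (Gt F)) :=
      Subgroup.le_normalizer (NFORM.sig_mem_SW _)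
    have hg0 : emb (u, v) ∈ Subgroup.normalizer
        ((SW (Q : Subgroup (L F)) : Subgroup (Gt F)) : Set (Gt F)) := by
      have := Subgroup.mul_mem _ hg (Subgroup.inv_mem _ hs)
      rwa [huv, mul_inv_cancel_right] at this
    obtain ⟨hu, huv'⟩ := NFORM.of_emb _ hg0
    refine ⟨u, hu, emb (1, u⁻¹ * v) * sig, ?_, ?_⟩
    · exact Subgroup.mul_mem _
        ((NFORM.emb_mem_SW_iff _ _ _).2 ⟨Subgroup.one_mem _, huv'⟩) (NFORM.sig_mem_SW _)
    · rw [huv, ← mul_assoc, NFORM.emb_mul']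
      congr 3
      · simp
      · simp

end Cfsg.Agent.S5320P
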