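import Cfsg.Agent.Helper24.S5637.Defs

set_option autoImplicit false
set_option linter.unusedSectionVars false
set_option linter.unusedVariables false

/-! # S5637 piece EXT: the extremal step (raising the intersection number by one). -/

namespace Cfsg.Agent.S5637P

open Matrix Kronecker Cfsg.Agent.Helper28.SLMax Cfsg.Agent.S5634P
open scoped MatrixGroups

variable {F : Type*} [Field F] {n a b : ℕ} (e : Fin n ≃ Fin a × Fin b)

namespace EXT

/-- `ψ ↦ ψ ⬝ᵥ w` as a linear map -/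
def dotL (w : Fin b → F) : (Fin b → F) →ₗ[F] F where
  toFun ψ := ψ ⬝ᵥ w
  map_add' ψ ψ' := add_dotProduct ψ ψ' w
  map_smul' c ψ := by rw [smul_dotProduct, RingHom.id_apply]

/-- `ψ ↦ c_ψ Y` as a linear map -/
def cpsL (Y : Fin n → F) : (Fin b → F) →ₗ[F] (Fin a → F) where
  toFun ψ := cps e ψ Y
  map_add' ψ ψ' := cps_add e ψ ψ' Y
  map_smul' c ψ := by rw [cps_smul, RingHom.id_apply]

/-- the action of a conjugate `m x m⁻¹` -/
theorem conj_mulVec (m x : GL (Fin n) F) (v : Fin n → F) :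
    ((m * x * m⁻¹ : GL (Fin n) F) : Matrix (Fin n) (Fin n) F) *ᵥ v =
      (m : Matrix (Fin n) (Fin n) F) *ᵥ ((x : Matrix (Fin n) (Fin n) F) *ᵥ
        (((m⁻¹ : GL (Fin n) F) : Matrix (Fin n) (Fin n) F) *ᵥ v)) := by
  rw [Units.val_mul, Units.val_mul, Matrix.mulVec_mulVec, Matrix.mulVec_mulVec]

theorem mul_inv_mulVec (m : GL (Fin n) F) (v : Fin n → F) :
    (m : Matrix (Fin n) (Fin n) F) *ᵥ (((m⁻¹ : GL (Fin n) F) : Matrix (Fin n) (Fin n) F) *ᵥ v) = v := by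
  rw [Matrix.mulVec_mulVec, ← Units.val_mul, mul_inv_cancel, Units.val_one, Matrix.one_mulVec]

theorem inv_mul_mulVec (m : GL (Fin n) F) (v : Fin n → F) :
    ((m⁻¹ : GL (Fin n) F) : Matrix (Fin n) (Fin n) F) *ᵥ ((m : Matrix (Fin n) (Fin n) F) *ᵥ v) = v := by
  rw [Matrix.mulVec_mulVec, ← Units.val_mul, inv_mul_cancel, Units.val_one, Matrix.one_mulVec]

end EXT

open EXT in
theorem EXT (hab : a < b) (m : GL (Fin n) F) {w w' : Fin b → F} (hw : w ≠ 0) (hw' : w' ≠ 0)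
    (d : ℕ) (hd : Module.finrank F ↥(gmap m (Vw e w) ⊓ Vw e w') = d) (h1 : 1 ≤ d) (h2 : d < a) :
    ∃ ψ : Fin b → F, ψ ≠ 0 ∧ ψ ⬝ᵥ w = 0 ∧
      d + 1 ≤ Module.finrank F ↥(gmap (m * XR e w ψ * m⁻¹) (Vw e w') ⊓ Vw e w') := by
  classical
  set I : Submodule F (Fin n → F) := gmap m (Vw e w) ⊓ Vw e w' with hI
  -- a vector of `V_{w'}` outside `I`
  have hX : ∃ X₁ ∈ Vw e w', X₁ ∉ I := by
    by_contra hcon
    push Not at hcon
    have hle : Vw e w' ≤ I := fun x hx => hcon x hx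
    have h3 := Submodule.finrank_mono hle
    rw [finrank_Vw e hw', hd] at h3
    omega
  obtain ⟨X₁, hX1, hX1I⟩ := hX
  set Y₁ : Fin n → F := ((m⁻¹ : GL (Fin n) F) : Matrix (Fin n) (Fin n) F) *ᵥ X₁ with hY₁
  -- `L : u ↦ m (u ⊗ w)`
  set L : (Fin a → F) →ₗ[F] (Fin n → F) :=
    (Matrix.toLin' (m : Matrix (Fin n) (Fin n) F)).comp (jw e w) with hL
  have hLapp : ∀ u : Fin a → F, L u = (m : Matrix (Fin n) (Fin n) F) *ᵥ tn e u w := by
    intro u
    rw [hL, LinearMap.comp_apply, Matrix.toLin'_apply, jw_apply]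
  have hrange : I ≤ LinearMap.range L := by
    intro z hz
    obtain ⟨x, hx, rfl⟩ := mem_gmap.mp hz.1
    obtain ⟨u, rfl⟩ := (mem_Vw e).mp hx
    exact ⟨u, hLapp u⟩
  set U₀ : Submodule F (Fin a → F) := I.comap L with hU₀def
  have hU₀ : d ≤ Module.finrank F U₀ := by
    have h3 := Submodule.finrank_map_le L U₀
    rw [hU₀def, Submodule.map_comap_eq_of_le hrange, hd] at h3
    exact h3
  -- the linear map `ψ ↦ (ψ ⬝ w, [c_ψ Y₁])`
  set Φ : (Fin b → F) →ₗ[F] F × ((Fin a → F) ⧸ U₀) :=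
    LinearMap.prod (dotL w) (U₀.mkQ.comp (cpsL e Y₁)) with hΦ
  have hdim : Module.finrank F (F × ((Fin a → F) ⧸ U₀)) < Module.finrank F (Fin b → F) := by
    rw [Module.finrank_prod, Module.finrank_self, Module.finrank_fin_fun]
    have h3 := Submodule.finrank_quotient_add_finrank U₀
    rw [Module.finrank_fin_fun] at h3
    omega
  have hker : LinearMap.ker Φ ≠ ⊥ := LinearMap.ker_ne_bot_of_finrank_lt hdim
  obtain ⟨ψ, hψker, hψ0⟩ := Submodule.exists_mem_ne_zero_of_ne_bot hker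
  have hΦψ : Φ ψ = 0 := LinearMap.mem_ker.mp hψker
  have hψw : ψ ⬝ᵥ w = 0 := by
    have := congrArg Prod.fst hΦψ
    exact this
  have hψU : cps e ψ Y₁ ∈ U₀ := by
    have h3 := congrArg Prod.snd hΦψ
    have h4 : U₀.mkQ (cps e ψ Y₁) = 0 := h3
    rwa [Submodule.mkQ_apply, Submodule.Quotient.mk_eq_zero] at h4
  have hT : (m : Matrix (Fin n) (Fin n) F) *ᵥ tn e (cps e ψ Y₁) w ∈ I := by
    have h3 : L (cps e ψ Y₁) ∈ I := hψU
    rwa [hLapp] at h3
  refine ⟨ψ, hψ0, hψw, ?_⟩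
  set y : GL (Fin n) F := m * XR e w ψ * m⁻¹ with hy
  -- `y` fixes `I` pointwise
  have hfix : ∀ z ∈ I, (y : Matrix (Fin n) (Fin n) F) *ᵥ z = z := by
    intro z hz
    obtain ⟨x, hx, rfl⟩ := mem_gmap.mp hz.1
    obtain ⟨u, rfl⟩ := (mem_Vw e).mp hx
    rw [hy, conj_mulVec, inv_mul_mulVec, XR_mulVec_tn e hψw, hψw, zero_smul, add_zero]
  -- `y X₁`
  have hyX : (y : Matrix (Fin n) (Fin n) F) *ᵥ X₁ =
      X₁ + (m : Matrix (Fin n) (Fin n) F) *ᵥ tn e (cps e ψ Y₁) w := by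
    rw [hy, conj_mulVec, ← hY₁, XR_mulVec e hψw, Matrix.mulVec_add, hY₁, mul_inv_mulVec]
  have hlt : I < gmap y (Vw e w') ⊓ Vw e w' := by
    refine lt_of_le_of_ne ?_ ?_
    · intro z hz
      refine ⟨mem_gmap.mpr ⟨z, hz.2, hfix z hz⟩, hz.2⟩
    · intro heq
      have hmem : (y : Matrix (Fin n) (Fin n) F) *ᵥ X₁ ∈ gmap y (Vw e w') ⊓ Vw e w' := by
        refine ⟨mulVec_mem_gmap hX1, ?_⟩
        rw [hyX]
        exact Submodule.add_mem _ hX1 hT.2
      rw [← heq, hyX] at hmem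
      apply hX1I
      have := Submodule.sub_mem _ hmem hT
      rwa [add_sub_cancel_right] at this
  have h3 := Submodule.finrank_lt_finrank_of_lt hlt
  rw [hd] at h3
  omega

end Cfsg.Agent.S5637P
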