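import Mathlib
import Cfsg.Agent.Helper7.S5655.Defs
import Cfsg.Agent.Helper7.S5655.MonoLib
import Cfsg.Agent.Helper7.S5655.Defs2

/-! # S5655 `k = 1`, chapter (B) of helper15, piece COL: an invertible non-monomial matrix has a column with two
non-zero entries. -/

set_option autoImplicit false

namespace Cfsg.Agent.S5655K1

open Matrix
open Cfsg.Agent.S2644 Cfsg.Agent.Helper2.SUGen Cfsg.Agent.Helper28.SimMax Cfsg.Agent.MonoP

variable {K : Type*} [Field K] {q n : ℕ}

local notation "h" => Cfsg.hermForm n K q
local notation "T" => Cfsg.unitaryTransvection n q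

/-- COL (S-M): an invertible non-monomial matrix has a column with two non-zero entries. -/
theorem COL.exists (A A' : Matrix (Fin n) (Fin n) K) (hAA : A' * A = 1) (hnm : ¬ IsMono A) :
    ∃ j : Fin n, 2 ≤ wt (fun i => A i j) := by
  classical
  by_contra hcon
  push Not at hcon
  apply hnm
  have hcolne : ∀ j, ∃ i, A i j ≠ 0 := by
    intro j
    by_contra hz
    push Not at hz
    have h1 : (A' * A) j j = 1 := by rw [hAA, Matrix.one_apply_eq]
    rw [Matrix.mul_apply] at h1
    have h0 : ∑ i, A' j i * A i j = 0 := Finset.sum_eq_zero (fun i _ => by rw [hz i, mul_zero])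
    rw [h0] at h1
    exact zero_ne_one h1
  choose f hf using hcolne
  have huniq : ∀ i j, i ≠ f j → A i j = 0 := by
    intro i j hij
    by_contra hne
    have hlt := hcon j
    have hsub : ({i, f j} : Finset (Fin n)) ⊆ supp (fun i => A i j) := by
      intro x hx
      simp only [Finset.mem_insert, Finset.mem_singleton] at hx
      unfold supp
      rw [Finset.mem_filter]
      refine ⟨Finset.mem_univ _, ?_⟩
      rcases hx with rfl | rfl
      · exact hne
      · exact hf j
    have hcard := Finset.card_le_card hsub
    rw [Finset.card_pair hij] at hcard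
    unfold wt at hlt
    omega
  have hdiag : ∀ j j', (A' * A) j j' = A' j (f j') * A (f j') j' := by
    intro j j'
    rw [Matrix.mul_apply]
    apply Finset.sum_eq_single (f j')
    · intro i _ hi
      rw [huniq i j' hi, mul_zero]
    · intro hi
      exact absurd (Finset.mem_univ _) hi
  have hinj : Function.Injective f := by
    intro j j' hjj'
    by_contra hne
    have h1 : (A' * A) j j' = 0 := by rw [hAA, Matrix.one_apply_ne hne]
    have h2 : (A' * A) j j = 1 := by rw [hAA, Matrix.one_apply_eq]
    rw [hdiag] at h1 h2
    rw [← hjj'] at h1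
    rcases mul_eq_zero.mp h1 with h0 | h0
    · rw [h0, zero_mul] at h2
      exact zero_ne_one h2
    · rw [hjj'] at h0
      exact hf j' h0
  exact ⟨Equiv.ofBijective f ⟨hinj, Finite.surjective_of_injective hinj⟩, fun i j hij => huniq i j hij⟩

end Cfsg.Agent.S5655K1
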