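import Mathlib
import Cfsg.Agent.Helper7.S5655.Defs4
import Cfsg.Agent.Helper7.S5655.MonoLib

/-! # S5655 `k = 1`, chapter P2 (driver helper7), piece EMBT: quasi-reflections / transvections of `K²` go to those
of `⟨e, e'⟩` under `emb2`. -/

set_option autoImplicit false

namespace Cfsg.Agent.S5655K1

open Matrix
open Cfsg.Agent.S2644 Cfsg.Agent.Helper2.SUGen Cfsg.Agent.Helper28.SimMax Cfsg.Agent.MonoP

variable {K : Type*} [Field K] {q n : ℕ}

local notation "h" => Cfsg.hermForm n K q
local notation "T" => Cfsg.unitaryTransvection n q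
local notation "h₂" => Cfsg.hermForm 2 K q
local notation "T₂" => Cfsg.unitaryTransvection 2 q

theorem EMBT.add_pow (D : Frob K q) (a b x y : K) :
    (a * x + b * y) ^ q = a ^ q * x ^ q + b ^ q * y ^ q := by
  rw [← D.pow, map_add, map_mul, map_mul, D.pow, D.pow, D.pow, D.pow]

/-- EMBT (S-M): quasi-reflections / transvections of `K²` go to those of `⟨e, e'⟩`:
`T₂ v c - 1 = c • vecMulVec v (v^q)`, `cj (v 0 • e + v 1 • e') = (v 0)^q • cj e + (v 1)^q • cj e'` (`D.pow`, `map_add`). -/
theorem EMBT.eq (D : Frob K q) (e e' : Fin n → K) (v : Fin 2 → K) (c : K) :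
    emb2 q e e' (T₂ v c) = T (v 0 • e + v 1 • e') c := by
  ext a b
  have key := EMBT.add_pow D (v 0) (v 1) (e b) (e' b)
  simp only [emb2, Cfsg.unitaryTransvection, Fin.sum_univ_two, Matrix.add_apply, Matrix.smul_apply,
    Matrix.vecMulVec_apply, cj, Matrix.cons_val_zero, Matrix.cons_val_one, add_sub_cancel_left,
    smul_eq_mul, Pi.add_apply, Pi.smul_apply, key]
  ring

end Cfsg.Agent.S5655K1
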