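import Mathlib
import Cfsg.Agent.Helper7.S5655.Defs4
import Cfsg.Agent.Helper7.S5655.MonoLib

/-! # S5655 `k = 1`, chapter P2 (driver helper7), piece P2FRAME: an orthonormal basis `e, e'` of `⟨e, w⟩`. -/

set_option autoImplicit false

namespace Cfsg.Agent.S5655K1

open Matrix
open Cfsg.Agent.S2644 Cfsg.Agent.Helper2.SUGen Cfsg.Agent.Helper28.SimMax Cfsg.Agent.MonoP

variable {K : Type*} [Field K] {q n : ℕ}

local notation "h" => Cfsg.hermForm n K q
local notation "T" => Cfsg.unitaryTransvection n q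
local notation "h₂" => Cfsg.hermForm 2 K q
local notation "T₂" => Cfsg.unitaryTransvection 2 q

/-- P2FRAME (S-M): `e'' = w - θ • e` (`θ = h w e`) is orthogonal to `e`, `h e'' e'' = 1 - nm θ ≠ 0` is fixed by `σ`;
`β` with `β * σ β = 1 - nm θ` (`Helper2.SUGen.exists_norm`), `e' = β⁻¹ • e''`. -/
theorem P2FRAME.exists (D : Frob K q) [Finite K] (e w : Fin n → K) (he : h e e = 1) (hw : h w w = 1)
    (ha1 : h w e * D.σ (h w e) ≠ 1) :
    ∃ (e' : Fin n → K) (β : K), h e' e' = 1 ∧ h e e' = 0 ∧ β ≠ 0 ∧ w = h w e • e + β • e' ∧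
      h w e * D.σ (h w e) + β * D.σ β = 1 := by
  set θ : K := h w e with hθ
  have hew : h e w = D.σ θ := by rw [hθ, h_conj D]
  -- e'' = w - θ • e
  have h1 : h (w - θ • e) e = 0 := by
    rw [h_sub_left, h_smul_left, he, mul_one, ← hθ, sub_self]
  have h2 : h e (w - θ • e) = 0 := h_symm_zero D h1
  have h3 : h (w - θ • e) (w - θ • e) = 1 - θ * D.σ θ := by
    rw [h_sub_right D, h_smul_right D, h1, mul_zero, sub_zero, h_sub_left, h_smul_left, hw, hew]
  have hν : (1 - θ * D.σ θ) ≠ 0 := by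
    intro h0
    apply ha1
    rw [← sub_eq_zero, ← neg_eq_zero, neg_sub]
    exact h0
  have hfix : D.σ (1 - θ * D.σ θ) = 1 - θ * D.σ θ := by
    rw [← h3]
    exact h_self_fix D _
  obtain ⟨β, hβ⟩ := exists_norm D (1 - θ * D.σ θ) hν hfix
  have hβ0 : β ≠ 0 := by
    intro h0
    rw [h0, zero_mul] at hβ
    exact hν hβ.symm
  have hσβ0 : D.σ β ≠ 0 := σ_ne_zero D hβ0
  refine ⟨β⁻¹ • (w - θ • e), β, ?_, ?_, hβ0, ?_, ?_⟩
  · rw [h_smul_left, h_smul_right D, h3, ← hβ, map_inv₀]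
    field_simp
  · rw [h_smul_right D, h2, mul_zero]
  · rw [smul_smul, mul_inv_cancel₀ hβ0, one_smul]
    abel
  · rw [hβ]
    ring

end Cfsg.Agent.S5655K1
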