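import Mathlib
import Cfsg.Agent.Helper7.S5655.Defs2
import Cfsg.Agent.Helper7.S5655.MonoLib
import Cfsg.Agent.Helper5.S5655MU
import Cfsg.Agent.Helper5.S5655TTCOL

/-! # S5655 `k = 1`, piece TT (driver helper7): the count.  The column sets of TTCOL for distinct `t₃ ∈ μ` are
disjoint, there are `q + 1 ≥ 4` values of `t₃`, so `4 (n - 8) ≤ n`, against `n ≥ 13`. -/

set_option autoImplicit false

namespace Cfsg.Agent.S5655K1

open Matrix
open Cfsg.Agent.S2644 Cfsg.Agent.Helper2.SUGen Cfsg.Agent.Helper28.SimMax Cfsg.Agent.MonoP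

variable {K : Type*} [Field K] {q n : ℕ}

local notation "h" => Cfsg.hermForm n K q
local notation "T" => Cfsg.unitaryTransvection n q

/-- TT (M): the count.  The column sets of TTCOL for distinct `t₃` are disjoint (`A r₃ k ≠ 0`), there are `q + 1 ≥ 4` values
of `t₃` (MU.card), so `4 (n - 8) ≤ n`, i.e. `n ≤ 10`: contradiction with `n ≥ 13`. -/
theorem TT.main (D : Frob K q) [Fintype K] (hK : Fintype.card K = q ^ 2) (hq : 3 ≤ q) (hn : 13 ≤ n)
    (M : Subgroup (Matrix.GeneralLinearGroup (Fin n) K)) (hM : M ≤ SUG n K q) (hN : HasN q M)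
    (hnz : ∀ A ∈ MS M, ¬ IsMono A → ∀ i j : Fin n, A i j ≠ 0) : AllMono M := by
  classical
  intro A hA
  by_contra hnm
  have hn0 : 0 < n := by omega
  have hn1 : 1 < n := by omega
  have hr : (⟨0, hn0⟩ : Fin n) ≠ ⟨1, hn1⟩ := by
    intro hh
    simp [Fin.ext_iff] at hh
  have hU := MU.card D hK
  have hC : ∀ t ∈ Finset.univ.filter (fun t : K => IsU D t),
      n ≤ (Finset.univ.filter (fun k : Fin n => A ⟨1, hn1⟩ k = t * A ⟨0, hn0⟩ k)).card + 8 := by
    intro t ht
    have ht' : IsU D t := (Finset.mem_filter.mp ht).2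
    exact TTCOL.card D hK hn M hM hN hnz A hA hnm ⟨0, hn0⟩ ⟨1, hn1⟩ hr t ht'
  have hdisj : ((Finset.univ.filter (fun t : K => IsU D t) : Finset K) : Set K).PairwiseDisjoint
      (fun t => Finset.univ.filter (fun k : Fin n => A ⟨1, hn1⟩ k = t * A ⟨0, hn0⟩ k)) := by
    intro t _ t' _ htt'
    rw [Function.onFun, Finset.disjoint_left]
    intro k hk hk'
    have h1 := (Finset.mem_filter.mp hk).2
    have h2 := (Finset.mem_filter.mp hk').2
    apply htt'
    have hne := hnz A hA hnm ⟨0, hn0⟩ k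
    have h3 : t * A ⟨0, hn0⟩ k = t' * A ⟨0, hn0⟩ k := by rw [← h1, ← h2]
    exact mul_right_cancel₀ hne h3
  have hsum := Finset.card_biUnion hdisj
  have hle : ((Finset.univ.filter (fun t : K => IsU D t)).biUnion
      (fun t => Finset.univ.filter (fun k : Fin n => A ⟨1, hn1⟩ k = t * A ⟨0, hn0⟩ k))).card ≤ n := by
    calc _ ≤ (Finset.univ : Finset (Fin n)).card := Finset.card_le_card (Finset.subset_univ _)
      _ = n := by simp
  have hge : (Finset.univ.filter (fun t : K => IsU D t)).card * (n - 8) ≤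
      ∑ t ∈ Finset.univ.filter (fun t : K => IsU D t),
        (Finset.univ.filter (fun k : Fin n => A ⟨1, hn1⟩ k = t * A ⟨0, hn0⟩ k)).card := by
    rw [← smul_eq_mul, ← Finset.sum_const]
    apply Finset.sum_le_sum
    intro t ht
    have := hC t ht
    omega
  rw [hU] at hge
  have h4 : 4 * (n - 8) ≤ (q + 1) * (n - 8) := Nat.mul_le_mul_right _ (by omega)
  omega

end Cfsg.Agent.S5655K1
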