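import Mathlib
import Cfsg.Agent.Helper28.S5658.Defs
import Cfsg.Agent.Helper28.S5658.Lib
import Cfsg.Agent.Helper23.S5658TOPKT
import Cfsg.Agent.Helper5.S5658RATSPAN

/-! S5658 piece ALLQ: `KS = univ` ⇒ the whole unipotent radical `Q_b` of a rational isotropic `b` is in `M`. -/

set_option autoImplicit false

namespace Cfsg.Agent.S5658P

open Matrix
open Cfsg.Agent.S2644 Cfsg.Agent.Helper2.SUGen Cfsg.Agent.Helper28.SimMax Cfsg.Agent.S5639P

variable {K : Type*} [Field K] {q n : ℕ}

local notation "h" => Cfsg.hermForm n K q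
local notation "T" => Cfsg.unitaryTransvection n q

namespace ALLQ

theorem T_mem [Finite K] (hn : 13 ≤ n) (D : Frob K q) (F₀ : Subfield K)
    (hθ : ∃ θ ∈ F₀, D.σ θ ≠ θ) (M : Subgroup (Matrix.GeneralLinearGroup (Fin n) K))
    (hMG : M ≤ Cfsg.GU n K q ⊓ Cfsg.Geo.specialLinear (Fin n) K) (hRat : HasRatSU q F₀ M)
    (hKS : KS q F₀ M = Set.univ) {b : Fin n → K} (hb : Rat F₀ b) (hbb : h b b = 0) {c : K}
    (hc : D.σ c = -c) : T b c ∈ MS M :=
  (TOPKT.skew_mem hn D F₀ hθ M hMG hRat hKS hc).2 b hb hbb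

end ALLQ

theorem ALLQ.Sg_mem [Finite K] (hn : 13 ≤ n) (D : Frob K q) (F₀ : Subfield K)
    (hθ : ∃ θ ∈ F₀, D.σ θ ≠ θ) (M : Subgroup (Matrix.GeneralLinearGroup (Fin n) K))
    (hMG : M ≤ Cfsg.GU n K q ⊓ Cfsg.Geo.specialLinear (Fin n) K) (hRat : HasRatSU q F₀ M)
    (hKS : KS q F₀ M = Set.univ) {b w : Fin n → K} {c : K} (hb : Rat F₀ b) (hbb : h b b = 0)
    (hwb : h w b = 0) (hc : c + D.σ c + h w w = 0) : Sg (q := q) b w c ∈ MS M := by
  by_cases hb0 : b = 0
  · subst hb0
    have : Sg (q := q) (0 : Fin n → K) w c = 1 := by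
      apply mat_ext
      intro z
      rw [Sg_mulVec, h_zero_right D, Matrix.one_mulVec]
      module
    rw [this]
    exact one_mem_MS M
  have hT : ∀ {c : K}, D.σ c = -c → T b c ∈ MS M := fun hc =>
    ALLQ.T_mem hn D F₀ hθ M hMG hRat hKS hb hbb hc
  have key : ∀ w : Fin n → K,
      w ∈ AddSubmonoid.closure {y : Fin n → K | ∃ (a : K) (x : Fin n → K),
        Rat F₀ x ∧ h x x = 0 ∧ h x b = 0 ∧ y = a • x} →
      h w b = 0 ∧ ∀ c : K, c + D.σ c + h w w = 0 → Sg (q := q) b w c ∈ MS M := by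
    intro w hw
    induction hw using AddSubmonoid.closure_induction with
    | mem y hy =>
      obtain ⟨a, x, hx, hxx, hxb, rfl⟩ := hy
      have hyb : h (a • x) b = 0 := by rw [h_smul_left, hxb, mul_zero]
      refine ⟨hyb, ?_⟩
      intro c hc
      have hyy : h (a • x) (a • x) = 0 := by
        rw [h_smul_left, h_smul_right D, hxx, mul_zero, mul_zero]
      rw [hyy, add_zero] at hc
      have hcs : D.σ c = -c := by linear_combination hc
      by_cases hli : LinearIndependent K ![b, x]
      · rw [Sg_smul_eq D hbb hxb a c]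
        refine MS_mul ?_ (hT hcs)
        have ha : a ∈ KS q F₀ M := by rw [hKS]; trivial
        exact ha b x hb hx hbb hxx hxb hli
      · -- `x` is a multiple of `b`
        have hx' : ∃ t : K, x = t • b := by
          rw [LinearIndependent.pair_iff] at hli
          push Not at hli
          obtain ⟨s, t, hst, hne⟩ := hli
          have ht : t ≠ 0 := by
            intro ht0
            have hs0 : s ≠ 0 := fun hs0 => by
              have := hne hs0
              exact this ht0
            rw [ht0, zero_smul, add_zero] at hst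
            rcases smul_eq_zero.1 hst with h1 | h1
            · exact hs0 h1
            · exact hb0 h1
          refine ⟨-(t⁻¹ * s), ?_⟩
          have : t • x = -(s • b) := by
            rw [eq_neg_iff_add_eq_zero, add_comm]; exact hst
          calc x = t⁻¹ • (t • x) := by rw [smul_smul, inv_mul_cancel₀ ht, one_smul]
            _ = -(t⁻¹ * s) • b := by rw [this, smul_neg, smul_smul, neg_smul]
        obtain ⟨t, rfl⟩ := hx'
        rw [smul_smul, Sg_self D]
        apply hT
        rw [map_add, map_sub, D.invol, hcs]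
        ring
    | zero =>
      refine ⟨h_zero_left b, ?_⟩
      intro c hc
      rw [h_zero_left, add_zero] at hc
      rw [Sg_zero D]
      exact hT (by linear_combination hc)
    | add w₁ w₂ _ _ ih₁ ih₂ =>
      obtain ⟨h1, ih₁⟩ := ih₁
      obtain ⟨h2, ih₂⟩ := ih₂
      have h12 : h (w₁ + w₂) b = 0 := by rw [h_add_left, h1, h2, add_zero]
      refine ⟨h12, ?_⟩
      intro c hc
      obtain ⟨c₁, hc₁⟩ := exists_trace D (-(h w₁ w₁)) (by rw [map_neg, h_self_fix D])
      obtain ⟨c₂, hc₂⟩ := exists_trace D (-(h w₂ w₂)) (by rw [map_neg, h_self_fix D])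
      have m1 := ih₁ c₁ (by rw [hc₁]; ring)
      have m2 := ih₂ c₂ (by rw [hc₂]; ring)
      have m12 := MS_mul m1 m2
      rw [Sg_mul D b w₁ w₂ c₁ c₂ hbb h1 h2] at m12
      set c' := c₁ + c₂ - h w₂ w₁ with hc'
      have hσ : D.σ (h w₂ w₁) = h w₁ w₂ := h_conj D w₁ w₂
      have hd : D.σ (c - c') = -(c - c') := by
        have e1 : h (w₁ + w₂) (w₁ + w₂) = h w₁ w₁ + h w₁ w₂ + (h w₂ w₁ + h w₂ w₂) := by
          rw [h_add_left, h_add_right D, h_add_right D]
        rw [e1] at hc
        rw [hc', map_sub, map_sub, map_add, hσ]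
        linear_combination hc - hc₁ - hc₂
      have e : Sg (q := q) b (w₁ + w₂) c = Sg (q := q) b (w₁ + w₂) c' * T b (c - c') := by
        rw [← Sg_zero D b (c - c'), Sg_mul D b (w₁ + w₂) 0 c' (c - c') hbb h12 (h_zero_left b),
          add_zero, h_zero_left]
        congr 1
        ring
      rw [e]
      exact MS_mul m12 (hT hd)
  exact (key w (RATSPAN.mem_closure hn D F₀ hθ hb hb0 hbb hwb)).2 c hc

end Cfsg.Agent.S5658P
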