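import Mathlib
import Cfsg.Agent.Helper28.S5658.Defs
import Cfsg.Agent.Helper28.S5658.Lib
import Cfsg.Agent.Helper22.S5658HYPB

/-! S5658 piece UYRAT: a rational isometry moving every vector inside the totally isotropic line `⟨u₀, w₀⟩` is in `RSet`. -/

set_option autoImplicit false

namespace Cfsg.Agent.S5658P

open Matrix
open Cfsg.Agent.S2644 Cfsg.Agent.Helper2.SUGen Cfsg.Agent.Helper28.SimMax Cfsg.Agent.S5639P

variable {K : Type*} [Field K] {q n : ℕ}

local notation "h" => Cfsg.hermForm n K q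
local notation "T" => Cfsg.unitaryTransvection n q

namespace UYRAT

/-- the product of the three root elements -/
theorem prod_mulVec (D : Frob K q) {u₀ w₀ : Fin n → K} (huu : h u₀ u₀ = 0) (hww : h w₀ w₀ = 0)
    (hwu : h w₀ u₀ = 0) (s s' c : K) (z : Fin n → K) :
    (T u₀ s * T w₀ s' * S q u₀ w₀ c) *ᵥ z =
      z + (s * h z u₀ - D.σ c * h z w₀) • u₀ + (s' * h z w₀ + c * h z u₀) • w₀ := by
  have huw : h u₀ w₀ = 0 := h_symm_zero D hwu
  rw [← Matrix.mulVec_mulVec, ← Matrix.mulVec_mulVec, S_mulVec D, T_mulVec, T_mulVec]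
  simp only [h_add_left, h_sub_left, h_smul_left, huu, hww, hwu, huw, mul_zero, add_zero, sub_zero]
  module

end UYRAT

theorem UYRAT.mem_RSet [Finite K] (hn : 13 ≤ n) (D : Frob K q) (F₀ : Subfield K)
    (hθ : ∃ θ ∈ F₀, D.σ θ ≠ θ) {u₀ w₀ : Fin n → K} (hu : Rat F₀ u₀) (hw : Rat F₀ w₀)
    (huu : h u₀ u₀ = 0) (hww : h w₀ w₀ = 0) (hwu : h w₀ u₀ = 0)
    (hi : LinearIndependent K ![u₀, w₀]) {A : Matrix (Fin n) (Fin n) K} (hA : RatM F₀ A)
    (hP : Pres (q := q) A) (hsub : ∀ z, A *ᵥ z - z ∈ Submodule.span K {u₀, w₀}) :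
    A ∈ RSet D F₀ u₀ w₀ := by
  have huw : h u₀ w₀ = 0 := h_symm_zero D hwu
  obtain ⟨e, f, H, he0, he1⟩ := HYPB.exists_frame_of_pair hn D F₀ hθ hu hw huu hww hwu hi
  -- the frame relations
  have e00 : h u₀ (f 0) = 1 := by have := H.ef 0 0; rwa [he0, if_pos rfl] at this
  have e01 : h u₀ (f 1) = 0 := by
    have := H.ef 0 1; rwa [he0, if_neg (by decide)] at this
  have e10 : h w₀ (f 0) = 0 := by
    have := H.ef 1 0; rwa [he1, if_neg (by decide)] at this
  have e11 : h w₀ (f 1) = 1 := by have := H.ef 1 1; rwa [he1, if_pos rfl] at this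
  have f00 : h (f 0) u₀ = 1 := by have := H.fe D 0 0; rwa [he0, if_pos rfl] at this
  have f01 : h (f 0) w₀ = 0 := by
    have := H.fe D 0 1; rwa [he1, if_neg (by decide)] at this
  have f10 : h (f 1) u₀ = 0 := by
    have := H.fe D 1 0; rwa [he0, if_neg (by decide)] at this
  have f11 : h (f 1) w₀ = 1 := by have := H.fe D 1 1; rwa [he1, if_pos rfl] at this
  -- coordinates of `N z = A z - z`
  have hco : ∀ z, ∃ α β : K, A *ᵥ z = z + α • u₀ + β • w₀ := by
    intro z
    obtain ⟨α, β, hαβ⟩ := Submodule.mem_span_pair.1 (hsub z)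
    refine ⟨α, β, ?_⟩
    rw [add_assoc, hαβ]
    abel
  -- the isometry relation
  have iso : ∀ x y (α β α' β' : K), A *ᵥ x = x + α • u₀ + β • w₀ →
      A *ᵥ y = y + α' • u₀ + β' • w₀ →
      D.σ α' * h x u₀ + D.σ β' * h x w₀ + (α * h u₀ y + β * h w₀ y) = 0 := by
    intro x y α β α' β' hx hy
    have := hP x y
    rw [hx, hy] at this
    simp only [h_add_left, h_add_right D, h_smul_left, h_smul_right D, huu, hww, hwu, huw, mul_zero,
      add_zero] at this
    linear_combination this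
  obtain ⟨a, c, h0⟩ := hco (f 0)
  obtain ⟨d, b, h1⟩ := hco (f 1)
  -- rationality
  have hr0 : Rat F₀ (a • e 0 + c • e 1) := by
    have : a • e 0 + c • e 1 = A *ᵥ f 0 - f 0 := by rw [h0, he0, he1]; abel
    rw [this]
    exact Cfsg.Agent.S5639P.Rat.sub (RatM.mulVec hA (H.rat_f 0)) (H.rat_f 0)
  have hr1 : Rat F₀ (d • e 0 + b • e 1) := by
    have : d • e 0 + b • e 1 = A *ᵥ f 1 - f 1 := by rw [h1, he0, he1]; abel
    rw [this]
    exact Cfsg.Agent.S5639P.Rat.sub (RatM.mulVec hA (H.rat_f 1)) (H.rat_f 1)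
  obtain ⟨ha, hc⟩ := H.coeff_mem (i := 0) (j := 1) (by decide) hr0
  obtain ⟨hd, hb⟩ := H.coeff_mem (i := 0) (j := 1) (by decide) hr1
  -- the relations
  have r00 := iso (f 0) (f 0) a c a c h0 h0
  rw [f00, f01, e00, e10] at r00
  have r11 := iso (f 1) (f 1) d b d b h1 h1
  rw [f10, f11, e01, e11] at r11
  have r01 := iso (f 0) (f 1) a c d b h0 h1
  rw [f00, f01, e01, e11] at r01
  have hsa : D.σ a = -a := by linear_combination r00
  have hsb : D.σ b = -b := by linear_combination r11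
  have hdc : d = -D.σ c := by
    have h2 : D.σ d = -c := by linear_combination r01
    have := congrArg D.σ h2
    rw [D.invol, map_neg] at this
    exact this
  -- `N` kills the orthogonal complement
  have hkill : ∀ z, h z u₀ = 0 → h z w₀ = 0 → A *ᵥ z = z := by
    intro z hz1 hz2
    obtain ⟨α, β, hz⟩ := hco z
    have hu0z : h u₀ z = 0 := h_symm_zero D hz1
    have hw0z : h w₀ z = 0 := h_symm_zero D hz2
    have s0 := iso (f 0) z a c α β h0 hz
    rw [f00, f01, hu0z, hw0z] at s0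
    have s1 := iso (f 1) z d b α β h1 hz
    rw [f10, f11, hu0z, hw0z] at s1
    have hα : α = 0 := by
      have h2 : D.σ α = 0 := by linear_combination s0
      have := congrArg D.σ h2
      rwa [D.invol, map_zero] at this
    have hβ : β = 0 := by
      have h2 : D.σ β = 0 := by linear_combination s1
      have := congrArg D.σ h2
      rwa [D.invol, map_zero] at this
    rw [hz, hα, hβ, zero_smul, zero_smul, add_zero, add_zero]
  refine ⟨a, b, c, ha, hb, hc, hsa, hsb, ?_⟩
  apply mat_ext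
  intro z
  rw [UYRAT.prod_mulVec D huu hww hwu]
  set z' := z - h z u₀ • f 0 - h z w₀ • f 1 with hz'
  have k1 : h z' u₀ = 0 := by
    rw [hz', h_sub_left, h_sub_left, h_smul_left, h_smul_left, f00, f10]; ring
  have k2 : h z' w₀ = 0 := by
    rw [hz', h_sub_left, h_sub_left, h_smul_left, h_smul_left, f01, f11]; ring
  have hAz' := hkill z' k1 k2
  have hz : z = z' + h z u₀ • f 0 + h z w₀ • f 1 := by rw [hz']; abel
  have : A *ᵥ z = A *ᵥ z' + h z u₀ • A *ᵥ f 0 + h z w₀ • A *ᵥ f 1 := by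
    conv_lhs => rw [hz]
    rw [Matrix.mulVec_add, Matrix.mulVec_add, Matrix.mulVec_smul, Matrix.mulVec_smul]
  rw [this, hAz', h0, h1, hdc]
  rw [hz']
  module

end Cfsg.Agent.S5658P
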