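import Cfsg.Agent.Helper3.S5665PROPFORM

set_option autoImplicit false
set_option linter.unusedSectionVars false
set_option linter.unusedVariables false

/-! # S5665, piece QUADRIC: an element outside `H` moves some isotropic vector to a non-isotropic one -/

namespace Cfsg.Agent.S5665P

open Matrix Module Cfsg.Agent.Helper2.Sp Cfsg.Agent.Helper28.Sg Cfsg.Agent.S5700P

variable {F : Type*} [Field F] [Fintype F] {m : ℕ}
  {δ : Matrix (Fin m ⊕ Fin m) (Fin m ⊕ Fin m) F} {d : F}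

local notation "V" => (Fin m ⊕ Fin m → F)
local notation "Mat" => Matrix (Fin m ⊕ Fin m) (Fin m ⊕ Fin m) F
local notation "Sp" => Matrix.symplecticGroup (Fin m) F

namespace QUADRIC

/-- the bilinear form `(x, y) ↦ om (δ (g x)) (g y)` -/
noncomputable def bform (δ : Mat) (g : Sp) : LinearMap.BilinForm F V :=
  LinearMap.mk₂ F (fun x y => om (δ *ᵥ (g.1 *ᵥ x)) (g.1 *ᵥ y))
    (fun x x' y => by
      show om (δ *ᵥ (g.1 *ᵥ (x + x'))) (g.1 *ᵥ y) = _
      rw [Matrix.mulVec_add, Matrix.mulVec_add, om_add_left])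
    (fun c x y => by
      show om (δ *ᵥ (g.1 *ᵥ (c • x))) (g.1 *ᵥ y) = _
      rw [Matrix.mulVec_smul, Matrix.mulVec_smul, om_smul_left, smul_eq_mul])
    (fun x y y' => by
      show om (δ *ᵥ (g.1 *ᵥ x)) (g.1 *ᵥ (y + y')) = _
      rw [Matrix.mulVec_add, om_add_right])
    (fun c x y => by
      show om (δ *ᵥ (g.1 *ᵥ x)) (g.1 *ᵥ (c • y)) = _
      rw [Matrix.mulVec_smul, om_smul_right, smul_eq_mul])

theorem bform_apply (δ : Mat) (g : Sp) (x y : V) :
    bform δ g x y = om (δ *ᵥ (g.1 *ᵥ x)) (g.1 *ᵥ y) := rfl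

/-- if `δ (g x) = e • g (δ x)` for all `x` then `e = 1` or `e = -1` -/
theorem scalar_cases (U : SData δ d) (hm : 7 ≤ m) (g : Sp) (e : F)
    (h : ∀ x : V, δ *ᵥ (g.1 *ᵥ x) = e • g.1 *ᵥ (δ *ᵥ x)) : e = 1 ∨ e = -1 := by
  -- a non-zero vector
  have hm0 : 0 < m := by omega
  let x0 : V := Pi.single (Sum.inl ⟨0, hm0⟩) 1
  have hx0 : x0 ≠ 0 := by
    intro h0
    have := congrFun h0 (Sum.inl ⟨0, hm0⟩)
    simp [x0] at this
  have hgx0 : g.1 *ᵥ x0 ≠ 0 := by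
    intro h0
    apply hx0
    have := inv_mulVec_mulVec g x0
    rw [h0, Matrix.mulVec_zero] at this
    exact this.symm
  have h1 : d • (g.1 *ᵥ x0) = (e * e * d) • (g.1 *ᵥ x0) := by
    calc d • (g.1 *ᵥ x0) = δ *ᵥ (δ *ᵥ (g.1 *ᵥ x0)) := (U.dd _).symm
      _ = δ *ᵥ (e • g.1 *ᵥ (δ *ᵥ x0)) := by rw [h x0]
      _ = e • δ *ᵥ (g.1 *ᵥ (δ *ᵥ x0)) := by rw [Matrix.mulVec_smul]
      _ = e • e • g.1 *ᵥ (δ *ᵥ (δ *ᵥ x0)) := by rw [h (δ *ᵥ x0)]
      _ = (e * e * d) • (g.1 *ᵥ x0) := by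
          rw [U.dd, Matrix.mulVec_smul, smul_smul, smul_smul]
  have h2 : (d - e * e * d) • (g.1 *ᵥ x0) = 0 := by
    rw [sub_smul, ← h1, sub_self]
  rcases smul_eq_zero.mp h2 with h3 | h3
  · have h4 : (e - 1) * (e + 1) = 0 := by
      have hd := U.d_ne_zero
      have : d * ((e - 1) * (e + 1)) = 0 := by linear_combination -h3
      exact (mul_eq_zero.mp this).resolve_left hd
    rcases mul_eq_zero.mp h4 with h5 | h5
    · left; linear_combination h5
    · right; linear_combination h5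
  · exact absurd h3 hgx0

end QUADRIC

theorem QUADRIC.exists_z (U : SData δ d) (h2 : (2 : F) ≠ 0) (hm : 7 ≤ m) (g : Sp) (hg : ¬ InH δ g) :
    ∃ z : V, Qs δ z = 0 ∧ Qs δ (g.1 *ᵥ z) ≠ 0 := by
  by_contra hcon
  push Not at hcon
  apply hg
  have hsymm : ∀ x y : V, QUADRIC.bform δ g x y = QUADRIC.bform δ g y x := by
    intro x y
    rw [QUADRIC.bform_apply, QUADRIC.bform_apply, U.symm]
  have hvan : ∀ x : V, QF δ x = 0 → QUADRIC.bform δ g x x = 0 := by
    intro x hx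
    rw [QF_apply] at hx
    rw [QUADRIC.bform_apply]
    exact hcon x hx
  obtain ⟨c, hc⟩ := PROPFORM.prop (U.QF_nondeg h2) (card_idx F m hm) h2 (QUADRIC.bform δ g) hsymm hvan
  -- `δ (g x) = (2c) • g (δ x)`
  have key : ∀ x : V, δ *ᵥ (g.1 *ᵥ x) = (2 * c) • g.1 *ᵥ (δ *ᵥ x) := by
    intro x
    have h0 : (g⁻¹).1 *ᵥ (δ *ᵥ (g.1 *ᵥ x)) - (2 * c) • δ *ᵥ x = 0 := by
      apply eq_zero_of_om_right
      intro y
      rw [om_sub_left, om_inv_left, om_smul_left]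
      have := hc x y
      rw [QUADRIC.bform_apply, U.B_QF] at this
      rw [this]; ring
    have h1 : (g⁻¹).1 *ᵥ (δ *ᵥ (g.1 *ᵥ x)) = (2 * c) • δ *ᵥ x := sub_eq_zero.mp h0
    have h3 := congrArg (fun v => g.1 *ᵥ v) h1
    simp only [mulVec_inv_mulVec, Matrix.mulVec_smul] at h3
    exact h3
  rcases QUADRIC.scalar_cases U hm g (2 * c) key with h1 | h1
  · apply inH_of_comm
    intro x
    rw [key x, h1, one_smul]
  · apply inH_of_anti
    intro x
    rw [key x, h1, neg_smul, one_smul, neg_neg]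

end Cfsg.Agent.S5665P
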