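import Mathlib

/-!
# S5751, piece ABS: the iterated cores of two conjugate subgroups (pure group theory)
-/

set_option autoImplicit false

namespace Cfsg.Agent.S5751P

namespace ABS

variable {G : Type*} [Group G]

/-- membership in the core of `X ∩ M` in `M`, as a subgroup of `G` -/
theorem mem_core_iff (M X : Subgroup G) (x : G) :
    x ∈ (X.subgroupOf M).normalCore.map M.subtype ↔ x ∈ M ∧ ∀ m ∈ M, m * x * m⁻¹ ∈ X := by
  constructor
  · rintro ⟨y, hy, rfl⟩
    refine ⟨y.2, fun m hm => ?_⟩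
    have h := hy ⟨m, hm⟩
    rw [Subgroup.mem_subgroupOf] at h
    simpa using h
  · rintro ⟨hxM, hx⟩
    refine ⟨⟨x, hxM⟩, ?_, rfl⟩
    intro b
    rw [Subgroup.mem_subgroupOf]
    have := hx b.1 b.2
    simpa using this

theorem mem_conj_iff (M : Subgroup G) (g : G) (hg : g * g = 1) (x : G) :
    x ∈ M.map (MulAut.conj g).toMonoidHom ↔ g * x * g⁻¹ ∈ M := by
  have hginv : g⁻¹ = g := inv_eq_of_mul_eq_one_left hg
  constructor
  · rintro ⟨y, hy, rfl⟩
    have : g * (MulAut.conj g).toMonoidHom y * g⁻¹ = y := by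
      show g * (g * y * g⁻¹) * g⁻¹ = y
      rw [hginv]
      calc g * (g * y * g) * g = (g * g) * y * (g * g) := by group
        _ = y := by rw [hg, one_mul, mul_one]
    rw [this]
    exact hy
  · intro h
    refine ⟨g * x * g⁻¹, h, ?_⟩
    show g * (g * x * g⁻¹) * g⁻¹ = x
    rw [hginv]
    calc g * (g * x * g) * g = (g * g) * x * (g * g) := by group
      _ = x := by rw [hg, one_mul, mul_one]

end ABS

open ABS

theorem core_sequence {G : Type*} [Group G] (M : Subgroup G) (g : G) (hg : g * g = 1)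
    (A B : ℕ → Subgroup G) (hA0 : A 0 = M) (hB0 : B 0 = M.map (MulAut.conj g).toMonoidHom)
    (hA : ∀ i, A (i + 1) = ((A i ⊓ B i).subgroupOf M).normalCore.map M.subtype)
    (hB : ∀ i, B (i + 1) = ((A i ⊓ B i).subgroupOf (M.map (MulAut.conj g).toMonoidHom)).normalCore.map
      (M.map (MulAut.conj g).toMonoidHom).subtype)
    (Q : ℕ → Subgroup G) (q1 : Q 1 ≤ M) (qmono : ∀ k, Q (k + 1) ≤ Q k)
    (qnorm : ∀ k, ∀ p ∈ M, ∀ y ∈ Q k, p * y * p⁻¹ ∈ Q k)
    (q2 : ∀ k, 1 ≤ k → ∀ y ∈ Q (k + 1), g * y * g⁻¹ ∈ Q k)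
    (u0 : ∀ N : Subgroup G, N ≤ M → (∀ p ∈ M, ∀ y ∈ N, p * y * p⁻¹ ∈ N) →
      (∀ y ∈ N, g * y * g⁻¹ ∈ M) → N ≤ Q 2)
    (uk : ∀ k, 2 ≤ k → ∀ N : Subgroup G, N ≤ Q k → (∀ p ∈ M, ∀ y ∈ N, p * y * p⁻¹ ∈ N) →
      (∀ y ∈ N, g * y * g⁻¹ ∈ Q k) → N ≤ Q (k + 1)) :
    ∀ i, 1 ≤ i → A i = Q (i + 1) := by
  have hginv : g⁻¹ = g := inv_eq_of_mul_eq_one_left hg
  have hgg : ∀ x : G, g * (g * x * g⁻¹) * g⁻¹ = x := by
    intro x
    rw [hginv]
    calc g * (g * x * g) * g = (g * g) * x * (g * g) := by group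
      _ = x := by rw [hg, one_mul, mul_one]
  set Mg : Subgroup G := M.map (MulAut.conj g).toMonoidHom with hMg
  have hmemMg : ∀ x, x ∈ Mg ↔ g * x * g⁻¹ ∈ M := mem_conj_iff M g hg
  -- the symmetry `B i = g (A i) g⁻¹`
  have hsym : ∀ i, ∀ x, x ∈ B i ↔ g * x * g⁻¹ ∈ A i := by
    intro i
    induction i with
    | zero =>
      intro x
      rw [hB0, hA0]
      exact hmemMg x
    | succ i ih =>
      intro x
      rw [hB i, hA i, mem_core_iff, mem_core_iff, hmemMg]
      have ih' : ∀ x, x ∈ A i ↔ g * x * g⁻¹ ∈ B i := by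
        intro x
        rw [ih, hgg]
      constructor
      · rintro ⟨h1, h2⟩
        refine ⟨h1, fun m hm => ?_⟩
        -- `m (g x g⁻¹) m⁻¹ = g ((g m g⁻¹) x (g m g⁻¹)⁻¹) g⁻¹`
        have hm' : g * m * g⁻¹ ∈ Mg := by rw [hmemMg, hgg]; exact hm
        have h3 := h2 (g * m * g⁻¹) hm'
        have h4 : m * (g * x * g⁻¹) * m⁻¹ = g * (g * m * g⁻¹ * x * (g * m * g⁻¹)⁻¹) * g⁻¹ := by
          rw [hginv]
          calc m * (g * x * g) * m⁻¹ = (g * g) * m * (g * x * g) * m⁻¹ * (g * g) := by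
                rw [hg, one_mul, mul_one]
            _ = g * (g * m * g * x * (g * m * g)⁻¹) * g := by
                have : (g * m * g)⁻¹ = g⁻¹ * m⁻¹ * g⁻¹ := by group
                rw [this, hginv]; group
        rw [h4, Subgroup.mem_inf, ← ih, ← ih']
        exact ⟨h3.2, h3.1⟩
      · rintro ⟨h1, h2⟩
        refine ⟨h1, fun m hm => ?_⟩
        have hm' : g * m * g⁻¹ ∈ M := (hmemMg m).mp hm
        have h3 := h2 (g * m * g⁻¹) hm'
        have h4 : g * m * g⁻¹ * (g * x * g⁻¹) * (g * m * g⁻¹)⁻¹ = g * (m * x * m⁻¹) * g⁻¹ := by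
          group
        rw [h4, Subgroup.mem_inf, ← ih, ← ih'] at h3
        exact ⟨h3.2, h3.1⟩
  -- the induction
  intro i hi
  induction i with
  | zero => omega
  | succ i ih =>
    rcases Nat.eq_zero_or_pos i with h0 | hpos
    · subst h0
      -- `A 1 = Q 2`
      apply le_antisymm
      · apply u0 (A 1)
        · intro x hx
          rw [hA 0, mem_core_iff] at hx
          exact hx.1
        · intro p hp y hy
          rw [hA 0, mem_core_iff] at hy ⊢
          refine ⟨M.mul_mem (M.mul_mem hp hy.1) (M.inv_mem hp), fun m hm => ?_⟩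
          have := hy.2 (m * p) (M.mul_mem hm hp)
          have h4 : m * (p * y * p⁻¹) * m⁻¹ = m * p * y * (m * p)⁻¹ := by group
          rw [h4]; exact this
        · intro y hy
          rw [hA 0, mem_core_iff] at hy
          have := hy.2 1 M.one_mem
          rw [one_mul, inv_one, mul_one, Subgroup.mem_inf, hB0] at this
          exact (hmemMg y).mp this.2
      · intro y hy
        rw [hA 0, mem_core_iff]
        have hyM : y ∈ M := q1 (qmono 1 hy)
        refine ⟨hyM, fun m hm => ?_⟩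
        have h1 : m * y * m⁻¹ ∈ Q 2 := qnorm 2 m hm y hy
        rw [Subgroup.mem_inf, hA0, hB0]
        refine ⟨q1 (qmono 1 h1), ?_⟩
        rw [hmemMg]
        exact q1 (q2 1 le_rfl _ h1)
    · have ihA := ih hpos
      -- `A (i+1) = Q (i+2)` from `A i = Q (i+1)`, `B i = g Q (i+1) g⁻¹`
      apply le_antisymm
      · apply uk (i + 1) (by omega) (A (i + 1))
        · intro x hx
          rw [hA i, mem_core_iff] at hx
          have := hx.2 1 M.one_mem
          rw [one_mul, inv_one, mul_one, Subgroup.mem_inf, ihA] at this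
          exact this.1
        · intro p hp y hy
          rw [hA i, mem_core_iff] at hy ⊢
          refine ⟨M.mul_mem (M.mul_mem hp hy.1) (M.inv_mem hp), fun m hm => ?_⟩
          have := hy.2 (m * p) (M.mul_mem hm hp)
          have h4 : m * (p * y * p⁻¹) * m⁻¹ = m * p * y * (m * p)⁻¹ := by group
          rw [h4]; exact this
        · intro y hy
          rw [hA i, mem_core_iff] at hy
          have := hy.2 1 M.one_mem
          rw [one_mul, inv_one, mul_one, Subgroup.mem_inf, hsym i, ihA] at this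
          exact this.2
      · intro y hy
        rw [hA i, mem_core_iff]
        have hyM : y ∈ M := by
          have h1 : ∀ k, Q (k + 1) ≤ Q 1 := by
            intro k
            induction k with
            | zero => exact le_rfl
            | succ k ihk => exact (qmono (k + 1)).trans ihk
          exact q1 (h1 _ hy)
        refine ⟨hyM, fun m hm => ?_⟩
        have h1 : m * y * m⁻¹ ∈ Q (i + 1 + 1) := qnorm _ m hm y hy
        rw [Subgroup.mem_inf, hsym i, ihA]
        exact ⟨qmono _ h1, q2 (i + 1) (by omega) _ h1⟩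

end Cfsg.Agent.S5751P
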