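import Mathlib
import Cfsg.Agent.Helper21.S5949Basic
import Cfsg.Agent.Helper21.S5949IRR
import Cfsg.Agent.Helper21.S5949CYCMAIN

set_option autoImplicit false
set_option linter.style.haveILetI false

/-! S5951 piece F-FLAGS: flags of invariant subspaces (nested versions of IRR, CHAIN, CYCMAIN). -/

namespace Cfsg.Agent.S5949P

open Polynomial

namespace FLAGS

section Lift

variable {F V : Type*} [Field F] [AddCommGroup V] [Module F V]

/-- an invariant subspace of an invariant subspace, seen in the big space -/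
theorem lift_invariant (f : Module.End F V) (W : Submodule F V) (hW : ∀ v ∈ W, f v ∈ W)
    (U' : Submodule F W) (hU' : U'.map (f.restrict hW) ≤ U') :
    U'.map W.subtype ≤ W ∧ (U'.map W.subtype).map f ≤ U'.map W.subtype ∧
      Module.finrank F (U'.map W.subtype) = Module.finrank F U' := by
  refine ⟨?_, ?_, Submodule.finrank_map_subtype_eq W U'⟩
  · rintro _ ⟨w, _, rfl⟩
    exact w.2
  · rintro _ ⟨_, ⟨w, hw, rfl⟩, rfl⟩
    exact ⟨f.restrict hW w, hU' ⟨w, hw, rfl⟩, rfl⟩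

/-- the fixed space of the restriction -/
theorem finrank_ker_restrict (f : Module.End F V) (U : Submodule F V) (hU : ∀ v ∈ U, f v ∈ U) :
    Module.finrank F (LinearMap.ker (f.restrict hU - 1)) =
      Module.finrank F ↥(U ⊓ LinearMap.ker (f - 1)) := by
  have heq : (LinearMap.ker (f.restrict hU - 1)).map U.subtype = U ⊓ LinearMap.ker (f - 1) := by
    ext v
    constructor
    · rintro ⟨u, hu, rfl⟩
      have hu' : (f.restrict hU - 1) u = 0 := hu
      rw [LinearMap.sub_apply, sub_eq_zero] at hu'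
      refine ⟨u.2, ?_⟩
      show (f - 1) (u : V) = 0
      rw [LinearMap.sub_apply, sub_eq_zero]
      exact congrArg Subtype.val hu'
    · rintro ⟨hvU, hv⟩
      have hv' : (f - 1) v = 0 := hv
      rw [LinearMap.sub_apply, sub_eq_zero] at hv'
      refine ⟨⟨v, hvU⟩, ?_, rfl⟩
      show (f.restrict hU - 1) ⟨v, hvU⟩ = 0
      rw [LinearMap.sub_apply, sub_eq_zero]
      exact Subtype.ext hv'
  rw [← Submodule.finrank_map_subtype_eq U (LinearMap.ker (f.restrict hU - 1)), heq]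

end Lift

end FLAGS

/-- F-IRR -/
theorem irr_module_flag {F V : Type*} [Field F] [AddCommGroup V] [Module F V]
    [FiniteDimensional F V] (f : Module.End F V) (g : F[X]) (hg : Irreducible g) (hmon : g.Monic)
    (hgf : aeval f g = 0) (k₁ k₂ : ℕ) (hk : k₁ ≤ k₂)
    (hk₂ : k₂ * g.natDegree ≤ Module.finrank F V) :
    ∃ U W : Submodule F V, U ≤ W ∧ U.map f ≤ U ∧ W.map f ≤ W ∧
      Module.finrank F U = k₁ * g.natDegree ∧ Module.finrank F W = k₂ * g.natDegree := by
  obtain ⟨W, hWinv, hWdim⟩ := (irr_module f g hg hmon hgf).2.2.1 k₂ hk₂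
  have hW' : ∀ v ∈ W, f v ∈ W := fun v hv => hWinv ⟨v, hv, rfl⟩
  have h0 : aeval (f.restrict hW') g = 0 :=
    Basic.aeval_restrict_eq_zero f W hW' g (fun v _ => by rw [hgf]; rfl)
  obtain ⟨U', hU'inv, hU'dim⟩ := (irr_module (f.restrict hW') g hg hmon h0).2.2.1 k₁ (by
    rw [hWdim]; exact Nat.mul_le_mul_right _ hk)
  obtain ⟨h1, h2, h3⟩ := FLAGS.lift_invariant f W hW' U' hU'inv
  exact ⟨U'.map W.subtype, W, h1, h2, hWinv, by rw [h3, hU'dim], hWdim⟩

/-- nested version of CHAIN -/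
theorem chain_flag {F V : Type*} [Field F] [AddCommGroup V] [Module F V]
    [FiniteDimensional F V] (f : Module.End F V) (P : F[X]) (hP : aeval f P = 0) (i : ℕ)
    (hdeg : ∀ μ : F[X], Irreducible μ → μ ∣ P → μ.natDegree = i) (k₁ k₂ : ℕ) (hk : k₁ ≤ k₂)
    (hk₂ : k₂ * i ≤ Module.finrank F V) :
    ∃ U W : Submodule F V, U ≤ W ∧ U.map f ≤ U ∧ W.map f ≤ W ∧
      Module.finrank F U = k₁ * i ∧ Module.finrank F W = k₂ * i := by
  obtain ⟨W, hWinv, hWdim⟩ := (chain_invariant f P hP i hdeg).2.2 k₂ hk₂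
  have hW' : ∀ v ∈ W, f v ∈ W := fun v hv => hWinv ⟨v, hv, rfl⟩
  have h0 : aeval (f.restrict hW') P = 0 :=
    Basic.aeval_restrict_eq_zero f W hW' P (fun v _ => by rw [hP]; rfl)
  obtain ⟨U', hU'inv, hU'dim⟩ := (chain_invariant (f.restrict hW') P h0 i hdeg).2.2 k₁ (by
    rw [hWdim]; exact Nat.mul_le_mul_right _ hk)
  obtain ⟨h1, h2, h3⟩ := FLAGS.lift_invariant f W hW' U' hU'inv
  exact ⟨U'.map W.subtype, W, h1, h2, hWinv, by rw [h3, hU'dim], hWdim⟩

/-- F-CYC -/
theorem cyc_flag {F V : Type*} [Field F] [Fintype F] [AddCommGroup V] [Module F V]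
    [FiniteDimensional F V] {p : ℕ} [Fact p.Prime] [CharP F p] (r : ℕ) [Fact r.Prime] (hrp : r ≠ p)
    (f : Module.End F V) (hf : f ^ r = 1) :
    (∀ U W : Submodule F V, U ≤ W → U.map f ≤ U → W.map f ≤ W → ∃ a₁ b₁ a₂ b₂ : ℕ,
      a₁ ≤ a₂ ∧ a₂ ≤ Module.finrank F (LinearMap.ker (f - 1)) ∧
      Module.finrank F U = a₁ + orderOf ((Fintype.card F : ℕ) : ZMod r) * b₁ ∧
      Module.finrank F W = a₂ + orderOf ((Fintype.card F : ℕ) : ZMod r) * b₂) ∧
    (∀ a₁ b₁ a₂ b₂ : ℕ, a₁ ≤ a₂ → b₁ ≤ b₂ → a₂ ≤ Module.finrank F (LinearMap.ker (f - 1)) →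
      Module.finrank F (LinearMap.ker (f - 1)) + orderOf ((Fintype.card F : ℕ) : ZMod r) * b₂ ≤
        Module.finrank F V →
      ∃ U W : Submodule F V, U ≤ W ∧ U.map f ≤ U ∧ W.map f ≤ W ∧
        Module.finrank F U = a₁ + orderOf ((Fintype.card F : ℕ) : ZMod r) * b₁ ∧
        Module.finrank F W = a₂ + orderOf ((Fintype.card F : ℕ) : ZMod r) * b₂) := by
  obtain ⟨i, hi⟩ : ∃ i : ℕ, i = orderOf ((Fintype.card F : ℕ) : ZMod r) := ⟨_, rfl⟩
  rw [← hi]
  -- dimension formula for an invariant subspace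
  have key : ∀ U : Submodule F V, U.map f ≤ U → ∃ b : ℕ,
      Module.finrank F U = Module.finrank F ↥(U ⊓ LinearMap.ker (f - 1)) + i * b := by
    intro U hU
    have hU' : ∀ v ∈ U, f v ∈ U := fun v hv => hU ⟨v, hv, rfl⟩
    have hfU : (f.restrict hU') ^ r = 1 := by
      ext w
      have := Basic.pow_intertwine U.subtype (f.restrict hU') f (fun _ => rfl) r w
      rw [hf] at this
      exact this
    have hadd := CYC.finrank_add r hrp (f.restrict hU') hfU
    have hdvd := CYC.finrank_ker_dvd r hrp (f.restrict hU')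
    rw [← hi] at hdvd
    obtain ⟨b, hb⟩ := hdvd
    refine ⟨b, ?_⟩
    rw [← hadd, hb, FLAGS.finrank_ker_restrict]
  constructor
  · intro U W hUW hU hW
    obtain ⟨b₁, hb₁⟩ := key U hU
    obtain ⟨b₂, hb₂⟩ := key W hW
    refine ⟨_, b₁, _, b₂, ?_, ?_, hb₁, hb₂⟩
    · exact Submodule.finrank_mono (inf_le_inf_right _ hUW)
    · exact Submodule.finrank_mono inf_le_right
  · intro a₁ b₁ a₂ b₂ ha hb ha₂ hb₂
    have hadd := CYC.finrank_add r hrp f hf
    have hb₂' : b₂ * i ≤ Module.finrank F (LinearMap.ker (aeval f (cyclotomic r F))) := by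
      rw [mul_comm]; omega
    have h0 : aeval (f.restrict (CYC.ker_invariant f (cyclotomic r F))) (cyclotomic r F) = 0 :=
      Basic.aeval_restrict_eq_zero f _ _ _ (fun v hv => LinearMap.mem_ker.1 hv)
    obtain ⟨U2', W2', hUW2', hU2inv, hW2inv, hU2dim, hW2dim⟩ :=
      chain_flag (f.restrict (CYC.ker_invariant f (cyclotomic r F))) (cyclotomic r F) h0
        i (fun μ hμ hdvd => by
          rw [hi]; exact natDegree_of_dvd_cyclotomic r hrp μ hμ hdvd) b₁ b₂ hb hb₂'
    obtain ⟨W1, hW1le, hW1dim⟩ :=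
      Basic.exists_submodule_le_finrank_eq (LinearMap.ker (f - 1)) a₂ ha₂
    obtain ⟨U1, hU1le, hU1dim⟩ :=
      Basic.exists_submodule_le_finrank_eq W1 a₁ (by rw [hW1dim]; exact ha)
    obtain ⟨hU2le, hU2inv', hU2dim'⟩ := FLAGS.lift_invariant f _ (CYC.ker_invariant f _) U2' hU2inv
    obtain ⟨hW2le, hW2inv', hW2dim'⟩ := FLAGS.lift_invariant f _ (CYC.ker_invariant f _) W2' hW2inv
    have hdisj := (CYC.decomp r hrp f hf).disjoint
    have hfix : ∀ X : Submodule F V, X ≤ LinearMap.ker (f - 1) → X.map f ≤ X := by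
      intro X hX
      rintro _ ⟨v, hv, rfl⟩
      have := hX hv
      rw [LinearMap.mem_ker, LinearMap.sub_apply, sub_eq_zero] at this
      rw [this]; exact hv
    have hsum : ∀ X Y : Submodule F V, X ≤ LinearMap.ker (f - 1) →
        Y ≤ LinearMap.ker (aeval f (cyclotomic r F)) →
        Module.finrank F ↥(X ⊔ Y) = Module.finrank F X + Module.finrank F Y := by
      intro X Y hX hY
      have h := Submodule.finrank_sup_add_finrank_inf_eq X Y
      rw [(hdisj.mono hX hY).eq_bot, finrank_bot, add_zero] at h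
      exact h
    refine ⟨U1 ⊔ U2'.map (LinearMap.ker (aeval f (cyclotomic r F))).subtype,
      W1 ⊔ W2'.map (LinearMap.ker (aeval f (cyclotomic r F))).subtype, ?_, ?_, ?_, ?_, ?_⟩
    · exact sup_le_sup hU1le (Submodule.map_mono hUW2')
    · rw [Submodule.map_sup]
      exact sup_le_sup (hfix U1 (hU1le.trans hW1le)) hU2inv'
    · rw [Submodule.map_sup]
      exact sup_le_sup (hfix W1 hW1le) hW2inv'
    · rw [hsum _ _ (hU1le.trans hW1le) hU2le, hU1dim, hU2dim', hU2dim, mul_comm]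
    · rw [hsum _ _ hW1le hW2le, hW1dim, hW2dim', hW2dim, mul_comm]

end Cfsg.Agent.S5949P
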