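import Mathlib

set_option autoImplicit false

/-! S5958: basic lemmas on a family of subspaces permuted by an endomorphism. -/

namespace Cfsg.Agent.S5958P

section Basic

variable {F V ι : Type*} [Field F] [AddCommGroup V] [Module F V]

/-- powers of `f` permute the family by powers of `σ` -/
theorem map_pow_perm (D : ι → Submodule F V) (f : Module.End F V) (σ : Equiv.Perm ι)
    (hσ : ∀ j, (D j).map f = D (σ j)) (k : ℕ) (j : ι) :
    (D j).map (f ^ k) = D ((σ ^ k) j) := by
  induction k generalizing j with
  | zero =>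
    rw [pow_zero, pow_zero, Equiv.Perm.one_apply]
    exact Submodule.map_id _
  | succ k ih =>
    rw [pow_succ, Module.End.mul_eq_comp, Submodule.map_comp, hσ, ih, pow_succ,
      Equiv.Perm.mul_apply]

/-- if `f ^ r = 1` then `σ ^ r = 1`, for an independent family of nonzero subspaces -/
theorem perm_pow_eq_one (D : ι → Submodule F V) (hind : iSupIndep D) (hne : ∀ j, D j ≠ ⊥)
    (f : Module.End F V) (σ : Equiv.Perm ι) (hσ : ∀ j, (D j).map f = D (σ j)) (r : ℕ)
    (hf : f ^ r = 1) : σ ^ r = 1 := by
  ext j
  have h := map_pow_perm D f σ hσ r j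
  rw [hf] at h
  have h2 : (D j).map (1 : Module.End F V) = D j := Submodule.map_id _
  rw [h2] at h
  rw [Equiv.Perm.one_apply]
  exact (hind.injective hne h).symm

/-- the orbit of a moved point under a permutation of prime order `r` has `r` distinct points -/
theorem orbit_injective (r : ℕ) (hr : r.Prime) (σ : Equiv.Perm ι) (hσr : σ ^ r = 1) (j : ι)
    (hj : σ j ≠ j) (i i' : ℕ) (hi : i < r) (hi' : i' < r) (h : (σ ^ i) j = (σ ^ i') j) :
    i = i' := by
  wlog hle : i ≤ i' generalizing i i'
  · exact (this i' i hi' hi h.symm (by omega)).symm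
  by_contra hne
  have hlt : i < i' := lt_of_le_of_ne hle hne
  obtain ⟨d, hd⟩ : ∃ d, i' = i + d := ⟨i' - i, by omega⟩
  have hd0 : 0 < d := by omega
  have hdr : d < r := by omega
  rw [hd, pow_add, Equiv.Perm.mul_apply] at h
  have h1 : (σ ^ d) j = j := ((σ ^ i).injective h).symm
  -- `d` is coprime to `r`
  have hcop : Nat.Coprime d r := by
    rw [Nat.coprime_comm]
    exact (Nat.Prime.coprime_iff_not_dvd hr).2 (fun hdvd => by
      have := Nat.le_of_dvd hd0 hdvd
      omega)
  -- so `σ` is a power of `σ ^ d`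
  obtain ⟨m, -, hm⟩ := Nat.exists_mul_mod_eq_one_of_coprime hcop (hr.one_lt)
  have h2 : σ ^ (d * m) = σ := by
    have h3 : d * m = r * (d * m / r) + 1 := by
      have := Nat.div_add_mod (d * m) r
      omega
    rw [h3, pow_add, pow_mul, hσr, one_pow, one_mul, pow_one]
  have h4 : ∀ k : ℕ, ((σ ^ d) ^ k) j = j := by
    intro k
    induction k with
    | zero => simp
    | succ k ih => rw [pow_succ, Equiv.Perm.mul_apply, h1, ih]
  apply hj
  have := h4 m
  rw [← pow_mul, h2] at this
  exact this

end Basic

end Cfsg.Agent.S5958P
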