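import Mathlib
import Cfsg.Agent.Helper21.S5958Basic

set_option autoImplicit false

/-! S5958 piece CYCLE: if `f` (with `f ^ r = 1`) permutes an independent family of subspaces and
moves `D j`, then no nonzero polynomial of degree `< r` in `f` kills a nonzero vector of `D j`. -/

namespace Cfsg.Agent.S5958P

open Polynomial

namespace CYCLE

variable {F V : Type*} [Field F] [AddCommGroup V] [Module F V]

theorem pow_injective (r : ℕ) (f : Module.End F V) (hf : f ^ r = 1) (i : ℕ) (hi : i ≤ r) :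
    Function.Injective (f ^ i) := by
  intro u v huv
  have h : (f ^ (r - i) * f ^ i) u = (f ^ (r - i) * f ^ i) v := by
    rw [Module.End.mul_apply, Module.End.mul_apply, huv]
  rw [← pow_add, Nat.sub_add_cancel hi, hf] at h
  exact h

/-- the vectors `f ^ i w`, `i < r`, are linearly independent -/
theorem linearIndependent_pow (r : ℕ) [hr : Fact r.Prime] (f : Module.End F V) (hf : f ^ r = 1)
    {t : ℕ} (D : Fin t → Submodule F V) (hind : iSupIndep D) (hne : ∀ j, D j ≠ ⊥)
    (σ : Equiv.Perm (Fin t)) (hσ : ∀ j, (D j).map f = D (σ j)) (j : Fin t) (hj : σ j ≠ j) (w : V)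
    (hw : w ∈ D j) (hw0 : w ≠ 0) :
    LinearIndependent F (fun i : Fin r => (f ^ (i : ℕ)) w) := by
  have hσr : σ ^ r = 1 := perm_pow_eq_one D hind hne f σ hσ r hf
  have hinj : Function.Injective (fun i : Fin r => (σ ^ (i : ℕ)) j) := by
    intro i i' h
    exact Fin.ext (orbit_injective r hr.out σ hσr j hj i i' i.2 i'.2 h)
  have hind' : iSupIndep (fun i : Fin r => D ((σ ^ (i : ℕ)) j)) := hind.comp hinj
  refine hind'.linearIndependent _ ?_ ?_
  · intro i
    rw [← map_pow_perm D f σ hσ]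
    exact ⟨w, hw, rfl⟩
  · intro i h0
    apply hw0
    apply pow_injective r f hf i i.2.le
    rw [h0, map_zero]

end CYCLE

/-- CYCLE -/
theorem cycle_poly {F V : Type*} [Field F] [AddCommGroup V] [Module F V] (r : ℕ) [Fact r.Prime]
    (f : Module.End F V) (hf : f ^ r = 1) {t : ℕ} (D : Fin t → Submodule F V) (hind : iSupIndep D)
    (hne : ∀ j, D j ≠ ⊥) (σ : Equiv.Perm (Fin t)) (hσ : ∀ j, (D j).map f = D (σ j)) (j : Fin t)
    (hj : σ j ≠ j) (w : V) (hw : w ∈ D j) (hw0 : w ≠ 0) (P : F[X]) (hP : P.natDegree < r)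
    (h0 : aeval f P w = 0) : P = 0 := by
  have hli := CYCLE.linearIndependent_pow r f hf D hind hne σ hσ j hj w hw hw0
  rw [aeval_eq_sum_range' hP, LinearMap.sum_apply, Finset.sum_range] at h0
  have h1 : ∑ i : Fin r, P.coeff (i : ℕ) • (f ^ (i : ℕ)) w = 0 := by
    rw [← h0]
    apply Finset.sum_congr rfl
    intro i _
    rw [LinearMap.smul_apply]
  have h2 := Fintype.linearIndependent_iff.1 hli (fun i => P.coeff (i : ℕ)) h1
  ext k
  rw [coeff_zero]
  by_cases hk : k < r
  · exact h2 ⟨k, hk⟩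
  · exact coeff_eq_zero_of_natDegree_lt (by omega)

end Cfsg.Agent.S5958P
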