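import Mathlib
import Cfsg.Agent.Helper21.S5958Basic
import Cfsg.Agent.Helper21.S5958CYCLE

set_option autoImplicit false

/-! S5958 piece BLOCK: if `f` (with `f ^ r = 1`) permutes an independent family of `a`-dimensional
subspaces and moves `D j`, then the fixed space of `f` has dimension at least `a` and codimension at
least `(r - 1) * a`. -/

namespace Cfsg.Agent.S5958P

namespace BLOCK

variable {F V : Type*} [Field F] [AddCommGroup V] [Module F V]

/-- components in an independent family -/
theorem eq_zero_of_sum_eq_zero {ι : Type*} [Fintype ι] [DecidableEq ι] (p : ι → Submodule F V)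
    (hp : iSupIndep p) (u : ι → V) (hu : ∀ i, u i ∈ p i) (h : ∑ i, u i = 0) (i : ι) : u i = 0 := by
  have h1 : u i = - ∑ k ∈ Finset.univ.erase i, u k := by
    rw [← Finset.add_sum_erase Finset.univ u (Finset.mem_univ i)] at h
    exact eq_neg_of_add_eq_zero_left h
  have h2 : u i ∈ ⨆ k, ⨆ (_ : k ≠ i), p k := by
    rw [h1]
    apply Submodule.neg_mem
    apply Submodule.sum_mem
    intro k hk
    have hki : k ≠ i := Finset.ne_of_mem_erase hk
    exact (le_iSup₂ (f := fun k (_ : k ≠ i) => p k) k hki) (hu k)
  exact Submodule.disjoint_def.1 (hp i) (u i) (hu i) h2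

end BLOCK

open BLOCK in
/-- BLOCK -/
theorem block_bound {F V : Type*} [Field F] [AddCommGroup V] [Module F V] [FiniteDimensional F V]
    (r : ℕ) [Fact r.Prime] (f : Module.End F V) (hf : f ^ r = 1) {t : ℕ}
    (D : Fin t → Submodule F V) (hind : iSupIndep D) (a : ℕ) (ha : 1 ≤ a)
    (hdim : ∀ j, Module.finrank F (D j) = a) (σ : Equiv.Perm (Fin t))
    (hσ : ∀ j, (D j).map f = D (σ j)) (j : Fin t) (hj : σ j ≠ j) :
    a ≤ Module.finrank F (LinearMap.ker (f - 1)) ∧
    (r - 1) * a + Module.finrank F (LinearMap.ker (f - 1)) ≤ Module.finrank F V := by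
  classical
  have hr : r.Prime := Fact.out
  have hne : ∀ j, D j ≠ ⊥ := by
    intro j hj
    have := hdim j
    rw [hj, finrank_bot] at this
    omega
  have hσr : σ ^ r = 1 := perm_pow_eq_one D hind hne f σ hσ r hf
  have hinj : Function.Injective (fun i : Fin r => (σ ^ (i : ℕ)) j) := by
    intro i i' h
    exact Fin.ext (orbit_injective r hr σ hσr j hj i i' i.2 i'.2 h)
  have hind' : iSupIndep (fun i : Fin r => D ((σ ^ (i : ℕ)) j)) := hind.comp hinj
  have hmem : ∀ (i : ℕ) (d : V), d ∈ D j → (f ^ i) d ∈ D ((σ ^ i) j) := by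
    intro i d hd
    rw [← map_pow_perm D f σ hσ]
    exact ⟨d, hd, rfl⟩
  constructor
  · -- the norm map is injective on `D j` with image in the fixed space
    let N : Module.End F V := ∑ i ∈ Finset.range r, f ^ i
    have hfN : ∀ v, f (N v) = N v := by
      intro v
      have h1 : f * N = N := by
        show f * ∑ i ∈ Finset.range r, f ^ i = ∑ i ∈ Finset.range r, f ^ i
        rw [Finset.mul_sum]
        have h2 : ∑ i ∈ Finset.range r, f * f ^ i = ∑ i ∈ Finset.range r, f ^ (i + 1) :=
          Finset.sum_congr rfl (fun i _ => (pow_succ' f i).symm)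
        rw [h2]
        obtain ⟨s, rfl⟩ : ∃ s, r = s + 1 := ⟨r - 1, by have := hr.two_le; omega⟩
        rw [Finset.sum_range_succ, Finset.sum_range_succ', hf, pow_zero]
      have := congrArg (fun g : Module.End F V => g v) h1
      exact this
    let g : D j →ₗ[F] LinearMap.ker (f - 1) :=
      LinearMap.codRestrict _ (N ∘ₗ (D j).subtype) (by
        intro d
        rw [LinearMap.mem_ker, LinearMap.sub_apply, Module.End.one_apply, sub_eq_zero]
        exact hfN _)
    have hg : Function.Injective g := by
      rw [← LinearMap.ker_eq_bot, LinearMap.ker_eq_bot']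
      intro d hd
      by_contra hd0
      have hd0' : (d : V) ≠ 0 := fun h => hd0 (Subtype.ext h)
      have hli := CYCLE.linearIndependent_pow r f hf D hind hne σ hσ j hj (d : V) d.2 hd0'
      have h1 : N (d : V) = 0 := by
        have := congrArg Subtype.val hd
        exact this
      have h2 : ∑ i : Fin r, (1 : F) • (f ^ (i : ℕ)) (d : V) = 0 := by
        rw [← h1]
        show _ = (∑ i ∈ Finset.range r, f ^ i) (d : V)
        rw [LinearMap.sum_apply, Finset.sum_range]
        apply Finset.sum_congr rfl
        intro i _
        rw [one_smul]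
      have h3 := Fintype.linearIndependent_iff.1 hli (fun _ => (1 : F)) h2 ⟨0, hr.pos⟩
      exact one_ne_zero h3
    have := LinearMap.finrank_le_finrank_of_injective hg
    rw [hdim j] at this
    exact this
  · -- `(f - 1) ∘ Ψ` is injective on `(D j) ^ (r - 1)`
    obtain ⟨s, hs⟩ : ∃ s, r = s + 1 := ⟨r - 1, by have := hr.two_le; omega⟩
    have hs' : r - 1 = s := by omega
    rw [hs']
    let Ψ : (Fin s → D j) →ₗ[F] V :=
      ∑ i : Fin s, (f ^ (i : ℕ)) ∘ₗ (D j).subtype ∘ₗ LinearMap.proj i
    let Θ : (Fin s → D j) →ₗ[F] V := (f - 1) ∘ₗ Ψ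
    have hΨ : ∀ d : Fin s → D j, Ψ d = ∑ i : Fin s, (f ^ (i : ℕ)) (d i : V) := by
      intro d
      show (∑ i : Fin s, (f ^ (i : ℕ)) ∘ₗ (D j).subtype ∘ₗ LinearMap.proj i) d = _
      rw [LinearMap.sum_apply]
      rfl
    have hpinj : ∀ i : ℕ, i ≤ r → Function.Injective (f ^ i) :=
      fun i hi => CYCLE.pow_injective r f hf i hi
    have hΘ : Function.Injective Θ := by
      rw [← LinearMap.ker_eq_bot, LinearMap.ker_eq_bot']
      intro d hd
      -- extend `d` by zero
      let d' : ℕ → V := fun i => if h : i < s then (d ⟨i, h⟩ : V) else 0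
      have hd'mem : ∀ i, d' i ∈ D j := by
        intro i
        show (if h : i < s then (d ⟨i, h⟩ : V) else 0) ∈ D j
        split_ifs with h
        · exact (d ⟨i, h⟩).2
        · exact (D j).zero_mem
      have hd's : d' s = 0 := by
        show (if h : s < s then (d ⟨s, h⟩ : V) else 0) = 0
        rw [dif_neg (lt_irrefl s)]
      have hΨd : Ψ d = ∑ i ∈ Finset.range s, (f ^ i) (d' i) := by
        rw [hΨ, Finset.sum_range]
        apply Finset.sum_congr rfl
        intro i _
        show _ = (f ^ (i : ℕ)) (if h : (i : ℕ) < s then (d ⟨i, h⟩ : V) else 0)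
        rw [dif_pos i.2]
      -- the components of `(f - 1) (Ψ d)`
      let e : ℕ → V := fun i => (if i = 0 then 0 else d' (i - 1)) - d' i
      have hemem : ∀ i, e i ∈ D j := by
        intro i
        apply Submodule.sub_mem
        · split_ifs
          · exact (D j).zero_mem
          · exact hd'mem _
        · exact hd'mem _
      have hsum : ∑ i ∈ Finset.range (s + 1), (f ^ i) (e i) = 0 := by
        have h1 : ∑ i ∈ Finset.range (s + 1), (f ^ i) (e i) =
            ∑ i ∈ Finset.range (s + 1), (f ^ i) (if i = 0 then 0 else d' (i - 1)) -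
            ∑ i ∈ Finset.range (s + 1), (f ^ i) (d' i) := by
          rw [← Finset.sum_sub_distrib]
          apply Finset.sum_congr rfl
          intro i _
          rw [← map_sub]
        have h2 : ∑ i ∈ Finset.range (s + 1), (f ^ i) (if i = 0 then 0 else d' (i - 1)) =
            ∑ i ∈ Finset.range s, (f ^ (i + 1)) (d' i) := by
          rw [Finset.sum_range_succ']
          simp
        have h3 : ∑ i ∈ Finset.range (s + 1), (f ^ i) (d' i) =
            ∑ i ∈ Finset.range s, (f ^ i) (d' i) := by
          rw [Finset.sum_range_succ, hd's, map_zero, add_zero]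
        rw [h1, h2, h3]
        have h4 : Θ d = 0 := hd
        have h5 : Θ d = (f - 1) (Ψ d) := rfl
        rw [h5, hΨd, LinearMap.sub_apply, Module.End.one_apply, map_sum] at h4
        rw [← h4]
        congr 1
        apply Finset.sum_congr rfl
        intro i _
        rw [pow_succ', Module.End.mul_apply]
      have hcomp : ∀ i : Fin r, (f ^ (i : ℕ)) (e i) = 0 := by
        intro i
        have hsum' : ∑ i : Fin r, (f ^ (i : ℕ)) (e i) = 0 := by
          rw [← hsum, hs, Finset.sum_range]
        exact eq_zero_of_sum_eq_zero _ hind' (fun i : Fin r => (f ^ (i : ℕ)) (e i))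
          (fun i => hmem i (e i) (hemem i)) hsum' i
      have he0 : ∀ i, i < r → e i = 0 := by
        intro i hi
        have := hcomp ⟨i, hi⟩
        apply hpinj i hi.le
        rw [map_zero]
        exact this
      have hd'0 : ∀ i, i < r → d' i = 0 := by
        intro i
        induction i with
        | zero =>
          intro hi
          have := he0 0 hi
          show d' 0 = 0
          have h1 : e 0 = (0 : V) - d' 0 := by
            show (if (0 : ℕ) = 0 then 0 else d' (0 - 1)) - d' 0 = 0 - d' 0
            rw [if_pos rfl]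
          rw [h1, zero_sub, neg_eq_zero] at this
          exact this
        | succ i ih =>
          intro hi
          have := he0 (i + 1) hi
          have h1 : e (i + 1) = d' i - d' (i + 1) := by
            show (if i + 1 = 0 then 0 else d' (i + 1 - 1)) - d' (i + 1) = _
            rw [if_neg (Nat.succ_ne_zero i), Nat.add_sub_cancel]
          rw [h1, ih (by omega), zero_sub, neg_eq_zero] at this
          exact this
      funext i
      apply Subtype.ext
      have := hd'0 i (by have := i.2; omega)
      have h1 : d' i = (d i : V) := by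
        show (if h : (i : ℕ) < s then (d ⟨i, h⟩ : V) else 0) = _
        rw [dif_pos i.2]
      rw [h1] at this
      exact this
    have h1 : Module.finrank F (Fin s → D j) = s * a := by
      rw [Module.finrank_pi_fintype]
      simp [hdim j]
    have h2 : Module.finrank F (LinearMap.range Θ) = s * a := by
      rw [LinearMap.finrank_range_of_inj hΘ, h1]
    have h3 : LinearMap.range Θ ≤ LinearMap.range (f - 1) := by
      rintro _ ⟨d, rfl⟩
      exact ⟨Ψ d, rfl⟩
    have h4 := Submodule.finrank_mono h3
    have h5 := LinearMap.finrank_range_add_finrank_ker (f - 1)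
    omega

end Cfsg.Agent.S5958P
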