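import Mathlib
import Cfsg.Prelude.Def_GeometricClasses
import Cfsg.Prelude.Def_ClassicalGeometry
import Cfsg.Agent.Helper27.S5975Defs
import Cfsg.Agent.Helper21.S5975PERF

set_option autoImplicit false
open scoped MatrixGroups

/-! S5975 piece SPLIT: the orthogonal complement of a `K`-hyperbolic pair. -/

namespace Cfsg.Agent.S5975P

namespace SPLIT

variable {F : Type*} [Field F] {d : ℕ}
  {K : Subalgebra F (Matrix (Fin d ⊕ Fin d) (Fin d ⊕ Fin d) F)}

/-- `a ↦ a u` as a linear map -/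
def ev (K : Subalgebra F (Matrix (Fin d ⊕ Fin d) (Fin d ⊕ Fin d) F)) (u : Fin d ⊕ Fin d → F) :
    K →ₗ[F] (Fin d ⊕ Fin d → F) where
  toFun a := a.1.mulVec u
  map_add' a b := by rw [Subalgebra.coe_add, Matrix.add_mulVec]
  map_smul' c a := by rw [Subalgebra.coe_smul, Matrix.smul_mulVec, RingHom.id_apply]

theorem ev_apply (u : Fin d ⊕ Fin d → F) (a : K) : ev K u a = a.1.mulVec u := rfl

/-- `a ↦ f (a u) w` as a functional -/
def fn (K : Subalgebra F (Matrix (Fin d ⊕ Fin d) (Fin d ⊕ Fin d) F)) (u w : Fin d ⊕ Fin d → F) :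
    K →ₗ[F] F where
  toFun a := Cfsg.sympForm d F (a.1.mulVec u) w
  map_add' a b := by rw [Subalgebra.coe_add, Matrix.add_mulVec, sympForm_add_left]
  map_smul' c a := by
    rw [Subalgebra.coe_smul, Matrix.smul_mulVec, sympForm_smul_left, RingHom.id_apply, smul_eq_mul]

theorem fn_apply (u w : Fin d ⊕ Fin d → F) (a : K) :
    fn K u w a = Cfsg.sympForm d F (a.1.mulVec u) w := rfl

theorem mul_mulVec (a b : K) (x : Fin d ⊕ Fin d → F) :
    (a * b).1.mulVec x = a.1.mulVec (b.1.mulVec x) := by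
  rw [Subalgebra.coe_mul, Matrix.mulVec_mulVec]

/-- `τ ≠ 0`, `τ (a β) = 0` for all `a`: `β = 0` -/
theorem eq_zero_of_tau {k : ℕ} (hK : Cfsg.Geo.IsFieldSubalgebra k K) (τ : K →ₗ[F] F) (hτ : τ ≠ 0)
    (β : K) (h : ∀ a : K, τ (a * β) = 0) : β = 0 := by
  by_contra hne
  have hne' : (β : Matrix (Fin d ⊕ Fin d) (Fin d ⊕ Fin d) F) ≠ 0 := fun h => hne (Subtype.ext h)
  obtain ⟨y, hyK, hy⟩ := hK.inv β.1 β.2 hne'
  apply hτ
  ext a
  have h1 := h (a * ⟨y, hyK⟩)
  have h2 : (⟨y, hyK⟩ : K) * β = 1 := by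
    apply Subtype.ext
    rw [Subalgebra.coe_mul, Subalgebra.coe_one]
    show y * β.1 = 1
    rw [hK.comm y hyK β.1 β.2, hy]
  rw [mul_assoc, h2, mul_one] at h1
  rw [h1]; rfl

end SPLIT

open SPLIT in
/-- SPLIT (uses PERF) -/
theorem exists_complement {F : Type*} [Field F] (d k : ℕ) (hk : 0 < k)
    (K : Subalgebra F (Matrix (Fin d ⊕ Fin d) (Fin d ⊕ Fin d) F)) (hK : HypK d k F K)
    (τ : K →ₗ[F] F) (hτ : τ ≠ 0) (W : Submodule F (Fin d ⊕ Fin d → F))
    (hWK : KInv d F K W) (hWnd : NDeg d F W)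
    (u v : Fin d ⊕ Fin d → F) (hu : u ∈ W) (hv : v ∈ W)
    (huv : ∀ a b : K, Cfsg.sympForm d F (a.1.mulVec u) (b.1.mulVec v) = τ (a * b)) :
    ∃ W' : Submodule F (Fin d ⊕ Fin d → F), W' ≤ W ∧ KInv d F K W' ∧ NDeg d F W' ∧
      Module.finrank F W' + 2 * k = Module.finrank F W ∧
      (∀ w' ∈ W', ∀ a : K, Cfsg.sympForm d F (a.1.mulVec u) w' = 0 ∧
        Cfsg.sympForm d F (a.1.mulVec v) w' = 0) ∧
      (∀ w ∈ W, ∃ a b : K, w - a.1.mulVec u - b.1.mulVec v ∈ W') := by
  classical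
  have hfin : Module.Finite F K :=
    Module.finite_of_finrank_pos (by rw [hK.field.finrank_eq]; exact hk)
  have hcomm : ∀ a b : K, a * b = b * a := fun a b => Subtype.ext (hK.field.comm a.1 a.2 b.1 b.2)
  -- basic identities
  have huu : ∀ a b : K, Cfsg.sympForm d F (a.1.mulVec u) (b.1.mulVec u) = 0 :=
    fun a b => hK.form_smul_smul_self a.2 b.2 u
  have hvv : ∀ a b : K, Cfsg.sympForm d F (a.1.mulVec v) (b.1.mulVec v) = 0 :=
    fun a b => hK.form_smul_smul_self a.2 b.2 v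
  have hvu : ∀ a b : K, Cfsg.sympForm d F (a.1.mulVec v) (b.1.mulVec u) = -τ (b * a) := by
    intro a b
    rw [sympForm_swap, huv]
  -- the complement
  let W' : Submodule F (Fin d ⊕ Fin d → F) :=
    { carrier := {w | w ∈ W ∧ ∀ a : K, Cfsg.sympForm d F (a.1.mulVec u) w = 0 ∧
        Cfsg.sympForm d F (a.1.mulVec v) w = 0}
      add_mem' := by
        rintro x y ⟨hx, hx'⟩ ⟨hy, hy'⟩
        refine ⟨W.add_mem hx hy, fun a => ?_⟩
        rw [sympForm_add_right, sympForm_add_right, (hx' a).1, (hx' a).2, (hy' a).1, (hy' a).2,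
          add_zero]
        exact ⟨rfl, rfl⟩
      zero_mem' := ⟨W.zero_mem, fun a => by
        rw [sympForm_zero_right, sympForm_zero_right]; exact ⟨rfl, rfl⟩⟩
      smul_mem' := by
        rintro c x ⟨hx, hx'⟩
        refine ⟨W.smul_mem c hx, fun a => ?_⟩
        rw [sympForm_smul_right, sympForm_smul_right, (hx' a).1, (hx' a).2, mul_zero]
        exact ⟨rfl, rfl⟩ }
  have hW'mem : ∀ w, w ∈ W' ↔ w ∈ W ∧ ∀ a : K, Cfsg.sympForm d F (a.1.mulVec u) w = 0 ∧
      Cfsg.sympForm d F (a.1.mulVec v) w = 0 := fun w => Iff.rfl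
  have hW'le : W' ≤ W := fun w hw => hw.1
  -- decomposition of vectors of `W`
  have hdec : ∀ w ∈ W, ∃ a b : K, w - a.1.mulVec u - b.1.mulVec v ∈ W' := by
    intro w hw
    obtain ⟨β, hβ⟩ := exists_repr_functional d k hk K hK.field τ hτ (fn K u w)
    obtain ⟨α, hα⟩ := exists_repr_functional d k hk K hK.field τ hτ (-(fn K v w))
    refine ⟨α, β, ?_, fun a => ⟨?_, ?_⟩⟩
    · exact W.sub_mem (W.sub_mem hw (hWK _ α.2 _ hu)) (hWK _ β.2 _ hv)
    · rw [sympForm_sub_right, sympForm_sub_right, huu, huv, ← fn_apply, hβ, hcomm a β]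
      ring
    · rw [sympForm_sub_right, sympForm_sub_right, hvv, hvu]
      have := hα a
      rw [LinearMap.neg_apply, fn_apply] at this
      rw [← this]; ring
  -- the hyperbolic part
  let g : (K × K) →ₗ[F] (Fin d ⊕ Fin d → F) := (ev K u).coprod (ev K v)
  have hg : ∀ α β : K, g (α, β) = α.1.mulVec u + β.1.mulVec v := fun α β => rfl
  -- pairing with the hyperbolic part
  have hpair_u : ∀ (a α β : K), Cfsg.sympForm d F (a.1.mulVec u) (g (α, β)) = τ (a * β) := by
    intro a α β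
    rw [hg, sympForm_add_right, huu, huv, zero_add]
  have hpair_v : ∀ (a α β : K), Cfsg.sympForm d F (a.1.mulVec v) (g (α, β)) = -τ (α * a) := by
    intro a α β
    rw [hg, sympForm_add_right, hvv, hvu, add_zero]
  have hzero : ∀ α β : K, g (α, β) ∈ W' → α = 0 ∧ β = 0 := by
    intro α β hmem
    constructor
    · apply eq_zero_of_tau hK.field τ hτ
      intro a
      have := (hmem.2 a).2
      rw [hpair_v, neg_eq_zero] at this
      rw [hcomm a α]; exact this
    · apply eq_zero_of_tau hK.field τ hτ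
      intro a
      have := (hmem.2 a).1
      rwa [hpair_u] at this
  have hginj : Function.Injective g := by
    rw [← LinearMap.ker_eq_bot, LinearMap.ker_eq_bot']
    rintro ⟨α, β⟩ h0
    have hmem : g (α, β) ∈ W' := by rw [h0]; exact W'.zero_mem
    obtain ⟨h1, h2⟩ := hzero α β hmem
    rw [h1, h2]; rfl
  have hrange_le : LinearMap.range g ≤ W := by
    rintro _ ⟨⟨α, β⟩, rfl⟩
    rw [hg]
    exact W.add_mem (hWK _ α.2 _ hu) (hWK _ β.2 _ hv)
  have hsup : LinearMap.range g ⊔ W' = W := by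
    apply le_antisymm (sup_le hrange_le hW'le)
    intro w hw
    obtain ⟨α, β, hαβ⟩ := hdec w hw
    have : w = g (α, β) + (w - α.1.mulVec u - β.1.mulVec v) := by
      rw [hg]; abel
    rw [this]
    exact Submodule.add_mem_sup (LinearMap.mem_range_self g (α, β)) hαβ
  have hinf : LinearMap.range g ⊓ W' = ⊥ := by
    rw [eq_bot_iff]
    rintro _ ⟨⟨⟨α, β⟩, rfl⟩, hmem⟩
    obtain ⟨h1, h2⟩ := hzero α β hmem
    rw [h1, h2]
    show g 0 ∈ ⊥
    rw [map_zero]; exact Submodule.zero_mem _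
  have hrk : Module.finrank F (LinearMap.range g) = 2 * k := by
    rw [LinearMap.finrank_range_of_inj hginj, Module.finrank_prod, hK.field.finrank_eq]; ring
  refine ⟨W', hW'le, ?_, ?_, ?_, fun w' hw' a => hw'.2 a, hdec⟩
  · -- `K`-invariance
    intro b hb w hw
    refine ⟨hWK b hb w hw.1, fun a => ?_⟩
    have h1 : ∀ x : Fin d ⊕ Fin d → F, Cfsg.sympForm d F x (b.mulVec w) =
        Cfsg.sympForm d F (b.mulVec x) w := fun x => (hK.sa b hb x w).symm
    rw [h1, h1]
    have h2 : ∀ x : Fin d ⊕ Fin d → F, b.mulVec (a.1.mulVec x) = ((⟨b, hb⟩ : K) * a).1.mulVec x :=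
      fun x => (mul_mulVec ⟨b, hb⟩ a x).symm
    rw [h2, h2]
    exact hw.2 _
  · -- non-degeneracy
    intro w' hw' hperp
    apply hWnd w' hw'.1
    intro w hw
    obtain ⟨α, β, hαβ⟩ := hdec w hw
    have : w = α.1.mulVec u + β.1.mulVec v + (w - α.1.mulVec u - β.1.mulVec v) := by abel
    rw [this, sympForm_add_right, sympForm_add_right, hperp _ hαβ, sympForm_swap _ _ w',
      (hw'.2 α).1, sympForm_swap _ _ w', (hw'.2 β).2]
    ring
  · -- dimension
    have := Submodule.finrank_sup_add_finrank_inf_eq (LinearMap.range g) W'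
    rw [hsup, hinf, finrank_bot, hrk] at this
    omega

end Cfsg.Agent.S5975P
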