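import Mathlib
import Cfsg.Prelude.Def_GeometricClasses
import Cfsg.Prelude.Def_ClassicalGeometry
import Cfsg.Agent.Helper27.S5975Defs
import Cfsg.Agent.Helper21.S5975SPLIT
import Cfsg.Agent.Helper20.S5975HYP

set_option autoImplicit false
open scoped MatrixGroups

/-! S5975 piece FRAME: a `K`-symplectic frame of a non-degenerate `K`-invariant subspace. -/

namespace Cfsg.Agent.S5975P

namespace FRAME

variable {F : Type*} [Field F] {d : ℕ}

theorem frame_bot (K : Subalgebra F (Matrix (Fin d ⊕ Fin d) (Fin d ⊕ Fin d) F)) (τ : K →ₗ[F] F) :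
    IsFrame d F K τ ⊥ 0 (fun s => Fin.elim0 s) (fun s => Fin.elim0 s) where
  mem_u := fun s => Fin.elim0 s
  mem_v := fun s => Fin.elim0 s
  uu := fun _ _ s => Fin.elim0 s
  vv := fun _ _ s => Fin.elim0 s
  uv := fun _ _ s => Fin.elim0 s
  span := by
    intro w hw
    refine ⟨fun s => Fin.elim0 s, fun s => Fin.elim0 s, ?_⟩
    rw [(Submodule.mem_bot F).1 hw]
    simp

end FRAME

/-- FRAME (uses HYP, SPLIT) -/
theorem exists_frame {F : Type*} [Field F] (d k : ℕ) (hk : 0 < k)
    (K : Subalgebra F (Matrix (Fin d ⊕ Fin d) (Fin d ⊕ Fin d) F)) (hK : HypK d k F K)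
    (τ : K →ₗ[F] F) (hτ : τ ≠ 0) (W : Submodule F (Fin d ⊕ Fin d → F))
    (hWK : KInv d F K W) (hWnd : NDeg d F W) :
    ∃ (m : ℕ) (u v : Fin m → (Fin d ⊕ Fin d → F)),
      IsFrame d F K τ W m u v ∧ Module.finrank F W = 2 * k * m := by
  classical
  induction hN : Module.finrank F W using Nat.strong_induction_on generalizing W with
  | _ N ih =>
  by_cases hbot : W = ⊥
  · subst hbot
    refine ⟨0, _, _, FRAME.frame_bot K τ, ?_⟩
    rw [← hN, finrank_bot, mul_zero]
  · obtain ⟨u₀, hu₀, v₀, hv₀, huv⟩ := exists_hyperbolic_pair d k hk K hK τ W hWK hWnd hbot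
    obtain ⟨W', hW'le, hW'K, hW'nd, hW'rk, hW'perp, hW'dec⟩ :=
      exists_complement d k hk K hK τ hτ W hWK hWnd u₀ v₀ hu₀ hv₀ huv
    obtain ⟨m', u', v', hfr, hrk'⟩ := ih (Module.finrank F W') (by omega) W' hW'K hW'nd rfl
    have hswap : ∀ x y : Fin d ⊕ Fin d → F, Cfsg.sympForm d F y x = 0 →
        Cfsg.sympForm d F x y = 0 := by
      intro x y h
      rw [sympForm_swap, h, neg_zero]
    have hu'mem : ∀ (b : K) (t : Fin m'), b.1.mulVec (u' t) ∈ W' :=
      fun b t => hW'K _ b.2 _ (hfr.mem_u t)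
    have hv'mem : ∀ (b : K) (t : Fin m'), b.1.mulVec (v' t) ∈ W' :=
      fun b t => hW'K _ b.2 _ (hfr.mem_v t)
    refine ⟨m' + 1, Fin.cons u₀ u', Fin.cons v₀ v', ?_, ?_⟩
    · refine ⟨?_, ?_, ?_, ?_, ?_, ?_⟩
      · intro s
        refine Fin.cases ?_ (fun s => ?_) s
        · rw [Fin.cons_zero]; exact hu₀
        · rw [Fin.cons_succ]; exact hW'le (hfr.mem_u s)
      · intro s
        refine Fin.cases ?_ (fun s => ?_) s
        · rw [Fin.cons_zero]; exact hv₀
        · rw [Fin.cons_succ]; exact hW'le (hfr.mem_v s)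
      · intro a b s t
        refine Fin.cases ?_ (fun s => ?_) s <;> refine Fin.cases ?_ (fun t => ?_) t
        · rw [Fin.cons_zero]; exact hK.form_smul_smul_self a.2 b.2 u₀
        · rw [Fin.cons_zero, Fin.cons_succ]; exact (hW'perp _ (hu'mem b t) a).1
        · rw [Fin.cons_zero, Fin.cons_succ]; exact hswap _ _ (hW'perp _ (hu'mem a s) b).1
        · rw [Fin.cons_succ, Fin.cons_succ]; exact hfr.uu a b s t
      · intro a b s t
        refine Fin.cases ?_ (fun s => ?_) s <;> refine Fin.cases ?_ (fun t => ?_) t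
        · rw [Fin.cons_zero]; exact hK.form_smul_smul_self a.2 b.2 v₀
        · rw [Fin.cons_zero, Fin.cons_succ]; exact (hW'perp _ (hv'mem b t) a).2
        · rw [Fin.cons_zero, Fin.cons_succ]; exact hswap _ _ (hW'perp _ (hv'mem a s) b).2
        · rw [Fin.cons_succ, Fin.cons_succ]; exact hfr.vv a b s t
      · intro a b s t
        refine Fin.cases ?_ (fun s => ?_) s <;> refine Fin.cases ?_ (fun t => ?_) t
        · rw [Fin.cons_zero, Fin.cons_zero, if_pos rfl]; exact huv a b
        · rw [Fin.cons_zero, Fin.cons_succ, if_neg (Fin.succ_ne_zero t).symm]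
          exact (hW'perp _ (hv'mem b t) a).1
        · rw [Fin.cons_zero, Fin.cons_succ, if_neg (Fin.succ_ne_zero s)]
          exact hswap _ _ (hW'perp _ (hu'mem a s) b).2
        · rw [Fin.cons_succ, Fin.cons_succ, hfr.uv a b s t]
          simp only [Fin.succ_inj]
      · intro w hw
        obtain ⟨α, β, hαβ⟩ := hW'dec w hw
        obtain ⟨a', b', hab⟩ := hfr.span _ hαβ
        refine ⟨Fin.cons α a', Fin.cons β b', ?_⟩
        rw [Fin.sum_univ_succ]
        simp only [Fin.cons_zero, Fin.cons_succ]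
        rw [← hab]
        abel
    · rw [← hN, ← hW'rk, hrk']; ring

end Cfsg.Agent.S5975P
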