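import Mathlib
import Cfsg.Prelude.Def_GeometricClasses
import Cfsg.Prelude.Def_ClassicalGeometry
import Cfsg.Agent.Helper27.S5975Defs
import Cfsg.Agent.Helper21.FS1

set_option autoImplicit false
set_option linter.style.haveILetI false
open scoped MatrixGroups

/-! S5975 piece SEMIORD: an element of `N(K)` with `y ^ r` scalar that does not centralize `K`
has `r = k` (Galois theory of finite fields). -/

namespace Cfsg.Agent.S5975P

open Cfsg.Agent.Helper21 in
/-- SEMIORD -/
theorem eq_of_not_commute {F : Type*} [Field F] [Fintype F] (d k : ℕ) (hk : k.Prime)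
    (K : Subalgebra F (Matrix (Fin d ⊕ Fin d) (Fin d ⊕ Fin d) F))
    (hK : Cfsg.Geo.IsFieldSubalgebra k K) (r : ℕ) (hr : r.Prime)
    (y : GL (Fin d ⊕ Fin d) F) (hy : y ∈ Cfsg.Geo.subalgebraNormalizer K) (z : F)
    (hyr : ((y ^ r : GL (Fin d ⊕ Fin d) F) : Matrix (Fin d ⊕ Fin d) (Fin d ⊕ Fin d) F) =
      z • (1 : Matrix (Fin d ⊕ Fin d) (Fin d ⊕ Fin d) F))
    (a : Matrix (Fin d ⊕ Fin d) (Fin d ⊕ Fin d) F) (ha : a ∈ K)
    (hne : (y : Matrix (Fin d ⊕ Fin d) (Fin d ⊕ Fin d) F) * a ≠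
      a * (y : Matrix (Fin d ⊕ Fin d) (Fin d ⊕ Fin d) F)) : r = k := by
  classical
  rcases Nat.eq_zero_or_pos d with rfl | hd
  · exfalso
    apply hne
    ext i j
    rcases i with i | i <;> exact Fin.elim0 i
  haveI : Nonempty (Fin d ⊕ Fin d) := ⟨Sum.inl ⟨0, hd⟩⟩
  letI := FS.fieldOf hK
  haveI : Fact r.Prime := ⟨hr⟩
  set Y : Matrix (Fin d ⊕ Fin d) (Fin d ⊕ Fin d) F :=
    (y : Matrix (Fin d ⊕ Fin d) (Fin d ⊕ Fin d) F) with hY
  set Y' : Matrix (Fin d ⊕ Fin d) (Fin d ⊕ Fin d) F :=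
    ((y⁻¹ : GL (Fin d ⊕ Fin d) F) : Matrix (Fin d ⊕ Fin d) (Fin d ⊕ Fin d) F) with hY'
  have hYY' : Y * Y' = 1 := by rw [hY, hY', ← Units.val_mul, mul_inv_cancel, Units.val_one]
  have hY'Y : Y' * Y = 1 := by rw [hY, hY', ← Units.val_mul, inv_mul_cancel, Units.val_one]
  have hmem : ∀ b ∈ K, Y * b * Y' ∈ K := fun b hb => (hy b).1 hb
  have hmem' : ∀ b ∈ K, Y' * b * Y ∈ K := by
    intro b hb
    have h1 : Y * (Y' * b * Y) * Y' = b := by
      calc Y * (Y' * b * Y) * Y' = (Y * Y') * b * (Y * Y') := by simp only [Matrix.mul_assoc]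
        _ = b := by rw [hYY', Matrix.one_mul, Matrix.mul_one]
    apply (hy (Y' * b * Y)).2
    show Y * (Y' * b * Y) * Y' ∈ K
    rw [h1]; exact hb
  let σ : K ≃ₐ[F] K :=
    { toFun := fun b => ⟨Y * b.1 * Y', hmem b.1 b.2⟩
      invFun := fun b => ⟨Y' * b.1 * Y, hmem' b.1 b.2⟩
      left_inv := by
        intro b
        apply Subtype.ext
        show Y' * (Y * b.1 * Y') * Y = b.1
        calc Y' * (Y * b.1 * Y') * Y = (Y' * Y) * b.1 * (Y' * Y) := by
              simp only [Matrix.mul_assoc]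
          _ = b.1 := by rw [hY'Y, Matrix.one_mul, Matrix.mul_one]
      right_inv := by
        intro b
        apply Subtype.ext
        show Y * (Y' * b.1 * Y) * Y' = b.1
        calc Y * (Y' * b.1 * Y) * Y' = (Y * Y') * b.1 * (Y * Y') := by
              simp only [Matrix.mul_assoc]
          _ = b.1 := by rw [hYY', Matrix.one_mul, Matrix.mul_one]
      map_mul' := by
        intro b c
        apply Subtype.ext
        show Y * (b.1 * c.1) * Y' = (Y * b.1 * Y') * (Y * c.1 * Y')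
        calc Y * (b.1 * c.1) * Y' = Y * b.1 * 1 * c.1 * Y' := by
              rw [Matrix.mul_one]; simp only [Matrix.mul_assoc]
          _ = (Y * b.1 * Y') * (Y * c.1 * Y') := by
              rw [← hY'Y]; simp only [Matrix.mul_assoc]
      map_add' := by
        intro b c
        apply Subtype.ext
        show Y * (b.1 + c.1) * Y' = (Y * b.1 * Y') + (Y * c.1 * Y')
        rw [Matrix.mul_add, Matrix.add_mul]
      commutes' := by
        intro c
        apply Subtype.ext
        show Y * (algebraMap F K c).1 * Y' = (algebraMap F K c).1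
        have : ((algebraMap F K c : K) : Matrix (Fin d ⊕ Fin d) (Fin d ⊕ Fin d) F) =
            c • (1 : Matrix (Fin d ⊕ Fin d) (Fin d ⊕ Fin d) F) := by
          rw [Algebra.algebraMap_eq_smul_one]; rfl
        rw [this, Matrix.mul_smul, Matrix.mul_one, Matrix.smul_mul, hYY'] }
  have hσ : ∀ b : K, (σ b).1 = Y * b.1 * Y' := fun b => rfl
  have hpow : ∀ (n : ℕ) (b : K), ((σ ^ n) b).1 = Y ^ n * b.1 * Y' ^ n := by
    intro n
    induction n with
    | zero => intro b; simp
    | succ n ih =>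
      intro b
      rw [pow_succ', AlgEquiv.mul_apply, hσ, ih, pow_succ' Y, pow_succ Y']
      simp only [Matrix.mul_assoc]
  have hYr : Y ^ r = z • (1 : Matrix (Fin d ⊕ Fin d) (Fin d ⊕ Fin d) F) := by
    rw [hY, ← Units.val_pow_eq_pow_val, hyr]
  have hYY'r : Y ^ r * Y' ^ r = 1 := by
    rw [hY, hY', ← Units.val_pow_eq_pow_val, ← Units.val_pow_eq_pow_val, ← Units.val_mul,
      inv_pow, mul_inv_cancel, Units.val_one]
  have hσr : σ ^ r = 1 := by
    refine AlgEquiv.ext fun b => Subtype.ext ?_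
    rw [AlgEquiv.one_apply]
    rw [hpow]
    calc Y ^ r * b.1 * Y' ^ r = b.1 * (Y ^ r * Y' ^ r) := by
          simp only [hYr, Matrix.smul_mul, Matrix.mul_smul, Matrix.one_mul]
      _ = b.1 := by rw [hYY'r, Matrix.mul_one]
  have hσ1 : σ ≠ 1 := by
    intro h1
    apply hne
    have h2 : (σ ⟨a, ha⟩).1 = a := by rw [h1]; rfl
    rw [hσ] at h2
    calc Y * a = Y * a * (Y' * Y) := by rw [hY'Y, Matrix.mul_one]
      _ = (Y * a * Y') * Y := by simp only [Matrix.mul_assoc]
      _ = a * Y := by rw [h2]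
  have hord : orderOf σ = r := orderOf_eq_prime hσr hσ1
  haveI : Finite K := inferInstance
  haveI : FiniteDimensional F K :=
    Module.finite_of_finrank_pos (by rw [hK.finrank_eq]; exact hk.pos)
  have hcard : Nat.card (K ≃ₐ[F] K) = k := by
    rw [IsGalois.card_aut_eq_finrank, hK.finrank_eq]
  have hdvd : r ∣ k := by
    rw [← hord, ← hcard]
    exact orderOf_dvd_natCard σ
  exact (Nat.prime_dvd_prime_iff_eq hr hk).1 hdvd

end Cfsg.Agent.S5975P
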