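import Mathlib

set_option autoImplicit false

/-! S5977/S5978 BACK, piece PAIRINV: signs with product `1` on an even number of points can be
paired. -/

namespace Cfsg.Agent.S5977B

/-- PAIRINV: signs with product `1` on an even number of points can be paired -/
theorem exists_pairing {F : Type*} [Field F] (h2 : (2 : F) ≠ 0) (n d : ℕ) (hn : n = 2 * d)
    (ε : Fin n → F) (hε : ∀ i, ε i = 1 ∨ ε i = -1) (hprod : ∏ i, ε i = 1) :
    ∃ σ : Fin d × Fin 2 ≃ Fin n, ∀ k, ε (σ (k, 0)) = ε (σ (k, 1)) := by
  classical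
  have hne : (-1 : F) ≠ 1 := by
    intro h
    apply h2
    have : (2 : F) = 1 - (-1) := by ring
    rw [this, h, sub_self]
  -- the number of `-1`s is even
  have hprod' : ∏ i, ε i = (-1 : F) ^ (Fintype.card {i : Fin n // ε i = -1}) := by
    have h1 : ∀ i, ε i = if ε i = -1 then (-1 : F) else 1 := by
      intro i
      rcases hε i with h | h
      · rw [h, if_neg (fun h' => hne h'.symm)]
      · rw [h, if_pos rfl]
    rw [Finset.prod_congr rfl (fun i _ => h1 i), Finset.prod_ite, Finset.prod_const,
      Finset.prod_const_one, mul_one, Fintype.card_subtype]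
  rw [hprod] at hprod'
  obtain ⟨a, ha⟩ := (neg_one_pow_eq_one_iff_even hne).1 hprod'.symm
  -- the complement has even cardinality too
  have hsum : Fintype.card {i : Fin n // ε i = -1} + Fintype.card {i : Fin n // ¬ ε i = -1} = n := by
    rw [← Fintype.card_sum, Fintype.card_congr (Equiv.sumCompl (fun i : Fin n => ε i = -1)),
      Fintype.card_fin]
  obtain ⟨c, hc⟩ : ∃ c, Fintype.card {i : Fin n // ¬ ε i = -1} = c + c := by
    refine ⟨d - a, ?_⟩
    omega
  have had : a + c = d := by omega
  have em : Fin a × Fin 2 ≃ {i : Fin n // ε i = -1} :=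
    Fintype.equivOfCardEq (by rw [Fintype.card_prod, Fintype.card_fin, Fintype.card_fin, ha]; ring)
  have ep : Fin c × Fin 2 ≃ {i : Fin n // ¬ ε i = -1} :=
    Fintype.equivOfCardEq (by rw [Fintype.card_prod, Fintype.card_fin, Fintype.card_fin, hc]; ring)
  have ed : Fin d ≃ Fin a ⊕ Fin c :=
    Fintype.equivOfCardEq (by rw [Fintype.card_sum, Fintype.card_fin, Fintype.card_fin,
      Fintype.card_fin, had])
  refine ⟨(Equiv.prodCongr ed (Equiv.refl _)).trans ((Equiv.sumProdDistrib _ _ _).trans
    ((Equiv.sumCongr em ep).trans (Equiv.sumCompl (fun i : Fin n => ε i = -1)))), ?_⟩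
  intro k
  simp only [Equiv.trans_apply, Equiv.prodCongr_apply, Prod.map_apply, Equiv.refl_apply]
  rcases hk : ed k with k' | k'
  · simp only [Equiv.sumProdDistrib_apply_left, Equiv.sumCongr_apply, Sum.map_inl,
      Equiv.sumCompl_apply_inl]
    rw [(em (k', 0)).2, (em (k', 1)).2]
  · simp only [Equiv.sumProdDistrib_apply_right, Equiv.sumCongr_apply, Sum.map_inr,
      Equiv.sumCompl_apply_inr]
    rw [(hε _).resolve_right (ep (k', 0)).2, (hε _).resolve_right (ep (k', 1)).2]

end Cfsg.Agent.S5977B
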