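import Mathlib
import Cfsg.Prelude.Def_GeometricClasses
import Cfsg.Prelude.Def_ClassicalGeometry
import Cfsg.Agent.Helper21.S5977OmegaAdj

set_option autoImplicit false
open scoped MatrixGroups

/-! S5977/S5978 BACK, piece PAIRJ: a self-adjoint `J` with `J * J = ν` from a paired orthogonal
basis. -/

namespace Cfsg.Agent.S5977B

open Cfsg.Agent.Helper28 Cfsg.Agent.Helper28.Spin

namespace PAIRJ

open Polynomial in
theorem exists_pm {F : Type*} [Field F] [Fintype F] (h2 : (2 : F) ≠ 0) (c ν : F) (hc : c ≠ 0) :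
    ∃ p m : F, p ^ 2 + c * m ^ 2 = ν := by
  have hodd : Fintype.card F % 2 = 1 := Nat.odd_iff.1 (card_odd h2)
  have hg : degree (C c * X ^ 2 + C 0 * X + C (-ν) : F[X]) = 2 := degree_quadratic hc
  obtain ⟨a, b, hab⟩ := FiniteField.exists_root_sum_quadratic (f := (X ^ 2 : F[X]))
    (g := (C c * X ^ 2 + C 0 * X + C (-ν) : F[X])) (degree_X_pow 2) hg hodd
  refine ⟨a, b, ?_⟩
  simp only [eval_add, eval_mul, eval_C, eval_pow, eval_X] at hab
  linear_combination hab

end PAIRJ

/-- PAIRJ: a self-adjoint `J` with `J * J = ν` from a paired orthogonal basis -/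
theorem exists_pair_struct {F : Type*} [Field F] [Fintype F] (h2 : (2 : F) ≠ 0) {ι : Type}
    [Fintype ι] [DecidableEq ι] (Q : QuadraticForm F (ι → F)) {d : ℕ}
    (b : Module.Basis (Fin d × Fin 2) F (ι → F))
    (horth : ∀ i j, i ≠ j → QuadraticMap.polar ⇑Q (b i) (b j) = 0) (hns : ∀ i, Q (b i) ≠ 0)
    (ν : F) :
    ∃ (J : Matrix ι ι F) (p t t' : Fin d → F), J * J = ν • (1 : Matrix ι ι F) ∧
      (∀ u v, QuadraticMap.polar ⇑Q (J.mulVec u) v = QuadraticMap.polar ⇑Q u (J.mulVec v)) ∧
      (∀ k, J.mulVec (b (k, 0)) = p k • b (k, 0) + t k • b (k, 1)) ∧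
      (∀ k, J.mulVec (b (k, 1)) = t' k • b (k, 0) - p k • b (k, 1)) ∧
      (∀ k, Q (b (k, 1)) * t k = Q (b (k, 0)) * t' k) := by
  classical
  have hex : ∀ k : Fin d, ∃ p m : F, p ^ 2 + (Q (b (k, 0)) * Q (b (k, 1))) * m ^ 2 = ν :=
    fun k => PAIRJ.exists_pm h2 _ ν (mul_ne_zero (hns _) (hns _))
  choose p m hpm using hex
  set t : Fin d → F := fun k => Q (b (k, 0)) * m k with ht
  set t' : Fin d → F := fun k => Q (b (k, 1)) * m k with ht'
  have hptt : ∀ k, p k ^ 2 + t k * t' k = ν := by
    intro k
    rw [← hpm k]; simp only [ht, ht']; ring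
  set img : Fin d × Fin 2 → (ι → F) := fun i =>
    if i.2 = 0 then p i.1 • b (i.1, 0) + t i.1 • b (i.1, 1)
    else t' i.1 • b (i.1, 0) - p i.1 • b (i.1, 1) with himg
  set Jl : (ι → F) →ₗ[F] (ι → F) := b.constr F img with hJl
  have hJl0 : ∀ k, Jl (b (k, 0)) = p k • b (k, 0) + t k • b (k, 1) := by
    intro k
    rw [hJl, Module.Basis.constr_basis]
    simp [himg]
  have hJl1 : ∀ k, Jl (b (k, 1)) = t' k • b (k, 0) - p k • b (k, 1) := by
    intro k
    rw [hJl, Module.Basis.constr_basis]
    simp [himg]
  set J : Matrix ι ι F := LinearMap.toMatrix' Jl with hJ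
  have hJv : ∀ v, J.mulVec v = Jl v := fun v => by rw [hJ, LinearMap.toMatrix'_mulVec]
  have hB : ∀ i j, QuadraticMap.polar ⇑Q (b i) (b j) = if i = j then 2 * Q (b i) else 0 := by
    intro i j
    by_cases h : i = j
    · subst h; rw [if_pos rfl, polar_self']
    · rw [if_neg h, horth i j h]
  refine ⟨J, p, t, t', ?_, ?_, fun k => by rw [hJv, hJl0], fun k => by rw [hJv, hJl1], ?_⟩
  · -- `J * J = ν`
    apply Matrix.toLin'.injective
    apply b.ext
    rintro ⟨k, j⟩
    rw [Matrix.toLin'_apply, ← Matrix.mulVec_mulVec, hJv, hJv, Matrix.toLin'_apply,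
      Matrix.smul_mulVec, Matrix.one_mulVec]
    fin_cases j
    · show Jl (Jl (b (k, 0))) = ν • b (k, 0)
      rw [hJl0, map_add, map_smul, map_smul, hJl0, hJl1, ← hptt k]
      module
    · show Jl (Jl (b (k, 1))) = ν • b (k, 1)
      rw [hJl1, map_sub, map_smul, map_smul, hJl0, hJl1, ← hptt k]
      module
  · -- self-adjointness
    have hbil : LinearMap.compl₁₂ (QuadraticMap.polarBilin Q) Jl LinearMap.id =
        LinearMap.compl₁₂ (QuadraticMap.polarBilin Q) LinearMap.id Jl := by
      apply LinearMap.ext_basis b b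
      rintro ⟨k, a⟩ ⟨l, c⟩
      simp only [LinearMap.compl₁₂_apply, LinearMap.id_apply,
        QuadraticMap.polarBilin_apply_apply]
      have hrel : Q (b (k, 1)) * t k = Q (b (k, 0)) * t' k := by
        simp only [ht, ht']; ring
      fin_cases a <;> fin_cases c
      · show QuadraticMap.polar ⇑Q (Jl (b (k, 0))) (b (l, 0)) =
          QuadraticMap.polar ⇑Q (b (k, 0)) (Jl (b (l, 0)))
        rw [hJl0, hJl0, QuadraticMap.polar_add_left, QuadraticMap.polar_add_right,
          QuadraticMap.polar_smul_left, QuadraticMap.polar_smul_left,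
          QuadraticMap.polar_smul_right, QuadraticMap.polar_smul_right]
        simp only [hB]
        by_cases hkl : k = l
        · subst hkl; simp
        · simp [Prod.ext_iff, hkl]
      · show QuadraticMap.polar ⇑Q (Jl (b (k, 0))) (b (l, 1)) =
          QuadraticMap.polar ⇑Q (b (k, 0)) (Jl (b (l, 1)))
        rw [hJl0, hJl1, QuadraticMap.polar_add_left, QuadraticMap.polar_sub_right,
          QuadraticMap.polar_smul_left, QuadraticMap.polar_smul_left,
          QuadraticMap.polar_smul_right, QuadraticMap.polar_smul_right]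
        simp only [hB]
        by_cases hkl : k = l
        · subst hkl
          simp only [Prod.mk.injEq, true_and, Fin.isValue, zero_ne_one, if_false, if_true,
            smul_eq_mul, mul_zero, zero_add, sub_zero]
          linear_combination 2 * hrel
        · simp [Prod.ext_iff, hkl]
      · show QuadraticMap.polar ⇑Q (Jl (b (k, 1))) (b (l, 0)) =
          QuadraticMap.polar ⇑Q (b (k, 1)) (Jl (b (l, 0)))
        rw [hJl1, hJl0, QuadraticMap.polar_sub_left, QuadraticMap.polar_add_right,
          QuadraticMap.polar_smul_left, QuadraticMap.polar_smul_left,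
          QuadraticMap.polar_smul_right, QuadraticMap.polar_smul_right]
        simp only [hB]
        by_cases hkl : k = l
        · subst hkl
          simp only [Prod.mk.injEq, true_and, Fin.isValue, one_ne_zero, if_false, if_true,
            smul_eq_mul, mul_zero, zero_add, sub_zero]
          linear_combination (-2) * hrel
        · simp [Prod.ext_iff, hkl]
      · show QuadraticMap.polar ⇑Q (Jl (b (k, 1))) (b (l, 1)) =
          QuadraticMap.polar ⇑Q (b (k, 1)) (Jl (b (l, 1)))
        rw [hJl1, hJl1, QuadraticMap.polar_sub_left, QuadraticMap.polar_sub_right,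
          QuadraticMap.polar_smul_left, QuadraticMap.polar_smul_left,
          QuadraticMap.polar_smul_right, QuadraticMap.polar_smul_right]
        simp only [hB]
        by_cases hkl : k = l
        · subst hkl; simp
        · simp [Prod.ext_iff, hkl]
    intro u v
    rw [hJv, hJv]
    have := LinearMap.congr_fun (LinearMap.congr_fun hbil u) v
    simpa only [LinearMap.compl₁₂_apply, LinearMap.id_apply,
      QuadraticMap.polarBilin_apply_apply] using this
  · intro k
    simp only [ht, ht']; ring

end Cfsg.Agent.S5977B
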