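import Mathlib
import Cfsg.Prelude.Def_GeometricClasses

set_option autoImplicit false
open scoped MatrixGroups

/-! S5977/S5978 BACK, piece QFIELD: `F[J]` for `J * J = ν` (a non-square) is a self-adjoint field
subalgebra of degree 2, normalized by every `y` with `y J = ± J y`. -/

namespace Cfsg.Agent.S5977B

namespace QFIELD

variable {F : Type*} [Field F] {ι : Type} [Fintype ι] [DecidableEq ι]

/-- the subalgebra `{a + c J}` for `J * J = ν` -/
def quadAlg (J : Matrix ι ι F) (ν : F) (hJ : J * J = ν • (1 : Matrix ι ι F)) :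
    Subalgebra F (Matrix ι ι F) where
  carrier := {M | ∃ a c : F, M = a • (1 : Matrix ι ι F) + c • J}
  mul_mem' := by
    rintro _ _ ⟨a, c, rfl⟩ ⟨a', c', rfl⟩
    refine ⟨a * a' + c * c' * ν, a * c' + c * a', ?_⟩
    rw [add_mul, mul_add, mul_add, smul_mul_smul_comm, smul_mul_smul_comm, smul_mul_smul_comm,
      smul_mul_smul_comm, hJ, one_mul, one_mul, mul_one]
    module
  add_mem' := by
    rintro _ _ ⟨a, c, rfl⟩ ⟨a', c', rfl⟩
    exact ⟨a + a', c + c', by module⟩
  algebraMap_mem' := by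
    intro r
    refine ⟨r, 0, ?_⟩
    rw [Algebra.algebraMap_eq_smul_one, zero_smul, add_zero]

theorem mem_quadAlg (J : Matrix ι ι F) (ν : F) (hJ : J * J = ν • (1 : Matrix ι ι F))
    (M : Matrix ι ι F) :
    M ∈ quadAlg J ν hJ ↔ ∃ a c : F, M = a • (1 : Matrix ι ι F) + c • J := Iff.rfl

end QFIELD

open QFIELD in
/-- QFIELD: `F[J]` is a self-adjoint field subalgebra of degree 2, normalized by every `y` with
`y J = ± J y` -/
theorem exists_field_of_struct {F : Type*} [Field F] {ι : Type} [Fintype ι] [DecidableEq ι]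
    [Nonempty ι] (Q : QuadraticForm F (ι → F)) (J : Matrix ι ι F) (ν : F) (hν : ¬ IsSquare ν)
    (hJ : J * J = ν • (1 : Matrix ι ι F))
    (hsa : ∀ u v, QuadraticMap.polar ⇑Q (J.mulVec u) v = QuadraticMap.polar ⇑Q u (J.mulVec v)) :
    ∃ K' : Subalgebra F (Matrix ι ι F), Cfsg.Geo.IsFieldSubalgebra 2 K' ∧
      Cfsg.Geo.IsSelfAdjointFor (QuadraticMap.polar ⇑Q) K' ∧
      ∀ y : GL ι F, ((y : Matrix ι ι F) * J = J * (y : Matrix ι ι F) ∨
        (y : Matrix ι ι F) * J = -(J * (y : Matrix ι ι F))) →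
        y ∈ Cfsg.Geo.subalgebraNormalizer K' := by
  classical
  obtain ⟨i0⟩ := ‹Nonempty ι›
  have hsc : ∀ a : F, a • (1 : Matrix ι ι F) = 0 → a = 0 := by
    intro a h
    have := congrFun (congrFun h i0) i0
    simpa using this
  have hind : ∀ a c : F, a • (1 : Matrix ι ι F) + c • J = 0 → a = 0 ∧ c = 0 := by
    intro a c h
    by_cases hc : c = 0
    · subst hc
      rw [zero_smul, add_zero] at h
      exact ⟨hsc a h, rfl⟩
    · exfalso
      apply hν
      have hJ' : J = (-a / c) • (1 : Matrix ι ι F) := by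
        have h1 : c • J = (-a) • (1 : Matrix ι ι F) := by
          rw [neg_smul]; exact eq_neg_of_add_eq_zero_right h
        rw [div_eq_inv_mul, mul_smul, ← h1, smul_smul, inv_mul_cancel₀ hc, one_smul]
      have h2 : ((-a / c) * (-a / c) - ν) • (1 : Matrix ι ι F) = 0 := by
        rw [sub_smul, ← hJ, hJ', smul_mul_smul_comm, one_mul, sub_self]
      exact ⟨-a / c, (sub_eq_zero.1 (hsc _ h2)).symm⟩
  have hnorm : ∀ a c : F, a • (1 : Matrix ι ι F) + c • J ≠ 0 → a ^ 2 - c ^ 2 * ν ≠ 0 := by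
    intro a c hne h0
    by_cases hc : c = 0
    · subst hc
      have ha : a = 0 := by
        have : a ^ 2 = 0 := by linear_combination h0
        exact pow_eq_zero_iff (by norm_num) |>.1 this
      apply hne
      rw [ha, zero_smul, zero_smul, add_zero]
    · apply hν
      refine ⟨a / c, ?_⟩
      field_simp
      linear_combination -h0
  refine ⟨quadAlg J ν hJ, ⟨?_, ?_, ?_⟩, ?_, ?_⟩
  · -- commutativity
    rintro _ ⟨a, c, rfl⟩ _ ⟨a', c', rfl⟩
    rw [add_mul, mul_add, mul_add, add_mul, mul_add, mul_add, smul_mul_smul_comm,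
      smul_mul_smul_comm, smul_mul_smul_comm, smul_mul_smul_comm, smul_mul_smul_comm,
      smul_mul_smul_comm, smul_mul_smul_comm, smul_mul_smul_comm, hJ, one_mul, one_mul, mul_one]
    module
  · -- inverses
    rintro _ ⟨a, c, rfl⟩ hne
    have hN := hnorm a c hne
    refine ⟨(a / (a ^ 2 - c ^ 2 * ν)) • (1 : Matrix ι ι F) + (-c / (a ^ 2 - c ^ 2 * ν)) • J,
      ⟨_, _, rfl⟩, ?_⟩
    rw [add_mul, mul_add, mul_add, smul_mul_smul_comm, smul_mul_smul_comm, smul_mul_smul_comm,
      smul_mul_smul_comm, hJ, one_mul, one_mul, mul_one]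
    have h1 : a * (a / (a ^ 2 - c ^ 2 * ν)) + c * (-c / (a ^ 2 - c ^ 2 * ν)) * ν = 1 := by
      field_simp
      ring
    have h2 : a * (-c / (a ^ 2 - c ^ 2 * ν)) + c * (a / (a ^ 2 - c ^ 2 * ν)) = 0 := by
      field_simp; ring
    calc _ = (a * (a / (a ^ 2 - c ^ 2 * ν)) + c * (-c / (a ^ 2 - c ^ 2 * ν)) * ν) •
          (1 : Matrix ι ι F) + (a * (-c / (a ^ 2 - c ^ 2 * ν)) + c * (a / (a ^ 2 - c ^ 2 * ν))) • J := by
          module
      _ = 1 := by rw [h1, h2, one_smul, zero_smul, add_zero]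
  · -- finrank
    rw [← Subalgebra.finrank_toSubmodule]
    have hspan : Subalgebra.toSubmodule (quadAlg J ν hJ) =
        Submodule.span F (Set.range ![(1 : Matrix ι ι F), J]) := by
      ext M
      rw [Subalgebra.mem_toSubmodule, mem_quadAlg, Submodule.mem_span_range_iff_exists_fun]
      constructor
      · rintro ⟨a, c, rfl⟩
        exact ⟨![a, c], by simp [Fin.sum_univ_two]⟩
      · rintro ⟨f, rfl⟩
        exact ⟨f 0, f 1, by simp [Fin.sum_univ_two]⟩
    rw [hspan, finrank_span_eq_card (LinearIndependent.pair_iff.2 hind), Fintype.card_fin]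
  · -- self-adjoint
    rintro _ ⟨a, c, rfl⟩ u v
    rw [Matrix.add_mulVec, Matrix.add_mulVec, Matrix.smul_mulVec, Matrix.smul_mulVec,
      Matrix.smul_mulVec, Matrix.smul_mulVec, Matrix.one_mulVec, Matrix.one_mulVec,
      QuadraticMap.polar_add_left, QuadraticMap.polar_add_right, QuadraticMap.polar_smul_left,
      QuadraticMap.polar_smul_left, QuadraticMap.polar_smul_right, QuadraticMap.polar_smul_right,
      hsa]
  · -- normalizer
    intro y hy
    have hyy : (y : Matrix ι ι F) * ((y⁻¹ : GL ι F) : Matrix ι ι F) = 1 := by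
      rw [← Units.val_mul, mul_inv_cancel, Units.val_one]
    have hyy' : ((y⁻¹ : GL ι F) : Matrix ι ι F) * (y : Matrix ι ι F) = 1 := by
      rw [← Units.val_mul, inv_mul_cancel, Units.val_one]
    obtain ⟨s, hs, hys⟩ : ∃ s : F, (s = 1 ∨ s = -1) ∧
        (y : Matrix ι ι F) * J = s • (J * (y : Matrix ι ι F)) := by
      rcases hy with h | h
      · exact ⟨1, Or.inl rfl, by rw [h, one_smul]⟩
      · exact ⟨-1, Or.inr rfl, by rw [h, neg_smul, one_smul]⟩
    have hss : s * s = 1 := by rcases hs with rfl | rfl <;> ring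
    have hconj : (y : Matrix ι ι F) * J * ((y⁻¹ : GL ι F) : Matrix ι ι F) = s • J := by
      rw [hys, Matrix.smul_mul, mul_assoc, hyy, mul_one]
    have hconj' : ((y⁻¹ : GL ι F) : Matrix ι ι F) * J * (y : Matrix ι ι F) = s • J := by
      have : J * (y : Matrix ι ι F) = s • ((y : Matrix ι ι F) * J) := by
        rw [hys, smul_smul, hss, one_smul]
      rw [mul_assoc, this, Matrix.mul_smul, ← mul_assoc, hyy', one_mul]
    intro k
    show k ∈ quadAlg J ν hJ ↔ _ ∈ quadAlg J ν hJ
    rw [mem_quadAlg, mem_quadAlg]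
    constructor
    · rintro ⟨a, c, rfl⟩
      refine ⟨a, c * s, ?_⟩
      rw [mul_add, add_mul, Matrix.mul_smul, Matrix.smul_mul, mul_one, hyy, Matrix.mul_smul,
        Matrix.smul_mul, hconj, smul_smul]
    · rintro ⟨a, c, h⟩
      refine ⟨a, c * s, ?_⟩
      have hk : k = ((y⁻¹ : GL ι F) : Matrix ι ι F) *
          ((y : Matrix ι ι F) * k * ((y⁻¹ : GL ι F) : Matrix ι ι F)) * (y : Matrix ι ι F) := by
        rw [mul_assoc, mul_assoc, mul_assoc, hyy', mul_one, ← mul_assoc, hyy', one_mul]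
      rw [hk, h, mul_add, add_mul, Matrix.mul_smul, Matrix.smul_mul, mul_one, hyy', Matrix.mul_smul,
        Matrix.smul_mul, hconj', smul_smul]

end Cfsg.Agent.S5977B
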