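import Mathlib
import Cfsg.Prelude.Def_GeometricClasses
import Cfsg.Prelude.Def_ClassicalGeometry
import Cfsg.Agent.Helper21.S5977OmegaAdj
import Cfsg.Agent.Helper21.S5977BPLANES

set_option autoImplicit false
open scoped MatrixGroups

/-! S5977/S5978 BACK, piece ROT: for `x * x = -1`, a product of two reflections in vectors of the
plane `⟨e, x e⟩` commutes with `x`. -/

namespace Cfsg.Agent.S5977B

open Cfsg.Agent.Helper28 Cfsg.Agent.Helper28.Spin

/-- ROT: for `x * x = -1`, a product of two reflections in vectors of the plane `⟨e, x e⟩`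
commutes with `x` -/
theorem rot_commute {F : Type*} [Field F] (h2 : (2 : F) ≠ 0) {ι : Type} [Fintype ι]
    [DecidableEq ι] (Q : QuadraticForm F (ι → F)) (x : ↥(Cfsg.isometryGroup F ⇑Q))
    (hxx : ((x : GL ι F) : Matrix ι ι F) * ((x : GL ι F) : Matrix ι ι F) = -1)
    (e : ι → F) (he : Q e ≠ 0) (α β : F)
    (hw : Q (α • e + β • ((x : GL ι F) : Matrix ι ι F).mulVec e) ≠ 0) :
    reflO Q e he * reflO Q (α • e + β • ((x : GL ι F) : Matrix ι ι F).mulVec e) hw * x =
      x * (reflO Q e he * reflO Q (α • e + β • ((x : GL ι F) : Matrix ι ι F).mulVec e) hw) := by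
  set X : Matrix ι ι F := ((x : GL ι F) : Matrix ι ι F) with hX
  have hx : ∀ v, Q (X.mulVec v) = Q v := fun v => isom_apply Q x v
  set f : ι → F := X.mulVec e with hf
  set γ : F := Q e with hγ
  have hQf : Q f = γ := hx e
  have hef : QuadraticMap.polar ⇑Q e f = 0 := PLANES.polar_self_x Q h2 hx hxx e
  have hfe : QuadraticMap.polar ⇑Q f e = 0 := by rw [QuadraticMap.polar_comm]; exact hef
  have hXf : X.mulVec f = -e := by
    rw [hf, Matrix.mulVec_mulVec, hxx, Matrix.neg_mulVec, Matrix.one_mulVec]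
  have hee : QuadraticMap.polar ⇑Q e e = 2 * γ := polar_self' Q e
  set N : F := α ^ 2 + β ^ 2 with hN
  have hQw : Q (α • e + β • f) = γ * N := by
    rw [QuadraticMap.map_add (⇑Q), QuadraticMap.map_smul, QuadraticMap.map_smul,
      QuadraticMap.polar_smul_left, QuadraticMap.polar_smul_right, hef, hQf]
    simp only [smul_eq_mul, mul_zero, add_zero]
    ring
  have hγN : γ * N ≠ 0 := by rw [← hQw]; exact hw
  have hN0 : N ≠ 0 := right_ne_zero_of_mul hγN
  -- the product of the two reflections on a vector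
  have hc : ∀ y : ι → F,
      (Cfsg.reflectionMatrix ⇑Q e).mulVec
        ((Cfsg.reflectionMatrix ⇑Q (α • e + β • f)).mulVec y) =
      y + (α * (γ * N)⁻¹ * (α * QuadraticMap.polar ⇑Q e y + β * QuadraticMap.polar ⇑Q f y)
            - γ⁻¹ * QuadraticMap.polar ⇑Q e y) • e
        + (-((γ * N)⁻¹ * (α * QuadraticMap.polar ⇑Q e y + β * QuadraticMap.polar ⇑Q f y) * β))
            • f := by
    intro y
    have hwy : QuadraticMap.polar ⇑Q (α • e + β • f) y =
        α * QuadraticMap.polar ⇑Q e y + β * QuadraticMap.polar ⇑Q f y := by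
      rw [QuadraticMap.polar_add_left, QuadraticMap.polar_smul_left,
        QuadraticMap.polar_smul_left, smul_eq_mul, smul_eq_mul]
    rw [refl_mulVec Q (α • e + β • f) y, hQw, hwy, refl_mulVec Q e]
    rw [QuadraticMap.polar_sub_right, QuadraticMap.polar_smul_right,
      QuadraticMap.polar_add_right, QuadraticMap.polar_smul_right, QuadraticMap.polar_smul_right,
      hee, hef]
    simp only [smul_eq_mul, mul_zero, add_zero]
    have h1 : γ⁻¹ * (QuadraticMap.polar ⇑Q e y -
        (γ * N)⁻¹ * (α * QuadraticMap.polar ⇑Q e y + β * QuadraticMap.polar ⇑Q f y) *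
          (α * (2 * γ))) =
        γ⁻¹ * QuadraticMap.polar ⇑Q e y -
          2 * α * (γ * N)⁻¹ * (α * QuadraticMap.polar ⇑Q e y + β * QuadraticMap.polar ⇑Q f y) := by
      field_simp
    rw [h1]
    module
  -- polar values at `x y`
  have hpe : ∀ y, QuadraticMap.polar ⇑Q e (X.mulVec y) = -QuadraticMap.polar ⇑Q f y :=
    fun y => PLANES.polar_x_right Q hx hxx e y
  have hpf : ∀ y, QuadraticMap.polar ⇑Q f (X.mulVec y) = QuadraticMap.polar ⇑Q e y :=
    fun y => polar_isom Q hx e y
  apply Subtype.ext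
  apply Units.ext
  apply Spin.matrix_ext_mulVec
  intro y
  simp only [Subgroup.coe_mul, Units.val_mul, reflO_val]
  rw [← hX, ← hf]
  rw [← Matrix.mulVec_mulVec, ← Matrix.mulVec_mulVec, ← Matrix.mulVec_mulVec,
    ← Matrix.mulVec_mulVec, hc, hc, hpe, hpf]
  rw [Matrix.mulVec_add, Matrix.mulVec_add, Matrix.mulVec_smul, Matrix.mulVec_smul, ← hf, hXf]
  set E := QuadraticMap.polar ⇑Q e y with hE
  set Φ := QuadraticMap.polar ⇑Q f y with hΦ
  have ha : α * (γ * N)⁻¹ * (α * -Φ + β * E) - γ⁻¹ * -Φ = (γ * N)⁻¹ * (α * E + β * Φ) * β := by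
    rw [hN]
    rw [hN] at hγN hN0
    field_simp
    ring
  have hb : -((γ * N)⁻¹ * (α * -Φ + β * E) * β) = α * (γ * N)⁻¹ * (α * E + β * Φ) - γ⁻¹ * E := by
    rw [hN]
    rw [hN] at hγN hN0
    field_simp
    ring
  rw [ha, hb]
  module

end Cfsg.Agent.S5977B
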