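import Mathlib
import Cfsg.Prelude.Def_GeometricClasses
import Cfsg.Prelude.Def_ClassicalGeometry
import Cfsg.Agent.Helper29.S5977Defs

set_option autoImplicit false
open scoped MatrixGroups

/-! S5977 / S5978, piece FRAMES: a normalised `K`-orthogonal frame (`K = F[J]`, `J * J = ν`). -/

namespace Cfsg.Agent.S5977P

namespace FRAMES

/-! ### the field lemma: a binary diagonal form over `F(√ν)` represents `1` -/

theorem exists_solve {F : Type*} [Field F] [Fintype F] (h2 : (2 : F) ≠ 0) (ν : F)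
    (hν : ¬ IsSquare ν) (α₁ β₁ α₂ β₂ : F) (h₁ : α₁ ≠ 0 ∨ β₁ ≠ 0) (h₂ : α₂ ≠ 0 ∨ β₂ ≠ 0) :
    ∃ x₁ y₁ x₂ y₂ : F,
      (α₁ * (x₁ ^ 2 + ν * y₁ ^ 2) + 2 * ν * β₁ * x₁ * y₁) +
        (α₂ * (x₂ ^ 2 + ν * y₂ ^ 2) + 2 * ν * β₂ * x₂ * y₂) = 1 ∧
      (β₁ * (x₁ ^ 2 + ν * y₁ ^ 2) + 2 * α₁ * x₁ * y₁) +
        (β₂ * (x₂ ^ 2 + ν * y₂ ^ 2) + 2 * α₂ * x₂ * y₂) = 0 := by
  classical
  haveI : Fact (∀ r : F, r ^ 2 ≠ ν + 0 * r) :=
    ⟨fun r h => hν ⟨r, by rw [← sq, h]; ring⟩⟩
  letI : Fintype (QuadraticAlgebra F ν 0) :=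
    Fintype.ofEquiv (F × F) (QuadraticAlgebra.equivProd ν 0).symm
  have hcard : Fintype.card (QuadraticAlgebra F ν 0) % 2 = 1 := by
    rw [Fintype.card_congr (QuadraticAlgebra.equivProd ν 0), Fintype.card_prod]
    have hodd : Fintype.card F % 2 = 1 := by
      apply FiniteField.odd_card_of_char_ne_two
      intro h
      apply h2
      have := ringChar.Nat.cast_ringChar (R := F)
      rw [h] at this
      exact_mod_cast this
    rw [Nat.mul_mod, hodd]
  set a₁ : QuadraticAlgebra F ν 0 := ⟨α₁, β₁⟩ with ha₁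
  set a₂ : QuadraticAlgebra F ν 0 := ⟨α₂, β₂⟩ with ha₂
  have ha₁0 : a₁ ≠ 0 := by
    intro h
    have hre := congrArg QuadraticAlgebra.re h
    have him := congrArg QuadraticAlgebra.im h
    simp only [ha₁, QuadraticAlgebra.re_zero, QuadraticAlgebra.im_zero] at hre him
    rcases h₁ with h | h
    · exact h hre
    · exact h him
  have ha₂0 : a₂ ≠ 0 := by
    intro h
    have hre := congrArg QuadraticAlgebra.re h
    have him := congrArg QuadraticAlgebra.im h
    simp only [ha₂, QuadraticAlgebra.re_zero, QuadraticAlgebra.im_zero] at hre him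
    rcases h₂ with h | h
    · exact h hre
    · exact h him
  open Polynomial in
  have hf : degree (C a₁ * X ^ 2 + C 0 * X + C 0 : (QuadraticAlgebra F ν 0)[X]) = 2 :=
    degree_quadratic ha₁0
  open Polynomial in
  have hg : degree (C a₂ * X ^ 2 + C 0 * X + C (-1) : (QuadraticAlgebra F ν 0)[X]) = 2 :=
    degree_quadratic ha₂0
  obtain ⟨κ₁, κ₂, hκ⟩ := FiniteField.exists_root_sum_quadratic hf hg hcard
  simp only [Polynomial.eval_add, Polynomial.eval_mul, Polynomial.eval_C, Polynomial.eval_pow,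
    Polynomial.eval_X, zero_mul, add_zero] at hκ
  refine ⟨κ₁.re, κ₁.im, κ₂.re, κ₂.im, ?_, ?_⟩
  · have hre := congrArg QuadraticAlgebra.re hκ
    simp only [ha₁, ha₂, sq, QuadraticAlgebra.re_add, QuadraticAlgebra.re_mul,
      QuadraticAlgebra.im_mul, QuadraticAlgebra.re_neg, QuadraticAlgebra.re_one,
      QuadraticAlgebra.re_zero] at hre
    linear_combination hre
  · have him := congrArg QuadraticAlgebra.im hκ
    simp only [ha₁, ha₂, sq, QuadraticAlgebra.im_add, QuadraticAlgebra.re_mul,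
      QuadraticAlgebra.im_mul, QuadraticAlgebra.im_neg, QuadraticAlgebra.im_one,
      QuadraticAlgebra.im_zero] at him
    linear_combination him

/-! ### bilinear bookkeeping -/

section basics

variable {F : Type*} [Field F] {ι : Type} [Fintype ι] [DecidableEq ι]
  (Q : QuadraticForm F (ι → F)) {ν : F} {J : Matrix ι ι F}

theorem polar_sum_left {κ : Type*} (s : Finset κ) (f : κ → (ι → F)) (v : ι → F) :
    QuadraticMap.polar ⇑Q (∑ a ∈ s, f a) v = ∑ a ∈ s, QuadraticMap.polar ⇑Q (f a) v := by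
  classical
  induction s using Finset.induction_on with
  | empty => simp
  | insert a s ha ih =>
    rw [Finset.sum_insert ha, Finset.sum_insert ha, QuadraticMap.polar_add_left, ih]

theorem polar_sum_right {κ : Type*} (s : Finset κ) (f : κ → (ι → F)) (v : ι → F) :
    QuadraticMap.polar ⇑Q v (∑ a ∈ s, f a) = ∑ a ∈ s, QuadraticMap.polar ⇑Q v (f a) := by
  classical
  induction s using Finset.induction_on with
  | empty => simp
  | insert a s ha ih =>
    rw [Finset.sum_insert ha, Finset.sum_insert ha, QuadraticMap.polar_add_right, ih]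

theorem polar_self2 (v : ι → F) : QuadraticMap.polar ⇑Q v v = 2 * Q v := by
  rw [QuadraticMap.polar_self]
  simp

variable (hsq : J * J = ν • (1 : Matrix ι ι F))
  (hadj : ∀ u v : ι → F, QuadraticMap.polar ⇑Q (J.mulVec u) v =
    QuadraticMap.polar ⇑Q u (J.mulVec v))

include hsq in
theorem JJ (v : ι → F) : J.mulVec (J.mulVec v) = ν • v := by
  rw [Matrix.mulVec_mulVec, hsq, Matrix.smul_mulVec, Matrix.one_mulVec]

include hsq hadj in
theorem polar_J_J (u v : ι → F) :
    QuadraticMap.polar ⇑Q (J.mulVec u) (J.mulVec v) = ν * QuadraticMap.polar ⇑Q u v := by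
  rw [hadj, JJ hsq, QuadraticMap.polar_smul_right, smul_eq_mul]

include hsq hadj in
theorem Q_J (h2 : (2 : F) ≠ 0) (v : ι → F) : Q (J.mulVec v) = ν * Q v := by
  have h := polar_J_J Q hsq hadj v v
  rw [polar_self2, polar_self2] at h
  apply mul_left_cancel₀ h2
  linear_combination h

include hsq hadj in
theorem Q_comb (h2 : (2 : F) ≠ 0) (w : ι → F) (x y : F) :
    Q (x • w + y • J.mulVec w) =
      (x ^ 2 + ν * y ^ 2) * Q w + x * y * QuadraticMap.polar ⇑Q w (J.mulVec w) := by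
  rw [QuadraticMap.map_add Q, QuadraticMap.map_smul Q, QuadraticMap.map_smul Q,
    Q_J Q hsq hadj h2, QuadraticMap.polar_smul_left, QuadraticMap.polar_smul_right]
  simp only [smul_eq_mul]
  ring

include hsq hadj in
theorem B_comb (w : ι → F) (x y : F) :
    QuadraticMap.polar ⇑Q (x • w + y • J.mulVec w) (J.mulVec (x • w + y • J.mulVec w)) =
      (x ^ 2 + ν * y ^ 2) * QuadraticMap.polar ⇑Q w (J.mulVec w) + 4 * ν * x * y * Q w := by
  rw [Matrix.mulVec_add, Matrix.mulVec_smul, Matrix.mulVec_smul, JJ hsq]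
  simp only [QuadraticMap.polar_add_left, QuadraticMap.polar_add_right,
    QuadraticMap.polar_smul_left, QuadraticMap.polar_smul_right, smul_eq_mul]
  rw [polar_J_J Q hsq hadj, hadj w w, polar_self2]
  ring

include hsq hadj in
theorem orth_comb {w₁ w₂ : ι → F} (h : QuadraticMap.polar ⇑Q w₁ w₂ = 0)
    (h' : QuadraticMap.polar ⇑Q w₁ (J.mulVec w₂) = 0) (x₁ y₁ x₂ y₂ : F) :
    QuadraticMap.polar ⇑Q (x₁ • w₁ + y₁ • J.mulVec w₁) (x₂ • w₂ + y₂ • J.mulVec w₂) = 0 ∧
    QuadraticMap.polar ⇑Q (x₁ • w₁ + y₁ • J.mulVec w₁)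
      (J.mulVec (x₂ • w₂ + y₂ • J.mulVec w₂)) = 0 := by
  constructor
  · simp only [QuadraticMap.polar_add_left, QuadraticMap.polar_add_right,
      QuadraticMap.polar_smul_left, QuadraticMap.polar_smul_right, smul_eq_mul]
    rw [polar_J_J Q hsq hadj, hadj w₁ w₂, h, h']
    ring
  · rw [Matrix.mulVec_add, Matrix.mulVec_smul, Matrix.mulVec_smul, JJ hsq]
    simp only [QuadraticMap.polar_add_left, QuadraticMap.polar_add_right,
      QuadraticMap.polar_smul_left, QuadraticMap.polar_smul_right, smul_eq_mul]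
    rw [polar_J_J Q hsq hadj, hadj w₁ w₂, h, h']
    ring

end basics

/-! ### partial frames -/

theorem scal1 {F : Type*} [Field F] (c0 c1 ν B1 B2 N : F) (hN : N ≠ 0) (hν : ν ≠ 0)
    (h4 : (4 : F) ≠ 0) (hdef : N = c0 ^ 2 - ν * c1 ^ 2) :
    (c0 * B1 - c1 * B2) / (4 * N) * (4 * c0) +
      (c0 * B2 - ν * c1 * B1) / (4 * ν * N) * (4 * ν * c1) = B1 := by
  field_simp
  rw [hdef]
  ring

theorem scal2 {F : Type*} [Field F] (c0 c1 ν B1 B2 N : F) (hN : N ≠ 0) (hν : ν ≠ 0)
    (h4 : (4 : F) ≠ 0) (hdef : N = c0 ^ 2 - ν * c1 ^ 2) :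
    (c0 * B1 - c1 * B2) / (4 * N) * (4 * ν * c1) +
      (c0 * B2 - ν * c1 * B1) / (4 * ν * N) * (4 * ν * c0) = B2 := by
  field_simp
  rw [hdef]
  ring

section partial_frames

variable {F : Type*} [Field F] {ι : Type} [Fintype ι] [DecidableEq ι]
  (Q : QuadraticForm F (ι → F)) (ν : F) (J : Matrix ι ι F)

/-- partial frames with anisotropic values -/
structure PF (k : ℕ) (e : Fin k → (ι → F)) (c0 c1 : Fin k → F) : Prop where
  orth : ∀ a b, a ≠ b → QuadraticMap.polar ⇑Q (e a) (e b) = 0 ∧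
    QuadraticMap.polar ⇑Q (e a) (J.mulVec (e b)) = 0
  val0 : ∀ a, Q (e a) = 2 * c0 a
  val1 : ∀ a, QuadraticMap.polar ⇑Q (e a) (J.mulVec (e a)) = 4 * ν * c1 a
  ne : ∀ a, c0 a ^ 2 - ν * c1 a ^ 2 ≠ 0

/-- orthogonal to the partial frame -/
def InW {k : ℕ} (e : Fin k → (ι → F)) (v : ι → F) : Prop :=
  ∀ a, QuadraticMap.polar ⇑Q v (e a) = 0 ∧ QuadraticMap.polar ⇑Q v (J.mulVec (e a)) = 0

/-- first coefficient of the projection -/
noncomputable def lam {k : ℕ} (e : Fin k → (ι → F)) (c0 c1 : Fin k → F) (a : Fin k)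
    (v : ι → F) : F :=
  (c0 a * QuadraticMap.polar ⇑Q v (e a) - c1 a * QuadraticMap.polar ⇑Q v (J.mulVec (e a))) /
    (4 * (c0 a ^ 2 - ν * c1 a ^ 2))

/-- second coefficient of the projection -/
noncomputable def mu {k : ℕ} (e : Fin k → (ι → F)) (c0 c1 : Fin k → F) (a : Fin k)
    (v : ι → F) : F :=
  (c0 a * QuadraticMap.polar ⇑Q v (J.mulVec (e a)) - ν * c1 a * QuadraticMap.polar ⇑Q v (e a)) /
    (4 * ν * (c0 a ^ 2 - ν * c1 a ^ 2))

/-- projection to the orthogonal complement of a partial frame -/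
noncomputable def proj {k : ℕ} (e : Fin k → (ι → F)) (c0 c1 : Fin k → F) (v : ι → F) : ι → F :=
  v - ∑ a, (lam Q ν J e c0 c1 a v • e a + mu Q ν J e c0 c1 a v • J.mulVec (e a))

variable {Q ν J}
variable (hsq : J * J = ν • (1 : Matrix ι ι F))
  (hadj : ∀ u v : ι → F, QuadraticMap.polar ⇑Q (J.mulVec u) v =
    QuadraticMap.polar ⇑Q u (J.mulVec v))

theorem PF.t00 {k : ℕ} {e : Fin k → (ι → F)} {c0 c1 : Fin k → F} (he : PF Q ν J k e c0 c1)
    (a b : Fin k) : QuadraticMap.polar ⇑Q (e a) (e b) = if a = b then 4 * c0 a else 0 := by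
  by_cases hab : a = b
  · subst hab
    rw [if_pos rfl, polar_self2, he.val0]; ring
  · rw [if_neg hab, (he.orth a b hab).1]

theorem PF.t01 {k : ℕ} {e : Fin k → (ι → F)} {c0 c1 : Fin k → F} (he : PF Q ν J k e c0 c1)
    (a b : Fin k) :
    QuadraticMap.polar ⇑Q (e a) (J.mulVec (e b)) = if a = b then 4 * ν * c1 a else 0 := by
  by_cases hab : a = b
  · subst hab
    rw [if_pos rfl, he.val1]
  · rw [if_neg hab, (he.orth a b hab).2]

include hadj in
theorem PF.t10 {k : ℕ} {e : Fin k → (ι → F)} {c0 c1 : Fin k → F} (he : PF Q ν J k e c0 c1)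
    (a b : Fin k) :
    QuadraticMap.polar ⇑Q (J.mulVec (e a)) (e b) = if a = b then 4 * ν * c1 a else 0 := by
  rw [hadj, he.t01]

include hsq hadj in
theorem PF.t11 {k : ℕ} {e : Fin k → (ι → F)} {c0 c1 : Fin k → F} (he : PF Q ν J k e c0 c1)
    (a b : Fin k) :
    QuadraticMap.polar ⇑Q (J.mulVec (e a)) (J.mulVec (e b)) =
      if a = b then 4 * ν * c0 a else 0 := by
  rw [polar_J_J Q hsq hadj, he.t00]
  by_cases hab : a = b
  · rw [if_pos hab, if_pos hab]; ring
  · rw [if_neg hab, if_neg hab, mul_zero]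

include hsq hadj in
theorem proj_inW (h2 : (2 : F) ≠ 0) (hν0 : ν ≠ 0) {k : ℕ} {e : Fin k → (ι → F)}
    {c0 c1 : Fin k → F}
    (he : PF Q ν J k e c0 c1) (v : ι → F) : InW Q J e (proj Q ν J e c0 c1 v) := by
  classical
  intro b
  have hN := he.ne b
  have h4 : (4 : F) ≠ 0 := by
    have : (4 : F) = 2 * 2 := by norm_num
    rw [this]; exact mul_ne_zero h2 h2
  constructor
  · unfold proj
    rw [QuadraticMap.polar_sub_left, polar_sum_left]
    have h1 : ∀ a, QuadraticMap.polar ⇑Q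
        (lam Q ν J e c0 c1 a v • e a + mu Q ν J e c0 c1 a v • J.mulVec (e a)) (e b) =
        if a = b then QuadraticMap.polar ⇑Q v (e b) else 0 := by
      intro a
      rw [QuadraticMap.polar_add_left, QuadraticMap.polar_smul_left,
        QuadraticMap.polar_smul_left, he.t00, he.t10 hadj]
      by_cases hab : a = b
      · subst hab
        rw [if_pos rfl, if_pos rfl, if_pos rfl]
        unfold lam mu
        simp only [smul_eq_mul]
        exact scal1 _ _ _ _ _ _ hN hν0 h4 rfl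
      · rw [if_neg hab, if_neg hab, if_neg hab]; simp
    simp only [h1, Finset.sum_ite_eq', Finset.mem_univ, if_true, sub_self]
  · unfold proj
    rw [QuadraticMap.polar_sub_left, polar_sum_left]
    have h1 : ∀ a, QuadraticMap.polar ⇑Q
        (lam Q ν J e c0 c1 a v • e a + mu Q ν J e c0 c1 a v • J.mulVec (e a))
          (J.mulVec (e b)) =
        if a = b then QuadraticMap.polar ⇑Q v (J.mulVec (e b)) else 0 := by
      intro a
      rw [QuadraticMap.polar_add_left, QuadraticMap.polar_smul_left,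
        QuadraticMap.polar_smul_left, he.t01, he.t11 hsq hadj]
      by_cases hab : a = b
      · subst hab
        rw [if_pos rfl, if_pos rfl, if_pos rfl]
        unfold lam mu
        simp only [smul_eq_mul]
        exact scal2 _ _ _ _ _ _ hN hν0 h4 rfl
      · rw [if_neg hab, if_neg hab, if_neg hab]; simp
    simp only [h1, Finset.sum_ite_eq', Finset.mem_univ, if_true, sub_self]

theorem form_proj {k : ℕ} {e : Fin k → (ι → F)} {c0 c1 : Fin k → F} {w : ι → F}
    (hw : InW Q J e w) (v : ι → F) :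
    QuadraticMap.polar ⇑Q w (proj Q ν J e c0 c1 v) = QuadraticMap.polar ⇑Q w v := by
  unfold proj
  rw [QuadraticMap.polar_sub_right, polar_sum_right]
  have h1 : ∀ a, QuadraticMap.polar ⇑Q w
      (lam Q ν J e c0 c1 a v • e a + mu Q ν J e c0 c1 a v • J.mulVec (e a)) = 0 := by
    intro a
    rw [QuadraticMap.polar_add_right, QuadraticMap.polar_smul_right,
      QuadraticMap.polar_smul_right, (hw a).1, (hw a).2]
    simp
  simp only [h1, Finset.sum_const_zero, sub_zero]

theorem mem_span_of_proj_eq_zero {k : ℕ} {e : Fin k → (ι → F)} {c0 c1 : Fin k → F}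
    {v : ι → F} (hv : proj Q ν J e c0 c1 v = 0) :
    v ∈ Submodule.span F (Set.range (Sum.elim e (fun a => J.mulVec (e a)))) := by
  have h1 : v = ∑ a, (lam Q ν J e c0 c1 a v • e a + mu Q ν J e c0 c1 a v • J.mulVec (e a)) := by
    unfold proj at hv
    exact sub_eq_zero.mp hv
  rw [h1]
  apply Submodule.sum_mem
  intro a _
  apply Submodule.add_mem
  · apply Submodule.smul_mem
    exact Submodule.subset_span ⟨Sum.inl a, rfl⟩
  · apply Submodule.smul_mem
    exact Submodule.subset_span ⟨Sum.inr a, rfl⟩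

theorem inW_add {k : ℕ} {e : Fin k → (ι → F)} {u v : ι → F}
    (hu : InW Q J e u) (hv : InW Q J e v) : InW Q J e (u + v) := by
  intro a
  rw [QuadraticMap.polar_add_left, QuadraticMap.polar_add_left, (hu a).1, (hu a).2, (hv a).1,
    (hv a).2]
  simp

theorem inW_smul {k : ℕ} {e : Fin k → (ι → F)} {u : ι → F} (c : F)
    (hu : InW Q J e u) : InW Q J e (c • u) := by
  intro a
  rw [QuadraticMap.polar_smul_left, QuadraticMap.polar_smul_left, (hu a).1, (hu a).2]
  simp

include hsq hadj in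
theorem inW_J {k : ℕ} {e : Fin k → (ι → F)} {u : ι → F}
    (hu : InW Q J e u) : InW Q J e (J.mulVec u) := by
  intro a
  rw [hadj, polar_J_J Q hsq hadj, (hu a).1, (hu a).2]
  simp

/-- not in the span of a short partial frame -/
theorem exists_not_mem_span {d k : ℕ} (hcard : Fintype.card ι = 2 * d) (hk : k < d)
    (e : Fin k → (ι → F)) :
    ∃ v : ι → F, v ∉ Submodule.span F (Set.range (Sum.elim e (fun a => J.mulVec (e a)))) := by
  by_contra hcon
  have htop : Submodule.span F (Set.range (Sum.elim e (fun a => J.mulVec (e a)))) = ⊤ := by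
    rw [eq_top_iff]
    intro v _
    by_contra hv
    exact hcon ⟨v, hv⟩
  have h1 := finrank_range_le_card (R := F) (Sum.elim e (fun a => J.mulVec (e a)))
  unfold Set.finrank at h1
  rw [htop, finrank_top, Module.finrank_fintype_fun_eq_card, Fintype.card_sum,
    Fintype.card_fin] at h1
  omega

end partial_frames

/-! ### the extension steps -/

section main

variable {F : Type*} [Field F] {ι : Type} [Fintype ι] [DecidableEq ι]
  {Q : QuadraticForm F (ι → F)} {ν : F} {J : Matrix ι ι F}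

theorem N_ne (hν : ¬ IsSquare ν) {c0 c1 : F} (h : c0 ≠ 0 ∨ c1 ≠ 0) :
    c0 ^ 2 - ν * c1 ^ 2 ≠ 0 := by
  intro h0
  by_cases hc1 : c1 = 0
  · subst hc1
    have hc0 : c0 ^ 2 = 0 := by linear_combination h0
    have hc0' : c0 = 0 := pow_eq_zero_iff (by norm_num) |>.1 hc0
    rcases h with h | h
    · exact h hc0'
    · exact h rfl
  · apply hν
    refine ⟨c0 / c1, ?_⟩
    field_simp
    linear_combination -h0

variable (h2 : (2 : F) ≠ 0) (hQ : (QuadraticMap.polarBilin Q).Nondegenerate)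
  (hν : ¬ IsSquare ν) (hsq : J * J = ν • (1 : Matrix ι ι F))
  (hadj : ∀ u v : ι → F, QuadraticMap.polar ⇑Q (J.mulVec u) v =
    QuadraticMap.polar ⇑Q u (J.mulVec v))

include hν in
theorem nu_ne : ν ≠ 0 := fun h => hν (h ▸ ⟨0, by simp⟩)

include h2 hQ hν hsq hadj in
/-- a non-singular vector in the complement of a short partial frame -/
theorem exists_aniso {d k : ℕ} (hcard : Fintype.card ι = 2 * d) (hk : k < d)
    {e : Fin k → (ι → F)} {c0 c1 : Fin k → F} (he : PF Q ν J k e c0 c1) :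
    ∃ w : ι → F, InW Q J e w ∧ Q w ≠ 0 := by
  have hν0 := nu_ne hν
  obtain ⟨v₀, hv₀⟩ := exists_not_mem_span (J := J) hcard hk e
  set w := proj Q ν J e c0 c1 v₀ with hw
  have hwW : InW Q J e w := proj_inW hsq hadj h2 hν0 he v₀
  have hw0 : w ≠ 0 := fun h0 => hv₀ (mem_span_of_proj_eq_zero h0)
  obtain ⟨v₁, hv₁⟩ : ∃ v₁, QuadraticMap.polar ⇑Q w v₁ ≠ 0 := by
    by_contra hcon
    push Not at hcon
    apply hw0
    apply hQ.1 w
    intro y
    rw [QuadraticMap.polarBilin_apply_apply]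
    exact hcon y
  set v' := proj Q ν J e c0 c1 v₁ with hv'
  have hv'W : InW Q J e v' := proj_inW hsq hadj h2 hν0 he v₁
  have hwv' : QuadraticMap.polar ⇑Q w v' ≠ 0 := by rw [form_proj hwW]; exact hv₁
  by_cases h1 : Q w = 0
  · by_cases h3 : Q v' = 0
    · refine ⟨w + v', inW_add hwW hv'W, ?_⟩
      intro h4
      apply hwv'
      have := QuadraticMap.map_add Q w v'
      rw [h1, h3, h4] at this
      linear_combination -this
    · exact ⟨v', hv'W, h3⟩
  · exact ⟨w, hwW, h1⟩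

include hadj in
/-- extension of a partial frame -/
theorem pf_snoc {k : ℕ} {e : Fin k → (ι → F)} {c0 c1 : Fin k → F} (he : PF Q ν J k e c0 c1)
    {w : ι → F} (hw : InW Q J e w) {γ0 γ1 : F} (h0 : Q w = 2 * γ0)
    (h1 : QuadraticMap.polar ⇑Q w (J.mulVec w) = 4 * ν * γ1) (hN : γ0 ^ 2 - ν * γ1 ^ 2 ≠ 0) :
    PF Q ν J (k + 1) (Fin.snoc (α := fun _ => ι → F) e w) (Fin.snoc (α := fun _ => F) c0 γ0)
      (Fin.snoc (α := fun _ => F) c1 γ1) := by
  refine ⟨?_, ?_, ?_, ?_⟩
  · intro a b hab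
    induction a using Fin.lastCases with
    | last =>
      induction b using Fin.lastCases with
      | last => exact absurd rfl hab
      | cast b =>
        rw [Fin.snoc_last, Fin.snoc_castSucc]
        exact hw b
    | cast a =>
      induction b using Fin.lastCases with
      | last =>
        rw [Fin.snoc_last, Fin.snoc_castSucc]
        constructor
        · rw [QuadraticMap.polar_comm]; exact (hw a).1
        · rw [← hadj, QuadraticMap.polar_comm]; exact (hw a).2
      | cast b =>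
        rw [Fin.snoc_castSucc, Fin.snoc_castSucc]
        exact he.orth a b (fun h => hab (by rw [h]))
  · intro a
    induction a using Fin.lastCases with
    | last => rw [Fin.snoc_last, Fin.snoc_last]; exact h0
    | cast a => rw [Fin.snoc_castSucc, Fin.snoc_castSucc]; exact he.val0 a
  · intro a
    induction a using Fin.lastCases with
    | last => rw [Fin.snoc_last, Fin.snoc_last]; exact h1
    | cast a => rw [Fin.snoc_castSucc, Fin.snoc_castSucc]; exact he.val1 a
  · intro a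
    induction a using Fin.lastCases with
    | last => rw [Fin.snoc_last, Fin.snoc_last]; exact hN
    | cast a => rw [Fin.snoc_castSucc, Fin.snoc_castSucc]; exact he.ne a

theorem inW_of_snoc {k : ℕ} {e : Fin k → (ι → F)} {w v : ι → F}
    (hv : InW Q J (Fin.snoc (α := fun _ => ι → F) e w) v) :
    InW Q J e v ∧ QuadraticMap.polar ⇑Q v w = 0 ∧ QuadraticMap.polar ⇑Q v (J.mulVec w) = 0 := by
  refine ⟨fun a => ?_, ?_, ?_⟩
  · have := hv (Fin.castSucc a)
    rwa [Fin.snoc_castSucc] at this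
  · have := (hv (Fin.last k)).1
    rwa [Fin.snoc_last] at this
  · have := (hv (Fin.last k)).2
    rwa [Fin.snoc_last] at this

include h2 hQ hν hsq hadj in
/-- the normalised extension step -/
theorem exists_next_norm [Fintype F] {d k : ℕ} (hcard : Fintype.card ι = 2 * d) (hk : k + 1 < d)
    {e : Fin k → (ι → F)} {c0 c1 : Fin k → F} (he : PF Q ν J k e c0 c1) :
    ∃ w : ι → F, InW Q J e w ∧ Q w = 2 ∧ QuadraticMap.polar ⇑Q w (J.mulVec w) = 0 := by
  have hν0 := nu_ne hν
  have h4 : (4 : F) ≠ 0 := by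
    have : (4 : F) = 2 * 2 := by norm_num
    rw [this]; exact mul_ne_zero h2 h2
  obtain ⟨w₁, hw₁W, hw₁⟩ := exists_aniso h2 hQ hν hsq hadj hcard (by omega) he
  set γ0 : F := Q w₁ / 2 with hγ0
  set γ1 : F := QuadraticMap.polar ⇑Q w₁ (J.mulVec w₁) / (4 * ν) with hγ1
  have h0 : Q w₁ = 2 * γ0 := by rw [hγ0]; field_simp
  have h1 : QuadraticMap.polar ⇑Q w₁ (J.mulVec w₁) = 4 * ν * γ1 := by rw [hγ1]; field_simp
  have hγ0ne : γ0 ≠ 0 := div_ne_zero hw₁ h2
  have he' := pf_snoc hadj he hw₁W h0 h1 (N_ne hν (Or.inl hγ0ne))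
  obtain ⟨w₂, hw₂W', hw₂⟩ := exists_aniso h2 hQ hν hsq hadj hcard hk he'
  obtain ⟨hw₂W, h21, h21'⟩ := inW_of_snoc hw₂W'
  set α₂ : F := Q w₂ / 2 with hα₂
  set β₂ : F := QuadraticMap.polar ⇑Q w₂ (J.mulVec w₂) / (4 * ν) with hβ₂
  have k0 : Q w₂ = 2 * α₂ := by rw [hα₂]; field_simp
  have k1 : QuadraticMap.polar ⇑Q w₂ (J.mulVec w₂) = 4 * ν * β₂ := by rw [hβ₂]; field_simp
  have hα₂ne : α₂ ≠ 0 := div_ne_zero hw₂ h2
  obtain ⟨x₁, y₁, x₂, y₂, hre, him⟩ :=
    exists_solve h2 ν hν γ0 γ1 α₂ β₂ (Or.inl hγ0ne) (Or.inl hα₂ne)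
  have h12 : QuadraticMap.polar ⇑Q w₁ w₂ = 0 := by rw [QuadraticMap.polar_comm]; exact h21
  have h12' : QuadraticMap.polar ⇑Q w₁ (J.mulVec w₂) = 0 := by
    rw [← hadj, QuadraticMap.polar_comm]; exact h21'
  obtain ⟨ho, ho'⟩ := orth_comb Q hsq hadj h12 h12' x₁ y₁ x₂ y₂
  set u₁ := x₁ • w₁ + y₁ • J.mulVec w₁ with hu₁
  set u₂ := x₂ • w₂ + y₂ • J.mulVec w₂ with hu₂
  have hu₁W : InW Q J e u₁ := inW_add (inW_smul _ hw₁W) (inW_smul _ (inW_J hsq hadj hw₁W))
  have hu₂W : InW Q J e u₂ := inW_add (inW_smul _ hw₂W) (inW_smul _ (inW_J hsq hadj hw₂W))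
  refine ⟨u₁ + u₂, inW_add hu₁W hu₂W, ?_, ?_⟩
  · rw [QuadraticMap.map_add Q, ho, hu₁, hu₂, Q_comb Q hsq hadj h2, Q_comb Q hsq hadj h2, h0, h1,
      k0, k1]
    linear_combination 2 * hre
  · have ho'' : QuadraticMap.polar ⇑Q u₂ (J.mulVec u₁) = 0 := by
      rw [← hadj, QuadraticMap.polar_comm]; exact ho'
    rw [Matrix.mulVec_add, QuadraticMap.polar_add_left, QuadraticMap.polar_add_right,
      QuadraticMap.polar_add_right, ho', ho'', hu₁, hu₂, B_comb Q hsq hadj, B_comb Q hsq hadj,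
      h0, h1, k0, k1]
    linear_combination 4 * ν * him

theorem snoc_const {α : Type*} (k : ℕ) (c : α) :
    (Fin.snoc (α := fun _ => α) (fun _ : Fin k => c) c : Fin (k + 1) → α) = fun _ => c := by
  funext a
  induction a using Fin.lastCases with
  | last => rw [Fin.snoc_last]
  | cast a => rw [Fin.snoc_castSucc]

include h2 hQ hν hsq hadj in
theorem exists_npf [Fintype F] {d : ℕ} (hcard : Fintype.card ι = 2 * d) :
    ∀ k : ℕ, k + 1 ≤ d →
      ∃ e : Fin k → (ι → F), PF Q ν J k e (fun _ => 1) (fun _ => 0) := by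
  intro k
  induction k with
  | zero =>
    intro _
    exact ⟨Fin.elim0, ⟨fun a => a.elim0, fun a => a.elim0, fun a => a.elim0, fun a => a.elim0⟩⟩
  | succ k ih =>
    intro hk
    obtain ⟨e, he⟩ := ih (by omega)
    obtain ⟨w, hwW, hw0, hw1⟩ := exists_next_norm h2 hQ hν hsq hadj hcard (by omega) he
    have := pf_snoc hadj he hwW (γ0 := 1) (γ1 := 0) (by rw [hw0, mul_one])
      (by rw [hw1, mul_zero]) (by simp)
    rw [snoc_const, snoc_const] at this
    exact ⟨_, this⟩

include hsq hadj in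
theorem indep_of_pf (h4 : (4 : F) ≠ 0) (hν0 : ν ≠ 0) {k : ℕ} {e : Fin k → (ι → F)}
    {c0 c1 : Fin k → F} (he : PF Q ν J k e c0 c1) :
    LinearIndependent F (Sum.elim e (fun a => J.mulVec (e a))) := by
  classical
  rw [Fintype.linearIndependent_iff]
  intro g hg
  rw [Fintype.sum_sum_type] at hg
  simp only [Sum.elim_inl, Sum.elim_inr] at hg
  have key : ∀ b, g (Sum.inl b) = 0 ∧ g (Sum.inr b) = 0 := by
    intro b
    have e1 := congrArg (fun v => QuadraticMap.polar ⇑Q v (e b)) hg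
    have e2 := congrArg (fun v => QuadraticMap.polar ⇑Q v (J.mulVec (e b))) hg
    simp only [QuadraticMap.polar_add_left, polar_sum_left, QuadraticMap.polar_smul_left,
      he.t00, he.t01, he.t10 hadj, he.t11 hsq hadj, smul_eq_mul, mul_ite, mul_zero,
      Finset.sum_ite_eq', Finset.mem_univ, if_true, QuadraticMap.polar_zero_left] at e1 e2
    have hN := he.ne b
    constructor
    · have : g (Sum.inl b) * (4 * (c0 b ^ 2 - ν * c1 b ^ 2)) = 0 := by
        linear_combination c0 b * e1 - c1 b * e2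
      rcases mul_eq_zero.1 this with h | h
      · exact h
      · exact absurd h (mul_ne_zero h4 hN)
    · have : g (Sum.inr b) * (4 * ν * (c0 b ^ 2 - ν * c1 b ^ 2)) = 0 := by
        linear_combination c0 b * e2 - ν * c1 b * e1
      rcases mul_eq_zero.1 this with h | h
      · exact h
      · exact absurd h (mul_ne_zero (mul_ne_zero h4 hν0) hN)
  intro s
  rcases s with s | s
  · exact (key s).1
  · exact (key s).2

end main

end FRAMES

open FRAMES in
/-- FRAMES -/
theorem exists_frameS {F : Type*} [Field F] [Fintype F] {ι : Type} [Fintype ι] [DecidableEq ι]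
    (h2 : (2 : F) ≠ 0) (Q : QuadraticForm F (ι → F))
    (hQ : (QuadraticMap.polarBilin Q).Nondegenerate) (ν : F) (hν : ¬ IsSquare ν)
    (J : Matrix ι ι F) (hsq : J * J = ν • (1 : Matrix ι ι F))
    (hadj : ∀ u v : ι → F, QuadraticMap.polar ⇑Q (J.mulVec u) v =
      QuadraticMap.polar ⇑Q u (J.mulVec v))
    (d : ℕ) (hd : 1 ≤ d) (hcard : Fintype.card ι = 2 * d) :
    ∃ (e : Fin d → (ι → F)) (δ0 δ1 : F), IsNormFrameS ⇑Q ν J d e δ0 δ1 := by
  classical
  obtain ⟨d', rfl⟩ : ∃ d', d = d' + 1 := ⟨d - 1, by omega⟩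
  have hν0 := nu_ne hν
  have h4 : (4 : F) ≠ 0 := by
    have : (4 : F) = 2 * 2 := by norm_num
    rw [this]; exact mul_ne_zero h2 h2
  obtain ⟨e', he'⟩ := exists_npf h2 hQ hν hsq hadj hcard d' le_rfl
  obtain ⟨w, hwW, hw⟩ := exists_aniso h2 hQ hν hsq hadj hcard (Nat.lt_succ_self d') he'
  set δ0 : F := Q w / 2 with hδ0
  set δ1 : F := QuadraticMap.polar ⇑Q w (J.mulVec w) / (4 * ν) with hδ1
  have h0 : Q w = 2 * δ0 := by rw [hδ0]; field_simp
  have h1 : QuadraticMap.polar ⇑Q w (J.mulVec w) = 4 * ν * δ1 := by rw [hδ1]; field_simp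
  have hδ0ne : δ0 ≠ 0 := div_ne_zero hw h2
  have hpf := pf_snoc hadj he' hwW h0 h1 (N_ne hν (Or.inl hδ0ne))
  refine ⟨Fin.snoc (α := fun _ => ι → F) e' w, δ0, δ1, ?_⟩
  unfold IsNormFrameS
  have hc0 : (fun a : Fin (d' + 1) => if a.val + 1 = d' + 1 then δ0 else (1 : F)) =
      Fin.snoc (α := fun _ => F) (fun _ => 1) δ0 := by
    funext a
    induction a using Fin.lastCases with
    | last => rw [Fin.snoc_last, Fin.val_last, if_pos rfl]
    | cast a =>
      rw [Fin.snoc_castSucc, Fin.val_castSucc, if_neg]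
      have := a.2
      omega
  have hc1 : (fun a : Fin (d' + 1) => if a.val + 1 = d' + 1 then δ1 else (0 : F)) =
      Fin.snoc (α := fun _ => F) (fun _ => 0) δ1 := by
    funext a
    induction a using Fin.lastCases with
    | last => rw [Fin.snoc_last, Fin.val_last, if_pos rfl]
    | cast a =>
      rw [Fin.snoc_castSucc, Fin.val_castSucc, if_neg]
      have := a.2
      omega
  rw [hc0, hc1]
  exact ⟨hpf.orth, hpf.val0, hpf.val1, indep_of_pf hsq hadj h4 hν0 hpf, hcard⟩

end Cfsg.Agent.S5977P
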