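import Mathlib
import Cfsg.Prelude.Def_GeometricClasses
import Cfsg.Prelude.Def_ClassicalGeometry
import Cfsg.Agent.Helper29.S5977Defs
import Cfsg.Agent.Helper19.S5976ROOT

set_option autoImplicit false
open scoped MatrixGroups

/-! S5977 / S5978, piece ROOTS: a self-adjoint quadratic field subalgebra `K` has a generator `J`
with `J * J = ν` for any non-square `ν`. -/

namespace Cfsg.Agent.S5977P

/-- ROOTS -/
theorem exists_genS {F : Type*} [Field F] [Fintype F] {ι : Type} [Fintype ι] [DecidableEq ι]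
    (h2 : (2 : F) ≠ 0) (Q : (ι → F) → F) (K : Subalgebra F (Matrix ι ι F)) (hK : HypS Q K)
    (ν : F) (hν : ¬ IsSquare ν) : ∃ J : Matrix ι ι F, IsGenS Q K ν J := by
  classical
  obtain ⟨hone, hnzd, ω, p', t', hωK, hωsq, hspan, hirr'⟩ :=
    Cfsg.Agent.S5976P.ROOT.exists_omega K hK.field
  have hδns : ¬ IsSquare (t' * t' + 4 * p') := by
    rintro ⟨s, hs⟩
    apply hirr' ((t' + s) / 2)
    field_simp
    linear_combination -hs
  obtain ⟨s, hs0, hs⟩ := Cfsg.Agent.S5976P.ROOT.exists_sq_mul h2 hν hδns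
  set θ : Matrix ι ι F := (2 : F) • ω - t' • (1 : Matrix ι ι F) with hθ
  have hθK : θ ∈ K := K.sub_mem (K.smul_mem hωK _) (K.smul_mem K.one_mem _)
  have hθsq : θ * θ = (t' * t' + 4 * p') • (1 : Matrix ι ι F) := by
    rw [hθ]
    simp only [sub_mul, mul_sub, Matrix.smul_mul, Matrix.mul_smul, Matrix.one_mul,
      Matrix.mul_one]
    rw [hωsq]
    module
  have hJK : s • θ ∈ K := K.smul_mem hθK _
  refine ⟨s • θ, ⟨hJK, ?_, fun u v => hK.sa _ hJK u v, ?_⟩⟩
  · rw [smul_mul_smul_comm, hθsq, smul_smul, hs]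
  · intro k hk
    obtain ⟨α, β, hkαβ⟩ := hspan k hk
    refine ⟨α + β * t' / 2, β / (2 * s), ?_⟩
    rw [hkαβ, hθ, smul_smul]
    have e1 : β / (2 * s) * s = β / 2 := by field_simp
    rw [e1, smul_sub, smul_smul, smul_smul]
    have e2 : β / 2 * 2 = β := by field_simp
    rw [e2]
    have e3 : α + β * t' / 2 = α + β / 2 * t' := by ring
    rw [e3, add_smul]
    abel

end Cfsg.Agent.S5977P
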