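import Mathlib
import Cfsg.Prelude.Def_GeometricClasses
import Cfsg.Prelude.Def_ClassicalGeometry
import Cfsg.Agent.Helper21.S5977OmegaAdj
import Cfsg.Agent.Helper21.S5977BPLANES
import Cfsg.Agent.Helper21.S5977BEIGEN
import Cfsg.Agent.Helper21.S5977BSMALL
import Cfsg.Agent.Helper21.S5977BROT
import Cfsg.Agent.Helper21.S5977BPAIRJ
import Cfsg.Agent.Helper21.S5977BPAIRINV
import Cfsg.Agent.Helper21.S5977BQFIELD
import Cfsg.Agent.Helper29.S5977CONJK

set_option autoImplicit false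
open scoped MatrixGroups

/-! S5977/S5978, half BACK: the case `x * x = 1`. -/

namespace Cfsg.Agent.S5977B

open Cfsg.Agent.Helper28 Cfsg.Agent.Helper28.Spin Cfsg.Agent.Helper28.IsoTransport

/-- BACK1: an involution of `Ω(Q)` is `Ω(Q)`-conjugate into `N(K)` -/
theorem back_of_sq_eq_one {F : Type*} [Field F] [Fintype F] (h2 : (2 : F) ≠ 0) {ι : Type}
    [Fintype ι] [DecidableEq ι] (Q : QuadraticForm F (ι → F))
    (hQ : (QuadraticMap.polarBilin Q).Nondegenerate) (d : ℕ) (hd1 : 1 ≤ d)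
    (hd : Fintype.card ι = 2 * d)
    (K : Subalgebra F (Matrix ι ι F)) (hK : Cfsg.Geo.IsFieldSubalgebra 2 K)
    (hsa : Cfsg.Geo.IsSelfAdjointFor (QuadraticMap.polar ⇑Q) K)
    (x : ↥(Cfsg.isometryGroup F ⇑Q)) (hxΩ : x ∈ Cfsg.Omega F ⇑Q)
    (hxx : ((x : GL ι F) : Matrix ι ι F) * ((x : GL ι F) : Matrix ι ι F) = 1) :
    ∃ g : ↥(Cfsg.isometryGroup F ⇑Q), g ∈ Cfsg.Omega F ⇑Q ∧
      (g : GL ι F)⁻¹ * (x : GL ι F) * (g : GL ι F) ∈ Cfsg.Geo.subalgebraNormalizer K := by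
  classical
  have : Nonempty ι := by
    apply Fintype.card_pos_iff.1
    omega
  set X : Matrix ι ι F := ((x : GL ι F) : Matrix ι ι F) with hX
  have hXiso : ∀ v, Q (X.mulVec v) = Q v := fun v => isom_apply Q x v
  -- eigenbasis and pairing
  obtain ⟨b₀, ε₀, hε₀, hb₀, horth₀, hns₀⟩ := exists_eigenbasis h2 Q hQ X hXiso hxx
  have hdet : X.det = 1 := by
    have := det_eq_one_of_mem_Omega Q x hxΩ
    rw [← detHom_val, this, Units.val_one]
  have hprod : ∏ i, ε₀ i = 1 := by rw [← det_of_eigenbasis X b₀ ε₀ hb₀, hdet]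
  obtain ⟨σ, hσ⟩ := exists_pairing h2 (Fintype.card ι) d hd ε₀ hε₀ hprod
  set b : Module.Basis (Fin d × Fin 2) F (ι → F) := b₀.reindex σ.symm with hbdef
  have hbσ : ∀ i, b i = b₀ (σ i) := by
    intro i; rw [hbdef, Module.Basis.reindex_apply, Equiv.symm_symm]
  set ε : Fin d → F := fun k => ε₀ (σ (k, 0)) with hεdef
  have hxb : ∀ k j, X.mulVec (b (k, j)) = ε k • b (k, j) := by
    intro k j
    rw [hbσ, hb₀]
    congr 1
    fin_cases j
    · rfl
    · exact (hσ k).symm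
  have horth : ∀ i j, i ≠ j → QuadraticMap.polar ⇑Q (b i) (b j) = 0 := by
    intro i j hij
    rw [hbσ, hbσ]
    exact horth₀ _ _ (fun h => hij (σ.injective h))
  have hns : ∀ i, Q (b i) ≠ 0 := fun i => by rw [hbσ]; exact hns₀ _
  have hε : ∀ k, ε k ≠ 0 := by
    intro k
    rcases hε₀ (σ (k, 0)) with h | h <;> simp only [hεdef, h]
    · exact one_ne_zero
    · exact neg_ne_zero.2 one_ne_zero
  -- the structure J
  obtain ⟨ν, hν⟩ := FiniteField.exists_nonsquare (F := F)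
    (by
      intro h
      apply h2
      have := CharP.cast_eq_zero F (ringChar F)
      rw [h] at this
      exact_mod_cast this)
  obtain ⟨J, p, t, t', hJJ, hJsa, hJ0, hJ1, -⟩ := exists_pair_struct h2 Q b horth hns ν
  have hcomm : X * J = J * X := commute_of_pair_struct b X J ε p t t' hxb hJ0 hJ1
  obtain ⟨K', hK', hsa', hnorm⟩ := exists_field_of_struct Q J ν hν hJJ hJsa
  have hxK' : (x : GL ι F) ∈ Cfsg.Geo.subalgebraNormalizer K' := hnorm _ (Or.inl hcomm)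
  -- conjugacy of `K` and `K'`
  obtain ⟨g₀, hg₀⟩ := Cfsg.Agent.S5977P.exists_conj_of_fields h2 Q hQ K K' hK hK' hsa hsa'
  -- correction by the centralizer of `x`
  let k₀ : Fin d := ⟨0, hd1⟩
  have huw : QuadraticMap.polar ⇑Q (b (k₀, 0)) (b (k₀, 1)) = 0 :=
    horth _ _ (by simp)
  obtain ⟨c, hc, hcg⟩ := exists_corrector Q h2 hQ (Subgroup.centralizer {x}) (hns (k₀, 0))
    (hns (k₀, 1)) huw
    (by
      intro a a' h
      rw [Subgroup.mem_centralizer_iff]
      intro y hy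
      rw [Set.mem_singleton_iff] at hy
      subst hy
      have hev : X.mulVec (a • b (k₀, 0) + a' • b (k₀, 1)) =
          ε k₀ • (a • b (k₀, 0) + a' • b (k₀, 1)) := by
        rw [Matrix.mulVec_add, Matrix.mulVec_smul, Matrix.mulVec_smul, hxb, hxb, smul_add,
          smul_comm a, smul_comm a']
      exact (refl_commute_of_eigen Q y _ h (ε k₀) (hε k₀) hev).symm)
    g₀
  refine ⟨c * g₀, hcg, ?_⟩
  have hcx : c * x = x * c := by
    rw [Subgroup.mem_centralizer_iff] at hc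
    exact (hc x rfl).symm
  have hconj : ((c * g₀ : ↥(Cfsg.isometryGroup F ⇑Q)) : GL ι F)⁻¹ * (x : GL ι F) *
      ((c * g₀ : ↥(Cfsg.isometryGroup F ⇑Q)) : GL ι F) =
      (g₀ : GL ι F)⁻¹ * (x : GL ι F) * (g₀ : GL ι F) := by
    have h1 : (c * g₀)⁻¹ * x * (c * g₀) = g₀⁻¹ * x * g₀ := by
      rw [mul_inv_rev]
      calc g₀⁻¹ * c⁻¹ * x * (c * g₀) = g₀⁻¹ * (c⁻¹ * (x * c)) * g₀ := by group
        _ = g₀⁻¹ * x * g₀ := by rw [← hcx, inv_mul_cancel_left]
    have h2 := congrArg (Subgroup.subtype _) h1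
    simpa using h2
  rw [hconj]
  exact conj_mem_normalizer K K' (g₀ : GL ι F) (x : GL ι F) hg₀ hxK'

end Cfsg.Agent.S5977B
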