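import Mathlib
import Cfsg.Prelude.Def_GeometricClasses
import Cfsg.Prelude.Def_ClassicalGeometry
import Cfsg.Agent.Helper21.S5977OmegaAdj
import Cfsg.Agent.Helper21.S5977BPLANES
import Cfsg.Agent.Helper21.S5977BEIGEN
import Cfsg.Agent.Helper21.S5977BSMALL
import Cfsg.Agent.Helper21.S5977BROT
import Cfsg.Agent.Helper21.S5977BPAIRJ
import Cfsg.Agent.Helper21.S5977BPAIRINV
import Cfsg.Agent.Helper21.S5977BQFIELD
import Cfsg.Agent.Helper29.S5977CONJK

set_option autoImplicit false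
open scoped MatrixGroups

/-! S5977/S5978, half BACK: the case `x * x = -1`. -/

namespace Cfsg.Agent.S5977B

open Cfsg.Agent.Helper28 Cfsg.Agent.Helper28.Spin Cfsg.Agent.Helper28.IsoTransport

namespace BACKM1

variable {F : Type*} [Field F] {ι : Type} [Fintype ι] [DecidableEq ι] (Q : QuadraticForm F (ι → F))

/-- a reflection fixes the vectors orthogonal to its centre -/
theorem refl_fix' (e v : ι → F) (h : QuadraticMap.polar ⇑Q e v = 0) :
    (Cfsg.reflectionMatrix ⇑Q e).mulVec v = v := by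
  rw [refl_mulVec, h, mul_zero, zero_smul, sub_zero]

/-- a reflection negates its centre -/
theorem refl_self' (e : ι → F) (he : Q e ≠ 0) :
    (Cfsg.reflectionMatrix ⇑Q e).mulVec e = -e := by
  rw [refl_mulVec, polar_self', ← mul_assoc, mul_comm _ (2 : F), mul_assoc, inv_mul_cancel₀ he,
    mul_one, two_smul]
  abel

end BACKM1

open BACKM1 in
/-- BACKM1: an element of `Ω(Q)` with square `-1` is `Ω(Q)`-conjugate into `N(K)` -/
theorem back_of_sq_eq_neg_one {F : Type*} [Field F] [Fintype F] (h2 : (2 : F) ≠ 0) {ι : Type}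
    [Fintype ι] [DecidableEq ι] (Q : QuadraticForm F (ι → F))
    (hQ : (QuadraticMap.polarBilin Q).Nondegenerate) (d : ℕ) (hd1 : 1 ≤ d)
    (hd : Fintype.card ι = 2 * d)
    (K : Subalgebra F (Matrix ι ι F)) (hK : Cfsg.Geo.IsFieldSubalgebra 2 K)
    (hsa : Cfsg.Geo.IsSelfAdjointFor (QuadraticMap.polar ⇑Q) K)
    (x : ↥(Cfsg.isometryGroup F ⇑Q))
    (hxx : ((x : GL ι F) : Matrix ι ι F) * ((x : GL ι F) : Matrix ι ι F) = -1) :
    ∃ g : ↥(Cfsg.isometryGroup F ⇑Q), g ∈ Cfsg.Omega F ⇑Q ∧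
      (g : GL ι F)⁻¹ * (x : GL ι F) * (g : GL ι F) ∈ Cfsg.Geo.subalgebraNormalizer K := by
  classical
  have : Nonempty ι := by
    apply Fintype.card_pos_iff.1
    omega
  set X : Matrix ι ι F := ((x : GL ι F) : Matrix ι ι F) with hX
  have hXiso : ∀ v, Q (X.mulVec v) = Q v := fun v => isom_apply Q x v
  obtain ⟨b, hb1, horth, hns⟩ := exists_planes h2 Q hQ d hd X hXiso hxx
  have hXb0 : ∀ k, X.mulVec (b (k, 0)) = b (k, 1) := fun k => (hb1 k).symm
  have hXb1 : ∀ k, X.mulVec (b (k, 1)) = -b (k, 0) := by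
    intro k
    rw [hb1, Matrix.mulVec_mulVec, hxx, Matrix.neg_mulVec, Matrix.one_mulVec]
  have hQeq : ∀ k, Q (b (k, 1)) = Q (b (k, 0)) := fun k => by rw [hb1, hXiso]
  -- the structure `J`
  obtain ⟨ν, hν⟩ := FiniteField.exists_nonsquare (F := F)
    (by
      intro h
      apply h2
      have := CharP.cast_eq_zero F (ringChar F)
      rw [h] at this
      exact_mod_cast this)
  obtain ⟨J, p, t, t', hJJ, hJsa, hJ0, hJ1, htt⟩ := exists_pair_struct h2 Q b horth hns ν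
  have htt' : t' = t := by
    funext k
    have := htt k
    rw [hQeq] at this
    exact (mul_left_cancel₀ (hns (k, 0)) this).symm
  subst htt'
  have hanti : X * J = -(J * X) :=
    anticommute_of_pair_struct b X J (fun _ => 1) p t' (fun _ => one_mul 1)
      (fun k => by rw [hXb0, one_smul]) (fun k => by rw [hXb1, one_smul]) hJ0 hJ1
  -- the reflection `τ` and the conjugate `τ x τ`
  let k₀ : Fin d := ⟨0, hd1⟩
  set e : ι → F := b (k₀, 0) with he
  have hee : Q e ≠ 0 := hns (k₀, 0)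
  set τ : ↥(Cfsg.isometryGroup F ⇑Q) := reflO Q e hee with hτ
  set T : Matrix ι ι F := Cfsg.reflectionMatrix ⇑Q e with hT
  have hτT : ((τ : GL ι F) : Matrix ι ι F) = T := rfl
  have hTfix : ∀ i, i ≠ (k₀, 0) → T.mulVec (b i) = b i :=
    fun i hi => refl_fix' Q e (b i) (horth _ _ (Ne.symm hi))
  have hTe : T.mulVec e = -e := refl_self' Q e hee
  set s : Fin d → F := fun k => if k = k₀ then -1 else 1 with hs
  have hX'0 : ∀ k, (T * X * T).mulVec (b (k, 0)) = s k • b (k, 1) := by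
    intro k
    rw [← Matrix.mulVec_mulVec, ← Matrix.mulVec_mulVec]
    by_cases hk : k = k₀
    · subst hk
      simp only [hs, if_pos]
      rw [← he, hTe, Matrix.mulVec_neg, he, hXb0, Matrix.mulVec_neg, hTfix _ (by simp)]
      simp
    · simp only [hs, if_neg hk, one_smul]
      rw [hTfix _ (by simp [hk]), hXb0, hTfix _ (by simp)]
  have hX'1 : ∀ k, (T * X * T).mulVec (b (k, 1)) = -(s k • b (k, 0)) := by
    intro k
    rw [← Matrix.mulVec_mulVec, ← Matrix.mulVec_mulVec, hTfix _ (by simp), hXb1,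
      Matrix.mulVec_neg]
    by_cases hk : k = k₀
    · subst hk
      simp only [hs, if_pos]
      rw [← he, hTe]
      simp
    · simp only [hs, if_neg hk, one_smul]
      rw [hTfix _ (by simp [hk])]
  have hanti' : (T * X * T) * J = -(J * (T * X * T)) :=
    anticommute_of_pair_struct b (T * X * T) J s p t'
      (fun k => by simp only [hs]; split_ifs <;> simp) hX'0 hX'1 hJ0 hJ1
  obtain ⟨K', hK', hsa', hnorm⟩ := exists_field_of_struct Q J ν hν hJJ hJsa
  have hxK' : (x : GL ι F) ∈ Cfsg.Geo.subalgebraNormalizer K' := hnorm _ (Or.inr hanti)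
  have hx'K' : ((τ * x * τ : ↥(Cfsg.isometryGroup F ⇑Q)) : GL ι F) ∈
      Cfsg.Geo.subalgebraNormalizer K' := by
    apply hnorm _ (Or.inr _)
    simpa [hτT] using hanti'
  -- conjugacy of `K` and `K'`
  obtain ⟨g₀, hg₀⟩ := Cfsg.Agent.S5977P.exists_conj_of_fields h2 Q hQ K K' hK hK' hsa hsa'
  -- first correction: determinant
  have hstep1 : ∃ g₁ : ↥(Cfsg.isometryGroup F ⇑Q), detHom Q g₁ = 1 ∧
      (g₁ : GL ι F)⁻¹ * (x : GL ι F) * (g₁ : GL ι F) ∈ Cfsg.Geo.subalgebraNormalizer K := by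
    obtain ⟨L, hL⟩ := CDG.cd_list Q h2 hQ g₀
    rcases Nat.even_or_odd L.length with hev | hodd
    · refine ⟨g₀, ?_, conj_mem_normalizer K K' (g₀ : GL ι F) (x : GL ι F) hg₀ hxK'⟩
      rw [hL, detHom_prodO, hev.neg_one_pow]
    · refine ⟨τ * g₀, ?_, ?_⟩
      · rw [map_mul, hL, detHom_prodO, hodd.neg_one_pow, hτ, detHom_reflO Q ⟨e, hee⟩]
        simp
      · have h1 : (τ * g₀)⁻¹ * x * (τ * g₀) = g₀⁻¹ * (τ * x * τ) * g₀ := by
          rw [mul_inv_rev, hτ, reflO_inv]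
          group
        have h2' := congrArg (Subgroup.subtype _) h1
        have h3 : ((τ * g₀ : ↥(Cfsg.isometryGroup F ⇑Q)) : GL ι F)⁻¹ * (x : GL ι F) *
            ((τ * g₀ : ↥(Cfsg.isometryGroup F ⇑Q)) : GL ι F) =
            (g₀ : GL ι F)⁻¹ * ((τ * x * τ : ↥(Cfsg.isometryGroup F ⇑Q)) : GL ι F) *
              (g₀ : GL ι F) := by
          simpa using h2'
        rw [h3]
        exact conj_mem_normalizer K K' (g₀ : GL ι F) _ hg₀ hx'K'
  obtain ⟨g₁, hdet₁, hg₁⟩ := hstep1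
  -- second correction: spinor norm
  have hXe : X.mulVec e = b (k₀, 1) := hXb0 k₀
  have hne1 : Q (X.mulVec e) ≠ 0 := by rw [hXe]; exact hns _
  have hpol : QuadraticMap.polar ⇑Q e (X.mulVec e) = 0 := by
    rw [hXe]; exact horth _ _ (by simp)
  obtain ⟨α, β, hαβ⟩ := exists_combo_norm Q h2 hee hne1 hpol (Q e * ν)
  have hν0 : ν ≠ 0 := by
    rintro rfl
    exact hν ⟨0, by simp⟩
  have hw : Q (α • e + β • X.mulVec e) ≠ 0 := by
    rw [hαβ]; exact mul_ne_zero hee hν0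
  have hnsq : ¬ IsSquare (Q e * Q (α • e + β • X.mulVec e)) := by
    rw [hαβ]
    rintro ⟨r, hr⟩
    apply hν
    refine ⟨r / Q e, ?_⟩
    field_simp
    linear_combination hr
  set c : ↥(Cfsg.isometryGroup F ⇑Q) := reflO Q e hee * reflO Q (α • e + β • X.mulVec e) hw with hc
  have hcx : c * x = x * c := rot_commute h2 Q x hxx e hee α β hw
  rcases exists_corrector_so Q h2 hQ hee hw hnsq g₁ hdet₁ with h | h
  · exact ⟨g₁, h, hg₁⟩
  · refine ⟨c * g₁, h, ?_⟩
    have h1 : (c * g₁)⁻¹ * x * (c * g₁) = g₁⁻¹ * x * g₁ := by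
      rw [mul_inv_rev]
      calc g₁⁻¹ * c⁻¹ * x * (c * g₁) = g₁⁻¹ * (c⁻¹ * (x * c)) * g₁ := by group
        _ = g₁⁻¹ * x * g₁ := by rw [← hcx, inv_mul_cancel_left]
    have h2' := congrArg (Subgroup.subtype _) h1
    have h3 : ((c * g₁ : ↥(Cfsg.isometryGroup F ⇑Q)) : GL ι F)⁻¹ * (x : GL ι F) *
        ((c * g₁ : ↥(Cfsg.isometryGroup F ⇑Q)) : GL ι F) =
        (g₁ : GL ι F)⁻¹ * (x : GL ι F) * (g₁ : GL ι F) := by
      simpa using h2'
    rw [h3]
    exact hg₁

end Cfsg.Agent.S5977B
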