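import Mathlib
import Cfsg.Prelude.Def_GeometricClasses
import Cfsg.Prelude.Def_ClassicalGeometry
import Cfsg.Agent.Helper21.S5977BACK1
import Cfsg.Agent.Helper21.S5977BACKM1

set_option autoImplicit false
open scoped MatrixGroups

/-! S5977/S5978, half BACK (r = 2), generic form: every `x ∈ Ω(Q)` with `x ^ 2` scalar is
`Ω(Q)`-conjugate into the normalizer of any self-adjoint quadratic field subalgebra `K`. -/

namespace Cfsg.Agent.S5977B

open Cfsg.Agent.Helper28 Cfsg.Agent.Helper28.Spin Cfsg.Agent.Helper28.IsoTransport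

/-- BACK: the case `r = 2` of S5977/S5978 for an arbitrary non-degenerate quadratic form over a
finite field of odd order -/
theorem back {F : Type*} [Field F] [Fintype F] (h2 : (2 : F) ≠ 0) {ι : Type}
    [Fintype ι] [DecidableEq ι] (Q : QuadraticForm F (ι → F))
    (hQ : (QuadraticMap.polarBilin Q).Nondegenerate) (d : ℕ) (hd1 : 1 ≤ d)
    (hd : Fintype.card ι = 2 * d)
    (K : Subalgebra F (Matrix ι ι F)) (hK : Cfsg.Geo.IsFieldSubalgebra 2 K)
    (hsa : Cfsg.Geo.IsSelfAdjointFor (QuadraticMap.polar ⇑Q) K)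
    (x : GL ι F) (hx : x ∈ Cfsg.Geo.omegaGL ⇑Q) (z : F)
    (hz : ((x ^ 2 : GL ι F) : Matrix ι ι F) = z • (1 : Matrix ι ι F)) :
    ∃ g ∈ Cfsg.Geo.omegaGL ⇑Q, g⁻¹ * x * g ∈ Cfsg.Geo.subalgebraNormalizer K := by
  classical
  have : Nonempty ι := by
    apply Fintype.card_pos_iff.1
    omega
  obtain ⟨hxO, hxΩ⟩ := (mem_omegaGL_iff Q x).1 hx
  set x' : ↥(Cfsg.isometryGroup F ⇑Q) := ⟨x, hxO⟩ with hx'
  have hXiso : ∀ v, Q ((x : Matrix ι ι F).mulVec v) = Q v := fun v => isom_apply Q x' v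
  have hz' : (x : Matrix ι ι F) * (x : Matrix ι ι F) = z • (1 : Matrix ι ι F) := by
    rw [← hz, sq, Units.val_mul]
  have key : ∃ g : ↥(Cfsg.isometryGroup F ⇑Q), g ∈ Cfsg.Omega F ⇑Q ∧
      (g : GL ι F)⁻¹ * (x' : GL ι F) * (g : GL ι F) ∈ Cfsg.Geo.subalgebraNormalizer K := by
    rcases sq_eq_one_or_neg_one Q hQ (x : Matrix ι ι F) hXiso z hz' with h | h
    · exact back_of_sq_eq_one h2 Q hQ d hd1 hd K hK hsa x' hxΩ h
    · exact back_of_sq_eq_neg_one h2 Q hQ d hd1 hd K hK hsa x' h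
  obtain ⟨g, hgΩ, hg⟩ := key
  exact ⟨(g : GL ι F), (mem_omegaGL_iff Q _).2 ⟨g.2, hgΩ⟩, hg⟩

end Cfsg.Agent.S5977B
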