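import Mathlib
import Cfsg.Prelude.Def_GeometricClasses
import Cfsg.Prelude.Def_ClassicalGeometry
import Cfsg.Agent.Helper29.S5977Defs
import Cfsg.Agent.Helper14.S5977DISCS
import Cfsg.Agent.Helper14.S5977STDMODEL
import Cfsg.Agent.Helper24.S5977NORMSQ
import Cfsg.Agent.Helper19.S5976ROOT
import Cfsg.Agent.Helper8.S5975RESTRICT
import Cfsg.Agent.Helper28.IsoTransport
import Cfsg.Agent.Helper14.S5977CARDDIAG

set_option autoImplicit false
open scoped MatrixGroups

/-! S5977 / S5978, piece MODELS: restriction of scalars `O_d(q²) → O(Q) ∩ C(J)`. -/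

namespace Cfsg.Agent.S5977P

namespace MODELS

open Cfsg.Agent.Helper7.OrthUni (gram qf)

/-! ### the field `L = F(√ν)` -/

section field

variable {F : Type*} [Field F] {ν : F}

theorem norm_eq (z : QuadraticAlgebra F ν 0) :
    QuadraticAlgebra.norm z = z.re ^ 2 - ν * z.im ^ 2 := by
  rw [QuadraticAlgebra.norm_def]; ring

/-- squares of `L` are the elements with square norm -/
theorem isSquare_iff_norm [Fact (∀ r : F, r ^ 2 ≠ ν + 0 * r)] [Fintype F] (h2 : (2 : F) ≠ 0) (hν : ¬ IsSquare ν)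
    {z : QuadraticAlgebra F ν 0} (hz : z ≠ 0) :
    IsSquare z ↔ IsSquare (QuadraticAlgebra.norm z) := by
  constructor
  · rintro ⟨κ, rfl⟩
    exact ⟨QuadraticAlgebra.norm κ, map_mul _ _ _⟩
  · rintro ⟨s, hs⟩
    have hs0 : s ≠ 0 := by
      rintro rfl
      rw [mul_zero] at hs
      exact hz (QuadraticAlgebra.norm_eq_zero_iff_eq_zero.1 hs)
    obtain ⟨x, y, hx, hy⟩ := exists_sqrt_of_norm_sq h2 ν hν z.re z.im s hs0
      (by rw [← norm_eq, hs, sq])
    refine ⟨⟨x, y⟩, ?_⟩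
    ext
    · simp only [QuadraticAlgebra.re_mul]
      linear_combination -hx
    · simp only [QuadraticAlgebra.im_mul]
      linear_combination -hy

/-- every element of `F` is a square in `L` -/
theorem isSquare_algebraMap [Fintype F] (h2 : (2 : F) ≠ 0) (hν : ¬ IsSquare ν) (a : F) :
    IsSquare (algebraMap F (QuadraticAlgebra F ν 0) a) := by
  by_cases ha : IsSquare a
  · obtain ⟨x, rfl⟩ := ha
    exact ⟨algebraMap F _ x, map_mul _ _ _⟩
  · obtain ⟨s, -, hs⟩ := Cfsg.Agent.S5976P.ROOT.exists_sq_mul h2 ha hν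
    refine ⟨⟨0, s⟩, ?_⟩
    ext
    · simp only [QuadraticAlgebra.re_mul, QuadraticAlgebra.algebraMap_re]
      linear_combination hs
    · simp only [QuadraticAlgebra.im_mul, QuadraticAlgebra.algebraMap_im]
      ring

theorem isSquare_mul_iff {L : Type*} [Field L] {u z : L} (hu : IsSquare u) (hu0 : u ≠ 0) :
    IsSquare (u * z) ↔ IsSquare z := by
  constructor
  · intro h
    obtain ⟨s, hs⟩ := hu
    obtain ⟨t, ht⟩ := h
    have hs0 : s ≠ 0 := by
      rintro rfl
      exact hu0 (by rw [hs, mul_zero])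
    refine ⟨t / s, ?_⟩
    field_simp
    rw [← sq] at ht
    rw [← ht, hs]; ring
  · intro h
    exact hu.mul h

theorem two_ne (h2 : (2 : F) ≠ 0) : (2 : QuadraticAlgebra F ν 0) ≠ 0 := by
  intro h
  apply h2
  have := congrArg QuadraticAlgebra.re h
  rwa [QuadraticAlgebra.re_ofNat, QuadraticAlgebra.re_zero] at this

end field

/-! ### coordinates -/

section model

variable {F : Type*} [Field F] (ν : F) (d : ℕ)

/-- real and imaginary coordinates -/
def Psi : (Fin d → QuadraticAlgebra F ν 0) ≃ₗ[F] (Fin d ⊕ Fin d → F) where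
  toFun w := Sum.elim (fun a => (w a).re) (fun a => (w a).im)
  invFun v := fun a => ⟨v (Sum.inl a), v (Sum.inr a)⟩
  map_add' := by
    intro w w'
    funext s
    rcases s with a | a <;> simp
  map_smul' := by
    intro c w
    funext s
    rcases s with a | a <;> simp
  left_inv := fun w => by funext a; rfl
  right_inv := fun v => by funext s; rcases s with a | a <;> rfl

theorem Psi_inl (w : Fin d → QuadraticAlgebra F ν 0) (a : Fin d) :
    Psi ν d w (Sum.inl a) = (w a).re := rfl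

theorem Psi_inr (w : Fin d → QuadraticAlgebra F ν 0) (a : Fin d) :
    Psi ν d w (Sum.inr a) = (w a).im := rfl

/-- the coefficients in `L` -/
def cL (c0 c1 : Fin d → F) (a : Fin d) : QuadraticAlgebra F ν 0 := ⟨c0 a, c1 a⟩

/-- the diagonal form over `L` -/
def betaL (c0 c1 : Fin d → F) (w : Fin d → QuadraticAlgebra F ν 0) : QuadraticAlgebra F ν 0 :=
  ∑ a, cL ν d c0 c1 a * w a ^ 2

theorem Qstd_Psi (h2 : (2 : F) ≠ 0) (c0 c1 : Fin d → F) (w : Fin d → QuadraticAlgebra F ν 0) :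
    Qstd ν d c0 c1 (Psi ν d w) = 2 * (betaL ν d c0 c1 w).re := by
  unfold Qstd
  rw [Cfsg.Agent.Helper7.OrthUni.qf_apply]
  unfold Gstd betaL
  have hre : (∑ a, cL ν d c0 c1 a * w a ^ 2).re = ∑ a, (cL ν d c0 c1 a * w a ^ 2).re :=
    map_sum (QuadraticAlgebra.reₗ ν (0 : F)) (fun a => cL ν d c0 c1 a * w a ^ 2) Finset.univ
  rw [hre, Matrix.fromBlocks_mulVec, dotProduct, Fintype.sum_sum_type]
  simp only [Sum.elim_inl, Sum.elim_inr, Pi.add_apply, Matrix.mulVec_diagonal, Psi_inl, Psi_inr,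
    Function.comp_apply]
  rw [← Finset.sum_add_distrib, Finset.mul_sum, Finset.mul_sum]
  apply Finset.sum_congr rfl
  intro a _
  unfold cL
  simp only [sq, QuadraticAlgebra.re_mul, QuadraticAlgebra.im_mul]
  field_simp
  ring

theorem Jstd_Psi (w : Fin d → QuadraticAlgebra F ν 0) :
    (Jstd ν d).mulVec (Psi ν d w) =
      Psi ν d ((QuadraticAlgebra.omega : QuadraticAlgebra F ν 0) • w) := by
  unfold Jstd
  rw [Matrix.fromBlocks_mulVec]
  funext s
  rcases s with a | a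
  · simp [Psi_inl, Psi_inr, Matrix.smul_mulVec, Function.comp_def]
  · simp [Psi_inl, Psi_inr, Function.comp_def]

end model

end MODELS

open MODELS Cfsg.Agent.Helper7.OrthUni Cfsg.Agent.Helper28.IsoTransport in
/-- MODELS (uses STDMODEL, CARDDIAG, S5975P.exists_restrict_hom) -/
theorem card_dvd_of_frameS {F : Type*} [Field F] [Fintype F] {ι : Type} [Fintype ι]
    [DecidableEq ι] (h2 : (2 : F) ≠ 0) (Q : QuadraticForm F (ι → F))
    (hQ : (QuadraticMap.polarBilin Q).Nondegenerate) (ν : F) (hν : ¬ IsSquare ν)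
    (J : Matrix ι ι F) (hsq : J * J = ν • (1 : Matrix ι ι F))
    (hadj : ∀ u v : ι → F, QuadraticMap.polar ⇑Q (J.mulVec u) v =
      QuadraticMap.polar ⇑Q u (J.mulVec v))
    (d : ℕ) (hd : 1 ≤ d) (e : Fin d → (ι → F)) (c0 c1 : Fin d → F)
    (he : IsFrameS ⇑Q ν J d e c0 c1) (plus : Bool)
    (hplus : IsSquare (∏ a, (c0 a ^ 2 - ν * c1 a ^ 2)) ↔ plus = true) :
    ∃ G : Subgroup (GL ι F), G ≤ Cfsg.isometryGroup F ⇑Q ∧
      (∀ g ∈ G, (g : Matrix ι ι F) * J = J * (g : Matrix ι ι F)) ∧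
      Nat.card G = cardOK (Fintype.card F) d plus := by
  classical
  haveI : Fact (∀ r : F, r ^ 2 ≠ ν + 0 * r) :=
    ⟨fun r h => hν ⟨r, by rw [← sq, h]; ring⟩⟩
  letI : Fintype (QuadraticAlgebra F ν 0) :=
    Fintype.ofEquiv (F × F) (QuadraticAlgebra.equivProd ν 0).symm
  have hcardL : Fintype.card (QuadraticAlgebra F ν 0) = Fintype.card F ^ 2 := by
    rw [Fintype.card_congr (QuadraticAlgebra.equivProd ν 0), Fintype.card_prod, sq]
  -- the values are non-zero
  obtain ⟨t, ht0, ht⟩ := disc_of_frame h2 Q ν J hsq hadj d e c0 c1 he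
  have hdet : (gram Q).det ≠ 0 := (nondeg_iff_det Q).1 hQ
  have hprod : ∏ a, (16 * ν * (c0 a ^ 2 - ν * c1 a ^ 2)) ≠ 0 := by
    rw [← ht]; exact mul_ne_zero hdet (pow_ne_zero _ ht0)
  have hN : ∀ a, c0 a ^ 2 - ν * c1 a ^ 2 ≠ 0 := fun a =>
    right_ne_zero_of_mul (Finset.prod_ne_zero_iff.1 hprod a (Finset.mem_univ a))
  have hc : ∀ a, cL ν d c0 c1 a ≠ 0 := by
    intro a h
    apply hN a
    have hre := congrArg QuadraticAlgebra.re h
    have him := congrArg QuadraticAlgebra.im h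
    simp only [cL, QuadraticAlgebra.re_zero, QuadraticAlgebra.im_zero] at hre him
    rw [hre, him]; ring
  -- the type
  have hplus' : IsSquare ((-1 : QuadraticAlgebra F ν 0) ^ (d / 2) * ∏ a, cL ν d c0 c1 a) ↔
      plus = true := by
    rw [← hplus]
    have hm1 : IsSquare (-1 : QuadraticAlgebra F ν 0) := by
      have := isSquare_algebraMap (ν := ν) h2 hν (-1 : F)
      rwa [map_neg, map_one] at this
    have hu : IsSquare ((-1 : QuadraticAlgebra F ν 0) ^ (d / 2)) := hm1.pow _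
    have hu0 : (-1 : QuadraticAlgebra F ν 0) ^ (d / 2) ≠ 0 :=
      pow_ne_zero _ (neg_ne_zero.2 one_ne_zero)
    rw [isSquare_mul_iff hu hu0,
      isSquare_iff_norm h2 hν (Finset.prod_ne_zero_iff.2 (fun a _ => hc a)), map_prod]
    simp only [norm_eq, cL]
  obtain ⟨φ, hφQ, hφJ, -⟩ := exists_std_equiv h2 Q ν J hsq hadj d e c0 c1 he
  set Φ : (Fin d → QuadraticAlgebra F ν 0) ≃ₗ[F] (ι → F) := (Psi ν d).trans φ with hΦ
  obtain ⟨ρ, hρinj, hρ⟩ := Cfsg.Agent.S5975P.exists_restrict_hom Φ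
  have hQΦ : ∀ w, Q (Φ w) = 2 * (betaL ν d c0 c1 w).re := fun w => by
    rw [hΦ, LinearEquiv.trans_apply, hφQ, Qstd_Psi ν d h2]
  have hJΦ : ∀ w, J.mulVec (Φ w) =
      Φ ((QuadraticAlgebra.omega : QuadraticAlgebra F ν 0) • w) := fun w => by
    rw [hΦ, LinearEquiv.trans_apply, hφJ, Jstd_Psi, LinearEquiv.trans_apply]
  refine ⟨(Cfsg.isometryGroup (QuadraticAlgebra F ν 0)
    (fun v : Fin d → QuadraticAlgebra F ν 0 => ∑ a, cL ν d c0 c1 a * v a ^ 2)).map ρ, ?_, ?_, ?_⟩
  · rintro _ ⟨A, hA, rfl⟩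
    rw [SetLike.mem_coe, mem_isometryGroup_iff] at hA
    rw [mem_isometryGroup_iff]
    intro u
    obtain ⟨w, rfl⟩ := Φ.surjective u
    rw [hρ, hQΦ, hQΦ]
    have := hA w
    unfold betaL
    rw [this]
  · rintro _ ⟨A, hA, rfl⟩
    apply Matrix.toLin'.injective
    apply LinearMap.ext
    intro u
    obtain ⟨w, rfl⟩ := Φ.surjective u
    rw [Matrix.toLin'_apply, Matrix.toLin'_apply, ← Matrix.mulVec_mulVec, ← Matrix.mulVec_mulVec,
      hJΦ, hρ, hρ, hJΦ, Matrix.mulVec_smul]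
  · rw [Nat.card_congr (Subgroup.equivMapOfInjective _ ρ hρinj).symm.toEquiv,
      card_isometry_weighted (two_ne h2) d hd _ hc plus hplus', hcardL]
    rfl

end Cfsg.Agent.S5977P
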