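import Mathlib
import Cfsg.Prelude.Def_GeometricClasses

set_option autoImplicit false
open scoped MatrixGroups Kronecker TensorProduct Matrix

/-! S5979 piece LINKF: an element with a conjugate in the tensor product subgroup is, up to a linear
equivalence `F^n ≃ F^a ⊗ F^b`, a tensor product `g₁ ⊗ g₂` of two invertible maps. -/

namespace Cfsg.Agent.S5979P

namespace LINKF

variable {F : Type*} [Field F]

/-- the Kronecker product in the tensor product of the standard bases -/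
theorem kron_mulVec (a b : ℕ) (A : Matrix (Fin a) (Fin a) F) (B : Matrix (Fin b) (Fin b) F)
    (u : Fin a × Fin b → F) :
    ((Pi.basisFun F (Fin a)).tensorProduct (Pi.basisFun F (Fin b))).equivFun.symm ((A ⊗ₖ B) *ᵥ u) =
      TensorProduct.map (Matrix.toLin' A) (Matrix.toLin' B)
        (((Pi.basisFun F (Fin a)).tensorProduct (Pi.basisFun F (Fin b))).equivFun.symm u) := by
  have h := Matrix.toLin_kronecker (Pi.basisFun F (Fin a)) (Pi.basisFun F (Fin b))
    (Pi.basisFun F (Fin a)) (Pi.basisFun F (Fin b)) A B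
  rw [Matrix.toLin_eq_toLin', Matrix.toLin_eq_toLin'] at h
  rw [← h, Matrix.toLin_apply, Module.Basis.equivFun_symm_apply]
  apply Finset.sum_congr rfl
  intro j _
  congr 2
  rw [← Module.Basis.equivFun_apply, LinearEquiv.apply_symm_apply]

end LINKF

open LINKF in
/-- LINKF: a conjugate in the tensor product subgroup gives a tensor decomposition of `x` -/
theorem exists_tensor_of_mem {F : Type*} [Field F] (n a b : ℕ) (e : Fin n ≃ Fin a × Fin b)
    (P x g : GL (Fin n) F) (h : g⁻¹ * x * g ∈ Cfsg.Geo.tensorProductSubgroup a b e P) :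
    ∃ (g₁ : Module.End F (Fin a → F)) (g₂ : Module.End F (Fin b → F))
      (Θ : (Fin n → F) ≃ₗ[F] (Fin a → F) ⊗[F] (Fin b → F)),
      Function.Bijective g₁ ∧ Function.Bijective g₂ ∧
      ∀ v, Θ (Matrix.toLin' (x : Matrix (Fin n) (Fin n) F) v) = TensorProduct.map g₁ g₂ (Θ v) := by
  classical
  obtain ⟨k', hk', hconj⟩ := h
  obtain ⟨k, hk, rfl⟩ := hk'
  obtain ⟨A, B, hAB⟩ := hk
  have hconj' : P * (Cfsg.Geo.glReindex e.symm k) * P⁻¹ = g⁻¹ * x * g := hconj
  obtain ⟨Q, hQ⟩ : ∃ Q : GL (Fin n) F, Q = g * P := ⟨_, rfl⟩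
  have hx : x = Q * (Cfsg.Geo.glReindex e.symm k) * Q⁻¹ := by
    rw [hQ]
    calc x = g * (g⁻¹ * x * g) * g⁻¹ := by group
      _ = g * (P * (Cfsg.Geo.glReindex e.symm k) * P⁻¹) * g⁻¹ := by rw [hconj']
      _ = g * P * (Cfsg.Geo.glReindex e.symm k) * (g * P)⁻¹ := by group
  -- the matrix of the reindexed Kronecker product
  have hK : ((Cfsg.Geo.glReindex e.symm k : GL (Fin n) F) : Matrix (Fin n) (Fin n) F) =
      ((A : Matrix (Fin a) (Fin a) F) ⊗ₖ (B : Matrix (Fin b) (Fin b) F)).submatrix e e := by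
    rw [← hAB]
    rfl
  have hxm : (x : Matrix (Fin n) (Fin n) F) = (Q : Matrix (Fin n) (Fin n) F) *
      (((A : Matrix (Fin a) (Fin a) F) ⊗ₖ (B : Matrix (Fin b) (Fin b) F)).submatrix e e) *
      ((Q⁻¹ : GL (Fin n) F) : Matrix (Fin n) (Fin n) F) := by
    rw [← hK, hx]
    simp only [Units.val_mul]
  have hQ1 : ((Q⁻¹ : GL (Fin n) F) : Matrix (Fin n) (Fin n) F) * (Q : Matrix (Fin n) (Fin n) F) = 1 := by
    rw [← Units.val_mul, inv_mul_cancel, Units.val_one]
  have hQ2 : (Q : Matrix (Fin n) (Fin n) F) * ((Q⁻¹ : GL (Fin n) F) : Matrix (Fin n) (Fin n) F) = 1 := by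
    rw [← Units.val_mul, mul_inv_cancel, Units.val_one]
  let LQ : (Fin n → F) ≃ₗ[F] (Fin n → F) := Matrix.toLin'OfInv hQ2 hQ1
  have hLQ : ∀ v, LQ v = ((Q⁻¹ : GL (Fin n) F) : Matrix (Fin n) (Fin n) F) *ᵥ v := fun v => rfl
  let 𝔟 := (Pi.basisFun F (Fin a)).tensorProduct (Pi.basisFun F (Fin b))
  let Θ : (Fin n → F) ≃ₗ[F] (Fin a → F) ⊗[F] (Fin b → F) :=
    LQ.trans ((LinearEquiv.funCongrLeft F F e.symm).trans 𝔟.equivFun.symm)
  have hΘ : ∀ v, Θ v = 𝔟.equivFun.symm
      ((((Q⁻¹ : GL (Fin n) F) : Matrix (Fin n) (Fin n) F) *ᵥ v) ∘ e.symm) := fun v => rfl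
  refine ⟨Matrix.toLin' (A : Matrix (Fin a) (Fin a) F), Matrix.toLin' (B : Matrix (Fin b) (Fin b) F),
    Θ, ?_, ?_, ?_⟩
  · have h1 : (Matrix.toLin' (A : Matrix (Fin a) (Fin a) F)) *
        (Matrix.toLin' ((A⁻¹ : GL (Fin a) F) : Matrix (Fin a) (Fin a) F)) = 1 := by
      rw [Module.End.mul_eq_comp, ← Matrix.toLin'_mul, ← Units.val_mul, mul_inv_cancel, Units.val_one,
        Matrix.toLin'_one]
      rfl
    have h2 : (Matrix.toLin' ((A⁻¹ : GL (Fin a) F) : Matrix (Fin a) (Fin a) F)) *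
        (Matrix.toLin' (A : Matrix (Fin a) (Fin a) F)) = 1 := by
      rw [Module.End.mul_eq_comp, ← Matrix.toLin'_mul, ← Units.val_mul, inv_mul_cancel, Units.val_one,
        Matrix.toLin'_one]
      rfl
    exact Function.bijective_iff_has_inverse.2 ⟨_, fun v => congrArg (fun φ : Module.End F _ => φ v) h2,
      fun v => congrArg (fun φ : Module.End F _ => φ v) h1⟩
  · have h1 : (Matrix.toLin' (B : Matrix (Fin b) (Fin b) F)) *
        (Matrix.toLin' ((B⁻¹ : GL (Fin b) F) : Matrix (Fin b) (Fin b) F)) = 1 := by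
      rw [Module.End.mul_eq_comp, ← Matrix.toLin'_mul, ← Units.val_mul, mul_inv_cancel, Units.val_one,
        Matrix.toLin'_one]
      rfl
    have h2 : (Matrix.toLin' ((B⁻¹ : GL (Fin b) F) : Matrix (Fin b) (Fin b) F)) *
        (Matrix.toLin' (B : Matrix (Fin b) (Fin b) F)) = 1 := by
      rw [Module.End.mul_eq_comp, ← Matrix.toLin'_mul, ← Units.val_mul, inv_mul_cancel, Units.val_one,
        Matrix.toLin'_one]
      rfl
    exact Function.bijective_iff_has_inverse.2 ⟨_, fun v => congrArg (fun φ : Module.End F _ => φ v) h2,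
      fun v => congrArg (fun φ : Module.End F _ => φ v) h1⟩
  · intro v
    rw [hΘ, hΘ, ← kron_mulVec]
    congr 1
    rw [Matrix.toLin'_apply, hxm, ← Matrix.mulVec_mulVec, ← Matrix.mulVec_mulVec, Matrix.mulVec_mulVec _
      ((Q⁻¹ : GL (Fin n) F) : Matrix (Fin n) (Fin n) F) (Q : Matrix (Fin n) (Fin n) F), hQ1,
      Matrix.one_mulVec, Matrix.submatrix_mulVec_equiv]
    funext ij
    simp only [Function.comp_apply, Equiv.apply_symm_apply]

end Cfsg.Agent.S5979P
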