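import Mathlib

set_option autoImplicit false
open scoped MatrixGroups Kronecker

/-! S5979 piece TYPE1: an endomorphism with `f ^ 2 = μ ^ 2` whose eigenspaces have even dimension is
a Kronecker product `1 ⊗ diag(±μ)` in a suitable basis, and its centralizer has elements of every
determinant. -/

namespace Cfsg.Agent.S5979P

namespace TYPE1

variable {F V : Type*} [Field F] [AddCommGroup V] [Module F V]

theorem isCompl_ker (h2 : (2 : F) ≠ 0) (f : Module.End F V) (μ : F) (hμ : μ ≠ 0)
    (hf : f ^ 2 = (μ ^ 2) • (1 : Module.End F V)) :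
    IsCompl (LinearMap.ker (f - μ • (1 : Module.End F V)))
      (LinearMap.ker (f + μ • (1 : Module.End F V))) := by
  have hff : ∀ v, f (f v) = (μ ^ 2) • v := fun v => by
    have := congrArg (fun φ : Module.End F V => φ v) hf
    simpa [pow_two] using this
  have h2μ : (2 * μ) ≠ 0 := mul_ne_zero h2 hμ
  constructor
  · rw [Submodule.disjoint_def]
    intro v h1 h3
    rw [LinearMap.mem_ker] at h1 h3
    simp only [LinearMap.sub_apply, LinearMap.add_apply, LinearMap.smul_apply,
      Module.End.one_apply] at h1 h3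
    have h4 : (2 * μ) • v = 0 := by
      have h5 : (2 * μ) • v = (f v + μ • v) - (f v - μ • v) := by module
      rw [h5, h1, h3, sub_zero]
    exact (smul_eq_zero.1 h4).resolve_left h2μ
  · rw [codisjoint_iff, eq_top_iff]
    intro v _
    have hv : v = (2 * μ)⁻¹ • (f v + μ • v) + (-(2 * μ)⁻¹) • (f v - μ • v) := by
      have h5 : (2 * μ)⁻¹ • (f v + μ • v) + (-(2 * μ)⁻¹) • (f v - μ • v) =
          ((2 * μ)⁻¹ * (2 * μ)) • v := by module
      rw [h5, inv_mul_cancel₀ h2μ, one_smul]
    rw [hv]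
    refine Submodule.add_mem_sup (Submodule.smul_mem _ _ ?_) (Submodule.smul_mem _ _ ?_)
    · rw [LinearMap.mem_ker]
      simp only [LinearMap.sub_apply, LinearMap.smul_apply,
        Module.End.one_apply, map_add, map_smul, hff]
      module
    · rw [LinearMap.mem_ker]
      simp only [LinearMap.add_apply, LinearMap.smul_apply,
        Module.End.one_apply, map_sub, map_smul, hff]
      module

/-- from an eigenbasis indexed by `Fin 2 × Fin b` whose eigenvalue depends only on the second
coordinate -/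
theorem of_eigenbasis (f : Module.End F V) (b : ℕ) (hb : 1 ≤ b)
    (β : Module.Basis (Fin 2 × Fin b) F V) (c : Fin b → F) (hc : ∀ j, c j ≠ 0)
    (hβ : ∀ i j, f (β (i, j)) = c j • β (i, j)) :
    ∃ (A : GL (Fin 2) F) (B : GL (Fin b) F),
      LinearMap.toMatrix β β f = (A : Matrix (Fin 2) (Fin 2) F) ⊗ₖ (B : Matrix (Fin b) (Fin b) F) ∧
      ∀ δ : F, δ ≠ 0 → ∃ C : Module.End F V, C * f = f * C ∧ LinearMap.det C = δ := by
  classical
  have hdet : (Matrix.diagonal c).det ≠ 0 := by
    rw [Matrix.det_diagonal]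
    exact Finset.prod_ne_zero_iff.2 fun j _ => hc j
  have hM : LinearMap.toMatrix β β f = Matrix.diagonal (fun ij : Fin 2 × Fin b => c ij.2) := by
    ext ⟨i, j⟩ ⟨i', j'⟩
    rw [LinearMap.toMatrix_apply, hβ, map_smul, Module.Basis.repr_self, Finsupp.smul_apply,
      Finsupp.single_apply, Matrix.diagonal_apply]
    by_cases h : (i', j') = (i, j)
    · have h' : (i, j) = (i', j') := h.symm
      rw [if_pos h, if_pos h', smul_eq_mul, mul_one]
      rw [Prod.mk.injEq] at h
      rw [h.2]
    · have h' : ¬ (i, j) = (i', j') := fun h'' => h h''.symm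
      rw [if_neg h, if_neg h', smul_zero]
  refine ⟨1, Matrix.GeneralLinearGroup.mkOfDetNeZero (Matrix.diagonal c) hdet, ?_, ?_⟩
  · rw [hM]
    ext ⟨i, j⟩ ⟨i', j'⟩
    rw [Matrix.kroneckerMap_apply, Matrix.diagonal_apply]
    show _ = ((1 : Matrix (Fin 2) (Fin 2) F) i i') * (Matrix.diagonal c j j')
    rw [Matrix.one_apply, Matrix.diagonal_apply]
    by_cases h1 : i = i'
    · by_cases h3 : j = j'
      · subst h1 h3
        simp
      · have : ¬ (i, j) = (i', j') := fun h => h3 (Prod.mk.injEq _ _ _ _ ▸ h).2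
        simp [h3, this]
    · have : ¬ (i, j) = (i', j') := fun h => h1 (Prod.mk.injEq _ _ _ _ ▸ h).1
      simp [h1, this]
  · intro δ hδ
    have hb0 : 0 < b := hb
    let d : Fin 2 × Fin b → F := fun ij => if ij = (0, ⟨0, hb0⟩) then δ else 1
    refine ⟨Matrix.toLin β β (Matrix.diagonal d), ?_, ?_⟩
    · have hf : f = Matrix.toLin β β (Matrix.diagonal (fun ij : Fin 2 × Fin b => c ij.2)) := by
        rw [← hM, Matrix.toLin_toMatrix]
      rw [hf, Module.End.mul_eq_comp, Module.End.mul_eq_comp, ← Matrix.toLin_mul, ← Matrix.toLin_mul,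
        Matrix.diagonal_mul_diagonal, Matrix.diagonal_mul_diagonal]
      congr 2
      funext ij
      exact mul_comm _ _
    · rw [LinearMap.det_toLin, Matrix.det_diagonal]
      rw [Finset.prod_eq_single_of_mem (0, ⟨0, hb0⟩) (Finset.mem_univ _)]
      · simp [d]
      · intro ij _ hij
        simp [d, hij]

end TYPE1

open TYPE1 in
/-- TYPE1: `f ^ 2 = μ ^ 2`, both eigenspaces of even dimension -/
theorem type_one {F V : Type*} [Field F] [Fintype F] [AddCommGroup V] [Module F V]
    [FiniteDimensional F V] (h2 : (2 : F) ≠ 0) (f : Module.End F V) (μ : F) (hμ : μ ≠ 0)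
    (hf : f ^ 2 = (μ ^ 2) • (1 : Module.End F V)) (b : ℕ) (hb : 1 ≤ b)
    (hV : Module.finrank F V = 2 * b)
    (hev : Even (Module.finrank F (LinearMap.ker (f + μ • (1 : Module.End F V))))) :
    ∃ (β : Module.Basis (Fin 2 × Fin b) F V) (A : GL (Fin 2) F) (B : GL (Fin b) F),
      LinearMap.toMatrix β β f = (A : Matrix (Fin 2) (Fin 2) F) ⊗ₖ (B : Matrix (Fin b) (Fin b) F) ∧
      ∀ δ : F, δ ≠ 0 → ∃ C : Module.End F V, C * f = f * C ∧ LinearMap.det C = δ := by
  classical
  have hc := isCompl_ker h2 f μ hμ hf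
  obtain ⟨t, ht⟩ := hev
  have hsum := Submodule.finrank_add_eq_of_isCompl hc
  rw [hV] at hsum
  obtain ⟨s, hs⟩ : ∃ s, Module.finrank F (LinearMap.ker (f - μ • (1 : Module.End F V))) = 2 * s :=
    ⟨b - t, by omega⟩
  have hst : s + t = b := by omega
  have ht' : Module.finrank F (LinearMap.ker (f + μ • (1 : Module.End F V))) = 2 * t := by omega
  let bp : Module.Basis (Fin 2 × Fin s) F (LinearMap.ker (f - μ • (1 : Module.End F V))) :=
    (Module.finBasisOfFinrankEq F _ hs).reindex finProdFinEquiv.symm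
  let bm : Module.Basis (Fin 2 × Fin t) F (LinearMap.ker (f + μ • (1 : Module.End F V))) :=
    (Module.finBasisOfFinrankEq F _ ht').reindex finProdFinEquiv.symm
  let γ₀ : Module.Basis ((Fin 2 × Fin s) ⊕ (Fin 2 × Fin t)) F V :=
    (bp.prod bm).map (Submodule.prodEquivOfIsCompl _ _ hc)
  let γ : Module.Basis (Fin 2 × (Fin s ⊕ Fin t)) F V :=
    γ₀.reindex (Equiv.prodSumDistrib (Fin 2) (Fin s) (Fin t)).symm
  let c' : Fin s ⊕ Fin t → F := Sum.elim (fun _ => μ) (fun _ => -μ)
  have hγ : ∀ i k, f (γ (i, k)) = c' k • γ (i, k) := by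
    intro i k
    rcases k with j | j
    · have h1 : γ (i, Sum.inl j) = ((bp (i, j) : LinearMap.ker (f - μ • (1 : Module.End F V))) : V) := by
        simp [γ, γ₀]
      have h3 := (bp (i, j)).2
      rw [LinearMap.mem_ker] at h3
      simp only [LinearMap.sub_apply, LinearMap.smul_apply, Module.End.one_apply] at h3
      rw [h1]
      show _ = μ • _
      exact sub_eq_zero.1 h3
    · have h1 : γ (i, Sum.inr j) = ((bm (i, j) : LinearMap.ker (f + μ • (1 : Module.End F V))) : V) := by
        simp [γ, γ₀]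
      have h3 := (bm (i, j)).2
      rw [LinearMap.mem_ker] at h3
      simp only [LinearMap.add_apply, LinearMap.smul_apply, Module.End.one_apply] at h3
      rw [h1]
      show _ = (-μ) • _
      rw [neg_smul]
      exact eq_neg_of_add_eq_zero_left h3
  let ε : Fin s ⊕ Fin t ≃ Fin b := finSumFinEquiv.trans (finCongr hst)
  let β : Module.Basis (Fin 2 × Fin b) F V := γ.reindex (Equiv.prodCongr (Equiv.refl _) ε)
  have hβ : ∀ i j, f (β (i, j)) = c' (ε.symm j) • β (i, j) := by
    intro i j
    have h1 : β (i, j) = γ (i, ε.symm j) := by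
      simp [β]
    rw [h1]
    exact hγ i _
  have hc' : ∀ j, c' (ε.symm j) ≠ 0 := by
    intro j
    rcases ε.symm j with k | k
    · exact hμ
    · exact neg_ne_zero.2 hμ
  obtain ⟨A, B, h⟩ := of_eigenbasis f b hb β (fun j => c' (ε.symm j)) hc' hβ
  exact ⟨β, A, B, h⟩

end Cfsg.Agent.S5979P
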