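import Mathlib

set_option autoImplicit false
open scoped MatrixGroups Kronecker

/-! S5980 piece BC: base change in the second tensor factor. -/

namespace Cfsg.Agent.S5980P

/-- BC: base change in the second tensor factor -/
theorem base_change {F V : Type*} [Field F] [AddCommGroup V] [Module F V]
    (ω : LinearMap.BilinForm F V) (x : Module.End F V) (a b : ℕ)
    (β₀ : Module.Basis (Fin a × Fin b) F V) (A : GL (Fin a) F) (B₀ : GL (Fin b) F)
    (J : Matrix (Fin a) (Fin a) F) (G₀ : Matrix (Fin b) (Fin b) F)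
    (hx : LinearMap.toMatrix β₀ β₀ x =
      (A : Matrix (Fin a) (Fin a) F) ⊗ₖ (B₀ : Matrix (Fin b) (Fin b) F))
    (hG : ∀ k l, ω (β₀ k) (β₀ l) = (J ⊗ₖ G₀) k l) (T : GL (Fin b) F) :
    ∃ (β : Module.Basis (Fin a × Fin b) F V) (B : GL (Fin b) F),
      LinearMap.toMatrix β β x = (A : Matrix (Fin a) (Fin a) F) ⊗ₖ (B : Matrix (Fin b) (Fin b) F) ∧
      ∀ k l, ω (β k) (β l) = (J ⊗ₖ ((T : Matrix (Fin b) (Fin b) F).transpose * G₀ *
        (T : Matrix (Fin b) (Fin b) F))) k l := by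
  classical
  obtain ⟨Tm, hTm⟩ : ∃ Tm : Matrix (Fin b) (Fin b) F, Tm = (T : Matrix (Fin b) (Fin b) F) := ⟨_, rfl⟩
  obtain ⟨Ti, hTi⟩ : ∃ Ti : Matrix (Fin b) (Fin b) F,
    Ti = ((T⁻¹ : GL (Fin b) F) : Matrix (Fin b) (Fin b) F) := ⟨_, rfl⟩
  have hTTi : Tm * Ti = 1 := by
    rw [hTm, hTi, ← Units.val_mul, mul_inv_cancel, Units.val_one]
  have hTiT : Ti * Tm = 1 := by
    rw [hTm, hTi, ← Units.val_mul, inv_mul_cancel, Units.val_one]
  obtain ⟨S, hS⟩ : ∃ S : Matrix (Fin a × Fin b) (Fin a × Fin b) F,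
    S = (1 : Matrix (Fin a) (Fin a) F) ⊗ₖ Tm := ⟨_, rfl⟩
  obtain ⟨Si, hSi⟩ : ∃ Si : Matrix (Fin a × Fin b) (Fin a × Fin b) F,
    Si = (1 : Matrix (Fin a) (Fin a) F) ⊗ₖ Ti := ⟨_, rfl⟩
  have hSSi : S * Si = 1 := by
    rw [hS, hSi, ← Matrix.mul_kronecker_mul, one_mul, hTTi, Matrix.one_kronecker_one]
  have hSiS : Si * S = 1 := by
    rw [hS, hSi, ← Matrix.mul_kronecker_mul, one_mul, hTiT, Matrix.one_kronecker_one]
  -- the automorphism with matrix `S`
  let L : V ≃ₗ[F] V := LinearEquiv.ofLinearMap (Matrix.toLin β₀ β₀ S) (Matrix.toLin β₀ β₀ Si)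
    (by rw [← Matrix.toLin_mul, hSSi, Matrix.toLin_one])
    (by rw [← Matrix.toLin_mul, hSiS, Matrix.toLin_one])
  obtain ⟨β, hβdef⟩ : ∃ β : Module.Basis (Fin a × Fin b) F V, β = β₀.map L := ⟨_, rfl⟩
  have hβ : ∀ k, β k = ∑ l, S l k • β₀ l := by
    intro k
    rw [hβdef, Module.Basis.map_apply]
    show Matrix.toLin β₀ β₀ S (β₀ k) = _
    rw [Matrix.toLin_self]
  have h1 : β₀.toMatrix β = S := by
    ext l k
    rw [Module.Basis.toMatrix_apply, hβ, map_sum, Finsupp.finsetSum_apply]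
    simp only [map_smul, Module.Basis.repr_self, Finsupp.smul_apply, Finsupp.single_apply,
      smul_eq_mul, mul_ite, mul_one, mul_zero]
    rw [Finset.sum_eq_single l]
    · simp
    · intro l' _ hl'
      simp [hl']
    · intro h
      exact absurd (Finset.mem_univ l) h
  have h2 : β.toMatrix β₀ = Si := by
    have h3 : β.toMatrix β₀ * β₀.toMatrix β = 1 := Module.Basis.toMatrix_mul_toMatrix_flip β β₀
    rw [h1] at h3
    calc β.toMatrix β₀ = β.toMatrix β₀ * (S * Si) := by rw [hSSi, mul_one]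
      _ = (β.toMatrix β₀ * S) * Si := by rw [mul_assoc]
      _ = Si := by rw [h3, one_mul]
  refine ⟨β, T⁻¹ * B₀ * T, ?_, ?_⟩
  · rw [← basis_toMatrix_mul_linearMap_toMatrix_mul_basis_toMatrix β β₀ β β₀ x, h1, h2, hx, hS, hSi,
      ← Matrix.mul_kronecker_mul, ← Matrix.mul_kronecker_mul, one_mul, mul_one, Units.val_mul,
      Units.val_mul, hTi, hTm]
  · intro k k'
    have h3 : ω (β k) (β k') = (S.transpose * (J ⊗ₖ G₀) * S) k k' := by
      rw [hβ, hβ]
      simp only [map_sum, map_smul, LinearMap.sum_apply, LinearMap.smul_apply, smul_eq_mul, hG,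
        Matrix.mul_apply, Matrix.transpose_apply, Finset.sum_mul, Finset.mul_sum]
      apply Finset.sum_congr rfl
      intro l _
      apply Finset.sum_congr rfl
      intro l' _
      ring
    rw [h3, hS, ← Matrix.kroneckerMap_transpose, Matrix.transpose_one, ← Matrix.mul_kronecker_mul,
      ← Matrix.mul_kronecker_mul, one_mul, mul_one, hTm]

end Cfsg.Agent.S5980P
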