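import Mathlib

set_option autoImplicit false

/-! S5980 piece FIND1: for an isometry `x` with `x ^ 2 = 1` of a nondegenerate alternating space
there is a hyperbolic pair inside one eigenspace. -/

namespace Cfsg.Agent.S5980P

namespace FIND1

variable {F V : Type*} [Field F] [AddCommGroup V] [Module F V]

/-- eigenvectors for `ε` and `-ε` are orthogonal -/
theorem orth (h2 : (2 : F) ≠ 0) (ω : LinearMap.BilinForm F V) (x : Module.End F V)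
    (hx : ∀ u v, ω (x u) (x v) = ω u v) (ε : F) (hε : ε ^ 2 = 1) (u w : V) (hu : x u = ε • u)
    (hw : x w = (-ε) • w) : ω u w = 0 := by
  have h1 := hx u w
  rw [hu, hw, map_smul, map_smul, LinearMap.smul_apply, smul_eq_mul, smul_eq_mul] at h1
  have h3 : (2 : F) * ω u w = 0 := by linear_combination (-1 : F) * h1 - ω u w * hε
  exact (mul_eq_zero.1 h3).resolve_left h2

/-- a partner inside the same eigenspace -/
theorem partner (h2 : (2 : F) ≠ 0) (ω : LinearMap.BilinForm F V) (x : Module.End F V)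
    (hnd : ∀ v, v ≠ 0 → ∃ w, ω v w ≠ 0) (hx : ∀ u v, ω (x u) (x v) = ω u v)
    (hxx : ∀ v, x (x v) = v) (ε : F) (hε : ε ^ 2 = 1) (u₁ : V) (hu0 : u₁ ≠ 0)
    (hu : x u₁ = ε • u₁) (D₁ : F) : ∃ v₁ : V, ω u₁ v₁ = D₁ ∧ x v₁ = ε • v₁ := by
  obtain ⟨w, hw⟩ := hnd u₁ hu0
  -- the components of `w`
  have hp : x ((2 : F)⁻¹ • (w + ε • x w)) = ε • ((2 : F)⁻¹ • (w + ε • x w)) := by
    rw [map_smul, map_add, map_smul, hxx]
    have : ε • (2 : F)⁻¹ • (w + ε • x w) = (2 : F)⁻¹ • (ε • w + (ε ^ 2) • x w) := by module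
    rw [this, hε, one_smul, add_comm]
  have hm : x ((2 : F)⁻¹ • (w - ε • x w)) = (-ε) • ((2 : F)⁻¹ • (w - ε • x w)) := by
    rw [map_smul, map_sub, map_smul, hxx]
    have : (-ε) • (2 : F)⁻¹ • (w - ε • x w) = (2 : F)⁻¹ • ((ε ^ 2) • x w - ε • w) := by module
    rw [this, hε, one_smul]
  have hsum : w = (2 : F)⁻¹ • (w + ε • x w) + (2 : F)⁻¹ • (w - ε • x w) := by
    have : (2 : F)⁻¹ • (w + ε • x w) + (2 : F)⁻¹ • (w - ε • x w) = ((2 : F)⁻¹ * 2) • w := by module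
    rw [this, inv_mul_cancel₀ h2, one_smul]
  have h0 := orth h2 ω x hx ε hε u₁ _ hu hm
  have hne : ω u₁ ((2 : F)⁻¹ • (w + ε • x w)) ≠ 0 := by
    intro h
    apply hw
    rw [hsum, map_add, h, h0, add_zero]
  refine ⟨(D₁ / ω u₁ ((2 : F)⁻¹ • (w + ε • x w))) • ((2 : F)⁻¹ • (w + ε • x w)), ?_, ?_⟩
  · rw [map_smul, smul_eq_mul, div_mul_cancel₀ _ hne]
  · rw [map_smul, hp, smul_comm]

end FIND1

open FIND1 in
/-- FIND1: for `x ^ 2 = 1` a hyperbolic pair inside one eigenspace -/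
theorem find_pair_one {F : Type*} [Field F] (h2 : (2 : F) ≠ 0) {V : Type*} [AddCommGroup V]
    [Module F V] [FiniteDimensional F V] (ω : LinearMap.BilinForm F V) (x : Module.End F V)
    (halt : ∀ v, ω v v = 0) (hnd : ∀ v, v ≠ 0 → ∃ w, ω v w ≠ 0)
    (hx : ∀ u v, ω (x u) (x v) = ω u v) (hx2 : x ^ 2 = (1 : F) • (1 : Module.End F V))
    (hV : ∃ v : V, v ≠ 0) (D₁ : F) (hD₁ : D₁ ≠ 0) :
    ∃ (u₁ v₁ : V) (ε : F), ε ^ 2 = 1 ∧ ω u₁ v₁ = D₁ ∧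
      x u₁ = ε • ((1 : Matrix (Fin 2) (Fin 2) F) 0 0 • u₁ + (1 : Matrix (Fin 2) (Fin 2) F) 1 0 • v₁) ∧
      x v₁ = ε • ((1 : Matrix (Fin 2) (Fin 2) F) 0 1 • u₁ + (1 : Matrix (Fin 2) (Fin 2) F) 1 1 • v₁) := by
  have hxx : ∀ v, x (x v) = v := fun v => by
    have := congrArg (fun φ : Module.End F V => φ v) hx2
    simpa [pow_two] using this
  obtain ⟨v₀, hv₀⟩ := hV
  -- an eigenvector
  obtain ⟨ε, hε, u₁, hu0, hu⟩ : ∃ ε : F, ε ^ 2 = 1 ∧ ∃ u₁ : V, u₁ ≠ 0 ∧ x u₁ = ε • u₁ := by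
    by_cases h : v₀ + x v₀ = 0
    · refine ⟨-1, by ring, v₀, hv₀, ?_⟩
      rw [neg_smul, one_smul]
      exact eq_neg_of_add_eq_zero_right h
    · refine ⟨1, one_pow 2, v₀ + x v₀, h, ?_⟩
      rw [map_add, hxx, one_smul, add_comm]
  obtain ⟨v₁, hv₁, hxv₁⟩ := partner h2 ω x hnd hx hxx ε hε u₁ hu0 hu D₁
  refine ⟨u₁, v₁, ε, hε, hv₁, ?_, ?_⟩
  · rw [hu]
    simp
  · rw [hxv₁]
    simp

end Cfsg.Agent.S5980P
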