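import Mathlib
import Cfsg.Agent.Helper21.S5980Defs

set_option autoImplicit false

/-! S5980 piece FINDM: for an isometry `x` with `x ^ 2 = -1` of a nondegenerate alternating space
over a finite field of odd characteristic there is `u₁` with `ω(u₁, -x u₁) = D₁`. -/

namespace Cfsg.Agent.S5980P

namespace FINDM

open Polynomial

/-- every element of a finite field of odd order is a sum of two squares -/
theorem sum_two_squares {F : Type*} [Field F] [Fintype F] (h2 : (2 : F) ≠ 0) (t : F) :
    ∃ α β : F, α ^ 2 + β ^ 2 = t := by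
  have hchar : ringChar F ≠ 2 := by
    intro h
    apply h2
    have := CharP.cast_eq_zero F (ringChar F)
    rw [h] at this
    exact_mod_cast this
  have hodd := FiniteField.odd_card_of_char_ne_two hchar
  have hf : degree (X ^ 2 : F[X]) = 2 := degree_X_pow 2
  have hg : degree (X ^ 2 - C t : F[X]) = 2 := degree_X_pow_sub_C (by norm_num) t
  obtain ⟨a, b, hab⟩ := FiniteField.exists_root_sum_quadratic hf hg hodd
  refine ⟨a, b, ?_⟩
  simp only [eval_pow, eval_X, eval_sub, eval_C] at hab
  linear_combination hab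

variable {F V : Type*} [Field F] [AddCommGroup V] [Module F V]

theorem skew (ω : LinearMap.BilinForm F V) (halt : ∀ v, ω v v = 0) (u v : V) :
    ω u v = -ω v u := by
  have h := halt (u + v)
  simp only [map_add, LinearMap.add_apply, halt, zero_add, add_zero] at h
  exact eq_neg_of_add_eq_zero_right h

end FINDM

open FINDM in
/-- FINDM: for `x ^ 2 = -1` a vector `u₁` with `ω(u₁, -x u₁) = D₁` (sum of two squares) -/
theorem find_pair_neg {F : Type*} [Field F] [Fintype F] (h2 : (2 : F) ≠ 0) {V : Type*}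
    [AddCommGroup V] [Module F V] [FiniteDimensional F V] (ω : LinearMap.BilinForm F V)
    (x : Module.End F V) (halt : ∀ v, ω v v = 0) (hnd : ∀ v, v ≠ 0 → ∃ w, ω v w ≠ 0)
    (hx : ∀ u v, ω (x u) (x v) = ω u v) (hx2 : x ^ 2 = (-1 : F) • (1 : Module.End F V))
    (hV : ∃ v : V, v ≠ 0) (D₁ : F) (hD₁ : D₁ ≠ 0) :
    ∃ (u₁ v₁ : V) (ε : F), ε ^ 2 = 1 ∧ ω u₁ v₁ = D₁ ∧
      x u₁ = ε • (J2 F 0 0 • u₁ + J2 F 1 0 • v₁) ∧
      x v₁ = ε • (J2 F 0 1 • u₁ + J2 F 1 1 • v₁) := by
  have hxx : ∀ v, x (x v) = -v := fun v => by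
    have := congrArg (fun φ : Module.End F V => φ v) hx2
    simpa [pow_two] using this
  -- `g(u, v) = ω (x u) v` is symmetric
  have hsymm : ∀ u v, ω (x u) v = ω (x v) u := by
    intro u v
    have h1 := hx (x u) v
    rw [hxx, map_neg, LinearMap.neg_apply] at h1
    rw [← h1, skew ω halt u (x v), neg_neg]
  -- a vector with `g(u, u) ≠ 0`
  obtain ⟨u, hu⟩ : ∃ u : V, ω (x u) u ≠ 0 := by
    by_contra hcon
    push Not at hcon
    have hall : ∀ u v, ω (x u) v = 0 := by
      intro u v
      have h := hcon (u + v)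
      simp only [map_add, LinearMap.add_apply, hcon, zero_add, add_zero] at h
      rw [hsymm v u] at h
      have h3 : (2 : F) * ω (x u) v = 0 := by linear_combination h
      exact (mul_eq_zero.1 h3).resolve_left h2
    obtain ⟨v₀, hv₀⟩ := hV
    obtain ⟨w, hw⟩ := hnd v₀ hv₀
    apply hw
    have h := hall (-(x v₀)) w
    rw [map_neg, hxx, neg_neg] at h
    exact h
  obtain ⟨α, β, hαβ⟩ := sum_two_squares h2 (D₁ / ω (x u) u)
  have hg : ω (x (α • u + β • x u)) (α • u + β • x u) = D₁ := by
    have h1 : x (α • u + β • x u) = α • x u - β • u := by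
      rw [map_add, map_smul, map_smul, hxx, smul_neg, sub_eq_add_neg]
    rw [h1]
    simp only [map_add, map_sub, map_smul, LinearMap.add_apply, LinearMap.sub_apply,
      LinearMap.smul_apply, smul_eq_mul, halt]
    rw [skew ω halt u (x u)]
    have h3 : (α ^ 2 + β ^ 2) * ω (x u) u = D₁ := by rw [hαβ, div_mul_cancel₀ _ hu]
    linear_combination h3
  refine ⟨α • u + β • x u, -x (α • u + β • x u), 1, one_pow 2, ?_, ?_, ?_⟩
  · rw [map_neg, skew ω halt, neg_neg, hg]
  · simp only [J2_zero_zero, J2_one_zero, zero_smul, zero_add, neg_smul, one_smul, neg_neg]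
  · rw [map_neg, hxx]
    simp

end Cfsg.Agent.S5980P
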