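import Cfsg.Agent.Helper21.S5980Defs
import Cfsg.Agent.Helper26.S5980DIAG
import Cfsg.Agent.Helper28.S5980PEEL
import Cfsg.Agent.Helper21.S5980FIND1
import Cfsg.Agent.Helper21.S5980FINDM
import Cfsg.Agent.Helper21.S5980BC

set_option autoImplicit false
open scoped MatrixGroups Kronecker TensorProduct
open Polynomial

/-! S5980: an isometry `x` of a nondegenerate alternating space with `x ^ 2 = ± 1` is a Kronecker
product in a basis whose Gram matrix is `J ⊗ G`, for any nondegenerate symmetric `G`. -/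

namespace Cfsg.Agent.S5980P

universe u v

namespace KRON

/-- from the data of PEEL to matrices -/
theorem matrices {F V : Type*} [Field F] [AddCommGroup V] [Module F V]
    (ω : LinearMap.BilinForm F V) (x : Module.End F V) (b : ℕ) (A : Matrix (Fin 2) (Fin 2) F)
    (β : Module.Basis (Fin 2 × Fin b) F V) (ε D : Fin b → F)
    (h1 : ∀ i j, x (β (i, j)) = ε j • (A 0 i • β (0, j) + A 1 i • β (1, j)))
    (h3 : ∀ i j i' j', ω (β (i, j)) (β (i', j')) = J2 F i i' * (if j = j' then D j else 0)) :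
    LinearMap.toMatrix β β x = A ⊗ₖ Matrix.diagonal ε ∧
      ∀ k l, ω (β k) (β l) = (J2 F ⊗ₖ Matrix.diagonal D) k l := by
  classical
  constructor
  · ext ⟨i', j'⟩ ⟨i, j⟩
    rw [LinearMap.toMatrix_apply, h1, map_smul, map_add, map_smul, map_smul,
      Module.Basis.repr_self, Module.Basis.repr_self, Matrix.kroneckerMap_apply,
      Matrix.diagonal_apply]
    simp only [Finsupp.smul_apply, Finsupp.add_apply, Finsupp.single_apply, Prod.mk.injEq,
      smul_eq_mul]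
    by_cases hj : j = j'
    · subst hj
      fin_cases i' <;> simp [mul_comm]
    · have hj' : ¬ j' = j := fun h => hj h.symm
      simp [hj, hj']
  · rintro ⟨i, j⟩ ⟨i', j'⟩
    rw [h3, Matrix.kroneckerMap_apply, Matrix.diagonal_apply]

end KRON

open KRON in
/-- KRONBASIS -/
theorem kron_basis {F : Type u} [Field F] [Fintype F] (h2 : (2 : F) ≠ 0) {V : Type v}
    [AddCommGroup V] [Module F V] [FiniteDimensional F V] (ω : LinearMap.BilinForm F V)
    (x : Module.End F V) (halt : ∀ v, ω v v = 0) (hnd : ∀ v, v ≠ 0 → ∃ w, ω v w ≠ 0)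
    (hx : ∀ u v, ω (x u) (x v) = ω u v) (z : F) (hz : z = 1 ∨ z = -1)
    (hx2 : x ^ 2 = z • (1 : Module.End F V)) (b : ℕ) (hV : Module.finrank F V = 2 * b)
    (G : Matrix (Fin b) (Fin b) F) (hGs : G.transpose = G) (hGd : G.det ≠ 0) :
    ∃ (β : Module.Basis (Fin 2 × Fin b) F V) (A : GL (Fin 2) F) (B : GL (Fin b) F),
      LinearMap.toMatrix β β x = (A : Matrix (Fin 2) (Fin 2) F) ⊗ₖ (B : Matrix (Fin b) (Fin b) F) ∧
      ∀ k l, ω (β k) (β l) = (J2 F ⊗ₖ G) k l := by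
  classical
  obtain ⟨T, D, hD, hT⟩ := exists_diag h2 b G hGs hGd
  -- the data of PEEL for a suitable matrix `A`
  obtain ⟨A, β₀, ε, hε, h1, h3⟩ : ∃ (A : GL (Fin 2) F) (β₀ : Module.Basis (Fin 2 × Fin b) F V)
      (ε : Fin b → F), (∀ j, ε j ^ 2 = 1) ∧
      (∀ i j, x (β₀ (i, j)) = ε j • ((A : Matrix (Fin 2) (Fin 2) F) 0 i • β₀ (0, j) +
        (A : Matrix (Fin 2) (Fin 2) F) 1 i • β₀ (1, j))) ∧
      (∀ i j i' j', ω (β₀ (i, j)) (β₀ (i', j')) = J2 F i i' * (if j = j' then D j else 0)) := by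
    rcases hz with rfl | rfl
    · obtain ⟨β₀, ε, hε, h1, h3⟩ := peel (1 : Matrix (Fin 2) (Fin 2) F) 1 one_ne_zero
        (fun V _ _ _ ω x halt hnd hx hx2 hV D₁ hD₁ => find_pair_one h2 ω x halt hnd hx hx2 hV D₁ hD₁)
        V ω x halt hnd hx hx2 b hV D hD
      exact ⟨1, β₀, ε, hε, h1, h3⟩
    · obtain ⟨β₀, ε, hε, h1, h3⟩ := peel (J2 F) (-1) (neg_ne_zero.2 one_ne_zero)
        (fun V _ _ _ ω x halt hnd hx hx2 hV D₁ hD₁ => find_pair_neg h2 ω x halt hnd hx hx2 hV D₁ hD₁)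
        V ω x halt hnd hx hx2 b hV D hD
      exact ⟨Matrix.GeneralLinearGroup.mkOfDetNeZero (J2 F) (by rw [J2_det]; exact one_ne_zero),
        β₀, ε, hε, h1, h3⟩
  obtain ⟨hm1, hm2⟩ := matrices ω x b (A : Matrix (Fin 2) (Fin 2) F) β₀ ε D h1 h3
  have hdet : (Matrix.diagonal ε).det ≠ 0 := by
    rw [Matrix.det_diagonal]
    refine Finset.prod_ne_zero_iff.2 fun j _ hj => ?_
    have := hε j
    rw [hj] at this
    simp at this
  obtain ⟨β, B, hβ, hG⟩ := base_change ω x 2 b β₀ A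
    (Matrix.GeneralLinearGroup.mkOfDetNeZero (Matrix.diagonal ε) hdet) (J2 F) (Matrix.diagonal D)
    hm1 hm2 T
  rw [hT] at hG
  exact ⟨β, A, B, hβ, hG⟩

end Cfsg.Agent.S5980P
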