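import Mathlib
import Cfsg.Prelude.Def_GeometricClasses
import Cfsg.Prelude.Def_ClassicalGeometry
import Cfsg.Agent.Helper23.S5961Defs

set_option autoImplicit false
open scoped MatrixGroups Kronecker TensorProduct Matrix

/-! S5980 piece LINKSP: a basis with the Gram matrix of the tensor structure in which `x` is a
Kronecker product gives a symplectic conjugate of `x` in the tensor product subgroup (adapted from
helper6's `S5979P.mem_tensor_of_basis`). -/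

namespace Cfsg.Agent.S5980P

open Cfsg.Agent.S5961P (sB sB_apply)

/-- LINKSP -/
theorem mem_tensor_of_basis_sp {F : Type*} [Field F] (d a b : ℕ)
    (e : (Fin d ⊕ Fin d) ≃ Fin a × Fin b) (P x : GL (Fin d ⊕ Fin d) F)
    (M : Matrix (Fin a × Fin b) (Fin a × Fin b) F)
    (hS : ∀ u v : Fin a × Fin b → F,
      Cfsg.sympForm d F ((P : Matrix (Fin d ⊕ Fin d) (Fin d ⊕ Fin d) F) *ᵥ (u ∘ e))
        ((P : Matrix (Fin d ⊕ Fin d) (Fin d ⊕ Fin d) F) *ᵥ (v ∘ e)) = ∑ k, ∑ l, u k * M k l * v l)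
    (β : Module.Basis (Fin a × Fin b) F (Fin d ⊕ Fin d → F)) (A : GL (Fin a) F) (B : GL (Fin b) F)
    (hβ : LinearMap.toMatrix β β (Matrix.toLin' (x : Matrix (Fin d ⊕ Fin d) (Fin d ⊕ Fin d) F)) =
      (A : Matrix (Fin a) (Fin a) F) ⊗ₖ (B : Matrix (Fin b) (Fin b) F))
    (hG : ∀ k l, Cfsg.sympForm d F (β k) (β l) = M k l) :
    ∃ g ∈ Cfsg.spGL d F, g⁻¹ * x * g ∈ Cfsg.Geo.tensorProductSubgroup a b e P := by
  classical
  -- the Kronecker product as an element of `GL`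
  have hK1 : ((A : Matrix (Fin a) (Fin a) F) ⊗ₖ (B : Matrix (Fin b) (Fin b) F)) *
      (((A⁻¹ : GL (Fin a) F) : Matrix (Fin a) (Fin a) F) ⊗ₖ
        ((B⁻¹ : GL (Fin b) F) : Matrix (Fin b) (Fin b) F)) = 1 := by
    rw [← Matrix.mul_kronecker_mul, ← Units.val_mul, ← Units.val_mul, mul_inv_cancel,
      mul_inv_cancel]
    simp
  have hK2 : (((A⁻¹ : GL (Fin a) F) : Matrix (Fin a) (Fin a) F) ⊗ₖ
        ((B⁻¹ : GL (Fin b) F) : Matrix (Fin b) (Fin b) F)) *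
      ((A : Matrix (Fin a) (Fin a) F) ⊗ₖ (B : Matrix (Fin b) (Fin b) F)) = 1 := by
    rw [← Matrix.mul_kronecker_mul, ← Units.val_mul, ← Units.val_mul, inv_mul_cancel,
      inv_mul_cancel]
    simp
  obtain ⟨K, hK⟩ : ∃ K : GL (Fin a × Fin b) F, (K : Matrix (Fin a × Fin b) (Fin a × Fin b) F) =
      (A : Matrix (Fin a) (Fin a) F) ⊗ₖ (B : Matrix (Fin b) (Fin b) F) := ⟨⟨_, _, hK1, hK2⟩, rfl⟩
  have hKmem : K ∈ Cfsg.Geo.kroneckerSubgroup a b F := ⟨A, B, hK⟩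
  obtain ⟨Mg, hMgdef⟩ : ∃ Mg : GL (Fin d ⊕ Fin d) F, Mg = Cfsg.Geo.glReindex e.symm K := ⟨_, rfl⟩
  have hMg : ∀ k k', (Mg : Matrix (Fin d ⊕ Fin d) (Fin d ⊕ Fin d) F) k k' =
      ((A : Matrix (Fin a) (Fin a) F) ⊗ₖ (B : Matrix (Fin b) (Fin b) F)) (e k) (e k') := by
    intro k k'
    rw [hMgdef, ← hK]
    rfl
  -- the change of basis
  obtain ⟨β', hβ'⟩ : ∃ β' : Module.Basis (Fin d ⊕ Fin d) F (Fin d ⊕ Fin d → F),
    β' = β.reindex e.symm := ⟨_, rfl⟩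
  have hQ1 : (Pi.basisFun F (Fin d ⊕ Fin d)).toMatrix β' *
      β'.toMatrix (Pi.basisFun F (Fin d ⊕ Fin d)) = 1 :=
    Module.Basis.toMatrix_mul_toMatrix_flip _ _
  have hQ2 : β'.toMatrix (Pi.basisFun F (Fin d ⊕ Fin d)) *
      (Pi.basisFun F (Fin d ⊕ Fin d)).toMatrix β' = 1 :=
    Module.Basis.toMatrix_mul_toMatrix_flip _ _
  obtain ⟨Q0, hQ0, hQ0i⟩ : ∃ Q0 : GL (Fin d ⊕ Fin d) F,
      (Q0 : Matrix (Fin d ⊕ Fin d) (Fin d ⊕ Fin d) F) =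
        (Pi.basisFun F (Fin d ⊕ Fin d)).toMatrix β' ∧
      ((Q0⁻¹ : GL (Fin d ⊕ Fin d) F) : Matrix (Fin d ⊕ Fin d) (Fin d ⊕ Fin d) F) =
        β'.toMatrix (Pi.basisFun F (Fin d ⊕ Fin d)) := ⟨⟨_, _, hQ1, hQ2⟩, rfl, rfl⟩
  have hM' : LinearMap.toMatrix β' β'
      (Matrix.toLin' (x : Matrix (Fin d ⊕ Fin d) (Fin d ⊕ Fin d) F)) =
      (Mg : Matrix (Fin d ⊕ Fin d) (Fin d ⊕ Fin d) F) := by
    ext k k'
    rw [LinearMap.toMatrix_apply, hMg, hβ', Module.Basis.repr_reindex_apply,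
      Module.Basis.reindex_apply, Equiv.symm_symm, ← hβ, LinearMap.toMatrix_apply]
  have hx : x = Q0 * Mg * Q0⁻¹ := by
    apply Units.ext
    rw [Units.val_mul, Units.val_mul, hQ0, hQ0i, ← hM',
      basis_toMatrix_mul_linearMap_toMatrix_mul_basis_toMatrix, LinearMap.toMatrix_eq_toMatrix',
      LinearMap.toMatrix'_toLin']
  -- `Q0` maps the coordinates to the combination of the basis vectors
  have hQ0v : ∀ s : Fin a × Fin b → F,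
      (Q0 : Matrix (Fin d ⊕ Fin d) (Fin d ⊕ Fin d) F) *ᵥ (s ∘ e) = ∑ m, s m • β m := by
    intro s
    have h1 : (Q0 : Matrix (Fin d ⊕ Fin d) (Fin d ⊕ Fin d) F) *ᵥ (s ∘ e) =
        ∑ k, (s ∘ e) k • β' k := by
      ext i
      rw [Matrix.mulVec, dotProduct, Finset.sum_apply]
      apply Finset.sum_congr rfl
      intro k _
      rw [hQ0, Module.Basis.toMatrix_apply, Pi.basisFun_repr, Pi.smul_apply, smul_eq_mul, mul_comm]
    rw [h1, ← Equiv.sum_comp e.symm]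
    apply Finset.sum_congr rfl
    intro m _
    rw [hβ', Module.Basis.reindex_apply, Function.comp_apply, Equiv.apply_symm_apply,
      Equiv.symm_symm, Equiv.apply_symm_apply]
  refine ⟨Q0 * P⁻¹, ?_, ?_⟩
  · intro u v
    show Cfsg.sympForm d F (((Q0 * P⁻¹ : GL (Fin d ⊕ Fin d) F) :
      Matrix (Fin d ⊕ Fin d) (Fin d ⊕ Fin d) F) *ᵥ u) (((Q0 * P⁻¹ : GL (Fin d ⊕ Fin d) F) :
      Matrix (Fin d ⊕ Fin d) (Fin d ⊕ Fin d) F) *ᵥ v) = Cfsg.sympForm d F u v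
    obtain ⟨s, hs⟩ : ∃ s : Fin a × Fin b → F, s = (((P⁻¹ : GL (Fin d ⊕ Fin d) F) :
      Matrix (Fin d ⊕ Fin d) (Fin d ⊕ Fin d) F) *ᵥ u) ∘ e.symm := ⟨_, rfl⟩
    obtain ⟨t, ht⟩ : ∃ t : Fin a × Fin b → F, t = (((P⁻¹ : GL (Fin d ⊕ Fin d) F) :
      Matrix (Fin d ⊕ Fin d) (Fin d ⊕ Fin d) F) *ᵥ v) ∘ e.symm := ⟨_, rfl⟩
    have hse : s ∘ e = ((P⁻¹ : GL (Fin d ⊕ Fin d) F) :
        Matrix (Fin d ⊕ Fin d) (Fin d ⊕ Fin d) F) *ᵥ u := by
      rw [hs]; funext i; simp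
    have hte : t ∘ e = ((P⁻¹ : GL (Fin d ⊕ Fin d) F) :
        Matrix (Fin d ⊕ Fin d) (Fin d ⊕ Fin d) F) *ᵥ v := by
      rw [ht]; funext i; simp
    have hPP : ∀ w : Fin d ⊕ Fin d → F, (P : Matrix (Fin d ⊕ Fin d) (Fin d ⊕ Fin d) F) *ᵥ
        (((P⁻¹ : GL (Fin d ⊕ Fin d) F) : Matrix (Fin d ⊕ Fin d) (Fin d ⊕ Fin d) F) *ᵥ w) = w := by
      intro w
      rw [Matrix.mulVec_mulVec, ← Units.val_mul, mul_inv_cancel, Units.val_one, Matrix.one_mulVec]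
    have h1 := hS s t
    rw [hse, hte, hPP, hPP] at h1
    rw [h1, Units.val_mul, ← Matrix.mulVec_mulVec, ← Matrix.mulVec_mulVec, ← hse, ← hte, hQ0v, hQ0v,
      ← sB_apply]
    simp only [map_sum, map_smul, LinearMap.sum_apply, LinearMap.smul_apply, smul_eq_mul, sB_apply,
      hG, Finset.mul_sum]
    rw [Finset.sum_comm]
    apply Finset.sum_congr rfl
    intro k _
    apply Finset.sum_congr rfl
    intro l _
    ring
  · have h1 : (Q0 * P⁻¹)⁻¹ * x * (Q0 * P⁻¹) = P * (Q0⁻¹ * x * Q0) * P⁻¹ := by group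
    rw [h1, hx]
    have h2 : Q0⁻¹ * (Q0 * Mg * Q0⁻¹) * Q0 = Mg := by group
    rw [h2]
    rw [Cfsg.Geo.tensorProductSubgroup]
    refine Subgroup.mem_map.mpr ⟨Mg, Subgroup.mem_map.mpr ⟨K, hKmem, hMgdef.symm⟩, ?_⟩
    rfl

end Cfsg.Agent.S5980P
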