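import Mathlib
import Cfsg.Agent.Helper3.S5949NTS
import Cfsg.Agent.Helper20.S5979TR1
import Cfsg.Agent.Helper24.S5979TR3

set_option autoImplicit false
open scoped TensorProduct

/-! S5980 piece NORMALIZE: the factors of a tensor product of order `r` can be scaled to have
order `r` (when `r ∤ q - 1`). -/

namespace Cfsg.Agent.S5980P

open Cfsg.Agent.S5949P Cfsg.Agent.S5979P

namespace NORMALIZE

variable {F U W : Type*} [Field F] [AddCommGroup U] [Module F U] [AddCommGroup W] [Module F W]

theorem map_scalar_sub (α c : F) (g₂ : Module.End F W) :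
    TensorProduct.map (α • (1 : Module.End F U)) g₂ - c • (1 : Module.End F (U ⊗[F] W)) =
      TensorProduct.map (1 : Module.End F U) (α • g₂ - c • (1 : Module.End F W)) := by
  apply TensorProduct.ext'
  intro u w
  simp only [LinearMap.sub_apply, TensorProduct.map_tmul, LinearMap.smul_apply,
    Module.End.one_apply, TensorProduct.tmul_sub, TensorProduct.tmul_smul, TensorProduct.smul_tmul']

theorem pow_injective {M : Type*} [AddCommGroup M] [Module F M] (h : Module.End F M)
    (hh : Function.Injective h) (k : ℕ) : Function.Injective (h ^ k) := by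
  induction k with
  | zero => exact fun u v huv => huv
  | succ k ih =>
    rw [pow_succ]
    exact fun u v huv => hh (ih huv)

end NORMALIZE

open NORMALIZE in
/-- NORMALIZE: the factors of a tensor product of order `r` can be scaled to have order `r` -/
theorem normalize {F U W : Type*} [Field F] [Fintype F] [AddCommGroup U] [Module F U]
    [AddCommGroup W] [Module F W] [FiniteDimensional F U] [FiniteDimensional F W] (r : ℕ)
    [Fact r.Prime] (hr : ¬ r ∣ Fintype.card F - 1) (hU : 0 < Module.finrank F U)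
    (hW : 0 < Module.finrank F W) (g₁ : Module.End F U) (g₂ : Module.End F W)
    (hg₁ : Function.Bijective g₁) (hg₂ : Function.Bijective g₂)
    (hy : (TensorProduct.map g₁ g₂) ^ r = 1) :
    ∃ δ : F, δ ≠ 0 ∧ (δ⁻¹ • g₁) ^ r = 1 ∧ (δ • g₂) ^ r = 1 := by
  have hrpr : r.Prime := Fact.out
  rw [TensorProduct.map_pow] at hy
  have hzero : TensorProduct.map (g₁ ^ r) (g₂ ^ r) -
      (1 : F) • (1 : Module.End F (U ⊗[F] W)) = 0 := by
    rw [hy, one_smul]
    exact sub_self (1 : Module.End F (U ⊗[F] W))
  -- `g₁ ^ r` is a scalar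
  obtain ⟨ν, hν⟩ : ∃ ν : F, g₁ ^ r = ν • (1 : Module.End F U) := by
    by_contra hns
    have h := rank_tensor_ge (g₁ ^ r) (g₂ ^ r) hns (pow_injective g₂ hg₂.injective r) 1
    rw [hzero, LinearMap.range_zero, finrank_bot] at h
    omega
  have hν0 : ν ≠ 0 := by
    rintro rfl
    rw [zero_smul] at hν
    have hinj := pow_injective g₁ hg₁.injective r
    rw [hν] at hinj
    obtain ⟨u, hu⟩ : ∃ u : U, u ≠ 0 := by
      have : Nontrivial U := Module.finrank_pos_iff.1 hU
      exact exists_ne 0
    exact hu (hinj (by simp))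
  obtain ⟨δ, hδ⟩ := (nt_coprime (F := F) r hr).1 ν
  have hδ0 : δ ≠ 0 := by
    rintro rfl
    rw [zero_pow hrpr.ne_zero] at hδ
    exact hν0 hδ.symm
  refine ⟨δ, hδ0, ?_, ?_⟩
  · rw [smul_pow, hν, smul_smul, inv_pow, hδ, inv_mul_cancel₀ hν0, one_smul]
  · -- `ν • g₂ ^ r = 1`
    have h3 := rank_tensor_one (U := U) (ν • g₂ ^ r - (1 : F) • (1 : Module.End F W))
    rw [← map_scalar_sub, ← hν, hzero, LinearMap.range_zero, finrank_bot] at h3
    have h4 : Module.finrank F (LinearMap.range
        (ν • g₂ ^ r - (1 : F) • (1 : Module.End F W))) = 0 := by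
      rcases Nat.eq_zero_or_pos (Module.finrank F (LinearMap.range
        (ν • g₂ ^ r - (1 : F) • (1 : Module.End F W)))) with h | h
      · exact h
      · have := Nat.mul_pos hU h
        omega
    have h5 : LinearMap.range (ν • g₂ ^ r - (1 : F) • (1 : Module.End F W)) = ⊥ :=
      Submodule.finrank_eq_zero.1 h4
    have h6 := LinearMap.range_eq_bot.1 h5
    rw [one_smul, sub_eq_zero] at h6
    rw [smul_pow, hδ, h6]

end Cfsg.Agent.S5980P
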