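import Cfsg.Agent.Helper23.S5961Defs
import Cfsg.Agent.Helper21.S5980NORMALIZE
import Cfsg.Agent.Helper20.S5980CYCB
import Cfsg.Agent.Helper26.S5980CYCVEC
import Cfsg.Agent.Helper28.S5980NOSELFDUAL
import Cfsg.Agent.Helper21.S5949CYCMAIN
import Cfsg.Agent.Helper20.S5979TR1
import Cfsg.Agent.Helper24.S5979TR3

set_option autoImplicit false
open scoped MatrixGroups Kronecker TensorProduct
open Polynomial

/-! S5980: a tensor product `g₁ ⊗ g₂` of order `r` (`ord_r(q) ≥ 2`) is not similar to an element of
order `r` of `Sp_{2d}(q)` with a single block. -/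

namespace Cfsg.Agent.S5980P

open Cfsg.Agent.S5961P (cc)
open Cfsg.Agent.S5949P Cfsg.Agent.S5979P

namespace TENS

variable {F U W : Type*} [Field F] [AddCommGroup U] [Module F U] [AddCommGroup W] [Module F W]

theorem map_smul_smul (α β : F) (g₁ : Module.End F U) (g₂ : Module.End F W) :
    TensorProduct.map (α • g₁) (β • g₂) = (α * β) • TensorProduct.map g₁ g₂ := by
  apply TensorProduct.ext'
  intro u w
  simp only [TensorProduct.map_tmul, LinearMap.smul_apply, TensorProduct.smul_tmul',
    TensorProduct.tmul_smul, smul_smul]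
  rw [mul_comm]

theorem aeval_map_one (h : Module.End F W) (P : F[X]) :
    aeval (TensorProduct.map (1 : Module.End F U) h) P =
      TensorProduct.map (1 : Module.End F U) (aeval h P) := by
  have h1 : ∀ k : Module.End F W, TensorProduct.map (1 : Module.End F U) k =
      Module.End.lTensorAlgHom F W U k := fun k => rfl
  rw [h1, h1, Polynomial.aeval_algHom_apply]

theorem aeval_map_one' (h : Module.End F U) (P : F[X]) :
    aeval (TensorProduct.map h (1 : Module.End F W)) P =
      TensorProduct.map (aeval h P) (1 : Module.End F W) := by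
  have h1 : ∀ k : Module.End F U, TensorProduct.map k (1 : Module.End F W) =
      Module.End.rTensorAlgHom F U W k := fun k => rfl
  rw [h1, h1, Polynomial.aeval_algHom_apply]

variable [FiniteDimensional F U] [FiniteDimensional F W]

/-- the rank of `h ⊗ 1` -/
theorem rank_one_tensor (h : Module.End F U) :
    Module.finrank F (LinearMap.range (TensorProduct.map h (1 : Module.End F W))) =
      Module.finrank F W * Module.finrank F (LinearMap.range h) := by
  have h1 : TensorProduct.map h (1 : Module.End F W) = LinearMap.rTensor W h := rfl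
  rw [h1, LinearMap.rTensor_range]
  have hinj : Function.Injective (LinearMap.rTensor W (LinearMap.range h).subtype) :=
    Module.Flat.rTensor_preserves_injective_linearMap _ (Submodule.subtype_injective _)
  rw [LinearMap.finrank_range_of_inj hinj, Module.finrank_tensorProduct, mul_comm]

theorem map_sub_one_right (h : Module.End F U) :
    TensorProduct.map h (1 : Module.End F W) - 1 =
      TensorProduct.map (h - 1) (1 : Module.End F W) := by
  apply TensorProduct.ext'
  intro u w
  simp only [LinearMap.sub_apply, TensorProduct.map_tmul, Module.End.one_apply,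
    TensorProduct.sub_tmul]

theorem map_sub_one_left (h : Module.End F W) :
    TensorProduct.map (1 : Module.End F U) h - 1 =
      TensorProduct.map (1 : Module.End F U) (h - 1) := by
  apply TensorProduct.ext'
  intro u w
  simp only [LinearMap.sub_apply, TensorProduct.map_tmul, Module.End.one_apply,
    TensorProduct.tmul_sub]

/-- ranks of `k - 1` for `k ^ r = 1` -/
theorem rank_sub_one {F M : Type*} [Field F] [Fintype F] {p : ℕ} [Fact p.Prime] [CharP F p]
    [AddCommGroup M] [Module F M] [FiniteDimensional F M] (r : ℕ) [Fact r.Prime] (hrp : r ≠ p)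
    (k : Module.End F M) (hk : k ^ r = 1) (hk1 : k ≠ 1) :
    orderOf ((Fintype.card F : ℕ) : ZMod r) ∣ Module.finrank F (LinearMap.range (k - 1)) ∧
      orderOf ((Fintype.card F : ℕ) : ZMod r) ≤ Module.finrank F (LinearMap.range (k - 1)) := by
  have hdvd := (Cfsg.Agent.S5949P.cyc_main (p := p) r hrp k hk).1
  have h7 := LinearMap.finrank_range_add_finrank_ker (k - 1)
  have h8 : Module.finrank F (LinearMap.range (k - 1)) =
      Module.finrank F M - Module.finrank F (LinearMap.ker (k - 1)) := by omega
  have hd : orderOf ((Fintype.card F : ℕ) : ZMod r) ∣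
      Module.finrank F (LinearMap.range (k - 1)) := by rw [h8]; exact hdvd
  refine ⟨hd, ?_⟩
  apply Nat.le_of_dvd _ hd
  rcases Nat.eq_zero_or_pos (Module.finrank F (LinearMap.range (k - 1))) with h0 | h0
  · exfalso
    have h9 : LinearMap.range (k - 1) = ⊥ := Submodule.finrank_eq_zero.1 h0
    exact hk1 (sub_eq_zero.1 (LinearMap.range_eq_bot.1 h9))
  · exact h0

end TENS

open TENS in
/-- TENS -/
theorem tensor_false {F U W : Type*} [Field F] [Fintype F] {p : ℕ} [Fact p.Prime] [CharP F p]
    [AddCommGroup U] [Module F U] [FiniteDimensional F U] [AddCommGroup W] [Module F W]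
    [FiniteDimensional F W] (h2 : (2 : F) ≠ 0) (r : ℕ) [Fact r.Prime] (hr2 : r ≠ 2) (hrp : r ≠ p)
    (hc1 : ¬ r ∣ Fintype.card F - 1)
    (hc2 : 2 ≤ orderOf ((Fintype.card F : ℕ) : ZMod r))
    (ha : Even (Module.finrank F U)) (ha2 : 2 ≤ Module.finrank F U) (hb : 3 ≤ Module.finrank F W)
    (g₁ : Module.End F U) (g₂ : Module.End F W) (hg₁ : Function.Bijective g₁)
    (hg₂ : Function.Bijective g₂) (hy : (TensorProduct.map g₁ g₂) ^ r = 1)
    (hrk : Module.finrank F (LinearMap.range (TensorProduct.map g₁ g₂ - 1)) = cc F r)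
    (hdual : ∀ P : F[X], Module.finrank F (LinearMap.range (aeval (TensorProduct.map g₁ g₂) P)) =
      Module.finrank F (LinearMap.range (aeval ((TensorProduct.map g₁ g₂) ^ (r - 1)) P))) :
    False := by
  classical
  obtain ⟨δ, hδ, hh₁, hh₂⟩ := normalize r hc1 (by omega) (by omega) g₁ g₂ hg₁ hg₂ hy
  -- replace `g₁`, `g₂` by the normalized maps
  have hmap : TensorProduct.map (δ⁻¹ • g₁) (δ • g₂) = TensorProduct.map g₁ g₂ := by
    rw [map_smul_smul, inv_mul_cancel₀ hδ, one_smul]
  obtain ⟨k₁, hk₁⟩ : ∃ k₁ : Module.End F U, k₁ = δ⁻¹ • g₁ := ⟨_, rfl⟩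
  obtain ⟨k₂, hk₂⟩ : ∃ k₂ : Module.End F W, k₂ = δ • g₂ := ⟨_, rfl⟩
  rw [← hk₁] at hh₁ hmap
  rw [← hk₂] at hh₂ hmap
  rw [← hmap] at hrk hdual
  have hk₁inj : Function.Injective k₁ := by
    rw [hk₁]
    intro u v huv
    simp only [LinearMap.smul_apply] at huv
    exact hg₁.injective (smul_right_injective U (inv_ne_zero hδ) huv)
  have hk₂inj : Function.Injective k₂ := by
    rw [hk₂]
    intro u v huv
    simp only [LinearMap.smul_apply] at huv
    exact hg₂.injective (smul_right_injective W hδ huv)
  obtain ⟨c, hc⟩ : ∃ c : ℕ, c = orderOf ((Fintype.card F : ℕ) : ZMod r) := ⟨_, rfl⟩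
  rw [← hc] at hc2
  have hcc : cc F r = if Even c then c else 2 * c := by rw [hc]; rfl
  have hccle : cc F r ≤ 2 * c := by rw [hcc]; split_ifs <;> omega
  have hccge : c ≤ cc F r := by rw [hcc]; split_ifs <;> omega
  by_cases h1 : k₁ = 1
  · by_cases h3 : k₂ = 1
    · -- both trivial
      rw [h1, h3] at hrk
      have : TensorProduct.map (1 : Module.End F U) (1 : Module.End F W) - 1 = 0 := by
        rw [map_sub_one_left, sub_self, TensorProduct.map_zero_right]
      rw [this, LinearMap.range_zero, finrank_bot] at hrk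
      omega
    · -- `1 ⊗ k₂`
      obtain ⟨hd, hle⟩ := rank_sub_one (p := p) r hrp k₂ hh₂ h3
      rw [← hc] at hd hle
      rw [h1, map_sub_one_left, rank_tensor_one] at hrk
      by_cases hev : Even c
      · rw [hcc, if_pos hev] at hrk
        nlinarith
      · rw [hcc, if_neg hev] at hrk
        have hodd : Odd c := Nat.not_even_iff_odd.1 hev
        -- `a = 2` and the rank of `k₂ - 1` is `c`
        have ha2' : Module.finrank F U = 2 ∧
            Module.finrank F (LinearMap.range (k₂ - 1)) = c := by
          constructor <;> nlinarith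
        apply no_self_dual (p := p) h2 r hr2 hrp (hc ▸ hodd) k₂ hh₂ (hc ▸ ha2'.2)
        intro P
        have h5 := hdual P
        rw [h1, TensorProduct.map_pow, one_pow, aeval_map_one, aeval_map_one, rank_tensor_one,
          rank_tensor_one] at h5
        exact Nat.eq_of_mul_eq_mul_left (by omega) h5
  · by_cases h3 : k₂ = 1
    · -- `k₁ ⊗ 1`
      obtain ⟨hd, hle⟩ := rank_sub_one (p := p) r hrp k₁ hh₁ h1
      rw [← hc] at hd hle
      rw [h3, map_sub_one_right, rank_one_tensor] at hrk
      nlinarith
    · -- both nontrivial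
      obtain ⟨u₀, hu₀⟩ := exists_chain (p := p) r hrp k₁ hh₁ h1
      obtain ⟨w₀, hw₀⟩ := exists_chain (p := p) r hrp k₂ hh₂ h3
      rw [← hc] at hu₀ hw₀
      have hl := rank_tensor_chain_left k₁ k₂ hk₂inj c u₀ hu₀ 1
      have hr := rank_tensor_chain_right k₁ k₂ hk₁inj c w₀ hw₀ 1
      rw [one_smul, hrk] at hl hr
      have hca : c ≤ Module.finrank F U := by
        have := hu₀.fintype_card_le_finrank
        simpa using this
      have hcb : c ≤ Module.finrank F W := by
        have := hw₀.fintype_card_le_finrank
        simpa using this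
      by_cases hev : Even c
      · rw [hcc, if_pos hev] at hl
        have : (c - 1) * 3 ≤ c := le_trans (Nat.mul_le_mul_left _ hb) hl
        omega
      · rw [hcc, if_neg hev] at hr
        have hodd : Odd c := Nat.not_even_iff_odd.1 hev
        have hc3 : 3 ≤ c := by
          rcases hodd with ⟨k, hk⟩
          omega
        have ha' : c + 1 ≤ Module.finrank F U := by
          rcases Nat.lt_or_ge c (Module.finrank F U) with h | h
          · exact h
          · exfalso
            have : Module.finrank F U = c := le_antisymm h hca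
            rw [this] at ha
            exact hev ha
        have h6 : (c - 1) * (c + 1) ≤ 2 * c := le_trans (Nat.mul_le_mul_left _ ha') hr
        obtain ⟨m, rfl⟩ : ∃ m, c = m + 3 := ⟨c - 3, by omega⟩
        simp only [Nat.add_sub_cancel, show m + 3 - 1 = m + 2 by omega] at h6
        nlinarith

end Cfsg.Agent.S5980P
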