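import Mathlib
import Cfsg.Prelude.Def_GeometricClasses
import Cfsg.Prelude.Def_Classical
import Cfsg.Prelude.Def_LieClassical

set_option autoImplicit false
open scoped MatrixGroups Matrix

/-! S5981 piece BASISFORM: a form given by its matrix in a basis. -/

namespace Cfsg.Agent.S5981P

/-- BASISFORM: a form given by its matrix in a basis -/
theorem form_of_basis {F : Type*} [Field F] {n : ℕ} {ι : Type*} [Fintype ι] [DecidableEq ι]
    (x : Matrix (Fin n) (Fin n) F) (b : Module.Basis ι F (Fin n → F)) (M : Matrix ι ι F) (τ : F)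
    (hM : Mᵀ = M) (hdet : M.det ≠ 0)
    (hx : (LinearMap.toMatrix b b (Matrix.toLin' x))ᵀ * M * LinearMap.toMatrix b b (Matrix.toLin' x)
      = τ • M) :
    ∃ (M' : Matrix (Fin n) (Fin n) F) (c : F), c ≠ 0 ∧ M'ᵀ = M' ∧ M'.det = c ^ 2 * M.det ∧
      xᵀ * M' * x = τ • M' := by
  classical
  have hcard : Fintype.card ι = Fintype.card (Fin n) := by
    rw [← Module.finrank_eq_card_basis b, Module.finrank_fin_fun, Fintype.card_fin]
  let e : ι ≃ Fin n := Fintype.equivOfCardEq hcard
  set std := Pi.basisFun F (Fin n) with hstd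
  set R : Matrix ι (Fin n) F := b.toMatrix std with hR
  set P : Matrix (Fin n) ι F := std.toMatrix b with hP
  have hPR : P * R = 1 := by
    rw [hP, hR]; exact Module.Basis.toMatrix_mul_toMatrix_flip std b
  have hRP : R * P = 1 := by
    rw [hP, hR]; exact Module.Basis.toMatrix_mul_toMatrix_flip b std
  have hX : LinearMap.toMatrix b b (Matrix.toLin' x) = R * x * P := by
    have := basis_toMatrix_mul_linearMap_toMatrix_mul_basis_toMatrix b std b std (Matrix.toLin' x)
    rw [← this]
    congr 2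
    rw [hstd, LinearMap.toMatrix_eq_toMatrix', LinearMap.toMatrix'_toLin']
  set R' : Matrix (Fin n) (Fin n) F := R.submatrix e.symm id with hR'
  set P' : Matrix (Fin n) (Fin n) F := P.submatrix id e.symm with hP'
  have hR'P' : R' * P' = 1 := by
    rw [hR', hP', ← Matrix.submatrix_mul R P _ id _ Function.bijective_id, hRP,
      Matrix.submatrix_one_equiv]
  have hc : R'.det ≠ 0 := by
    intro h0
    have := congrArg Matrix.det hR'P'
    rw [Matrix.det_mul, h0, zero_mul, Matrix.det_one] at this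
    exact zero_ne_one this
  have hM'eq : Rᵀ * M * R = R'ᵀ * (M.submatrix e.symm e.symm) * R' := by
    rw [hR', Matrix.transpose_submatrix, Matrix.submatrix_mul_equiv, Matrix.submatrix_mul_equiv]
    simp
  refine ⟨Rᵀ * M * R, R'.det, hc, ?_, ?_, ?_⟩
  · rw [Matrix.transpose_mul, Matrix.transpose_mul, Matrix.transpose_transpose, hM, Matrix.mul_assoc]
  · rw [hM'eq, Matrix.det_mul, Matrix.det_mul, Matrix.det_transpose,
      Matrix.det_submatrix_equiv_self]
    ring
  · rw [hX] at hx
    have h1 : Rᵀ * ((R * x * P)ᵀ * M * (R * x * P)) * R = Rᵀ * (τ • M) * R := by rw [hx]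
    have hPRt : Rᵀ * Pᵀ = 1 := by rw [← Matrix.transpose_mul, hPR, Matrix.transpose_one]
    have h2 : Rᵀ * ((R * x * P)ᵀ * M * (R * x * P)) * R = xᵀ * (Rᵀ * M * R) * x := by
      rw [Matrix.transpose_mul, Matrix.transpose_mul]
      calc Rᵀ * (Pᵀ * (xᵀ * Rᵀ) * M * (R * x * P)) * R
          = (Rᵀ * Pᵀ) * xᵀ * Rᵀ * M * R * x * (P * R) := by simp only [Matrix.mul_assoc]
        _ = xᵀ * (Rᵀ * M * R) * x := by
          rw [hPRt, hPR, Matrix.one_mul, Matrix.mul_one]; simp only [Matrix.mul_assoc]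
    rw [h2] at h1
    rw [h1, Matrix.mul_smul, Matrix.smul_mul]

end Cfsg.Agent.S5981P
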