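import Mathlib
import Cfsg.Prelude.Def_GeometricClasses
import Cfsg.Prelude.Def_Classical
import Cfsg.Prelude.Def_LieClassical
import Cfsg.Agent.Helper21.S5981QF

set_option autoImplicit false
open scoped MatrixGroups Matrix

/-! S5981 piece POS: invariant forms of every discriminant class => conjugate into `Sim(Q)`. -/

namespace Cfsg.Agent.S5981P

open Cfsg.Agent.Helper7.OrthUni QF in
/-- POS: invariant forms of every discriminant class => `GL`-conjugate into the similitudes of `Q`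
(classification by the discriminant: `Cfsg.Agent.Helper7.OrthUni.exists_isometry_of_disc`) -/
theorem exists_conj_of_forms {F : Type*} [Field F] [Fintype F] (h2 : (2 : F) ≠ 0) {n : ℕ}
    (Q : (Fin n → F) → F) (hQ : Cfsg.Geo.IsNondegenerateQuadraticForm Q) (x : GL (Fin n) F)
    (τ : F) (hτ : τ ≠ 0)
    (hx : ∀ δ : F, δ ≠ 0 → ∃ M : Matrix (Fin n) (Fin n) F, Mᵀ = M ∧ M.det ≠ 0 ∧
      IsSquare (M.det * δ) ∧
      (x : Matrix (Fin n) (Fin n) F)ᵀ * M * (x : Matrix (Fin n) (Fin n) F) = τ • M) :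
    ∃ g : GL (Fin n) F, g⁻¹ * x * g ∈ Cfsg.Geo.quadSimilarityGroup Q := by
  classical
  obtain ⟨M, hMT, hMdet, hsq, hMx⟩ := hx _ (gram_det_ne_zero Q hQ)
  have hu : IsUnit M := (Matrix.isUnit_iff_isUnit_det _).2 (isUnit_iff_ne_zero.2 hMdet)
  have h₀ := qf_nondeg h2 hMT hu
  have hsq' : IsSquare ((gram (toQF Q hQ)).det * (gram (qf M)).det) := by
    rw [gram_qf h2 hMT, mul_comm]; exact hsq
  obtain ⟨φ, hφ⟩ := exists_isometry_of_disc h2 (toQF Q hQ) (qf M) (toQF_nondeg Q hQ) h₀ rfl hsq'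
  refine ⟨glOf φ, ⟨Units.mk0 τ hτ, fun v => ?_⟩⟩
  rw [Units.val_mul, Units.val_mul, glOf_inv_val, glOf_val, ← Matrix.mulVec_mulVec,
    ← Matrix.mulVec_mulVec, matOf_mulVec, matOf_mulVec, Units.val_mk0]
  have h1 := hφ (φ.symm ((x : Matrix (Fin n) (Fin n) F) *ᵥ φ v))
  rw [toQF_apply, LinearEquiv.apply_symm_apply, qf_simil hMx, hφ, toQF_apply] at h1
  exact h1.symm

end Cfsg.Agent.S5981P
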