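import Mathlib
import Cfsg.Prelude.Def_GeometricClasses
import Cfsg.Prelude.Def_Classical
import Cfsg.Prelude.Def_LieClassical
import Cfsg.Agent.Helper21.S5981BASISFORM

set_option autoImplicit false
open scoped MatrixGroups Matrix

/-! S5981 piece POSDIAG: forms for an eigenbasis paired by an involution with a fixed point. -/

namespace Cfsg.Agent.S5981P

namespace POSDIAG

theorem toMatrix_diag {F : Type*} [Field F] {n : ℕ} (x : Matrix (Fin n) (Fin n) F)
    (b : Module.Basis (Fin n) F (Fin n → F)) (lam : Fin n → F)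
    (hb : ∀ j, x *ᵥ (b j) = lam j • b j) :
    LinearMap.toMatrix b b (Matrix.toLin' x) = Matrix.diagonal lam := by
  ext i j
  rw [LinearMap.toMatrix_apply, Matrix.toLin'_apply, hb j, map_smul, Finsupp.smul_apply,
    Module.Basis.repr_self, Matrix.diagonal_apply, Finsupp.single_apply, smul_eq_mul]
  by_cases h : i = j
  · subst h; simp
  · rw [if_neg h, if_neg (fun h' => h h'.symm), mul_zero]

end POSDIAG

/-- POSDIAG (uses BASISFORM): an eigenbasis paired by an involution with a fixed point -/
theorem forms_of_diag {F : Type*} [Field F] {n : ℕ} (x : Matrix (Fin n) (Fin n) F)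
    (b : Module.Basis (Fin n) F (Fin n → F)) (lam : Fin n → F)
    (hb : ∀ j, x *ᵥ (b j) = lam j • b j) (π : Equiv.Perm (Fin n)) (hπ2 : ∀ j, π (π j) = j)
    (τ : F) (hτ : ∀ j, lam j * lam (π j) = τ) (j₀ : Fin n) (hj₀ : π j₀ = j₀) :
    ∀ δ : F, δ ≠ 0 → ∃ M : Matrix (Fin n) (Fin n) F, Mᵀ = M ∧ M.det ≠ 0 ∧
      IsSquare (M.det * δ) ∧ xᵀ * M * x = τ • M := by
  classical
  intro δ hδ
  set s : F := (((Equiv.Perm.sign π : ℤˣ) : ℤ) : F) with hs
  have hs2 : s * s = 1 := by
    rw [hs, ← Int.cast_mul, ← Units.val_mul, Int.units_mul_self]; simp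
  set m : Fin n → F := fun j => if j = j₀ then s * δ else 1 with hm
  set Mb : Matrix (Fin n) (Fin n) F := Matrix.diagonal m * Equiv.Perm.permMatrix F π with hMb
  have hMb_apply : ∀ j k, Mb j k = if π j = k then m j else 0 := by
    intro j k
    rw [hMb, Matrix.diagonal_mul, Equiv.Perm.permMatrix, PEquiv.toMatrix_apply]
    simp [Equiv.toPEquiv_apply]
  have hmπ : ∀ j, m (π j) = m j := by
    intro j
    simp only [hm]
    by_cases h : j = j₀
    · rw [h, hj₀]
    · have : π j ≠ j₀ := by
        intro h'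
        apply h
        have := congrArg π h'
        rw [hπ2, hj₀] at this
        exact this
      rw [if_neg h, if_neg this]
  have hMbT : Mbᵀ = Mb := by
    ext j k
    rw [Matrix.transpose_apply, hMb_apply, hMb_apply]
    by_cases h : π k = j
    · have h' : π j = k := by rw [← h, hπ2]
      rw [if_pos h, if_pos h', ← h, hmπ]
    · have h' : ¬ π j = k := by
        intro h'; apply h; rw [← h', hπ2]
      rw [if_neg h, if_neg h']
  have hprod : ∏ j, m j = s * δ := by
    rw [Finset.prod_eq_single j₀]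
    · simp [hm]
    · intro j _ hj; simp [hm, hj]
    · intro h; exact absurd (Finset.mem_univ _) h
  have hMbdet : Mb.det = δ := by
    rw [hMb, Matrix.det_mul, Matrix.det_diagonal, Matrix.det_permutation, hprod]
    calc s * δ * _ = s * δ * s := by rw [hs]
      _ = (s * s) * δ := by ring
      _ = δ := by rw [hs2, one_mul]
  have hX := POSDIAG.toMatrix_diag x b lam hb
  have hform : (LinearMap.toMatrix b b (Matrix.toLin' x))ᵀ * Mb *
      LinearMap.toMatrix b b (Matrix.toLin' x) = τ • Mb := by
    rw [hX, Matrix.diagonal_transpose]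
    ext j k
    rw [Matrix.mul_diagonal, Matrix.diagonal_mul, Matrix.smul_apply, hMb_apply, smul_eq_mul]
    by_cases h : π j = k
    · rw [if_pos h, ← h, ← hτ j]; ring
    · rw [if_neg h]; ring
  obtain ⟨M', c, hc, hM'T, hM'det, hM'x⟩ :=
    form_of_basis x b Mb τ hMbT (by rw [hMbdet]; exact hδ) hform
  refine ⟨M', hM'T, ?_, ?_, hM'x⟩
  · rw [hM'det, hMbdet]; exact mul_ne_zero (pow_ne_zero _ hc) hδ
  · rw [hM'det, hMbdet]; exact ⟨c * δ, by ring⟩

end Cfsg.Agent.S5981P
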