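import Mathlib
import Cfsg.Prelude.Def_GeometricClasses
import Cfsg.Prelude.Def_Classical
import Cfsg.Prelude.Def_LieClassical
import Cfsg.Agent.Helper21.S5981BASISFORM
import Cfsg.Agent.Helper21.S5958FREE

set_option autoImplicit false
open scoped MatrixGroups Matrix

/-! S5981 piece TWONONSQ: `x ^ 2 = z`, `z` a non-square: invariant forms of every discriminant. -/

namespace Cfsg.Agent.S5981P

namespace TWONONSQ

open Polynomial in
/-- every element of a finite field of odd characteristic is a value of the norm form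
`c₀² - z c₁²` -/
theorem exists_norm {F : Type*} [Field F] [Fintype F] (h2 : (2 : F) ≠ 0) (z t : F) (hz : z ≠ 0) :
    ∃ c₀ c₁ : F, c₀ ^ 2 - z * c₁ ^ 2 = t := by
  have hchar : ringChar F ≠ 2 := by
    intro h
    apply h2
    have := CharP.cast_eq_zero F (ringChar F)
    rw [h] at this
    exact_mod_cast this
  have hodd := FiniteField.odd_card_of_char_ne_two hchar
  have hg : degree (C (-z) * X ^ 2 + C 0 * X + C (-t) : F[X]) = 2 :=
    degree_quadratic (neg_ne_zero.mpr hz)
  obtain ⟨a, b, hab⟩ := FiniteField.exists_root_sum_quadratic (f := (X ^ 2 : F[X]))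
    (g := (C (-z) * X ^ 2 + C 0 * X + C (-t) : F[X])) (degree_X_pow 2) hg hodd
  refine ⟨a, b, ?_⟩
  simp only [eval_add, eval_mul, eval_C, eval_pow, eval_X] at hab
  linear_combination hab

/-- the block of `x` -/
def B {F : Type*} [Field F] (z : F) : Matrix (Fin 2) (Fin 2) F := !![0, z; 1, 0]

/-- the block of the form -/
def N {F : Type*} [Field F] (z c₀ c₁ : F) : Matrix (Fin 2) (Fin 2) F :=
  !![c₀, c₁ * z; c₁ * z, c₀ * z]

theorem N_transpose {F : Type*} [Field F] (z c₀ c₁ : F) : (N z c₀ c₁)ᵀ = N z c₀ c₁ := by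
  ext i j; fin_cases i <;> fin_cases j <;> simp [N]

theorem N_det {F : Type*} [Field F] (z c₀ c₁ : F) :
    (N z c₀ c₁).det = z * (c₀ ^ 2 - z * c₁ ^ 2) := by
  rw [N, Matrix.det_fin_two_of]; ring

theorem B_N {F : Type*} [Field F] (z c₀ c₁ : F) :
    (B z)ᵀ * N z c₀ c₁ * B z = z • N z c₀ c₁ := by
  ext i j; fin_cases i <;> fin_cases j <;>
    simp [N, B, Matrix.mul_apply, Fin.sum_univ_two] <;> ring

end TWONONSQ

open TWONONSQ in
/-- TWONONSQ (uses BASISFORM): `x ^ 2 = z`, `z` a non-square -/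
theorem forms_of_sq_nonsquare {F : Type*} [Field F] [Fintype F] (h2 : (2 : F) ≠ 0) {n : ℕ}
    (hn : 1 ≤ n) (x : Matrix (Fin n) (Fin n) F) (z : F) (hz : ¬ IsSquare z)
    (hx : x * x = z • (1 : Matrix (Fin n) (Fin n) F)) :
    ∀ δ : F, δ ≠ 0 → ∃ M : Matrix (Fin n) (Fin n) F, Mᵀ = M ∧ M.det ≠ 0 ∧
      IsSquare (M.det * δ) ∧ xᵀ * M * x = z • M := by
  classical
  intro δ hδ
  have hz0 : z ≠ 0 := by
    rintro rfl; exact hz ⟨0, by simp⟩
  -- the irreducible polynomial
  have hirr : Irreducible (Polynomial.X ^ 2 - Polynomial.C z : Polynomial F) := by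
    rw [X_pow_sub_C_irreducible_iff_of_prime Nat.prime_two]
    intro b hb
    exact hz ⟨b, by rw [← hb, sq]⟩
  have hdeg : (Polynomial.X ^ 2 - Polynomial.C z : Polynomial F).natDegree = 2 :=
    Polynomial.natDegree_X_pow_sub_C
  have hann : Polynomial.aeval (Matrix.toLin' x)
      (Polynomial.X ^ 2 - Polynomial.C z : Polynomial F) = 0 := by
    rw [map_sub, map_pow, Polynomial.aeval_X, Polynomial.aeval_C, sq]
    refine LinearMap.ext fun v => ?_
    rw [LinearMap.sub_apply, Module.End.mul_apply, Matrix.toLin'_apply, Matrix.toLin'_apply,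
      Matrix.mulVec_mulVec, hx, Matrix.smul_mulVec, Matrix.one_mulVec,
      Module.algebraMap_end_apply, sub_self, LinearMap.zero_apply]
  obtain ⟨s, b₀, w, hb₀⟩ := Cfsg.Agent.S5958P.free_of_irreducible (Matrix.toLin' x) _ hirr hann
  set b : Module.Basis (Fin 2 × Fin s) F (Fin n → F) :=
    b₀.reindex ((finCongr hdeg).prodCongr (Equiv.refl _)) with hbdef
  have hb : ∀ i j, b (i, j) = ((Matrix.toLin' x) ^ (i : ℕ)) (w j) := by
    intro i j
    rw [hbdef, Module.Basis.reindex_apply]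
    simp only [Equiv.prodCongr_symm, Equiv.prodCongr_apply, Equiv.refl_symm]
    rw [hb₀]
    rfl
  have hb0 : ∀ j, b (0, j) = w j := by
    intro j; rw [hb]; simp
  have hb1 : ∀ j, b (1, j) = x *ᵥ w j := by
    intro j; rw [hb]; simp
  have hxb0 : ∀ j, x *ᵥ b (0, j) = b (1, j) := by
    intro j; rw [hb0, hb1]
  have hxb1 : ∀ j, x *ᵥ b (1, j) = z • b (0, j) := by
    intro j; rw [hb0, hb1, Matrix.mulVec_mulVec, hx, Matrix.smul_mulVec, Matrix.one_mulVec]
  -- `s ≥ 1`
  have hcard : Fintype.card (Fin 2 × Fin s) = n := by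
    rw [← Module.finrank_eq_card_basis b, Module.finrank_fin_fun]
  have hs : s ≠ 0 := by
    rintro rfl
    simp at hcard
    omega
  obtain ⟨s', rfl⟩ := Nat.exists_eq_succ_of_ne_zero hs
  -- the matrix of `x`
  have hX : LinearMap.toMatrix b b (Matrix.toLin' x) = Matrix.blockDiagonal (fun _ : Fin (s' + 1) => B z) := by
    ext ⟨i', j'⟩ ⟨i, j⟩
    rw [LinearMap.toMatrix_apply, Matrix.toLin'_apply, Matrix.blockDiagonal_apply]
    fin_cases i
    · simp only [Fin.zero_eta]
      rw [hxb0, Module.Basis.repr_self, Finsupp.single_apply]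
      fin_cases i' <;> simp [B, Prod.ext_iff, eq_comm]
    · simp only [Fin.mk_one]
      rw [hxb1, map_smul, Finsupp.smul_apply, Module.Basis.repr_self, Finsupp.single_apply]
      fin_cases i' <;> simp [B, Prod.ext_iff, eq_comm]
  -- the form
  obtain ⟨c₀, c₁, hc⟩ := exists_norm h2 z (δ * z ^ (s' + 1)) hz0
  set Nf : Fin (s' + 1) → Matrix (Fin 2) (Fin 2) F :=
    fun j => if j = 0 then N z c₀ c₁ else N z 1 0 with hNf
  set Mb : Matrix (Fin 2 × Fin (s' + 1)) (Fin 2 × Fin (s' + 1)) F := Matrix.blockDiagonal Nf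
    with hMb
  have hMbT : Mbᵀ = Mb := by
    rw [hMb, Matrix.blockDiagonal_transpose]
    congr 1
    funext j
    simp only [hNf]
    split_ifs <;> exact N_transpose _ _ _
  have hMbdet : Mb.det = δ * (z ^ (s' + 1)) ^ 2 := by
    rw [hMb, Matrix.det_blockDiagonal, Fin.prod_univ_succ]
    have h0 : (Nf 0).det = z * (δ * z ^ (s' + 1)) := by
      simp only [hNf, if_pos]; rw [N_det, hc]
    have hj : ∀ j : Fin s', (Nf j.succ).det = z := by
      intro j
      simp only [hNf, if_neg (Fin.succ_ne_zero j)]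
      rw [N_det]; ring
    rw [h0, Finset.prod_congr rfl (fun j _ => hj j), Finset.prod_const, Finset.card_univ,
      Fintype.card_fin]
    ring
  have hform : (LinearMap.toMatrix b b (Matrix.toLin' x))ᵀ * Mb *
      LinearMap.toMatrix b b (Matrix.toLin' x) = z • Mb := by
    rw [hX, hMb, Matrix.blockDiagonal_transpose, ← Matrix.blockDiagonal_mul,
      ← Matrix.blockDiagonal_mul, ← Matrix.blockDiagonal_smul]
    congr 1
    funext j
    simp only [hNf, Pi.smul_apply]
    split_ifs <;> exact B_N _ _ _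
  have hMbdet0 : Mb.det ≠ 0 := by
    rw [hMbdet]; exact mul_ne_zero hδ (pow_ne_zero _ (pow_ne_zero _ hz0))
  obtain ⟨M', c, hc0, hM'T, hM'det, hM'x⟩ := form_of_basis x b Mb z hMbT hMbdet0 hform
  refine ⟨M', hM'T, ?_, ?_, hM'x⟩
  · rw [hM'det]; exact mul_ne_zero (pow_ne_zero _ hc0) hMbdet0
  · rw [hM'det, hMbdet]; exact ⟨c * δ * z ^ (s' + 1), by ring⟩

end Cfsg.Agent.S5981P
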