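import Mathlib
import Cfsg.Prelude.Def_GeometricClasses
import Cfsg.Prelude.Def_Classical
import Cfsg.Prelude.Def_LieClassical
import Cfsg.Agent.Helper20.S6000Defs
import Cfsg.Agent.Helper28.S6001Defs
import Cfsg.Agent.Helper11.FieldComm
import Cfsg.Agent.Helper1.S6001NT5T
import Cfsg.Agent.Helper15.S6001INJ5
import Cfsg.Agent.Helper1.S6001STRUCT5

set_option autoImplicit false
open scoped MatrixGroups Matrix

/-! S6001 piece CYC5U: for `ord_5(p) = 4` the `5`-subgroups of `GU_4(p)` are cyclic. -/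

namespace Cfsg.Agent.S6001P

open Cfsg.Agent.S6000P

namespace CYC5U

variable {F : Type*} [Field F]

/-- the restriction of a group of matrices to an invariant subspace -/
noncomputable def rho (P : Subgroup (GL (Fin 4) F)) (W : Submodule F (Fin 4 → F))
    (hinv : ∀ h : P, ∀ w ∈ W, Matrix.toLin' ((h : GL (Fin 4) F) : M4 F) w ∈ W) :
    P →* Module.End F W where
  toFun h := (Matrix.toLin' ((h : GL (Fin 4) F) : M4 F)).restrict (hinv h)
  map_one' := by
    apply LinearMap.ext
    intro w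
    apply Subtype.ext
    rw [LinearMap.coe_restrict_apply]
    simp
  map_mul' a b := by
    apply LinearMap.ext
    intro w
    apply Subtype.ext
    rw [LinearMap.coe_restrict_apply, Module.End.mul_apply, LinearMap.coe_restrict_apply,
      LinearMap.coe_restrict_apply, Subgroup.coe_mul, Units.val_mul, Matrix.toLin'_mul]
    rfl

theorem rho_apply (P : Subgroup (GL (Fin 4) F)) (W : Submodule F (Fin 4 → F))
    (hinv : ∀ h : P, ∀ w ∈ W, Matrix.toLin' ((h : GL (Fin 4) F) : M4 F) w ∈ W) (h : P) (w : W) :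
    ((rho P W hinv h w : W) : Fin 4 → F) = ((h : GL (Fin 4) F) : M4 F) *ᵥ (w : Fin 4 → F) := by
  show (((Matrix.toLin' ((h : GL (Fin 4) F) : M4 F)).restrict (hinv h) w : W) : Fin 4 → F) = _
  rw [LinearMap.coe_restrict_apply, Matrix.toLin'_apply]

end CYC5U

open CYC5U in
/-- CYC5U -/
theorem isCyclic_of_five_group_u {F : Type*} [Field F] [Fintype F] {p : ℕ} [Fact p.Prime]
    [CharP F p] (hF : Fintype.card F = p ^ 2) (hp4 : p % 4 = 3)
    (hord : orderOf (p : ZMod 5) = 4) (P : Subgroup (GL (Fin 4) F)) (hPU : P ≤ Cfsg.GU 4 F p)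
    (hP : IsPGroup 5 P) : IsCyclic P := by
  classical
  have : Fact (Nat.Prime 5) := ⟨by norm_num⟩
  by_cases htriv : Subsingleton P
  · infer_instance
  have : Nontrivial P := not_subsingleton_iff_nontrivial.mp htriv
  have := hP.center_nontrivial
  have hdvd : 5 ∣ Nat.card (Subgroup.center P) := by
    rcases (hP.to_subgroup (Subgroup.center P)).card_eq_or_dvd with h1 | h1
    · exfalso
      exact (Finite.one_lt_card (α := Subgroup.center P)).ne' h1
    · exact h1
  obtain ⟨z, hz⟩ := exists_prime_orderOf_dvd_card' 5 hdvd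
  set z' : P := (z : P) with hz'
  have hz'5 : z' ^ 5 = 1 := by
    have h1 : z ^ 5 = 1 := by
      have h0 := pow_orderOf_eq_one z
      rw [hz] at h0
      exact h0
    have h2 := congrArg (fun t : Subgroup.center P => (t : P)) h1
    simpa using h2
  have hz'1 : z' ≠ 1 := by
    intro h1
    have h2 : z = 1 := Subtype.ext h1
    rw [h2, orderOf_one] at hz
    omega
  set zz : GL (Fin 4) F := (z' : GL (Fin 4) F) with hzz
  have hzz5 : zz ^ 5 = 1 := by
    have := congrArg (fun t : P => (t : GL (Fin 4) F)) hz'5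
    simpa using this
  have hzz1 : zz ≠ 1 := fun h => hz'1 (Subtype.ext h)
  have hzzU : zz ∈ Cfsg.GU 4 F p := hPU z'.2
  have hcomm : ∀ h : P, h * z' = z' * h := fun h => (Subgroup.mem_center_iff.mp z.2 h)
  -- number theory
  have hp5 : p ≠ 5 := by
    intro h
    have h0 : ((p : ℕ) : ZMod 5) = 0 := by
      rw [h]
      rfl
    have h1 := pow_orderOf_eq_one ((p : ℕ) : ZMod 5)
    rw [hord, h0, zero_pow (by norm_num)] at h1
    exact zero_ne_one h1
  obtain ⟨h5, t, ht, htp⟩ := exists_t_nonsplit hF hp4 hord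
  have h2 : (2 : F) ≠ 0 := by
    intro h
    have : ((2 : ℕ) : F) = 0 := by exact_mod_cast h
    rw [CharP.cast_eq_zero_iff F p] at this
    have := Nat.le_of_dvd (by norm_num) this
    have := (Fact.out : p.Prime).two_le
    omega
  obtain ⟨hW2, hWti⟩ := ker_quadratic_ti hF t ht htp h5 h2 zz hzzU hzz5 hzz1
  set N1 : M4 F := (zz : M4 F) * (zz : M4 F) - t • (zz : M4 F) + 1 with hN1
  set W : Submodule F (Fin 4 → F) := LinearMap.ker (Matrix.toLin' N1) with hW
  -- invariance
  have hcommM : ∀ h : P, ((h : GL (Fin 4) F) : M4 F) * (zz : M4 F) =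
      (zz : M4 F) * ((h : GL (Fin 4) F) : M4 F) := by
    intro h
    have := congrArg (fun t : P => ((t : GL (Fin 4) F) : M4 F)) (hcomm h)
    simpa using this
  have hcommN : ∀ h : P, N1 * ((h : GL (Fin 4) F) : M4 F) = ((h : GL (Fin 4) F) : M4 F) * N1 := by
    intro h
    have h1 := hcommM h
    rw [hN1, add_mul, sub_mul, mul_add, mul_sub, one_mul, mul_one, Matrix.smul_mul,
      Matrix.mul_smul, mul_assoc, ← h1, ← mul_assoc, ← h1, mul_assoc]
  have hinv : ∀ h : P, ∀ w ∈ W, Matrix.toLin' ((h : GL (Fin 4) F) : M4 F) w ∈ W := by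
    intro h w hw
    rw [hW, LinearMap.mem_ker, Matrix.toLin'_apply] at hw ⊢
    rw [Matrix.toLin'_apply, Matrix.mulVec_mulVec, hcommN h, ← Matrix.mulVec_mulVec, hw,
      Matrix.mulVec_zero]
  have hρ : Function.Injective (rho P W hinv) := by
    intro a b hab
    have hfix : ∀ w ∈ W, (((a⁻¹ * b : P) : GL (Fin 4) F) : M4 F) *ᵥ w = w := by
      intro w hw
      have h1 := congrArg (fun f : Module.End F W => ((f ⟨w, hw⟩ : W) : Fin 4 → F)) hab
      simp only [rho_apply] at h1
      rw [Subgroup.coe_mul, Units.val_mul, ← Matrix.mulVec_mulVec, ← h1, Matrix.mulVec_mulVec,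
        ← Units.val_mul, Subgroup.coe_inv, inv_mul_cancel, Units.val_one, Matrix.one_mulVec]
    obtain ⟨k, hk⟩ := hP (a⁻¹ * b)
    have hk' : ((a⁻¹ * b : P) : GL (Fin 4) F) ^ (5 ^ k) = 1 := by
      have := congrArg (fun t : P => (t : GL (Fin 4) F)) hk
      simpa using this
    have h1 := eq_one_of_fix_ti hF hp5 W hW2 hWti ((a⁻¹ * b : P) : GL (Fin 4) F)
      (hPU (a⁻¹ * b).2) hfix k hk'
    have h2 : a⁻¹ * b = 1 := Subtype.ext h1
    exact (inv_mul_eq_one.mp h2)
  have hcard : Nat.card F = p ^ 2 := by rw [Nat.card_eq_fintype_card, hF]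
  have hq : ¬ 5 ∣ Nat.card F := by
    rw [hcard]
    intro h
    have h1 := (Nat.Prime.dvd_of_dvd_pow (by norm_num : Nat.Prime 5) h)
    have h2 := (Nat.prime_dvd_prime_iff_eq (by norm_num : Nat.Prime 5) (Fact.out : p.Prime)).mp h1
    exact hp5 h2.symm
  have hd : ∀ d, 0 < d → d < Module.finrank F W → ¬ 5 ∣ Nat.card F ^ d - 1 := by
    intro d hd0 hd2 hdv
    rw [hW2] at hd2
    have hd1 : d = 1 := by omega
    subst hd1
    rw [hcard, pow_one] at hdv
    have hp1 : 1 ≤ p ^ 2 := Nat.one_le_pow _ _ (Fact.out : p.Prime).pos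
    have h1 : ((p ^ 2 - 1 : ℕ) : ZMod 5) = 0 := (ZMod.natCast_eq_zero_iff _ _).mpr hdv
    rw [Nat.cast_sub hp1, Nat.cast_pow, Nat.cast_one, sub_eq_zero] at h1
    have := orderOf_dvd_of_pow_eq_one h1
    rw [hord] at this
    omega
  have hcyc : IsCyclic (⊤ : Subgroup P) := by
    apply Cfsg.Agent.Helper11.FieldComm.isCyclic_of_le_centralizer (rho P W hinv) hρ 5 z' hz'5
      hz'1 hq hd ⊤
    intro h _
    rw [Subgroup.mem_centralizer_iff]
    intro w hw
    rw [Set.mem_singleton_iff] at hw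
    subst hw
    exact (hcomm h).symm
  exact isCyclic_of_surjective (Subgroup.topEquiv : (⊤ : Subgroup P) ≃* P)
    (Subgroup.topEquiv : (⊤ : Subgroup P) ≃* P).surjective

end Cfsg.Agent.S6001P
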