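import Mathlib
import Cfsg.Prelude.Def_GeometricClasses
import Cfsg.Prelude.Def_Classical
import Cfsg.Prelude.Def_LieClassical
import Cfsg.Agent.Helper20.S6000Defs
import Cfsg.Agent.Helper28.S6001Defs
import Cfsg.Agent.Helper3.S6001NT3
import Cfsg.Agent.Helper14.S6001DIAG3

set_option autoImplicit false
open scoped MatrixGroups Matrix

/-! S6001 piece TRU3: the trace of an element of order 3 of `GU_4(p)`, `p ≡ 1 mod 3`. -/

namespace Cfsg.Agent.S6001P

open Cfsg.Agent.S6000P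

namespace TRU3

/-- the local description of a cube root of unity by a sign `e ∈ {0, 1, -1}` -/
theorem exists_sign {F : Type*} [Field F] (ω : F) (hω : ω * ω + ω + 1 = 0) (a : F)
    (ha : a = 1 ∨ a = ω ∨ a = ω * ω) :
    ∃ e : ℤ, (e = 0 ∨ e = 1 ∨ e = -1) ∧ a * a - a = (e : F) * (ω * ω - ω) ∧
      2 * a = 2 + (e : F) * (ω - ω * ω) - 3 * ((e * e : ℤ) : F) := by
  rcases ha with rfl | rfl | rfl
  · exact ⟨0, Or.inl rfl, by simp, by simp⟩
  · refine ⟨1, Or.inr (Or.inl rfl), by simp, ?_⟩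
    push_cast
    linear_combination hω
  · refine ⟨-1, Or.inr (Or.inr rfl), ?_, ?_⟩
    · push_cast
      linear_combination (ω * ω - ω) * hω
    · push_cast
      linear_combination hω

theorem sign_cases (e0 e1 e2 e3 : ℤ) (h0 : e0 = 0 ∨ e0 = 1 ∨ e0 = -1)
    (h1 : e1 = 0 ∨ e1 = 1 ∨ e1 = -1) (h2 : e2 = 0 ∨ e2 = 1 ∨ e2 = -1)
    (h3 : e3 = 0 ∨ e3 = 1 ∨ e3 = -1) (hs : e0 + e1 + e2 + e3 = 0) :
    (e0 = 0 ∧ e1 = 0 ∧ e2 = 0 ∧ e3 = 0) ∨ e0 * e0 + e1 * e1 + e2 * e2 + e3 * e3 = 2 ∨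
      e0 * e0 + e1 * e1 + e2 * e2 + e3 * e3 = 4 := by
  rcases h0 with rfl | rfl | rfl <;> rcases h1 with rfl | rfl | rfl <;>
    rcases h2 with rfl | rfl | rfl <;> rcases h3 with rfl | rfl | rfl <;>
    first | (exfalso; omega) | (left; exact ⟨rfl, rfl, rfl, rfl⟩) | (right; left; rfl) | (right; right; rfl)

end TRU3

/-- TRU3 -/
theorem trace_of_cube_u {F : Type*} [Field F] [Fintype F] {p : ℕ} [Fact p.Prime] [CharP F p]
    (hF : Fintype.card F = p ^ 2) (hp4 : p % 4 = 3) (hp3 : p % 3 = 1) (x : GL (Fin 4) F)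
    (hx : x ∈ Cfsg.GU 4 F p) (hx3 : x ^ 3 = 1) (hx1 : x ≠ 1) :
    Matrix.trace (x : M4 F) = 1 ∨ Matrix.trace (x : M4 F) = -2 := by
  classical
  obtain ⟨h3, ω, hω, hωp⟩ := exists_omega_s hF hp3
  obtain ⟨g, d, hd, hxg⟩ := exists_diag_of_cube ω hω h3 x hx3
  have hp7 : 7 ≤ p := by omega
  have h2 : (2 : F) ≠ 0 := by
    intro h
    have : ((2 : ℕ) : F) = 0 := by exact_mod_cast h
    rw [CharP.cast_eq_zero_iff F p] at this
    have := Nat.le_of_dvd (by norm_num) this
    omega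
  -- ω ≠ ω²
  have hs : ω * ω - ω ≠ 0 := by
    intro h
    have h1 : ω * (ω - 1) = 0 := by linear_combination h
    rcases mul_eq_zero.mp h1 with h0 | h0
    · rw [h0] at hω
      simp at hω
    · have : ω = 1 := by linear_combination h0
      rw [this] at hω
      apply h3
      linear_combination hω
  -- x = g d g⁻¹
  have hgi : (g : M4 F) * ((g⁻¹ : GL (Fin 4) F) : M4 F) = 1 := by
    rw [← Units.val_mul, mul_inv_cancel, Units.val_one]
  have hxe : (x : M4 F) = (g : M4 F) * Matrix.diagonal d * ((g⁻¹ : GL (Fin 4) F) : M4 F) := by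
    rw [← hxg, mul_assoc, hgi, mul_one]
  have hxxe : (x : M4 F) * (x : M4 F) =
      (g : M4 F) * (Matrix.diagonal d * Matrix.diagonal d) * ((g⁻¹ : GL (Fin 4) F) : M4 F) := by
    have : (x : M4 F) * (x : M4 F) * (g : M4 F) =
        (g : M4 F) * (Matrix.diagonal d * Matrix.diagonal d) := by
      rw [mul_assoc, hxg, ← mul_assoc, hxg, mul_assoc]
    rw [← this, mul_assoc, hgi, mul_one]
  have htr : Matrix.trace (x : M4 F) = d 0 + d 1 + d 2 + d 3 := by
    rw [hxe, Matrix.trace_units_conj, Matrix.trace_diagonal, Fin.sum_univ_four]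
  have htr2 : Matrix.trace ((x : M4 F) * (x : M4 F)) =
      d 0 * d 0 + d 1 * d 1 + d 2 * d 2 + d 3 * d 3 := by
    rw [hxxe, Matrix.trace_units_conj, Matrix.diagonal_mul_diagonal, Matrix.trace_diagonal,
      Fin.sum_univ_four]
  -- dag x = x * x
  have hdag : dag p (x : M4 F) = (x : M4 F) * (x : M4 F) := by
    have h1 := (mem_GU_iff_dag p x).mp hx
    have h2 : (x : M4 F) * ((x : M4 F) * (x : M4 F)) = 1 := by
      have := congrArg (fun y : GL (Fin 4) F => (y : M4 F)) hx3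
      simp only [Units.val_pow_eq_pow_val, Units.val_one] at this
      rw [← this]
      noncomm_ring
    calc dag p (x : M4 F) = dag p (x : M4 F) * ((x : M4 F) * ((x : M4 F) * (x : M4 F))) := by
          rw [h2, mul_one]
      _ = (x : M4 F) * (x : M4 F) := by rw [← mul_assoc, h1, one_mul]
  have hdp : ∀ i, d i ^ p = d i := by
    intro i
    rcases hd i with h | h | h
    · rw [h, one_pow]
    · rw [h, hωp]
    · rw [h, mul_pow, hωp]
  have hkey : d 0 * d 0 + d 1 * d 1 + d 2 * d 2 + d 3 * d 3 = d 0 + d 1 + d 2 + d 3 := by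
    rw [← htr2, ← hdag, trace_dag, htr, add_pow_char, add_pow_char, add_pow_char, hdp, hdp, hdp,
      hdp]
  obtain ⟨e0, he0, ha0, hb0⟩ := TRU3.exists_sign ω hω (d 0) (hd 0)
  obtain ⟨e1, he1, ha1, hb1⟩ := TRU3.exists_sign ω hω (d 1) (hd 1)
  obtain ⟨e2, he2, ha2, hb2⟩ := TRU3.exists_sign ω hω (d 2) (hd 2)
  obtain ⟨e3, he3, ha3, hb3⟩ := TRU3.exists_sign ω hω (d 3) (hd 3)
  have hsumF : ((e0 + e1 + e2 + e3 : ℤ) : F) = 0 := by
    have : ((e0 + e1 + e2 + e3 : ℤ) : F) * (ω * ω - ω) = 0 := by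
      push_cast
      linear_combination hkey - ha0 - ha1 - ha2 - ha3
    exact (mul_eq_zero.mp this).resolve_right hs
  have hsum : e0 + e1 + e2 + e3 = 0 := by
    rw [CharP.intCast_eq_zero_iff F p] at hsumF
    apply Int.eq_zero_of_abs_lt_dvd hsumF
    have : |e0 + e1 + e2 + e3| ≤ 4 := by
      rw [abs_le]
      constructor <;> omega
    omega
  have h2tr : 2 * Matrix.trace (x : M4 F) =
      8 - 3 * ((e0 * e0 + e1 * e1 + e2 * e2 + e3 * e3 : ℤ) : F) := by
    rw [htr]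
    have hsumF' : (e0 : F) + e1 + e2 + e3 = 0 := by exact_mod_cast hsumF
    push_cast at hb0 hb1 hb2 hb3 ⊢
    linear_combination hb0 + hb1 + hb2 + hb3 + (ω - ω * ω) * hsumF'
  rcases TRU3.sign_cases e0 e1 e2 e3 he0 he1 he2 he3 hsum with ⟨r0, r1, r2, r3⟩ | h | h
  · exfalso
    apply hx1
    have hdi : ∀ a : F, ∀ e : ℤ, e = 0 → 2 * a = 2 + (e : F) * (ω - ω * ω) - 3 * ((e * e : ℤ) : F) →
        a = 1 := by
      intro a e he h
      subst he
      simp at h
      apply mul_left_cancel₀ h2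
      rw [h, mul_one]
    have hd1 : d = fun _ => 1 := by
      funext i
      fin_cases i
      · exact hdi _ _ r0 hb0
      · exact hdi _ _ r1 hb1
      · exact hdi _ _ r2 hb2
      · exact hdi _ _ r3 hb3
    apply Units.ext
    rw [hxe, hd1]
    rw [show (Matrix.diagonal (fun _ => (1 : F)) : M4 F) = 1 from Matrix.diagonal_one, mul_one,
      hgi, Units.val_one]
  · left
    rw [h] at h2tr
    apply mul_left_cancel₀ h2
    rw [h2tr]
    push_cast
    ring
  · right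
    rw [h] at h2tr
    apply mul_left_cancel₀ h2
    rw [h2tr]
    push_cast
    ring

end Cfsg.Agent.S6001P
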