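import Cfsg.Agent.Helper21.UC3
import Cfsg.Agent.Helper21.JC5

/-!
# Counting the Hermitian invertible skew forms (helper21)
-/

set_option autoImplicit false
set_option linter.unusedSectionVars false

namespace Cfsg.Agent.Helper21.UC

open Matrix Cfsg.Agent.Helper21.NS Cfsg.Agent.Helper21.UJ Cfsg.Agent.Helper21.JC

variable {K : Type*} [Field K]

section fixed

variable {X : Type*} [AddCommGroup X] [Module K X] (σ : K →+* K)

/-- a semilinear involution has `√#X` fixed points -/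
theorem card_fixed_sq [Finite X] (hσ2 : ∀ a, σ (σ a) = a) (ξ0 : K) (hξ0 : σ ξ0 ≠ ξ0) (τ : X → X)
    (hadd : ∀ x y, τ (x + y) = τ x + τ y) (hsmul : ∀ (a : K) x, τ (a • x) = σ a • τ x)
    (hinv : ∀ x, τ (τ x) = x) :
    Nat.card {x : X // τ x = x} ^ 2 = Nat.card X := by
  have hne : ξ0 - σ ξ0 ≠ 0 := fun h => hξ0 (sub_eq_zero.1 h).symm
  have hsub : ∀ x y, τ (x - y) = τ x - τ y := by
    intro x y
    have := hadd (x - y) y
    rw [sub_add_cancel] at this
    rw [this, add_sub_cancel_right]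
  rw [sq, ← Nat.card_prod]
  apply Nat.card_congr
  refine
    { toFun := fun p => p.1.1 + ξ0 • p.2.1
      invFun := fun z => (⟨z - ξ0 • ((ξ0 - σ ξ0)⁻¹ • (z - τ z)), ?_⟩,
        ⟨(ξ0 - σ ξ0)⁻¹ • (z - τ z), ?_⟩)
      left_inv := ?_
      right_inv := ?_ }
  · -- x-component fixed
    rw [hsub, hsmul, hsmul, hsub, hinv, map_inv₀, map_sub, hσ2]
    have e1 : (σ ξ0 - ξ0)⁻¹ = -(ξ0 - σ ξ0)⁻¹ := by
      rw [← neg_sub, neg_inv]
    rw [e1]
    have key : σ ξ0 • -(ξ0 - σ ξ0)⁻¹ • (τ z - z) - ξ0 • (ξ0 - σ ξ0)⁻¹ • (z - τ z)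
        = ((ξ0 - σ ξ0)⁻¹ * (σ ξ0 - ξ0)) • (z - τ z) := by
      module
    have e2 : (ξ0 - σ ξ0)⁻¹ * (σ ξ0 - ξ0) = -1 := by
      rw [← neg_sub ξ0, mul_neg, inv_mul_cancel₀ hne]
    have : τ z - σ ξ0 • -(ξ0 - σ ξ0)⁻¹ • (τ z - z)
        - (z - ξ0 • (ξ0 - σ ξ0)⁻¹ • (z - τ z)) = 0 := by
      have h3 : τ z - σ ξ0 • -(ξ0 - σ ξ0)⁻¹ • (τ z - z) - (z - ξ0 • (ξ0 - σ ξ0)⁻¹ • (z - τ z))
          = (τ z - z) - (σ ξ0 • -(ξ0 - σ ξ0)⁻¹ • (τ z - z) - ξ0 • (ξ0 - σ ξ0)⁻¹ • (z - τ z)) := by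
        abel
      rw [h3, key, e2]
      module
    exact sub_eq_zero.1 this
  · -- y-component fixed
    rw [hsmul, hsub, hinv, map_inv₀, map_sub, hσ2]
    have e1 : (σ ξ0 - ξ0)⁻¹ = -(ξ0 - σ ξ0)⁻¹ := by
      rw [← neg_sub, neg_inv]
    rw [e1]
    module
  · rintro ⟨⟨x, hx⟩, ⟨y, hy⟩⟩
    have h1 : τ (x + ξ0 • y) = x + σ ξ0 • y := by rw [hadd, hsmul, hx, hy]
    have h2 : x + ξ0 • y - τ (x + ξ0 • y) = (ξ0 - σ ξ0) • y := by
      rw [h1]
      module
    have h3 : (ξ0 - σ ξ0)⁻¹ • (x + ξ0 • y - τ (x + ξ0 • y)) = y := by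
      rw [h2, smul_smul, inv_mul_cancel₀ hne, one_smul]
    apply Prod.ext
    · apply Subtype.ext
      simp only
      rw [h3, add_sub_cancel_right]
    · apply Subtype.ext
      simp only
      rw [h3]
  · intro z
    simp only
    rw [sub_add_cancel]

end fixed

section count

variable {t : ℕ} (d : Fin t → ℕ) (σ : K →+* K)

/-- the involution on the higher parameters -/
def tauHi (h : (k l : Fin t) → Fin (min (d k) (d l) - 1) → K) :
    (k l : Fin t) → Fin (min (d k) (d l) - 1) → K :=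
  fun k l r => (-1) ^ (min (d k) (d l) - 2 - (r : ℕ)) * σ (h l k ⟨(r : ℕ), by have := r.2; omega⟩)

/-- the involution on the off-block lead coefficients -/
def tauOff (f : {p : Fin t × Fin t // d p.1 ≠ d p.2} → K) :
    {p : Fin t × Fin t // d p.1 ≠ d p.2} → K :=
  fun p => (-1) ^ (min (d p.1.1) (d p.1.2) - 1) * σ (f ⟨(p.1.2, p.1.1), fun h => p.2 h.symm⟩)

/-- the (skew-)Hermitian condition on a diagonal block -/
def PB (a : ℕ) (Λ : Matrix {k : Fin t // d k = a} {k : Fin t // d k = a} K) : Prop :=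
  ∀ k l, Λ k l = (-1) ^ (a + 1) * σ (Λ l k)

theorem neg_one_pow_sq (m : ℕ) : ((-1 : K) ^ m) * ((-1 : K) ^ m) = 1 := by
  rw [← pow_add]
  exact (Even.add_self m).neg_one_pow

theorem sigma_neg_one_pow (m : ℕ) : σ ((-1 : K) ^ m) = (-1) ^ m := by
  rw [map_pow, map_neg, map_one]

theorem tauOff_add (f g : {p : Fin t × Fin t // d p.1 ≠ d p.2} → K) :
    tauOff d σ (f + g) = tauOff d σ f + tauOff d σ g := by
  funext p
  simp only [tauOff, Pi.add_apply, map_add, mul_add]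

theorem tauOff_smul (a : K) (f : {p : Fin t × Fin t // d p.1 ≠ d p.2} → K) :
    tauOff d σ (a • f) = σ a • tauOff d σ f := by
  funext p
  simp only [tauOff, Pi.smul_apply, smul_eq_mul, map_mul]
  ring

theorem tauOff_tauOff (hσ2 : ∀ a, σ (σ a) = a) (f : {p : Fin t × Fin t // d p.1 ≠ d p.2} → K) :
    tauOff d σ (tauOff d σ f) = f := by
  funext p
  simp only [tauOff]
  rw [map_mul, sigma_neg_one_pow, hσ2, min_comm (d p.1.2) (d p.1.1), ← mul_assoc, neg_one_pow_sq,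
    one_mul]

theorem tauHi_add (f g : (k l : Fin t) → Fin (min (d k) (d l) - 1) → K) :
    tauHi d σ (f + g) = tauHi d σ f + tauHi d σ g := by
  funext k l r
  simp only [tauHi, Pi.add_apply, map_add, mul_add]

theorem tauHi_smul (a : K) (f : (k l : Fin t) → Fin (min (d k) (d l) - 1) → K) :
    tauHi d σ (a • f) = σ a • tauHi d σ f := by
  funext k l r
  simp only [tauHi, Pi.smul_apply, smul_eq_mul, map_mul]
  ring

theorem tauHi_tauHi (hσ2 : ∀ a, σ (σ a) = a)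
    (f : (k l : Fin t) → Fin (min (d k) (d l) - 1) → K) :
    tauHi d σ (tauHi d σ f) = f := by
  funext k l r
  simp only [tauHi]
  have e : ((-1 : K)) ^ (min (d l) (d k) - 2 - (r : ℕ)) = (-1) ^ (min (d k) (d l) - 2 - (r : ℕ)) := by
    rw [min_comm]
  rw [map_mul, sigma_neg_one_pow, hσ2, e, ← mul_assoc, neg_one_pow_sq, one_mul]

theorem fix_iff (hd : ∀ k, 1 ≤ d k) (c : Par d K) :
    tau d σ c = c ↔
      ((∀ a : Fin (Finset.univ.sup d + 1), PB d σ (a : ℕ) ((matEquiv d (parEquiv d hd c).1).1 a)) ∧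
        tauOff d σ (matEquiv d (parEquiv d hd c).1).2 = (matEquiv d (parEquiv d hd c).1).2) ∧
      tauHi d σ (parEquiv d hd c).2 = (parEquiv d hd c).2 := by
  constructor
  · intro h
    have hkl : ∀ k l r, c k l r = tau d σ c k l r := fun k l r => by rw [h]
    refine ⟨⟨?_, ?_⟩, ?_⟩
    · rintro a ⟨k, hk⟩ ⟨l, hl⟩
      show lead d hd c k l = (-1) ^ ((a : ℕ) + 1) * σ (lead d hd c l k)
      rw [lead, hkl, tau]
      simp only
      have h1 := hd k
      have e : min (d k) (d l) - 1 - 0 + 2 = (a : ℕ) + 1 := by omega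
      rw [← e, pow_add]
      simp [lead]
    · funext p
      show (-1) ^ (min (d p.1.1) (d p.1.2) - 1) * σ (lead d hd c p.1.2 p.1.1) = lead d hd c p.1.1 p.1.2
      rw [lead, lead, hkl p.1.1 p.1.2, tau]
      rfl
    · funext k l r
      show (-1) ^ (min (d k) (d l) - 2 - (r : ℕ)) * σ (c l k ⟨(r : ℕ) + 1, _⟩) = c k l ⟨(r : ℕ) + 1, _⟩
      rw [hkl k l ⟨(r : ℕ) + 1, _⟩, tau]
      simp only
      have e : min (d k) (d l) - 1 - ((r : ℕ) + 1) = min (d k) (d l) - 2 - (r : ℕ) := by omega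
      rw [e]
  · rintro ⟨⟨hB, hO⟩, hH⟩
    funext k l r
    obtain ⟨r, hr⟩ := r
    rw [tau]
    simp only
    rcases Nat.eq_zero_or_pos r with rfl | hr0
    · by_cases hkl : d k = d l
      · have hk := Nat.lt_succ_of_le (Finset.le_sup (f := d) (Finset.mem_univ k))
        have h1 := hB ⟨d k, hk⟩ ⟨k, rfl⟩ ⟨l, hkl.symm⟩
        have h2 : lead d hd c k l = (-1) ^ (d k + 1) * σ (lead d hd c l k) := h1
        have h3 := hd k
        have e : min (d k) (d l) - 1 - 0 + 2 = d k + 1 := by omega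
        rw [← e, pow_add] at h2
        simp only [lead, even_two, Even.neg_pow, one_pow, mul_one] at h2
        exact h2.symm
      · have h1 := congrFun hO ⟨(k, l), hkl⟩
        exact h1
    · have h1 := congrFun (congrFun (congrFun hH k) l) ⟨r - 1, by omega⟩
      have h2 : (-1) ^ (min (d k) (d l) - 2 - (r - 1)) * σ (c l k ⟨r - 1 + 1, by omega⟩)
          = c k l ⟨r - 1 + 1, by omega⟩ := h1
      have e1 : min (d k) (d l) - 2 - (r - 1) = min (d k) (d l) - 1 - r := by omega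
      have e2 : r - 1 + 1 = r := by omega
      simp only [e1, e2] at h2
      exact h2

variable [Fintype K]

theorem card_fix_of_sq {X : Type*} {q D a : ℕ} (hX : Nat.card X = (q ^ 2) ^ D)
    (h : a ^ 2 = Nat.card X) : a = q ^ D := by
  rw [hX, ← pow_mul, mul_comm, pow_mul] at h
  exact Nat.pow_left_injective (two_ne_zero) h

theorem card_fixed_par {q : ℕ} (hK : Fintype.card K = q ^ 2) (hσ2 : ∀ a, σ (σ a) = a) (ξ0 : K)
    (hξ0 : σ ξ0 ≠ ξ0) (hd : ∀ k, 1 ≤ d k) :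
    Nat.card {c : Par d K // tau d σ c = c ∧ (toMat d c).det ≠ 0} =
      (∏ a : Fin (Finset.univ.sup d + 1),
        Nat.card {Λ : Matrix {k : Fin t // d k = (a : ℕ)} {k : Fin t // d k = (a : ℕ)} K //
          PB d σ (a : ℕ) Λ ∧ Λ.det ≠ 0}) *
        q ^ Fintype.card {p : Fin t × Fin t // d p.1 ≠ d p.2} *
        q ^ (∑ k : Fin t, ∑ l : Fin t, (min (d k) (d l) - 1)) := by
  classical
  have hcardK : Nat.card K = q ^ 2 := by rw [Nat.card_eq_fintype_card, hK]
  have hOff : Nat.card {f : {p : Fin t × Fin t // d p.1 ≠ d p.2} → K // tauOff d σ f = f}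
      = q ^ Fintype.card {p : Fin t × Fin t // d p.1 ≠ d p.2} := by
    apply card_fix_of_sq (X := {p : Fin t × Fin t // d p.1 ≠ d p.2} → K)
    · rw [Nat.card_fun, hcardK, Nat.card_eq_fintype_card]
    · exact card_fixed_sq σ hσ2 ξ0 hξ0 (tauOff d σ) (tauOff_add d σ) (tauOff_smul d σ)
        (tauOff_tauOff d σ hσ2)
  have hHi : Nat.card {f : (k l : Fin t) → Fin (min (d k) (d l) - 1) → K // tauHi d σ f = f}
      = q ^ (∑ k : Fin t, ∑ l : Fin t, (min (d k) (d l) - 1)) := by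
    apply card_fix_of_sq (X := (k l : Fin t) → Fin (min (d k) (d l) - 1) → K)
    · rw [Nat.card_eq_fintype_card]
      simp only [Fintype.card_pi, Fintype.card_fin, Finset.prod_const, Finset.card_univ,
        Finset.prod_pow_eq_pow_sum, hK]
    · exact card_fixed_sq σ hσ2 ξ0 hξ0 (tauHi d σ) (tauHi_add d σ) (tauHi_smul d σ)
        (tauHi_tauHi d σ hσ2)
  let PBl : ((a : Fin (Finset.univ.sup d + 1)) →
      Matrix {k : Fin t // d k = (a : ℕ)} {k : Fin t // d k = (a : ℕ)} K) → Prop :=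
    fun B => ∀ a : Fin (Finset.univ.sup d + 1), PB d σ (a : ℕ) (B a) ∧ (B a).det ≠ 0
  let POff : ({p : Fin t × Fin t // d p.1 ≠ d p.2} → K) → Prop := fun f => tauOff d σ f = f
  let PHi : ((k l : Fin t) → Fin (min (d k) (d l) - 1) → K) → Prop := fun h => tauHi d σ h = h
  let P1 : (((a : Fin (Finset.univ.sup d + 1)) →
      Matrix {k : Fin t // d k = (a : ℕ)} {k : Fin t // d k = (a : ℕ)} K) ×
      ({p : Fin t × Fin t // d p.1 ≠ d p.2} → K)) → Prop := fun y => PBl y.1 ∧ POff y.2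
  have h1 : Nat.card {c : Par d K // tau d σ c = c ∧ (toMat d c).det ≠ 0} =
      Nat.card {x : (((a : Fin (Finset.univ.sup d + 1)) →
          Matrix {k : Fin t // d k = (a : ℕ)} {k : Fin t // d k = (a : ℕ)} K) ×
          ({p : Fin t × Fin t // d p.1 ≠ d p.2} → K)) ×
          ((k l : Fin t) → Fin (min (d k) (d l) - 1) → K) // P1 x.1 ∧ PHi x.2} := by
    apply Nat.card_congr
    refine Equiv.subtypeEquiv
      ((parEquiv d hd).trans (Equiv.prodCongr (matEquiv d) (Equiv.refl _))) (fun c => ?_)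
    rw [fix_iff d σ hd c, det_toMat_ne_zero_iff d hd c, blockCond_iff d (lead d hd c)]
    show (((∀ a : Fin (Finset.univ.sup d + 1), PB d σ (a : ℕ) ((matEquiv d (lead d hd c)).1 a)) ∧
        tauOff d σ (matEquiv d (lead d hd c)).2 = (matEquiv d (lead d hd c)).2) ∧
        tauHi d σ (parEquiv d hd c).2 = (parEquiv d hd c).2) ∧
        (∀ a : Fin (Finset.univ.sup d + 1), ((matEquiv d (lead d hd c)).1 a).det ≠ 0) ↔
      ((∀ a : Fin (Finset.univ.sup d + 1), PB d σ (a : ℕ) ((matEquiv d (lead d hd c)).1 a) ∧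
          ((matEquiv d (lead d hd c)).1 a).det ≠ 0) ∧
        tauOff d σ (matEquiv d (lead d hd c)).2 = (matEquiv d (lead d hd c)).2) ∧
        tauHi d σ (parEquiv d hd c).2 = (parEquiv d hd c).2
    constructor
    · rintro ⟨⟨⟨hA, hO⟩, hH⟩, hD⟩
      exact ⟨⟨fun a => ⟨hA a, hD a⟩, hO⟩, hH⟩
    · rintro ⟨⟨hAD, hO⟩, hH⟩
      exact ⟨⟨⟨fun a => (hAD a).1, hO⟩, hH⟩, fun a => (hAD a).2⟩
  have h2 := Nat.card_congr (Equiv.subtypeProdEquivProd (p := P1) (q := PHi))
  have h3 := Nat.card_congr (Equiv.subtypeProdEquivProd (p := PBl) (q := POff))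
  have h4 := Nat.card_congr (Equiv.subtypePiEquivPi
    (β := fun a : Fin (Finset.univ.sup d + 1) =>
      Matrix {k : Fin t // d k = (a : ℕ)} {k : Fin t // d k = (a : ℕ)} K)
    (p := fun a Λ => PB d σ (a : ℕ) Λ ∧ Λ.det ≠ 0))
  rw [Nat.card_pi] at h4
  rw [Nat.card_prod] at h2 h3
  rw [h1, h2, h3, hOff, hHi, h4]

end count

end Cfsg.Agent.Helper21.UC
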