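import Cfsg.Agent.Helper7.GUr1
import Cfsg.Agent.Helper12.SemisimpleConjE
import Cfsg.Agent.Helper21.UC4

/-!
# Self-conjugate-reciprocal polynomials (helper21)

The monic polynomials `f` of degree `m + 1` with `star σ f = f` and `f(0) = (-1)^(m+1)` are
parametrised by the fixed points of a semilinear involution on `Fin m → K`; there are `q ^ m`.
-/

set_option autoImplicit false
set_option linter.unusedSectionVars false

namespace Cfsg.Agent.Helper21.SUC

open Polynomial Cfsg.Agent.Helper12 Cfsg.Agent.Helper12.SpPrime Cfsg.Agent.Helper7.GUr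

variable {K : Type*} [Field K] (σ : K →+* K)

theorem star_coeff {f : K[X]} {n : ℕ} (hn : f.natDegree = n) (h0 : f.coeff 0 ≠ 0) {i : ℕ}
    (hi : i ≤ n) : (star σ f).coeff i = (σ (f.coeff 0))⁻¹ * σ (f.coeff (n - i)) := by
  have h0' := map_coeff_zero_ne σ h0
  rw [Cfsg.Agent.Helper7.GUr.star, recip, mirror_eq_reverse h0', coeff_C_mul, coeff_reverse, natDegree_map, hn,
    revAt_le hi, coeff_map, coeff_map]

/-- the semilinear involution on coefficient vectors -/
def tauC (m : ℕ) (a : Fin m → K) : Fin m → K := fun j => (-1) ^ (m + 1) * σ (a (Fin.rev j))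

theorem tauC_add (m : ℕ) (a b : Fin m → K) : tauC σ m (a + b) = tauC σ m a + tauC σ m b := by
  funext j
  simp only [tauC, Pi.add_apply, map_add, mul_add]

theorem tauC_smul (m : ℕ) (c : K) (a : Fin m → K) : tauC σ m (c • a) = σ c • tauC σ m a := by
  funext j
  simp only [tauC, Pi.smul_apply, smul_eq_mul, map_mul]
  ring

theorem sigma_eps (m : ℕ) : σ ((-1 : K) ^ (m + 1)) = (-1) ^ (m + 1) := by
  rw [map_pow, map_neg, map_one]

theorem eps_mul_eps (m : ℕ) : ((-1 : K) ^ (m + 1)) * (-1) ^ (m + 1) = 1 := by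
  rw [← mul_pow]
  simp

theorem tauC_tauC (hσ2 : ∀ a, σ (σ a) = a) (m : ℕ) (a : Fin m → K) :
    tauC σ m (tauC σ m a) = a := by
  funext j
  simp only [tauC, map_mul, sigma_eps, hσ2, Fin.rev_rev]
  rw [← mul_assoc, eps_mul_eps, one_mul]

theorem card_fix_tauC [Fintype K] {q : ℕ} (hK : Fintype.card K = q ^ 2)
    (hσ2 : ∀ a, σ (σ a) = a) (ξ0 : K) (hξ0 : σ ξ0 ≠ ξ0) (m : ℕ) :
    Nat.card {a : Fin m → K // tauC σ m a = a} = q ^ m := by
  apply Cfsg.Agent.Helper21.UC.card_fix_of_sq (X := Fin m → K)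
  · rw [Nat.card_fun, Nat.card_fin, Nat.card_eq_fintype_card, hK]
  · exact Cfsg.Agent.Helper21.UC.card_fixed_sq σ hσ2 ξ0 hξ0 (tauC σ m) (tauC_add σ m)
      (tauC_smul σ m) (tauC_tauC σ hσ2 m)

/-- coefficient vector (without constant term) of a polynomial -/
def coeffVec (m : ℕ) (f : K[X]) : Fin m → K := fun j => f.coeff ((j : ℕ) + 1)

theorem star_eq_self_iff {m : ℕ} {f : K[X]} (hf : f.Monic) (hn : f.natDegree = m + 1)
    (h0 : f.coeff 0 = (-1) ^ (m + 1)) :
    star σ f = f ↔ tauC σ m (coeffVec m f) = coeffVec m f := by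
  have h0' : f.coeff 0 ≠ 0 := by
    rw [h0]
    exact pow_ne_zero _ (neg_ne_zero.2 one_ne_zero)
  have hinv : (σ (f.coeff 0))⁻¹ = (-1) ^ (m + 1) := by
    rw [h0, sigma_eps]
    exact inv_eq_of_mul_eq_one_left (eps_mul_eps m)
  constructor
  · intro h
    funext j
    have hj : (j : ℕ) + 1 ≤ m + 1 := by have := j.2; omega
    have h1 := star_coeff σ hn h0' hj
    rw [h, hinv] at h1
    show (-1) ^ (m + 1) * σ (f.coeff (((Fin.rev j : Fin m) : ℕ) + 1)) = f.coeff ((j : ℕ) + 1)
    rw [h1, Fin.val_rev]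
    congr 3
    have := j.2
    omega
  · intro h
    apply monic_ext_of_coeff (star_monic σ h0') hf (by rw [star_natDegree σ h0', hn]) hn
    intro i
    have hi : (i : ℕ) ≤ m + 1 := by have := i.2; omega
    rw [star_coeff σ hn h0' hi, hinv]
    rcases Nat.eq_zero_or_pos (i : ℕ) with hi0 | hipos
    · rw [hi0, Nat.sub_zero, h0]
      have : f.coeff (m + 1) = 1 := by rw [← hn]; exact hf.coeff_natDegree
      rw [this, map_one, mul_one]
    · have hi1 : (i : ℕ) - 1 < m := by have := i.2; omega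
      have h2 := congrFun h ⟨(i : ℕ) - 1, hi1⟩
      have e1 : (i : ℕ) - 1 + 1 = (i : ℕ) := by omega
      have h3 : (-1) ^ (m + 1) * σ (f.coeff (((Fin.rev (⟨(i : ℕ) - 1, hi1⟩ : Fin m) : Fin m) : ℕ)
          + 1)) = f.coeff ((i : ℕ) - 1 + 1) := h2
      rw [Fin.val_rev, e1] at h3
      rw [← h3]
      congr 3
      omega

/-- the polynomial with given coefficient vector and constant term `(-1)^(m+1)` -/
noncomputable def polyC (m : ℕ) (a : Fin m → K) : K[X] :=
  polyOf (Fin.cons ((-1 : K) ^ (m + 1)) a : Fin (m + 1) → K)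

theorem polyC_monic (m : ℕ) (a : Fin m → K) : (polyC m a).Monic := polyOf_monic _

theorem polyC_natDegree (m : ℕ) (a : Fin m → K) : (polyC m a).natDegree = m + 1 :=
  polyOf_natDegree _

theorem polyC_coeff_zero (m : ℕ) (a : Fin m → K) : (polyC m a).coeff 0 = (-1) ^ (m + 1) := by
  have := polyOf_coeff (Fin.cons ((-1 : K) ^ (m + 1)) a : Fin (m + 1) → K) 0
  simpa [polyC] using this

theorem coeffVec_polyC (m : ℕ) (a : Fin m → K) : coeffVec m (polyC m a) = a := by
  funext j
  have := polyOf_coeff (Fin.cons ((-1 : K) ^ (m + 1)) a : Fin (m + 1) → K) j.succ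
  simpa [coeffVec, polyC] using this

theorem eq_polyC {m : ℕ} {f : K[X]} (hf : f.Monic) (hn : f.natDegree = m + 1)
    (h0 : f.coeff 0 = (-1) ^ (m + 1)) : f = polyC m (coeffVec m f) := by
  apply monic_ext_of_coeff hf (polyC_monic m _) hn (polyC_natDegree m _)
  intro i
  refine Fin.cases ?_ ?_ i
  · rw [Fin.val_zero, h0, polyC_coeff_zero]
  · intro j
    have := congrFun (coeffVec_polyC m (coeffVec m f)) j
    simp only [coeffVec] at this
    rw [Fin.val_succ, this]

end Cfsg.Agent.Helper21.SUC
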