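import Cfsg.Agent.Helper21.SUD6

/-!
# Semisimple unitary matrices with equal characteristic polynomial are conjugate under a unitary
matrix of determinant one (helper21)
-/

set_option autoImplicit false
set_option linter.unusedSectionVars false

namespace Cfsg.Agent.Helper21.SUD

open Matrix Module Polynomial Cfsg.Agent.Helper21.NS Cfsg.Agent.Helper21.UJ Cfsg.Agent.Helper12

variable {K : Type*} [Field K] [Fintype K] {q n : ℕ}

/-- Hilbert 90 for the quadratic extension -/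
theorem exists_hilbert90 (σ : K →+* K) (hσ2 : ∀ a, σ (σ a) = a) (ξ0 : K) (hξ0 : σ ξ0 ≠ ξ0)
    (d : K) (hd : d * σ d = 1) : ∃ μ : K, μ ≠ 0 ∧ μ * (σ μ)⁻¹ = d⁻¹ := by
  have hd0 : d ≠ 0 := left_ne_zero_of_mul_eq_one hd
  have key : ∀ θ : K, θ + σ d * σ θ ≠ 0 →
      (θ + σ d * σ θ) * (σ (θ + σ d * σ θ))⁻¹ = d⁻¹ := by
    intro θ hθ
    have h1 : σ (θ + σ d * σ θ) = d * (θ + σ d * σ θ) := by
      rw [map_add, map_mul, hσ2, hσ2, mul_add, ← mul_assoc, hd, one_mul, add_comm]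
    rw [h1, mul_inv, mul_comm d⁻¹, ← mul_assoc, mul_inv_cancel₀ hθ, one_mul]
  by_cases h1 : 1 + σ d = 0
  · have hsd : σ d = -1 := by
      have := eq_neg_of_add_eq_zero_right h1
      exact this
    refine ⟨ξ0 + σ d * σ ξ0, ?_, key ξ0 ?_⟩
    · rw [hsd]
      intro h
      apply hξ0
      have : ξ0 - σ ξ0 = 0 := by
        rw [← h]
        ring
      exact (sub_eq_zero.1 this).symm
    · rw [hsd]
      intro h
      apply hξ0
      have : ξ0 - σ ξ0 = 0 := by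
        rw [← h]
        ring
      exact (sub_eq_zero.1 this).symm
  · refine ⟨1 + σ d * σ 1, ?_, key 1 ?_⟩
    · rw [map_one, mul_one]
      exact h1
    · rw [map_one, mul_one]
      exact h1

theorem exists_su_conj (hK : Fintype.card K = q ^ 2) (σ : K →+* K) (hσ : ∀ x, σ x = x ^ q)
    (hσ2 : ∀ x, σ (σ x) = x) (hn : 0 < n) (G H : Matrix (Fin n) (Fin n) K)
    (hG : Gᵀ * G.map σ = 1) (hH : Hᵀ * H.map σ = 1)
    (hGss : Module.End.IsSemisimple (Matrix.toLin' G))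
    (hHss : Module.End.IsSemisimple (Matrix.toLin' H)) (hc : G.charpoly = H.charpoly) :
    ∃ x : Matrix (Fin n) (Fin n) K, xᵀ * x.map σ = 1 ∧ x.det = 1 ∧ x * G = H * x := by
  obtain ⟨ξ0, hξ0⟩ := exists_pow_ne hK
  have hξ0' : σ ξ0 ≠ ξ0 := by rw [hσ]; exact hξ0
  obtain ⟨P, hP⟩ := exists_gl_conj_of_semisimple G H hGss hHss hc
  have hg1 : (P : Matrix (Fin n) (Fin n) K) * ((P⁻¹ : GL (Fin n) K) : Matrix (Fin n) (Fin n) K)
      = 1 := by
    rw [← Matrix.GeneralLinearGroup.coe_mul, mul_inv_cancel]; rfl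
  have hg2 : ((P⁻¹ : GL (Fin n) K) : Matrix (Fin n) (Fin n) K) * (P : Matrix (Fin n) (Fin n) K)
      = 1 := by
    rw [← Matrix.GeneralLinearGroup.coe_mul, inv_mul_cancel]; rfl
  obtain ⟨x, hx, hxG⟩ := exists_unitary_conj hK σ hσ hσ2 G H _ _ hG hH hg1 hg2 hP
  have hdq : x.det ^ (q + 1) = 1 := Cfsg.Agent.Helper28.GUlib.det_pow_of_unitary σ hσ x hx
  have hd : x.det * σ x.det = 1 := by
    rw [hσ, ← pow_succ']
    exact hdq
  obtain ⟨μ, hμ0, hμ⟩ := exists_hilbert90 σ hσ2 ξ0 hξ0' x.det hd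
  obtain ⟨Z, hZ1, hZ2, hZ3⟩ := exists_commuting_unitary σ hσ2
    ((unitary_iff_cstar σ G).1 hG) hGss hn μ hμ0
  have hx' : cstar σ x * x = 1 := (unitary_iff_cstar σ x).1 hx
  refine ⟨x * Z, ?_, ?_, ?_⟩
  · rw [unitary_iff_cstar, cstar_mul]
    calc cstar σ Z * cstar σ x * (x * Z) = cstar σ Z * (cstar σ x * x) * Z := by
          simp only [Matrix.mul_assoc]
      _ = 1 := by rw [hx', Matrix.mul_one, hZ1]
  · rw [Matrix.det_mul, hZ3, hμ]
    exact mul_inv_cancel₀ (left_ne_zero_of_mul_eq_one hd)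
  · calc x * Z * G = x * (Z * G) := Matrix.mul_assoc _ _ _
      _ = x * (G * Z) := by rw [hZ2]
      _ = (x * G) * Z := (Matrix.mul_assoc _ _ _).symm
      _ = H * x * Z := by rw [hxG]
      _ = H * (x * Z) := Matrix.mul_assoc _ _ _

end Cfsg.Agent.Helper21.SUD
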