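import Cfsg.Agent.Helper21.UJ1
import Cfsg.Agent.Helper21.SpReg3

/-!
# The determinant on the unitary centraliser of a regular unipotent matrix (helper21)
-/

set_option autoImplicit false
set_option linter.unusedSectionVars false

namespace Cfsg.Agent.Helper21.SUReg

open Matrix Polynomial Cfsg.Agent.Helper21.NS Cfsg.Agent.Helper21.UJ

variable {K : Type*} [Field K]

theorem frob_pow_inj (p : ℕ) [Fact p.Prime] [CharP K p] (k : ℕ) (x y : K)
    (h : x ^ (p ^ k) = y ^ (p ^ k)) : x = y := by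
  have h1 : (x - y) ^ (p ^ k) = 0 := by
    rw [sub_pow_char_pow, h, sub_self]
  exact sub_eq_zero.1 (pow_eq_zero_iff (pow_ne_zero k (Fact.out : p.Prime).ne_zero) |>.1 h1)

theorem cstar_pow_mul_pow {n : Type*} [Fintype n] [DecidableEq n] (σ : K →+* K)
    (g : Matrix n n K) (hg : cstar σ g * g = 1) (m : ℕ) : cstar σ (g ^ m) * g ^ m = 1 := by
  induction m with
  | zero => rw [pow_zero, cstar_one, Matrix.one_mul]
  | succ m ih =>
    rw [pow_succ, cstar_mul]
    calc cstar σ g * cstar σ (g ^ m) * (g ^ m * g)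
        = cstar σ g * (cstar σ (g ^ m) * g ^ m) * g := by simp only [Matrix.mul_assoc]
      _ = 1 := by rw [ih, Matrix.mul_one, hg]

/-- a unitary matrix commuting with a regular unipotent matrix has determinant `a ^ n`
with `a` of norm one -/
theorem det_of_commute_reg (σ : K →+* K) {q : ℕ} (hσ : ∀ x, σ x = x ^ q) (p : ℕ) [Fact p.Prime]
    [CharP K p] {n : ℕ} (hn : 0 < n) (u g : Matrix (Fin n) (Fin n) K) (hnil : (u - 1) ^ n = 0)
    (hreg : (u - 1).rank + 1 = n) (hcomm : g * u = u * g) (hg : gᵀ * g.map σ = 1) :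
    ∃ a : K, a ^ (q + 1) = 1 ∧ g.det = a ^ n := by
  have hne : Nonempty (Fin n) := ⟨⟨0, hn⟩⟩
  obtain ⟨N, hN⟩ : ∃ N : Matrix (Fin n) (Fin n) K, N = u - 1 := ⟨_, rfl⟩
  rw [← hN] at hnil hreg
  have hgN : g * N = N * g := by
    rw [hN, Matrix.mul_sub, Matrix.sub_mul, hcomm, Matrix.mul_one, Matrix.one_mul]
  -- a cyclic vector and the commutant
  have hfin : Module.finrank K (Fin n → K) = n := Module.finrank_fin_fun K
  have hTn : (toLin' N) ^ n = 0 := by rw [← Matrix.toLin'_pow, hnil, map_zero]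
  obtain ⟨v, hv⟩ := Cfsg.Agent.Helper21.SpReg.exists_cyclic (toLin' N) n hfin hTn hreg
  have hcT : Commute (toLin' g) (toLin' N) := by
    show toLin' g ∘ₗ toLin' N = toLin' N ∘ₗ toLin' g
    rw [← Matrix.toLin'_mul, ← Matrix.toLin'_mul, hgN]
  obtain ⟨P, hP⟩ := Cfsg.Agent.Helper21.SpReg.exists_aeval_eq_of_commute (toLin' N) n hfin hn v hv
    (toLin' g) hcT
  have hPm : aeval N P = g := by
    have h1 : aeval (Matrix.toLinAlgEquiv' N) P = Matrix.toLinAlgEquiv' (aeval N P) :=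
      Polynomial.aeval_algHom_apply (Matrix.toLinAlgEquiv' : Matrix (Fin n) (Fin n) K ≃ₐ[K] _).toAlgHom N P
    have h2 : (Matrix.toLinAlgEquiv' (aeval N P) : Module.End K (Fin n → K)) = toLin' g := by
      rw [← h1]
      exact hP
    exact Matrix.toLin'.injective h2
  -- split off the constant term
  obtain ⟨a, ha⟩ : ∃ a : K, a = P.coeff 0 := ⟨_, rfl⟩
  obtain ⟨W, hW⟩ : ∃ W : Matrix (Fin n) (Fin n) K, W = aeval N P.divX * N := ⟨_, rfl⟩
  have hgW : g = a • (1 : Matrix (Fin n) (Fin n) K) + W := by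
    rw [← hPm]
    conv_lhs => rw [← Polynomial.divX_mul_X_add P]
    rw [map_add, map_mul, aeval_X, aeval_C, ← ha, hW, Algebra.algebraMap_eq_smul_one, add_comm]
  have hcomW : Commute (aeval N P.divX) N := by
    have h1 : aeval N (P.divX * X) = aeval N (X * P.divX) := by rw [mul_comm]
    rw [map_mul, map_mul, aeval_X] at h1
    exact h1
  have hWn : W ^ n = 0 := by
    rw [hW, hcomW.mul_pow, hnil, Matrix.mul_zero]
  have hp : p.Prime := Fact.out
  have hnp : n ≤ p ^ n := (Nat.lt_pow_self hp.one_lt).le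
  have hWp : W ^ (p ^ n) = 0 := pow_eq_zero_of_le hnp hWn
  have hgp : g ^ (p ^ n) = (a ^ (p ^ n)) • (1 : Matrix (Fin n) (Fin n) K) := by
    have hc : Commute (a • (1 : Matrix (Fin n) (Fin n) K)) W := by
      show a • (1 : Matrix (Fin n) (Fin n) K) * W = W * a • (1 : Matrix (Fin n) (Fin n) K)
      rw [Matrix.smul_mul, Matrix.mul_smul, Matrix.one_mul, Matrix.mul_one]
    have : CharP (Matrix (Fin n) (Fin n) K) p := inferInstance
    rw [hgW, add_pow_char_pow_of_commute _ _ hc, hWp, add_zero, _root_.smul_pow, one_pow]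
  -- unitarity of the power
  have hgc : cstar σ g * g = 1 := (unitary_iff_cstar σ g).1 hg
  have h3 := cstar_pow_mul_pow σ g hgc (p ^ n)
  rw [hgp, cstar_smul_one, Matrix.smul_mul, Matrix.mul_smul, Matrix.one_mul, smul_smul] at h3
  have h4 : σ (a ^ (p ^ n)) * a ^ (p ^ n) = 1 := by
    have := congrFun (congrFun h3 ⟨0, hn⟩) ⟨0, hn⟩
    rw [Matrix.smul_apply, Matrix.one_apply_eq, smul_eq_mul, mul_one] at this
    exact this
  refine ⟨a, ?_, ?_⟩
  · apply frob_pow_inj p n
    rw [one_pow, ← pow_mul, mul_comm, pow_mul, pow_succ, ← hσ]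
    exact h4
  · apply frob_pow_inj p n
    rw [← Matrix.det_pow, hgp, Matrix.det_smul, Matrix.det_one, mul_one, Fintype.card_fin,
      ← pow_mul, ← pow_mul, mul_comm]

end Cfsg.Agent.Helper21.SUReg
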