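import Cfsg.Agent.Helper21.SUReg1
import Cfsg.Agent.Helper21.SUReg2
import Cfsg.Agent.Helper21.JS1
import Cfsg.Agent.Helper2.UnitarySU
import Cfsg.Agent.S2587
import Cfsg.Agent.Helper12.Unipotent

/-!
# Regular unipotent classes of `SU_n(q)` (helper21)
-/

set_option autoImplicit false
set_option linter.unusedSectionVars false

namespace Cfsg.Agent.Helper21.SUReg

open Matrix Cfsg.Agent.Helper21.NS Cfsg.Agent.Helper21.UJ

variable {K : Type*} [Field K] [Fintype K] {q n : ℕ}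

/-- the norm-one subgroup of `Kˣ` -/
abbrev normOne (K : Type*) [Field K] (q : ℕ) : Subgroup Kˣ := (powMonoidHom (q + 1) : Kˣ →* Kˣ).ker

theorem mem_normOne (z : Kˣ) : z ∈ normOne K q ↔ z ^ (q + 1) = 1 := by
  rw [MonoidHom.mem_ker, powMonoidHom_apply]

/-- the inclusion of `SU` in `GU` -/
def suToGU (K : Type*) [Field K] (q n : ℕ) : ↥(Cfsg.SU n K q) →* ↥(Cfsg.GU n K q) :=
  MonoidHom.codRestrict (Matrix.SpecialLinearGroup.toGL.comp (Cfsg.SU n K q).subtype)
    (Cfsg.GU n K q) (fun s => s.2)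

theorem suToGU_coe (s : ↥(Cfsg.SU n K q)) :
    (((suToGU K q n s : ↥(Cfsg.GU n K q)) : GL (Fin n) K) : Matrix (Fin n) (Fin n) K)
      = ((s : Matrix.SpecialLinearGroup (Fin n) K) : Matrix (Fin n) (Fin n) K) := rfl

theorem suToGU_coe' (s : ↥(Cfsg.SU n K q)) :
    ((suToGU K q n s : ↥(Cfsg.GU n K q)) : GL (Fin n) K)
      = Matrix.SpecialLinearGroup.toGL (s : Matrix.SpecialLinearGroup (Fin n) K) := rfl

theorem suToGU_injective : Function.Injective (suToGU K q n) := by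
  intro s s' h
  have h1 := congrArg (fun g : ↥(Cfsg.GU n K q) => ((g : GL (Fin n) K) : Matrix (Fin n) (Fin n) K)) h
  simp only [suToGU_coe] at h1
  exact Subtype.ext (Subtype.ext h1)

/-- the determinant from `GU` to the norm-one group -/
noncomputable def detA (hK : Fintype.card K = q ^ 2) (n : ℕ) : ↥(Cfsg.GU n K q) →* ↥(normOne K q) :=
  MonoidHom.codRestrict (Cfsg.Agent.Helper2.Herm.detGU K q n) (normOne K q) (fun g => by
    rw [mem_normOne]
    exact Cfsg.Agent.Helper2.Herm.det_pow_eq_one hK g.2)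

theorem detA_coe (hK : Fintype.card K = q ^ 2) (g : ↥(Cfsg.GU n K q)) :
    (((detA hK n g : ↥(normOne K q)) : Kˣ) : K)
      = ((g : GL (Fin n) K) : Matrix (Fin n) (Fin n) K).det := rfl

theorem detA_surjective (hK : Fintype.card K = q ^ 2) (hn : 0 < n) :
    Function.Surjective (detA hK n) := by
  obtain ⟨m, rfl⟩ : ∃ m, n = m + 1 := ⟨n - 1, by omega⟩
  rintro ⟨z, hz⟩
  have h1 : z ∈ (Cfsg.Agent.Helper2.Herm.detGU K q (m + 1)).range := by
    rw [Cfsg.Agent.Helper2.Herm.range_detGU hK]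
    exact hz
  obtain ⟨g, hg⟩ := h1
  exact ⟨g, Subtype.ext hg⟩

theorem detA_eq_one_iff (hK : Fintype.card K = q ^ 2) (g : ↥(Cfsg.GU n K q)) :
    detA hK n g = 1 ↔ g ∈ (suToGU K q n).range := by
  constructor
  · intro h
    have hdet : ((g : GL (Fin n) K) : Matrix (Fin n) (Fin n) K).det = 1 := by
      rw [← detA_coe hK, h]
      rfl
    let s : Matrix.SpecialLinearGroup (Fin n) K := ⟨((g : GL (Fin n) K) : Matrix (Fin n) (Fin n) K), hdet⟩
    have hs : Matrix.SpecialLinearGroup.toGL s = (g : GL (Fin n) K) := Units.ext rfl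
    have hmem : s ∈ Cfsg.SU n K q := by
      rw [Cfsg.Agent.Helper2.Herm.mem_SU_iff, hs]
      exact g.2
    exact ⟨⟨s, hmem⟩, Subtype.ext hs⟩
  · rintro ⟨s, rfl⟩
    apply Subtype.ext
    apply Units.ext
    rw [detA_coe, suToGU_coe]
    exact s.1.2

/-- regular unipotent matrices -/
def IsReg (M : Matrix (Fin n) (Fin n) K) : Prop := (M - 1) ^ n = 0 ∧ (M - 1).rank + 1 = n

theorem det_of_isReg (p : ℕ) [Fact p.Prime] [CharP K p] (hn : 0 < n)
    {M : Matrix (Fin n) (Fin n) K} (hM : IsReg M) : M.det = 1 := by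
  have hne : Nonempty (Fin n) := ⟨⟨0, hn⟩⟩
  have hp : p.Prime := Fact.out
  have hnp : n ≤ p ^ n := (Nat.lt_pow_self hp.one_lt).le
  have h1 : M ^ (p ^ n) = 1 :=
    Cfsg.Agent.Helper12.pow_eq_one_of_sub_one_pow_eq_zero p M n (pow_eq_zero_of_le hnp hM.1)
  apply frob_pow_inj p n
  rw [← Matrix.det_pow, h1, Matrix.det_one, one_pow]

theorem isReg_conj {M c cinv : Matrix (Fin n) (Fin n) K} (hn : 0 < n) (h1 : c * cinv = 1)
    (h2 : cinv * c = 1) (hM : IsReg M) : IsReg (c * M * cinv) := by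
  have hx1 : c * M * cinv - 1 = c * (M - 1) * cinv := by
    rw [Matrix.mul_sub, Matrix.sub_mul, Matrix.mul_one, h1]
  have hcu : IsUnit c := ⟨⟨c, cinv, h1, h2⟩, rfl⟩
  have hcinvu : IsUnit cinv := ⟨⟨cinv, c, h2, h1⟩, rfl⟩
  constructor
  · rw [hx1]
    rcases conj_pow h2 (M - 1) n with h | h
    · rw [h, hM.1, Matrix.mul_zero, Matrix.zero_mul]
    · omega
  · rw [hx1, Matrix.rank_mul_eq_left_of_isUnit_det cinv _
      ((Matrix.isUnit_iff_isUnit_det _).mp hcinvu),
      Matrix.rank_mul_eq_right_of_isUnit_det c _ ((Matrix.isUnit_iff_isUnit_det _).mp hcu)]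
    exact hM.2

/-- a regular unipotent element of `SU` -/
theorem exists_reg_SU (hK : Fintype.card K = q ^ 2) (hn : 0 < n) :
    ∃ x0 : ↥(Cfsg.SU n K q),
      IsReg ((x0 : Matrix.SpecialLinearGroup (Fin n) K) : Matrix (Fin n) (Fin n) K) := by
  obtain ⟨σ, hσ, hσ2⟩ := Cfsg.Agent.Helper28.exists_frob hK
  obtain ⟨ξ0, hξ0⟩ := exists_pow_ne hK
  have hξ0' : σ ξ0 ≠ ξ0 := by rw [hσ]; exact hξ0
  obtain ⟨p, hchar⟩ := CharP.exists K
  have hp : Fact p.Prime := ⟨CharP.char_is_prime K p⟩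
  obtain ⟨x, hx, hnil, hreg⟩ := exists_unitary_block σ n hσ2 ξ0 hξ0' hn
  have hdet : x.det = 1 := det_of_isReg p hn ⟨hnil, hreg⟩
  let s : Matrix.SpecialLinearGroup (Fin n) K := ⟨x, hdet⟩
  have hmem : s ∈ Cfsg.SU n K q := by
    rw [Cfsg.Agent.Helper2.Herm.mem_SU_iff, Cfsg.Agent.Helper28.GUlib.mem_GU_iff σ hσ]
    exact hx
  exact ⟨⟨s, hmem⟩, hnil, hreg⟩

/-- the regular unipotent elements of `SU` are those `GU`-conjugate to a fixed one -/
theorem isReg_iff_isConj (hK : Fintype.card K = q ^ 2) (hn : 0 < n) (x0 s : ↥(Cfsg.SU n K q))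
    (hx0 : IsReg ((x0 : Matrix.SpecialLinearGroup (Fin n) K) : Matrix (Fin n) (Fin n) K)) :
    IsReg ((s : Matrix.SpecialLinearGroup (Fin n) K) : Matrix (Fin n) (Fin n) K) ↔
      IsConj (suToGU K q n s) (suToGU K q n x0) := by
  constructor
  · intro hs
    rw [Cfsg.Agent.S2587.result hK]
    obtain ⟨h, h', hh', h'h, hconj⟩ := Cfsg.Agent.Helper21.JS.exists_conj_of_reg n hn
      (Fintype.card_fin n) _ _ hs.1 hs.2 hx0.1 hx0.2
    rw [isConj_iff]
    refine ⟨⟨h, h', hh', h'h⟩, ?_⟩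
    apply Units.ext
    rw [Units.val_mul, Units.val_mul]
    show h * _ * h' = _
    rw [suToGU_coe, suToGU_coe]
    exact hconj.symm
  · intro hc
    obtain ⟨c, hc⟩ := isConj_iff.1 hc.symm
    have h1 := congrArg (fun g : ↥(Cfsg.GU n K q) =>
      ((g : GL (Fin n) K) : Matrix (Fin n) (Fin n) K)) hc
    simp only [suToGU_coe] at h1
    have h2 : ((c : GL (Fin n) K) : Matrix (Fin n) (Fin n) K)
        * ((x0 : Matrix.SpecialLinearGroup (Fin n) K) : Matrix (Fin n) (Fin n) K)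
        * (((c : GL (Fin n) K)⁻¹ : GL (Fin n) K) : Matrix (Fin n) (Fin n) K)
        = ((s : Matrix.SpecialLinearGroup (Fin n) K) : Matrix (Fin n) (Fin n) K) := h1
    rw [← h2]
    apply isReg_conj hn _ _ hx0
    · rw [← Units.val_mul, mul_inv_cancel, Units.val_one]
    · rw [← Units.val_mul, inv_mul_cancel, Units.val_one]

/-- the image of the centraliser of a regular unipotent under the determinant -/
theorem map_centralizer_eq (hK : Fintype.card K = q ^ 2) (hn : 0 < n) (x0 : ↥(Cfsg.SU n K q))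
    (hx0 : IsReg ((x0 : Matrix.SpecialLinearGroup (Fin n) K) : Matrix (Fin n) (Fin n) K)) :
    (Subgroup.centralizer {suToGU K q n x0}).map (detA hK n)
      = (powMonoidHom n : ↥(normOne K q) →* ↥(normOne K q)).range := by
  obtain ⟨σ, hσ, hσ2⟩ := Cfsg.Agent.Helper28.exists_frob hK
  obtain ⟨p, hchar⟩ := CharP.exists K
  have hp : Fact p.Prime := ⟨CharP.char_is_prime K p⟩
  ext z
  constructor
  · rintro ⟨g, hg, rfl⟩
    rw [SetLike.mem_coe, Subgroup.mem_centralizer_iff] at hg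
    have hcomm := hg _ rfl
    have h1 := congrArg (fun g : ↥(Cfsg.GU n K q) =>
      ((g : GL (Fin n) K) : Matrix (Fin n) (Fin n) K)) hcomm
    have hcm : ((g : GL (Fin n) K) : Matrix (Fin n) (Fin n) K)
        * ((x0 : Matrix.SpecialLinearGroup (Fin n) K) : Matrix (Fin n) (Fin n) K)
        = ((x0 : Matrix.SpecialLinearGroup (Fin n) K) : Matrix (Fin n) (Fin n) K)
          * ((g : GL (Fin n) K) : Matrix (Fin n) (Fin n) K) := h1.symm
    have hgu := (Cfsg.Agent.Helper28.GUlib.mem_GU_iff σ hσ (g : GL (Fin n) K)).1 g.2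
    obtain ⟨a, ha, hdet⟩ := det_of_commute_reg σ hσ p hn _ _ hx0.1 hx0.2 hcm hgu
    have ha0 : a ≠ 0 := by
      rintro rfl
      rw [zero_pow (Nat.succ_ne_zero q)] at ha
      exact zero_ne_one ha
    have hau : Units.mk0 a ha0 ∈ normOne K q := by
      rw [mem_normOne]
      apply Units.ext
      rw [Units.val_pow_eq_pow_val, Units.val_mk0, ha, Units.val_one]
    refine ⟨⟨Units.mk0 a ha0, hau⟩, ?_⟩
    apply Subtype.ext
    apply Units.ext
    rw [detA_coe, hdet, powMonoidHom_apply]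
    simp
  · rintro ⟨⟨a, ha⟩, rfl⟩
    have hau : (a : K) ^ (q + 1) = 1 := by
      rw [mem_normOne] at ha
      have := congrArg Units.val ha
      rwa [Units.val_pow_eq_pow_val, Units.val_one] at this
    have hsc : (Matrix.diagonal (fun _ : Fin n => (a : K)))ᵀ
        * (Matrix.diagonal (fun _ : Fin n => (a : K))).map σ = 1 :=
      Cfsg.Agent.Helper28.GUlib.diagonal_unitary σ hσ _ (fun _ => hau)
    refine ⟨Cfsg.Agent.Helper28.GUlib.mkGU σ hσ _ hsc, ?_, ?_⟩
    · rw [SetLike.mem_coe, Subgroup.mem_centralizer_iff]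
      intro y hy
      apply Subtype.ext
      apply Units.ext
      show ((y : GL (Fin n) K) : Matrix (Fin n) (Fin n) K) * Matrix.diagonal (fun _ : Fin n => (a : K))
        = Matrix.diagonal (fun _ : Fin n => (a : K)) * ((y : GL (Fin n) K) : Matrix (Fin n) (Fin n) K)
      rw [← Matrix.smul_one_eq_diagonal, Matrix.mul_smul, Matrix.smul_mul, Matrix.mul_one,
        Matrix.one_mul]
    · apply Subtype.ext
      apply Units.ext
      rw [detA_coe, powMonoidHom_apply]
      show (Matrix.diagonal (fun _ : Fin n => (a : K))).det = _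
      rw [Matrix.det_diagonal, Finset.prod_const, Finset.card_univ, Fintype.card_fin]
      simp

theorem card_normOne (hK : Fintype.card K = q ^ 2) : Nat.card ↥(normOne K q) = q + 1 :=
  Cfsg.Agent.Helper2.Herm.card_ker_norm hK

end Cfsg.Agent.Helper21.SUReg
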