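import Cfsg.Agent.Helper21.SUC1
import Cfsg.Agent.Helper21.SUD7
import Cfsg.Agent.Helper21.SUReg3
import Cfsg.Agent.Helper12.SemisimpleConjF
import Cfsg.Agent.S2588

/-!
# Existence of semisimple elements of `SU` with prescribed characteristic polynomial (helper21)
-/

set_option autoImplicit false
set_option linter.unusedSectionVars false

namespace Cfsg.Agent.Helper21.SUC

open Polynomial Matrix Cfsg.Agent.Helper12 Cfsg.Agent.Helper12.SpPrime Cfsg.Agent.Helper7.GUr
  Cfsg.Agent.Helper21.NS Cfsg.Agent.Helper21.SUReg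

variable {K : Type*} [Field K] {n : ℕ} (σ : K →+* K)

theorem charpoly_star_of_unitary {x : Matrix (Fin n) (Fin n) K} (hx : xᵀ * x.map σ = 1) :
    Cfsg.Agent.Helper7.GUr.star σ x.charpoly = x.charpoly := by
  have h1 : (x.map σ)ᵀ * x = 1 := by
    have := congrArg Matrix.transpose hx
    rw [Matrix.transpose_mul, Matrix.transpose_transpose, Matrix.transpose_one] at this
    exact this
  have hxu : IsUnit x := by
    rw [Matrix.isUnit_iff_isUnit_det]
    have h2 := congrArg Matrix.det h1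
    rw [Matrix.det_mul, Matrix.det_one] at h2
    exact IsUnit.of_mul_eq_one _ (by rw [mul_comm]; exact h2)
  have h3 : ((x.map σ)ᵀ)⁻¹ = x := Matrix.inv_eq_right_inv h1
  have h4 := charpoly_cstar_inv σ x hxu
  rw [h3] at h4
  exact h4.symm

theorem pow_cstar_inv {M : Matrix (Fin n) (Fin n) K} {k : ℕ} (h : M ^ k = 1) :
    (((M.map σ)ᵀ)⁻¹) ^ k = 1 := by
  rw [Matrix.inv_pow', ← Matrix.transpose_pow]
  have h1 : (M.map σ) ^ k = (M ^ k).map σ := by
    have := map_pow σ.mapMatrix M k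
    simp only [RingHom.mapMatrix_apply] at this
    exact this.symm
  rw [h1, h, Matrix.map_one σ (map_zero σ) (map_one σ), Matrix.transpose_one, inv_one]

variable [Fintype K] {q : ℕ}

theorem exists_su_charpoly (hK : Fintype.card K = q ^ 2) (p : ℕ) [Fact p.Prime] [CharP K p]
    (σ : K →+* K) (hσ : ∀ x, σ x = x ^ q) (_hσ2 : ∀ x, σ (σ x) = x) (m : ℕ) (a : Fin m → K)
    (ha : tauC σ m a = a) :
    ∃ g : ↥(Cfsg.SU (m + 1) K q), (orderOf g).Coprime p ∧
      ((g : Matrix.SpecialLinearGroup (Fin (m + 1)) K) :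
        Matrix (Fin (m + 1)) (Fin (m + 1)) K).charpoly = polyC m a := by
  have hf := polyC_monic m a
  have hdeg := polyC_natDegree m a
  have h0 := polyC_coeff_zero m a
  have h0' : (polyC m a).coeff 0 ≠ 0 := by
    rw [h0]
    exact pow_ne_zero _ (neg_ne_zero.2 one_ne_zero)
  have hstar : Cfsg.Agent.Helper7.GUr.star σ (polyC m a) = polyC m a := by
    rw [star_eq_self_iff σ hf hdeg h0, coeffVec_polyC]
    exact ha
  obtain ⟨s, hs, hso⟩ := exists_gl_coprime_charpoly p (polyC m a) hf hdeg h0'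
  -- s is similar to its conjugate inverse transpose
  have hsk : (s : Matrix (Fin (m + 1)) (Fin (m + 1)) K) ^ orderOf s = 1 := by
    have h1 := pow_orderOf_eq_one s
    have h2 := congrArg (fun x : GL (Fin (m + 1)) K => (x : Matrix (Fin (m + 1)) (Fin (m + 1)) K)) h1
    simp only [Units.val_pow_eq_pow_val, Units.val_one] at h2
    exact h2
  have hne : ((orderOf s : ℕ) : K) ≠ 0 :=
    Cfsg.Agent.Helper12.SympConj.natCast_ne_zero_of_coprime p hso
  have hss : Module.End.IsSemisimple (Matrix.toLin' (s : Matrix (Fin (m + 1)) (Fin (m + 1)) K)) :=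
    isSemisimple_of_pow_eq_one _ (orderOf s) hne hsk
  have hss' : Module.End.IsSemisimple (Matrix.toLin'
      ((((s : Matrix (Fin (m + 1)) (Fin (m + 1)) K).map σ)ᵀ)⁻¹)) :=
    isSemisimple_of_pow_eq_one _ (orderOf s) hne (pow_cstar_inv σ hsk)
  have hsu : IsUnit (s : Matrix (Fin (m + 1)) (Fin (m + 1)) K) := ⟨s, rfl⟩
  have hcp : (s : Matrix (Fin (m + 1)) (Fin (m + 1)) K).charpoly =
      ((((s : Matrix (Fin (m + 1)) (Fin (m + 1)) K).map σ)ᵀ)⁻¹).charpoly := by
    rw [charpoly_cstar_inv σ _ hsu, hs, hstar]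
  obtain ⟨P, hP⟩ := exists_gl_conj_of_semisimple _ _ hss hss' hcp
  have hmap : (s : Matrix (Fin (m + 1)) (Fin (m + 1)) K).map (fun x : K => x ^ q) =
      (s : Matrix (Fin (m + 1)) (Fin (m + 1)) K).map σ := by
    ext i j
    simp only [Matrix.map_apply, hσ]
  have hconj : IsConj (s : Matrix (Fin (m + 1)) (Fin (m + 1)) K)
      (((s : Matrix (Fin (m + 1)) (Fin (m + 1)) K).map (fun x : K => x ^ q)).transpose)⁻¹ := by
    rw [hmap]
    exact ⟨P, hP⟩
  obtain ⟨B, hB⟩ := (Cfsg.Agent.S2588.result hK s).2 hconj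
  -- B has the right characteristic polynomial, order and determinant
  have hBcp : ((B : GL (Fin (m + 1)) K) : Matrix (Fin (m + 1)) (Fin (m + 1)) K).charpoly =
      polyC m a := by
    rw [← charpoly_eq_of_isConj_gl hB, hs]
  have hBo : orderOf (B : GL (Fin (m + 1)) K) = orderOf s := by
    obtain ⟨c, hc⟩ := isConj_iff.1 hB
    rw [← hc]
    exact (MulAut.conj c).orderOf_eq s
  have hBdet : ((B : GL (Fin (m + 1)) K) : Matrix (Fin (m + 1)) (Fin (m + 1)) K).det = 1 := by
    rw [Matrix.det_eq_sign_charpoly_coeff, hBcp, h0, Fintype.card_fin]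
    exact eps_mul_eps m
  have hdetA : detA hK (m + 1) B = 1 := by
    apply Subtype.ext
    apply Units.ext
    rw [detA_coe, hBdet]
    rfl
  obtain ⟨g, hg⟩ := (detA_eq_one_iff hK B).1 hdetA
  refine ⟨g, ?_, ?_⟩
  · have h1 : orderOf (suToGU K q (m + 1) g) = orderOf g :=
      orderOf_injective _ suToGU_injective g
    have h2 : orderOf ((suToGU K q (m + 1) g : ↥(Cfsg.GU (m + 1) K q)) : GL (Fin (m + 1)) K) =
        orderOf (suToGU K q (m + 1) g) := Subgroup.orderOf_coe _
    rw [← h1, ← h2, hg, hBo]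
    exact hso
  · rw [← suToGU_coe, hg]
    exact hBcp

end Cfsg.Agent.Helper21.SUC
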