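import Cfsg.Agent.Helper21.UJ1

/-!
# Hermitian geometry on `Fin n → K` (helper21)

The standard Hermitian form `hB σ u w = ∑ σ (u i) * w i`, orthogonal complements and their
dimensions.
-/

set_option autoImplicit false
set_option linter.unusedSectionVars false

namespace Cfsg.Agent.Helper21.SUD

open Matrix Module Cfsg.Agent.Helper21.NS

variable {K : Type*} [Field K] {n : ℕ} (σ : K →+* K)

/-- the standard Hermitian form, semilinear in the first variable -/
def hB (u w : Fin n → K) : K := ∑ i, σ (u i) * w i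

theorem hB_add_left (u u' w : Fin n → K) : hB σ (u + u') w = hB σ u w + hB σ u' w := by
  simp only [hB, Pi.add_apply, map_add, add_mul, Finset.sum_add_distrib]

theorem hB_add_right (u w w' : Fin n → K) : hB σ u (w + w') = hB σ u w + hB σ u w' := by
  simp only [hB, Pi.add_apply, mul_add, Finset.sum_add_distrib]

theorem hB_smul_left (a : K) (u w : Fin n → K) : hB σ (a • u) w = σ a * hB σ u w := by
  simp only [hB, Pi.smul_apply, smul_eq_mul, map_mul, Finset.mul_sum, mul_assoc]

theorem hB_smul_right (a : K) (u w : Fin n → K) : hB σ u (a • w) = a * hB σ u w := by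
  simp only [hB, Pi.smul_apply, smul_eq_mul, Finset.mul_sum]
  apply Finset.sum_congr rfl
  intro i _
  ring

theorem hB_zero_left (w : Fin n → K) : hB σ 0 w = 0 := by
  simp [hB]

theorem hB_zero_right (u : Fin n → K) : hB σ u 0 = 0 := by
  simp [hB]

theorem hB_neg_right (u w : Fin n → K) : hB σ u (-w) = -hB σ u w := by
  simp [hB]

theorem hB_sub_right (u w w' : Fin n → K) : hB σ u (w - w') = hB σ u w - hB σ u w' := by
  rw [sub_eq_add_neg, hB_add_right, hB_neg_right, sub_eq_add_neg]

theorem hB_symm (hσ2 : ∀ a, σ (σ a) = a) (u w : Fin n → K) : σ (hB σ u w) = hB σ w u := by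
  simp only [hB, map_sum, map_mul, hσ2]
  apply Finset.sum_congr rfl
  intro i _
  ring

theorem hB_eq_zero_symm (hσ2 : ∀ a, σ (σ a) = a) {u w : Fin n → K} (h : hB σ u w = 0) :
    hB σ w u = 0 := by
  rw [← hB_symm σ hσ2, h, map_zero]

theorem hB_mulVec (M : Matrix (Fin n) (Fin n) K) (u w : Fin n → K) :
    hB σ (M *ᵥ u) w = hB σ u (cstar σ M *ᵥ w) := by
  simp only [hB, Matrix.mulVec, dotProduct, cstar, Matrix.transpose_apply, Matrix.map_apply,
    map_sum, map_mul, Finset.sum_mul, Finset.mul_sum]
  rw [Finset.sum_comm]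
  apply Finset.sum_congr rfl
  intro j _
  apply Finset.sum_congr rfl
  intro i _
  ring

theorem hB_single_left (i : Fin n) (w : Fin n → K) : hB σ (Pi.single i 1) w = w i := by
  rw [hB, Finset.sum_eq_single i]
  · simp
  · intro j _ hj
    rw [Pi.single_eq_of_ne hj, map_zero, zero_mul]
  · intro h
    exact absurd (Finset.mem_univ i) h

theorem hB_nondeg {w : Fin n → K} (h : ∀ u, hB σ u w = 0) : w = 0 := by
  funext i
  rw [← hB_single_left σ i w, h]
  rfl

theorem eq_of_hB {M M' : Matrix (Fin n) (Fin n) K}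
    (h : ∀ u w, hB σ u (M *ᵥ w) = hB σ u (M' *ᵥ w)) : M = M' := by
  have h1 : ∀ w, M *ᵥ w = M' *ᵥ w := by
    intro w
    have : M *ᵥ w - M' *ᵥ w = 0 := by
      apply hB_nondeg σ
      intro u
      rw [hB_sub_right, h, sub_self]
    exact sub_eq_zero.1 this
  ext i j
  have := congrFun (h1 (Pi.single j 1)) i
  simpa using this

/-- orthogonal complement -/
def orth (U : Submodule K (Fin n → K)) : Submodule K (Fin n → K) where
  carrier := {w | ∀ u ∈ U, hB σ u w = 0}
  add_mem' := by
    intro a b ha hb u hu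
    rw [hB_add_right, ha u hu, hb u hu, add_zero]
  zero_mem' := by
    intro u _
    exact hB_zero_right σ u
  smul_mem' := by
    intro c a ha u hu
    rw [hB_smul_right, ha u hu, mul_zero]

theorem mem_orth {U : Submodule K (Fin n → K)} {w : Fin n → K} :
    w ∈ orth σ U ↔ ∀ u ∈ U, hB σ u w = 0 := Iff.rfl

theorem orth_anti {U U' : Submodule K (Fin n → K)} (h : U ≤ U') : orth σ U' ≤ orth σ U :=
  fun _ hw u hu => hw u (h hu)

theorem le_orth_orth (hσ2 : ∀ a, σ (σ a) = a) (U : Submodule K (Fin n → K)) :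
    U ≤ orth σ (orth σ U) := by
  intro u hu w hw
  exact hB_eq_zero_symm σ hσ2 (hw u hu)

theorem orth_top : orth σ (⊤ : Submodule K (Fin n → K)) = ⊥ := by
  rw [eq_bot_iff]
  intro w hw
  rw [Submodule.mem_bot]
  exact hB_nondeg σ (fun u => hw u Submodule.mem_top)

/-- the coordinatewise image of a subspace under `σ` -/
def frobSub (_hσ2 : ∀ a, σ (σ a) = a) (U : Submodule K (Fin n → K)) :
    Submodule K (Fin n → K) where
  carrier := {w | (fun i => σ (w i)) ∈ U}
  add_mem' := by
    intro a b ha hb
    have : (fun i => σ ((a + b) i)) = (fun i => σ (a i)) + (fun i => σ (b i)) := by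
      funext i
      simp
    show (fun i => σ ((a + b) i)) ∈ U
    rw [this]
    exact U.add_mem ha hb
  zero_mem' := by
    show (fun i => σ ((0 : Fin n → K) i)) ∈ U
    have : (fun i => σ ((0 : Fin n → K) i)) = 0 := by
      funext i
      simp
    rw [this]
    exact U.zero_mem
  smul_mem' := by
    intro c a ha
    show (fun i => σ ((c • a) i)) ∈ U
    have : (fun i => σ ((c • a) i)) = σ c • (fun i => σ (a i)) := by
      funext i
      simp
    rw [this]
    exact U.smul_mem _ ha

theorem mem_frobSub (hσ2 : ∀ a, σ (σ a) = a) {U : Submodule K (Fin n → K)} {w : Fin n → K} :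
    w ∈ frobSub σ hσ2 U ↔ (fun i => σ (w i)) ∈ U := Iff.rfl

/-- `frobSub U` is in bijection with `U` -/
def frobEquiv (hσ2 : ∀ a, σ (σ a) = a) (U : Submodule K (Fin n → K)) :
    ↥(frobSub σ hσ2 U) ≃ ↥U where
  toFun w := ⟨fun i => σ ((w : Fin n → K) i), w.2⟩
  invFun u := ⟨fun i => σ ((u : Fin n → K) i), by
    rw [mem_frobSub]
    have : (fun i => σ (σ ((u : Fin n → K) i))) = (u : Fin n → K) := by
      funext i
      exact hσ2 _
    rw [this]
    exact u.2⟩
  left_inv w := by
    apply Subtype.ext
    funext i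
    exact hσ2 _
  right_inv u := by
    apply Subtype.ext
    funext i
    exact hσ2 _

theorem finrank_frobSub [Finite K] (hσ2 : ∀ a, σ (σ a) = a) (U : Submodule K (Fin n → K)) :
    finrank K ↥(frobSub σ hσ2 U) = finrank K ↥U := by
  have h1 : Nat.card ↥(frobSub σ hσ2 U) = Nat.card ↥U := Nat.card_congr (frobEquiv σ hσ2 U)
  rw [Module.natCard_eq_pow_finrank (K := K) (V := ↥(frobSub σ hσ2 U)),
    Module.natCard_eq_pow_finrank (K := K) (V := ↥U)] at h1
  exact Nat.pow_right_injective (Finite.one_lt_card (α := K)) h1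

theorem orth_eq (hσ2 : ∀ a, σ (σ a) = a) (U : Submodule K (Fin n → K)) :
    orth σ U = (Matrix.toBilin' (1 : Matrix (Fin n) (Fin n) K)).orthogonal (frobSub σ hσ2 U) := by
  ext w
  rw [mem_orth, LinearMap.BilinForm.mem_orthogonal_iff]
  constructor
  · intro h x hx
    have := h _ hx
    rw [Matrix.toBilin'_apply']
    rw [Matrix.one_mulVec]
    rw [hB] at this
    simp only [hσ2] at this
    exact this
  · intro h u hu
    have hx : (fun i => σ (u i)) ∈ frobSub σ hσ2 U := by
      rw [mem_frobSub]
      have : (fun i => σ (σ (u i))) = u := by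
        funext i
        exact hσ2 _
      rw [this]
      exact hu
    have := h _ hx
    rw [Matrix.toBilin'_apply', Matrix.one_mulVec] at this
    exact this

theorem finrank_orth [Finite K] (hσ2 : ∀ a, σ (σ a) = a) (U : Submodule K (Fin n → K)) :
    finrank K ↥(orth σ U) + finrank K ↥U = n := by
  have hnd : (Matrix.toBilin' (1 : Matrix (Fin n) (Fin n) K)).Nondegenerate :=
    LinearMap.BilinForm.nondegenerate_toBilin'_of_det_ne_zero' _ (by rw [Matrix.det_one]; exact one_ne_zero)
  rw [orth_eq σ hσ2, LinearMap.BilinForm.finrank_orthogonal hnd, finrank_frobSub]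
  have h1 : finrank K ↥U ≤ finrank K (Fin n → K) := Submodule.finrank_le U
  have h2 : finrank K (Fin n → K) = n := by simp
  omega

theorem orth_orth [Finite K] (hσ2 : ∀ a, σ (σ a) = a) (U : Submodule K (Fin n → K)) :
    orth σ (orth σ U) = U := by
  symm
  apply Submodule.eq_of_le_of_finrank_le (le_orth_orth σ hσ2 U)
  have h1 := finrank_orth σ hσ2 U
  have h2 := finrank_orth σ hσ2 (orth σ U)
  omega

end Cfsg.Agent.Helper21.SUD
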