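import Cfsg.Agent.Helper21.SUD1
import Cfsg.Agent.Helper12.SemisimpleConjD

/-!
# Minimal invariant subspaces of a unitary semisimple matrix (helper21)
-/

set_option autoImplicit false
set_option linter.unusedSectionVars false

namespace Cfsg.Agent.Helper21.SUD

open Matrix Module Polynomial Cfsg.Agent.Helper21.NS Cfsg.Agent.Helper12

section general

variable {K : Type*} [Field K] {V : Type*} [AddCommGroup V] [Module K V]

theorem aeval_mem_of_inv (s : Module.End K V) (U : Submodule K V) (hU : ∀ x ∈ U, s x ∈ U)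
    (r : K[X]) : ∀ x ∈ U, aeval s r x ∈ U := by
  induction r using Polynomial.induction_on with
  | C a =>
    intro x hx
    rw [aeval_C, Module.algebraMap_end_apply]
    exact U.smul_mem a hx
  | add p q hp hq =>
    intro x hx
    rw [map_add, LinearMap.add_apply]
    exact U.add_mem (hp x hx) (hq x hx)
  | monomial k a ih =>
    intro x hx
    have e2 : aeval s (C a * X ^ (k + 1)) = aeval s (C a * X ^ k) * s := by
      rw [pow_succ, ← mul_assoc, map_mul, aeval_X]
    rw [e2, Module.End.mul_apply]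
    exact ih (s x) (hU x hx)

theorem aeval_restrict (s : Module.End K V) (U : Submodule K V) (hU : ∀ x ∈ U, s x ∈ U)
    (r : K[X]) (x : ↥U) : ((aeval (s.restrict hU) r x : ↥U) : V) = aeval s r (x : V) := by
  induction r using Polynomial.induction_on generalizing x with
  | C a =>
    rw [aeval_C, aeval_C, Module.algebraMap_end_apply, Module.algebraMap_end_apply]
    rfl
  | add p q hp hq =>
    rw [map_add, map_add, LinearMap.add_apply, LinearMap.add_apply, Submodule.coe_add, hp, hq]
  | monomial k a ih =>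
    have e1 : aeval (s.restrict hU) (C a * X ^ (k + 1)) =
        aeval (s.restrict hU) (C a * X ^ k) * (s.restrict hU) := by
      rw [pow_succ, ← mul_assoc, map_mul, aeval_X]
    have e2 : aeval s (C a * X ^ (k + 1)) = aeval s (C a * X ^ k) * s := by
      rw [pow_succ, ← mul_assoc, map_mul, aeval_X]
    rw [e1, e2, Module.End.mul_apply, Module.End.mul_apply, ih]
    rfl

/-- minimal nonzero invariant subspaces -/
def IsMinInv (s : Module.End K V) (U : Submodule K V) : Prop :=
  U ∈ s.invtSubmodule ∧ U ≠ ⊥ ∧ ∀ X ∈ s.invtSubmodule, X ≤ U → X = ⊥ ∨ X = U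

theorem exists_isMinInv [FiniteDimensional K V] (s : Module.End K V) (Y : Submodule K V)
    (hY : Y ∈ s.invtSubmodule) (hY0 : Y ≠ ⊥) : ∃ U, U ≤ Y ∧ IsMinInv s U := by
  classical
  have hex : ∃ d : ℕ, ∃ X ∈ s.invtSubmodule, X ≠ ⊥ ∧ X ≤ Y ∧ finrank K ↥X = d :=
    ⟨_, Y, hY, hY0, le_refl _, rfl⟩
  obtain ⟨U, hU, hU0, hUY, hd⟩ := Nat.find_spec hex
  refine ⟨U, hUY, hU, hU0, ?_⟩
  intro X hX hXU
  by_cases hX0 : X = ⊥
  · exact Or.inl hX0
  · right
    have h1 : Nat.find hex ≤ finrank K ↥X :=
      Nat.find_min' hex ⟨X, hX, hX0, le_trans hXU hUY, rfl⟩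
    apply Submodule.eq_of_le_of_finrank_le hXU
    rw [hd]
    exact h1

/-- a minimal invariant subspace is cyclic with irreducible annihilator -/
theorem IsMinInv.exists_cyclic [FiniteDimensional K V] {s : Module.End K V} {U : Submodule K V}
    (h : IsMinInv s U) : ∃ (v : V) (p : K[X]), v ≠ 0 ∧ Irreducible p ∧ aeval s p v = 0 ∧
      U = LinearMap.range (evalAt s v) := by
  obtain ⟨hU, hU0, hmin⟩ := h
  have hU' : ∀ x ∈ U, s x ∈ U := fun x hx => hU hx
  have hnt : Nontrivial ↥U := Submodule.nontrivial_iff_ne_bot.2 hU0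
  have hn : 0 < finrank K ↥U := Module.finrank_pos
  have hdeg : (LinearMap.charpoly (s.restrict hU')).natDegree = finrank K ↥U :=
    LinearMap.charpoly_natDegree _
  have hnu : ¬ IsUnit (LinearMap.charpoly (s.restrict hU')) := by
    intro hu
    have := natDegree_eq_zero_of_isUnit hu
    omega
  have hne0 : LinearMap.charpoly (s.restrict hU') ≠ 0 := (LinearMap.charpoly_monic _).ne_zero
  obtain ⟨p, hp, hpdvd⟩ := WfDvdMonoid.exists_irreducible_factor hnu hne0
  obtain ⟨w, hw0, hw⟩ := exists_ne_zero_aeval_eq_zero (s.restrict hU') p hp hpdvd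
  refine ⟨(w : V), p, fun h0 => hw0 (Subtype.ext h0), hp, ?_, ?_⟩
  · rw [← aeval_restrict s U hU' p w, hw]
    rfl
  · have hle : LinearMap.range (evalAt s (w : V)) ≤ U := by
      rintro _ ⟨r, rfl⟩
      rw [evalAt_apply]
      exact aeval_mem_of_inv s U hU' r _ w.2
    rcases hmin _ (range_evalAt_mem_invtSubmodule s (w : V)) hle with h1 | h1
    · exfalso
      have h2 : (w : V) ∈ LinearMap.range (evalAt s (w : V)) := self_mem_range_evalAt s _
      rw [h1, Submodule.mem_bot] at h2
      exact hw0 (Subtype.ext h2)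
    · exact h1.symm

/-- polynomial version of `exists_commuting_det_cyclic` -/
theorem exists_poly_det_cyclic [Finite K] (g : Module.End K V) {v : V} (hv : v ≠ 0) {p : K[X]}
    (hp : Irreducible p) (hpv : aeval g p v = 0)
    (hU : ∀ x ∈ LinearMap.range (evalAt g v), g x ∈ LinearMap.range (evalAt g v)) (δ : K) :
    ∃ r : K[X], LinearMap.det (aeval (g.restrict hU) r) = δ := by
  have : Fact (Irreducible p) := ⟨hp⟩
  have hfd : FiniteDimensional K (AdjoinRoot p) := (AdjoinRoot.powerBasis hp.ne_zero).finite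
  have hfin : Finite (AdjoinRoot p) := Module.finite_of_finite K
  obtain ⟨u, hu⟩ := FiniteField.norm_surjective K (AdjoinRoot p) δ
  obtain ⟨r, rfl⟩ := AdjoinRoot.mk_surjective u
  set ψ := adjoinRootEquiv g hv hp hpv with hψ
  refine ⟨r, ?_⟩
  have key : aeval (g.restrict hU) r = (ψ : AdjoinRoot p →ₗ[K] _) ∘ₗ
      (LinearMap.mul K (AdjoinRoot p) (AdjoinRoot.mk p r)) ∘ₗ (ψ.symm : _ →ₗ[K] AdjoinRoot p) := by
    apply LinearMap.ext
    intro x
    obtain ⟨y, rfl⟩ := ψ.surjective x
    obtain ⟨t, rfl⟩ := AdjoinRoot.mk_surjective y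
    simp only [LinearMap.coe_comp, LinearEquiv.coe_coe, Function.comp_apply,
      LinearEquiv.symm_apply_apply, LinearMap.mul_apply']
    rw [← map_mul, hψ, adjoinRootEquiv_mk, adjoinRootEquiv_mk]
    apply Subtype.ext
    rw [aeval_restrict]
    show aeval g r (evalAt g v t) = evalAt g v (r * t)
    rw [evalAt_apply, evalAt_apply, map_mul, Module.End.mul_apply]
  rw [key, LinearMap.det_conj, ← hu, Algebra.norm_apply, Algebra.coe_lmul_eq_mul]

end general

end Cfsg.Agent.Helper21.SUD
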