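import Cfsg.Agent.Helper21.SUD2

/-!
# A good pair of minimal invariant subspaces for a semisimple unitary matrix (helper21)
-/

set_option autoImplicit false
set_option linter.unusedSectionVars false

namespace Cfsg.Agent.Helper21.SUD

open Matrix Module Polynomial Cfsg.Agent.Helper21.NS Cfsg.Agent.Helper12

variable {K : Type*} [Field K] {n : ℕ} (σ : K →+* K)

theorem orth_le_symm (hσ2 : ∀ a, σ (σ a) = a) {U X : Submodule K (Fin n → K)}
    (h : U ≤ orth σ X) : X ≤ orth σ U := by
  intro x hx u hu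
  exact hB_eq_zero_symm σ hσ2 (h hu x hx)

theorem hB_unitary {S : Matrix (Fin n) (Fin n) K} (hS : cstar σ S * S = 1) (u w : Fin n → K) :
    hB σ (S *ᵥ u) (S *ᵥ w) = hB σ u w := by
  rw [hB_mulVec, Matrix.mulVec_mulVec, hS, Matrix.one_mulVec]

theorem orth_invariant {S : Matrix (Fin n) (Fin n) K} (hS : cstar σ S * S = 1)
    {U : Submodule K (Fin n → K)} (hU : U ∈ Module.End.invtSubmodule (Matrix.toLin' S)) :
    orth σ U ∈ Module.End.invtSubmodule (Matrix.toLin' S) := by
  have hU' : ∀ x ∈ U, Matrix.toLin' S x ∈ U := fun x hx => hU hx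
  have hinj : Function.Injective ((Matrix.toLin' S).restrict hU') := by
    intro x y hxy
    have h1 := congrArg (fun z : ↥U => (z : Fin n → K)) hxy
    simp only [LinearMap.coe_restrict_apply, Matrix.toLin'_apply] at h1
    have h2 := congrArg (fun z => cstar σ S *ᵥ z) h1
    simp only [Matrix.mulVec_mulVec, hS, Matrix.one_mulVec] at h2
    exact Subtype.ext h2
  have hsurj : Function.Surjective ((Matrix.toLin' S).restrict hU') :=
    LinearMap.injective_iff_surjective.1 hinj
  rw [Module.End.mem_invtSubmodule_iff_forall_mem_of_mem]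
  intro w hw u hu
  obtain ⟨x, hx⟩ := hsurj ⟨u, hu⟩
  have h1 : S *ᵥ (x : Fin n → K) = u := by
    have := congrArg (fun z : ↥U => (z : Fin n → K)) hx
    simpa only [LinearMap.coe_restrict_apply, Matrix.toLin'_apply] using this
  rw [Matrix.toLin'_apply, ← h1, hB_unitary σ hS]
  exact hw _ x.2

/-- the good pair -/
theorem exists_pair [Finite K] (hσ2 : ∀ a, σ (σ a) = a) {S : Matrix (Fin n) (Fin n) K}
    (hS : cstar σ S * S = 1) (hss : Module.End.IsSemisimple (Matrix.toLin' S)) (hn : 0 < n) :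
    ∃ U W : Submodule K (Fin n → K), IsMinInv (Matrix.toLin' S) U ∧
      W ∈ Module.End.invtSubmodule (Matrix.toLin' S) ∧ U ⊓ orth σ W = ⊥ ∧ W ⊓ orth σ U = ⊥ ∧
      (W = U ∨ (U ≤ orth σ U ∧ W ≤ orth σ W)) := by
  have hntV : Nontrivial (Fin n → K) := by
    have : Nonempty (Fin n) := ⟨⟨0, hn⟩⟩
    exact Function.nontrivial
  have htop : (⊤ : Submodule K (Fin n → K)) ≠ ⊥ := top_ne_bot
  obtain ⟨U₀, -, hU₀⟩ := exists_isMinInv (Matrix.toLin' S) ⊤
    (Module.End.invtSubmodule.top_mem _) htop
  have hU₀i := hU₀.1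
  have hoU₀ := orth_invariant σ hS hU₀i
  rcases hU₀.2.2 _ (Module.End.invtSubmodule.inf_mem hU₀i hoU₀) inf_le_left with h1 | h1
  · exact ⟨U₀, U₀, hU₀, hU₀i, h1, h1, Or.inl rfl⟩
  · have hU₀iso : U₀ ≤ orth σ U₀ := by
      have hh : U₀ ⊓ orth σ U₀ ≤ orth σ U₀ := inf_le_right
      rwa [h1] at hh
    obtain ⟨C, hCi, hCc⟩ := Module.End.isSemisimple_iff.1 hss _ hoU₀
    have hdimC : finrank K ↥C = finrank K ↥U₀ := by
      have e1 := Submodule.finrank_add_eq_of_isCompl hCc
      have e2 := finrank_orth σ hσ2 U₀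
      have e3 : finrank K (Fin n → K) = n := by simp
      omega
    have hU₀pos : 0 < finrank K ↥U₀ := by
      have : Nontrivial ↥U₀ := Submodule.nontrivial_iff_ne_bot.2 hU₀.2.1
      exact Module.finrank_pos
    have hC0 : C ≠ ⊥ := by
      intro h
      rw [h, finrank_bot] at hdimC
      omega
    have hCU₀ : C ⊓ orth σ U₀ = ⊥ := by
      rw [inf_comm]
      exact hCc.disjoint.eq_bot
    have hCmin : IsMinInv (Matrix.toLin' S) C := by
      refine ⟨hCi, hC0, ?_⟩
      intro X hX hXC
      by_cases hX0 : X = ⊥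
      · exact Or.inl hX0
      · right
        have hoX := orth_invariant σ hS hX
        rcases hU₀.2.2 _ (Module.End.invtSubmodule.inf_mem hU₀i hoX) inf_le_left with h2 | h2
        · -- dimension count
          have e1 := finrank_orth σ hσ2 X
          have e2 := Submodule.finrank_sup_add_finrank_inf_eq U₀ (orth σ X)
          rw [h2, finrank_bot, add_zero] at e2
          have e3 : finrank K ↥(U₀ ⊔ orth σ X) ≤ finrank K (Fin n → K) := Submodule.finrank_le _
          have e4 : finrank K (Fin n → K) = n := by simp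
          apply Submodule.eq_of_le_of_finrank_le hXC
          omega
        · exfalso
          have h3 : U₀ ≤ orth σ X := by
            have hh : U₀ ⊓ orth σ X ≤ orth σ X := inf_le_right
            rwa [h2] at hh
          have h4 : X ≤ orth σ U₀ := orth_le_symm σ hσ2 h3
          have h5 : X ≤ C ⊓ orth σ U₀ := le_inf hXC h4
          rw [hCU₀] at h5
          exact hX0 (le_bot_iff.1 h5)
    have hoC := orth_invariant σ hS hCi
    rcases hCmin.2.2 _ (Module.End.invtSubmodule.inf_mem hCi hoC) inf_le_left with h6 | h6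
    · exact ⟨C, C, hCmin, hCi, h6, h6, Or.inl rfl⟩
    · have hCiso : C ≤ orth σ C := by
        have hh : C ⊓ orth σ C ≤ orth σ C := inf_le_right
        rwa [h6] at hh
      refine ⟨U₀, C, hU₀, hCi, ?_, hCU₀, Or.inr ⟨hU₀iso, hCiso⟩⟩
      rcases hU₀.2.2 _ (Module.End.invtSubmodule.inf_mem hU₀i hoC) inf_le_left with h7 | h7
      · exact h7
      · exfalso
        have h8 : U₀ ≤ orth σ C := by
          have hh : U₀ ⊓ orth σ C ≤ orth σ C := inf_le_right
          rwa [h7] at hh
        have h9 : C ≤ orth σ U₀ := orth_le_symm σ hσ2 h8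
        have h10 : C ≤ C ⊓ orth σ U₀ := le_inf (le_refl _) h9
        rw [hCU₀] at h10
        exact hC0 (le_bot_iff.1 h10)

end Cfsg.Agent.Helper21.SUD
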