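import Cfsg.Agent.Helper21.SUD3

/-!
# Projections attached to a good pair and their adjoints (helper21)
-/

set_option autoImplicit false
set_option linter.unusedSectionVars false

namespace Cfsg.Agent.Helper21.SUD

open Matrix Module Polynomial Cfsg.Agent.Helper21.NS Cfsg.Agent.Helper12

section proj

variable {K : Type*} [Field K] {V : Type*} [AddCommGroup V] [Module K V]

/-- the projection onto `P` along `Q` -/
noncomputable def projOn (P Q : Submodule K V) (h : IsCompl P Q) : V →ₗ[K] V :=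
  P.subtype ∘ₗ (LinearMap.fst K ↥P ↥Q) ∘ₗ
    ((Submodule.prodEquivOfIsCompl P Q h).symm : V →ₗ[K] (↥P × ↥Q))

theorem projOn_add (P Q : Submodule K V) (h : IsCompl P Q) (a : ↥P) (b : ↥Q) :
    projOn P Q h ((a : V) + (b : V)) = (a : V) := by
  have h1 : (a : V) + (b : V) = Submodule.prodEquivOfIsCompl P Q h (a, b) := by
    rw [Submodule.coe_prodEquivOfIsCompl']
  rw [h1, projOn]
  simp only [LinearMap.coe_comp, LinearEquiv.coe_coe, Function.comp_apply,
    LinearEquiv.symm_apply_apply, LinearMap.fst_apply, Submodule.subtype_apply]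

theorem exists_decomp (P Q : Submodule K V) (h : IsCompl P Q) (x : V) :
    ∃ (a : ↥P) (b : ↥Q), x = (a : V) + (b : V) := by
  obtain ⟨⟨a, b⟩, rfl⟩ := (Submodule.prodEquivOfIsCompl P Q h).surjective x
  exact ⟨a, b, by rw [Submodule.coe_prodEquivOfIsCompl']⟩

theorem projOn_mem (P Q : Submodule K V) (h : IsCompl P Q) (x : V) : projOn P Q h x ∈ P := by
  obtain ⟨a, b, rfl⟩ := exists_decomp P Q h x
  rw [projOn_add]
  exact a.2

theorem sub_projOn_mem (P Q : Submodule K V) (h : IsCompl P Q) (x : V) :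
    x - projOn P Q h x ∈ Q := by
  obtain ⟨a, b, rfl⟩ := exists_decomp P Q h x
  rw [projOn_add, add_sub_cancel_left]
  exact b.2

theorem projOn_of_mem_left (P Q : Submodule K V) (h : IsCompl P Q) {x : V} (hx : x ∈ P) :
    projOn P Q h x = x := by
  have := projOn_add P Q h ⟨x, hx⟩ 0
  simpa using this

theorem projOn_of_mem_right (P Q : Submodule K V) (h : IsCompl P Q) {x : V} (hx : x ∈ Q) :
    projOn P Q h x = 0 := by
  have := projOn_add P Q h 0 ⟨x, hx⟩
  simpa using this

theorem projOn_comm (P Q : Submodule K V) (h : IsCompl P Q) (s : Module.End K V)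
    (hP : ∀ x ∈ P, s x ∈ P) (hQ : ∀ x ∈ Q, s x ∈ Q) (x : V) :
    projOn P Q h (s x) = s (projOn P Q h x) := by
  obtain ⟨a, b, rfl⟩ := exists_decomp P Q h x
  rw [projOn_add, map_add]
  exact projOn_add P Q h ⟨s a, hP _ a.2⟩ ⟨s b, hQ _ b.2⟩

end proj

variable {K : Type*} [Field K] {n : ℕ} (σ : K →+* K)

theorem finrank_eq_of_pair [Finite K] (hσ2 : ∀ a, σ (σ a) = a) {U W : Submodule K (Fin n → K)}
    (h1 : U ⊓ orth σ W = ⊥) (h2 : W ⊓ orth σ U = ⊥) : finrank K ↥U = finrank K ↥W := by
  have e4 : finrank K (Fin n → K) = n := by simp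
  have a1 := finrank_orth σ hσ2 W
  have a2 := Submodule.finrank_sup_add_finrank_inf_eq U (orth σ W)
  rw [h1, finrank_bot, add_zero] at a2
  have a3 : finrank K ↥(U ⊔ orth σ W) ≤ finrank K (Fin n → K) := Submodule.finrank_le _
  have b1 := finrank_orth σ hσ2 U
  have b2 := Submodule.finrank_sup_add_finrank_inf_eq W (orth σ U)
  rw [h2, finrank_bot, add_zero] at b2
  have b3 : finrank K ↥(W ⊔ orth σ U) ≤ finrank K (Fin n → K) := Submodule.finrank_le _
  omega

theorem isCompl_of_pair [Finite K] (hσ2 : ∀ a, σ (σ a) = a) {U W : Submodule K (Fin n → K)}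
    (h1 : U ⊓ orth σ W = ⊥) (h2 : W ⊓ orth σ U = ⊥) : IsCompl U (orth σ W) := by
  rw [Submodule.isCompl_iff_disjoint]
  · exact disjoint_iff.2 h1
  · have e4 : finrank K (Fin n → K) = n := by simp
    have a1 := finrank_orth σ hσ2 W
    have a2 := finrank_eq_of_pair σ hσ2 h1 h2
    omega

/-- the two projections of a pair are adjoint -/
theorem hB_projOn [Finite K] (hσ2 : ∀ a, σ (σ a) = a) {U W : Submodule K (Fin n → K)}
    (hU : IsCompl U (orth σ W)) (hW : IsCompl W (orth σ U)) (x y : Fin n → K) :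
    hB σ (projOn U (orth σ W) hU x) y = hB σ x (projOn W (orth σ U) hW y) := by
  have e1 : hB σ (projOn U (orth σ W) hU x) y =
      hB σ (projOn U (orth σ W) hU x) (projOn W (orth σ U) hW y) := by
    have : y = projOn W (orth σ U) hW y + (y - projOn W (orth σ U) hW y) := by abel
    conv_lhs => rw [this]
    rw [hB_add_right, (sub_projOn_mem W (orth σ U) hW y) _ (projOn_mem U (orth σ W) hU x),
      add_zero]
  have e2 : hB σ x (projOn W (orth σ U) hW y) =
      hB σ (projOn U (orth σ W) hU x) (projOn W (orth σ U) hW y) := by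
    have : x = projOn U (orth σ W) hU x + (x - projOn U (orth σ W) hU x) := by abel
    conv_lhs => rw [this]
    rw [hB_add_left, hB_eq_zero_symm σ hσ2
      ((sub_projOn_mem U (orth σ W) hU x) _ (projOn_mem W (orth σ U) hW y)), add_zero]
  rw [e1, e2]

end Cfsg.Agent.Helper21.SUD
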