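import Cfsg.Agent.Helper21.SUD4

/-!
# Unitary elements of prescribed determinant in the centraliser of a semisimple unitary matrix
(helper21)
-/

set_option autoImplicit false
set_option linter.unusedSectionVars false

namespace Cfsg.Agent.Helper21.SUD

open Matrix Module Polynomial Cfsg.Agent.Helper21.NS Cfsg.Agent.Helper21.UJ Cfsg.Agent.Helper12

section alg

variable {K : Type*} [Field K] {A : Type*} [Ring A] [Algebra K A]

theorem commute_aeval (x y : A) (h : Commute x y) (r : K[X]) : Commute x (aeval y r) := by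
  induction r using Polynomial.induction_on with
  | C a =>
    rw [aeval_C]
    exact (Algebra.commutes a x).symm
  | add p q hp hq =>
    rw [map_add]
    exact hp.add_right hq
  | monomial k a ih =>
    have e2 : aeval y (C a * X ^ (k + 1)) = aeval y (C a * X ^ k) * y := by
      rw [pow_succ, ← mul_assoc, map_mul, aeval_X]
    rw [e2]
    exact ih.mul_right h

end alg

variable {K : Type*} [Field K] {n : ℕ} (σ : K →+* K)

theorem aeval_toLin' (S : Matrix (Fin n) (Fin n) K) (r : K[X]) :
    aeval (Matrix.toLin' S) r = Matrix.toLin' (aeval S r) :=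
  Polynomial.aeval_algHom_apply
    (Matrix.toLinAlgEquiv' : Matrix (Fin n) (Fin n) K ≃ₐ[K] _).toAlgHom S r

theorem commute_cstar (_hσ2 : ∀ a, σ (σ a) = a) {X Y : Matrix (Fin n) (Fin n) K}
    (h : Commute X Y) : Commute (cstar σ X) (cstar σ Y) := by
  have h1 : cstar σ (Y * X) = cstar σ (X * Y) := by rw [h.eq]
  rw [cstar_mul, cstar_mul] at h1
  exact h1

/-- a matrix commuting with a unitary matrix commutes with its adjoint -/
theorem commute_cstar_of_unitary {S X : Matrix (Fin n) (Fin n) K} (hS : cstar σ S * S = 1)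
    (h : Commute X S) : Commute X (cstar σ S) := by
  have hS' : S * cstar σ S = 1 := mul_eq_one_comm.1 hS
  show X * cstar σ S = cstar σ S * X
  calc X * cstar σ S = cstar σ S * S * (X * cstar σ S) := by rw [hS, Matrix.one_mul]
    _ = cstar σ S * (S * X) * cstar σ S := by simp only [Matrix.mul_assoc]
    _ = cstar σ S * (X * S) * cstar σ S := by rw [h.eq]
    _ = cstar σ S * X * (S * cstar σ S) := by simp only [Matrix.mul_assoc]
    _ = cstar σ S * X := by rw [hS', Matrix.mul_one]

/-- the key algebraic step: from a normal idempotent commuting with `S` -/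
theorem unitary_of_normal (hσ2 : ∀ a, σ (σ a) = a) {S P R : Matrix (Fin n) (Fin n) K}
    (hS : cstar σ S * S = 1) (hPS : Commute P S) (hPP : Commute P (cstar σ P))
    (hRS : Commute R S) (hRP : Commute R P) (hRP' : Commute R (cstar σ P))
    (hRR : Commute R (cstar σ R))
    (hdet : (1 + (R - 1) * P).det ≠ 0) :
    ∃ Z : Matrix (Fin n) (Fin n) K, cstar σ Z * Z = 1 ∧ Z * S = S * Z ∧
      Z.det = (1 + (R - 1) * P).det * (σ (1 + (R - 1) * P).det)⁻¹ := by
  set A := 1 + (R - 1) * P with hA
  have hAu : IsUnit A.det := isUnit_iff_ne_zero.2 hdet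
  have hAA1 : A * A⁻¹ = 1 := Matrix.mul_nonsing_inv A hAu
  have hAA2 : A⁻¹ * A = 1 := Matrix.nonsing_inv_mul A hAu
  have hcA : cstar σ A = 1 + cstar σ P * (cstar σ R - 1) := by
    rw [hA, cstar_add, cstar_one, cstar_mul, cstar_sub, cstar_one]
  -- commutations
  have hP'R' : Commute (cstar σ P) (cstar σ R) := (commute_cstar σ hσ2 hRP).symm
  have hPR' : Commute P (cstar σ R) := by
    have := commute_cstar σ hσ2 hRP'
    rw [cstar_cstar σ hσ2] at this
    exact this.symm
  have hnorm : Commute A (cstar σ A) := by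
    rw [hcA, hA]
    have c1 : Commute ((R - 1) * P) (cstar σ P * (cstar σ R - 1)) := by
      apply Commute.mul_left
      · apply Commute.mul_right
        · exact (hRP'.sub_left (Commute.one_left _))
        · exact (hRR.sub_left (Commute.one_left _)).sub_right (Commute.one_right _)
      · apply Commute.mul_right
        · exact hPP
        · exact hPR'.sub_right (Commute.one_right _)
    exact (Commute.one_right _).add_right ((Commute.one_left _).add_left c1)
  -- the adjoint of the inverse
  have hinvc : cstar σ A⁻¹ * cstar σ A = 1 := by rw [← cstar_mul, hAA1, cstar_one]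
  have hinvc' : cstar σ A * cstar σ A⁻¹ = 1 := by rw [← cstar_mul, hAA2, cstar_one]
  refine ⟨A * cstar σ A⁻¹, ?_, ?_, ?_⟩
  · rw [cstar_mul, cstar_cstar σ hσ2]
    calc A⁻¹ * cstar σ A * (A * cstar σ A⁻¹) = A⁻¹ * (cstar σ A * A) * cstar σ A⁻¹ := by
          simp only [Matrix.mul_assoc]
      _ = A⁻¹ * (A * cstar σ A) * cstar σ A⁻¹ := by rw [hnorm.eq]
      _ = (A⁻¹ * A) * (cstar σ A * cstar σ A⁻¹) := by simp only [Matrix.mul_assoc]
      _ = 1 := by rw [hAA2, hinvc', Matrix.mul_one]
  · -- commutes with S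
    have hAS : Commute A S := by
      rw [hA]
      exact (Commute.one_left _).add_left
        (((hRS.sub_left (Commute.one_left _))).mul_left hPS)
    have hAS' : Commute A (cstar σ S) := commute_cstar_of_unitary σ hS hAS
    have hAiS' : Commute A⁻¹ (cstar σ S) := by
      show A⁻¹ * cstar σ S = cstar σ S * A⁻¹
      calc A⁻¹ * cstar σ S = A⁻¹ * cstar σ S * (A * A⁻¹) := by rw [hAA1, Matrix.mul_one]
        _ = A⁻¹ * (cstar σ S * A) * A⁻¹ := by simp only [Matrix.mul_assoc]
        _ = A⁻¹ * (A * cstar σ S) * A⁻¹ := by rw [hAS'.eq]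
        _ = (A⁻¹ * A) * cstar σ S * A⁻¹ := by simp only [Matrix.mul_assoc]
        _ = cstar σ S * A⁻¹ := by rw [hAA2, Matrix.one_mul]
    have hcAiS : Commute (cstar σ A⁻¹) S := by
      have := commute_cstar σ hσ2 hAiS'
      rw [cstar_cstar σ hσ2] at this
      exact this
    exact (hAS.mul_left hcAiS).eq
  · rw [Matrix.det_mul]
    congr 1
    have h1 : (cstar σ A⁻¹).det = σ (A⁻¹.det) := by
      rw [cstar, Matrix.det_transpose]
      exact (RingHom.map_det σ A⁻¹).symm
    rw [h1, Matrix.det_nonsing_inv, Ring.inverse_eq_inv', map_inv₀]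

end Cfsg.Agent.Helper21.SUD
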