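import Cfsg.Agent.Helper21.SUD5

/-!
# The determinant is onto on unitary centralisers of semisimple elements (helper21)
-/

set_option autoImplicit false
set_option linter.unusedSectionVars false

namespace Cfsg.Agent.Helper21.SUD

open Matrix Module Polynomial Cfsg.Agent.Helper21.NS Cfsg.Agent.Helper21.UJ Cfsg.Agent.Helper12

section proj

variable {K : Type*} [Field K] {V : Type*} [AddCommGroup V] [Module K V]

theorem projOn_congr (P Q P' Q' : Submodule K V) (h : IsCompl P Q) (h' : IsCompl P' Q')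
    (hP : P = P') (hQ : Q = Q') : projOn P Q h = projOn P' Q' h' := by
  subst hP hQ
  rfl

end proj

variable {K : Type*} [Field K] {n : ℕ} (σ : K →+* K)

theorem eq_of_mulVec {M M' : Matrix (Fin n) (Fin n) K} (h1 : ∀ w, M *ᵥ w = M' *ᵥ w) :
    M = M' := by
  ext i j
  have := congrFun (h1 (Pi.single j 1)) i
  simpa using this

theorem exists_commuting_unitary [Finite K] (hσ2 : ∀ a, σ (σ a) = a)
    {S : Matrix (Fin n) (Fin n) K} (hS : cstar σ S * S = 1)
    (hss : Module.End.IsSemisimple (Matrix.toLin' S)) (hn : 0 < n) (μ : K) (hμ : μ ≠ 0) :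
    ∃ Z : Matrix (Fin n) (Fin n) K, cstar σ Z * Z = 1 ∧ Z * S = S * Z ∧
      Z.det = μ * (σ μ)⁻¹ := by
  obtain ⟨U, W, hUmin, hWi, h1, h2, hcase⟩ := exists_pair σ hσ2 hS hss hn
  obtain ⟨v, p, hv, hp, hpv, rfl⟩ := hUmin.exists_cyclic
  have hUc := isCompl_of_pair σ hσ2 h1 h2
  have hWc := isCompl_of_pair σ hσ2 h2 h1
  have hUi := hUmin.1
  have hoW := orth_invariant σ hS hWi
  have hoU := orth_invariant σ hS hUi
  have hUr : ∀ x ∈ LinearMap.range (evalAt (Matrix.toLin' S) v),
      Matrix.toLin' S x ∈ LinearMap.range (evalAt (Matrix.toLin' S) v) := fun x hx => hUi hx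
  have hWr : ∀ x ∈ W, Matrix.toLin' S x ∈ W := fun x hx => hWi hx
  have hoWr : ∀ x ∈ orth σ W, Matrix.toLin' S x ∈ orth σ W := fun x hx => hoW hx
  have hoUr : ∀ x ∈ orth σ (LinearMap.range (evalAt (Matrix.toLin' S) v)),
      Matrix.toLin' S x ∈ orth σ (LinearMap.range (evalAt (Matrix.toLin' S) v)) :=
    fun x hx => hoU hx
  obtain ⟨P, hPdef⟩ : ∃ P : Matrix (Fin n) (Fin n) K, P = LinearMap.toMatrix'
    (projOn (LinearMap.range (evalAt (Matrix.toLin' S) v)) (orth σ W) hUc) := ⟨_, rfl⟩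
  obtain ⟨P', hP'def⟩ : ∃ P' : Matrix (Fin n) (Fin n) K, P' = LinearMap.toMatrix'
    (projOn W (orth σ (LinearMap.range (evalAt (Matrix.toLin' S) v))) hWc) := ⟨_, rfl⟩
  have hPv : ∀ x, P *ᵥ x =
      projOn (LinearMap.range (evalAt (Matrix.toLin' S) v)) (orth σ W) hUc x := by
    intro x
    rw [hPdef]
    exact LinearMap.toMatrix'_mulVec _ x
  have hP'v : ∀ x, P' *ᵥ x =
      projOn W (orth σ (LinearMap.range (evalAt (Matrix.toLin' S) v))) hWc x := by
    intro x
    rw [hP'def]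
    exact LinearMap.toMatrix'_mulVec _ x
  have hP' : cstar σ P = P' := by
    apply eq_of_hB σ
    intro u w
    rw [← hB_mulVec, hPv, hP'v]
    exact hB_projOn σ hσ2 hUc hWc u w
  have hPS : Commute P S := by
    apply eq_of_mulVec
    intro x
    rw [← Matrix.mulVec_mulVec, ← Matrix.mulVec_mulVec, hPv, hPv, ← Matrix.toLin'_apply S,
      ← Matrix.toLin'_apply S]
    exact projOn_comm _ _ hUc (Matrix.toLin' S) hUr hoWr x
  have hPP : Commute P (cstar σ P) := by
    rw [hP']
    apply eq_of_mulVec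
    intro x
    rw [← Matrix.mulVec_mulVec, ← Matrix.mulVec_mulVec, hPv, hPv, hP'v, hP'v]
    rcases hcase with hWU | ⟨hUiso, hWiso⟩
    · have e1 := projOn_congr _ _ _ _ hWc hUc hWU (by rw [hWU])
      rw [e1]
    · rw [projOn_of_mem_right _ _ hUc (hWiso (projOn_mem _ _ hWc x)),
        projOn_of_mem_right _ _ hWc (hUiso (projOn_mem _ _ hUc x))]
  obtain ⟨r, hr⟩ := exists_poly_det_cyclic (Matrix.toLin' S) hv hp hpv hUr μ
  obtain ⟨R, hRdef⟩ : ∃ R : Matrix (Fin n) (Fin n) K, R = aeval S r := ⟨_, rfl⟩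
  have hRS : Commute R S := by
    rw [hRdef]
    exact (commute_aeval S S (Commute.refl S) r).symm
  have hRP : Commute R P := by
    rw [hRdef]
    exact (commute_aeval P S hPS r).symm
  have hP'S : Commute (cstar σ P) S := by
    have := commute_cstar σ hσ2 (commute_cstar_of_unitary σ hS hPS)
    rwa [cstar_cstar σ hσ2] at this
  have hRP' : Commute R (cstar σ P) := by
    rw [hRdef]
    exact (commute_aeval (cstar σ P) S hP'S r).symm
  have hRR : Commute R (cstar σ R) := by
    have h1 : Commute R (cstar σ S) := commute_cstar_of_unitary σ hS hRS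
    have h2 : Commute (cstar σ R) S := by
      have := commute_cstar σ hσ2 h1
      rwa [cstar_cstar σ hσ2] at this
    have h3 := commute_aeval (cstar σ R) S h2 r
    rw [← hRdef] at h3
    exact h3.symm
  have hdetA : (1 + (R - 1) * P).det = μ := by
    rw [← LinearMap.det_toLin']
    have key : Matrix.toLin' (1 + (R - 1) * P) =
        ((Submodule.prodEquivOfIsCompl _ _ hUc : _ ≃ₗ[K] (Fin n → K)) : _ →ₗ[K] (Fin n → K)) ∘ₗ
        ((aeval ((Matrix.toLin' S).restrict hUr) r).prodMap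
          (LinearMap.id : ↥(orth σ W) →ₗ[K] ↥(orth σ W))) ∘ₗ
        (((Submodule.prodEquivOfIsCompl _ _ hUc).symm : (Fin n → K) ≃ₗ[K] _) :
          (Fin n → K) →ₗ[K] _) := by
      apply LinearMap.ext
      intro x
      obtain ⟨⟨a, b⟩, rfl⟩ := (Submodule.prodEquivOfIsCompl _ _ hUc).surjective x
      simp only [LinearMap.coe_comp, LinearEquiv.coe_coe, Function.comp_apply,
        LinearEquiv.symm_apply_apply, LinearMap.prodMap_apply, LinearMap.id_apply]
      rw [Submodule.coe_prodEquivOfIsCompl', Submodule.coe_prodEquivOfIsCompl', aeval_restrict,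
        aeval_toLin', Matrix.toLin'_apply, Matrix.toLin'_apply, Matrix.add_mulVec,
        Matrix.one_mulVec, ← Matrix.mulVec_mulVec, hPv, projOn_add, Matrix.sub_mulVec,
        Matrix.one_mulVec, hRdef]
      abel
    rw [key, LinearMap.det_conj, LinearMap.det_prodMap, LinearMap.det_id, mul_one, hr]
  obtain ⟨Z, hZ1, hZ2, hZ3⟩ := unitary_of_normal σ hσ2 hS hPS hPP hRS hRP hRP' hRR
    (by rw [hdetA]; exact hμ)
  exact ⟨Z, hZ1, hZ2, by rw [hZ3, hdetA]⟩

end Cfsg.Agent.Helper21.SUD
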