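import Mathlib

/-!
# Splitting of a conjugacy class in a normal subgroup (helper21)

`ι : S →* G` injective with image the kernel of a surjection `φ : G →* A` onto a commutative
group.  The `S`-classes of elements whose image is `G`-conjugate to `ι x0` are in bijection with
`A ⧸ φ(C_G(ι x0))`.
-/

set_option autoImplicit false

namespace Cfsg.Agent.Helper21.SUReg

theorem card_classes_of_normal {S G A : Type*} [Group S] [Group G] [CommGroup A]
    (ι : S →* G) (hι : Function.Injective ι) (φ : G →* A) (hφ : Function.Surjective φ)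
    (hker : ∀ g, φ g = 1 ↔ g ∈ ι.range) (x0 : S) (P : S → Prop)
    (hP : ∀ s, P s ↔ IsConj (ι s) (ι x0)) :
    Nat.card {C : ConjClasses S // ∃ s, ConjClasses.mk s = C ∧ P s}
      = ((Subgroup.centralizer {ι x0}).map φ).index := by
  classical
  obtain ⟨B, hB⟩ : ∃ B : Subgroup A, B = (Subgroup.centralizer {ι x0}).map φ := ⟨_, rfl⟩
  rw [← hB]
  have hex : ∀ s, P s → ∃ g : G, g * ι x0 * g⁻¹ = ι s := by
    intro s hs
    obtain ⟨g, hg⟩ := isConj_iff.1 ((hP s).1 hs).symm
    exact ⟨g, hg⟩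
  -- the basic comparison
  have key : ∀ (s s' : S) (g g' : G), g * ι x0 * g⁻¹ = ι s → g' * ι x0 * g'⁻¹ = ι s' →
      (IsConj s s' ↔ (φ g)⁻¹ * φ g' ∈ B) := by
    intro s s' g g' hg hg'
    constructor
    · intro h
      obtain ⟨t, ht⟩ := isConj_iff.1 h
      rw [hB]
      refine ⟨g⁻¹ * (ι t)⁻¹ * g', ?_, ?_⟩
      · rw [SetLike.mem_coe, Subgroup.mem_centralizer_iff]
        intro y hy
        rw [Set.mem_singleton_iff] at hy
        subst hy
        have h1 : ι t * ι s * (ι t)⁻¹ = ι s' := by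
          rw [← map_inv, ← map_mul, ← map_mul, ht]
        rw [← hg, ← hg'] at h1
        have h2 : ι x0 = g⁻¹ * (ι t)⁻¹ * (g' * ι x0 * g'⁻¹) * ι t * g := by
          rw [← h1]
          group
        calc ι x0 * (g⁻¹ * (ι t)⁻¹ * g')
            = (g⁻¹ * (ι t)⁻¹ * (g' * ι x0 * g'⁻¹) * ι t * g) * (g⁻¹ * (ι t)⁻¹ * g') := by
              rw [← h2]
          _ = g⁻¹ * (ι t)⁻¹ * g' * ι x0 := by group
      · have ht1 : φ (ι t) = 1 := (hker _).2 ⟨t, rfl⟩
        rw [map_mul, map_mul, map_inv, map_inv, ht1, inv_one, mul_one]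
    · intro h
      rw [hB] at h
      obtain ⟨c, hc, hcφ⟩ := h
      rw [SetLike.mem_coe, Subgroup.mem_centralizer_iff] at hc
      have hc' : c * ι x0 = ι x0 * c := (hc _ rfl).symm
      have h1 : φ (g' * c⁻¹ * g⁻¹) = 1 := by
        rw [map_mul, map_mul, map_inv, map_inv, hcφ]
        rw [mul_inv_rev, inv_inv]
        group
      obtain ⟨t, ht⟩ := (hker _).1 h1
      rw [isConj_iff]
      refine ⟨t, hι ?_⟩
      rw [map_mul, map_mul, map_inv, ht, ← hg, ← hg']
      have h2 : c⁻¹ * ι x0 * c = ι x0 := by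
        rw [mul_assoc, ← hc', inv_mul_cancel_left]
      calc g' * c⁻¹ * g⁻¹ * (g * ι x0 * g⁻¹) * (g' * c⁻¹ * g⁻¹)⁻¹
          = g' * (c⁻¹ * ι x0 * c) * g'⁻¹ := by group
        _ = g' * ι x0 * g'⁻¹ := by rw [h2]
  let f : {C : ConjClasses S // ∃ s, ConjClasses.mk s = C ∧ P s} → A ⧸ B := fun C =>
    QuotientGroup.mk (φ (Classical.choose (hex _ (Classical.choose_spec C.2).2)))
  rw [Subgroup.index]
  apply Nat.card_congr
  refine Equiv.ofBijective f ⟨?_, ?_⟩
  · rintro ⟨C, hC⟩ ⟨C', hC'⟩ h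
    have hs := Classical.choose_spec hC
    have hs' := Classical.choose_spec hC'
    have hg := Classical.choose_spec (hex _ hs.2)
    have hg' := Classical.choose_spec (hex _ hs'.2)
    have h1 : (φ (Classical.choose (hex _ hs.2)))⁻¹ * φ (Classical.choose (hex _ hs'.2)) ∈ B :=
      QuotientGroup.eq.1 h
    have h2 := (key _ _ _ _ hg hg').2 h1
    apply Subtype.ext
    show C = C'
    rw [← hs.1, ← hs'.1, ConjClasses.mk_eq_mk_iff_isConj]
    exact h2
  · intro a
    obtain ⟨a, rfl⟩ := QuotientGroup.mk_surjective a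
    obtain ⟨g, rfl⟩ := hφ a
    have h1 : φ (g * ι x0 * g⁻¹) = 1 := by
      have hx0 : φ (ι x0) = 1 := (hker _).2 ⟨x0, rfl⟩
      rw [map_mul, map_mul, map_inv, hx0, mul_one, mul_inv_cancel]
    obtain ⟨s, hs⟩ := (hker _).1 h1
    have hPs : P s := by
      rw [hP, hs]
      exact isConj_iff.2 ⟨g⁻¹, by group⟩
    have hC : ∃ s', ConjClasses.mk s' = ConjClasses.mk s ∧ P s' := ⟨s, rfl, hPs⟩
    refine ⟨⟨ConjClasses.mk s, hC⟩, ?_⟩
    have hs' := Classical.choose_spec hC
    have hg' := Classical.choose_spec (hex _ hs'.2)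
    have h2 : IsConj (Classical.choose hC) s := ConjClasses.mk_eq_mk_iff_isConj.1 hs'.1
    have h3 := (key _ _ _ _ hg' hs.symm).1 h2
    exact QuotientGroup.eq.2 h3

end Cfsg.Agent.Helper21.SUReg
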