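import Mathlib
import Cfsg.Agent.Helper27.Suz2Defs
import Cfsg.Agent.Helper19.Suz2B0
import Cfsg.Agent.Helper13.ThUPPER

/-!
# SUZ2 board, piece CW: `|P| ≤ q³` by Chevalley–Warning (blueprint section 9), via
`Helper13.Th.relIndex_le_of_anisotropic`.
-/

set_option autoImplicit false

namespace Cfsg.Agent.SUZ2P

open Cfsg.Agent.Helper17.Suz2 Cfsg.Agent.SUZ2P

universe u v

variable {K : Type v} {P : Type u} [Group K] [Group P] [MulDistribMulAction K P]

set_option linter.unusedVariables false in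
theorem S1138_cw (hS : Star K P) (hna : NonAb P) (hH : HConc P) :
    Nat.card P ≤ Nat.card (Om P) ^ 3 := by
  have := hS.fin
  obtain ⟨n, -, hn, -⟩ := B0_card hS
  have h := Cfsg.Agent.Helper13.Th.relIndex_le_of_anisotropic (⊤ : Subgroup P) (Om P) le_top n hn
    (fun v hv x _ => (Subgroup.mem_center_iff.mp hv.1 x).symm)
    (fun x _ => by rw [pow_two]; exact hH.1 x)
    (fun x _ hx => (B0_mem_Om hS).2 (by rwa [pow_two] at hx))
  rw [Subgroup.relIndex_top_right] at h
  have h4 : (4 : ℕ) ^ n = (2 ^ n) ^ 2 := by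
    rw [← pow_mul, mul_comm, pow_mul]; norm_num
  calc Nat.card P = Nat.card (Om P) * (Om P).index := (Subgroup.card_mul_index (Om P)).symm
    _ ≤ Nat.card (Om P) * 4 ^ n := Nat.mul_le_mul_left _ h
    _ = Nat.card (Om P) ^ 3 := by rw [hn, h4]; ring

end Cfsg.Agent.SUZ2P
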