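import Cfsg.Agent.Helper12.SzTDefs
import Cfsg.Agent.Helper12.SZTARITH
import Cfsg.Agent.Helper12.SZTTYPES
import Cfsg.Agent.Helper12.SZTVAL
import Cfsg.Agent.Helper1.SZTREM
import Cfsg.Agent.Helper3.SZTCENT
import Cfsg.Agent.Helper18.SZTDUALIND
import Cfsg.Agent.Helper24.SZTORBIND

set_option autoImplicit false
set_option linter.unusedSimpArgs false
set_option linter.unusedSectionVars false

/-! SZT piece REM2S: the remainders of the column orthogonality relations on the `2`-singular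
classes. -/

namespace Cfsg.Agent.SZT

open Cfsg Cfsg.Agent.Helper11.SCTI Cfsg.Agent.Helper24
open scoped Classical ComplexConjugate

universe u

variable {G : Type u} [Group G] [Fintype G]

/-- the sum of a constant over the non-trivial characters -/
theorem REM2S_sum_const {A : Subgroup G} (hA : SC A) (c : ℂ) :
    ∑ θ : A →* ℂˣ, (if θ = 1 then 0 else c) = ((Nat.card A : ℂ) - 1) * c := by
  have h1 := card_dual_ne_one hA
  rw [Finset.sum_ite, Finset.sum_const_zero, zero_add, Finset.sum_const, nsmul_eq_mul]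
  congr 1
  have h2 : (Finset.univ.filter (fun θ : A →* ℂˣ => ¬ θ = 1)).card =
      Nat.card {θ : A →* ℂˣ // θ ≠ 1} := by
    rw [Nat.card_eq_fintype_card, Fintype.card_subtype]
  rw [h2, h1, Nat.cast_sub Nat.card_pos, Nat.cast_one]

namespace Cfg

variable (C : Cfg G)

theorem REM2S_cardA0 : (Nat.card C.A0 : ℂ) = (C.q : ℂ) - 1 := by
  rw [C.card_A0, C.cast_n0]

theorem REM2S_cardA1 : (Nat.card C.A1 : ℂ) = (C.q : ℂ) + C.r + 1 := by
  rw [C.card_A1]
  push_cast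
  ring

theorem REM2S_cardA2 : (Nat.card C.A2 : ℂ) = (C.q : ℂ) + 1 - C.r := by
  rw [C.card_A2, C.cast_n2]

theorem REM2S_cardG : (Nat.card G : ℂ) =
    (C.q : ℂ) ^ 2 * ((C.q : ℂ) - 1) * ((C.q : ℂ) ^ 2 + 1) := by
  rw [C.card_G]
  push_cast
  rw [C.cast_n0]

theorem REM2S_not_conj_one {g : G} (hg : g ≠ 1) : ¬ IsConj (1 : G) g := by
  intro h
  apply hg
  exact (isConj_one_right.mp h)

theorem REM2S_ne_one_of_order {g : G} {n : ℕ} (hn : n ≠ 1) (hg : orderOf g = n) : g ≠ 1 := by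
  intro h
  rw [h, orderOf_one] at hg
  exact hn hg.symm

/-- remainders on `2`-singular pairs (all family sums are constant) -/
theorem rem_one_one {W₁ W₂ : G → ℂ} (h : C.IsRest W₁ W₂) :
    W₁ 1 * conj (W₁ 1) + W₂ 1 * conj (W₂ 1) = (C.q : ℂ) * ((C.q : ℂ) - 1) ^ 2 := by
  rw [C.rem_eq h 1 1, if_pos (IsConj.refl (1 : G))]
  have hc : Nat.card (Subgroup.centralizer ({(1 : G)} : Set G)) = Nat.card G := by
    have : Subgroup.centralizer ({(1 : G)} : Set G) = ⊤ := by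
      ext x
      simp [Subgroup.mem_centralizer_iff]
    rw [this, Subgroup.card_top]
  rw [hc]
  simp only [C.cX_one, C.cF0_one, C.cF1_one, C.cF2_one, map_add, map_sub, map_mul, map_pow,
    map_one, Complex.conj_natCast]
  rw [REM2S_sum_const C.sc_A0, REM2S_sum_const C.sc_A1, REM2S_sum_const C.sc_A2, C.REM2S_cardA0,
    C.REM2S_cardA1, C.REM2S_cardA2, C.REM2S_cardG]
  linear_combination (1 - (3 / 2 : ℂ) * (C.q : ℂ) + (1 / 2 : ℂ) * (C.q : ℂ) ^ 3) * C.hrC

theorem rem_one_two {W₁ W₂ : G → ℂ} (h : C.IsRest W₁ W₂) {g : G} (hg : orderOf g = 2) :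
    W₁ 1 * conj (W₁ g) + W₂ 1 * conj (W₂ g) = -((C.q : ℂ) * ((C.q : ℂ) - 1)) := by
  rw [C.rem_eq h 1 g, if_neg (REM2S_not_conj_one (REM2S_ne_one_of_order (by norm_num) hg))]
  simp only [C.cX_one, C.cF0_one, C.cF1_one, C.cF2_one, C.cX_two hg, C.cF0_two _ hg,
    C.cF1_two _ hg, C.cF2_two _ hg, map_add, map_sub, map_mul, map_pow, map_neg,
    map_one, map_zero, Complex.conj_natCast]
  rw [REM2S_sum_const C.sc_A0, REM2S_sum_const C.sc_A1, REM2S_sum_const C.sc_A2, C.REM2S_cardA0,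
    C.REM2S_cardA1, C.REM2S_cardA2]
  linear_combination (1 - (C.q : ℂ)) * C.hrC

theorem rem_two_two {W₁ W₂ : G → ℂ} (h : C.IsRest W₁ W₂) {g : G} (hg : orderOf g = 2) :
    W₁ g * conj (W₁ g) + W₂ g * conj (W₂ g) = (C.q : ℂ) := by
  rw [C.rem_eq h g g, if_pos (IsConj.refl g), C.card_centralizer_two hg]
  simp only [C.cX_two hg, C.cF0_two _ hg,
    C.cF1_two _ hg, C.cF2_two _ hg, map_add, map_sub, map_mul, map_pow, map_neg,
    map_one, map_zero, Complex.conj_natCast]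
  rw [REM2S_sum_const C.sc_A0, REM2S_sum_const C.sc_A1, REM2S_sum_const C.sc_A2, C.REM2S_cardA0,
    C.REM2S_cardA1, C.REM2S_cardA2]
  push_cast
  linear_combination (1 - (1 / 2 : ℂ) * (C.q : ℂ)) * C.hrC

theorem rem_one_four {W₁ W₂ : G → ℂ} (h : C.IsRest W₁ W₂) {g : G} (hg : orderOf g = 4) :
    W₁ 1 * conj (W₁ g) + W₂ 1 * conj (W₂ g) = 0 := by
  rw [C.rem_eq h 1 g, if_neg (REM2S_not_conj_one (REM2S_ne_one_of_order (by norm_num) hg))]
  simp only [C.cX_one, C.cF0_one, C.cF1_one, C.cF2_one, C.cX_four hg, C.cF0_four _ hg,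
    C.cF1_four _ hg, C.cF2_four _ hg, map_add, map_sub, map_mul, map_pow, map_neg,
    map_one, map_zero, Complex.conj_natCast]
  rw [REM2S_sum_const C.sc_A0, REM2S_sum_const C.sc_A1, REM2S_sum_const C.sc_A2, C.REM2S_cardA0,
    C.REM2S_cardA1, C.REM2S_cardA2]
  linear_combination ((1 / 2 : ℂ) - (1 / 2 : ℂ) * (C.q : ℂ)) * C.hrC

theorem rem_four_four {W₁ W₂ : G → ℂ} (h : C.IsRest W₁ W₂) {g : G} (hg : orderOf g = 4) :
    W₁ g * conj (W₁ g) + W₂ g * conj (W₂ g) = (C.q : ℂ) := by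
  rw [C.rem_eq h g g, if_pos (IsConj.refl g), C.card_centralizer_four hg]
  simp only [C.cX_four hg, C.cF0_four _ hg,
    C.cF1_four _ hg, C.cF2_four _ hg, map_add, map_sub, map_mul, map_pow, map_neg,
    map_one, map_zero, Complex.conj_natCast]
  rw [REM2S_sum_const C.sc_A0, REM2S_sum_const C.sc_A1, REM2S_sum_const C.sc_A2, C.REM2S_cardA0,
    C.REM2S_cardA1, C.REM2S_cardA2]
  push_cast
  ring

theorem rem_four_inv {W₁ W₂ : G → ℂ} (h : C.IsRest W₁ W₂) {g : G} (hg : orderOf g = 4) :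
    W₁ g * conj (W₁ g⁻¹) + W₂ g * conj (W₂ g⁻¹) = -(C.q : ℂ) := by
  have hg' : orderOf g⁻¹ = 4 := by rw [orderOf_inv, hg]
  rw [C.rem_eq h g g⁻¹, if_neg (C.four_not_real g hg)]
  simp only [C.cX_four hg, C.cF0_four _ hg, C.cX_four hg', C.cF0_four _ hg',
    C.cF1_four _ hg', C.cF2_four _ hg',
    C.cF1_four _ hg, C.cF2_four _ hg, map_add, map_sub, map_mul, map_pow, map_neg,
    map_one, map_zero, Complex.conj_natCast]
  rw [REM2S_sum_const C.sc_A0, REM2S_sum_const C.sc_A1, REM2S_sum_const C.sc_A2, C.REM2S_cardA0,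
    C.REM2S_cardA1, C.REM2S_cardA2]
  ring

end Cfg

end Cfsg.Agent.SZT
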