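import Cfsg.Agent.Helper21.SZTREM2S

set_option autoImplicit false
set_option linter.unusedSimpArgs false
set_option linter.unusedSectionVars false

/-! SZT piece REMT0: the remainders of the column orthogonality relations on the classes meeting
`A0`; generic helper lemmas for REMT1, REMT2. -/

namespace Cfsg.Agent.SZT

open Cfsg Cfsg.Agent.Helper11.SCTI Cfsg.Agent.Helper24
open scoped Classical ComplexConjugate

universe u

variable {G : Type u} [Group G] [Fintype G]

/-- a sum over the non-trivial characters -/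
theorem REMT_sum_ne_one {A : Subgroup G} (f : (A →* ℂˣ) → ℂ) :
    ∑ θ : A →* ℂˣ, (if θ = 1 then 0 else f θ) = ∑ θ : A →* ℂˣ, f θ - f 1 := by
  have h1 : ∀ θ : A →* ℂˣ, (if θ = 1 then (0 : ℂ) else f θ) =
      f θ - (if θ = 1 then f θ else 0) := by
    intro θ
    by_cases h : θ = 1
    · rw [if_pos h, if_pos h, sub_self]
    · rw [if_neg h, if_neg h, sub_zero]
  rw [Finset.sum_congr rfl (fun θ _ => h1 θ), Finset.sum_sub_distrib,
    Finset.sum_ite_eq' Finset.univ (1 : A →* ℂˣ) f, if_pos (Finset.mem_univ _)]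

/-- the centraliser of an element conjugate into `A \ 1` -/
theorem REMT_card_centralizer {A : Subgroup G} (hA : SC A) {x g : G} (hx : x ∈ A) (hx1 : x ≠ 1)
    (hg : IsConj x g) : Nat.card (Subgroup.centralizer ({g} : Set G)) = Nat.card A := by
  obtain ⟨c, hc⟩ := isConj_iff.mp hg
  rw [← hc, centralizer_conj, card_cj, hA x hx hx1]

/-- the index of `A` in its normaliser as a complex number -/
theorem REMT_ratio {A : Subgroup G} (e : ℕ)
    (h : Nat.card (Subgroup.normalizer (A : Set G)) = e * Nat.card A) :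
    (Nat.card (Subgroup.normalizer (A : Set G)) : ℂ) / (Nat.card A : ℂ) = e := by
  have h0 : (Nat.card A : ℂ) ≠ 0 := Nat.cast_ne_zero.mpr Nat.card_pos.ne'
  rw [h, Nat.cast_mul, mul_div_assoc, div_self h0, mul_one]

theorem REMT_sum_sq {A : Subgroup G} (hA : SC A) (x : A) (hx : x ≠ 1) (e : ℕ)
    (h : Nat.card (Subgroup.normalizer (A : Set G)) = e * Nat.card A) :
    ∑ θ : A →* ℂˣ, (if θ = 1 then 0 else indA A θ x * conj (indA A θ x)) =
      (e : ℂ) * (Nat.card A : ℂ) - (e : ℂ) * (e : ℂ) := by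
  rw [REMT_sum_ne_one (fun θ => indA A θ x * conj (indA A θ x)), sum_dual_indA_mul_conj hA x hx,
    indA_one_char, REMT_ratio e h, Complex.conj_natCast, h, Nat.cast_mul]

theorem REMT_sum_conj {A : Subgroup G} (hA : SC A) (x : A) (hx : x ≠ 1) (e : ℕ)
    (h : Nat.card (Subgroup.normalizer (A : Set G)) = e * Nat.card A) (c : ℂ) :
    ∑ θ : A →* ℂˣ, (if θ = 1 then 0 else c * conj (-indA A θ x)) = c * (e : ℂ) := by
  rw [REMT_sum_ne_one (fun θ => c * conj (-indA A θ x))]
  have h1 : ∑ θ : A →* ℂˣ, c * conj (-indA A θ x) = 0 := by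
    rw [← Finset.mul_sum, ← map_sum, Finset.sum_neg_distrib, sum_dual_indA hA x hx, neg_zero,
      map_zero, mul_zero]
  rw [h1, indA_one_char, REMT_ratio e h, map_neg, Complex.conj_natCast]
  ring

namespace Cfg

variable (C : Cfg G)

theorem REMT_N0 : Nat.card (Subgroup.normalizer (C.A0 : Set G)) = 2 * Nat.card C.A0 := by
  rw [C.card_N0, C.card_A0]

theorem REMT_N1 : Nat.card (Subgroup.normalizer (C.A1 : Set G)) = 4 * Nat.card C.A1 := by
  rw [C.card_N1, C.card_A1]

theorem REMT_N2 : Nat.card (Subgroup.normalizer (C.A2 : Set G)) = 4 * Nat.card C.A2 := by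
  rw [C.card_N2, C.card_A2]

theorem rem_T0 {W₁ W₂ : G → ℂ} (h : C.IsRest W₁ W₂) {g : G} (hg : C.T0 g) :
    W₁ g * conj (W₁ g) + W₂ g * conj (W₂ g) = 0 := by
  obtain ⟨x, hx, hx1, hxg⟩ := id hg
  have hx1' : (⟨x, hx⟩ : C.A0) ≠ 1 := fun h => hx1 (congrArg Subtype.val h)
  rw [C.rem_eq h g g, if_pos (IsConj.refl g), REMT_card_centralizer C.sc_A0 hx hx1 hxg]
  simp only [C.cX_T0 hg, C.cF0_T0 _ ⟨x, hx⟩ hx1' hxg, C.cF1_T0 _ hg, C.cF2_T0 _ hg, map_one,
    map_zero, mul_zero, ite_self, Finset.sum_const_zero]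
  rw [REMT_sum_sq C.sc_A0 ⟨x, hx⟩ hx1' 2 C.REMT_N0]
  push_cast
  ring

end Cfg

end Cfsg.Agent.SZT
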