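import Mathlib
import Cfsg.Agent.Helper21.SpReg2

set_option autoImplicit false

/-!
Regular unipotent elements of symplectic groups, part 6: in `F[X]/(X^n)` (odd characteristic)
every symmetric element whose augmentation is a nonzero square is a norm `τ g * g`.
-/

namespace Cfsg.Agent.Helper21.SpReg

open Polynomial

variable (F : Type*) [Field F] (n : ℕ)

theorem exists_sq_eq [Finite F] (h2 : (2 : F) ≠ 0) (hn : n ≠ 0) (r : TR F n)
    (hτ : tau F n r = r) (h1 : eps F n hn r = 1) :
    ∃ g : TR F n, tau F n g = g ∧ eps F n hn g = 1 ∧ g * g = r := by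
  have : Finite (TR F n) := tr_finite F n
  let f : {g : TR F n // tau F n g = g ∧ eps F n hn g = 1} →
      {g : TR F n // tau F n g = g ∧ eps F n hn g = 1} :=
    fun g => ⟨g.1 * g.1, by rw [map_mul, g.2.1], by rw [map_mul, g.2.2, one_mul]⟩
  have hinj : Function.Injective f := by
    rintro ⟨g, hg1, hg2⟩ ⟨g', hg1', hg2'⟩ h
    have h3 : g * g = g' * g' := congrArg Subtype.val h
    apply Subtype.ext
    show g = g'
    have hu : IsUnit (g + g') := by
      rw [isUnit_iff_eps F n hn, map_add, hg2, hg2']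
      intro h4
      apply h2
      linear_combination h4
    have h5 : (g + g') * (g - g') = 0 := by linear_combination h3
    have h6 := (hu.mul_right_eq_zero).mp h5
    exact sub_eq_zero.mp h6
  obtain ⟨⟨g, hg1, hg2⟩, hg⟩ := (Finite.injective_iff_surjective.mp hinj) ⟨r, hτ, h1⟩
  exact ⟨g, hg1, hg2, congrArg Subtype.val hg⟩

theorem exists_norm_eq [Finite F] (h2 : (2 : F) ≠ 0) (hn : n ≠ 0) (r : TR F n)
    (hτ : tau F n r = r) (h0 : eps F n hn r ≠ 0) (hsq : IsSquare (eps F n hn r)) :
    ∃ g : TR F n, tau F n g * g = r := by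
  obtain ⟨s, hs⟩ := hsq
  have hs0 : s ≠ 0 := by
    rintro rfl
    rw [mul_zero] at hs
    exact h0 hs
  obtain ⟨g, hg1, hg2, hg3⟩ := exists_sq_eq F n h2 hn
    (algebraMap F (TR F n) (s⁻¹ * s⁻¹) * r) (by rw [map_mul, AlgHom.commutes, hτ]) (by
      rw [map_mul, AlgHom.commutes, hs]
      simp only [Algebra.algebraMap_self, RingHom.id_apply]
      field_simp)
  refine ⟨algebraMap F (TR F n) s * g, ?_⟩
  rw [map_mul, AlgHom.commutes, hg1, mul_mul_mul_comm, hg3, ← mul_assoc, ← map_mul, ← map_mul]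
  have : s * s * (s⁻¹ * s⁻¹) = 1 := by field_simp
  rw [this, map_one, one_mul]

end Cfsg.Agent.Helper21.SpReg
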