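import Mathlib
import Cfsg.Agent.Helper21.SpReg4
import Cfsg.Agent.Helper21.SpReg6

set_option autoImplicit false

/-!
Regular unipotent elements of symplectic groups, part 7: abstract conjugacy dichotomy in an
algebra with anti-involution.
-/

namespace Cfsg.Agent.Helper21.SpReg

open Polynomial

section abs2

variable {F : Type*} [Field F] {A : Type*} [Ring A] [Algebra F A]
variable (σ : A → A) (hadd : ∀ a b, σ (a + b) = σ a + σ b)
  (hsmul : ∀ (k : F) a, σ (k • a) = k • σ a)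
  (hmul : ∀ a b, σ (a * b) = σ b * σ a) (hone : σ 1 = 1) (hσσ : ∀ a, σ (σ a) = a)
variable (n : ℕ) (hn : n ≠ 0) (c : A) (hc : c ^ n = 0) (hσc : σ c = -c)
  (hinj : ∀ p : F[X], aeval c p = 0 → X ^ n ∣ p)
  (hsurj : ∀ g : A, g * c = c * g → ∃ p : F[X], aeval (R := F) c p = g)

include hinj in
theorem phi_injective : Function.Injective (phi F n c hc) := by
  rw [injective_iff_map_eq_zero]
  intro r hr
  induction r using AdjoinRoot.induction_on with
  | ih p =>
    rw [phi_mk] at hr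
    exact AdjoinRoot.mk_eq_zero.mpr (hinj p hr)

theorem phi_comm (r : TR F n) : phi F n c hc r * c = c * phi F n c hc r := by
  have h1 := congrArg (phi F n c hc) (mul_comm r (AdjoinRoot.root _))
  rw [map_mul, map_mul, phi_root] at h1
  exact h1

include hsurj in
theorem phi_surj (g : A) (hg : g * c = c * g) : ∃ r : TR F n, phi F n c hc r = g := by
  obtain ⟨p, hp⟩ := hsurj g hg
  exact ⟨AdjoinRoot.mk _ p, by rw [phi_mk, hp]⟩

include hadd hsmul hmul hone hσc hinj hsurj in
theorem exists_preimage_unit (a b : A) (hac : a * c = c * a) (hσa : σ a = a) (hab : a * b = 1)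
    (hba : b * a = 1) :
    ∃ r : TR F n, phi F n c hc r = a ∧ tau F n r = r ∧ eps F n hn r ≠ 0 := by
  have hbc : b * c = c * b := by
    calc b * c = b * c * (a * b) := by rw [hab, mul_one]
      _ = b * (c * a) * b := by simp only [mul_assoc]
      _ = b * (a * c) * b := by rw [hac]
      _ = (b * a) * c * b := by simp only [mul_assoc]
      _ = c * b := by rw [hba, one_mul]
  obtain ⟨r, hr⟩ := phi_surj n c hc hsurj a hac
  obtain ⟨r', hr'⟩ := phi_surj n c hc hsurj b hbc
  refine ⟨r, hr, ?_, ?_⟩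
  · apply phi_injective n c hc hinj
    rw [phi_tau n σ hadd hsmul hmul hone c hc hσc, hr, hσa]
  · rw [← isUnit_iff_eps]
    have h1 : r * r' = 1 := by
      apply phi_injective n c hc hinj
      rw [map_mul, hr, hr', hab, map_one]
    exact IsUnit.of_mul_eq_one _ h1

include hadd hsmul hmul hone hσc in
theorem lemmaK (u₀ : A) (hcomm : ∀ g, g * c = c * g → g * u₀ = u₀ * g)
    (h h' e e' : A) (hh' : h * h' = 1) (hh'h : h' * h = 1) (hee' : e * e' = 1) (he'e : e' * e = 1)
    (g s : TR F n) (hg : IsUnit g) (hs : σ e * e = phi F n c hc s)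
    (hnorm : σ h * h = phi F n c hc (tau F n g * g * s)) :
    ∃ k k' : A, k * k' = 1 ∧ k' * k = 1 ∧ σ k * k = 1 ∧
      k * (e * u₀ * e') * k' = h * u₀ * h' := by
  obtain ⟨gu, rfl⟩ := hg
  have hGG' : phi F n c hc (gu : TR F n) * phi F n c hc ((gu⁻¹ : (TR F n)ˣ) : TR F n) = 1 := by
    rw [← map_mul, Units.mul_inv, map_one]
  have hG'G : phi F n c hc ((gu⁻¹ : (TR F n)ˣ) : TR F n) * phi F n c hc (gu : TR F n) = 1 := by
    rw [← map_mul, Units.inv_mul, map_one]
  have hG'u : phi F n c hc ((gu⁻¹ : (TR F n)ˣ) : TR F n) * u₀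
      = u₀ * phi F n c hc ((gu⁻¹ : (TR F n)ˣ) : TR F n) := hcomm _ (phi_comm n c hc _)
  obtain ⟨G, hG⟩ : ∃ G, G = phi F n c hc (gu : TR F n) := ⟨_, rfl⟩
  obtain ⟨G', hG'⟩ : ∃ G', G' = phi F n c hc ((gu⁻¹ : (TR F n)ˣ) : TR F n) := ⟨_, rfl⟩
  have hσG' : σ G' = phi F n c hc (tau F n ((gu⁻¹ : (TR F n)ˣ) : TR F n)) := by
    rw [hG', phi_tau n σ hadd hsmul hmul hone c hc hσc]
  rw [← hG, ← hG'] at hGG' hG'G
  rw [← hG'] at hG'u
  refine ⟨h * G' * e', e * G * h', ?_, ?_, ?_, ?_⟩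
  · calc h * G' * e' * (e * G * h') = h * (G' * ((e' * e) * G)) * h' := by simp only [mul_assoc]
      _ = 1 := by rw [he'e, one_mul, hG'G, mul_one, hh']
  · calc e * G * h' * (h * G' * e') = e * (G * ((h' * h) * G')) * e' := by simp only [mul_assoc]
      _ = 1 := by rw [hh'h, one_mul, hGG', mul_one, hee']
  · have h3 : σ G' * (σ h * h) * G' = σ e * e := by
      rw [hnorm, hσG', hG', hs, ← map_mul, ← map_mul]
      congr 1
      have h4 : tau F n ((gu⁻¹ : (TR F n)ˣ) : TR F n) * tau F n (gu : TR F n) = 1 := by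
        rw [← map_mul, Units.inv_mul, map_one]
      have h5 : (gu : TR F n) * ((gu⁻¹ : (TR F n)ˣ) : TR F n) = 1 := Units.mul_inv gu
      linear_combination ((gu : TR F n) * s * ((gu⁻¹ : (TR F n)ˣ) : TR F n)) * h4 + s * h5
    calc σ (h * G' * e') * (h * G' * e')
        = σ e' * (σ G' * (σ h * h) * G') * e' := by
          rw [hmul, hmul]
          simp only [mul_assoc]
      _ = σ e' * σ e * (e * e') := by rw [h3]; simp only [mul_assoc]
      _ = 1 := by rw [hee', mul_one, ← hmul, hee', hone]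
  · calc h * G' * e' * (e * u₀ * e') * (e * G * h')
        = h * (G' * ((e' * e) * u₀ * (e' * e)) * G) * h' := by simp only [mul_assoc]
      _ = h * (G' * u₀ * G) * h' := by rw [he'e, one_mul, mul_one]
      _ = h * (u₀ * (G' * G)) * h' := by rw [hG'u]; simp only [mul_assoc]
      _ = h * u₀ * h' := by rw [hG'G, mul_one]

include hadd hsmul hmul hone hσσ hn hc hσc hinj hsurj in
theorem not_conj_twist (u₀ : A) (hcomm' : ∀ g, g * u₀ = u₀ * g → g * c = c * g) (ν : F)
    (hν : ¬ IsSquare ν) (d d' : A) (hd'd : d' * d = 1)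
    (hd : σ d * d = algebraMap F A ν)
    (k k' : A) (hkk' : k * k' = 1) (hk'k : k' * k = 1) (hk : σ k * k = 1)
    (hconj : k * u₀ * k' = d * u₀ * d') : False := by
  have hσk : σ k = k' := by
    calc σ k = σ k * (k * k') := by rw [hkk', mul_one]
      _ = (σ k * k) * k' := by simp only [mul_assoc]
      _ = k' := by rw [hk, one_mul]
  have hσk' : σ k' = k := by rw [← hσk, hσσ]
  have hgu : (k' * d) * u₀ = u₀ * (k' * d) := by
    calc (k' * d) * u₀ = k' * (d * u₀ * d') * d := by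
          rw [show k' * (d * u₀ * d') * d = k' * d * u₀ * (d' * d) by simp only [mul_assoc], hd'd,
            mul_one]
      _ = k' * (k * u₀ * k') * d := by rw [hconj]
      _ = (k' * k) * u₀ * (k' * d) := by simp only [mul_assoc]
      _ = u₀ * (k' * d) := by rw [hk'k, one_mul]
  have hgc := hcomm' _ hgu
  obtain ⟨r, hr⟩ := phi_surj n c hc hsurj _ hgc
  have h1 : σ (k' * d) * (k' * d) = algebraMap F A ν := by
    rw [hmul, hσk']
    calc σ d * k * (k' * d) = σ d * ((k * k') * d) := by simp only [mul_assoc]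
      _ = algebraMap F A ν := by rw [hkk', one_mul, hd]
  have h2 : tau F n r * r = algebraMap F (TR F n) ν := by
    apply phi_injective n c hc hinj
    rw [map_mul, phi_tau n σ hadd hsmul hmul hone c hc hσc, hr, h1, AlgHom.commutes]
  have h3 := congrArg (eps F n hn) h2
  rw [map_mul, eps_tau, AlgHom.commutes] at h3
  apply hν
  exact ⟨eps F n hn r, h3.symm⟩

include hadd hsmul hmul hone hσσ hn hc hσc hinj hsurj in
theorem conj_dichotomy [Finite F] (h2 : (2 : F) ≠ 0) (u₀ : A) (hu₀' : u₀ * σ u₀ = 1)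
    (hcomm : ∀ g, g * u₀ = u₀ * g ↔ g * c = c * g)
    (ν : F) (hν0 : ν ≠ 0) (hsq : ∀ x : F, x ≠ 0 → ¬ IsSquare x → IsSquare (ν⁻¹ * x))
    (d d' : A) (hdd' : d * d' = 1) (hd'd : d' * d = 1) (hd : σ d * d = algebraMap F A ν)
    (h h' : A) (hh' : h * h' = 1) (hh'h : h' * h = 1)
    (hu : σ (h * u₀ * h') * (h * u₀ * h') = 1) :
    ∃ k k' : A, k * k' = 1 ∧ k' * k = 1 ∧ σ k * k = 1 ∧
      (k * u₀ * k' = h * u₀ * h' ∨ k * (d * u₀ * d') * k' = h * u₀ * h') := by
  have hσ1 : σ h * σ h' = 1 := by rw [← hmul, hh'h, hone]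
  have hσ2 : σ h' * σ h = 1 := by rw [← hmul, hh', hone]
  have e1 : σ u₀ * (σ h * h) * u₀ = σ h * h := by
    calc σ u₀ * (σ h * h) * u₀
        = (σ h * σ h') * σ u₀ * σ h * h * u₀ * (h' * h) := by
          rw [hσ1, hh'h, one_mul, mul_one]
          simp only [mul_assoc]
      _ = σ h * (σ (h * u₀ * h') * (h * u₀ * h')) * h := by
          rw [hmul, hmul]
          simp only [mul_assoc]
      _ = σ h * h := by rw [hu, mul_one]
  have hau : (σ h * h) * u₀ = u₀ * (σ h * h) := by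
    calc (σ h * h) * u₀ = (u₀ * σ u₀) * (σ h * h) * u₀ := by rw [hu₀', one_mul]
      _ = u₀ * (σ u₀ * (σ h * h) * u₀) := by simp only [mul_assoc]
      _ = u₀ * (σ h * h) := by rw [e1]
  have hac := (hcomm _).mp hau
  have hσa : σ (σ h * h) = σ h * h := by rw [hmul, hσσ]
  have hab : (σ h * h) * (h' * σ h') = 1 := by
    calc (σ h * h) * (h' * σ h') = σ h * ((h * h') * σ h') := by simp only [mul_assoc]
      _ = 1 := by rw [hh', one_mul, hσ1]
  have hba : (h' * σ h') * (σ h * h) = 1 := by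
    calc (h' * σ h') * (σ h * h) = h' * ((σ h' * σ h) * h) := by simp only [mul_assoc]
      _ = 1 := by rw [hσ2, one_mul, hh'h]
  obtain ⟨r, hr, hτr, hεr⟩ := exists_preimage_unit σ hadd hsmul hmul hone n hn c hc hσc hinj hsurj
    _ _ hac hσa hab hba
  have hunit_of : ∀ (g r' : TR F n), tau F n g * g = r' → eps F n hn r' ≠ 0 → IsUnit g := by
    intro g r' hg hr'
    rw [isUnit_iff_eps F n hn]
    intro h0
    apply hr'
    rw [← hg, map_mul, h0, mul_zero]
  by_cases hsqr : IsSquare (eps F n hn r)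
  · obtain ⟨g, hg⟩ := exists_norm_eq F n h2 hn r hτr hεr hsqr
    obtain ⟨k, k', h1, h2', h3, h4⟩ := lemmaK σ hadd hsmul hmul hone n c hc hσc u₀
      (fun g hg => (hcomm g).mpr hg) h h' 1 1 hh' hh'h (one_mul 1) (one_mul 1) g 1
      (hunit_of g r hg hεr) (by rw [hone, one_mul, map_one]) (by rw [mul_one, hg, hr])
    refine ⟨k, k', h1, h2', h3, Or.inl ?_⟩
    rw [← h4, one_mul, mul_one]
  · have hsq' := hsq _ hεr hsqr
    have hτ2 : tau F n (algebraMap F (TR F n) ν⁻¹ * r) = algebraMap F (TR F n) ν⁻¹ * r := by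
      rw [map_mul, AlgHom.commutes, hτr]
    have hε2 : eps F n hn (algebraMap F (TR F n) ν⁻¹ * r) = ν⁻¹ * eps F n hn r := by
      rw [map_mul, AlgHom.commutes]
      rfl
    have hε2' : eps F n hn (algebraMap F (TR F n) ν⁻¹ * r) ≠ 0 := by
      rw [hε2]
      exact mul_ne_zero (inv_ne_zero hν0) hεr
    obtain ⟨g, hg⟩ := exists_norm_eq F n h2 hn _ hτ2 hε2' (by rw [hε2]; exact hsq')
    obtain ⟨k, k', h1, h2', h3, h4⟩ := lemmaK σ hadd hsmul hmul hone n c hc hσc u₀
      (fun g hg => (hcomm g).mpr hg) h h' d d' hh' hh'h hdd' hd'd g (algebraMap F (TR F n) ν)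
      (hunit_of g _ hg hε2') (by rw [hd, AlgHom.commutes]) (by
        rw [hg, ← hr]
        congr 1
        rw [mul_comm, ← mul_assoc, ← map_mul, mul_inv_cancel₀ hν0, map_one, one_mul])
    exact ⟨k, k', h1, h2', h3, Or.inr h4⟩

end abs2

end Cfsg.Agent.Helper21.SpReg
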