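import Mathlib
import Cfsg.Agent.Helper21.SpReg5
import Cfsg.Agent.Helper21.SpReg7

set_option autoImplicit false

/-!
Regular unipotent elements of symplectic groups, part 8: matrix-level data.
-/

namespace Cfsg.Agent.Helper21.SpReg

open Matrix Polynomial

section mat

variable {F : Type*} [Field F] {m : ℕ}

/-- the data attached to a regular unipotent symplectic matrix -/
theorem exists_reg_data (h2 : (2 : F) ≠ 0) (hm : 1 ≤ m)
    (U : Matrix (Fin m ⊕ Fin m) (Fin m ⊕ Fin m) F) (hU : U ∈ symplecticGroup (Fin m) F)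
    (hnil : (U - 1) ^ (2 * m) = 0) (hreg : (U - 1).rank = 2 * m - 1) :
    ∃ c : Matrix (Fin m ⊕ Fin m) (Fin m ⊕ Fin m) F, c ^ (2 * m) = 0 ∧ sig c = -c ∧
      (∀ p : F[X], aeval c p = 0 → X ^ (2 * m) ∣ p) ∧
      (∀ g : Matrix (Fin m ⊕ Fin m) (Fin m ⊕ Fin m) F, g * c = c * g →
        ∃ p : F[X], aeval (R := F) c p = g) ∧
      (∀ g : Matrix (Fin m ⊕ Fin m) (Fin m ⊕ Fin m) F, g * U = U * g ↔ g * c = c * g) := by
  classical
  obtain ⟨S, hS⟩ : ∃ S, S = sig U := ⟨_, rfl⟩
  have hSU : S * U = 1 := by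
    rw [hS]
    exact (mem_iff_sig U).mp hU
  have hUS : U * S = 1 := mul_eq_one_comm.mp hSU
  have hsS : sig S = U := by rw [hS, sig_sig]
  obtain ⟨N, hN⟩ : ∃ N, N = U - 1 := ⟨_, rfl⟩
  rw [← hN] at hnil hreg
  obtain ⟨c, hc_def⟩ : ∃ c, c = U - S := ⟨_, rfl⟩
  have hσc : sig c = -c := by
    rw [hc_def, sig_sub, ← hS, hsS, neg_sub]
  obtain ⟨W, hW⟩ : ∃ W, W = (N + 2) * S := ⟨_, rfl⟩
  have hcN : c = N * W := by
    have h1 : (U - 1) * ((U - 1 + 2) * S) = U * (U * S) - S := by noncomm_ring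
    rw [hW, hN, h1, hUS, mul_one, hc_def]
  have hcommNS : Commute N S := by
    show N * S = S * N
    rw [hN, sub_mul, mul_sub, hUS, hSU, one_mul, mul_one]
  have hcommNW : Commute N W := by
    rw [hW]
    exact ((Commute.refl N).add_right (Commute.ofNat_right N 2)).mul_right hcommNS
  have hc : c ^ (2 * m) = 0 := by
    rw [hcN, hcommNW.mul_pow, hnil, zero_mul]
  have hunit2 : IsUnit (2 : Matrix (Fin m ⊕ Fin m) (Fin m ⊕ Fin m) F) := by
    have := (IsUnit.mk0 (2 : F) h2).map (algebraMap F (Matrix (Fin m ⊕ Fin m) (Fin m ⊕ Fin m) F))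
    rwa [map_ofNat] at this
  have hWunit : IsUnit W := by
    rw [hW]
    apply IsUnit.mul
    · exact IsNilpotent.isUnit_add_right_of_commute ⟨2 * m, hnil⟩ hunit2
        (Commute.ofNat_right N 2)
    · exact ⟨⟨S, U, hSU, hUS⟩, rfl⟩
  have hrank : c.rank = 2 * m - 1 := by
    rw [hcN, rank_mul_eq_left_of_isUnit_det W N ((isUnit_iff_isUnit_det W).mp hWunit), hreg]
  obtain ⟨T, hT_def⟩ : ∃ T : Module.End F ((Fin m ⊕ Fin m) → F),
      T = (toLinAlgEquiv' : Matrix (Fin m ⊕ Fin m) (Fin m ⊕ Fin m) F ≃ₐ[F] _) c := ⟨_, rfl⟩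
  have hfin : Module.finrank F ((Fin m ⊕ Fin m) → F) = 2 * m := by
    rw [Module.finrank_fintype_fun_eq_card, Fintype.card_sum, Fintype.card_fin, two_mul]
  have hT : T ^ (2 * m) = 0 := by
    rw [hT_def, ← map_pow, hc, map_zero]
  have hrT : Module.finrank F (LinearMap.range T) + 1 = 2 * m := by
    have h1 : Module.finrank F (LinearMap.range T) = c.rank := by
      rw [hT_def]
      rfl
    rw [h1, hrank]
    omega
  obtain ⟨v, hli⟩ := exists_cyclic T (2 * m) hfin hT hrT
  have hinj : ∀ p : F[X], aeval c p = 0 → X ^ (2 * m) ∣ p := by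
    intro p hp
    apply dvd_of_aeval_eq_zero T (2 * m) hT v hli p
    rw [hT_def, aeval_algHom_apply, hp, map_zero]
  have hsurj : ∀ g : Matrix (Fin m ⊕ Fin m) (Fin m ⊕ Fin m) F, g * c = c * g →
      ∃ p : F[X], aeval (R := F) c p = g := by
    intro g hg
    obtain ⟨p, hp⟩ := exists_aeval_eq_of_commute T (2 * m) hfin (by omega) v hli
      ((toLinAlgEquiv' : Matrix (Fin m ⊕ Fin m) (Fin m ⊕ Fin m) F ≃ₐ[F] _) g) (by
        show _ * T = T * _
        rw [hT_def, ← map_mul, ← map_mul, hg])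
    refine ⟨p, ?_⟩
    apply (toLinAlgEquiv' : Matrix (Fin m ⊕ Fin m) (Fin m ⊕ Fin m) F ≃ₐ[F] _).injective
    rw [← hp, hT_def, aeval_algHom_apply]
  refine ⟨c, hc, hσc, hinj, hsurj, ?_⟩
  intro g
  constructor
  · intro h
    have hgS : g * S = S * g := by
      calc g * S = S * U * (g * S) := by rw [hSU, one_mul]
        _ = S * (U * g) * S := by simp only [Matrix.mul_assoc]
        _ = S * (g * U) * S := by rw [h]
        _ = S * g * (U * S) := by simp only [Matrix.mul_assoc]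
        _ = S * g := by rw [hUS, mul_one]
    rw [hc_def, mul_sub, sub_mul, h, hgS]
  · intro h
    have hUc : U * c = c * U := by
      rw [hc_def, mul_sub, sub_mul, hUS, hSU]
    obtain ⟨p, rfl⟩ := hsurj g h
    obtain ⟨p', hp'⟩ := hsurj U hUc
    rw [← hp', ← map_mul, ← map_mul, mul_comm]

/-- regular unipotent matrices are conjugate in `GL` -/
theorem exists_conj_of_reg (hm : 1 ≤ m)
    (U U' : Matrix (Fin m ⊕ Fin m) (Fin m ⊕ Fin m) F)
    (hnil : (U - 1) ^ (2 * m) = 0) (hreg : (U - 1).rank = 2 * m - 1)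
    (hnil' : (U' - 1) ^ (2 * m) = 0) (hreg' : (U' - 1).rank = 2 * m - 1) :
    ∃ h h' : Matrix (Fin m ⊕ Fin m) (Fin m ⊕ Fin m) F, h * h' = 1 ∧ h' * h = 1 ∧
      U' = h * U * h' := by
  classical
  have hfin : Module.finrank F ((Fin m ⊕ Fin m) → F) = 2 * m := by
    rw [Module.finrank_fintype_fun_eq_card, Fintype.card_sum, Fintype.card_fin, two_mul]
  have hn0 : 0 < 2 * m := by omega
  have : Nonempty (Fin (2 * m)) := ⟨⟨0, hn0⟩⟩
  -- a general cyclic basis statement
  have key : ∀ W : Matrix (Fin m ⊕ Fin m) (Fin m ⊕ Fin m) F, (W - 1) ^ (2 * m) = 0 →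
      (W - 1).rank = 2 * m - 1 →
      ∃ B : Module.Basis (Fin (2 * m)) F ((Fin m ⊕ Fin m) → F),
        ∀ k : Fin (2 * m), toLin' (W - 1) (B k) =
          if h : (k : ℕ) + 1 < 2 * m then B ⟨(k : ℕ) + 1, h⟩ else 0 := by
    intro W hW1 hW2
    obtain ⟨T, hT_def⟩ : ∃ T : Module.End F ((Fin m ⊕ Fin m) → F), T = toLin' (W - 1) :=
      ⟨_, rfl⟩
    have hT : T ^ (2 * m) = 0 := by
      rw [hT_def, ← toLin'_pow, hW1, map_zero]
    have hrT : Module.finrank F (LinearMap.range T) + 1 = 2 * m := by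
      have h1 : Module.finrank F (LinearMap.range T) = (W - 1).rank := by
        rw [hT_def, Matrix.toLin'_apply']
        rfl
      rw [h1, hW2]
      omega
    obtain ⟨v, hli⟩ := exists_cyclic T (2 * m) hfin hT hrT
    refine ⟨basisOfLinearIndependentOfCardEqFinrank hli (by rw [Fintype.card_fin, hfin]), ?_⟩
    intro k
    simp only [coe_basisOfLinearIndependentOfCardEqFinrank]
    rw [← hT_def, ← Module.End.mul_apply, ← pow_succ']
    split_ifs with hk
    · rfl
    · have : (k : ℕ) + 1 = 2 * m := by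
        have := k.2
        omega
      rw [this, hT]
      rfl
  obtain ⟨B, hB⟩ := key U hnil hreg
  obtain ⟨B', hB'⟩ := key U' hnil' hreg'
  have hφ : (B.equiv B' (Equiv.refl _)).toLinearMap ∘ₗ toLin' (U - 1)
      = toLin' (U' - 1) ∘ₗ (B.equiv B' (Equiv.refl _)).toLinearMap := by
    apply B.ext
    intro k
    simp only [LinearMap.comp_apply, LinearEquiv.coe_coe, Module.Basis.equiv_apply,
      Equiv.refl_apply]
    rw [hB k, hB' k]
    split_ifs with hk
    · rw [Module.Basis.equiv_apply, Equiv.refl_apply]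
    · rw [map_zero]
  refine ⟨LinearMap.toMatrix' (B.equiv B' (Equiv.refl _)).toLinearMap,
    LinearMap.toMatrix' (B.equiv B' (Equiv.refl _)).symm.toLinearMap, ?_, ?_, ?_⟩
  · rw [← LinearMap.toMatrix'_comp]
    simp
  · rw [← LinearMap.toMatrix'_comp]
    simp
  · have h1 := congrArg LinearMap.toMatrix' hφ
    rw [LinearMap.toMatrix'_comp, LinearMap.toMatrix'_comp, LinearMap.toMatrix'_toLin',
      LinearMap.toMatrix'_toLin'] at h1
    have h3 : LinearMap.toMatrix' (B.equiv B' (Equiv.refl _)).toLinearMap * U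
        = U' * LinearMap.toMatrix' (B.equiv B' (Equiv.refl _)).toLinearMap := by
      rw [mul_sub, sub_mul, mul_one, one_mul] at h1
      exact sub_left_injective h1
    have h4 : LinearMap.toMatrix' (B.equiv B' (Equiv.refl _)).toLinearMap *
        LinearMap.toMatrix' (B.equiv B' (Equiv.refl _)).symm.toLinearMap = 1 := by
      rw [← LinearMap.toMatrix'_comp]
      simp
    rw [h3, Matrix.mul_assoc, h4, mul_one]

end mat

end Cfsg.Agent.Helper21.SpReg
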