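import Mathlib
import Cfsg.Agent.Helper21.SpReg8
import Cfsg.Agent.Helper21.SpReg9

set_option autoImplicit false

/-!
Regular unipotent elements of symplectic groups, part 10: the two classes of regular unipotent
elements of `Sp_{2m}(q)`, `q` odd (matrix level).
-/

namespace Cfsg.Agent.Helper21.SpReg

open Matrix Polynomial

section final

variable {F : Type*} [Field F] {m : ℕ}

theorem simil_conj_mem (ν : F) (hν0 : ν ≠ 0)
    (U : Matrix (Fin m ⊕ Fin m) (Fin m ⊕ Fin m) F) (hU : U ∈ symplecticGroup (Fin m) F) :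
    simil F m ν * U * simil F m ν⁻¹ ∈ symplecticGroup (Fin m) F := by
  rw [mem_iff_sig] at hU ⊢
  rw [sig_mul, sig_mul]
  calc sig (simil F m ν⁻¹) * (sig U * sig (simil F m ν)) * (simil F m ν * U * simil F m ν⁻¹)
      = sig (simil F m ν⁻¹) * (sig U * ((sig (simil F m ν) * simil F m ν) * U))
          * simil F m ν⁻¹ := by simp only [Matrix.mul_assoc]
    _ = ν • (sig (simil F m ν⁻¹) * simil F m ν⁻¹) := by
        rw [sig_simil, Algebra.algebraMap_eq_smul_one, Matrix.smul_mul, Matrix.one_mul,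
          Matrix.mul_smul, hU, Matrix.mul_smul, Matrix.mul_one, Matrix.smul_mul]
    _ = 1 := by
        rw [sig_simil, Algebra.algebraMap_eq_smul_one, smul_smul, mul_inv_cancel₀ hν0, one_smul]

theorem simil_conj_reg (ν : F) (hν0 : ν ≠ 0)
    (U : Matrix (Fin m ⊕ Fin m) (Fin m ⊕ Fin m) F) (k : ℕ) (r : ℕ)
    (hnil : (U - 1) ^ k = 0) (hreg : (U - 1).rank = r) :
    (simil F m ν * U * simil F m ν⁻¹ - 1) ^ k = 0 ∧
      (simil F m ν * U * simil F m ν⁻¹ - 1).rank = r := by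
  classical
  have h1 : simil F m ν * simil F m ν⁻¹ = 1 := by
    rw [simil_mul, mul_inv_cancel₀ hν0, simil_one]
  have h2 : simil F m ν⁻¹ * simil F m ν = 1 := by
    rw [simil_mul, inv_mul_cancel₀ hν0, simil_one]
  let du : (Matrix (Fin m ⊕ Fin m) (Fin m ⊕ Fin m) F)ˣ :=
    ⟨simil F m ν, simil F m ν⁻¹, h1, h2⟩
  have h3 : simil F m ν * U * simil F m ν⁻¹ - 1
      = (du : Matrix (Fin m ⊕ Fin m) (Fin m ⊕ Fin m) F) * (U - 1) * ((du⁻¹ : (Matrix _ _ F)ˣ) :
        Matrix (Fin m ⊕ Fin m) (Fin m ⊕ Fin m) F) := by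
    show _ = simil F m ν * (U - 1) * simil F m ν⁻¹
    rw [mul_sub, sub_mul, mul_one, h1]
  constructor
  · rw [h3, Units.conj_pow, hnil, mul_zero, zero_mul]
  · rw [h3]
    have hd1 : IsUnit (simil F m ν).det := (isUnit_iff_isUnit_det _).mp ⟨du, rfl⟩
    have hd2 : IsUnit (simil F m ν⁻¹).det := (isUnit_iff_isUnit_det _).mp ⟨du⁻¹, rfl⟩
    show (simil F m ν * (U - 1) * simil F m ν⁻¹).rank = r
    rw [rank_mul_eq_left_of_isUnit_det _ _ hd2, rank_mul_eq_right_of_isUnit_det _ _ hd1, hreg]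

/-- the matrix-level statement: two regular unipotent elements, not conjugate under the
symplectic group, such that every regular unipotent element is conjugate to one of them. -/
theorem two_classes_mat [Fintype F] (h2 : (2 : F) ≠ 0) (hm : 1 ≤ m) :
    ∃ U₀ U₁ : Matrix (Fin m ⊕ Fin m) (Fin m ⊕ Fin m) F,
      U₀ ∈ symplecticGroup (Fin m) F ∧ U₁ ∈ symplecticGroup (Fin m) F ∧
      ((U₀ - 1) ^ (2 * m) = 0 ∧ (U₀ - 1).rank = 2 * m - 1) ∧
      ((U₁ - 1) ^ (2 * m) = 0 ∧ (U₁ - 1).rank = 2 * m - 1) ∧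
      (∀ k k' : Matrix (Fin m ⊕ Fin m) (Fin m ⊕ Fin m) F, k * k' = 1 → k' * k = 1 →
        sig k * k = 1 → k * U₀ * k' ≠ U₁) ∧
      (∀ U : Matrix (Fin m ⊕ Fin m) (Fin m ⊕ Fin m) F, U ∈ symplecticGroup (Fin m) F →
        (U - 1) ^ (2 * m) = 0 → (U - 1).rank = 2 * m - 1 →
        ∃ k k' : Matrix (Fin m ⊕ Fin m) (Fin m ⊕ Fin m) F, k * k' = 1 ∧ k' * k = 1 ∧
          sig k * k = 1 ∧ (k * U₀ * k' = U ∨ k * U₁ * k' = U)) := by
  classical
  have hchar : ringChar F ≠ 2 := by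
    intro h
    apply h2
    have := ringChar.Nat.cast_ringChar (R := F)
    rw [h] at this
    exact_mod_cast this
  obtain ⟨ν, hν⟩ := FiniteField.exists_nonsquare hchar
  have hν0 : ν ≠ 0 := by
    rintro rfl
    exact hν ⟨0, by rw [mul_zero]⟩
  have hsq : ∀ x : F, x ≠ 0 → ¬ IsSquare x → IsSquare (ν⁻¹ * x) := by
    intro x hx hxs
    have hνx : ν⁻¹ * x ≠ 0 := mul_ne_zero (inv_ne_zero hν0) hx
    rw [FiniteField.isSquare_iff hchar hνx, mul_pow, inv_pow]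
    rw [FiniteField.isSquare_iff hchar hx] at hxs
    rw [FiniteField.isSquare_iff hchar hν0] at hν
    have h3 := (FiniteField.pow_dichotomy hchar hx).resolve_left hxs
    have h4 := (FiniteField.pow_dichotomy hchar hν0).resolve_left hν
    rw [h3, h4]
    norm_num
  obtain ⟨U₀, hU₀, hnil₀, hreg₀⟩ := exists_reg h2 hm (F := F)
  obtain ⟨c, hc, hσc, hinj, hsurj, hcomm⟩ := exists_reg_data h2 hm U₀ hU₀ hnil₀ hreg₀
  have hdd' : simil F m ν * simil F m ν⁻¹ = 1 := by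
    rw [simil_mul, mul_inv_cancel₀ hν0, simil_one]
  have hd'd : simil F m ν⁻¹ * simil F m ν = 1 := by
    rw [simil_mul, inv_mul_cancel₀ hν0, simil_one]
  have hn : 2 * m ≠ 0 := by omega
  have hU₀' : U₀ * sig U₀ = 1 := mul_eq_one_comm.mp ((mem_iff_sig U₀).mp hU₀)
  refine ⟨U₀, simil F m ν * U₀ * simil F m ν⁻¹, hU₀, simil_conj_mem ν hν0 U₀ hU₀,
    ⟨hnil₀, hreg₀⟩, simil_conj_reg ν hν0 U₀ _ _ hnil₀ hreg₀, ?_, ?_⟩
  · intro k k' hkk' hk'k hk hconj
    exact not_conj_twist (F := F) (A := Matrix (Fin m ⊕ Fin m) (Fin m ⊕ Fin m) F) sig sig_add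
      sig_smul sig_mul sig_one sig_sig (2 * m) hn c hc hσc hinj hsurj U₀
      (fun g hg => (hcomm g).mp hg) ν hν (simil F m ν) (simil F m ν⁻¹) hd'd (sig_simil ν)
      k k' hkk' hk'k hk hconj
  · intro U hU hnil hreg
    obtain ⟨h, h', hh', hh'h, hUh⟩ := exists_conj_of_reg hm U₀ U hnil₀ hreg₀ hnil hreg
    have hu : sig (h * U₀ * h') * (h * U₀ * h') = 1 := by
      rw [← hUh]
      exact (mem_iff_sig U).mp hU
    obtain ⟨k, k', h1, h2', h3, h4⟩ := conj_dichotomy (F := F)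
      (A := Matrix (Fin m ⊕ Fin m) (Fin m ⊕ Fin m) F) sig sig_add sig_smul sig_mul sig_one sig_sig
      (2 * m) hn c hc hσc hinj hsurj h2 U₀ hU₀' hcomm ν hν0 hsq (simil F m ν) (simil F m ν⁻¹)
      hdd' hd'd (sig_simil ν) h h' hh' hh'h hu
    refine ⟨k, k', h1, h2', h3, ?_⟩
    rw [hUh]
    exact h4

end final

end Cfsg.Agent.Helper21.SpReg
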