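import Mathlib
import Cfsg.Agent.Helper11.GLNrB
import Cfsg.Agent.Helper11.SpDerD
import Cfsg.Agent.Helper14.SylSn3

set_option autoImplicit false
set_option linter.unusedSectionVars false

/-! Sylow 2-subgroups with elementary abelian abelianisation: generic tools. -/

namespace Cfsg.Agent.Helper21.SylAb

open Cfsg.Agent.Helper11.SpNorm Cfsg.Agent.Helper11.SpDer Cfsg.Agent.Helper11.GLNr

section generic

variable {G : Type*} [Group G]

/-- every square of an element of `H` lies in the derived subgroup of `H` -/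
def SqC (H : Subgroup G) : Prop := ∀ y ∈ H, y ^ 2 ∈ ⁅H, H⁆

theorem sq_mem_commutator_of_closure {K : Type*} [Group K] (X : Set K)
    (hX : Subgroup.closure X = ⊤) (h : ∀ x ∈ X, x ^ 2 ∈ commutator K) (k : K) :
    k ^ 2 ∈ commutator K := by
  let φ : K →* Abelianization K := (powMonoidHom 2).comp Abelianization.of
  have hker : φ.ker = ⊤ := by
    rw [eq_top_iff, ← hX, Subgroup.closure_le]
    intro x hx
    rw [SetLike.mem_coe, MonoidHom.mem_ker]
    show (Abelianization.of x) ^ 2 = 1
    rw [← map_pow, ← MonoidHom.mem_ker, Abelianization.ker_of]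
    exact h x hx
  have hk : k ∈ φ.ker := hker ▸ Subgroup.mem_top k
  rw [MonoidHom.mem_ker] at hk
  have h2 : Abelianization.of (k ^ 2) = 1 := by
    rw [map_pow]
    exact hk
  rwa [← MonoidHom.mem_ker, Abelianization.ker_of] at h2

theorem sqC_iff_subtype (H : Subgroup G) :
    SqC H ↔ ∀ x : ↥H, x ^ 2 ∈ commutator ↥H := by
  have hmap := Subgroup.map_subtype_commutator H
  constructor
  · intro h x
    have h1 := h x.1 x.2
    rw [← hmap] at h1
    obtain ⟨c, hc, hcx⟩ := h1
    have : c = x ^ 2 := Subtype.ext (by rw [Subgroup.coe_pow]; exact hcx)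
    rw [← this]
    exact hc
  · intro h y hy
    rw [← hmap]
    exact ⟨⟨y, hy⟩ ^ 2, h ⟨y, hy⟩, rfl⟩

theorem SqC.map {H : Subgroup G} (h : SqC H) {G' : Type*} [Group G'] (f : G →* G') :
    SqC (H.map f) := by
  rintro _ ⟨x, hx, rfl⟩
  rw [← map_pow, ← Subgroup.map_commutator]
  exact ⟨_, h x hx, rfl⟩

theorem sqC_of_closure (H : Subgroup G) (X : Set G) (hX : H = Subgroup.closure X)
    (h : ∀ x ∈ X, x ^ 2 ∈ ⁅H, H⁆) : SqC H := by
  rw [sqC_iff_subtype]
  have hXH : X ⊆ H := by
    rw [hX]
    exact Subgroup.subset_closure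
  apply sq_mem_commutator_of_closure (H.subtype ⁻¹' X)
  · apply Subgroup.map_injective H.subtype_injective
    rw [MonoidHom.map_closure, ← MonoidHom.range_eq_map, Subgroup.range_subtype,
      Set.image_preimage_eq_of_subset]
    · exact hX.symm
    · intro x hx
      exact ⟨⟨x, hXH hx⟩, rfl⟩
  · intro x hx
    have h1 := h x.1 hx
    rw [← Subgroup.map_subtype_commutator] at h1
    obtain ⟨c, hc, hcx⟩ := h1
    have : c = x ^ 2 := Subtype.ext (by rw [Subgroup.coe_pow]; exact hcx)
    rw [← this]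
    exact hc

theorem sqC_of_equiv {K K' : Type*} [Group K] [Group K'] (e : K ≃* K')
    (h : ∀ k : K, k ^ 2 ∈ commutator K) (k' : K') : k' ^ 2 ∈ commutator K' := by
  have h1 := h (e.symm k')
  have h2 : e ((e.symm k') ^ 2) ∈ (commutator K).map e.toMonoidHom := ⟨_, h1, rfl⟩
  rw [map_pow, e.apply_symm_apply] at h2
  have h3 : (commutator K).map e.toMonoidHom = commutator K' := by
    rw [commutator_def, commutator_def, Subgroup.map_commutator]
    have : (⊤ : Subgroup K).map e.toMonoidHom = ⊤ := by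
      rw [← MonoidHom.range_eq_map, MonoidHom.range_eq_top]
      exact e.surjective
    rw [this]
  rw [h3] at h2
  exact h2

end generic

section quaternion

theorem quaternion_sq (k : ℕ) (hk : 1 ≤ k) (g : QuaternionGroup (2 ^ k)) :
    g ^ 2 ∈ commutator (QuaternionGroup (2 ^ k)) := by
  have : NeZero (2 ^ k) := ⟨by positivity⟩
  rw [Cfsg.Agent.Helper8.QuatFacts.commutator_eq_zpowers]
  apply Cfsg.Agent.Helper8.QuatFacts.quatEven_le_zpowers
  obtain ⟨k', rfl⟩ : ∃ k', k = k' + 1 := ⟨k - 1, by omega⟩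
  rcases g with i | i
  · refine ⟨i, ?_⟩
    rw [pow_two, QuaternionGroup.a_mul_a]
    congr 1
    ring
  · refine ⟨((2 ^ k' : ℕ) : ZMod (2 * 2 ^ (k' + 1))), ?_⟩
    rw [pow_two, QuaternionGroup.xa_mul_xa]
    congr 1
    push_cast
    ring

end quaternion

end Cfsg.Agent.Helper21.SylAb
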