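import Mathlib
import Cfsg.Agent.Helper11.GLDerD

set_option autoImplicit false
set_option linter.unusedSectionVars false

/-! The orthogonal group of the plane `x² + y²` over a field with `2 ≠ 0`. -/

namespace Cfsg.Agent.Helper21.SylAb

open Cfsg.Agent.Helper11.GLDer

section plane

variable {F : Type*} [Field F]

/-- the norm form `x² + y²` on the plane -/
def Npl (v : Fin 2 → F) : F := v 0 ^ 2 + v 1 ^ 2

/-- the orthogonal group of the plane, as linear automorphisms -/
def O2 (F : Type*) [Field F] : Subgroup (Ae F 2) where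
  carrier := {a | ∀ v, Npl (a v) = Npl v}
  one_mem' := fun v => rfl
  mul_mem' := by
    intro a b ha hb v
    show Npl (a (b v)) = Npl v
    rw [ha, hb]
  inv_mem' := by
    intro a ha v
    have h1 := ha (a.symm v)
    rw [LinearEquiv.apply_symm_apply] at h1
    exact h1.symm

theorem mem_O2 {a : Ae F 2} : a ∈ O2 F ↔ ∀ v, Npl (a v) = Npl v := Iff.rfl

theorem vec2_eq (v : Fin 2 → F) : v = ![v 0, v 1] := by
  funext k
  fin_cases k <;> rfl

theorem ae2_apply (a : Ae F 2) (v : Fin 2 → F) :
    a v = ![a ![1, 0] 0 * v 0 + a ![0, 1] 0 * v 1, a ![1, 0] 1 * v 0 + a ![0, 1] 1 * v 1] := by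
  have hv : v = v 0 • ![1, 0] + v 1 • ![0, 1] := by
    funext k
    fin_cases k <;> simp
  conv_lhs => rw [hv]
  rw [map_add, map_smul, map_smul]
  funext k
  fin_cases k <;> simp <;> ring

/-- the shape of the elements of `O2` -/
theorem O2_cases (h2 : (2 : F) ≠ 0) {a : Ae F 2} (ha : a ∈ O2 F) :
    ∃ x z t : F, x ^ 2 + z ^ 2 = 1 ∧ (t = 1 ∨ t = -1) ∧
      ∀ v, a v = ![x * v 0 - t * z * v 1, z * v 0 + t * x * v 1] := by
  set x := a ![1, 0] 0 with hx
  set z := a ![1, 0] 1 with hz
  set y := a ![0, 1] 0 with hy
  set w := a ![0, 1] 1 with hw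
  have e1 : x ^ 2 + z ^ 2 = 1 := by
    have := ha ![1, 0]
    simpa [Npl] using this
  have e2 : y ^ 2 + w ^ 2 = 1 := by
    have := ha ![0, 1]
    simpa [Npl] using this
  have e3 : x * y + z * w = 0 := by
    have h := ha ![1, 1]
    rw [ae2_apply a ![1, 1]] at h
    simp only [Npl, Matrix.cons_val_zero, Matrix.cons_val_one, mul_one] at h
    have h4 : 2 * (x * y + z * w) = 0 := by linear_combination h - e1 - e2
    rcases mul_eq_zero.1 h4 with h5 | h5
    · exact absurd h5 h2
    · exact h5
  set t := x * w - z * y with ht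
  have hw' : w = t * x := by
    rw [ht]
    linear_combination (-w) * e1 + z * e3
  have hy' : y = -(t * z) := by
    rw [ht]
    linear_combination (-y) * e1 + x * e3
  have ht2 : t * t = 1 := by
    rw [ht]
    linear_combination (y ^ 2 + w ^ 2) * e1 + e2 - (x * y + z * w) * e3
  refine ⟨x, z, t, e1, ?_, ?_⟩
  · rcases mul_self_eq_one_iff.1 ht2 with h | h
    · exact Or.inl h
    · exact Or.inr h
  · intro v
    rw [ae2_apply a v, ← hx, ← hz, ← hy, ← hw, hw', hy']
    funext k
    fin_cases k <;> simp <;> ring

/-- the reflection `diag(1, -1)` -/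
def sRefl (F : Type*) [Field F] : Ae F 2 :=
  LinearEquiv.ofLinearMap (Matrix.toLin' !![1, 0; 0, -1]) (Matrix.toLin' !![1, 0; 0, -1])
    (by
      rw [← Matrix.toLin'_mul]
      have : (!![1, 0; 0, -1] : Matrix (Fin 2) (Fin 2) F) * !![1, 0; 0, -1] = 1 := by
        rw [Matrix.mul_fin_two, Matrix.one_fin_two]
        simp
      rw [this, Matrix.toLin'_one])
    (by
      rw [← Matrix.toLin'_mul]
      have : (!![1, 0; 0, -1] : Matrix (Fin 2) (Fin 2) F) * !![1, 0; 0, -1] = 1 := by
        rw [Matrix.mul_fin_two, Matrix.one_fin_two]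
        simp
      rw [this, Matrix.toLin'_one])

theorem sRefl_apply (v : Fin 2 → F) : sRefl F v = ![v 0, -v 1] := by
  show Matrix.toLin' !![1, 0; 0, -1] v = _
  rw [Matrix.toLin'_apply]
  funext k
  fin_cases k <;> simp [Matrix.mulVec, dotProduct, Fin.sum_univ_two]

theorem sRefl_mem : sRefl F ∈ O2 F := by
  intro v
  rw [sRefl_apply]
  simp [Npl]

theorem sRefl_sq : sRefl F ^ 2 = 1 := by
  apply LinearEquiv.ext
  intro v
  rw [pow_two]
  show sRefl F (sRefl F v) = v
  rw [sRefl_apply, sRefl_apply]
  funext k
  fin_cases k <;> simp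

/-- `O2` is of dihedral type -/
theorem O2_soft (h2 : (2 : F) ≠ 0) {a : Ae F 2} (ha : a ∈ O2 F) :
    a ^ 2 = 1 ∨ (a * sRefl F) ^ 2 = 1 := by
  obtain ⟨x, z, t, e1, ht, hav⟩ := O2_cases h2 ha
  rcases ht with rfl | rfl
  · right
    apply LinearEquiv.ext
    intro v
    rw [pow_two]
    show a (sRefl F (a (sRefl F v))) = v
    rw [sRefl_apply, hav, sRefl_apply, hav]
    funext k
    fin_cases k
    · simp
      linear_combination (v 0) * e1
    · simp
      linear_combination (v 1) * e1
  · left
    apply LinearEquiv.ext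
    intro v
    rw [pow_two]
    show a (a v) = v
    rw [hav (a v), hav v]
    funext k
    fin_cases k
    · simp
      linear_combination (v 0) * e1
    · simp
      linear_combination (v 1) * e1

end plane

section count

variable {F : Type*} [Field F]

/-- the rotation with first column `(x, z)` -/
def rotE (x z : F) (h : x ^ 2 + z ^ 2 = 1) : Ae F 2 :=
  LinearEquiv.ofLinearMap (Matrix.toLin' !![x, -z; z, x]) (Matrix.toLin' !![x, z; -z, x])
    (by
      rw [← Matrix.toLin'_mul]
      have : (!![x, -z; z, x] : Matrix (Fin 2) (Fin 2) F) * !![x, z; -z, x] = 1 := by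
        rw [Matrix.mul_fin_two, Matrix.one_fin_two]
        congr 1
        funext i
        fin_cases i
        · simp
          constructor
          · linear_combination h
          · ring
        · simp
          constructor
          · ring
          · linear_combination h
      rw [this, Matrix.toLin'_one])
    (by
      rw [← Matrix.toLin'_mul]
      have : (!![x, z; -z, x] : Matrix (Fin 2) (Fin 2) F) * !![x, -z; z, x] = 1 := by
        rw [Matrix.mul_fin_two, Matrix.one_fin_two]
        congr 1
        funext i
        fin_cases i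
        · simp
          constructor
          · linear_combination h
          · ring
        · simp
          constructor
          · ring
          · linear_combination h
      rw [this, Matrix.toLin'_one])

theorem rotE_apply (x z : F) (h : x ^ 2 + z ^ 2 = 1) (v : Fin 2 → F) :
    rotE x z h v = ![x * v 0 - z * v 1, z * v 0 + x * v 1] := by
  show Matrix.toLin' !![x, -z; z, x] v = _
  rw [Matrix.toLin'_apply]
  funext k
  fin_cases k <;> simp [Matrix.mulVec, dotProduct, Fin.sum_univ_two] <;> ring

theorem rotE_mem (x z : F) (h : x ^ 2 + z ^ 2 = 1) : rotE x z h ∈ O2 F := by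
  intro v
  rw [rotE_apply]
  simp only [Npl, Matrix.cons_val_zero, Matrix.cons_val_one]
  linear_combination (v 0 ^ 2 + v 1 ^ 2) * h

/-- the circle `x² + z² = 1` -/
abbrev Circ (F : Type*) [Field F] : Type _ := {p : F × F // p.1 ^ 2 + p.2 ^ 2 = 1}

/-- parametrisation of `O2` -/
noncomputable def o2Param (p : Circ F × Bool) : ↥(O2 F) :=
  ⟨rotE p.1.1.1 p.1.1.2 p.1.2, rotE_mem _ _ _⟩ * (if p.2 then ⟨sRefl F, sRefl_mem⟩ else 1)

theorem o2Param_apply_true (p : Circ F) (v : Fin 2 → F) :
    ((o2Param (p, true) : ↥(O2 F)) : Ae F 2) v =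
      ![p.1.1 * v 0 + p.1.2 * v 1, p.1.2 * v 0 - p.1.1 * v 1] := by
  show rotE p.1.1 p.1.2 p.2 (sRefl F v) = _
  rw [sRefl_apply, rotE_apply]
  funext k
  fin_cases k <;> simp <;> ring

theorem o2Param_apply_false (p : Circ F) (v : Fin 2 → F) :
    ((o2Param (p, false) : ↥(O2 F)) : Ae F 2) v =
      ![p.1.1 * v 0 - p.1.2 * v 1, p.1.2 * v 0 + p.1.1 * v 1] := by
  show rotE p.1.1 p.1.2 p.2 v = _
  rw [rotE_apply]

theorem o2Param_bijective (h2 : (2 : F) ≠ 0) : Function.Bijective (o2Param (F := F)) := by
  constructor
  · rintro ⟨p, b⟩ ⟨p', b'⟩ h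
    have hv : ∀ v : Fin 2 → F, ((o2Param (p, b) : ↥(O2 F)) : Ae F 2) v =
        ((o2Param (p', b') : ↥(O2 F)) : Ae F 2) v := fun v => by rw [h]
    have hp : p = p' := by
      have h0 := hv ![1, 0]
      apply Subtype.ext
      apply Prod.ext
      · have := congrFun h0 0
        cases b <;> cases b' <;>
          simp only [o2Param_apply_true, o2Param_apply_false] at this <;> simpa using this
      · have := congrFun h0 1
        cases b <;> cases b' <;>
          simp only [o2Param_apply_true, o2Param_apply_false] at this <;> simpa using this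
    subst hp
    have hb : b = b' := by
      by_contra hne
      have h1 := hv ![0, 1]
      have hx : p.1.1 = 0 := by
        have := congrFun h1 1
        cases b <;> cases b' <;> simp only [o2Param_apply_true, o2Param_apply_false] at this
        · exact absurd rfl hne
        · have h3 : 2 * p.1.1 = 0 := by
            simp at this
            linear_combination this
          rcases mul_eq_zero.1 h3 with h4 | h4
          · exact absurd h4 h2
          · exact h4
        · have h3 : 2 * p.1.1 = 0 := by
            simp at this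
            linear_combination -this
          rcases mul_eq_zero.1 h3 with h4 | h4
          · exact absurd h4 h2
          · exact h4
        · exact absurd rfl hne
      have hz : p.1.2 = 0 := by
        have := congrFun h1 0
        cases b <;> cases b' <;> simp only [o2Param_apply_true, o2Param_apply_false] at this
        · exact absurd rfl hne
        · have h3 : 2 * p.1.2 = 0 := by
            simp at this
            linear_combination -this
          rcases mul_eq_zero.1 h3 with h4 | h4
          · exact absurd h4 h2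
          · exact h4
        · have h3 : 2 * p.1.2 = 0 := by
            simp at this
            linear_combination this
          rcases mul_eq_zero.1 h3 with h4 | h4
          · exact absurd h4 h2
          · exact h4
        · exact absurd rfl hne
      have := p.2
      rw [hx, hz] at this
      simp at this
    rw [hb]
  · rintro ⟨a, ha⟩
    obtain ⟨x, z, t, e1, ht, hav⟩ := O2_cases h2 ha
    rcases ht with rfl | rfl
    · refine ⟨(⟨(x, z), e1⟩, false), ?_⟩
      apply Subtype.ext
      apply LinearEquiv.ext
      intro v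
      rw [o2Param_apply_false, hav]
      funext k
      fin_cases k <;> simp
    · refine ⟨(⟨(x, z), e1⟩, true), ?_⟩
      apply Subtype.ext
      apply LinearEquiv.ext
      intro v
      rw [o2Param_apply_true, hav]
      funext k
      fin_cases k <;> simp <;> ring

end count

section circle

variable {F : Type*} [Field F]

theorem circ_aux1 (h2 : (2 : F) ≠ 0) {x z : F} (h : x ^ 2 + z ^ 2 = 1) (hx : x ≠ 1) :
    (z / (x - 1)) ^ 2 + 1 ≠ 0 := by
  have hx1 : x - 1 ≠ 0 := sub_ne_zero.2 hx
  intro h0
  have h1 : z ^ 2 + (x - 1) ^ 2 = 0 := by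
    have : (z / (x - 1)) ^ 2 + 1 = (z ^ 2 + (x - 1) ^ 2) / (x - 1) ^ 2 := by
      field_simp
    rw [this, div_eq_zero_iff] at h0
    rcases h0 with h0 | h0
    · exact h0
    · exact absurd ((pow_eq_zero_iff (by norm_num : (2 : ℕ) ≠ 0)).1 h0) hx1
  have h3 : 2 * (1 - x) = 0 := by linear_combination h1 - h
  rcases mul_eq_zero.1 h3 with h4 | h4
  · exact h2 h4
  · exact hx (by linear_combination -h4)

theorem circ_aux2 {l : F} (hl : l ^ 2 + 1 ≠ 0) :
    ((l ^ 2 - 1) / (l ^ 2 + 1)) ^ 2 + (-2 * l / (l ^ 2 + 1)) ^ 2 = 1 := by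
  field_simp
  ring

/-- inverse stereographic projection -/
noncomputable def circInv : Option {l : F // l ^ 2 + 1 ≠ 0} → Circ F
  | none => ⟨((1 : F), (0 : F)), by simp⟩
  | some l => ⟨((l.1 ^ 2 - 1) / (l.1 ^ 2 + 1), -2 * l.1 / (l.1 ^ 2 + 1)), circ_aux2 l.2⟩

open Classical in
/-- stereographic projection -/
noncomputable def circEquiv (h2 : (2 : F) ≠ 0) : Circ F ≃ Option {l : F // l ^ 2 + 1 ≠ 0} where
  toFun p := if h : p.1.1 = 1 then none else some ⟨p.1.2 / (p.1.1 - 1), circ_aux1 h2 p.2 h⟩
  invFun := circInv
  left_inv := by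
    rintro ⟨⟨x, z⟩, h⟩
    by_cases hx : x = 1
    · simp only [hx, dite_true]
      apply Subtype.ext
      have hz : z = 0 := by
        have h' : x ^ 2 + z ^ 2 = 1 := h
        rw [hx] at h'
        have : z ^ 2 = 0 := by linear_combination h'
        exact (pow_eq_zero_iff (by norm_num : (2 : ℕ) ≠ 0)).1 this
      simp [hx, hz, circInv]
    · simp only [hx, dite_false]
      apply Subtype.ext
      have hx1 : x - 1 ≠ 0 := sub_ne_zero.2 hx
      have h' : x ^ 2 + z ^ 2 = 1 := h
      have hne := circ_aux1 h2 h' hx
      have hne' : z ^ 2 + (x - 1) ^ 2 ≠ 0 := by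
        intro h0
        apply hne
        have : (z / (x - 1)) ^ 2 + 1 = (z ^ 2 + (x - 1) ^ 2) / (x - 1) ^ 2 := by
          field_simp
        rw [this, h0, zero_div]
      have hz2 : z ^ 2 = 1 - x ^ 2 := by linear_combination h'
      simp only [circInv]
      apply Prod.ext
      · show ((z / (x - 1)) ^ 2 - 1) / ((z / (x - 1)) ^ 2 + 1) = x
        rw [div_eq_iff hne]
        field_simp
        rw [hz2]
        ring
      · show -2 * (z / (x - 1)) / ((z / (x - 1)) ^ 2 + 1) = z
        rw [div_eq_iff hne]
        field_simp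
        rw [hz2]
        ring
  right_inv := by
    rintro (_ | ⟨l, hl⟩)
    · simp [circInv]
    · have hx : (l ^ 2 - 1) / (l ^ 2 + 1) ≠ 1 := by
        intro h
        rw [div_eq_iff hl] at h
        apply h2
        linear_combination -h
      have hx' : (circInv (some ⟨l, hl⟩) : Circ F).1.1 ≠ 1 := hx
      beta_reduce
      rw [dif_neg hx']
      congr 1
      apply Subtype.ext
      show -2 * l / (l ^ 2 + 1) / ((l ^ 2 - 1) / (l ^ 2 + 1) - 1) = l
      have h3 : (l ^ 2 - 1) / (l ^ 2 + 1) - 1 = -2 / (l ^ 2 + 1) := by
        field_simp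
        ring
      rw [h3]
      field_simp

end circle

section cardO2

variable {F : Type*} [Field F] [Fintype F]

theorem two_ne_zero_of_odd (hodd : Odd (Fintype.card F)) : (2 : F) ≠ 0 := by
  apply Ring.two_ne_zero
  intro h
  rw [FiniteField.even_card_iff_char_two] at h
  rw [← Nat.not_even_iff_odd, Nat.even_iff] at hodd
  exact hodd h

theorem card_sqrt_neg_one (hodd : Odd (Fintype.card F)) :
    Nat.card {l : F // l ^ 2 + 1 = 0} = if Fintype.card F % 4 = 1 then 2 else 0 := by
  classical
  have h2 : (2 : F) ≠ 0 := two_ne_zero_of_odd hodd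
  have hmod : Fintype.card F % 4 = 1 ∨ Fintype.card F % 4 = 3 := by
    obtain ⟨k, hk⟩ := hodd
    omega
  rw [Nat.card_eq_fintype_card, Fintype.card_subtype]
  rcases hmod with h | h
  · rw [if_pos h]
    have hsq : IsSquare (-1 : F) := by
      rw [FiniteField.isSquare_neg_one_iff]
      omega
    obtain ⟨i, hi⟩ := hsq
    have hne : i ≠ -i := by
      intro h3
      have h4 : 2 * i = 0 := by linear_combination h3
      rcases mul_eq_zero.1 h4 with h5 | h5
      · exact h2 h5
      · rw [h5] at hi
        simp at hi
    have hset : (Finset.univ.filter (fun l : F => l ^ 2 + 1 = 0)) = {i, -i} := by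
      ext l
      simp only [Finset.mem_filter, Finset.mem_univ, true_and, Finset.mem_insert,
        Finset.mem_singleton]
      constructor
      · intro hl
        have h5 : (l - i) * (l + i) = 0 := by linear_combination hl + hi
        rcases mul_eq_zero.1 h5 with h6 | h6
        · left
          linear_combination h6
        · right
          linear_combination h6
      · rintro (rfl | rfl)
        · linear_combination -hi
        · linear_combination -hi
    rw [hset, Finset.card_pair hne]
  · have h' : ¬ Fintype.card F % 4 = 1 := by omega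
    rw [if_neg h']
    rw [Finset.card_eq_zero, Finset.filter_eq_empty_iff]
    intro l _ hl
    have hsq : IsSquare (-1 : F) := ⟨l, by linear_combination -hl⟩
    rw [FiniteField.isSquare_neg_one_iff] at hsq
    exact hsq h

theorem card_circ (hodd : Odd (Fintype.card F)) :
    Nat.card (Circ F) =
      if Fintype.card F % 4 = 1 then Fintype.card F - 1 else Fintype.card F + 1 := by
  classical
  have h2 : (2 : F) ≠ 0 := two_ne_zero_of_odd hodd
  have hq : 3 ≤ Fintype.card F := by
    have h1 : 2 ≤ Fintype.card F := Fintype.one_lt_card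
    obtain ⟨k, hk⟩ := hodd
    omega
  rw [Nat.card_congr (circEquiv h2), Nat.card_eq_fintype_card, Fintype.card_option,
    Fintype.card_subtype_compl, ← Nat.card_eq_fintype_card (α := {l : F // l ^ 2 + 1 = 0}),
    card_sqrt_neg_one hodd]
  split_ifs <;> omega

theorem card_O2 (hodd : Odd (Fintype.card F)) :
    Nat.card ↥(O2 F) =
      2 * (if Fintype.card F % 4 = 1 then Fintype.card F - 1 else Fintype.card F + 1) := by
  have h2 : (2 : F) ≠ 0 := two_ne_zero_of_odd hodd
  rw [← Nat.card_eq_of_bijective _ (o2Param_bijective h2), Nat.card_prod, card_circ hodd,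
    Nat.card_eq_fintype_card (α := Bool), Fintype.card_bool, mul_comm]

end cardO2

end Cfsg.Agent.Helper21.SylAb
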