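import Mathlib
import Cfsg.Agent.Helper21.SylAb9
import Cfsg.Agent.Helper11.GLDerG
import Cfsg.Agent.Helper28.Spin1

set_option autoImplicit false
set_option linter.unusedSectionVars false

/-! The embedding of `O_2 ≀ S_m × {±1}^r` in the isometry group of a quadratic form with an
orthogonal basis of norms `(1, …, 1, c_1, …, c_r)`. -/

namespace Cfsg.Agent.Helper21.SylAb

open Matrix Cfsg.Agent.Helper11.SpNorm Cfsg.Agent.Helper11.SpDer Cfsg.Agent.Helper11.GLDer
  Cfsg.Agent.Helper28.IsoTransport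

section model

variable {F : Type*} [Field F] (m r : ℕ)

/-- the model quadratic function -/
def Qmod (c : Fin r → F) (p : Vm F 2 m × (Fin r → F)) : F :=
  (∑ i, Npl (p.1 i)) + ∑ k, c k * (p.2 k) ^ 2

theorem unit_cast_mul_self (u : ℤˣ) : ((u : ℤ) : F) * ((u : ℤ) : F) = 1 := by
  rw [← Int.cast_mul, ← Units.val_mul, Int.units_mul_self]
  simp

/-- the diagonal sign matrices -/
def diagE (F : Type*) [Field F] (r : ℕ) : (Fin r → ℤˣ) →* Ae F r where
  toFun u :=
    { toFun := fun t k => ((u k : ℤ) : F) * t k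
      map_add' := fun s t => by funext k; simp [mul_add]
      map_smul' := fun a t => by funext k; simp; ring
      invFun := fun t k => ((u k : ℤ) : F) * t k
      left_inv := fun t => by
        funext k
        show ((u k : ℤ) : F) * (((u k : ℤ) : F) * t k) = t k
        rw [← mul_assoc, unit_cast_mul_self, one_mul]
      right_inv := fun t => by
        funext k
        show ((u k : ℤ) : F) * (((u k : ℤ) : F) * t k) = t k
        rw [← mul_assoc, unit_cast_mul_self, one_mul] }
  map_one' := by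
    apply LinearEquiv.ext
    intro t
    funext k
    show (((1 : Fin r → ℤˣ) k : ℤ) : F) * t k = t k
    simp
  map_mul' u v := by
    apply LinearEquiv.ext
    intro t
    funext k
    show (((u * v) k : ℤ) : F) * t k = ((u k : ℤ) : F) * (((v k : ℤ) : F) * t k)
    simp [mul_assoc]

theorem diagE_apply (u : Fin r → ℤˣ) (t : Fin r → F) (k : Fin r) :
    diagE F r u t k = ((u k : ℤ) : F) * t k := rfl

theorem diagE_injective (h2 : (2 : F) ≠ 0) : Function.Injective (diagE F r) := by
  intro u v h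
  funext k
  have h1 := congrArg (fun a : Ae F r => a (fun _ => (1 : F)) k) h
  simp only [diagE_apply, mul_one] at h1
  rcases Int.units_eq_one_or (u k) with hu | hu <;> rcases Int.units_eq_one_or (v k) with hv | hv
  · rw [hu, hv]
  · exfalso
    rw [hu, hv] at h1
    simp at h1
    apply h2
    linear_combination h1
  · exfalso
    rw [hu, hv] at h1
    simp at h1
    apply h2
    linear_combination -h1
  · rw [hu, hv]

/-- the inclusion of wreath products -/
def wrIncl (F : Type*) [Field F] (m : ℕ) : Wr ↥(O2 F) (Fin m) →* Wr (Ae F 2) (Fin m) :=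
  SemidirectProduct.map (MonoidHom.compLeft (O2 F).subtype (Fin m)) (MonoidHom.id _) (by
    intro σ
    apply MonoidHom.ext
    intro f
    rfl)

theorem wrIncl_left (w : Wr ↥(O2 F) (Fin m)) (i : Fin m) :
    (wrIncl F m w).left i = ((w.left i : ↥(O2 F)) : Ae F 2) := rfl

theorem wrIncl_right (w : Wr ↥(O2 F) (Fin m)) : (wrIncl F m w).right = w.right := rfl

theorem wrIncl_injective : Function.Injective (wrIncl F m) := by
  intro w w' h
  ext1
  · funext i
    apply Subtype.ext
    have := congrArg (fun x : Wr (Ae F 2) (Fin m) => x.left i) h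
    exact this
  · have := congrArg (fun x : Wr (Ae F 2) (Fin m) => x.right) h
    exact this

variable {ι : Type} [Fintype ι] [DecidableEq ι]

/-- matrices versus linear automorphisms, general index type -/
noncomputable def glE (F : Type*) [Field F] (ι : Type) [Fintype ι] [DecidableEq ι] :
    GL ι F ≃* ((ι → F) ≃ₗ[F] (ι → F)) :=
  Matrix.GeneralLinearGroup.toLin.trans (LinearMap.GeneralLinearGroup.generalLinearEquiv F _)

theorem glE_apply (g : GL ι F) (v : ι → F) : glE F ι g v = (g : Matrix ι ι F) *ᵥ v := by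
  show Matrix.toLin' (g : Matrix ι ι F) v = _
  rw [Matrix.toLin'_apply]

theorem glE_symm_mulVec (φ : (ι → F) ≃ₗ[F] (ι → F)) (v : ι → F) :
    (((glE F ι).symm φ : GL ι F) : Matrix ι ι F) *ᵥ v = φ v := by
  rw [← glE_apply, MulEquiv.apply_symm_apply]

/-- the model embedding into `GL` -/
noncomputable def Phi0 (ε : (ι → F) ≃ₗ[F] (Vm F 2 m × (Fin r → F))) :
    Wr ↥(O2 F) (Fin m) × (Fin r → ℤˣ) →* GL ι F :=
  (glE F ι).symm.toMonoidHom.comp
    ((congrHom ε.symm).comp
      ((prodHom F (Vm F 2 m) (Fin r → F)).comp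
        (MonoidHom.prodMap ((Psi F 2 m).comp (wrIncl F m)) (diagE F r))))

theorem Phi0_mulVec (ε : (ι → F) ≃ₗ[F] (Vm F 2 m × (Fin r → F)))
    (x : Wr ↥(O2 F) (Fin m) × (Fin r → ℤˣ)) (v : ι → F) :
    ((Phi0 m r ε x : GL ι F) : Matrix ι ι F) *ᵥ v =
      ε.symm (Psi F 2 m (wrIncl F m x.1) (ε v).1, diagE F r x.2 (ε v).2) := by
  show (((glE F ι).symm _ : GL ι F) : Matrix ι ι F) *ᵥ v = _
  rw [glE_symm_mulVec]
  rfl

theorem Phi0_injective [Fintype F] (h2 : (2 : F) ≠ 0) (ε : (ι → F) ≃ₗ[F] (Vm F 2 m × (Fin r → F))) :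
    Function.Injective (Phi0 m r ε) := by
  unfold Phi0
  refine (glE F ι).symm.injective.comp
    ((congrHom_injective _).comp ((prodHom_injective F _ _).comp ?_))
  rintro ⟨a, b⟩ ⟨a', b'⟩ hab
  have h1 : Psi F 2 m (wrIncl F m a) = Psi F 2 m (wrIncl F m a') := congrArg Prod.fst hab
  have h3 : diagE F r b = diagE F r b' := congrArg Prod.snd hab
  rw [wrIncl_injective m (Psi_injective F 2 m (by norm_num) h1), diagE_injective r h2 h3]

/-- the model embedding preserves the form -/
theorem Phi0_isom (Q : (ι → F) → F) (c : Fin r → F)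
    (ε : (ι → F) ≃ₗ[F] (Vm F 2 m × (Fin r → F))) (hε : ∀ v, Q v = Qmod m r c (ε v))
    (x : Wr ↥(O2 F) (Fin m) × (Fin r → ℤˣ)) (v : ι → F) :
    Q (((Phi0 m r ε x : GL ι F) : Matrix ι ι F) *ᵥ v) = Q v := by
  rw [Phi0_mulVec, hε, hε, LinearEquiv.apply_symm_apply, Qmod, Qmod]
  congr 1
  · have h1 : ∀ i, Npl (Psi F 2 m (wrIncl F m x.1) (ε v).1 i) =
        Npl ((ε v).1 (x.1.right.symm i)) := by
      intro i
      rw [Psi_apply, wrIncl_left, wrIncl_right]
      exact (x.1.left i).2 _
    rw [Finset.sum_congr rfl (fun i _ => h1 i)]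
    exact Equiv.sum_comp x.1.right.symm (fun i => Npl ((ε v).1 i))
  · apply Finset.sum_congr rfl
    intro k _
    show c k * (diagE F r x.2 (ε v).2 k) ^ 2 = _
    rw [diagE_apply, mul_pow, pow_two (((x.2 k : ℤ) : F)), unit_cast_mul_self, one_mul]

/-- the model embedding into the isometry group -/
noncomputable def PhiO (Q : (ι → F) → F) (c : Fin r → F)
    (ε : (ι → F) ≃ₗ[F] (Vm F 2 m × (Fin r → F))) (hε : ∀ v, Q v = Qmod m r c (ε v)) :
    Wr ↥(O2 F) (Fin m) × (Fin r → ℤˣ) →* ↥(Cfsg.isometryGroup F Q) :=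
  (Phi0 m r ε).codRestrict (Cfsg.isometryGroup F Q) (fun x => by
    rw [mem_isometryGroup_iff]
    exact Phi0_isom m r Q c ε hε x)

theorem PhiO_val (Q : (ι → F) → F) (c : Fin r → F)
    (ε : (ι → F) ≃ₗ[F] (Vm F 2 m × (Fin r → F))) (hε : ∀ v, Q v = Qmod m r c (ε v))
    (x : Wr ↥(O2 F) (Fin m) × (Fin r → ℤˣ)) :
    ((PhiO m r Q c ε hε x : ↥(Cfsg.isometryGroup F Q)) : GL ι F) = Phi0 m r ε x := rfl

theorem PhiO_injective [Fintype F] (h2 : (2 : F) ≠ 0) (Q : (ι → F) → F) (c : Fin r → F)
    (ε : (ι → F) ≃ₗ[F] (Vm F 2 m × (Fin r → F))) (hε : ∀ v, Q v = Qmod m r c (ε v)) :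
    Function.Injective (PhiO m r Q c ε hε) := by
  intro x y h
  apply Phi0_injective m r h2 ε
  have := congrArg (fun g : ↥(Cfsg.isometryGroup F Q) => (g : GL ι F)) h
  exact this

end model

end Cfsg.Agent.Helper21.SylAb
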