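import Mathlib
import Cfsg.Agent.Helper21.SylAb1

set_option autoImplicit false
set_option linter.unusedSectionVars false

/-! Sylow 2-subgroups of wreath products `A ≀ Sym(Ω)` and of `Sp_2n(q)`, `q` odd:
squares lie in the derived subgroup. -/

namespace Cfsg.Agent.Helper21.SylAb

open Matrix Cfsg.Agent.Helper11.SpNorm Cfsg.Agent.Helper11.SpDer Cfsg.Agent.Helper11.GLNr
  Cfsg.Agent.Helper14.SylSn

section wreath

variable {A : Type*} [Group A] {Ω : Type*} [Fintype Ω] [DecidableEq Ω]

theorem sqC_wrS (Q : Subgroup A) (P : Subgroup (Equiv.Perm Ω)) (hQ : SqC Q) (hP : GenBy 2 P) :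
    SqC (wrS Q P) := by
  obtain ⟨Y, hY, hPY⟩ := hP
  have hYP : Y ⊆ P := by
    rw [hPY]
    exact Subgroup.subset_closure
  set X : Set (Wr A Ω) := {x | ∃ i, ∃ a ∈ Q, x = embAt A i a} ∪
    ((SemidirectProduct.inr : Equiv.Perm Ω →* Wr A Ω) '' Y) with hXdef
  have hinr : ∀ σ ∈ P, (SemidirectProduct.inr σ : Wr A Ω) ∈ wrS Q P := by
    intro σ hσ
    exact ⟨fun i => Q.one_mem, hσ⟩
  apply sqC_of_closure (wrS Q P) X
  · apply le_antisymm
    · intro x hx
      obtain ⟨hx1, hx2⟩ := hx
      rw [← SemidirectProduct.inl_left_mul_inr_right x]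
      apply Subgroup.mul_mem
      · have : x.left ∈ (Subgroup.closure X).comap
            (SemidirectProduct.inl : (Ω → A) →* Wr A Ω) := by
          apply Subgroup.pi_mem_of_mulSingle_mem
          intro i
          rw [Subgroup.mem_comap]
          apply Subgroup.subset_closure
          left
          exact ⟨i, x.left i, hx1 i, rfl⟩
        exact this
      · have h1 : (SemidirectProduct.inr x.right : Wr A Ω) ∈
            (Subgroup.closure Y).map (SemidirectProduct.inr : Equiv.Perm Ω →* Wr A Ω) :=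
          ⟨x.right, by rw [← hPY]; exact hx2, rfl⟩
        rw [MonoidHom.map_closure] at h1
        exact Subgroup.closure_mono Set.subset_union_right h1
    · rw [Subgroup.closure_le]
      rintro x (⟨i, a, ha, rfl⟩ | ⟨σ, hσ, rfl⟩)
      · exact embAt_mem_wrS P i ha
      · exact hinr σ (hYP hσ)
  · rintro x (⟨i, a, ha, rfl⟩ | ⟨σ, hσ, rfl⟩)
    · rw [← map_pow]
      have h1 : embAt A i (a ^ 2) ∈ (⁅Q, Q⁆).map (embAt A i) := ⟨_, hQ a ha, rfl⟩
      rw [Subgroup.map_commutator] at h1
      have hle : Q.map (embAt A i) ≤ wrS Q P := by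
        rintro _ ⟨c, hc, rfl⟩
        exact embAt_mem_wrS P i hc
      exact Subgroup.commutator_mono hle hle h1
    · rw [← map_pow, hY σ hσ, map_one]
      exact Subgroup.one_mem _

end wreath

section symplectic

variable {F : Type*} [Field F] [Fintype F]

theorem sqC_sylow_sl2 (hF : Odd (Fintype.card F))
    (Q0 : Sylow 2 (SpecialLinearGroup (Fin 2) F)) :
    SqC (Q0 : Subgroup (SpecialLinearGroup (Fin 2) F)) := by
  obtain ⟨k, hk, ⟨e⟩⟩ := Cfsg.Agent.Helper2.SL2Q.sylow_quaternion hF Q0
  rw [sqC_iff_subtype]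
  exact sqC_of_equiv e.symm (quaternion_sq k hk)

/-- **Sylow 2-subgroups of `Sp_2n(q)`, `q` odd, have elementary abelian abelianisation.** -/
theorem sqC_sylow_sp (hF : Odd (Fintype.card F)) (n : ℕ)
    (R : Sylow 2 ↥(symplecticGroup (Fin n) F)) :
    SqC (R : Subgroup ↥(symplecticGroup (Fin n) F)) := by
  classical
  have : Fact (Nat.Prime 2) := ⟨Nat.prime_two⟩
  obtain ⟨Q0⟩ := (inferInstance : Nonempty (Sylow 2 (SpecialLinearGroup (Fin 2) F)))
  obtain ⟨S0⟩ := (inferInstance : Nonempty (Sylow 2 (Equiv.Perm (Fin n))))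
  set T1 := wrS (Q0 : Subgroup (SpecialLinearGroup (Fin 2) F))
    (S0 : Subgroup (Equiv.Perm (Fin n))) with hT1
  have hT1sq : SqC T1 := sqC_wrS _ _ (sqC_sylow_sl2 hF Q0) (sylow_perm_genBy 2 n S0)
  set T' : Subgroup ↥(symplecticGroup (Fin n) F) := T1.map (Phi F (Fin n)) with hT'
  have hT'sq : SqC T' := hT1sq.map _
  have hcard : Nat.card T' =
      2 ^ (Nat.card ↥(symplecticGroup (Fin n) F)).factorization 2 := by
    rw [hT', Subgroup.card_map_of_injective Phi_injective, hT1, card_wrS,
      Q0.card_eq_multiplicity, S0.card_eq_multiplicity, Fintype.card_fin, ← pow_mul, ← pow_add]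
    congr 1
    have hfac : (Nat.card ↥(monomial F (Fin n))).factorization 2 =
        (Nat.card ↥(symplecticGroup (Fin n) F)).factorization 2 := by
      rw [Nat.factorization_def _ Nat.prime_two, Nat.factorization_def _ Nat.prime_two,
        padic_card_monomial hF n, padic_card_sp hF n]
    rw [← hfac, card_monomial, Fintype.card_fin,
      Nat.factorization_mul (pow_ne_zero _ Nat.card_pos.ne') (Nat.factorial_ne_zero n),
      Nat.factorization_pow, Nat.card_perm, Nat.card_fin]
    simp only [Finsupp.coe_add, Finsupp.coe_smul, Pi.add_apply, Pi.smul_apply, smul_eq_mul]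
    ring
  let P : Sylow 2 ↥(symplecticGroup (Fin n) F) := Sylow.ofCard T' hcard
  have hP : (P : Subgroup ↥(symplecticGroup (Fin n) F)) = T' := rfl
  obtain ⟨g, hg⟩ := MulAction.exists_smul_eq ↥(symplecticGroup (Fin n) F) P R
  have hR : (R : Subgroup ↥(symplecticGroup (Fin n) F)) =
      T'.map (MulAut.conj g).toMonoidHom := by
    rw [← hg, ← hP]
    rfl
  rw [hR]
  exact hT'sq.map _

end symplectic

end Cfsg.Agent.Helper21.SylAb
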