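import Mathlib
import Cfsg.Agent.Helper21.SylAb2
import Cfsg.Agent.Helper11.GLNrD
import Cfsg.Agent.Helper18.QD3
import Cfsg.Agent.Lead.CoprimeSylow2

set_option autoImplicit false
set_option linter.unusedSectionVars false

/-! Sylow 2-subgroups of `GL_n(q)` and `SL_n(q)`, `q ≡ 3 (mod 4)`: squares lie in the derived
subgroup. -/

namespace Cfsg.Agent.Helper21.SylAb

open Matrix Cfsg.Agent.Helper11.SpNorm Cfsg.Agent.Helper11.SpDer Cfsg.Agent.Helper11.GLNr
  Cfsg.Agent.Helper11.GLDer Cfsg.Agent.Helper14.SylSn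
open scoped commutatorElement

section generic

variable {G : Type*} [Group G]

theorem sqC_prod {G' : Type*} [Group G'] {H : Subgroup G} {K : Subgroup G'} (hH : SqC H)
    (hK : SqC K) : SqC (H.prod K) := by
  rintro ⟨a, b⟩ ⟨ha, hb⟩
  rw [Subgroup.commutator_prod_prod]
  exact ⟨hH a ha, hK b hb⟩

theorem SqC.of_map_injective {H : Subgroup G} {G' : Type*} [Group G'] (f : G →* G')
    (hf : Function.Injective f) (h : SqC (H.map f)) : SqC H := by
  intro y hy
  have h1 := h (f y) ⟨y, hy, rfl⟩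
  rw [← map_pow, ← Subgroup.map_commutator] at h1
  obtain ⟨c, hc, hcy⟩ := h1
  rw [← hf hcy]
  exact hc

theorem sqC_of_exp_two {H : Subgroup G} (h : ∀ a ∈ H, a ^ 2 = 1) : SqC H := by
  intro y hy
  rw [h y hy]
  exact Subgroup.one_mem _

theorem commutatorElement_mul_central {z : G} (hz : ∀ g, Commute z g) (s t : G) (a b : ℕ) :
    ⁅s * z ^ a, t * z ^ b⁆ = ⁅s, t⁆ := by
  have hza : ∀ g, Commute (z ^ a) g := fun g => (hz g).pow_left a
  have hzb : ∀ g, Commute (z ^ b) g := fun g => (hz g).pow_left b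
  have h1 : ∀ y : G, ⁅s * z ^ a, y⁆ = ⁅s, y⁆ := by
    intro y
    rw [commutatorElement_def, commutatorElement_def]
    have : s * z ^ a * y * (s * z ^ a)⁻¹ = s * y * s⁻¹ := by
      calc s * z ^ a * y * (s * z ^ a)⁻¹ = s * (z ^ a * y) * ((z ^ a)⁻¹ * s⁻¹) := by group
        _ = s * (y * z ^ a) * ((z ^ a)⁻¹ * s⁻¹) := by rw [(hza y).eq]
        _ = s * y * s⁻¹ := by group
    rw [this]
  have h2 : ⁅s, t * z ^ b⁆ = ⁅s, t⁆ := by
    rw [commutatorElement_def, commutatorElement_def]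
    calc s * (t * z ^ b) * s⁻¹ * (t * z ^ b)⁻¹ = s * t * (z ^ b * s⁻¹) * ((z ^ b)⁻¹ * t⁻¹) := by
          group
      _ = s * t * (s⁻¹ * z ^ b) * ((z ^ b)⁻¹ * t⁻¹) := by rw [(hzb s⁻¹).eq]
      _ = s * t * s⁻¹ * t⁻¹ := by group
  rw [h1, h2]

/-- passing to the "determinant one" part when a central element splits it off -/
theorem sqC_inf_of_central {S N : Subgroup G} {z : G} (hzS : z ∈ S) (hz : ∀ g, Commute z g)
    (hsplit : ∀ s ∈ S, s ∈ N ∨ s * z ∈ N) (h : SqC S) : SqC (S ⊓ N) := by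
  intro y hy
  have h1 := h y hy.1
  have hle : ⁅S, S⁆ ≤ ⁅S ⊓ N, S ⊓ N⁆ := by
    rw [Subgroup.commutator_le]
    intro s hs t ht
    obtain ⟨a, ha⟩ : ∃ a : ℕ, s * z ^ a ∈ S ⊓ N := by
      rcases hsplit s hs with h' | h'
      · exact ⟨0, by rw [pow_zero, mul_one]; exact ⟨hs, h'⟩⟩
      · exact ⟨1, by rw [pow_one]; exact ⟨S.mul_mem hs hzS, h'⟩⟩
    obtain ⟨b, hb⟩ : ∃ b : ℕ, t * z ^ b ∈ S ⊓ N := by
      rcases hsplit t ht with h' | h'
      · exact ⟨0, by rw [pow_zero, mul_one]; exact ⟨ht, h'⟩⟩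
      · exact ⟨1, by rw [pow_one]; exact ⟨S.mul_mem ht hzS, h'⟩⟩
    rw [← commutatorElement_mul_central hz s t a b]
    exact Subgroup.commutator_mem_commutator ha hb
  exact hle h1

theorem quasiDihedral_sq {K : Type*} [Group K] [Finite K] (h : Cfsg.IsQuasiDihedral K) (k : K) :
    k ^ 2 ∈ commutator K := by
  obtain ⟨D⟩ := Cfsg.Agent.Helper18.QD.exists_qdData h
  rw [D.commutator_eq_R2, pow_two]
  rcases D.exists_rep k with ⟨i, rfl⟩ | ⟨i, rfl⟩
  · refine ⟨i, ?_⟩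
    rw [← D.r_add]
    congr 1
    ring
  · rw [D.sr_mul_self]
    refine ⟨Cfsg.Agent.Helper18.QD.qq D.n * i, ?_⟩
    rw [← mul_assoc, Cfsg.Agent.Helper18.QD.two_mul_qq D.hn2]

end generic

section gl

variable {F : Type*} [Field F] [Fintype F]

/-- structure of the Sylow 2-subgroups of `GL_n(q)`, `q` odd -/
theorem exists_gl_sylow_iso (hodd : Odd (Fintype.card F)) (n : ℕ) (S : Sylow 2 (GL (Fin n) F)) :
    ∃ (Q0 : Subgroup (Ae F 2)) (P : Sylow 2 (Equiv.Perm (Fin (n / 2))))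
      (Q' : Subgroup (Ae F (n - n / 2 * 2))),
      Nat.card Q0 = 2 ^ padicValNat 2 (Nat.card (GL (Fin 2) F)) ∧
      Nat.card Q' = 2 ^ ((n % 2) * padicValNat 2 (Fintype.card F - 1)) ∧
      Nonempty (↥((wrS Q0 (P : Subgroup (Equiv.Perm (Fin (n / 2))))).prod Q') ≃*
        ↥(S : Subgroup (GL (Fin n) F))) := by
  classical
  have : Fact (Nat.Prime 2) := ⟨Nat.prime_two⟩
  set q := Fintype.card F with hq
  set m := n / 2 with hm
  have hme : m * 2 ≤ n := Nat.div_mul_le_self n 2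
  set r := n - m * 2 with hr
  have hr1 : r ≤ 1 := by omega
  have hrmod : r = n % 2 := by omega
  set c := padicValNat 2 (q - 1) + padicValNat 2 (q ^ 2 - 1) with hc
  have hGL2 : padicValNat 2 (Nat.card (GL (Fin 2) F)) = c := by
    rw [padic_two_card_GL hodd 2]
    simp [hc, hq]
  have hGLr : padicValNat 2 (Nat.card (GL (Fin r) F)) = r * padicValNat 2 (q - 1) := by
    rw [padic_two_card_GL hodd r, ← hq]
    interval_cases r <;> simp
  have hGLn : padicValNat 2 (Nat.card (GL (Fin n) F)) =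
      m * c + padicValNat 2 m.factorial + r * padicValNat 2 (q - 1) := by
    rw [padic_two_card_GL hodd n, hrmod]
  have : Finite (Ae F 2) := Finite.of_equiv _ (glEquiv F 2).toEquiv
  have : Finite (Ae F r) := Finite.of_equiv _ (glEquiv F r).toEquiv
  obtain ⟨Q0⟩ := (inferInstance : Nonempty (Sylow 2 (Ae F 2)))
  obtain ⟨P⟩ := (inferInstance : Nonempty (Sylow 2 (Equiv.Perm (Fin m))))
  obtain ⟨Q'⟩ := (inferInstance : Nonempty (Sylow 2 (Ae F r)))
  have hQ0card : Nat.card (Q0 : Subgroup (Ae F 2)) = 2 ^ c := by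
    rw [card_sylow_ae 2 Q0, hGL2]
  have hQ'card : Nat.card (Q' : Subgroup (Ae F r)) = 2 ^ (r * padicValNat 2 (q - 1)) := by
    rw [card_sylow_ae r Q', hGLr]
  have hcard : Nat.card (Q0 : Subgroup (Ae F 2)) ^ m * Nat.card (P : Subgroup (Equiv.Perm (Fin m))) *
      Nat.card (Q' : Subgroup (Ae F r)) = 2 ^ padicValNat 2 (Nat.card (GL (Fin n) F)) := by
    rw [hQ0card, card_sylow_perm m P, hQ'card, hGLn, ← pow_mul, ← pow_add, ← pow_add, mul_comm c m]
  obtain ⟨iso⟩ := exists_sylow_iso 2 m n (by norm_num) hme (Q0 : Subgroup (Ae F 2))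
    (P : Subgroup (Equiv.Perm (Fin m))) (Q' : Subgroup (Ae F r)) hcard S
  refine ⟨Q0, P, Q', ?_, ?_, ⟨iso⟩⟩
  · rw [hQ0card, hGL2]
  · rw [hQ'card, hrmod]

/-- Sylow 2-subgroups of `GL_n(q)`, `q ≡ 3 (mod 4)` -/
theorem sqC_sylow_gl_three (h3 : Fintype.card F % 4 = 3) (n : ℕ) (S : Sylow 2 (GL (Fin n) F)) :
    SqC (S : Subgroup (GL (Fin n) F)) := by
  classical
  have : Fact (Nat.Prime 2) := ⟨Nat.prime_two⟩
  have hodd : Odd (Fintype.card F) := by
    rw [Nat.odd_iff]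
    omega
  obtain ⟨Q0, P, Q', hQ0card, hQ'card, ⟨iso⟩⟩ := exists_gl_sylow_iso hodd n S
  have hq1 : padicValNat 2 (Fintype.card F - 1) = 1 := padic_two_of_mod_four _ (by omega)
  -- the quasi-dihedral factor
  have hinj : Function.Injective (glEquiv F 2).symm.toMonoidHom := (glEquiv F 2).symm.injective
  let P0 : Sylow 2 (GL (Fin 2) F) :=
    Sylow.ofCard (Q0.map (glEquiv F 2).symm.toMonoidHom) (by
      rw [Subgroup.card_map_of_injective hinj, hQ0card, Nat.factorization_def _ Nat.prime_two])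
  have hqd0 : Cfsg.IsQuasiDihedral ↥(P0 : Subgroup (GL (Fin 2) F)) :=
    Cfsg.Agent.Helper18.GL2Sylow.qd_case P0 h3
  have hqd : Cfsg.IsQuasiDihedral ↥Q0 :=
    isQuasiDihedral_of_equiv
      (Q0.equivMapOfInjective (glEquiv F 2).symm.toMonoidHom hinj).symm hqd0
  have : Finite (Ae F 2) := Finite.of_equiv _ (glEquiv F 2).toEquiv
  have hQ0 : SqC Q0 := (sqC_iff_subtype Q0).2 (quasiDihedral_sq hqd)
  -- the small factor
  have hQ' : SqC Q' := by
    apply sqC_of_exp_two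
    intro a ha
    have h1 : orderOf (⟨a, ha⟩ : Q') ∣ 2 ^ ((n % 2) * 1) := by
      rw [← hq1, ← hQ'card]
      exact orderOf_dvd_natCard _
    have h2 : (2 : ℕ) ^ ((n % 2) * 1) ∣ 2 := by
      rcases Nat.mod_two_eq_zero_or_one n with h | h <;> rw [h] <;> norm_num
    have h3 := orderOf_dvd_iff_pow_eq_one.mp (h1.trans h2)
    exact congrArg Subtype.val h3
  have hprod := sqC_prod (sqC_wrS Q0 (P : Subgroup (Equiv.Perm (Fin (n / 2)))) hQ0
    (sylow_perm_genBy 2 _ P)) hQ'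
  rw [sqC_iff_subtype]
  exact sqC_of_equiv iso ((sqC_iff_subtype _).1 hprod)

end gl

end Cfsg.Agent.Helper21.SylAb
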