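import Mathlib
import Cfsg.Agent.Helper21.SylAb3

set_option autoImplicit false
set_option linter.unusedSectionVars false

/-! The "determinant one" part of a wreath product `Q0 ≀ P`: squares lie in the derived
subgroup. -/

namespace Cfsg.Agent.Helper21.SylAb

open Cfsg.Agent.Helper11.SpNorm Cfsg.Agent.Helper11.SpDer Cfsg.Agent.Helper11.GLNr
  Cfsg.Agent.Helper14.SylSn
open scoped commutatorElement

section wrker

variable {A : Type*} [Group A] {Ω : Type*} [Fintype Ω] [DecidableEq Ω] {M : Type*} [CommGroup M]

/-- the product of `d` over the base coordinates -/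
def Dw (d : A →* M) : Wr A Ω →* M where
  toFun x := ∏ i, d (x.left i)
  map_one' := by simp
  map_mul' x y := by
    rw [SemidirectProduct.mul_left]
    simp only [Pi.mul_apply, map_mul, phi_apply']
    rw [Finset.prod_mul_distrib]
    congr 1
    exact Equiv.prod_comp x.right.symm (fun i => d (y.left i))

theorem Dw_apply (d : A →* M) (x : Wr A Ω) : Dw d x = ∏ i, d (x.left i) := rfl

theorem Dw_embAt (d : A →* M) (i : Ω) (a : A) : Dw d (embAt A i a) = d a := by
  rw [Dw_apply, Finset.prod_eq_single i]
  · show d (Pi.mulSingle (M := fun _ : Ω => A) i a i) = d a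
    rw [Pi.mulSingle_eq_same (M := fun _ : Ω => A)]
  · intro j _ hj
    show d (Pi.mulSingle (M := fun _ : Ω => A) i a j) = 1
    rw [Pi.mulSingle_eq_of_ne (M := fun _ : Ω => A) hj, map_one]
  · intro h
    exact absurd (Finset.mem_univ i) h

theorem Dw_inr (d : A →* M) (σ : Equiv.Perm Ω) :
    Dw d (SemidirectProduct.inr σ : Wr A Ω) = 1 := by
  rw [Dw_apply]
  simp

theorem conj_inr_embAt (τ : Equiv.Perm Ω) (i : Ω) (a : A) :
    (SemidirectProduct.inr τ : Wr A Ω) * embAt A i a * (SemidirectProduct.inr τ)⁻¹ =
      embAt A (τ i) a := by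
  ext1
  · rw [conj_inr_left]
    funext j
    show (Pi.mulSingle (M := fun _ : Ω => A) i a) (τ.symm j) =
      (Pi.mulSingle (M := fun _ : Ω => A) (τ i) a) j
    by_cases hj : j = τ i
    · subst hj
      rw [Equiv.symm_apply_apply, Pi.mulSingle_eq_same (M := fun _ : Ω => A),
        Pi.mulSingle_eq_same (M := fun _ : Ω => A)]
    · have hj' : τ.symm j ≠ i := by
        intro h
        apply hj
        rw [← h, Equiv.apply_symm_apply]
      rw [Pi.mulSingle_eq_of_ne (M := fun _ : Ω => A) hj,
        Pi.mulSingle_eq_of_ne (M := fun _ : Ω => A) hj']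
  · rw [conj_inr_right]
    show τ * 1 * τ⁻¹ = 1
    rw [mul_one, mul_inv_cancel]

/-- the element `z` at `i` and `z⁻¹` at `j` -/
def gij (i j : Ω) (z : A) : Wr A Ω := embAt A i z * embAt A j z⁻¹

theorem gij_self (i : Ω) (z : A) : gij i i z = 1 := by
  rw [gij, ← map_mul, mul_inv_cancel, map_one]

theorem gij_inv (i j : Ω) (z : A) : (gij i j z)⁻¹ = gij j i z := by
  rw [gij, gij, _root_.mul_inv_rev, ← map_inv, ← map_inv, inv_inv]

theorem gij_mul (i j k : Ω) (z : A) : gij i j z * gij j k z = gij i k z := by
  rw [gij, gij, gij, mul_assoc, ← mul_assoc (embAt A j z⁻¹), ← map_mul, inv_mul_cancel, map_one,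
    one_mul]

theorem Dw_gij (d : A →* M) (i j : Ω) (z : A) : Dw d (gij i j z) = 1 := by
  rw [gij, map_mul, Dw_embAt, Dw_embAt, map_inv, mul_inv_cancel]

theorem conj_inr_gij (τ : Equiv.Perm Ω) (i j : Ω) (z : A) :
    (SemidirectProduct.inr τ : Wr A Ω) * gij i j z * (SemidirectProduct.inr τ)⁻¹ =
      gij (τ i) (τ j) z := by
  rw [gij, gij, ← conj_inr_embAt, ← conj_inr_embAt]
  group

theorem embAt_commute {i j : Ω} (hij : i ≠ j) (a b : A) :
    Commute (embAt A i a) (embAt A j b) := by
  have h := Pi.mulSingle_commute (f := fun _ : Ω => A) hij a b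
  exact h.map (SemidirectProduct.inl : (Ω → A) →* Wr A Ω)

theorem gij_sq_of_sq (i j : Ω) (z : A) (hz : z ^ 2 = 1) : (gij i j z) ^ 2 = 1 := by
  by_cases hij : i = j
  · subst hij
    rw [gij_self, one_pow]
  · rw [gij, (embAt_commute hij z z⁻¹).mul_pow, ← map_pow, ← map_pow, inv_pow, hz, inv_one,
      map_one, one_mul, map_one]

theorem gij_sq_of_swap (i j : Ω) (z : A) (τ : Equiv.Perm Ω) (h1 : τ i = j) (h2 : τ j = i) :
    (gij i j z) ^ 2 = ⁅gij i j z, (SemidirectProduct.inr τ : Wr A Ω)⁆ := by
  rw [commutatorElement_def, pow_two]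
  have h3 : (SemidirectProduct.inr τ : Wr A Ω) * (gij i j z)⁻¹ * (SemidirectProduct.inr τ)⁻¹ =
      gij i j z := by
    rw [gij_inv, conj_inr_gij, h1, h2]
  rw [mul_assoc, mul_assoc, ← mul_assoc (SemidirectProduct.inr τ : Wr A Ω), h3]

/-- **Squares in the determinant-one part of a wreath product.** -/
theorem sqC_wrS_ker [Nonempty Ω] (d : A →* M) (Q0 : Subgroup A) (P : Subgroup (Equiv.Perm Ω))
    (hQ1 : SqC (Q0 ⊓ d.ker)) (hP : GenBy 2 P) (Z : Set A) (hZQ : ∀ z ∈ Z, z ∈ Q0)
    (hZd : ∀ y ∈ Q0, ∃ z ∈ Z, d y = d z)
    (hZ : ∀ z ∈ Z, z ^ 2 = 1 ∨ ∀ i j : Ω, ∃ σ ∈ P, σ i = j) :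
    SqC (wrS Q0 P ⊓ (Dw (Ω := Ω) d).ker) := by
  classical
  obtain ⟨Y, hY, hPY⟩ := hP
  have hYP : Y ⊆ P := by
    rw [hPY]
    exact Subgroup.subset_closure
  obtain ⟨o⟩ := (inferInstance : Nonempty Ω)
  set Q1 : Subgroup A := Q0 ⊓ d.ker with hQ1def
  set T : Subgroup (Wr A Ω) := wrS Q0 P ⊓ (Dw (Ω := Ω) d).ker with hT
  set X : Set (Wr A Ω) := ({x | ∃ i, ∃ c ∈ Q1, x = embAt A i c} ∪
    ((SemidirectProduct.inr : Equiv.Perm Ω →* Wr A Ω) '' Y)) ∪
    {x | ∃ z ∈ Z, ∃ i j, (z ^ 2 = 1 ∨ ∃ τ ∈ P, τ i = j ∧ τ j = i) ∧ x = gij i j z} with hXdef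
  -- membership of the generators in `T`
  have hT1 : ∀ i, ∀ c ∈ Q1, embAt A i c ∈ T := by
    intro i c hc
    refine Subgroup.mem_inf.2 ⟨embAt_mem_wrS P i hc.1, ?_⟩
    rw [MonoidHom.mem_ker, Dw_embAt]
    exact MonoidHom.mem_ker.1 (Subgroup.mem_inf.1 hc).2
  have hT2 : ∀ σ ∈ P, (SemidirectProduct.inr σ : Wr A Ω) ∈ T := by
    intro σ hσ
    refine Subgroup.mem_inf.2 ⟨⟨fun i => Q0.one_mem, hσ⟩, ?_⟩
    rw [MonoidHom.mem_ker, Dw_inr]
  have hT3 : ∀ z ∈ Q0, ∀ i j, gij i j z ∈ T := by
    intro z hz i j
    refine Subgroup.mem_inf.2 ⟨?_, ?_⟩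
    · exact Subgroup.mul_mem _ (embAt_mem_wrS P i hz) (embAt_mem_wrS P j (Q0.inv_mem hz))
    · rw [MonoidHom.mem_ker, Dw_gij]
  apply sqC_of_closure T X
  · apply le_antisymm
    · -- `T ≤ closure X`
      set K := Subgroup.closure X with hK
      have hK1 : ∀ i, ∀ c ∈ Q1, embAt A i c ∈ K := by
        intro i c hc
        apply Subgroup.subset_closure
        left; left
        exact ⟨i, c, hc, rfl⟩
      have hK2 : ∀ σ ∈ P, (SemidirectProduct.inr σ : Wr A Ω) ∈ K := by
        intro σ hσ
        have h1 : (SemidirectProduct.inr σ : Wr A Ω) ∈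
            (Subgroup.closure Y).map (SemidirectProduct.inr : Equiv.Perm Ω →* Wr A Ω) :=
          ⟨σ, by rw [← hPY]; exact hσ, rfl⟩
        rw [MonoidHom.map_closure] at h1
        refine Subgroup.closure_mono ?_ h1
        intro x hx
        left; right
        exact hx
      have hK3 : ∀ z ∈ Z, ∀ i j, gij i j z ∈ K := by
        intro z hz i j
        rcases hZ z hz with h2 | htr
        · apply Subgroup.subset_closure
          right
          exact ⟨z, hz, i, j, Or.inl h2, rfl⟩
        · have key : ∀ σ ∈ Subgroup.closure Y, ∀ i, gij i (σ i) z ∈ K := by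
            intro σ hσ
            induction hσ using Subgroup.closure_induction with
            | mem τ hτ =>
              intro i
              apply Subgroup.subset_closure
              right
              refine ⟨z, hz, i, τ i, Or.inr ⟨τ, hYP hτ, rfl, ?_⟩, rfl⟩
              have h3 := hY τ hτ
              rw [pow_two] at h3
              exact congrArg (fun π : Equiv.Perm Ω => π i) h3
            | one =>
              intro i
              rw [Equiv.Perm.one_apply, gij_self]
              exact K.one_mem
            | mul σ τ _ _ hσ hτ =>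
              intro i
              rw [Equiv.Perm.mul_apply, ← gij_mul i (τ i) (σ (τ i))]
              exact K.mul_mem (hτ i) (hσ (τ i))
            | inv σ _ hσ =>
              intro i
              have h3 := hσ (σ⁻¹ i)
              have e1 : σ (σ⁻¹ i) = i := σ.apply_symm_apply i
              rw [e1] at h3
              rw [← gij_inv]
              exact K.inv_mem h3
          obtain ⟨σ, hσ, rfl⟩ := htr i j
          rw [hPY] at hσ
          exact key σ hσ i
      -- generation of the base part
      have hgen : ∀ (s : Finset Ω) (f : Ω → A), (∀ i, f i ∈ Q0) →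
          (∀ i, i ∉ s → i ≠ o → f i = 1) →
          Dw (Ω := Ω) d (SemidirectProduct.inl f) = 1 →
          (SemidirectProduct.inl f : Wr A Ω) ∈ K := by
        intro s
        induction s using Finset.induction_on with
        | empty =>
          intro f hfQ hsupp hD
          have h1 : (SemidirectProduct.inl f : Wr A Ω) = embAt A o (f o) := by
            show (SemidirectProduct.inl f : Wr A Ω) =
              SemidirectProduct.inl (Pi.mulSingle (M := fun _ : Ω => A) o (f o))
            congr 1
            funext i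
            by_cases hi : i = o
            · subst hi
              rw [Pi.mulSingle_eq_same (M := fun _ : Ω => A)]
            · rw [Pi.mulSingle_eq_of_ne (M := fun _ : Ω => A) hi]
              exact hsupp i (Finset.notMem_empty i) hi
          rw [h1] at hD ⊢
          rw [Dw_embAt] at hD
          exact hK1 o (f o) (Subgroup.mem_inf.2 ⟨hfQ o, MonoidHom.mem_ker.2 hD⟩)
        | insert a s ha ih =>
          intro f hfQ hsupp hD
          by_cases hao : a = o
          · apply ih f hfQ _ hD
            intro i his hio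
            apply hsupp i _ hio
            rw [Finset.mem_insert, not_or]
            exact ⟨by rw [hao]; exact hio, his⟩
          · obtain ⟨z, hz, hdz⟩ := hZd (f a) (hfQ a)
            set c := f a * z⁻¹ with hc
            have hcQ1 : c ∈ Q1 := by
              refine Subgroup.mem_inf.2 ⟨Q0.mul_mem (hfQ a) (Q0.inv_mem (hZQ z hz)), ?_⟩
              rw [MonoidHom.mem_ker, map_mul, map_inv, hdz, mul_inv_cancel]
            set f' : Ω → A := fun i => if i = a then 1 else if i = o then f o * z else f i
              with hf'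
            have heq : (SemidirectProduct.inl f : Wr A Ω) =
                embAt A a c * SemidirectProduct.inl f' * gij a o z := by
              rw [gij]
              show (SemidirectProduct.inl f : Wr A Ω) =
                SemidirectProduct.inl (Pi.mulSingle (M := fun _ : Ω => A) a c) *
                  SemidirectProduct.inl f' *
                  (SemidirectProduct.inl (Pi.mulSingle (M := fun _ : Ω => A) a z) *
                    SemidirectProduct.inl (Pi.mulSingle (M := fun _ : Ω => A) o z⁻¹))
              rw [← map_mul, ← map_mul, ← map_mul]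
              congr 1
              funext i
              simp only [Pi.mul_apply]
              by_cases hia : i = a
              · rw [hia, Pi.mulSingle_eq_same (M := fun _ : Ω => A),
                  Pi.mulSingle_eq_same (M := fun _ : Ω => A),
                  Pi.mulSingle_eq_of_ne (M := fun _ : Ω => A) hao, hf', hc]
                simp
              · by_cases hio : i = o
                · rw [hio] at hia ⊢
                  rw [Pi.mulSingle_eq_same (M := fun _ : Ω => A),
                    Pi.mulSingle_eq_of_ne (M := fun _ : Ω => A) hia,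
                    Pi.mulSingle_eq_of_ne (M := fun _ : Ω => A) hia, hf']
                  simp [hia]
                · rw [Pi.mulSingle_eq_of_ne (M := fun _ : Ω => A) hia,
                    Pi.mulSingle_eq_of_ne (M := fun _ : Ω => A) hia,
                    Pi.mulSingle_eq_of_ne (M := fun _ : Ω => A) hio, hf']
                  simp [hia, hio]
            have hf'Q : ∀ i, f' i ∈ Q0 := by
              intro i
              simp only [hf']
              split_ifs
              · exact Q0.one_mem
              · exact Q0.mul_mem (hfQ o) (hZQ z hz)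
              · exact hfQ i
            have hf'supp : ∀ i, i ∉ s → i ≠ o → f' i = 1 := by
              intro i his hio
              simp only [hf']
              by_cases hia : i = a
              · rw [if_pos hia]
              · rw [if_neg hia, if_neg hio]
                apply hsupp i _ hio
                rw [Finset.mem_insert, not_or]
                exact ⟨hia, his⟩
            have hD' : Dw (Ω := Ω) d (SemidirectProduct.inl f') = 1 := by
              have h3 := hD
              rw [heq, map_mul, map_mul, Dw_embAt, Dw_gij, mul_one,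
                MonoidHom.mem_ker.1 (Subgroup.mem_inf.1 hcQ1).2, one_mul] at h3
              exact h3
            rw [heq]
            exact K.mul_mem (K.mul_mem (hK1 a c hcQ1) (ih f' hf'Q hf'supp hD')) (hK3 z hz a o)
      intro x hx
      obtain ⟨⟨hx1, hx2⟩, hx3⟩ := Subgroup.mem_inf.1 hx
      rw [← SemidirectProduct.inl_left_mul_inr_right x]
      apply K.mul_mem
      · apply hgen Finset.univ x.left hx1 (fun i hi => absurd (Finset.mem_univ i) hi)
        have hx4 : Dw (Ω := Ω) d x = 1 := MonoidHom.mem_ker.1 hx3
        exact hx4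
      · exact hK2 _ hx2
    · rw [Subgroup.closure_le]
      rintro x ((⟨i, c, hc, rfl⟩ | ⟨σ, hσ, rfl⟩) | ⟨z, hz, i, j, -, rfl⟩)
      · exact hT1 i c hc
      · exact hT2 σ (hYP hσ)
      · exact hT3 z (hZQ z hz) i j
  · rintro x ((⟨i, c, hc, rfl⟩ | ⟨σ, hσ, rfl⟩) | ⟨z, hz, i, j, hgood, rfl⟩)
    · rw [← map_pow]
      have h1 : embAt A i (c ^ 2) ∈ (⁅Q1, Q1⁆).map (embAt A i) := ⟨_, hQ1 c hc, rfl⟩
      rw [Subgroup.map_commutator] at h1
      have hle : Q1.map (embAt A i) ≤ T := by
        rintro _ ⟨c', hc', rfl⟩
        exact hT1 i c' hc'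
      exact Subgroup.commutator_mono hle hle h1
    · rw [← map_pow, hY σ hσ, map_one]
      exact Subgroup.one_mem _
    · rcases hgood with h2 | ⟨τ, hτ, h1, h2⟩
      · rw [gij_sq_of_sq i j z h2]
        exact Subgroup.one_mem _
      · rw [gij_sq_of_swap i j z τ h1 h2]
        exact Subgroup.commutator_mem_commutator (hT3 z (hZQ z hz) i j) (hT2 τ hτ)

end wrker

end Cfsg.Agent.Helper21.SylAb
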