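import Mathlib
import Cfsg.Agent.Helper21.SylAb5

set_option autoImplicit false
set_option linter.unusedSectionVars false

/-! Soft version of the wreath-product lemma: base group of "dihedral type". -/

namespace Cfsg.Agent.Helper21.SylAb

open Cfsg.Agent.Helper11.SpNorm Cfsg.Agent.Helper11.SpDer Cfsg.Agent.Helper11.GLNr
  Cfsg.Agent.Helper14.SylSn
open scoped commutatorElement

section sqsub

variable {G : Type*} [Group G]

/-- the elements of `T` whose square lies in the derived subgroup of `T` -/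
def sqSub (T : Subgroup G) : Subgroup G :=
  (((powMonoidHom 2).comp (Abelianization.of : ↥T →* Abelianization ↥T)).ker).map T.subtype

theorem mem_sqSub_iff {T : Subgroup G} {x : G} :
    x ∈ sqSub T ↔ x ∈ T ∧ x ^ 2 ∈ ⁅T, T⁆ := by
  constructor
  · rintro ⟨y, hy, rfl⟩
    refine ⟨y.2, ?_⟩
    have hy := MonoidHom.mem_ker.1 hy
    have h1 : Abelianization.of (y ^ 2) = 1 := by
      rw [map_pow]
      exact hy
    rw [← MonoidHom.mem_ker, Abelianization.ker_of] at h1
    rw [← Subgroup.map_subtype_commutator]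
    exact ⟨y ^ 2, h1, rfl⟩
  · rintro ⟨hx, h2⟩
    refine ⟨⟨x, hx⟩, MonoidHom.mem_ker.2 ?_, rfl⟩
    show (Abelianization.of (⟨x, hx⟩ : ↥T)) ^ 2 = 1
    rw [← map_pow, ← MonoidHom.mem_ker, Abelianization.ker_of]
    rw [← Subgroup.map_subtype_commutator] at h2
    obtain ⟨c, hc, hcx⟩ := h2
    have : c = (⟨x, hx⟩ : ↥T) ^ 2 := Subtype.ext (by rw [Subgroup.coe_pow]; exact hcx)
    rw [← this]
    exact hc

theorem sqC_of_le_sqSub {T : Subgroup G} (h : T ≤ sqSub T) : SqC T := by
  intro y hy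
  exact (mem_sqSub_iff.1 (h hy)).2

theorem mem_sqSub_of_sq_eq_one {T : Subgroup G} {x : G} (hx : x ∈ T) (h : x ^ 2 = 1) :
    x ∈ sqSub T := by
  rw [mem_sqSub_iff]
  refine ⟨hx, ?_⟩
  rw [h]
  exact Subgroup.one_mem _

theorem mem_sqSub_of_sq_eq_comm {T : Subgroup G} {x a b : G} (hx : x ∈ T) (ha : a ∈ T)
    (hb : b ∈ T) (h : x ^ 2 = ⁅a, b⁆) : x ∈ sqSub T := by
  rw [mem_sqSub_iff]
  refine ⟨hx, ?_⟩
  rw [h]
  exact Subgroup.commutator_mem_commutator ha hb

/-- passing to a direct product with an elementary abelian group -/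
theorem sqC_of_map_fst {G1 E : Type*} [Group G1] [CommGroup E] (hE : ∀ u : E, u ^ 2 = 1)
    (T : Subgroup (G1 × E)) (h : SqC (T.map (MonoidHom.fst G1 E))) : SqC T := by
  intro y hy
  have h1 := h y.1 ⟨y, hy, rfl⟩
  rw [← Subgroup.map_commutator] at h1
  obtain ⟨c, hc, hcy⟩ := h1
  have hc2 : c.2 = 1 := by
    have h2 : c ∈ ⁅(⊤ : Subgroup G1).prod (⊤ : Subgroup E), (⊤ : Subgroup G1).prod (⊤ : Subgroup E)⁆ :=
      Subgroup.commutator_mono
        (fun z _ => Subgroup.mem_prod.2 ⟨Subgroup.mem_top _, Subgroup.mem_top _⟩)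
        (fun z _ => Subgroup.mem_prod.2 ⟨Subgroup.mem_top _, Subgroup.mem_top _⟩) hc
    rw [Subgroup.commutator_prod_prod] at h2
    have h3 : c.2 ∈ ⁅(⊤ : Subgroup E), (⊤ : Subgroup E)⁆ := h2.2
    have h4 : ⁅(⊤ : Subgroup E), (⊤ : Subgroup E)⁆ = ⊥ := by
      rw [Subgroup.commutator_eq_bot_iff_le_centralizer]
      intro a _
      rw [Subgroup.mem_centralizer_iff]
      intro b _
      exact mul_comm b a
    rw [h4, Subgroup.mem_bot] at h3
    exact h3
  have hyc : y ^ 2 = c := by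
    apply Prod.ext
    · rw [Prod.pow_fst]
      exact hcy.symm
    · rw [Prod.pow_snd, hE, hc2]
  rw [hyc]
  exact hc

/-- injective-on-the-subgroup version of `SqC.of_map_injective` -/
theorem SqC.of_map_injOn {H : Subgroup G} {G' : Type*} [Group G'] (f : G →* G')
    (hf : ∀ a ∈ H, ∀ b ∈ H, f a = f b → a = b) (h : SqC (H.map f)) : SqC H := by
  intro y hy
  have h1 := h (f y) ⟨y, hy, rfl⟩
  rw [← map_pow, ← Subgroup.map_commutator] at h1
  obtain ⟨c, hc, hcy⟩ := h1
  have hcH : c ∈ H := by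
    have hle : ⁅H, H⁆ ≤ H := by
      rw [Subgroup.commutator_le]
      intro a ha b hb
      exact H.mul_mem (H.mul_mem (H.mul_mem ha hb) (H.inv_mem ha)) (H.inv_mem hb)
    exact hle hc
  rw [← hf c hcH (y ^ 2) (H.pow_mem hy 2) hcy]
  exact hc

end sqsub

section wrsoft

variable {A : Type*} [Group A] {Ω : Type*} [Fintype Ω] [DecidableEq Ω] {M : Type*} [CommGroup M]

theorem gij_mul_arg {i j : Ω} (hij : i ≠ j) (x y : A) :
    gij i j (x * y) = gij i j x * gij i j y * embAt A j ⁅y, x⁆ := by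
  have hc : embAt A j x⁻¹ * embAt A i y = embAt A i y * embAt A j x⁻¹ :=
    ((embAt_commute hij y x⁻¹).eq).symm
  rw [gij, gij, gij, commutatorElement_def]
  have e1 : (x * y)⁻¹ = x⁻¹ * y⁻¹ * (y * x * y⁻¹ * x⁻¹) := by group
  calc embAt A i (x * y) * embAt A j (x * y)⁻¹
      = embAt A i x * (embAt A i y * embAt A j x⁻¹) * embAt A j y⁻¹ *
        embAt A j (y * x * y⁻¹ * x⁻¹) := by
          rw [e1, map_mul (embAt A i) x y, map_mul (embAt A j) (x⁻¹ * y⁻¹) _,
            map_mul (embAt A j) x⁻¹ y⁻¹]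
          simp only [mul_assoc]
    _ = embAt A i x * (embAt A j x⁻¹ * embAt A i y) * embAt A j y⁻¹ *
        embAt A j (y * x * y⁻¹ * x⁻¹) := by rw [hc]
    _ = embAt A i x * embAt A j x⁻¹ * (embAt A i y * embAt A j y⁻¹) *
        embAt A j (y * x * y⁻¹ * x⁻¹) := by simp only [mul_assoc]

/-- generation of the "determinant one" part of a wreath product -/
theorem wrS_ker_le [Nonempty Ω] (d : A →* M) (Q0 : Subgroup A) (P : Subgroup (Equiv.Perm Ω))
    (Z : Set A) (hZQ : ∀ z ∈ Z, z ∈ Q0) (hZd : ∀ y ∈ Q0, ∃ z ∈ Z, d y = d z)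
    (N : Subgroup (Wr A Ω)) (hK1 : ∀ i, ∀ c ∈ Q0 ⊓ d.ker, embAt A i c ∈ N)
    (hK2 : ∀ σ ∈ P, (SemidirectProduct.inr σ : Wr A Ω) ∈ N)
    (hK3 : ∀ z ∈ Z, ∀ i j, gij i j z ∈ N) :
    wrS Q0 P ⊓ (Dw (Ω := Ω) d).ker ≤ N := by
  classical
  obtain ⟨o⟩ := (inferInstance : Nonempty Ω)
  have hgen : ∀ (s : Finset Ω) (f : Ω → A), (∀ i, f i ∈ Q0) →
      (∀ i, i ∉ s → i ≠ o → f i = 1) →
      Dw (Ω := Ω) d (SemidirectProduct.inl f) = 1 →
      (SemidirectProduct.inl f : Wr A Ω) ∈ N := by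
    intro s
    induction s using Finset.induction_on with
    | empty =>
      intro f hfQ hsupp hD
      have h1 : (SemidirectProduct.inl f : Wr A Ω) = embAt A o (f o) := by
        show (SemidirectProduct.inl f : Wr A Ω) =
          SemidirectProduct.inl (Pi.mulSingle (M := fun _ : Ω => A) o (f o))
        congr 1
        funext i
        by_cases hi : i = o
        · subst hi
          rw [Pi.mulSingle_eq_same (M := fun _ : Ω => A)]
        · rw [Pi.mulSingle_eq_of_ne (M := fun _ : Ω => A) hi]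
          exact hsupp i (Finset.notMem_empty i) hi
      rw [h1] at hD ⊢
      rw [Dw_embAt] at hD
      exact hK1 o (f o) (Subgroup.mem_inf.2 ⟨hfQ o, MonoidHom.mem_ker.2 hD⟩)
    | insert a s ha ih =>
      intro f hfQ hsupp hD
      by_cases hao : a = o
      · apply ih f hfQ _ hD
        intro i his hio
        apply hsupp i _ hio
        rw [Finset.mem_insert, not_or]
        exact ⟨by rw [hao]; exact hio, his⟩
      · obtain ⟨z, hz, hdz⟩ := hZd (f a) (hfQ a)
        set c := f a * z⁻¹ with hc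
        have hcQ1 : c ∈ Q0 ⊓ d.ker := by
          refine Subgroup.mem_inf.2 ⟨Q0.mul_mem (hfQ a) (Q0.inv_mem (hZQ z hz)), ?_⟩
          rw [MonoidHom.mem_ker, map_mul, map_inv, hdz, mul_inv_cancel]
        set f' : Ω → A := fun i => if i = a then 1 else if i = o then f o * z else f i
          with hf'
        have heq : (SemidirectProduct.inl f : Wr A Ω) =
            embAt A a c * SemidirectProduct.inl f' * gij a o z := by
          rw [gij]
          show (SemidirectProduct.inl f : Wr A Ω) =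
            SemidirectProduct.inl (Pi.mulSingle (M := fun _ : Ω => A) a c) *
              SemidirectProduct.inl f' *
              (SemidirectProduct.inl (Pi.mulSingle (M := fun _ : Ω => A) a z) *
                SemidirectProduct.inl (Pi.mulSingle (M := fun _ : Ω => A) o z⁻¹))
          rw [← map_mul, ← map_mul, ← map_mul]
          congr 1
          funext i
          simp only [Pi.mul_apply]
          by_cases hia : i = a
          · rw [hia, Pi.mulSingle_eq_same (M := fun _ : Ω => A),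
              Pi.mulSingle_eq_same (M := fun _ : Ω => A),
              Pi.mulSingle_eq_of_ne (M := fun _ : Ω => A) hao, hf', hc]
            simp
          · by_cases hio : i = o
            · rw [hio] at hia ⊢
              rw [Pi.mulSingle_eq_same (M := fun _ : Ω => A),
                Pi.mulSingle_eq_of_ne (M := fun _ : Ω => A) hia,
                Pi.mulSingle_eq_of_ne (M := fun _ : Ω => A) hia, hf']
              simp [hia]
            · rw [Pi.mulSingle_eq_of_ne (M := fun _ : Ω => A) hia,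
                Pi.mulSingle_eq_of_ne (M := fun _ : Ω => A) hia,
                Pi.mulSingle_eq_of_ne (M := fun _ : Ω => A) hio, hf']
              simp [hia, hio]
        have hf'Q : ∀ i, f' i ∈ Q0 := by
          intro i
          simp only [hf']
          split_ifs
          · exact Q0.one_mem
          · exact Q0.mul_mem (hfQ o) (hZQ z hz)
          · exact hfQ i
        have hf'supp : ∀ i, i ∉ s → i ≠ o → f' i = 1 := by
          intro i his hio
          simp only [hf']
          by_cases hia : i = a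
          · rw [if_pos hia]
          · rw [if_neg hia, if_neg hio]
            apply hsupp i _ hio
            rw [Finset.mem_insert, not_or]
            exact ⟨hia, his⟩
        have hD' : Dw (Ω := Ω) d (SemidirectProduct.inl f') = 1 := by
          have h3 := hD
          rw [heq, map_mul, map_mul, Dw_embAt, Dw_gij, mul_one,
            MonoidHom.mem_ker.1 (Subgroup.mem_inf.1 hcQ1).2, one_mul] at h3
          exact h3
        rw [heq]
        exact N.mul_mem (N.mul_mem (hK1 a c hcQ1) (ih f' hf'Q hf'supp hD')) (hK3 z hz a o)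
  intro x hx
  obtain ⟨⟨hx1, hx2⟩, hx3⟩ := Subgroup.mem_inf.1 hx
  rw [← SemidirectProduct.inl_left_mul_inr_right x]
  apply N.mul_mem
  · apply hgen Finset.univ x.left hx1 (fun i hi => absurd (Finset.mem_univ i) hi)
    have hx4 : Dw (Ω := Ω) d x = 1 := MonoidHom.mem_ker.1 hx3
    exact hx4
  · exact hK2 _ hx2

theorem comm_eq_sq_of_invol {c s : A} (hs2 : s ^ 2 = 1) (h : (c * s) ^ 2 = 1) : ⁅c, s⁆ = c ^ 2 := by
  have e1 : c * s * (c * s) = 1 := by rw [← pow_two]; exact h
  have e2 : s * s = 1 := by rw [← pow_two]; exact hs2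
  have hsi : s⁻¹ = s := inv_eq_of_mul_eq_one_right e2
  have hci : c⁻¹ = s * c * s := inv_eq_of_mul_eq_one_right (by rw [← e1]; group)
  rw [commutatorElement_def, hsi, hci, pow_two]
  calc c * s * (s * c * s) * s = c * (s * s) * c * (s * s) := by group
    _ = c * c := by rw [e2, mul_one, mul_one]

theorem comm_embAt_gij {i j : Ω} (hij : i ≠ j) (c s : A) :
    ⁅embAt A i c, gij i j s⁆ = embAt A i ⁅c, s⁆ := by
  have hc : embAt A j s⁻¹ * (embAt A i c)⁻¹ = (embAt A i c)⁻¹ * embAt A j s⁻¹ := by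
    rw [← map_inv]
    exact ((embAt_commute hij c⁻¹ s⁻¹).eq).symm
  have e : embAt A i (c * s * c⁻¹ * s⁻¹) =
      embAt A i c * embAt A i s * (embAt A i c)⁻¹ * (embAt A i s)⁻¹ := by
    simp only [map_mul, map_inv]
  rw [commutatorElement_def, commutatorElement_def, gij, e]
  calc embAt A i c * (embAt A i s * embAt A j s⁻¹) * (embAt A i c)⁻¹ *
        (embAt A i s * embAt A j s⁻¹)⁻¹
      = embAt A i c * embAt A i s * (embAt A j s⁻¹ * (embAt A i c)⁻¹) * (embAt A j s⁻¹)⁻¹ *
        (embAt A i s)⁻¹ := by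
          rw [_root_.mul_inv_rev]
          simp only [mul_assoc]
    _ = embAt A i c * embAt A i s * ((embAt A i c)⁻¹ * embAt A j s⁻¹) * (embAt A j s⁻¹)⁻¹ *
        (embAt A i s)⁻¹ := by rw [hc]
    _ = embAt A i c * embAt A i s * (embAt A i c)⁻¹ * (embAt A i s)⁻¹ := by
          simp only [mul_assoc, mul_inv_cancel_left]

/-- **Soft wreath lemma**: base group of "dihedral type" (every element is an involution or
becomes one after multiplication by a fixed involution `s`). -/
theorem sqC_wrS_ker_soft [Nonempty Ω] (hΩ : ∀ i : Ω, ∃ j, j ≠ i) (d : A →* M)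
    (Q0 : Subgroup A) (P : Subgroup (Equiv.Perm Ω)) (hP : GenBy 2 P) (s : A) (hsQ : s ∈ Q0)
    (hs2 : s ^ 2 = 1) (hQ0 : ∀ x ∈ Q0, x ^ 2 = 1 ∨ (x * s) ^ 2 = 1) :
    SqC (wrS Q0 P ⊓ (Dw (Ω := Ω) d).ker) := by
  classical
  obtain ⟨Y, hY, hPY⟩ := hP
  have hYP : Y ⊆ P := by
    rw [hPY]
    exact Subgroup.subset_closure
  set T : Subgroup (Wr A Ω) := wrS Q0 P ⊓ (Dw (Ω := Ω) d).ker with hT
  have hT1 : ∀ i, ∀ c ∈ Q0 ⊓ d.ker, embAt A i c ∈ T := by
    intro i c hc
    refine Subgroup.mem_inf.2 ⟨embAt_mem_wrS P i (Subgroup.mem_inf.1 hc).1, ?_⟩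
    rw [MonoidHom.mem_ker, Dw_embAt]
    exact MonoidHom.mem_ker.1 (Subgroup.mem_inf.1 hc).2
  have hT2 : ∀ σ ∈ P, (SemidirectProduct.inr σ : Wr A Ω) ∈ T := by
    intro σ hσ
    refine Subgroup.mem_inf.2 ⟨⟨fun i => Q0.one_mem, hσ⟩, ?_⟩
    rw [MonoidHom.mem_ker, Dw_inr]
  have hT3 : ∀ z ∈ Q0, ∀ i j, gij i j z ∈ T := by
    intro z hz i j
    refine Subgroup.mem_inf.2 ⟨?_, ?_⟩
    · exact Subgroup.mul_mem _ (embAt_mem_wrS P i hz) (embAt_mem_wrS P j (Q0.inv_mem hz))
    · rw [MonoidHom.mem_ker, Dw_gij]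
  apply sqC_of_le_sqSub
  have h1 : ∀ i, ∀ c ∈ Q0 ⊓ d.ker, embAt A i c ∈ sqSub T := by
    intro i c hc
    rcases hQ0 c (Subgroup.mem_inf.1 hc).1 with h | h
    · apply mem_sqSub_of_sq_eq_one (hT1 i c hc)
      rw [← map_pow, h, map_one]
    · obtain ⟨j, hj⟩ := hΩ i
      apply mem_sqSub_of_sq_eq_comm (hT1 i c hc) (hT1 i c hc) (hT3 s hsQ i j)
      rw [comm_embAt_gij (Ne.symm hj), comm_eq_sq_of_invol hs2 h, map_pow]
  have h2 : ∀ σ ∈ P, (SemidirectProduct.inr σ : Wr A Ω) ∈ sqSub T := by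
    intro σ hσ
    have h1' : (SemidirectProduct.inr σ : Wr A Ω) ∈
        (Subgroup.closure Y).map (SemidirectProduct.inr : Equiv.Perm Ω →* Wr A Ω) :=
      ⟨σ, by rw [← hPY]; exact hσ, rfl⟩
    rw [MonoidHom.map_closure] at h1'
    refine (Subgroup.closure_le _).2 ?_ h1'
    rintro _ ⟨τ, hτ, rfl⟩
    apply mem_sqSub_of_sq_eq_one (hT2 τ (hYP hτ))
    rw [← map_pow, hY τ hτ, map_one]
  have h3 : ∀ z ∈ Q0, ∀ i j, gij i j z ∈ sqSub T := by
    intro z hz i j
    by_cases hij : i = j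
    · subst hij
      rw [gij_self]
      exact Subgroup.one_mem _
    · rcases hQ0 z hz with h | h
      · exact mem_sqSub_of_sq_eq_one (hT3 z hz i j) (gij_sq_of_sq i j z h)
      · have hzs : z = (z * s) * s := by rw [mul_assoc, ← pow_two, hs2, mul_one]
        rw [hzs, gij_mul_arg hij]
        apply Subgroup.mul_mem _ (Subgroup.mul_mem _ _ _) _
        · exact mem_sqSub_of_sq_eq_one (hT3 _ (Q0.mul_mem hz hsQ) i j) (gij_sq_of_sq i j _ h)
        · exact mem_sqSub_of_sq_eq_one (hT3 s hsQ i j) (gij_sq_of_sq i j s hs2)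
        · apply h1 j
          refine Subgroup.mem_inf.2 ⟨?_, ?_⟩
          · rw [commutatorElement_def]
            exact Q0.mul_mem (Q0.mul_mem (Q0.mul_mem hsQ (Q0.mul_mem hz hsQ)) (Q0.inv_mem hsQ))
              (Q0.inv_mem (Q0.mul_mem hz hsQ))
          · rw [MonoidHom.mem_ker, commutatorElement_def, map_mul, map_mul, map_mul, map_inv,
              map_inv, mul_right_comm (d s) (d (z * s)) (d s)⁻¹, mul_inv_cancel, one_mul,
              mul_inv_cancel]
  exact wrS_ker_le d Q0 P (Q0 : Set A) (fun z hz => hz) (fun y hy => ⟨y, hy, rfl⟩) (sqSub T) h1 h2 h3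

end wrsoft

end Cfsg.Agent.Helper21.SylAb
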