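import Mathlib
import Cfsg.Agent.Helper21.SylAb10
import Cfsg.Agent.Helper21.SylAb8
import Cfsg.Agent.Helper28.Spin4

set_option autoImplicit false
set_option linter.unusedSectionVars false

/-! Block transpositions lie in `Ω` (spinor criterion). -/

namespace Cfsg.Agent.Helper21.SylAb

open Matrix Cfsg.Agent.Helper11.SpNorm Cfsg.Agent.Helper11.SpDer Cfsg.Agent.Helper11.GLDer
  Cfsg.Agent.Helper28.IsoTransport Cfsg.Agent.Helper28.Spin

section swap

variable {F : Type*} [Field F] {m r : ℕ} {ι : Type} [Fintype ι] [DecidableEq ι]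

/-- bilinear form of the model -/
def Bmod (c : Fin r → F) (p p' : Vm F 2 m × (Fin r → F)) : F :=
  (∑ i, 2 * (p.1 i 0 * p'.1 i 0 + p.1 i 1 * p'.1 i 1)) + ∑ k, 2 * (c k * p.2 k * p'.2 k)

theorem polar_model (Q : QuadraticForm F (ι → F)) (c : Fin r → F)
    (ε : (ι → F) ≃ₗ[F] (Vm F 2 m × (Fin r → F))) (hε : ∀ v, Q v = Qmod m r c (ε v))
    (x y : ι → F) : QuadraticMap.polar ⇑Q x y = Bmod c (ε x) (ε y) := by
  unfold QuadraticMap.polar
  rw [hε, hε, hε, map_add]
  unfold Qmod Bmod Npl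
  simp only [Prod.fst_add, Prod.snd_add, Pi.add_apply]
  have h1 : (∑ i, (((ε x).1 i 0 + (ε y).1 i 0) ^ 2 + ((ε x).1 i 1 + (ε y).1 i 1) ^ 2)) -
      (∑ i, ((ε x).1 i 0 ^ 2 + (ε x).1 i 1 ^ 2)) - (∑ i, ((ε y).1 i 0 ^ 2 + (ε y).1 i 1 ^ 2)) =
      ∑ i, 2 * ((ε x).1 i 0 * (ε y).1 i 0 + (ε x).1 i 1 * (ε y).1 i 1) := by
    rw [← Finset.sum_sub_distrib, ← Finset.sum_sub_distrib]
    apply Finset.sum_congr rfl
    intro i _
    ring
  have h2 : (∑ k, c k * ((ε x).2 k + (ε y).2 k) ^ 2) - (∑ k, c k * (ε x).2 k ^ 2) -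
      (∑ k, c k * (ε y).2 k ^ 2) = ∑ k, 2 * (c k * (ε x).2 k * (ε y).2 k) := by
    rw [← Finset.sum_sub_distrib, ← Finset.sum_sub_distrib]
    apply Finset.sum_congr rfl
    intro k _
    ring
  linear_combination h1 + h2

theorem Bmod_single (c : Fin r → F) (i : Fin m) (k : Fin 2) (p' : Vm F 2 m × (Fin r → F)) :
    Bmod c ((Pi.single i (Pi.single k 1) : Vm F 2 m), (0 : Fin r → F)) p' = 2 * p'.1 i k := by
  unfold Bmod
  have h2 : (∑ k' : Fin r, 2 * (c k' * (0 : Fin r → F) k' * p'.2 k')) = 0 := by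
    apply Finset.sum_eq_zero
    intro k' _
    simp
  rw [h2, add_zero, Finset.sum_eq_single i]
  · dsimp only
    rw [Pi.single_eq_same]
    fin_cases k <;> simp
  · intro i' _ hi'
    dsimp only
    rw [Pi.single_eq_of_ne hi']
    simp
  · intro h
    exact absurd (Finset.mem_univ i) h

/-- the difference vector of two blocks -/
def wvec (F : Type*) [Field F] {m : ℕ} (i j : Fin m) (k : Fin 2) : Vm F 2 m :=
  Pi.single i (Pi.single k 1) - Pi.single j (Pi.single k 1)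

theorem wvec_apply (i j i' : Fin m) (k l : Fin 2) :
    wvec F i j k i' l = (if i' = i then (if l = k then 1 else 0) else 0) -
      (if i' = j then (if l = k then 1 else 0) else 0) := by
  have e : ∀ x : Fin m, (Pi.single x (Pi.single k (1 : F)) : Vm F 2 m) i' l =
      if i' = x then (if l = k then 1 else 0) else 0 := by
    intro x
    by_cases h : i' = x
    · subst h
      rw [Pi.single_eq_same, if_pos rfl, Pi.single_apply]
    · rw [Pi.single_eq_of_ne h, if_neg h]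
      rfl
  simp only [wvec, Pi.sub_apply, e]

theorem sub_smul_wvec {i j : Fin m} (hij : i ≠ j) (k : Fin 2) (a : Vm F 2 m) (i' : Fin m)
    (l : Fin 2) :
    (a - (a i k - a j k) • wvec F i j k) i' l =
      if l = k then a (Equiv.swap i j i') l else a i' l := by
  simp only [Pi.sub_apply, Pi.smul_apply, smul_eq_mul, wvec_apply, Equiv.swap_apply_def]
  by_cases hl : l = k
  · subst hl
    by_cases h1 : i' = i
    · subst h1
      simp [hij]
    · by_cases h2 : i' = j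
      · subst h2
        simp [h1]
      · simp [h1, h2]
  · simp [hl]

end swap

section swap2

variable {F : Type*} [Field F] {m r : ℕ} {ι : Type} [Fintype ι] [DecidableEq ι]

theorem Bmod_sub_left (c : Fin r → F) (p1 p2 p' : Vm F 2 m × (Fin r → F)) :
    Bmod c (p1 - p2) p' = Bmod c p1 p' - Bmod c p2 p' := by
  unfold Bmod
  simp only [Prod.fst_sub, Prod.snd_sub, Pi.sub_apply]
  have h1 : (∑ i, 2 * ((p1.1 i 0 - p2.1 i 0) * p'.1 i 0 + (p1.1 i 1 - p2.1 i 1) * p'.1 i 1)) =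
      (∑ i, 2 * (p1.1 i 0 * p'.1 i 0 + p1.1 i 1 * p'.1 i 1)) -
        ∑ i, 2 * (p2.1 i 0 * p'.1 i 0 + p2.1 i 1 * p'.1 i 1) := by
    rw [← Finset.sum_sub_distrib]
    apply Finset.sum_congr rfl
    intro i _
    ring
  have h2 : (∑ k, 2 * (c k * (p1.2 k - p2.2 k) * p'.2 k)) =
      (∑ k, 2 * (c k * p1.2 k * p'.2 k)) - ∑ k, 2 * (c k * p2.2 k * p'.2 k) := by
    rw [← Finset.sum_sub_distrib]
    apply Finset.sum_congr rfl
    intro k _
    ring
  rw [h1, h2]
  ring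

variable (Q : QuadraticForm F (ι → F)) (c : Fin r → F)
  (ε : (ι → F) ≃ₗ[F] (Vm F 2 m × (Fin r → F))) (hε : ∀ v, Q v = Qmod m r c (ε v))

/-- the vector whose reflection swaps the `k`-th coordinates of the blocks `i` and `j` -/
noncomputable def uvec (i j : Fin m) (k : Fin 2) : ι → F :=
  ε.symm (wvec F i j k, (0 : Fin r → F))

theorem eps_uvec (i j : Fin m) (k : Fin 2) :
    ε (uvec ε i j k) = (wvec F i j k, (0 : Fin r → F)) :=
  LinearEquiv.apply_symm_apply _ _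

include hε in
theorem polar_uvec (i j : Fin m) (k : Fin 2) (y : ι → F) :
    QuadraticMap.polar ⇑Q (uvec ε i j k) y = 2 * ((ε y).1 i k - (ε y).1 j k) := by
  rw [polar_model Q c ε hε, eps_uvec]
  have e : ((wvec F i j k, (0 : Fin r → F)) : Vm F 2 m × (Fin r → F)) =
      ((Pi.single i (Pi.single k 1) : Vm F 2 m), (0 : Fin r → F)) -
        ((Pi.single j (Pi.single k 1) : Vm F 2 m), (0 : Fin r → F)) := by
    apply Prod.ext
    · rfl
    · simp
  rw [e, Bmod_sub_left, Bmod_single, Bmod_single]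
  ring

include hε in
theorem Q_uvec (h2 : (2 : F) ≠ 0) {i j : Fin m} (hij : i ≠ j) (k : Fin 2) :
    Q (uvec ε i j k) = 2 := by
  have h1 := polar_uvec Q c ε hε i j k (uvec ε i j k)
  rw [polar_self', eps_uvec] at h1
  have h3 : wvec F i j k i k = 1 := by
    rw [wvec_apply]
    simp [hij]
  have h4 : wvec F i j k j k = -1 := by
    rw [wvec_apply]
    simp [hij.symm]
  dsimp only at h1
  rw [h3, h4] at h1
  have h5 : 2 * (Q (uvec ε i j k) - 2) = 0 := by linear_combination h1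
  rcases mul_eq_zero.1 h5 with h6 | h6
  · exact absurd h6 h2
  · linear_combination h6

include hε in
theorem eps_refl_uvec (h2 : (2 : F) ≠ 0) {i j : Fin m} (hij : i ≠ j) (k : Fin 2) (y : ι → F) :
    ε (Cfsg.reflectionMatrix ⇑Q (uvec ε i j k) *ᵥ y) =
      ε y - ((ε y).1 i k - (ε y).1 j k) • ((wvec F i j k, (0 : Fin r → F)) :
        Vm F 2 m × (Fin r → F)) := by
  rw [refl_mulVec, map_sub, map_smul, eps_uvec, polar_uvec Q c ε hε, Q_uvec Q c ε hε h2 hij]
  congr 2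
  field_simp

include hε in
theorem PhiO_swap (h2 : (2 : F) ≠ 0) {i j : Fin m} (hij : i ≠ j) :
    PhiO m r ⇑Q c ε hε (SemidirectProduct.inr (Equiv.swap i j), 1) =
      reflO Q (uvec ε i j 0) (by rw [Q_uvec Q c ε hε h2 hij]; exact h2) *
        reflO Q (uvec ε i j 1) (by rw [Q_uvec Q c ε hε h2 hij]; exact h2) := by
  apply Subtype.ext
  apply Units.ext
  show ((Phi0 m r ε (SemidirectProduct.inr (Equiv.swap i j), 1) : GL ι F) : Matrix ι ι F) =
    Cfsg.reflectionMatrix ⇑Q (uvec ε i j 0) * Cfsg.reflectionMatrix ⇑Q (uvec ε i j 1)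
  apply matrix_ext_mulVec
  intro y
  rw [← Matrix.mulVec_mulVec, Phi0_mulVec]
  apply ε.injective
  rw [LinearEquiv.apply_symm_apply, eps_refl_uvec Q c ε hε h2 hij, eps_refl_uvec Q c ε hε h2 hij]
  set a : Vm F 2 m := (ε y).1 with ha
  set a1 : Vm F 2 m := a - (a i 1 - a j 1) • wvec F i j 1 with ha1
  apply Prod.ext
  · show Psi F 2 m (wrIncl F m (SemidirectProduct.inr (Equiv.swap i j))) a =
      a1 - (a1 i 0 - a1 j 0) • wvec F i j 0
    funext i' l
    rw [sub_smul_wvec hij 0 a1 i' l, Psi_apply]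
    show (1 : Ae F 2) (a ((Equiv.swap i j).symm i')) l = _
    rw [Equiv.symm_swap]
    show a (Equiv.swap i j i') l = _
    by_cases hl : l = 0
    · rw [if_pos hl, ha1, sub_smul_wvec hij 1 a _ l, if_neg (by rw [hl]; decide)]
    · rw [if_neg hl, ha1, sub_smul_wvec hij 1 a _ l, if_pos (by omega)]
  · show diagE F r 1 (ε y).2 = (ε y).2 - (a i 1 - a j 1) • (0 : Fin r → F) -
      (a1 i 0 - a1 j 0) • (0 : Fin r → F)
    rw [map_one, smul_zero, smul_zero, sub_zero, sub_zero]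
    rfl

include hε in
theorem PhiO_inr_swap_mem [Fintype F] (h2 : (2 : F) ≠ 0) {i j : Fin m} (hij : i ≠ j) :
    PhiO m r ⇑Q c ε hε (SemidirectProduct.inr (Equiv.swap i j), 1) ∈ Cfsg.Omega F ⇑Q := by
  rw [PhiO_swap Q c ε hε h2 hij]
  have h0 : Q (uvec ε i j 0) ≠ 0 := by rw [Q_uvec Q c ε hε h2 hij]; exact h2
  have h1 : Q (uvec ε i j 1) ≠ 0 := by rw [Q_uvec Q c ε hε h2 hij]; exact h2
  have h3 := (prodO_mem_Omega_iff Q h2 [⟨uvec ε i j 0, h0⟩, ⟨uvec ε i j 1, h1⟩]).2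
    ⟨⟨1, rfl⟩, ⟨2, by
      simp only [normProd, List.map_cons, List.map_nil, List.prod_cons, List.prod_nil, mul_one]
      rw [Q_uvec Q c ε hε h2 hij, Q_uvec Q c ε hε h2 hij]⟩⟩
  simpa [prodO] using h3

include hε in
theorem PhiO_inr_mem [Fintype F] (h2 : (2 : F) ≠ 0) (σ : Equiv.Perm (Fin m)) :
    PhiO m r ⇑Q c ε hε (SemidirectProduct.inr σ, 1) ∈ Cfsg.Omega F ⇑Q := by
  set f : Equiv.Perm (Fin m) →* ↥(Cfsg.isometryGroup F ⇑Q) :=
    (PhiO m r ⇑Q c ε hε).comp ((MonoidHom.inl _ _).comp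
      (SemidirectProduct.inr : Equiv.Perm (Fin m) →* Wr ↥(O2 F) (Fin m))) with hf
  have h1 : (⊤ : Subgroup (Equiv.Perm (Fin m))) ≤ (Cfsg.Omega F ⇑Q).comap f := by
    rw [← Equiv.Perm.closure_isSwap, Subgroup.closure_le]
    rintro τ ⟨i, j, hij, rfl⟩
    exact PhiO_inr_swap_mem Q c ε hε h2 hij
  exact h1 (Subgroup.mem_top σ)

end swap2

end Cfsg.Agent.Helper21.SylAb
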