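import Mathlib
import Cfsg.Agent.Helper21.SylAb11

set_option autoImplicit false
set_option linter.unusedSectionVars false

/-! The model theorem: `SqC` for `(D ≀ P × {±1}^r) ∩ Ω`. -/

namespace Cfsg.Agent.Helper21.SylAb

open Matrix Cfsg.Agent.Helper11.SpNorm Cfsg.Agent.Helper11.SpDer Cfsg.Agent.Helper11.GLDer
  Cfsg.Agent.Helper11.GLNr Cfsg.Agent.Helper14.SylSn
  Cfsg.Agent.Helper28.IsoTransport Cfsg.Agent.Helper28.Spin

section homDw

variable {A : Type*} [Group A] {Ω : Type*} [Fintype Ω] [DecidableEq Ω] {M : Type*} [CommGroup M]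

/-- a homomorphism of the wreath product to an abelian group that kills the top group is the
product of its restriction to one base coordinate -/
theorem hom_eq_Dw (δ : Wr A Ω →* M) (hr : ∀ σ : Equiv.Perm Ω, δ (SemidirectProduct.inr σ) = 1)
    (i0 : Ω) : δ = Dw (δ.comp (embAt A i0)) := by
  have h1 : ∀ (i : Ω) (a : A), δ (embAt A i a) = δ (embAt A i0 a) := by
    intro i a
    have h := conj_inr_embAt (A := A) (Equiv.swap i0 i) i0 a
    rw [Equiv.swap_apply_left] at h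
    rw [← h, map_mul, map_mul, map_inv, hr, one_mul, inv_one, mul_one]
  have h2 : δ.comp (SemidirectProduct.inl : (Ω → A) →* Wr A Ω) =
      (Dw (δ.comp (embAt A i0))).comp (SemidirectProduct.inl : (Ω → A) →* Wr A Ω) := by
    apply MonoidHom.pi_ext
    intro i a
    show δ (embAt A i a) = Dw (δ.comp (embAt A i0)) (embAt A i a)
    rw [Dw_embAt, h1]
    rfl
  apply MonoidHom.ext
  intro x
  rw [← SemidirectProduct.inl_left_mul_inr_right x, map_mul, map_mul, hr, Dw_inr, mul_one, mul_one]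
  exact DFunLike.congr_fun h2 x.left

end homDw

section model

variable {F : Type*} [Field F] [Fintype F] {m r : ℕ} {ι : Type} [Fintype ι] [DecidableEq ι]
  (Q : QuadraticForm F (ι → F)) (c : Fin r → F)
  (ε : (ι → F) ≃ₗ[F] (Vm F 2 m × (Fin r → F))) (hε : ∀ v, Q v = Qmod m r c (ε v))

include hε in
/-- **Model theorem**. -/
theorem sqC_model (h2 : (2 : F) ≠ 0) (hm : 2 ≤ m) (D : Subgroup ↥(O2 F))
    (hsD : (⟨sRefl F, sRefl_mem⟩ : ↥(O2 F)) ∈ D) (P : Subgroup (Equiv.Perm (Fin m)))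
    (hP : GenBy 2 P) :
    SqC ((((wrS D P).prod (⊤ : Subgroup (Fin r → ℤˣ))).map (PhiO m r ⇑Q c ε hε)) ⊓
      Cfsg.Omega F ⇑Q) := by
  classical
  set Φ := PhiO m r ⇑Q c ε hε with hΦ
  set π : ↥(Cfsg.isometryGroup F ⇑Q) →* Abelianization ↥(Cfsg.isometryGroup F ⇑Q) :=
    Abelianization.of with hπ
  have hΩ : ∀ g, g ∈ Cfsg.Omega F ⇑Q ↔ π g = 1 := fun g => mem_Omega_iff_abel Q g
  set S : Subgroup (Wr ↥(O2 F) (Fin m) × (Fin r → ℤˣ)) :=
    (wrS D P).prod (⊤ : Subgroup (Fin r → ℤˣ)) with hS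
  set T0 : Subgroup (Wr ↥(O2 F) (Fin m) × (Fin r → ℤˣ)) := S ⊓ (π.comp Φ).ker with hT0
  have hT : S.map Φ ⊓ Cfsg.Omega F ⇑Q = T0.map Φ := by
    ext g
    constructor
    · intro hg
      obtain ⟨⟨x, hx, rfl⟩, hg2⟩ := Subgroup.mem_inf.1 hg
      exact ⟨x, Subgroup.mem_inf.2 ⟨hx, MonoidHom.mem_ker.2 ((hΩ _).1 hg2)⟩, rfl⟩
    · rintro ⟨x, hx, rfl⟩
      obtain ⟨hx1, hx2⟩ := Subgroup.mem_inf.1 hx
      exact Subgroup.mem_inf.2 ⟨⟨x, hx1, rfl⟩, (hΩ _).2 (MonoidHom.mem_ker.1 hx2)⟩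
  rw [hT]
  apply SqC.map
  apply sqC_of_map_fst (fun u => by
    funext k
    show (u k) ^ 2 = 1
    rcases Int.units_eq_one_or (u k) with h | h <;> rw [h] <;> rfl)
  -- the quotient of the abelianisation
  set δE : (Fin r → ℤˣ) →* Abelianization ↥(Cfsg.isometryGroup F ⇑Q) :=
    (π.comp Φ).comp (MonoidHom.inr _ _) with hδE
  set δW : Wr ↥(O2 F) (Fin m) →* Abelianization ↥(Cfsg.isometryGroup F ⇑Q) :=
    (π.comp Φ).comp (MonoidHom.inl _ _) with hδW
  have hsplit : ∀ x : Wr ↥(O2 F) (Fin m) × (Fin r → ℤˣ), π (Φ x) = δW x.1 * δE x.2 := by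
    intro x
    have : x = (x.1, 1) * (1, x.2) := by
      apply Prod.ext <;> simp
    conv_lhs => rw [this]
    rw [map_mul, map_mul]
    rfl
  set d' : Wr ↥(O2 F) (Fin m) →* (Abelianization ↥(Cfsg.isometryGroup F ⇑Q)) ⧸ δE.range :=
    (QuotientGroup.mk' δE.range).comp δW with hd'
  have hfst : T0.map (MonoidHom.fst _ _) = wrS D P ⊓ d'.ker := by
    ext w
    constructor
    · rintro ⟨x, hx, rfl⟩
      obtain ⟨hx1, hx2⟩ := Subgroup.mem_inf.1 hx
      refine Subgroup.mem_inf.2 ⟨(Subgroup.mem_prod.1 hx1).1, ?_⟩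
      rw [MonoidHom.mem_ker]
      show (QuotientGroup.mk' δE.range) (δW x.1) = 1
      rw [QuotientGroup.mk'_apply, QuotientGroup.eq_one_iff]
      have h3 : δW x.1 * δE x.2 = 1 := by
        rw [← hsplit]
        exact MonoidHom.mem_ker.1 hx2
      refine ⟨x.2⁻¹, ?_⟩
      rw [map_inv]
      exact (eq_inv_of_mul_eq_one_left h3).symm ▸ rfl
    · intro hw
      obtain ⟨hw1, hw2⟩ := Subgroup.mem_inf.1 hw
      rw [MonoidHom.mem_ker] at hw2
      have h3 : (QuotientGroup.mk' δE.range) (δW w) = 1 := hw2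
      rw [QuotientGroup.mk'_apply, QuotientGroup.eq_one_iff] at h3
      obtain ⟨u, hu⟩ := h3
      refine ⟨(w, u⁻¹), Subgroup.mem_inf.2 ⟨Subgroup.mem_prod.2 ⟨hw1, Subgroup.mem_top _⟩, ?_⟩, rfl⟩
      rw [MonoidHom.mem_ker]
      show π (Φ (w, u⁻¹)) = 1
      rw [hsplit]
      dsimp only
      rw [map_inv, hu, mul_inv_cancel]
  rw [hfst]
  have hm0 : 0 < m := by omega
  have hd'r : ∀ σ : Equiv.Perm (Fin m), d' (SemidirectProduct.inr σ) = 1 := by
    intro σ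
    show (QuotientGroup.mk' δE.range) (δW (SemidirectProduct.inr σ)) = 1
    have h3 : δW (SemidirectProduct.inr σ) = 1 :=
      (hΩ _).1 (PhiO_inr_mem Q c ε hε h2 σ)
    rw [h3, map_one]
  rw [hom_eq_Dw d' hd'r ⟨0, hm0⟩]
  haveI : Nonempty (Fin m) := ⟨⟨0, hm0⟩⟩
  refine sqC_wrS_ker_soft ?_ _ D P hP ⟨sRefl F, sRefl_mem⟩ hsD ?_ ?_
  · intro i
    by_cases hi : i = ⟨0, hm0⟩
    · refine ⟨⟨1, by omega⟩, ?_⟩
      rw [hi]
      intro h
      have := congrArg Fin.val h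
      simp at this
    · exact ⟨⟨0, hm0⟩, fun h => hi h.symm⟩
  · apply Subtype.ext
    show (sRefl F) ^ 2 = 1
    exact sRefl_sq
  · intro x _
    rcases O2_soft h2 x.2 with h | h
    · left
      apply Subtype.ext
      exact h
    · right
      apply Subtype.ext
      exact h

end model

end Cfsg.Agent.Helper21.SylAb
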