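import Mathlib
import Cfsg.Agent.Helper21.SylAb12
import Cfsg.Agent.Helper14.SylSn3

set_option autoImplicit false
set_option linter.unusedSectionVars false

/-! Sylow transfer to a normal subgroup, and the general theorem for `Ω`. -/

namespace Cfsg.Agent.Helper21.SylAb

open Matrix Cfsg.Agent.Helper11.SpNorm Cfsg.Agent.Helper11.SpDer Cfsg.Agent.Helper11.GLDer
  Cfsg.Agent.Helper11.GLNr Cfsg.Agent.Helper14.SylSn
  Cfsg.Agent.Helper28.IsoTransport Cfsg.Agent.Helper28.Spin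

section transfer

variable {G : Type*} [Group G] [Finite G]

/-- if `S0 ∩ N` has the square property for one Sylow 2-subgroup `S0` of `G`, then so has every
Sylow 2-subgroup of the normal subgroup `N` -/
theorem sqC_sylow_of_normal (N : Subgroup G) [N.Normal] (S0 : Sylow 2 G)
    (h : SqC ((S0 : Subgroup G) ⊓ N)) (P : Sylow 2 ↥N) : SqC (P : Subgroup ↥N) := by
  classical
  have : Fact (Nat.Prime 2) := ⟨Nat.prime_two⟩
  have hP2 : IsPGroup 2 ((P : Subgroup ↥N).map N.subtype) := P.2.map N.subtype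
  obtain ⟨S, hS⟩ := hP2.exists_le_sylow
  have hPS : (P : Subgroup ↥N).map N.subtype = (S : Subgroup G) ⊓ N := by
    refine le_antisymm (le_inf hS ?_) ?_
    · rintro _ ⟨y, _, rfl⟩
      exact y.2
    · rintro x ⟨hxS, hxN⟩
      have hK : IsPGroup 2 (((S : Subgroup G) ⊓ N).comap N.subtype) :=
        (S.2.to_le inf_le_left).comap_of_injective N.subtype Subtype.val_injective
      have hPK : (P : Subgroup ↥N) ≤ ((S : Subgroup G) ⊓ N).comap N.subtype := by
        intro w hw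
        exact ⟨hS ⟨w, hw, rfl⟩, w.2⟩
      have hKP := P.is_maximal' hK hPK
      have hy : (⟨x, hxN⟩ : ↥N) ∈ ((S : Subgroup G) ⊓ N).comap N.subtype := ⟨hxS, hxN⟩
      rw [hKP] at hy
      exact ⟨⟨x, hxN⟩, hy, rfl⟩
  apply SqC.of_map_injective N.subtype Subtype.val_injective
  rw [hPS]
  obtain ⟨g, hg⟩ := MulAction.exists_smul_eq G S0 S
  have hconj : (S : Subgroup G) ⊓ N = ((S0 : Subgroup G) ⊓ N).map (MulAut.conj g).toMonoidHom := by
    have h1 : (S : Subgroup G) = (S0 : Subgroup G).map (MulAut.conj g).toMonoidHom := by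
      rw [← hg, Sylow.coe_subgroup_smul]
      rfl
    ext x
    constructor
    · rintro ⟨hxS, hxN⟩
      rw [h1] at hxS
      obtain ⟨y, hy, rfl⟩ := hxS
      refine ⟨y, ⟨hy, ?_⟩, rfl⟩
      have h3 : g⁻¹ * (g * y * g⁻¹) * g⁻¹⁻¹ ∈ N := ‹N.Normal›.conj_mem _ hxN g⁻¹
      simpa [mul_assoc] using h3
    · rintro ⟨y, ⟨hyS, hyN⟩, rfl⟩
      refine ⟨?_, ‹N.Normal›.conj_mem _ hyN g⟩
      rw [h1]
      exact ⟨y, hyS, rfl⟩
  rw [hconj]
  exact h.map _

/-- a subgroup of the right order is a Sylow subgroup -/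
theorem exists_sylow_of_card (H : Subgroup G) (hH : Nat.card H = 2 ^ padicValNat 2 (Nat.card G)) :
    ∃ S : Sylow 2 G, (S : Subgroup G) = H := by
  have : Fact (Nat.Prime 2) := ⟨Nat.prime_two⟩
  refine ⟨Sylow.ofCard H ?_, Sylow.coe_ofCard _ _⟩
  rw [hH, Nat.factorization_def _ Nat.prime_two]

end transfer

section general

variable {F : Type*} [Field F] [Fintype F] {m r : ℕ} {ι : Type} [Fintype ι] [DecidableEq ι]
  (Q : QuadraticForm F (ι → F)) (c : Fin r → F)
  (ε : (ι → F) ≃ₗ[F] (Vm F 2 m × (Fin r → F))) (hε : ∀ v, Q v = Qmod m r c (ε v))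

theorem isPGroup_zpowers_of_sq' {G : Type*} [Group G] (g : G) (hg : g ^ 2 = 1) :
    IsPGroup 2 (Subgroup.zpowers g) := by
  apply Cfsg.Agent.Helper11.GLNr.isPGroup_zpowers_of_sq
  rw [← pow_two]
  exact hg

include hε in
/-- **General theorem**: if the 2-part of `|O(Q)|` is that of `(O_2 ≀ S_m) × 2^r`, the Sylow
2-subgroups of `Ω(Q)` have the square property. -/
theorem sqC_sylow_Omega (h2 : (2 : F) ≠ 0) (hm : 2 ≤ m)
    (hcard : padicValNat 2 (Nat.card ↥(Cfsg.isometryGroup F ⇑Q)) =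
      m * padicValNat 2 (Nat.card ↥(O2 F)) + padicValNat 2 m.factorial + r)
    (P : Sylow 2 ↥(Cfsg.Omega F ⇑Q)) : SqC (P : Subgroup ↥(Cfsg.Omega F ⇑Q)) := by
  classical
  have : Fact (Nat.Prime 2) := ⟨Nat.prime_two⟩
  haveI : Finite (Ae F 2) := Finite.of_equiv _ (glEquiv F 2).toEquiv
  -- the Sylow subgroup of `O_2`
  have hs2 : (⟨sRefl F, sRefl_mem⟩ : ↥(O2 F)) ^ 2 = 1 := by
    apply Subtype.ext
    exact sRefl_sq
  obtain ⟨D, hD⟩ := (isPGroup_zpowers_of_sq' _ hs2).exists_le_sylow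
  have hsD : (⟨sRefl F, sRefl_mem⟩ : ↥(O2 F)) ∈ (D : Subgroup ↥(O2 F)) :=
    hD (Subgroup.mem_zpowers _)
  obtain ⟨Pm⟩ : Nonempty (Sylow 2 (Equiv.Perm (Fin m))) := inferInstance
  have hPm := sylow_perm_genBy (p := 2) m Pm
  have hmodel := sqC_model Q c ε hε h2 hm (D : Subgroup ↥(O2 F)) hsD
    (Pm : Subgroup (Equiv.Perm (Fin m))) hPm
  set S : Subgroup (Wr ↥(O2 F) (Fin m) × (Fin r → ℤˣ)) :=
    (wrS (D : Subgroup ↥(O2 F)) (Pm : Subgroup (Equiv.Perm (Fin m)))).prod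
      (⊤ : Subgroup (Fin r → ℤˣ)) with hS
  have hcS : Nat.card ↥(S.map (PhiO m r ⇑Q c ε hε)) =
      2 ^ padicValNat 2 (Nat.card ↥(Cfsg.isometryGroup F ⇑Q)) := by
    rw [Nat.card_congr (S.equivMapOfInjective _ (PhiO_injective m r h2 ⇑Q c ε hε)).symm.toEquiv,
      hS, Nat.card_congr (Subgroup.prodEquiv _ _).toEquiv, Nat.card_prod, card_wrS,
      Fintype.card_fin, card_sylow_perm, D.card_eq_multiplicity,
      Nat.factorization_def _ Nat.prime_two, Nat.card_congr Subgroup.topEquiv.toEquiv,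
      Nat.card_eq_fintype_card (α := Fin r → ℤˣ), Fintype.card_fun, Fintype.card_units_int,
      Fintype.card_fin, hcard]
    ring
  obtain ⟨S0, hS0⟩ := exists_sylow_of_card _ hcS
  apply sqC_sylow_of_normal (Cfsg.Omega F ⇑Q) S0
  rw [hS0]
  exact hmodel

end general

end Cfsg.Agent.Helper21.SylAb
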