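import Mathlib

set_option autoImplicit false
set_option linter.unusedSectionVars false

/-! Normalised orthogonal bases over finite fields of odd order: norms `(1, …, 1, δ)`. -/

namespace Cfsg.Agent.Helper21.SylAb

open Module

section normbasis

universe u

variable {F : Type*} [Field F] [Fintype F]

theorem card_mod_two_of_two_ne_zero (h2 : (2 : F) ≠ 0) : Fintype.card F % 2 = 1 := by
  apply FiniteField.odd_card_of_char_ne_two
  intro h
  apply h2
  have := ringChar.Nat.cast_ringChar (R := F)
  rw [h] at this
  exact_mod_cast this

/-- universality in dimension at least two -/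
theorem exists_self_eq_one {V : Type u} [AddCommGroup V] [Module F V] [FiniteDimensional F V]
    (h2 : (2 : F) ≠ 0) (B : LinearMap.BilinForm F V) (hs : LinearMap.IsSymm B) (hn : B.Nondegenerate)
    (hd : 2 ≤ finrank F V) : ∃ x : V, B x x = 1 := by
  have : Invertible (2 : F) := invertibleOfNonzero h2
  obtain ⟨v, hv⟩ := LinearMap.BilinForm.exists_orthogonal_basis hs
  have hns : ∀ i, B (v i) (v i) ≠ 0 :=
    fun i => hv.not_isOrtho_basis_self_of_separatingLeft hn.1 i
  set i0 : Fin (finrank F V) := ⟨0, by omega⟩ with hi0
  set i1 : Fin (finrank F V) := ⟨1, by omega⟩ with hi1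
  have hne : i0 ≠ i1 := by
    intro h
    have := congrArg Fin.val h
    simp [i0, i1] at this
  have hodd : Fintype.card F % 2 = 1 := card_mod_two_of_two_ne_zero h2
  have hf : (Polynomial.C (B (v i0) (v i0)) * Polynomial.X ^ 2).degree = 2 :=
    Polynomial.degree_C_mul_X_pow 2 (hns i0)
  have hg : (Polynomial.C (B (v i1) (v i1)) * Polynomial.X ^ 2 - Polynomial.C 1).degree = 2 := by
    have hd := Polynomial.degree_C_mul_X_pow 2 (hns i1)
    rw [Polynomial.degree_sub_C (by rw [hd]; norm_num), hd]
    rfl
  obtain ⟨a, b, hab⟩ := FiniteField.exists_root_sum_quadratic hf hg hodd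
  simp only [Polynomial.eval_mul, Polynomial.eval_C, Polynomial.eval_pow, Polynomial.eval_X,
    Polynomial.eval_sub] at hab
  have h01 : B (v i0) (v i1) = 0 := hv hne
  have h10 : B (v i1) (v i0) = 0 := hv hne.symm
  refine ⟨a • v i0 + b • v i1, ?_⟩
  simp only [map_add, map_smul, LinearMap.add_apply, LinearMap.smul_apply, smul_eq_mul, h01, h10]
  linear_combination hab

/-- normalised orthogonal basis -/
theorem exists_normalized_basis (h2 : (2 : F) ≠ 0) (n : ℕ) :
    ∀ {V : Type u} [AddCommGroup V] [Module F V] [FiniteDimensional F V]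
      (B : LinearMap.BilinForm F V) (_hs : LinearMap.IsSymm B) (_hn : B.Nondegenerate)
      (_hd : finrank F V = n + 1),
      ∃ v : Basis (Fin (n + 1)) F V, B.IsOrthoᵢ v ∧
        (∀ i, i ≠ Fin.last n → B (v i) (v i) = 1) ∧ B (v (Fin.last n)) (v (Fin.last n)) ≠ 0 := by
  have : Invertible (2 : F) := invertibleOfNonzero h2
  induction n with
  | zero =>
    intro V _ _ _ B hs hn hd
    have hsub : Subsingleton (Fin (0 + 1)) := (inferInstance : Subsingleton (Fin 1))
    let b := Module.finBasis F V
    rw [hd] at b
    have hb : B.IsOrthoᵢ b := by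
      intro i j hij
      exact absurd (Subsingleton.elim i j) hij
    refine ⟨b, hb, ?_, ?_⟩
    · intro i hi
      exact absurd (Subsingleton.elim i _) hi
    · exact hb.not_isOrtho_basis_self_of_separatingLeft hn.1 _
  | succ n ih =>
    intro V _ _ _ B hs hn hd
    obtain ⟨x, hx1⟩ := exists_self_eq_one h2 B hs hn (by omega)
    have hx : B x x ≠ 0 := by
      rw [hx1]
      exact one_ne_zero
    rw [← Submodule.finrank_add_eq_of_isCompl
      (LinearMap.BilinForm.isCompl_span_singleton_orthogonal hx).symm,
      finrank_span_singleton (fun h0 => hx (by rw [h0]; simp))] at hd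
    have hB'n : (B.restrict (B.orthogonal (F ∙ x))).Nondegenerate :=
      LinearMap.BilinForm.restrict_nondegenerate_orthogonal_spanSingleton B hn hs.isRefl hx
    have hB's : LinearMap.IsSymm (B.restrict (B.orthogonal (F ∙ x))) := hs.domRestrict _
    obtain ⟨v', hv₁, hv₂, hv₃⟩ := ih (B.restrict (B.orthogonal (F ∙ x))) hB's hB'n
      (Nat.succ.inj hd)
    let b :=
      Basis.mkFinCons x v'
        (by
          rintro c y hy hc
          rw [add_eq_zero_iff_neg_eq] at hc
          rw [← hc, Submodule.neg_mem_iff] at hy
          have := (LinearMap.BilinForm.isCompl_span_singleton_orthogonal hx).disjoint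
          rw [Submodule.disjoint_def] at this
          have := this (c • x) (Submodule.smul_mem _ _ <| Submodule.mem_span_singleton_self _) hy
          exact (smul_eq_zero.1 this).resolve_right fun h => hx <| h.symm ▸ map_zero _)
        (by
          intro y
          refine ⟨-B x y / B x x, fun z hz => ?_⟩
          obtain ⟨c, rfl⟩ := Submodule.mem_span_singleton.1 hz
          rw [map_smul, LinearMap.smul_apply, map_add, map_smul, smul_eq_mul, smul_eq_mul,
            div_mul_cancel₀ _ hx, add_neg_cancel, mul_zero])
    refine ⟨b, ?_, ?_, ?_⟩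
    · rw [Basis.coe_mkFinCons]
      intro j i
      refine Fin.cases ?_ (fun i => ?_) i <;> refine Fin.cases ?_ (fun j => ?_) j <;> intro hij <;>
        simp only [Function.onFun, Fin.cons_zero, Fin.cons_succ, Function.comp_apply]
      · exact (hij rfl).elim
      · show B (v' j : V) x = 0
        rw [← hs.eq]
        exact (v' j).prop _ (Submodule.mem_span_singleton_self x)
      · exact (v' i).prop _ (Submodule.mem_span_singleton_self x)
      · exact hv₁ (ne_of_apply_ne _ hij)
    · rw [Basis.coe_mkFinCons]
      intro i
      refine Fin.cases ?_ (fun i => ?_) i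
      · intro _
        simp only [Fin.cons_zero]
        exact hx1
      · intro hi
        simp only [Fin.cons_succ, Function.comp_apply]
        have hi' : i ≠ Fin.last n := by
          intro h
          apply hi
          rw [h, Fin.succ_last]
        exact hv₂ i hi'
    · rw [Basis.coe_mkFinCons, ← Fin.succ_last]
      simp only [Fin.cons_succ, Function.comp_apply]
      exact hv₃

end normbasis

end Cfsg.Agent.Helper21.SylAb
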