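import Mathlib
import Cfsg.Agent.Helper21.SylAb14
import Cfsg.Agent.Helper21.SylAb10

set_option autoImplicit false
set_option linter.unusedSectionVars false

/-! The model coordinates of a non-degenerate quadratic form over a finite field of odd order. -/

namespace Cfsg.Agent.Helper21.SylAb

open Module Cfsg.Agent.Helper11.GLDer

section expand

variable {F : Type*} [Field F] {M : Type*} [AddCommGroup M] [Module F M]

theorem Q_sum_of_ortho {J : Type*} [DecidableEq J] (Q : QuadraticForm F M) (b : J → M)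
    (horth : ∀ i j, i ≠ j → QuadraticMap.polar ⇑Q (b i) (b j) = 0) (x : J → F) (s : Finset J) :
    Q (∑ j ∈ s, x j • b j) = ∑ j ∈ s, x j ^ 2 * Q (b j) := by
  induction s using Finset.induction_on with
  | empty => simp
  | insert a s ha ih =>
    rw [Finset.sum_insert ha, Finset.sum_insert ha, QuadraticMap.map_add (⇑Q), ih,
      QuadraticMap.map_smul]
    have h0 : QuadraticMap.polar ⇑Q (x a • b a) (∑ j ∈ s, x j • b j) = 0 := by
      have h1 : QuadraticMap.polar ⇑Q (x a • b a) (∑ j ∈ s, x j • b j) =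
          QuadraticMap.polarBilin Q (x a • b a) (∑ j ∈ s, x j • b j) := rfl
      rw [h1, map_sum]
      apply Finset.sum_eq_zero
      intro j hj
      have hne : a ≠ j := by
        intro h
        apply ha
        rw [h]
        exact hj
      show QuadraticMap.polar ⇑Q (x a • b a) (x j • b j) = 0
      rw [QuadraticMap.polar_smul_left, QuadraticMap.polar_smul_right, horth a j hne]
      simp
    rw [h0, add_zero, smul_eq_mul]
    ring

end expand

section eps

variable {F : Type*} [Field F] {ι : Type} [Fintype ι] [DecidableEq ι]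

/-- splitting coordinates -/
def splitEquiv (F : Type*) [Field F] (m r : ℕ) :
    (((Fin m × Fin 2) ⊕ Fin r) → F) ≃ₗ[F] (Vm F 2 m × (Fin r → F)) where
  toFun x := (fun i k => x (Sum.inl (i, k)), fun k => x (Sum.inr k))
  map_add' x y := rfl
  map_smul' a x := rfl
  invFun p := Sum.elim (fun ik => p.1 ik.1 ik.2) p.2
  left_inv x := by
    funext j
    rcases j with ⟨i, k⟩ | k <;> rfl
  right_inv p := rfl

theorem exists_eps_of_basis (Q : QuadraticForm F (ι → F)) (m r : ℕ)
    (b : Basis ((Fin m × Fin 2) ⊕ Fin r) F (ι → F))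
    (horth : ∀ i j, i ≠ j → QuadraticMap.polar ⇑Q (b i) (b j) = 0)
    (h1 : ∀ p, Q (b (Sum.inl p)) = 1) :
    ∃ (c : Fin r → F) (ε : (ι → F) ≃ₗ[F] (Vm F 2 m × (Fin r → F))),
      ∀ v, Q v = Qmod m r c (ε v) := by
  classical
  refine ⟨fun k => Q (b (Sum.inr k)), b.equivFun.trans (splitEquiv F m r), ?_⟩
  intro v
  have hv : v = ∑ j, b.equivFun v j • b j := (b.sum_equivFun v).symm
  conv_lhs => rw [hv]
  rw [Q_sum_of_ortho Q b horth (b.equivFun v) Finset.univ, Fintype.sum_sum_type,
    Fintype.sum_prod_type]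
  unfold Qmod Npl
  congr 1
  · apply Finset.sum_congr rfl
    intro i _
    rw [Fin.sum_univ_two, h1, h1, mul_one, mul_one]
    rfl
  · apply Finset.sum_congr rfl
    intro k _
    rw [mul_comm]
    rfl

end eps

section eps2

variable {F : Type*} [Field F] [Fintype F] {ι : Type} [Fintype ι] [DecidableEq ι]

/-- a normalised orthogonal basis of a non-degenerate quadratic form -/
theorem exists_norm_basis_Q (h2 : (2 : F) ≠ 0) (Q : QuadraticForm F (ι → F))
    (hQ : (QuadraticMap.polarBilin Q).Nondegenerate) (n : ℕ) (hn : Fintype.card ι = n + 1) :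
    ∃ v : Basis (Fin (n + 1)) F (ι → F),
      (∀ i j, i ≠ j → QuadraticMap.polar ⇑Q (v i) (v j) = 0) ∧
        (∀ i, i ≠ Fin.last n → Q (v i) = 1) ∧ Q (v (Fin.last n)) ≠ 0 := by
  set B : LinearMap.BilinForm F (ι → F) := (2⁻¹ : F) • QuadraticMap.polarBilin Q with hB
  have hBa : ∀ x y, B x y = 2⁻¹ * QuadraticMap.polar ⇑Q x y := fun x y => rfl
  have hBs : LinearMap.IsSymm B := by
    constructor
    intro x y
    show B x y = B y x
    rw [hBa, hBa, QuadraticMap.polar_comm]
  have hBn : B.Nondegenerate := by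
    constructor
    · intro x hx
      apply hQ.1 x
      intro y
      have := hx y
      rw [hBa] at this
      rcases mul_eq_zero.1 this with h | h
      · exact absurd h (inv_ne_zero h2)
      · exact h
    · intro y hy
      apply hQ.2 y
      intro x
      have := hy x
      rw [hBa] at this
      rcases mul_eq_zero.1 this with h | h
      · exact absurd h (inv_ne_zero h2)
      · exact h
  have hBxx : ∀ x, B x x = Q x := by
    intro x
    rw [hBa, QuadraticMap.polar_self]
    simp only [nsmul_eq_mul, Nat.cast_ofNat]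
    field_simp
  have hd : finrank F (ι → F) = n + 1 := by
    rw [Module.finrank_fintype_fun_eq_card, hn]
  obtain ⟨v, hv1, hv2, hv3⟩ := exists_normalized_basis h2 n B hBs hBn hd
  refine ⟨v, ?_, ?_, ?_⟩
  · intro i j hij
    have h := hv1 hij
    have h' : B (v i) (v j) = 0 := h
    rw [hBa] at h'
    rcases mul_eq_zero.1 h' with h | h
    · exact absurd h (inv_ne_zero h2)
    · exact h
  · intro i hi
    rw [← hBxx]
    exact hv2 i hi
  · rw [← hBxx]
    exact hv3

/-- model coordinates with a non-trivial tail -/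
theorem exists_eps_pos (h2 : (2 : F) ≠ 0) (Q : QuadraticForm F (ι → F))
    (hQ : (QuadraticMap.polarBilin Q).Nondegenerate) (m r : ℕ) (hr : 1 ≤ r)
    (hcard : Fintype.card ι = m * 2 + r) :
    ∃ (c : Fin r → F) (ε : (ι → F) ≃ₗ[F] (Vm F 2 m × (Fin r → F))),
      ∀ v, Q v = Qmod m r c (ε v) := by
  classical
  obtain ⟨n, hn⟩ : ∃ n, m * 2 + r = n + 1 := ⟨m * 2 + r - 1, by omega⟩
  obtain ⟨v, hv1, hv2, -⟩ := exists_norm_basis_Q h2 Q hQ n (by rw [hcard, hn])
  have hc : Fintype.card (Fin (n + 1)) = Fintype.card ((Fin m × Fin 2) ⊕ Fin r) := by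
    simp [hn]
  set e0 : Fin (n + 1) ≃ (Fin m × Fin 2) ⊕ Fin r := Fintype.equivOfCardEq hc with he0
  set k0 : Fin r := ⟨0, by omega⟩ with hk0
  set e : Fin (n + 1) ≃ (Fin m × Fin 2) ⊕ Fin r :=
    (Equiv.swap (Fin.last n) (e0.symm (Sum.inr k0))).trans e0 with he
  have hlast : e (Fin.last n) = Sum.inr k0 := by
    rw [he, Equiv.trans_apply, Equiv.swap_apply_left, Equiv.apply_symm_apply]
  apply exists_eps_of_basis Q m r (v.reindex e)
  · intro i j hij
    rw [Basis.reindex_apply, Basis.reindex_apply]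
    apply hv1
    intro h
    exact hij (e.symm.injective h)
  · intro p
    rw [Basis.reindex_apply]
    apply hv2
    intro h
    have h3 : e (e.symm (Sum.inl p)) = e (Fin.last n) := by rw [h]
    rw [Equiv.apply_symm_apply, hlast] at h3
    exact Sum.inl_ne_inr h3

/-- model coordinates without tail, when the discriminant is a square -/
theorem exists_eps_zero (h2 : (2 : F) ≠ 0) (Q : QuadraticForm F (ι → F))
    (hQ : (QuadraticMap.polarBilin Q).Nondegenerate) (m : ℕ) (hm : 1 ≤ m)
    (hcard : Fintype.card ι = m * 2)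
    (hdisc : ∀ v : Basis (Fin (m * 2)) F (ι → F),
      IsSquare (Matrix.of (fun i j : Fin (m * 2) => QuadraticMap.polar ⇑Q (v i) (v j))).det) :
    ∃ (c : Fin 0 → F) (ε : (ι → F) ≃ₗ[F] (Vm F 2 m × (Fin 0 → F))),
      ∀ v, Q v = Qmod m 0 c (ε v) := by
  classical
  obtain ⟨n, hn⟩ : ∃ n, m * 2 = n + 1 := ⟨m * 2 - 1, by omega⟩
  rw [hn] at hdisc
  obtain ⟨v, hv1, hv2, hv3⟩ := exists_norm_basis_Q h2 Q hQ n (by rw [hcard, hn])
  -- the last norm is a square
  have hsq : IsSquare (Q (v (Fin.last n))) := by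
    have h := hdisc v
    have hdiag : Matrix.of (fun i j : Fin (n + 1) => QuadraticMap.polar ⇑Q (v i) (v j)) =
        Matrix.diagonal (fun i => 2 * Q (v i)) := by
      ext i j
      by_cases hij : i = j
      · subst hij
        rw [Matrix.diagonal_apply_eq, Matrix.of_apply, QuadraticMap.polar_self]
        simp
      · rw [Matrix.diagonal_apply_ne _ hij, Matrix.of_apply, hv1 i j hij]
    rw [hdiag, Matrix.det_diagonal, Fin.prod_univ_castSucc] at h
    have h3 : ∀ i : Fin n, 2 * Q (v i.castSucc) = 2 := by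
      intro i
      rw [hv2 _ (Fin.castSucc_lt_last i).ne, mul_one]
    rw [Finset.prod_congr rfl (fun i _ => h3 i), Finset.prod_const, Finset.card_univ,
      Fintype.card_fin] at h
    obtain ⟨s, hs⟩ := h
    have hn' : n + 1 = 2 * m := by omega
    refine ⟨s / 2 ^ m, ?_⟩
    have h2m : (2 : F) ^ m ≠ 0 := pow_ne_zero _ h2
    have h4 : (2 : F) ^ (m * 2) = 2 ^ n * 2 := by rw [hn, pow_succ]
    field_simp
    linear_combination hs + Q (v (Fin.last n)) * h4
  obtain ⟨t, ht⟩ := hsq
  have ht0 : t ≠ 0 := by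
    intro h
    apply hv3
    rw [ht, h, mul_zero]
  set w : Fin (n + 1) → Fˣ := fun i => if i = Fin.last n then (Units.mk0 t ht0)⁻¹ else 1 with hw
  set v' : Basis (Fin (n + 1)) F (ι → F) := v.unitsSMul w with hv'
  have hv'a : ∀ i, v' i = ((w i : Fˣ) : F) • v i := by
    intro i
    rw [hv', Basis.unitsSMul_apply]
    rfl
  have hc : Fintype.card (Fin (n + 1)) = Fintype.card ((Fin m × Fin 2) ⊕ Fin 0) := by
    simp [hn]
  set e : Fin (n + 1) ≃ (Fin m × Fin 2) ⊕ Fin 0 := Fintype.equivOfCardEq hc with he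
  apply exists_eps_of_basis Q m 0 (v'.reindex e)
  · intro i j hij
    rw [Basis.reindex_apply, Basis.reindex_apply, hv'a, hv'a, QuadraticMap.polar_smul_left,
      QuadraticMap.polar_smul_right]
    rw [hv1 _ _ (fun h => hij (e.symm.injective h))]
    simp
  · intro p
    rw [Basis.reindex_apply, hv'a, QuadraticMap.map_smul]
    by_cases hp : e.symm (Sum.inl p) = Fin.last n
    · rw [hp, hw]
      simp only [if_true, Units.val_inv_eq_inv_val, Units.val_mk0, smul_eq_mul]
      rw [ht]
      field_simp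
    · rw [hv2 _ hp, hw]
      simp only [if_neg hp, Units.val_one, smul_eq_mul]
      ring

end eps2

end Cfsg.Agent.Helper21.SylAb
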