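import Mathlib

set_option autoImplicit false
set_option linter.unusedSectionVars false

/-! 2-adic valuations of `q^n ± 1`. -/

namespace Cfsg.Agent.Helper21.SylAb

section twoadic

/-- the 2-adic valuation of an integer -/
def v2z (z : ℤ) : ℕ := padicValNat 2 z.natAbs

theorem v2z_natCast (N : ℕ) : v2z (N : ℤ) = padicValNat 2 N := by
  unfold v2z
  rw [Int.natAbs_natCast]

theorem v2z_eq {z : ℤ} (hz : z ≠ 0) : ((v2z z : ℕ) : ℕ∞) = emultiplicity (2 : ℤ) z := by
  unfold v2z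
  rw [padicValNat_eq_emultiplicity (Int.natAbs_ne_zero.2 hz)]
  exact Int.emultiplicity_natAbs 2 z

theorem lte2 {x y : ℤ} (hxy : 4 ∣ x - y) (hx : ¬ 2 ∣ x) (hne : x - y ≠ 0) (n : ℕ) (hn : n ≠ 0)
    (hne' : x ^ n - y ^ n ≠ 0) :
    v2z (x ^ n - y ^ n) = v2z (x - y) + padicValNat 2 n := by
  have h := Int.two_pow_sub_pow' n hxy hx
  rw [← v2z_eq hne', ← v2z_eq hne] at h
  have h3 : emultiplicity (2 : ℤ) (n : ℤ) = ((padicValNat 2 n : ℕ) : ℕ∞) := by
    rw [padicValNat_eq_emultiplicity hn]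
    exact Int.natCast_emultiplicity 2 n
  rw [h3, ← Nat.cast_add] at h
  exact_mod_cast h

theorem padic_of_mod_four {N : ℕ} (h : N % 4 = 2) : padicValNat 2 N = 1 := by
  obtain ⟨k, rfl⟩ : ∃ k, N = 2 * (2 * k + 1) := ⟨N / 4, by omega⟩
  have : Fact (Nat.Prime 2) := ⟨Nat.prime_two⟩
  rw [padicValNat.mul (by norm_num) (by omega), padicValNat_self,
    padicValNat.eq_zero_of_not_dvd (by omega)]

variable (q : ℕ)

/-- the valuation of `|O_2(q)|` -/
def Aq : ℕ := padicValNat 2 (2 * (if q % 4 = 1 then q - 1 else q + 1))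

theorem Aq_one (hq : 1 < q) (h : q % 4 = 1) : Aq q = 1 + padicValNat 2 (q - 1) := by
  have : Fact (Nat.Prime 2) := ⟨Nat.prime_two⟩
  unfold Aq
  rw [if_pos h, padicValNat.mul (by norm_num) (by omega), padicValNat_self]

theorem Aq_three (h : q % 4 = 3) : Aq q = 1 + padicValNat 2 (q + 1) := by
  have : Fact (Nat.Prime 2) := ⟨Nat.prime_two⟩
  unfold Aq
  rw [if_neg (by omega), padicValNat.mul (by norm_num) (by omega), padicValNat_self]

theorem one_lt_pow' (hq : 1 < q) {n : ℕ} (hn : n ≠ 0) : 1 < q ^ n := Nat.one_lt_pow hn hq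

/-- `q ≡ 1 (mod 4)` -/
theorem padic_sub_one_of_one (hq : 1 < q) (h : q % 4 = 1) {n : ℕ} (hn : n ≠ 0) :
    padicValNat 2 (q ^ n - 1) + 1 = Aq q + padicValNat 2 n := by
  have h1 : 1 < q ^ n := one_lt_pow' q hq hn
  have hc : ((q ^ n - 1 : ℕ) : ℤ) = (q : ℤ) ^ n - 1 ^ n := by
    rw [Nat.cast_sub (by omega), Nat.cast_pow, one_pow, Nat.cast_one]
  have hc' : ((q - 1 : ℕ) : ℤ) = (q : ℤ) - 1 := by
    rw [Nat.cast_sub (by omega), Nat.cast_one]
  rw [← v2z_natCast, hc, lte2 (x := (q : ℤ)) (y := 1) (by omega) (by omega) (by omega) n hn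
    (by rw [← hc]; exact_mod_cast (by omega : q ^ n - 1 ≠ 0)), ← hc', v2z_natCast, Aq_one q hq h]
  ring

theorem pow_mod_four_of_one (h : q % 4 = 1) (n : ℕ) : q ^ n % 4 = 1 := by
  rw [Nat.pow_mod, h, one_pow]
  rfl

theorem padic_add_one_of_one (h : q % 4 = 1) (n : ℕ) : padicValNat 2 (q ^ n + 1) = 1 := by
  apply padic_of_mod_four
  have := pow_mod_four_of_one q h n
  omega

theorem pow_mod_four_of_three (h : q % 4 = 3) (n : ℕ) :
    q ^ n % 4 = if Even n then 1 else 3 := by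
  induction n with
  | zero => simp
  | succ k ih =>
    rw [pow_succ, Nat.mul_mod, ih, h]
    by_cases hk : Even k
    · have : ¬ Even (k + 1) := by
        rw [Nat.even_add_one]
        exact fun h => h hk
      rw [if_pos hk, if_neg this]
    · have : Even (k + 1) := by
        rw [Nat.even_add_one]
        exact hk
      rw [if_neg hk, if_pos this]

/-- `q ≡ 3 (mod 4)`, even exponent -/
theorem padic_sub_one_of_three_even (hq : 1 < q) (h : q % 4 = 3) {n : ℕ} (hn : n ≠ 0)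
    (he : Even n) : padicValNat 2 (q ^ n - 1) + 1 = Aq q + padicValNat 2 n := by
  have h1 : 1 < q ^ n := one_lt_pow' q hq hn
  have hc : ((q ^ n - 1 : ℕ) : ℤ) = (q : ℤ) ^ n - (-1) ^ n := by
    rw [Nat.cast_sub (by omega), Nat.cast_pow, he.neg_one_pow, Nat.cast_one]
  have hc' : ((q + 1 : ℕ) : ℤ) = (q : ℤ) - (-1) := by
    push_cast
    ring
  rw [← v2z_natCast, hc, lte2 (x := (q : ℤ)) (y := -1) (by omega) (by omega) (by omega) n hn
    (by rw [← hc]; exact_mod_cast (by omega : q ^ n - 1 ≠ 0)), ← hc', v2z_natCast, Aq_three q h]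
  ring

theorem padic_add_one_of_three_even (h : q % 4 = 3) {n : ℕ} (he : Even n) :
    padicValNat 2 (q ^ n + 1) = 1 := by
  apply padic_of_mod_four
  have := pow_mod_four_of_three q h n
  rw [if_pos he] at this
  omega

/-- `q ≡ 3 (mod 4)`, odd exponent -/
theorem padic_add_one_of_three_odd (h : q % 4 = 3) {n : ℕ} (ho : Odd n) :
    padicValNat 2 (q ^ n + 1) + 1 = Aq q + padicValNat 2 n := by
  have hn : n ≠ 0 := by
    rintro rfl
    exact absurd ho (by decide)
  have hc : ((q ^ n + 1 : ℕ) : ℤ) = (q : ℤ) ^ n - (-1) ^ n := by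
    rw [ho.neg_one_pow]
    push_cast
    ring
  have hc' : ((q + 1 : ℕ) : ℤ) = (q : ℤ) - (-1) := by
    push_cast
    ring
  rw [← v2z_natCast, hc, lte2 (x := (q : ℤ)) (y := -1) (by omega) (by omega) (by omega) n hn
    (by rw [← hc]; exact_mod_cast (by omega : q ^ n + 1 ≠ 0)), ← hc', v2z_natCast, Aq_three q h]
  ring

theorem padic_sub_one_of_three_odd (h : q % 4 = 3) {n : ℕ} (ho : Odd n) :
    padicValNat 2 (q ^ n - 1) = 1 := by
  apply padic_of_mod_four
  have := pow_mod_four_of_three q h n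
  rw [if_neg (Nat.not_even_iff_odd.2 ho)] at this
  omega

/-- the type-B condition -/
def IsB (q m : ℕ) : Prop := q % 4 = 1 ∨ Even m

theorem padic_sub_one_B (hq : 1 < q) (hodd : Odd q) {m : ℕ} (hm : m ≠ 0) (hB : IsB q m) :
    padicValNat 2 (q ^ m - 1) + 1 = Aq q + padicValNat 2 m := by
  have hq4 : q % 4 = 1 ∨ q % 4 = 3 := by
    obtain ⟨k, rfl⟩ := hodd
    omega
  rcases hq4 with h | h
  · exact padic_sub_one_of_one q hq h hm
  · rcases hB with h' | h'
    · omega
    · exact padic_sub_one_of_three_even q hq h hm h'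

theorem padic_add_one_B (hodd : Odd q) {m : ℕ} (hB : IsB q m) :
    padicValNat 2 (q ^ m + 1) = 1 := by
  have hq4 : q % 4 = 1 ∨ q % 4 = 3 := by
    obtain ⟨k, rfl⟩ := hodd
    omega
  rcases hq4 with h | h
  · exact padic_add_one_of_one q h m
  · rcases hB with h' | h'
    · omega
    · exact padic_add_one_of_three_even q h h'

theorem padic_add_one_notB (hodd : Odd q) {m : ℕ} (hB : ¬ IsB q m) :
    padicValNat 2 (q ^ m + 1) + 1 = Aq q + padicValNat 2 m := by
  have hq4 : q % 4 = 1 ∨ q % 4 = 3 := by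
    obtain ⟨k, rfl⟩ := hodd
    omega
  unfold IsB at hB
  rw [not_or] at hB
  rcases hq4 with h | h
  · exact absurd h hB.1
  · exact padic_add_one_of_three_odd q h (Nat.not_even_iff_odd.1 hB.2)

theorem padic_sub_one_notB (hodd : Odd q) {m : ℕ} (hB : ¬ IsB q m) :
    padicValNat 2 (q ^ m - 1) = 1 := by
  have hq4 : q % 4 = 1 ∨ q % 4 = 3 := by
    obtain ⟨k, rfl⟩ := hodd
    omega
  unfold IsB at hB
  rw [not_or] at hB
  rcases hq4 with h | h
  · exact absurd h hB.1
  · exact padic_sub_one_of_three_odd q h (Nat.not_even_iff_odd.1 hB.2)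

/-- the discriminant condition -/
theorem even_disc_iff (hodd : Odd q) (m : ℕ) : Even (m * (q - 1) / 2) ↔ IsB q m := by
  obtain ⟨t, rfl⟩ := hodd
  have h1 : m * (2 * t + 1 - 1) / 2 = m * t := by
    rw [show 2 * t + 1 - 1 = 2 * t by omega, show m * (2 * t) = 2 * (m * t) by ring,
      Nat.mul_div_cancel_left _ (by norm_num : 0 < 2)]
  rw [h1, Nat.even_mul]
  unfold IsB
  constructor
  · rintro (h | ⟨s, hs⟩)
    · right
      exact h
    · left
      omega
  · rintro (h | h)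
    · right
      exact ⟨t / 2, by omega⟩
    · left
      exact h

theorem padic_sq_sub_one (hq : 1 < q) (hodd : Odd q) {k : ℕ} (hk : k ≠ 0) :
    padicValNat 2 (q ^ (2 * k) - 1) = Aq q + padicValNat 2 k := by
  have : Fact (Nat.Prime 2) := ⟨Nat.prime_two⟩
  have h := padic_sub_one_B q hq hodd (m := 2 * k) (by omega) (Or.inr ⟨k, by ring⟩)
  rw [padicValNat.mul (by norm_num) hk, padicValNat_self] at h
  omega

theorem padic_prod (hq : 1 < q) (hodd : Odd q) (n : ℕ) :
    padicValNat 2 (∏ i ∈ Finset.range n, (q ^ (2 * (i + 1)) - 1)) =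
      n * Aq q + padicValNat 2 n.factorial := by
  have : Fact (Nat.Prime 2) := ⟨Nat.prime_two⟩
  have hne : ∀ i, q ^ (2 * (i + 1)) - 1 ≠ 0 := by
    intro i
    have : 1 < q ^ (2 * (i + 1)) := Nat.one_lt_pow (by omega) hq
    omega
  have hfact : n.factorial = ∏ i ∈ Finset.range n, (i + 1) :=
    (Finset.prod_range_add_one_eq_factorial n).symm
  rw [hfact]
  clear hfact
  induction n with
  | zero => simp
  | succ m ih =>
    have h1 : ∏ i ∈ Finset.range m, (q ^ (2 * (i + 1)) - 1) ≠ 0 :=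
      Finset.prod_ne_zero_iff.mpr (fun i _ => hne i)
    have h2 : ∏ i ∈ Finset.range m, (i + 1) ≠ 0 :=
      Finset.prod_ne_zero_iff.mpr (fun i _ => by omega)
    rw [Finset.prod_range_succ, Finset.prod_range_succ, padicValNat.mul h1 (hne m),
      padicValNat.mul h2 (by omega), ih, padic_sq_sub_one q hq hodd (k := m + 1) (by omega)]
    ring

/-- the valuation of the order formula of an even-dimensional orthogonal group -/
theorem padic_order_even (hq : 1 < q) (hodd : Odd q) (k m : ℕ) (hm : 1 ≤ m) (N : ℕ) (hN : N ≠ 0) :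
    padicValNat 2 (2 * q ^ k * N * ∏ i ∈ Finset.range (m - 1), (q ^ (2 * (i + 1)) - 1)) =
      1 + padicValNat 2 N + ((m - 1) * Aq q + padicValNat 2 (m - 1).factorial) := by
  have : Fact (Nat.Prime 2) := ⟨Nat.prime_two⟩
  have hne : ∀ i, q ^ (2 * (i + 1)) - 1 ≠ 0 := by
    intro i
    have : 1 < q ^ (2 * (i + 1)) := Nat.one_lt_pow (by omega) hq
    omega
  have h1 : ∏ i ∈ Finset.range (m - 1), (q ^ (2 * (i + 1)) - 1) ≠ 0 :=
    Finset.prod_ne_zero_iff.mpr (fun i _ => hne i)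
  have hq0 : q ^ k ≠ 0 := pow_ne_zero _ (by omega)
  have hx : ¬ 2 ∣ q := by
    obtain ⟨t, rfl⟩ := hodd
    omega
  rw [padicValNat.mul (mul_ne_zero (mul_ne_zero (by norm_num) hq0) hN) h1,
    padicValNat.mul (mul_ne_zero (by norm_num) hq0) hN, padicValNat.mul (by norm_num) hq0,
    padicValNat_self, padicValNat.pow q k, padicValNat.eq_zero_of_not_dvd hx,
    padic_prod q hq hodd]
  ring

/-- the valuation of the order formula of an odd-dimensional orthogonal group -/
theorem padic_order_odd (hq : 1 < q) (hodd : Odd q) (k m : ℕ) :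
    padicValNat 2 (2 * q ^ k * ∏ i ∈ Finset.range m, (q ^ (2 * (i + 1)) - 1)) =
      m * Aq q + padicValNat 2 m.factorial + 1 := by
  have : Fact (Nat.Prime 2) := ⟨Nat.prime_two⟩
  have hne : ∀ i, q ^ (2 * (i + 1)) - 1 ≠ 0 := by
    intro i
    have : 1 < q ^ (2 * (i + 1)) := Nat.one_lt_pow (by omega) hq
    omega
  have h1 : ∏ i ∈ Finset.range m, (q ^ (2 * (i + 1)) - 1) ≠ 0 :=
    Finset.prod_ne_zero_iff.mpr (fun i _ => hne i)
  have hq0 : q ^ k ≠ 0 := pow_ne_zero _ (by omega)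
  have hx : ¬ 2 ∣ q := by
    obtain ⟨t, rfl⟩ := hodd
    omega
  rw [padicValNat.mul (mul_ne_zero (by norm_num) hq0) h1, padicValNat.mul (by norm_num) hq0,
    padicValNat_self, padicValNat.pow q k, padicValNat.eq_zero_of_not_dvd hx,
    padic_prod q hq hodd]
  ring

theorem padic_factorial_succ (m : ℕ) (hm : 1 ≤ m) :
    padicValNat 2 m.factorial = padicValNat 2 m + padicValNat 2 (m - 1).factorial := by
  have : Fact (Nat.Prime 2) := ⟨Nat.prime_two⟩
  obtain ⟨k, rfl⟩ : ∃ k, m = k + 1 := ⟨m - 1, by omega⟩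
  rw [Nat.factorial_succ, padicValNat.mul (by omega) (Nat.factorial_ne_zero k)]
  rfl

end twoadic

end Cfsg.Agent.Helper21.SylAb
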