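import Mathlib
import Cfsg.Agent.Helper21.SylAb13
import Cfsg.Agent.Helper21.SylAb15
import Cfsg.Agent.Helper21.SylAb16
import Cfsg.Agent.Helper21.OCm
import Cfsg.Agent.S0286
import Cfsg.Agent.S0287
import Cfsg.Agent.S0288
import Cfsg.Agent.S2620
import Cfsg.Agent.S2621
import Cfsg.Agent.S2171

set_option autoImplicit false
set_option linter.unusedSectionVars false

/-! Sylow 2-subgroups of `Ω_{2m+1}(q)`, `Ω^±_{2m}(q)`, `q` odd: squares are commutators. -/

namespace Cfsg.Agent.Helper21.SylAb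

open Module Cfsg.Agent.Helper11.GLDer Cfsg.Agent.Helper28.Spin

section final

variable {F : Type*} [Field F] [Fintype F] {ι : Type} [Fintype ι] [DecidableEq ι]

/-- the general theorem in the form needed for the statements -/
theorem sylow_Omega_of (h2 : (2 : F) ≠ 0) (Q0 : (ι → F) → F) (Q : QuadraticForm F (ι → F))
    (hQ0 : ⇑Q = Q0) (m r : ℕ) (hm : 2 ≤ m)
    (hε : ∃ (c : Fin r → F) (ε : (ι → F) ≃ₗ[F] (Vm F 2 m × (Fin r → F))),
      ∀ v, Q v = Qmod m r c (ε v))
    (hcard : padicValNat 2 (Nat.card ↥(Cfsg.isometryGroup F Q0)) =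
      m * padicValNat 2 (Nat.card ↥(O2 F)) + padicValNat 2 m.factorial + r)
    (P : Sylow 2 ↥(Cfsg.Omega F Q0)) :
    ∀ x : ↥(P : Subgroup ↥(Cfsg.Omega F Q0)),
      x ^ 2 ∈ commutator ↥(P : Subgroup ↥(Cfsg.Omega F Q0)) := by
  subst hQ0
  obtain ⟨c, ε, hε'⟩ := hε
  exact (sqC_iff_subtype _).1 (sqC_sylow_Omega Q c ε hε' h2 hm hcard P)

theorem padic_card_O2 (hodd : Odd (Fintype.card F)) :
    padicValNat 2 (Nat.card ↥(O2 F)) = Aq (Fintype.card F) := by
  rw [card_O2 hodd]
  rfl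

/-- odd dimension -/
theorem sylow_Omega_odd (hF : Odd (Fintype.card F)) (m : ℕ) (hm : 3 ≤ m)
    (P : Sylow 2 (Cfsg.Omega F (Cfsg.quadFormOdd m F))) :
    ∀ x : (P : Subgroup (Cfsg.Omega F (Cfsg.quadFormOdd m F))),
      x ^ 2 ∈ commutator (P : Subgroup (Cfsg.Omega F (Cfsg.quadFormOdd m F))) := by
  have h2 : (2 : F) ≠ 0 := two_ne_zero_of_odd hF
  have hq : 1 < Fintype.card F := Fintype.one_lt_card
  have hnd := Cfsg.Agent.Helper21.OC.QfOdd_nondeg_of (F := F) h2 m
  refine sylow_Omega_of h2 _ (Cfsg.Agent.S2614.QfOdd m F) (Cfsg.Agent.S2614.QfOdd_coe m) m 1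
    (by omega) ?_ ?_ P
  · apply exists_eps_pos h2 _ hnd m 1 le_rfl
    simp only [Fintype.card_sum, Fintype.card_unit, Fintype.card_fin]
    omega
  · rw [Cfsg.Agent.S0286.result rfl hF m, padic_card_O2 hF]
    exact padic_order_odd _ hq hF _ m

/-- plus type -/
theorem sylow_Omega_plus (hF : Odd (Fintype.card F)) (m : ℕ) (hm : 1 ≤ m)
    (hm' : Even m ∨ 4 ≤ m) (P : Sylow 2 (Cfsg.Omega F (Cfsg.quadFormPlus m F))) :
    ∀ x : (P : Subgroup (Cfsg.Omega F (Cfsg.quadFormPlus m F))),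
      x ^ 2 ∈ commutator (P : Subgroup (Cfsg.Omega F (Cfsg.quadFormPlus m F))) := by
  have h2 : (2 : F) ≠ 0 := two_ne_zero_of_odd hF
  have hq : 1 < Fintype.card F := Fintype.one_lt_card
  have hnd := QfPlus_nondeg (F := F) m
  have hm2 : 2 ≤ m := by
    rcases hm' with ⟨k, hk⟩ | h
    · omega
    · omega
  have hcardι : Fintype.card (Fin m ⊕ Fin m) = m * 2 := by
    simp only [Fintype.card_sum, Fintype.card_fin]
    omega
  have hN : Fintype.card F ^ m - 1 ≠ 0 := by
    have : 1 < Fintype.card F ^ m := Nat.one_lt_pow (by omega) hq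
    omega
  by_cases hB : IsB (Fintype.card F) m
  · refine sylow_Omega_of h2 (Cfsg.quadFormPlus m F) (QfPlus m F) rfl m 0 hm2 ?_ ?_ P
    · apply exists_eps_zero h2 _ hnd m hm hcardι
      intro v
      exact (Cfsg.Agent.S2620.result rfl hF hm v).2 ((even_disc_iff _ hF m).2 hB)
    · rw [Cfsg.Agent.S0287.result rfl m hm, padic_card_O2 hF,
        padic_order_even _ hq hF _ m hm _ hN, padic_factorial_succ m hm]
      have h3 := padic_sub_one_B _ hq hF (m := m) (by omega) hB
      obtain ⟨k, rfl⟩ : ∃ k, m = k + 1 := ⟨m - 1, by omega⟩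
      rw [Nat.add_sub_cancel]
      have h4 : (k + 1) * Aq (Fintype.card F) = k * Aq (Fintype.card F) + Aq (Fintype.card F) := by
        ring
      omega
  · have hm5 : 5 ≤ m := by
      unfold IsB at hB
      rw [not_or] at hB
      rcases hm' with h | h
      · exact absurd h hB.2
      · rcases Nat.lt_or_ge 4 m with h' | h'
        · exact h'
        · exfalso
          apply hB.2
          have : m = 4 := by omega
          rw [this]
          decide
    refine sylow_Omega_of h2 (Cfsg.quadFormPlus m F) (QfPlus m F) rfl (m - 1) 2 (by omega) ?_ ?_ P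
    · apply exists_eps_pos h2 _ hnd (m - 1) 2 (by norm_num)
      rw [hcardι]
      omega
    · rw [Cfsg.Agent.S0287.result rfl m hm, padic_card_O2 hF,
        padic_order_even _ hq hF _ m hm _ hN, padic_sub_one_notB _ hF hB]
      omega

/-- minus type -/
theorem sylow_Omega_minus (hF : Odd (Fintype.card F)) (m : ℕ) (hm : 4 ≤ m) (a b : F)
    (hab : ∀ z₁ z₂ : F, z₁ ^ 2 + a * z₁ * z₂ + b * z₂ ^ 2 = 0 → z₁ = 0 ∧ z₂ = 0)
    (P : Sylow 2 (Cfsg.Omega F (Cfsg.quadFormMinus (m - 1) F a b))) :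
    ∀ x : (P : Subgroup (Cfsg.Omega F (Cfsg.quadFormMinus (m - 1) F a b))),
      x ^ 2 ∈ commutator (P : Subgroup (Cfsg.Omega F (Cfsg.quadFormMinus (m - 1) F a b))) := by
  have h2 : (2 : F) ≠ 0 := two_ne_zero_of_odd hF
  have hq : 1 < Fintype.card F := Fintype.one_lt_card
  have hdisc : 4 * b - a ^ 2 ≠ 0 := by
    intro h
    have h3 := hab (-a) 2 (by linear_combination h)
    exact h2 h3.2
  have hnd := Cfsg.Agent.S2171.QfMinus_nondeg_of (m - 1) a b hdisc
  have hm1 : 1 ≤ m := by omega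
  have hcardι : Fintype.card ((Fin (m - 1) ⊕ Fin (m - 1)) ⊕ Fin 2) = m * 2 := by
    simp only [Fintype.card_sum, Fintype.card_fin]
    omega
  have hN : Fintype.card F ^ m + 1 ≠ 0 := by omega
  by_cases hB : IsB (Fintype.card F) m
  · refine sylow_Omega_of h2 (Cfsg.quadFormMinus (m - 1) F a b) (QfMinus (m - 1) F a b) rfl (m - 1) 2 (by omega) ?_ ?_ P
    · apply exists_eps_pos h2 _ hnd (m - 1) 2 (by norm_num)
      rw [hcardι]
      omega
    · rw [Cfsg.Agent.S0288.result rfl m hm1 a b hab, padic_card_O2 hF,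
        padic_order_even _ hq hF _ m hm1 _ hN, padic_add_one_B _ hF hB]
      omega
  · refine sylow_Omega_of h2 (Cfsg.quadFormMinus (m - 1) F a b) (QfMinus (m - 1) F a b) rfl m 0 (by omega) ?_ ?_ P
    · apply exists_eps_zero h2 _ hnd m hm1 hcardι
      intro v
      exact (Cfsg.Agent.S2621.result rfl hF hm1 a b hab v).2
        (fun h => hB ((even_disc_iff _ hF m).1 h))
    · rw [Cfsg.Agent.S0288.result rfl m hm1 a b hab, padic_card_O2 hF,
        padic_order_even _ hq hF _ m hm1 _ hN, padic_factorial_succ m hm1]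
      have h3 := padic_add_one_notB _ hF (m := m) hB
      obtain ⟨k, rfl⟩ : ∃ k, m = k + 1 := ⟨m - 1, by omega⟩
      rw [Nat.add_sub_cancel]
      have h4 : (k + 1) * Aq (Fintype.card F) = k * Aq (Fintype.card F) + Aq (Fintype.card F) := by
        ring
      omega

end final

end Cfsg.Agent.Helper21.SylAb
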