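import Mathlib
import Cfsg.Agent.Helper21.SylAb3

set_option autoImplicit false
set_option linter.unusedSectionVars false

/-! Sylow 2-subgroups of `SL_n(q)` inside Sylow 2-subgroups of `GL_n(q)`. -/

namespace Cfsg.Agent.Helper21.SylAb

open Matrix

section sl

variable {F : Type*} [Field F] [Fintype F] {n : ℕ}

/-- the scalar matrix `-1` -/
noncomputable def negScalar (F : Type*) [Field F] (n : ℕ) : GL (Fin n) F :=
  Units.map (Matrix.scalar (Fin n)).toMonoidHom (-1 : Fˣ)

theorem negScalar_val : ((negScalar F n : GL (Fin n) F) : Matrix (Fin n) (Fin n) F) =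
    Matrix.scalar (Fin n) (-1 : F) := rfl

theorem negScalar_central (g : GL (Fin n) F) : Commute (negScalar F n) g := by
  apply Units.ext
  rw [Units.val_mul, Units.val_mul, negScalar_val]
  exact (Matrix.scalar_commute (-1 : F) (fun r' => Commute.all _ _) _).eq

theorem negScalar_mul_self : negScalar F n * negScalar F n = 1 := by
  apply Units.ext
  rw [Units.val_mul, negScalar_val, ← map_mul]
  simp

theorem det_negScalar : ((Matrix.GeneralLinearGroup.det (negScalar F n) : Fˣ) : F) = (-1) ^ n := by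
  rw [Matrix.GeneralLinearGroup.val_det_apply, negScalar_val]
  simp

/-- the image of `SL_n` in `GL_n` is the kernel of the determinant -/
theorem mem_range_toGL_iff (g : GL (Fin n) F) :
    g ∈ (Matrix.SpecialLinearGroup.toGL : SpecialLinearGroup (Fin n) F →* GL (Fin n) F).range ↔
      Matrix.GeneralLinearGroup.det g = 1 := by
  constructor
  · rintro ⟨y, rfl⟩
    exact Matrix.SpecialLinearGroup.coeToGL_det y
  · intro h
    have hdet : (g : Matrix (Fin n) (Fin n) F).det = 1 := by
      have := congrArg (fun u : Fˣ => (u : F)) h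
      simpa [Matrix.GeneralLinearGroup.val_det_apply] using this
    refine ⟨⟨g.val, hdet⟩, ?_⟩
    apply Units.ext
    rfl

/-- a Sylow 2-subgroup of `SL_n` is the determinant-one part of a Sylow 2-subgroup of `GL_n` -/
theorem exists_gl_sylow (P : Sylow 2 (SpecialLinearGroup (Fin n) F)) :
    ∃ S : Sylow 2 (GL (Fin n) F),
      (P : Subgroup (SpecialLinearGroup (Fin n) F)).map Matrix.SpecialLinearGroup.toGL =
        (S : Subgroup (GL (Fin n) F)) ⊓
          (Matrix.SpecialLinearGroup.toGL : SpecialLinearGroup (Fin n) F →* GL (Fin n) F).range := by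
  classical
  have : Fact (Nat.Prime 2) := ⟨Nat.prime_two⟩
  set ι : SpecialLinearGroup (Fin n) F →* GL (Fin n) F := Matrix.SpecialLinearGroup.toGL with hι
  have hinj : Function.Injective ι := Matrix.SpecialLinearGroup.toGL_injective
  have hP2 : IsPGroup 2 ((P : Subgroup (SpecialLinearGroup (Fin n) F)).map ι) := P.2.map ι
  obtain ⟨S, hS⟩ := hP2.exists_le_sylow
  refine ⟨S, le_antisymm (le_inf hS (Subgroup.map_le_range _ _)) ?_⟩
  rintro x ⟨hxS, ⟨y, rfl⟩⟩
  have hK : IsPGroup 2 (((S : Subgroup (GL (Fin n) F)) ⊓ ι.range).comap ι) :=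
    (S.2.to_le inf_le_left).comap_of_injective ι hinj
  have hPK : (P : Subgroup (SpecialLinearGroup (Fin n) F)) ≤
      ((S : Subgroup (GL (Fin n) F)) ⊓ ι.range).comap ι := by
    intro w hw
    exact ⟨hS ⟨w, hw, rfl⟩, ⟨w, rfl⟩⟩
  have hKP := P.is_maximal' hK hPK
  have hy : y ∈ ((S : Subgroup (GL (Fin n) F)) ⊓ ι.range).comap ι := ⟨hxS, ⟨y, rfl⟩⟩
  rw [hKP] at hy
  exact ⟨y, hy, rfl⟩

/-- **Sylow 2-subgroups of `SL_n(q)`, `n` odd, `q ≡ 3 (mod 4)`.** -/
theorem sqC_sylow_sl_odd (h3 : Fintype.card F % 4 = 3) (hn : Odd n)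
    (P : Sylow 2 (SpecialLinearGroup (Fin n) F)) :
    SqC (P : Subgroup (SpecialLinearGroup (Fin n) F)) := by
  classical
  have : Fact (Nat.Prime 2) := ⟨Nat.prime_two⟩
  obtain ⟨S, hS⟩ := exists_gl_sylow P
  apply SqC.of_map_injective Matrix.SpecialLinearGroup.toGL
    Matrix.SpecialLinearGroup.toGL_injective
  rw [hS]
  have hSsq := sqC_sylow_gl_three h3 n S
  -- `-1` lies in `S`
  have hzS : negScalar F n ∈ (S : Subgroup (GL (Fin n) F)) := by
    have hnorm : (Subgroup.zpowers (negScalar F n)).Normal := by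
      constructor
      intro x hx g
      obtain ⟨k, rfl⟩ := Subgroup.mem_zpowers_iff.1 hx
      have hc : Commute (negScalar F n ^ k) g := (negScalar_central g).zpow_left k
      rw [← hc.eq, mul_assoc, mul_inv_cancel, mul_one]
      exact Subgroup.zpow_mem_zpowers _ _
    have hp := Cfsg.Agent.Helper11.GLNr.isPGroup_zpowers_of_sq (negScalar F n) negScalar_mul_self
    exact Cfsg.Agent.Lead.le_sylow_of_normal_isPGroup S _ hp (Subgroup.mem_zpowers _)
  apply sqC_inf_of_central hzS negScalar_central _ hSsq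
  intro s hs
  rw [mem_range_toGL_iff, mem_range_toGL_iff]
  -- the determinant of a 2-element is `±1`
  set u : Fˣ := Matrix.GeneralLinearGroup.det s with hu
  obtain ⟨k, hk⟩ := S.2 ⟨s, hs⟩
  have hk' : s ^ 2 ^ k = 1 := congrArg Subtype.val hk
  have hu1 : u ^ 2 ^ k = 1 := by
    rw [hu, ← map_pow, hk', map_one]
  have hu2 : u ^ (Fintype.card F - 1) = 1 := by
    rw [← Fintype.card_units]
    exact pow_card_eq_one
  have hord : orderOf u ∣ 2 := by
    have h1 : orderOf u ∣ Nat.gcd (2 ^ k) (Fintype.card F - 1) :=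
      Nat.dvd_gcd (orderOf_dvd_of_pow_eq_one hu1) (orderOf_dvd_of_pow_eq_one hu2)
    refine h1.trans ?_
    obtain ⟨c, hc⟩ : ∃ c, Fintype.card F - 1 = 2 * (2 * c + 1) := ⟨(Fintype.card F - 3) / 4, by omega⟩
    rw [hc]
    rcases Nat.eq_zero_or_pos k with rfl | hkpos
    · simp
    · obtain ⟨k', rfl⟩ : ∃ k', k = k' + 1 := ⟨k - 1, by omega⟩
      rw [pow_succ, mul_comm (2 ^ k') 2, Nat.gcd_mul_left]
      have : Nat.gcd (2 ^ k') (2 * c + 1) = 1 := by
        apply Nat.Coprime.pow_left
        rw [Nat.coprime_two_left]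
        exact ⟨c, rfl⟩
      rw [this]
  have husq : u ^ 2 = 1 := orderOf_dvd_iff_pow_eq_one.1 hord
  have hcases : u = 1 ∨ u = -1 := by
    have h1 : (u : F) * (u : F) = 1 := by
      have := congrArg (fun v : Fˣ => (v : F)) husq
      simpa [pow_two] using this
    rcases mul_self_eq_one_iff.1 h1 with h | h
    · left
      exact Units.ext h
    · right
      apply Units.ext
      rw [h]
      simp
  rcases hcases with h | h
  · left
    exact h
  · right
    rw [map_mul, ← hu, h]
    apply Units.ext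
    rw [Units.val_mul, det_negScalar, hn.neg_one_pow]
    simp

end sl

end Cfsg.Agent.Helper21.SylAb
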