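import Mathlib
import Cfsg.Agent.Helper21.SylAb4
import Cfsg.Agent.Helper21.SylAb5

set_option autoImplicit false
set_option linter.unusedSectionVars false

/-! The determinant on the wreath product `GL_2(q) ≀ S_m` inside `GL_n(q)`. -/

namespace Cfsg.Agent.Helper21.SylAb

open Matrix Cfsg.Agent.Helper11.SpNorm Cfsg.Agent.Helper11.SpDer Cfsg.Agent.Helper11.GLNr
  Cfsg.Agent.Helper11.GLDer Cfsg.Agent.Helper14.SylSn

section det

variable {F : Type*} [Field F]

theorem det_glEquiv (n : ℕ) (g : GL (Fin n) F) :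
    LinearEquiv.det (glEquiv F n g) = Matrix.GeneralLinearGroup.det g := by
  apply Units.ext
  rw [LinearEquiv.coe_det, Matrix.GeneralLinearGroup.val_det_apply]
  have h1 : ((glEquiv F n g : Ae F n) : (Fin n → F) →ₗ[F] (Fin n → F)) =
      Matrix.toLin' (g : Matrix (Fin n) (Fin n) F) := by
    apply LinearMap.ext
    intro v
    rfl
  rw [h1, LinearMap.det_toLin']

theorem det_glEquiv_symm (n : ℕ) (φ : Ae F n) :
    Matrix.GeneralLinearGroup.det ((glEquiv F n).symm φ) = LinearEquiv.det φ := by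
  rw [← det_glEquiv, MulEquiv.apply_symm_apply]

theorem det_congrHom {V V' : Type*} [AddCommGroup V] [Module F V] [AddCommGroup V'] [Module F V']
    (ε : V ≃ₗ[F] V') (φ : V ≃ₗ[F] V) : LinearEquiv.det (congrHom ε φ) = LinearEquiv.det φ :=
  LinearEquiv.det_conj φ ε

theorem det_prodHom (V W : Type*) [AddCommGroup V] [Module F V] [AddCommGroup W] [Module F W]
    [Module.Finite F V] [Module.Finite F W] (φ : (V ≃ₗ[F] V) × (W ≃ₗ[F] W)) :
    LinearEquiv.det (prodHom F V W φ) = LinearEquiv.det φ.1 * LinearEquiv.det φ.2 := by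
  apply Units.ext
  rw [Units.val_mul, LinearEquiv.coe_det, LinearEquiv.coe_det, LinearEquiv.coe_det]
  have h1 : ((prodHom F V W φ : (V × W) ≃ₗ[F] (V × W)) : (V × W) →ₗ[F] (V × W)) =
      LinearMap.prodMap (φ.1 : V →ₗ[F] V) (φ.2 : W →ₗ[F] W) := rfl
  rw [h1, LinearMap.det_prodMap]

theorem det_f1 (e m : ℕ) (f : Fin m → Ae F e) :
    LinearEquiv.det (f1 F e m f) = ∏ i, LinearEquiv.det (f i) := by
  apply Units.ext
  rw [LinearEquiv.coe_det, Units.coe_prod]
  have h1 : ((f1 F e m f : Vm F e m ≃ₗ[F] Vm F e m) : Vm F e m →ₗ[F] Vm F e m) =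
      LinearMap.pi (fun i => ((f i : Ae F e) : (Fin e → F) →ₗ[F] (Fin e → F)).comp
        (LinearMap.proj i)) := by
    apply LinearMap.ext
    intro v
    funext i
    rfl
  rw [h1, LinearMap.det_pi]
  apply Finset.prod_congr rfl
  intro i _
  rw [LinearEquiv.coe_det]

theorem det_f2 (m : ℕ) (σ : Equiv.Perm (Fin m)) : LinearEquiv.det (f2 F 2 m σ) = 1 := by
  apply Units.ext
  rw [LinearEquiv.coe_det, Units.val_one]
  set c : (Fin m × Fin 2 → F) ≃ₗ[F] (Fin m → Fin 2 → F) := LinearEquiv.curry F F (Fin m) (Fin 2)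
    with hc
  set π : Equiv.Perm (Fin m × Fin 2) := Equiv.prodCongrLeft (fun _ : Fin 2 => σ.symm) with hπ
  have h1 : ((f2 F 2 m σ : Vm F 2 m ≃ₗ[F] Vm F 2 m) : Vm F 2 m →ₗ[F] Vm F 2 m) =
      (c : (Fin m × Fin 2 → F) →ₗ[F] (Fin m → Fin 2 → F)) ∘ₗ
        Matrix.toLin' (π.permMatrix F) ∘ₗ
        (c.symm : (Fin m → Fin 2 → F) →ₗ[F] (Fin m × Fin 2 → F)) := by
    apply LinearMap.ext
    intro v
    funext i k
    simp only [LinearMap.coe_comp, LinearEquiv.coe_coe, Function.comp_apply, Matrix.toLin'_apply,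
      Matrix.permMatrix_mulVec]
    rfl
  rw [h1, LinearMap.det_conj, LinearMap.det_toLin', Matrix.det_permutation, hπ,
    Equiv.Perm.sign_prodCongrLeft, Finset.prod_const, Finset.card_univ, Fintype.card_fin]
  have h2 : (Equiv.Perm.sign σ.symm) ^ 2 = 1 := Int.units_sq _
  rw [h2]
  simp

theorem det_Psi (m : ℕ) (x : Wr (Ae F 2) (Fin m)) :
    LinearEquiv.det (Psi F 2 m x) = Dw (LinearEquiv.det : Ae F 2 →* Fˣ) x := by
  have h1 : Psi F 2 m x = f1 F 2 m x.left * f2 F 2 m x.right := rfl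
  rw [h1, map_mul, det_f1, det_f2, mul_one, Dw_apply]

theorem det_Theta2 (m n : ℕ) (h : m * 2 ≤ n) (x : Wr (Ae F 2) (Fin m)) (b : Ae F (n - m * 2)) :
    Matrix.GeneralLinearGroup.det (Theta2 F 2 m n h (x, b)) =
      Dw (LinearEquiv.det : Ae F 2 →* Fˣ) x * LinearEquiv.det b := by
  have h1 : Theta2 F 2 m n h (x, b) = (glEquiv F n).symm
      (congrHom (eps F 2 m n h).symm (prodHom F (Vm F 2 m) (Fin (n - m * 2) → F)
        (Psi F 2 m x, b))) := rfl
  rw [h1, det_glEquiv_symm, det_congrHom, det_prodHom, det_Psi]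

end det

end Cfsg.Agent.Helper21.SylAb
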