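import Mathlib
import Cfsg.Agent.Helper21.SylAb6
import Cfsg.Agent.Helper4.SylowTrans

set_option autoImplicit false
set_option linter.unusedSectionVars false

/-! Sylow 2-subgroups of `SL_{2m}(q)`, `q` odd: squares lie in the derived subgroup
(for `q ≡ 3 (mod 4)`, or `q ≡ 1 (mod 4)` and `m` a power of two). -/

namespace Cfsg.Agent.Helper21.SylAb

open Matrix Cfsg.Agent.Helper11.SpNorm Cfsg.Agent.Helper11.SpDer Cfsg.Agent.Helper11.GLNr
  Cfsg.Agent.Helper11.GLDer Cfsg.Agent.Helper14.SylSn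

section final

variable {F : Type*} [Field F] [Fintype F]

/-- a Sylow 2-subgroup of `GL_2` whose determinant-one part is a Sylow 2-subgroup of `SL_2` -/
theorem exists_Q0 (hodd : Odd (Fintype.card F)) :
    ∃ Q0 : Subgroup (Ae F 2), Nat.card Q0 = 2 ^ padicValNat 2 (Nat.card (GL (Fin 2) F)) ∧
      SqC (Q0 ⊓ (LinearEquiv.det : Ae F 2 →* Fˣ).ker) := by
  classical
  have : Fact (Nat.Prime 2) := ⟨Nat.prime_two⟩
  obtain ⟨R⟩ := (inferInstance : Nonempty (Sylow 2 (SpecialLinearGroup (Fin 2) F)))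
  obtain ⟨S, hS⟩ := exists_gl_sylow R
  refine ⟨(S : Subgroup (GL (Fin 2) F)).map (glEquiv F 2).toMonoidHom, ?_, ?_⟩
  · rw [Subgroup.card_map_of_injective (glEquiv F 2).injective, S.card_eq_multiplicity,
      Nat.factorization_def _ Nat.prime_two]
  · have h1 : (S : Subgroup (GL (Fin 2) F)).map (glEquiv F 2).toMonoidHom ⊓
        (LinearEquiv.det : Ae F 2 →* Fˣ).ker =
        ((R : Subgroup (SpecialLinearGroup (Fin 2) F)).map
          Matrix.SpecialLinearGroup.toGL).map (glEquiv F 2).toMonoidHom := by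
      rw [hS]
      ext x
      constructor
      · intro hx
        obtain ⟨⟨g, hg, rfl⟩, hx2⟩ := Subgroup.mem_inf.1 hx
        refine ⟨g, Subgroup.mem_inf.2 ⟨hg, ?_⟩, rfl⟩
        rw [mem_range_toGL_iff, ← det_glEquiv]
        exact MonoidHom.mem_ker.1 hx2
      · rintro ⟨g, hg, rfl⟩
        obtain ⟨hg1, hg2⟩ := Subgroup.mem_inf.1 hg
        refine Subgroup.mem_inf.2 ⟨⟨g, hg1, rfl⟩, ?_⟩
        rw [mem_range_toGL_iff] at hg2
        rw [MonoidHom.mem_ker]
        show LinearEquiv.det (glEquiv F 2 g) = 1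
        rw [det_glEquiv]
        exact hg2
    rw [h1]
    exact ((sqC_sylow_sl2 hodd R).map _).map _

/-- an involution of determinant `-1` in `GL_2` -/
noncomputable def reflGL (F : Type*) [Field F] : GL (Fin 2) F :=
  Matrix.GeneralLinearGroup.mkOfDetNeZero !![1, 0; 0, -1] (by simp [Matrix.det_fin_two_of])

omit [Fintype F] in
theorem reflGL_sq : reflGL F * reflGL F = 1 := by
  apply Units.ext
  show (!![1, 0; 0, -1] : Matrix (Fin 2) (Fin 2) F) * !![1, 0; 0, -1] = 1
  rw [Matrix.mul_fin_two, Matrix.one_fin_two]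
  simp

omit [Fintype F] in
theorem det_reflGL : Matrix.GeneralLinearGroup.det (reflGL F) = -1 := by
  apply Units.ext
  rw [Matrix.GeneralLinearGroup.val_det_apply]
  show (!![1, 0; 0, -1] : Matrix (Fin 2) (Fin 2) F).det = ((-1 : Fˣ) : F)
  simp [Matrix.det_fin_two_of]

theorem exists_invol (Q0 : Subgroup (Ae F 2))
    (hcard : Nat.card Q0 = 2 ^ padicValNat 2 (Nat.card (GL (Fin 2) F))) :
    ∃ s ∈ Q0, s ^ 2 = 1 ∧ (LinearEquiv.det s : Fˣ) = -1 := by
  classical
  have : Fact (Nat.Prime 2) := ⟨Nat.prime_two⟩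
  have : Finite (Ae F 2) := Finite.of_equiv _ (glEquiv F 2).toEquiv
  set s0 : Ae F 2 := glEquiv F 2 (reflGL F) with hs0
  have hs0sq : s0 * s0 = 1 := by
    rw [hs0, ← map_mul, reflGL_sq, map_one]
  have hs0det : LinearEquiv.det s0 = -1 := by
    rw [hs0, det_glEquiv, det_reflGL]
  let Q0S : Sylow 2 (Ae F 2) := Sylow.ofCard Q0 (by
    rw [hcard, Nat.factorization_def _ Nat.prime_two, Nat.card_congr (glEquiv F 2).toEquiv])
  obtain ⟨Q', hQ'⟩ := (isPGroup_zpowers_of_sq s0 hs0sq).exists_le_sylow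
  obtain ⟨g, hg⟩ := MulAction.exists_smul_eq (Ae F 2) Q' Q0S
  have h1 : Q0 = (Q' : Subgroup (Ae F 2)).map (MulAut.conj g).toMonoidHom := by
    have h2 : (Q0S : Subgroup (Ae F 2)) = Q0 := rfl
    rw [← h2, ← hg]
    rfl
  refine ⟨g * s0 * g⁻¹, ?_, ?_, ?_⟩
  · rw [h1]
    exact ⟨s0, hQ' (Subgroup.mem_zpowers s0), rfl⟩
  · rw [conj_pow, pow_two, hs0sq, mul_one, mul_inv_cancel]
  · rw [map_mul, map_mul, map_inv, hs0det, mul_comm, inv_mul_cancel_left]

theorem unit_eq_one_or_neg_one (h3 : Fintype.card F % 4 = 3) (u : Fˣ) (k : ℕ)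
    (hu1 : u ^ 2 ^ k = 1) : u = 1 ∨ u = -1 := by
  classical
  have hu2 : u ^ (Fintype.card F - 1) = 1 := by
    rw [← Fintype.card_units]
    exact pow_card_eq_one
  have hord : orderOf u ∣ 2 := by
    have h1 : orderOf u ∣ Nat.gcd (2 ^ k) (Fintype.card F - 1) :=
      Nat.dvd_gcd (orderOf_dvd_of_pow_eq_one hu1) (orderOf_dvd_of_pow_eq_one hu2)
    refine h1.trans ?_
    obtain ⟨c, hc⟩ : ∃ c, Fintype.card F - 1 = 2 * (2 * c + 1) :=
      ⟨(Fintype.card F - 3) / 4, by omega⟩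
    rw [hc]
    rcases Nat.eq_zero_or_pos k with rfl | hkpos
    · simp
    · obtain ⟨k', rfl⟩ : ∃ k', k = k' + 1 := ⟨k - 1, by omega⟩
      rw [pow_succ, mul_comm (2 ^ k') 2, Nat.gcd_mul_left]
      have : Nat.gcd (2 ^ k') (2 * c + 1) = 1 := by
        apply Nat.Coprime.pow_left
        rw [Nat.coprime_two_left]
        exact ⟨c, rfl⟩
      rw [this]
  have husq : u ^ 2 = 1 := orderOf_dvd_iff_pow_eq_one.1 hord
  have h1 : (u : F) * (u : F) = 1 := by
    have := congrArg (fun v : Fˣ => (v : F)) husq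
    simpa [pow_two] using this
  rcases mul_self_eq_one_iff.1 h1 with h | h
  · left
    exact Units.ext h
  · right
    apply Units.ext
    rw [h]
    simp

/-- **Sylow 2-subgroups of `SL_{2m}(q)`, `q` odd.** -/
theorem sqC_sylow_sl_even (m : ℕ) (hm : 1 ≤ m)
    (hq : Fintype.card F % 4 = 3 ∨ (Fintype.card F % 4 = 1 ∧ ∃ j, m = 2 ^ j))
    (P : Sylow 2 (SpecialLinearGroup (Fin (2 * m)) F)) :
    SqC (P : Subgroup (SpecialLinearGroup (Fin (2 * m)) F)) := by
  classical
  have : Fact (Nat.Prime 2) := ⟨Nat.prime_two⟩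
  have hodd : Odd (Fintype.card F) := by
    rw [Nat.odd_iff]
    omega
  have hme : m * 2 ≤ 2 * m := by omega
  have hr : 2 * m - m * 2 = 0 := by omega
  have : Nonempty (Fin m) := ⟨⟨0, hm⟩⟩
  have : Finite (Ae F 2) := Finite.of_equiv _ (glEquiv F 2).toEquiv
  have hsub : Subsingleton (Ae F (2 * m - m * 2)) := by
    constructor
    intro a b
    apply LinearEquiv.ext
    intro v
    funext i
    exact absurd i.2 (by omega)
  obtain ⟨Q0, hQ0card, hQ1⟩ := exists_Q0 (F := F) hodd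
  obtain ⟨Pm⟩ := (inferInstance : Nonempty (Sylow 2 (Equiv.Perm (Fin m))))
  set d : Ae F 2 →* Fˣ := LinearEquiv.det with hd
  -- the wreath product part
  have hW : SqC (wrS Q0 (Pm : Subgroup (Equiv.Perm (Fin m))) ⊓ (Dw (Ω := Fin m) d).ker) := by
    rcases hq with h3 | ⟨h1, j, hj⟩
    · obtain ⟨s, hsQ, hs2, hsdet⟩ := exists_invol Q0 hQ0card
      apply sqC_wrS_ker d Q0 _ hQ1 (sylow_perm_genBy 2 _ Pm) {1, s}
      · rintro z (rfl | rfl)
        · exact Q0.one_mem
        · exact hsQ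
      · intro y hy
        have hk : y ^ 2 ^ padicValNat 2 (Nat.card (GL (Fin 2) F)) = 1 := by
          have h4 := pow_card_eq_one' (G := ↥Q0) (x := ⟨y, hy⟩)
          rw [hQ0card] at h4
          exact congrArg Subtype.val h4
        rcases unit_eq_one_or_neg_one h3 (d y) _ (by rw [← map_pow, hk, map_one]) with h | h
        · exact ⟨1, Or.inl rfl, by rw [h, map_one]⟩
        · exact ⟨s, Or.inr rfl, by rw [h, hd, hsdet]⟩
      · rintro z (rfl | rfl)
        · left
          exact one_pow 2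
        · left
          exact hs2
    · apply sqC_wrS_ker d Q0 _ hQ1 (sylow_perm_genBy 2 _ Pm) (Q0 : Set (Ae F 2))
      · intro z hz
        exact hz
      · intro y hy
        exact ⟨y, hy, rfl⟩
      · intro z _
        right
        have htr := Cfsg.Agent.Helper4.sylow_isPretransitive (G := Equiv.Perm (Fin m))
          (Ω := Fin m) (p := 2) (f := j)
          (by rw [Nat.card_eq_fintype_card, Fintype.card_fin, hj]) Pm
        intro i i'
        obtain ⟨g, hg⟩ := htr.exists_smul_eq i i'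
        exact ⟨g.1, g.2, hg⟩
  -- transfer to `GL_n` and `SL_n`
  obtain ⟨S, hS⟩ := exists_gl_sylow P
  apply SqC.of_map_injective Matrix.SpecialLinearGroup.toGL
    Matrix.SpecialLinearGroup.toGL_injective
  rw [hS]
  set Θ := Theta2 F 2 m (2 * m) hme with hΘ
  have hΘinj : Function.Injective Θ := Theta2_injective F 2 m (2 * m) (by norm_num) hme
  set W2 : Subgroup (Wr (Ae F 2) (Fin m) × Ae F (2 * m - m * 2)) :=
    (wrS Q0 (Pm : Subgroup (Equiv.Perm (Fin m)))).prod ⊤ with hW2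
  have hcard : Nat.card (W2.map Θ) = 2 ^ (Nat.card (GL (Fin (2 * m)) F)).factorization 2 := by
    have htop : Nat.card (⊤ : Subgroup (Ae F (2 * m - m * 2))) = 1 := by
      rw [Subgroup.card_top]
      exact Nat.card_unique
    rw [Subgroup.card_map_of_injective hΘinj, hW2,
      Nat.card_congr (Subgroup.prodEquiv _ _).toEquiv, Nat.card_prod, card_wrS, htop, mul_one,
      Fintype.card_fin, hQ0card, card_sylow_perm m Pm, Nat.factorization_def _ Nat.prime_two,
      padic_two_card_GL hodd (2 * m), padic_two_card_GL hodd 2, ← pow_mul, ← pow_add]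
    congr 1
    have e1 : 2 * m / 2 = m := by omega
    have e2 : 2 * m % 2 = 0 := by omega
    rw [e1, e2]
    simp
    ring
  let S0 : Sylow 2 (GL (Fin (2 * m)) F) := Sylow.ofCard (W2.map Θ) hcard
  obtain ⟨g, hg⟩ := MulAction.exists_smul_eq (GL (Fin (2 * m)) F) S0 S
  have hSeq : (S : Subgroup (GL (Fin (2 * m)) F)) =
      (W2.map Θ).map (MulAut.conj g).toMonoidHom := by
    have h2 : (S0 : Subgroup (GL (Fin (2 * m)) F)) = W2.map Θ := rfl
    rw [← hg, ← h2]
    rfl
  have hdetconj : ∀ y : GL (Fin (2 * m)) F,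
      Matrix.GeneralLinearGroup.det ((MulAut.conj g).toMonoidHom y) =
        Matrix.GeneralLinearGroup.det y := by
    intro y
    show Matrix.GeneralLinearGroup.det (g * y * g⁻¹) = _
    rw [map_mul, map_mul, map_inv, mul_comm, inv_mul_cancel_left]
  have hkey : (S : Subgroup (GL (Fin (2 * m)) F)) ⊓
      (Matrix.SpecialLinearGroup.toGL :
        SpecialLinearGroup (Fin (2 * m)) F →* GL (Fin (2 * m)) F).range =
      (((wrS Q0 (Pm : Subgroup (Equiv.Perm (Fin m))) ⊓ (Dw (Ω := Fin m) d).ker).map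
        (MonoidHom.inl (Wr (Ae F 2) (Fin m)) (Ae F (2 * m - m * 2)))).map Θ).map
          (MulAut.conj g).toMonoidHom := by
    ext x
    constructor
    · intro hx
      obtain ⟨hxS, hxr⟩ := Subgroup.mem_inf.1 hx
      rw [hSeq] at hxS
      obtain ⟨_, ⟨⟨w, b⟩, hwb, rfl⟩, rfl⟩ := hxS
      have hb : b = 1 := Subsingleton.elim _ _
      subst hb
      have hw : w ∈ wrS Q0 (Pm : Subgroup (Equiv.Perm (Fin m))) := hwb.1
      refine ⟨_, ⟨_, ⟨w, Subgroup.mem_inf.2 ⟨hw, ?_⟩, rfl⟩, rfl⟩, rfl⟩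
      rw [mem_range_toGL_iff, hdetconj, hΘ, det_Theta2, map_one, mul_one] at hxr
      exact MonoidHom.mem_ker.2 hxr
    · rintro ⟨_, ⟨_, ⟨w, hw, rfl⟩, rfl⟩, rfl⟩
      obtain ⟨hw1, hw2⟩ := Subgroup.mem_inf.1 hw
      refine Subgroup.mem_inf.2 ⟨?_, ?_⟩
      · rw [hSeq]
        exact ⟨_, ⟨(w, 1), ⟨hw1, Subgroup.mem_top _⟩, rfl⟩, rfl⟩
      · rw [mem_range_toGL_iff, hdetconj]
        show Matrix.GeneralLinearGroup.det (Θ (w, 1)) = 1
        rw [hΘ, det_Theta2, map_one, mul_one]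
        exact MonoidHom.mem_ker.1 hw2
  rw [hkey]
  exact ((hW.map _).map _).map _

end final

end Cfsg.Agent.Helper21.SylAb
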