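import Mathlib

set_option autoImplicit false

/-!
Fixed points of an element of `N_G(P₀) \ P₀` on the set of Sylow `p`-subgroups, when `P₀` has
prime order `p` and is self-centralizing.
-/

namespace Cfsg.Agent.Helper21.SylFix

variable {G : Type*} [Group G]

/-- Two distinct Sylow subgroups of prime order meet trivially. -/
theorem inf_eq_bot_of_ne {p : ℕ} [Fact p.Prime] (P Q : Sylow p G)
    (hP : Nat.card ↥(P : Subgroup G) = p) (hne : P ≠ Q) :
    (P : Subgroup G) ⊓ (Q : Subgroup G) = ⊥ := by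
  have hp : p.Prime := Fact.out
  rw [Subgroup.eq_bot_iff_forall]
  intro x hx
  by_contra hx1
  apply hne
  have : Finite ↥(P : Subgroup G) := Nat.finite_of_card_ne_zero (by rw [hP]; exact hp.ne_zero)
  have hle : Subgroup.zpowers x ≤ (P : Subgroup G) := (Subgroup.zpowers_le).2 hx.1
  have hox : orderOf x = p := by
    have h1 : orderOf x ∣ p := by
      rw [← hP]; exact Subgroup.orderOf_dvd_natCard _ hx.1
    rcases (Nat.dvd_prime hp).1 h1 with h | h
    · exact absurd (orderOf_eq_one_iff.1 h) hx1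
    · exact h
  have heq : Subgroup.zpowers x = (P : Subgroup G) := by
    apply Subgroup.eq_of_le_of_card_ge hle
    rw [Nat.card_zpowers, hox, hP]
  have hPQ : (P : Subgroup G) ≤ (Q : Subgroup G) := by
    rw [← heq]; exact (Subgroup.zpowers_le).2 hx.2
  exact Sylow.ext (P.3 Q.2 hPQ).symm

/-- Core step: an element `g ∈ N(P₀) \ P₀` cannot fix both `P'` and `w • P'` for `1 ≠ w ∈ P₀`,
`P' ≠ P₀`. -/
theorem false_of_fixed_pair [Finite G] {p : ℕ} [Fact p.Prime]
    (P₀ : Sylow p G) (hP₀ : Nat.card ↥(P₀ : Subgroup G) = p)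
    (hC : ∀ g : G, (∀ u ∈ (P₀ : Subgroup G), g * u = u * g) → g ∈ (P₀ : Subgroup G))
    (g : G) (hgN : g • P₀ = P₀) (hgP : g ∉ (P₀ : Subgroup G))
    (w : G) (hw : w ∈ (P₀ : Subgroup G)) (hw1 : w ≠ 1)
    (P' : Sylow p G) (hne : P' ≠ P₀) (h1 : g • P' = P') (h2 : g • (w • P') = w • P') : False := by
  have hp : p.Prime := Fact.out
  have hgN' : g ∈ Subgroup.normalizer ((P₀ : Subgroup G) : Set G) :=
    Sylow.smul_eq_iff_mem_normalizer.1 hgN
  set c : G := g⁻¹ * w⁻¹ * g * w with hc
  have hcP : c ∈ (P₀ : Subgroup G) := by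
    have h3 : g⁻¹ * w⁻¹ * g ∈ (P₀ : Subgroup G) := by
      have hginv : g⁻¹ ∈ Subgroup.normalizer ((P₀ : Subgroup G) : Set G) := inv_mem hgN'
      have := (Subgroup.mem_normalizer_iff.1 hginv (w⁻¹)).1 (inv_mem hw)
      simpa using this
    exact mul_mem h3 hw
  have hcN : c • P' = P' := by
    have h4 : g⁻¹ • P' = P' := by
      conv_lhs => rw [← h1]
      rw [inv_smul_smul]
    rw [hc, mul_smul, mul_smul, mul_smul, h2, inv_smul_smul, h4]
  have hcN' : c ∈ Subgroup.normalizer ((P' : Subgroup G) : Set G) :=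
    Sylow.smul_eq_iff_mem_normalizer.1 hcN
  have hc1 : c = 1 := by
    have h5 : c ∈ (P₀ : Subgroup G) ⊓ Subgroup.normalizer ((P' : Subgroup G) : Set G) := ⟨hcP, hcN'⟩
    have h6 : (P₀ : Subgroup G) ⊓ Subgroup.normalizer ((P' : Subgroup G) : Set G)
        = (P₀ : Subgroup G) ⊓ (P' : Subgroup G) := IsPGroup.inf_normalizer_sylow P₀.2 P'
    rw [h6, inf_eq_bot_of_ne P₀ P' hP₀ (Ne.symm hne)] at h5
    exact (Subgroup.mem_bot).1 h5
  -- g commutes with w
  have hgw : g * w = w * g := by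
    have : g⁻¹ * w⁻¹ * g * w = 1 := hc1
    have h6 : w⁻¹ * g * w = g := by
      have := congrArg (fun t => g * t) this
      simpa [mul_assoc] using this
    have := congrArg (fun t => w * t) h6
    simpa [mul_assoc] using this
  -- P₀ = zpowers w
  have : Finite ↥(P₀ : Subgroup G) := Nat.finite_of_card_ne_zero (by rw [hP₀]; exact hp.ne_zero)
  have how : orderOf w = p := by
    have h1 : orderOf w ∣ p := by
      rw [← hP₀]; exact Subgroup.orderOf_dvd_natCard _ hw
    rcases (Nat.dvd_prime hp).1 h1 with h | h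
    · exact absurd (orderOf_eq_one_iff.1 h) hw1
    · exact h
  have heq : Subgroup.zpowers w = (P₀ : Subgroup G) := by
    apply Subgroup.eq_of_le_of_card_ge ((Subgroup.zpowers_le).2 hw)
    rw [Nat.card_zpowers, how, hP₀]
  apply hgP
  apply hC
  intro u hu
  rw [← heq] at hu
  obtain ⟨k, rfl⟩ := Subgroup.mem_zpowers_iff.1 hu
  exact ((Commute.zpow_right (show Commute g w from hgw) k).eq)

/-- The number of Sylow `p`-subgroups other than `P₀` fixed by `g ∈ N(P₀) \ P₀` is at most
`(n_p - 1) / p`. -/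
theorem card_fixed_mul_le [Finite G] {p : ℕ} [Fact p.Prime]
    (P₀ : Sylow p G) (hP₀ : Nat.card ↥(P₀ : Subgroup G) = p)
    (hC : ∀ g : G, (∀ u ∈ (P₀ : Subgroup G), g * u = u * g) → g ∈ (P₀ : Subgroup G))
    (g : G) (hgN : g • P₀ = P₀) (hgP : g ∉ (P₀ : Subgroup G)) :
    p * Nat.card {P' : Sylow p G // g • P' = P' ∧ P' ≠ P₀} + 1 ≤ Nat.card (Sylow p G) := by
  classical
  have hp : p.Prime := Fact.out
  have : Fintype (Sylow p G) := Fintype.ofFinite _
  have : Fintype ↥(P₀ : Subgroup G) := Fintype.ofFinite _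
  -- injection (u, P') ↦ u • P'
  let f : ↥(P₀ : Subgroup G) × {P' : Sylow p G // g • P' = P' ∧ P' ≠ P₀} → {Q : Sylow p G // Q ≠ P₀} :=
    fun x => ⟨(x.1 : G) • x.2.1, by
      intro h
      apply x.2.2.2
      have hu : (x.1 : G) • P₀ = P₀ :=
        Sylow.smul_eq_iff_mem_normalizer.2 (Subgroup.le_normalizer x.1.2)
      have : (x.1 : G) • x.2.1 = (x.1 : G) • P₀ := by rw [h, hu]
      exact smul_left_cancel _ this⟩
  have hf : Function.Injective f := by
    rintro ⟨u, P', hP'1, hP'2⟩ ⟨u', P'', hP''1, hP''2⟩ h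
    have h' : (u : G) • P' = (u' : G) • P'' := congrArg Subtype.val h
    have hw : ((u' : G)⁻¹ * (u : G)) • P' = P'' := by
      rw [mul_smul, h', inv_smul_smul]
    by_cases hw1 : (u' : G)⁻¹ * (u : G) = 1
    · have huu : (u : G) = (u' : G) := by
        have := congrArg (fun t => (u' : G) * t) hw1
        simpa using this
      rw [hw1, one_smul] at hw
      have h3 : u = u' := Subtype.ext huu
      subst h3
      subst hw
      rfl
    · exfalso
      apply false_of_fixed_pair P₀ hP₀ hC g hgN hgP ((u' : G)⁻¹ * (u : G))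
        (mul_mem (inv_mem u'.2) u.2) hw1 P' hP'2 hP'1
      rw [hw]
      exact hP''1
  have h1 := Nat.card_le_card_of_injective f hf
  rw [Nat.card_prod, hP₀] at h1
  have h2 : Nat.card {Q : Sylow p G // Q ≠ P₀} + 1 = Nat.card (Sylow p G) := by
    rw [Nat.card_eq_fintype_card, Nat.card_eq_fintype_card, Fintype.card_subtype_compl,
      Fintype.card_subtype_eq]
    have : 0 < Fintype.card (Sylow p G) := Fintype.card_pos
    omega
  omega

end Cfsg.Agent.Helper21.SylFix
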