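import Mathlib

set_option autoImplicit false
set_option linter.style.haveILetI false

/-! Sylow numbers: reduction to a minimal configuration (faithful action on the Sylow
subgroups, no proper normal subgroup containing a Sylow subgroup). -/

namespace Cfsg.Agent.Helper21.SylNum

open MulAction Subgroup

universe u

variable {G : Type u} [Group G] {p : ℕ}

/-- The kernel of the conjugation action on the Sylow `p`-subgroups. -/
def sylKer (p : ℕ) (G : Type u) [Group G] : Subgroup G :=
  (MulAction.toPermHom G (Sylow p G)).ker

instance sylKer_normal : (sylKer p G).Normal := by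
  unfold sylKer; infer_instance

theorem mem_sylKer {g : G} : g ∈ sylKer p G ↔ ∀ Q : Sylow p G, g • Q = Q := by
  unfold sylKer
  rw [MonoidHom.mem_ker]
  constructor
  · intro h Q
    have := congrArg (fun σ : Equiv.Perm (Sylow p G) => σ Q) h
    simpa using this
  · intro h
    exact Equiv.ext fun Q => by simpa using h Q

theorem sylKer_le_normalizer (Q : Sylow p G) : sylKer p G ≤ normalizer (Q : Set G) := by
  intro g hg
  exact Sylow.smul_eq_iff_mem_normalizer.mp (mem_sylKer.mp hg Q)

/-- Two Sylow subgroups with `Q ≤ N(P)` coincide. -/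
theorem sylow_eq_of_le_normalizer [Fact p.Prime] {P Q : Sylow p G}
    (h : (Q : Subgroup G) ≤ normalizer (P : Set G)) : Q = P := by
  have h1 : (Q : Subgroup G) ⊓ normalizer (P : Set G) = (Q : Subgroup G) ⊓ P :=
    Q.2.inf_normalizer_sylow P
  have h2 : (Q : Subgroup G) ≤ P := by
    have : (Q : Subgroup G) ⊓ normalizer (P : Set G) = Q := inf_eq_left.mpr h
    rw [this] at h1
    exact inf_eq_left.mp h1.symm
  exact Sylow.ext (Q.3 P.2 h2).symm

/-- Passing to the quotient by the kernel of the action does not change the Sylow number. -/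
theorem card_sylow_quotient_sylKer [Fact p.Prime] [Finite G] :
    Nat.card (Sylow p (G ⧸ sylKer p G)) = Nat.card (Sylow p G) := by
  have hf : Function.Surjective (QuotientGroup.mk' (sylKer p G)) :=
    QuotientGroup.mk'_surjective _
  have hbij : Function.Bijective
      (Sylow.mapSurjective hf : Sylow p G → Sylow p (G ⧸ sylKer p G)) := by
    refine ⟨?_, Sylow.mapSurjective_surjective hf p⟩
    intro P Q hPQ
    have h1 : (P : Subgroup G).map (QuotientGroup.mk' (sylKer p G)) =
        (Q : Subgroup G).map (QuotientGroup.mk' (sylKer p G)) := by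
      have := congrArg (fun R : Sylow p (G ⧸ sylKer p G) => (R : Subgroup (G ⧸ sylKer p G))) hPQ
      simpa using this
    have h2 : (P : Subgroup G) ⊔ sylKer p G = (Q : Subgroup G) ⊔ sylKer p G := by
      have := congrArg (Subgroup.comap (QuotientGroup.mk' (sylKer p G))) h1
      rwa [Subgroup.comap_map_eq, Subgroup.comap_map_eq, QuotientGroup.ker_mk'] at this
    have h3 : (Q : Subgroup G) ≤ normalizer (P : Set G) := by
      calc (Q : Subgroup G) ≤ (Q : Subgroup G) ⊔ sylKer p G := le_sup_left
        _ = (P : Subgroup G) ⊔ sylKer p G := h2.symm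
        _ ≤ normalizer (P : Set G) := sup_le le_normalizer (sylKer_le_normalizer P)
    exact (sylow_eq_of_le_normalizer h3).symm
  exact (Nat.card_congr (Equiv.ofBijective _ hbij)).symm

/-- A normal subgroup containing a Sylow `p`-subgroup has the same Sylow number. -/
theorem card_sylow_of_normal_of_le [Fact p.Prime] [Finite G] (H : Subgroup G) [H.Normal]
    (P : Sylow p G) (hP : (P : Subgroup G) ≤ H) :
    Nat.card (Sylow p H) = Nat.card (Sylow p G) := by
  have hall : ∀ Q : Sylow p G, (Q : Subgroup G) ≤ H := by
    intro Q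
    obtain ⟨g, rfl⟩ := MulAction.exists_smul_eq G P Q
    intro x hx
    rw [Sylow.coe_subgroup_smul, Subgroup.mem_pointwise_smul_iff_inv_smul_mem] at hx
    have h1 : (MulAut.conj g)⁻¹ • x ∈ H := hP hx
    have h2 := (inferInstance : H.Normal).conj_mem _ h1 g
    simpa [MulAut.smul_def, MulAut.conj_inv_apply, mul_assoc] using h2
  have hbij : Function.Bijective (fun Q : Sylow p G => Q.subtype (hall Q)) := by
    refine ⟨fun Q R h => Sylow.subtype_injective h, ?_⟩
    intro Q0
    obtain ⟨Q, hQ⟩ := Q0.exists_comap_subtype_eq
    refine ⟨Q, Sylow.ext ?_⟩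
    rw [Sylow.coe_subtype]
    exact hQ
  exact (Nat.card_congr (Equiv.ofBijective _ hbij)).symm

/-- Induction principle: to show that `n` is not a Sylow `p`-number it suffices to exclude
groups acting faithfully on their Sylow `p`-subgroups and having no proper normal subgroup
containing a Sylow `p`-subgroup. -/
theorem card_sylow_ne_of_minimal [Fact p.Prime] (n : ℕ)
    (hmain : ∀ (H : Type u) [Group H] [Finite H], Nat.card (Sylow p H) = n →
      (∀ g : H, (∀ Q : Sylow p H, g • Q = Q) → g = 1) →
      (∀ N : Subgroup H, N.Normal → (∃ Q : Sylow p H, (Q : Subgroup H) ≤ N) → N = ⊤) → False)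
    (G : Type u) [Group G] [Finite G] : Nat.card (Sylow p G) ≠ n := by
  suffices h : ∀ k : ℕ, ∀ (G : Type u) [Group G] [Finite G], Nat.card G = k →
      Nat.card (Sylow p G) ≠ n from h _ G rfl
  intro k
  induction k using Nat.strong_induction_on with
  | _ k ih =>
    intro G _ _ hk hn
    by_cases hfaith : ∀ g : G, (∀ Q : Sylow p G, g • Q = Q) → g = 1
    · by_cases hnp : ∀ N : Subgroup G, N.Normal →
          (∃ Q : Sylow p G, (Q : Subgroup G) ≤ N) → N = ⊤
      · exact hmain G hn hfaith hnp
      · push Not at hnp
        obtain ⟨N, hN, ⟨Q, hQ⟩, hne⟩ := hnp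
        haveI := hN
        have hlt : Nat.card N < k := by
          rw [← hk]
          have h1 : Nat.card N ∣ Nat.card G := Subgroup.card_subgroup_dvd_card N
          have h2 : Nat.card N ≠ Nat.card G := fun h => hne (Subgroup.card_eq_iff_eq_top N |>.mp h)
          exact lt_of_le_of_ne (Nat.le_of_dvd Nat.card_pos h1) h2
        exact ih _ hlt N rfl ((card_sylow_of_normal_of_le N Q hQ).trans hn)
    · push Not at hfaith
      obtain ⟨g, hg, hg1⟩ := hfaith
      have hgK : g ∈ sylKer p G := mem_sylKer.mpr hg
      have hlt : Nat.card (G ⧸ sylKer p G) < k := by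
        rw [← hk, ← Subgroup.index_eq_card, ← (sylKer p G).card_mul_index]
        have hK : 1 < Nat.card (sylKer p G) := by
          rw [Subgroup.one_lt_card_iff_ne_bot]
          intro hb
          rw [hb, Subgroup.mem_bot] at hgK
          exact hg1 hgK
        have hi : 0 < (sylKer p G).index := Nat.pos_of_ne_zero Subgroup.index_ne_zero_of_finite
        nlinarith
      exact ih _ hlt (G ⧸ sylKer p G) rfl (card_sylow_quotient_sylKer.trans hn)

end Cfsg.Agent.Helper21.SylNum
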