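import Cfsg.Agent.Helper21.SylNum1

set_option autoImplicit false
set_option linter.style.haveILetI false

/-! Sylow numbers `2p+1`: in a group acting faithfully on its `2p+1` Sylow `p`-subgroups
the Sylow `p`-subgroups have order `p`. -/

namespace Cfsg.Agent.Helper21.SylNum

open MulAction Subgroup

universe u

variable {G : Type u} [Group G] [Finite G] {p : ℕ} [Fact p.Prime]

omit [Finite G] in
theorem card_mul_relIndex_of_le {H K : Subgroup G} (h : H ≤ K) :
    Nat.card H * H.relIndex K = Nat.card K := by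
  have h1 := (H.subgroupOf K).card_mul_index
  rw [Nat.card_congr (Subgroup.subgroupOfEquivOfLe h).toEquiv] at h1
  exact h1

/-- index of the intersection of two distinct Sylow subgroups, when there are `2p+1` of them -/
theorem relIndex_inf_sylow (hp3 : 3 ≤ p) (hn : Nat.card (Sylow p G) = 2 * p + 1)
    {Q Q' : Sylow p G} (hne : Q ≠ Q') :
    ((Q : Subgroup G) ⊓ Q').relIndex Q = p := by
  have hp : p.Prime := Fact.out
  have hstab : stabilizer (Q : Subgroup G) Q' = ((Q : Subgroup G) ⊓ Q').subgroupOf Q := by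
    ext x
    rw [mem_stabilizer_iff, Subgroup.mem_subgroupOf, Subgroup.smul_def,
      Sylow.smul_eq_iff_mem_normalizer]
    have hh := Q.2.inf_normalizer_sylow Q'
    constructor
    · intro hx
      have h1 : (x : G) ∈ (Q : Subgroup G) ⊓ normalizer (Q' : Set G) := ⟨x.2, hx⟩
      rw [hh] at h1
      exact h1
    · intro hx
      have h1 : (x : G) ∈ (Q : Subgroup G) ⊓ normalizer (Q' : Set G) := by rw [hh]; exact hx
      exact h1.2
  have hidx : ((Q : Subgroup G) ⊓ Q').relIndex Q = (orbit (Q : Subgroup G) Q').ncard := by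
    rw [← index_stabilizer, hstab]; rfl
  have hle : ((Q : Subgroup G) ⊓ Q').relIndex Q ≤ 2 * p + 1 := by
    rw [hidx, ← hn]; exact Set.ncard_le_card _
  have hdvd : ((Q : Subgroup G) ⊓ Q').relIndex Q ∣ Nat.card (Q : Subgroup G) :=
    Subgroup.relIndex_dvd_card _ _
  obtain ⟨k, hk⟩ := IsPGroup.iff_card.mp Q.2
  rw [hk] at hdvd
  obtain ⟨j, hj, hj2⟩ := (Nat.dvd_prime_pow hp).mp hdvd
  have hj1 : j ≠ 0 := by
    rintro rfl
    rw [pow_zero, Subgroup.relIndex_eq_one] at hj2
    have h3 : (Q : Subgroup G) ≤ Q' := hj2.trans inf_le_right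
    exact hne (Sylow.ext (Q.3 Q'.2 h3)).symm
  have hj3 : j < 2 := by
    by_contra hcon
    have h4 : p ^ 2 ≤ p ^ j := Nat.pow_le_pow_right hp.pos (by omega)
    have h5 : p ^ 2 ≤ 2 * p + 1 := by rw [← hj2] at h4; exact h4.trans hle
    nlinarith
  have hj4 : j = 1 := by omega
  rw [hj2, hj4, pow_one]

theorem card_inf_sylow_mul (hp3 : 3 ≤ p) (hn : Nat.card (Sylow p G) = 2 * p + 1)
    {Q Q' : Sylow p G} (hne : Q ≠ Q') :
    Nat.card ((Q : Subgroup G) ⊓ Q' : Subgroup G) * p = Nat.card (Q : Subgroup G) := by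
  have h := card_mul_relIndex_of_le (inf_le_left : (Q : Subgroup G) ⊓ Q' ≤ Q)
  rwa [relIndex_inf_sylow hp3 hn hne] at h

/-- number of Sylow subgroups containing a nontrivial `p`-subgroup lying in two of them -/
theorem card_sylow_ge (hp3 : 3 ≤ p) (hn : Nat.card (Sylow p G) = 2 * p + 1)
    (hfaith : ∀ g : G, (∀ Q : Sylow p G, g • Q = Q) → g = 1)
    {D : Subgroup G} (hD : IsPGroup p D) (hD1 : D ≠ ⊥) {Q1 Q2 : Sylow p G} (h12 : Q1 ≠ Q2)
    (h1 : D ≤ Q1) (h2 : D ≤ Q2) :
    Nat.card {Q : Sylow p G // D ≤ Q} = p + 1 := by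
  have hp : p.Prime := Fact.out
  have hmod := hD.card_modEq_card_fixedPoints (Sylow p G)
  have hcongr : Nat.card (fixedPoints D (Sylow p G)) = Nat.card {Q : Sylow p G // D ≤ Q} :=
    Nat.card_congr (Equiv.subtypeEquivRight (fun Q => hD.sylow_mem_fixedPoints_iff))
  rw [hcongr, hn] at hmod
  set N := Nat.card {Q : Sylow p G // D ≤ Q} with hN
  have hN2 : 2 ≤ N := by
    have : Nontrivial {Q : Sylow p G // D ≤ Q} :=
      ⟨⟨⟨Q1, h1⟩, ⟨Q2, h2⟩, fun h => h12 (congrArg Subtype.val h)⟩⟩
    exact Finite.one_lt_card_iff_nontrivial.mpr this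
  have hex : ∃ Q : Sylow p G, ¬ D ≤ Q := by
    by_contra hcon
    push Not at hcon
    apply hD1
    rw [Subgroup.eq_bot_iff_forall]
    intro d hd
    apply hfaith
    intro Q
    exact Sylow.smul_eq_iff_mem_normalizer.mpr (le_normalizer (hcon Q hd))
  have hlt : N < 2 * p + 1 := by
    rw [← hn]
    obtain ⟨Q, hQ⟩ := hex
    exact Finite.card_subtype_lt hQ
  have hmod1 : N % p = 1 := by
    have h3 : (2 * p + 1) % p = 1 := by
      rw [Nat.add_mod, Nat.mul_mod_left, zero_add, Nat.mod_mod, Nat.mod_eq_of_lt (by omega)]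
    have : N % p = (2 * p + 1) % p := hmod.symm
    rw [this, h3]
  have hdiv := Nat.div_add_mod N p
  rw [hmod1] at hdiv
  have hc1 : 1 ≤ N / p := by
    by_contra hcon
    have : N / p = 0 := Nat.lt_one_iff.mp (not_le.mp hcon)
    rw [this] at hdiv
    omega
  have hc2 : N / p < 2 := by
    by_contra hcon
    have : p * 2 ≤ p * (N / p) := Nat.mul_le_mul_left p (not_lt.mp hcon)
    omega
  have hc : N / p = 1 := le_antisymm (Nat.lt_succ_iff.mp hc2) hc1
  rw [hc] at hdiv
  omega

/-- **Key counting lemma**: if `G` acts faithfully on its `2p+1` Sylow `p`-subgroups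
(`p` odd) then these have order `p`. -/
theorem card_sylow_eq_prime (hp3 : 3 ≤ p) (hn : Nat.card (Sylow p G) = 2 * p + 1)
    (hfaith : ∀ g : G, (∀ Q : Sylow p G, g • Q = Q) → g = 1) (P : Sylow p G) :
    Nat.card (P : Subgroup G) = p := by
  classical
  have hp : p.Prime := Fact.out
  haveI : Fintype (Sylow p G) := Fintype.ofFinite _
  have hcardS : Fintype.card (Sylow p G) = 2 * p + 1 := by
    rw [← Nat.card_eq_fintype_card]; exact hn
  obtain ⟨k, hk⟩ := IsPGroup.iff_card.mp P.2
  have hcardQ : ∀ Q : Sylow p G, Nat.card (Q : Subgroup G) = p ^ k := by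
    intro Q
    rw [← hk]
    exact Nat.card_congr (Sylow.equiv Q P).toEquiv
  -- there is another Sylow subgroup
  have hex : ∃ Q : Sylow p G, Q ≠ P := by
    by_contra hcon
    push Not at hcon
    have : Nat.card (Sylow p G) ≤ 1 :=
      Finite.card_le_one_iff_subsingleton.mpr ⟨fun a b => (hcon a).trans (hcon b).symm⟩
    omega
  obtain ⟨Q0, hQ0⟩ := hex
  have hk0 : k ≠ 0 := by
    rintro rfl
    have h := card_inf_sylow_mul hp3 hn hQ0
    rw [hcardQ Q0, pow_zero] at h
    have : p ∣ 1 := ⟨_, by rw [mul_comm] at h; exact h.symm⟩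
    exact hp.one_lt.ne' (Nat.dvd_one.mp this)
  by_contra hne
  have hk2 : 2 ≤ k := by
    by_contra hcon
    have : k = 1 := by omega
    rw [hk, this, pow_one] at hne
    exact hne rfl
  -- intersections of distinct Sylow subgroups have order `p^(k-1)`
  have hinfcard : ∀ Q Q' : Sylow p G, Q ≠ Q' →
      Nat.card ((Q : Subgroup G) ⊓ Q' : Subgroup G) = p ^ (k - 1) := by
    intro Q Q' h
    have h1 := card_inf_sylow_mul hp3 hn h
    rw [hcardQ Q] at h1
    have h2 : p ^ k = p ^ (k - 1) * p := by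
      rw [← pow_succ]; congr 1; omega
    rw [h2] at h1
    exact Nat.eq_of_mul_eq_mul_right hp.pos h1
  have hinfne : ∀ Q Q' : Sylow p G, Q ≠ Q' → ((Q : Subgroup G) ⊓ Q' : Subgroup G) ≠ ⊥ := by
    intro Q Q' h hb
    have h1 := hinfcard Q Q' h
    rw [hb, Subgroup.card_bot] at h1
    have : 1 < p ^ (k - 1) := Nat.one_lt_pow (by omega) hp.one_lt
    omega
  let φ : Sylow p G × Sylow p G → Subgroup G := fun x => (x.1 : Subgroup G) ⊓ x.2
  let s : Finset (Sylow p G × Sylow p G) := (Finset.univ : Finset (Sylow p G)).offDiag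
  have hs : s.card = (2 * p + 1) * (2 * p + 1) - (2 * p + 1) := by
    simp only [s, Finset.offDiag_card, Finset.card_univ, hcardS]
  have hfib : ∀ b ∈ s.image φ, (s.filter fun a => φ a = b).card = (p + 1) * (p + 1) - (p + 1) := by
    intro b hb
    obtain ⟨⟨R, R'⟩, hRR, rfl⟩ := Finset.mem_image.mp hb
    have hRne : R ≠ R' := by
      simpa [s, Finset.mem_offDiag] using hRR
    set b := φ (R, R') with hbdef
    have hbp : IsPGroup p b := R.2.to_le inf_le_left
    have hF : (Finset.univ.filter fun Q : Sylow p G => b ≤ (Q : Subgroup G)).card = p + 1 := by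
      rw [← Fintype.card_subtype, ← Nat.card_eq_fintype_card]
      exact card_sylow_ge hp3 hn hfaith hbp (hinfne R R' hRne) hRne inf_le_left inf_le_right
    have hset : (s.filter fun a => φ a = b) =
        (Finset.univ.filter fun Q : Sylow p G => b ≤ (Q : Subgroup G)).offDiag := by
      ext ⟨Q, Q'⟩
      simp only [s, Finset.mem_filter, Finset.mem_offDiag, Finset.mem_univ, true_and]
      constructor
      · rintro ⟨hne', hφ⟩
        refine ⟨?_, ?_, hne'⟩
        · rw [← hφ]; exact inf_le_left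
        · rw [← hφ]; exact inf_le_right
      · rintro ⟨h1, h2, hne'⟩
        refine ⟨hne', ?_⟩
        have hle : b ≤ (Q : Subgroup G) ⊓ Q' := le_inf h1 h2
        have hc : Nat.card ((Q : Subgroup G) ⊓ Q' : Subgroup G) ≤ Nat.card b := by
          rw [hinfcard Q Q' hne', hbdef]
          exact (hinfcard R R' hRne).ge
        exact (Subgroup.eq_of_le_of_card_ge hle hc).symm
    rw [hset, Finset.offDiag_card, hF]
  have hsum := Finset.card_eq_sum_card_image φ s
  rw [Finset.sum_congr rfl hfib, Finset.sum_const, smul_eq_mul, hs] at hsum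
  set a := (s.image φ).card
  have e1 : (2 * p + 1) * (2 * p + 1) - (2 * p + 1) = (2 * p + 1) * 2 * p := by
    have : (2 * p + 1) * (2 * p + 1) = (2 * p + 1) * 2 * p + (2 * p + 1) := by ring
    omega
  have e2 : (p + 1) * (p + 1) - (p + 1) = (p + 1) * p := by
    have : (p + 1) * (p + 1) = (p + 1) * p + (p + 1) := by ring
    omega
  rw [e1, e2] at hsum
  have e3 : (2 * p + 1) * 2 = a * (p + 1) := by
    have : (2 * p + 1) * 2 * p = a * (p + 1) * p := by rw [hsum]; ring
    exact Nat.eq_of_mul_eq_mul_right hp.pos this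
  have ha : a < 4 := by
    by_contra hcon
    have : 4 * (p + 1) ≤ a * (p + 1) := Nat.mul_le_mul_right _ (by omega)
    omega
  interval_cases a <;> omega

end Cfsg.Agent.Helper21.SylNum
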