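import Cfsg.Agent.Helper21.SylNum2

set_option autoImplicit false
set_option linter.style.haveILetI false

/-! Sylow numbers `2p+1`: the centralizer of a Sylow `p`-subgroup in a minimal configuration,
via the sign of the permutation action on the Sylow subgroups. -/

namespace Cfsg.Agent.Helper21.SylNum

open MulAction Subgroup

universe u

/-- sign of an involution with exactly one fixed point on `2m+1` points, `m` odd -/
theorem sign_eq_neg_one_of_one_fixed {α : Type*} [Fintype α] [DecidableEq α]
    (τ : Equiv.Perm α) {m : ℕ} (hm : Odd m) (hcard : Fintype.card α = 2 * m + 1)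
    (hτ : τ ^ 2 = 1) (hfix : Nat.card (Function.fixedPoints τ) = 1) :
    Equiv.Perm.sign τ = -1 := by
  have hm1 : 1 ≤ m := hm.pos
  have hne : τ ≠ 1 := by
    rintro rfl
    have h1 : Function.fixedPoints (⇑(1 : Equiv.Perm α)) = Set.univ := by
      ext a; simp
    rw [h1, Nat.card_coe_set_eq, Set.ncard_univ, Nat.card_eq_fintype_card, hcard] at hfix
    omega
  haveI : Fact (Nat.Prime 2) := ⟨Nat.prime_two⟩
  have h2 : orderOf τ = 2 := orderOf_eq_prime hτ hne
  obtain ⟨n, hn⟩ := Equiv.Perm.cycleType_prime_order (σ := τ) (by rw [h2]; exact Nat.prime_two)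
  rw [h2] at hn
  have hsum : τ.cycleType.sum = (n + 1) * 2 := by
    rw [hn, Multiset.sum_replicate, smul_eq_mul]
  have hcardm : Multiset.card τ.cycleType = n + 1 := by
    rw [hn, Multiset.card_replicate]
  have hfp := Equiv.Perm.card_fixedPoints τ
  rw [← Nat.card_eq_fintype_card, hfix, hcard, hsum] at hfp
  have hle := Equiv.Perm.sum_cycleType_le τ
  rw [hsum, hcard] at hle
  have hnm : n + 1 = m := by omega
  rw [Equiv.Perm.sign_of_cycleType, hsum, hcardm, hnm]
  have : Odd (m * 2 + m) := by
    obtain ⟨k, rfl⟩ := hm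
    exact ⟨3 * k + 1, by ring⟩
  exact this.neg_one_pow

variable {G : Type u} [Group G] [Finite G] {p : ℕ} [Fact p.Prime]

omit [Finite G] [Fact p.Prime] in
/-- a homomorphism to a finite group of order prime to `p` kills the Sylow `p`-subgroups -/
theorem sylow_le_ker_of_coprime {A : Type*} [Group A] [Finite A] (f : G →* A)
    (hcop : Nat.Coprime p (Nat.card A)) (P : Sylow p G) : (P : Subgroup G) ≤ f.ker := by
  intro x hx
  rw [MonoidHom.mem_ker]
  obtain ⟨k, hk⟩ := P.2 ⟨x, hx⟩
  have hk' : x ^ p ^ k = 1 := by
    have := congrArg Subtype.val hk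
    simpa using this
  have h1 : orderOf (f x) ∣ p ^ k := by
    apply orderOf_dvd_of_pow_eq_one
    rw [← map_pow, hk', map_one]
  have h2 : orderOf (f x) ∣ Nat.card A := orderOf_dvd_natCard (f x)
  have h3 : Nat.Coprime (p ^ k) (Nat.card A) := Nat.Coprime.pow_left k hcop
  have h4 : orderOf (f x) = 1 := Nat.eq_one_of_dvd_coprimes h3 h1 h2
  exact orderOf_eq_one_iff.mp h4

omit [Finite G] [Fact p.Prime] in
/-- in a minimal configuration every homomorphism to a `p'`-group is trivial -/
theorem hom_trivial_of_coprime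
    (hnp : ∀ N : Subgroup G, N.Normal → (∃ Q : Sylow p G, (Q : Subgroup G) ≤ N) → N = ⊤)
    {A : Type*} [Group A] [Finite A] (f : G →* A)
    (hcop : Nat.Coprime p (Nat.card A)) (g : G) : f g = 1 := by
  have P : Sylow p G := default
  have h := hnp f.ker inferInstance ⟨P, sylow_le_ker_of_coprime f hcop P⟩
  have : g ∈ f.ker := by rw [h]; exact Subgroup.mem_top g
  exact MonoidHom.mem_ker.mp this

omit [Finite G] in
/-- in a minimal configuration with `p` odd all elements act as even permutations on the
Sylow `p`-subgroups -/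
theorem sign_toPerm_eq_one [Fintype (Sylow p G)] [DecidableEq (Sylow p G)] (hp3 : 3 ≤ p)
    (hnp : ∀ N : Subgroup G, N.Normal → (∃ Q : Sylow p G, (Q : Subgroup G) ≤ N) → N = ⊤)
    (g : G) : Equiv.Perm.sign (MulAction.toPerm g : Equiv.Perm (Sylow p G)) = 1 := by
  have hp : p.Prime := Fact.out
  have hcop : Nat.Coprime p (Nat.card ℤˣ) := by
    have : Nat.card ℤˣ = 2 := by
      rw [Nat.card_eq_fintype_card]; rfl
    rw [this]
    rw [Nat.coprime_primes hp Nat.prime_two]
    omega
  exact hom_trivial_of_coprime hnp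
    ((Equiv.Perm.sign).comp (MulAction.toPermHom G (Sylow p G))) hcop g

/-- **Key lemma**: in a minimal configuration with `2p+1` Sylow `p`-subgroups of order `p`,
no element of prime order `r ≠ p` centralizes a Sylow `p`-subgroup. -/
theorem no_prime_order_centralizing (hp3 : 3 ≤ p) (hn : Nat.card (Sylow p G) = 2 * p + 1)
    (hfaith : ∀ g : G, (∀ Q : Sylow p G, g • Q = Q) → g = 1)
    (hnp : ∀ N : Subgroup G, N.Normal → (∃ Q : Sylow p G, (Q : Subgroup G) ≤ N) → N = ⊤)
    (P : Sylow p G) {t : G} {r : ℕ} (hr : r.Prime) (hrp : r ≠ p) (ht : orderOf t = r)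
    (hcomm : ∀ x ∈ (P : Subgroup G), t * x = x * t) : False := by
  classical
  have hp : p.Prime := Fact.out
  haveI : Fact r.Prime := ⟨hr⟩
  have ht1 : t ≠ 1 := by
    rintro rfl
    rw [orderOf_one] at ht
    exact hr.one_lt.ne ht
  -- `t` fixes `P`
  have htP : t • P = P := by
    rw [Sylow.smul_eq_iff_mem_normalizer]
    have : t ∈ centralizer ((P : Subgroup G) : Set G) := by
      rw [Subgroup.mem_centralizer_iff]
      intro x hx
      exact (hcomm x hx).symm
    exact Subgroup.centralizer_le_normalizer _ this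
  -- the set of fixed points of `t` as a `P`-set
  let Y : SubMulAction (P : Subgroup G) (Sylow p G) :=
    { carrier := {Q | t • Q = Q}
      smul_mem' := fun x Q hQ => by
        show t • (x • Q) = x • Q
        rw [Subgroup.smul_def, smul_smul, hcomm x x.2, mul_smul]
        have hQ' : t • Q = Q := hQ
        rw [hQ'] }
  have hYmem : ∀ Q : Sylow p G, Q ∈ Y ↔ t • Q = Q := fun Q => Iff.rfl
  haveI : Finite Y := Finite.of_injective (fun y : Y => (y : Sylow p G)) Subtype.val_injective
  -- fixed points of `P` on `Y`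
  have hfixY : Nat.card (fixedPoints (P : Subgroup G) Y) = 1 := by
    rw [Nat.card_eq_one_iff_unique]
    refine ⟨⟨?_⟩, ⟨⟨⟨P, (hYmem P).mpr htP⟩, ?_⟩⟩⟩
    · intro a b
      have key : ∀ c : fixedPoints (P : Subgroup G) Y, ((c : Y) : Sylow p G) = P := by
        intro c
        have hc : ((c : Y) : Sylow p G) ∈ fixedPoints (P : Subgroup G) (Sylow p G) := by
          intro x
          have := c.2 x
          exact congrArg Subtype.val this
        rw [P.2.sylow_mem_fixedPoints_iff] at hc
        exact (Sylow.ext (P.3 (c : Y).1.2 hc))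
      exact Subtype.ext (Subtype.ext ((key a).trans (key b).symm))
    · intro x
      apply Subtype.ext
      show (x : G) • P = P
      rw [Sylow.smul_eq_iff_mem_normalizer]
      exact le_normalizer x.2
  have hmodp : Nat.card Y ≡ 1 [MOD p] := by
    have := P.2.card_modEq_card_fixedPoints Y
    rwa [hfixY] at this
  -- fixed points of `⟨t⟩`
  have hZ : IsPGroup r (zpowers t) := by
    apply IsPGroup.of_card (n := 1)
    rw [pow_one, Nat.card_zpowers, ht]
  have hcongr : Nat.card (fixedPoints (zpowers t) (Sylow p G)) = Nat.card Y := by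
    apply Nat.card_congr
    refine Equiv.subtypeEquivRight (fun Q => ?_)
    rw [hYmem]
    constructor
    · intro h
      exact h ⟨t, mem_zpowers t⟩
    · intro h z
      have h1 : zpowers t ≤ stabilizer G Q := by
        rw [Subgroup.zpowers_le]
        exact h
      exact h1 z.2
  have hmodr : 2 * p + 1 ≡ Nat.card Y [MOD r] := by
    have := hZ.card_modEq_card_fixedPoints (Sylow p G)
    rwa [hcongr, hn] at this
  -- bound
  have hYlt : Nat.card Y < 2 * p + 1 := by
    rw [← hn]
    have hex : ∃ Q : Sylow p G, ¬ t • Q = Q := by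
      by_contra hcon
      push Not at hcon
      exact ht1 (hfaith t hcon)
    obtain ⟨Q, hQ⟩ := hex
    have := Finite.card_subtype_lt (p := fun Q : Sylow p G => t • Q = Q) hQ
    exact this
  set N := Nat.card Y with hN
  have hcases : N = 1 ∨ N = p + 1 := by
    have h1 : N % p = 1 := by
      have : N % p = 1 % p := hmodp
      rwa [Nat.mod_eq_of_lt (by omega : 1 < p)] at this
    have hdiv := Nat.div_add_mod N p
    rw [h1] at hdiv
    have hc2 : N / p < 2 := by
      by_contra hcon
      have : p * 2 ≤ p * (N / p) := Nat.mul_le_mul_left p (not_lt.mp hcon)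
      omega
    generalize N / p = c at hdiv hc2
    interval_cases c
    · left; omega
    · right; omega
  rcases hcases with h1 | h1
  · -- one fixed point: `r = 2`, sign argument
    rw [h1] at hmodr
    have hdvd : r ∣ 2 * p := by
      have := (Nat.modEq_iff_dvd' (by omega : 1 ≤ 2 * p + 1)).mp hmodr.symm
      simpa using this
    have hr2 : r = 2 := by
      rcases (Nat.Prime.dvd_mul hr).mp hdvd with h | h
      · exact (Nat.prime_dvd_prime_iff_eq hr Nat.prime_two).mp h
      · exact absurd ((Nat.prime_dvd_prime_iff_eq hr hp).mp h) hrp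
    haveI : Fintype (Sylow p G) := Fintype.ofFinite _
    have hsign1 := sign_toPerm_eq_one hp3 hnp t
    have hodd : Odd p := hp.eq_two_or_odd'.resolve_left (by omega)
    have hcardS : Fintype.card (Sylow p G) = 2 * p + 1 := by
      rw [← Nat.card_eq_fintype_card]; exact hn
    have hsq : (MulAction.toPerm t : Equiv.Perm (Sylow p G)) ^ 2 = 1 := by
      have : t ^ 2 = 1 := by rw [← hr2, ← ht]; exact pow_orderOf_eq_one t
      have h2 : (MulAction.toPermHom G (Sylow p G) t) ^ 2 = 1 := by
        rw [← map_pow, this, map_one]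
      simpa using h2
    have hfix1 : Nat.card (Function.fixedPoints
        (⇑(MulAction.toPerm t : Equiv.Perm (Sylow p G)))) = 1 := by
      rw [← h1, hN]
      exact Nat.card_congr (Equiv.subtypeEquivRight (fun Q => by
        rw [hYmem]; rfl))
    have := sign_eq_neg_one_of_one_fixed _ hodd hcardS hsq hfix1
    rw [hsign1] at this
    exact absurd this (by decide)
  · -- `p + 1` fixed points: `r ∣ p`
    rw [h1] at hmodr
    have hdvd : r ∣ p := by
      have := (Nat.modEq_iff_dvd' (by omega : p + 1 ≤ 2 * p + 1)).mp hmodr.symm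
      have e : 2 * p + 1 - (p + 1) = p := by omega
      rwa [e] at this
    exact hrp ((Nat.prime_dvd_prime_iff_eq hr hp).mp hdvd)

end Cfsg.Agent.Helper21.SylNum
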