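import Cfsg.Agent.Helper21.SylNum3

set_option autoImplicit false
set_option linter.style.haveILetI false

/-! Sylow numbers `2p+1`: structure of a minimal configuration and the final contradiction. -/

namespace Cfsg.Agent.Helper21.SylNum

open MulAction Subgroup

universe u

variable {G : Type u} [Group G] [Finite G] {p : ℕ} [Fact p.Prime]

/-- in a minimal configuration a Sylow `p`-subgroup is self-centralizing -/
theorem centralizer_sylow_eq (hp3 : 3 ≤ p) (hn : Nat.card (Sylow p G) = 2 * p + 1)
    (hfaith : ∀ g : G, (∀ Q : Sylow p G, g • Q = Q) → g = 1)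
    (hnp : ∀ N : Subgroup G, N.Normal → (∃ Q : Sylow p G, (Q : Subgroup G) ≤ N) → N = ⊤)
    (P : Sylow p G) : centralizer ((P : Subgroup G) : Set G) = P := by
  have hp : p.Prime := Fact.out
  have hcardP : Nat.card (P : Subgroup G) = p := card_sylow_eq_prime hp3 hn hfaith P
  haveI : IsCyclic (P : Subgroup G) := isCyclic_of_prime_card hcardP
  have hle : (P : Subgroup G) ≤ centralizer ((P : Subgroup G) : Set G) :=
    Subgroup.le_centralizer _
  by_contra hne
  set C := centralizer ((P : Subgroup G) : Set G) with hC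
  -- `C` is not a `p`-group
  have hnotp : ¬ IsPGroup p C := by
    intro h
    exact hne (P.3 h hle)
  -- so its order has another prime divisor
  have hex : ∃ r : ℕ, r.Prime ∧ r ∣ Nat.card C ∧ r ≠ p := by
    by_contra hcon
    push Not at hcon
    apply hnotp
    have h1 : Nat.card C = p ^ (Nat.card C).primeFactorsList.length :=
      Nat.eq_prime_pow_of_unique_prime_dvd Nat.card_pos.ne' (fun {d} hd hdvd => hcon d hd hdvd)
    exact IsPGroup.of_card h1
  obtain ⟨r, hr, hrdvd, hrp⟩ := hex
  haveI : Fact r.Prime := ⟨hr⟩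
  haveI : Fintype C := Fintype.ofFinite _
  rw [Nat.card_eq_fintype_card] at hrdvd
  obtain ⟨x, hx⟩ := exists_prime_orderOf_dvd_card r hrdvd
  have hx' : orderOf (x : G) = r := by rw [Subgroup.orderOf_coe]; exact hx
  refine no_prime_order_centralizing hp3 hn hfaith hnp P hr hrp hx' ?_
  intro y hy
  have hxC : (x : G) ∈ centralizer ((P : Subgroup G) : Set G) := x.2
  rw [Subgroup.mem_centralizer_iff] at hxC
  exact (hxC y hy).symm

/-- order of the normalizer of a Sylow `p`-subgroup in a minimal configuration -/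
theorem card_normalizer_sylow (hp3 : 3 ≤ p) (hn : Nat.card (Sylow p G) = 2 * p + 1)
    (hfaith : ∀ g : G, (∀ Q : Sylow p G, g • Q = Q) → g = 1)
    (hnp : ∀ N : Subgroup G, N.Normal → (∃ Q : Sylow p G, (Q : Subgroup G) ≤ N) → N = ⊤)
    (P : Sylow p G) :
    ∃ m : ℕ, m ∣ p - 1 ∧ Nat.card (normalizer ((P : Subgroup G) : Set G)) = p * m ∧
      Nat.card G = (2 * p + 1) * p * m := by
  have hp : p.Prime := Fact.out
  have hcardP : Nat.card (P : Subgroup G) = p := card_sylow_eq_prime hp3 hn hfaith P
  haveI : IsCyclic (P : Subgroup G) := isCyclic_of_prime_card hcardP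
  have hcent := centralizer_sylow_eq hp3 hn hfaith hnp P
  have key := Subgroup.card_dvd_of_injective _
    (QuotientGroup.kerLift_injective (P : Subgroup G).normalizerMonoidHom)
  rw [normalizerMonoidHom_ker, ← Subgroup.index, ← Subgroup.relIndex, hcent,
    IsCyclic.card_mulAut, hcardP, Nat.totient_prime hp] at key
  refine ⟨_, key, ?_, ?_⟩
  · rw [← card_mul_relIndex_of_le (le_normalizer : (P : Subgroup G) ≤ _), hcardP]
  · have h1 := (normalizer ((P : Subgroup G) : Set G)).card_mul_index
    have h2 : (normalizer ((P : Subgroup G) : Set G)).index = 2 * p + 1 := by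
      rw [← hn]; exact (Sylow.card_eq_index_normalizer P).symm
    rw [h2, ← card_mul_relIndex_of_le (le_normalizer : (P : Subgroup G) ≤ _), hcardP] at h1
    rw [← h1]; ring

/-- Burnside transfer in a minimal configuration: no nontrivial Sylow `q`-subgroup (`q ≠ p`)
is central in its normalizer. -/
theorem false_of_normalizer_le_centralizer
    (hnp : ∀ N : Subgroup G, N.Normal → (∃ Q : Sylow p G, (Q : Subgroup G) ≤ N) → N = ⊤)
    {q : ℕ} [Fact q.Prime] (hqp : q ≠ p) (R : Sylow q G) (hR : (R : Subgroup G) ≠ ⊥)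
    (hNC : normalizer (R : Set G) ≤ centralizer (R : Set G)) : False := by
  have hp : p.Prime := Fact.out
  have hq : q.Prime := Fact.out
  have hcompl := MonoidHom.ker_transferSylow_isComplement' R hNC
  have hcop : Nat.Coprime p (Nat.card (R : Subgroup G)) := by
    obtain ⟨j, hj⟩ := IsPGroup.iff_card.mp R.2
    rw [hj]
    exact Nat.Coprime.pow_right j ((Nat.coprime_primes hp hq).mpr hqp.symm)
  have htriv := hom_trivial_of_coprime hnp (MonoidHom.transferSylow R hNC) hcop
  have hker : (MonoidHom.transferSylow R hNC).ker = ⊤ := by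
    ext g
    simp [MonoidHom.mem_ker, htriv g]
  have h1 := hcompl.symm.index_eq_card
  rw [hker, Subgroup.index_top] at h1
  exact hR (Subgroup.card_eq_one.mp h1.symm)

/-- a Sylow `q`-subgroup of order `q` is central in its normalizer if `q - 1` is prime to the
group order -/
theorem normalizer_le_centralizer_of_coprime {q : ℕ} [Fact q.Prime] (R : Sylow q G)
    (hR : Nat.card (R : Subgroup G) = q) (hcop : Nat.Coprime (Nat.card G) (q - 1)) :
    normalizer (R : Set G) ≤ centralizer (R : Set G) := by
  have hq : q.Prime := Fact.out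
  haveI : IsCyclic (R : Subgroup G) := isCyclic_of_prime_card hR
  have key := Subgroup.card_dvd_of_injective _
    (QuotientGroup.kerLift_injective (R : Subgroup G).normalizerMonoidHom)
  rw [normalizerMonoidHom_ker, ← Subgroup.index, ← Subgroup.relIndex,
    IsCyclic.card_mulAut, hR, Nat.totient_prime hq] at key
  refine Subgroup.relIndex_eq_one.mp (Nat.eq_one_of_dvd_coprimes hcop ?_ key)
  exact (Subgroup.relIndex_dvd_card _ _).trans (Subgroup.card_subgroup_dvd_card _)

/-- a minimal configuration has odd order -/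
theorem not_two_dvd_card (hp3 : 3 ≤ p) (hn : Nat.card (Sylow p G) = 2 * p + 1)
    (hfaith : ∀ g : G, (∀ Q : Sylow p G, g • Q = Q) → g = 1)
    (hnp : ∀ N : Subgroup G, N.Normal → (∃ Q : Sylow p G, (Q : Subgroup G) ≤ N) → N = ⊤) :
    ¬ 2 ∣ Nat.card G := by
  intro h2
  have hp : p.Prime := Fact.out
  haveI : Fact (Nat.Prime 2) := ⟨Nat.prime_two⟩
  have P : Sylow p G := default
  have hcardP : Nat.card (P : Subgroup G) = p := card_sylow_eq_prime hp3 hn hfaith P
  haveI : IsCyclic (P : Subgroup G) := isCyclic_of_prime_card hcardP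
  have hcent := centralizer_sylow_eq hp3 hn hfaith hnp P
  obtain ⟨m, hm, hN, hG⟩ := card_normalizer_sylow hp3 hn hfaith hnp P
  set N := normalizer ((P : Subgroup G) : Set G) with hNdef
  let T0 : Sylow 2 N := default
  -- `T0` embeds in `Aut P`
  let f : N →* MulAut (P : Subgroup G) := (P : Subgroup G).normalizerMonoidHom
  let g : (T0 : Subgroup N) →* MulAut (P : Subgroup G) := f.comp (T0 : Subgroup N).subtype
  have hginj : Function.Injective g := by
    rw [injective_iff_map_eq_one]
    intro x hx
    have hx1 : (x : N) ∈ f.ker := hx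
    rw [normalizerMonoidHom_ker, hcent, Subgroup.mem_subgroupOf] at hx1
    -- order of `x` divides `p` and a power of `2`
    have ho1 : orderOf ((x : N) : G) ∣ p := by
      have := orderOf_dvd_natCard (⟨((x : N) : G), hx1⟩ : (P : Subgroup G))
      rwa [hcardP, ← Subgroup.orderOf_coe] at this
    obtain ⟨a, ha⟩ := IsPGroup.iff_card.mp T0.2
    have ho2 : orderOf ((x : N) : G) ∣ 2 ^ a := by
      have := orderOf_dvd_natCard x
      rwa [ha, ← Subgroup.orderOf_coe, ← Subgroup.orderOf_coe] at this
    have hcop : Nat.Coprime p (2 ^ a) :=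
      Nat.Coprime.pow_right a ((Nat.coprime_primes hp Nat.prime_two).mpr (by omega))
    have h1 : orderOf ((x : N) : G) = 1 := Nat.eq_one_of_dvd_coprimes hcop ho1 ho2
    have h2 : ((x : N) : G) = 1 := orderOf_eq_one_iff.mp h1
    exact Subtype.ext (Subtype.ext h2)
  haveI : IsCyclic (ZMod (Nat.card (P : Subgroup G)))ˣ :=
    ZMod.isCyclic_units_prime (hcardP.symm ▸ hp)
  haveI : IsCyclic (MulAut (P : Subgroup G)) :=
    isCyclic_of_injective (IsCyclic.mulAutMulEquiv (P : Subgroup G)).toMonoidHom
      (IsCyclic.mulAutMulEquiv (P : Subgroup G)).injective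
  haveI hT0cyc : IsCyclic (T0 : Subgroup N) := isCyclic_of_injective g hginj
  -- transport to `G`
  let T : Subgroup G := (T0 : Subgroup N).map N.subtype
  let e : (T0 : Subgroup N) ≃* T :=
    (T0 : Subgroup N).equivMapOfInjective N.subtype N.subtype_injective
  haveI hTcyc : IsCyclic T := isCyclic_of_surjective e.toMonoidHom e.surjective
  have hcardT : Nat.card T = 2 ^ (Nat.card G).factorization 2 := by
    rw [← Nat.card_congr e.toEquiv, T0.card_eq_multiplicity]
    congr 1
    have h3 : Nat.card G = (2 * p + 1) * Nat.card N := by rw [hG, hN]; ring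
    rw [h3, Nat.factorization_mul (by omega) Nat.card_pos.ne', Finsupp.add_apply,
      Nat.factorization_eq_zero_of_not_dvd (by omega : ¬ 2 ∣ 2 * p + 1), zero_add]
  let R : Sylow 2 G := Sylow.ofCard T hcardT
  have hRT : (R : Subgroup G) = T := Sylow.coe_ofCard T hcardT
  have hRcyc : IsCyclic R := hTcyc
  have hmin : (Nat.card G).minFac = 2 := (Nat.minFac_eq_two_iff _).mpr h2
  have hNC := IsCyclic.normalizer_le_centralizer hmin hRcyc
  exact false_of_normalizer_le_centralizer hnp (by omega : (2 : ℕ) ≠ p) R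
    (Sylow.ne_bot_of_dvd_card R h2) hNC

/-- **No group has `2p+1` Sylow `p`-subgroups** (`p` odd), provided some auxiliary prime `q`
is available for a final transfer argument. -/
theorem card_sylow_ne_two_mul_add_one (p q : ℕ) [Fact p.Prime] [Fact q.Prime] (hp3 : 3 ≤ p)
    (hqp : q ≠ p)
    (hq : ∀ m, m ∣ p - 1 → Odd m → q ∣ (2 * p + 1) * p * m ∧ ¬ q ^ 2 ∣ (2 * p + 1) * p * m ∧
      Nat.Coprime ((2 * p + 1) * p * m) (q - 1))
    (G : Type u) [Group G] [Finite G] : Nat.card (Sylow p G) ≠ 2 * p + 1 := by
  apply card_sylow_ne_of_minimal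
  intro H _ _ hn hfaith hnp
  have hq' : q.Prime := Fact.out
  obtain ⟨m, hm, -, hG⟩ := card_normalizer_sylow hp3 hn hfaith hnp default
  have h2 := not_two_dvd_card hp3 hn hfaith hnp
  have hodd : Odd m := by
    rw [← Nat.not_even_iff_odd]
    intro he
    apply h2
    rw [hG]
    exact Dvd.dvd.mul_left (even_iff_two_dvd.mp he) _
  obtain ⟨hq1, hq2, hq3⟩ := hq m hm hodd
  rw [← hG] at hq1 hq2 hq3
  let R : Sylow q H := default
  have hR : Nat.card (R : Subgroup H) = q := by
    obtain ⟨j, hj⟩ := IsPGroup.iff_card.mp R.2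
    have hj1 : j ≠ 0 := by
      rintro rfl
      have := R.dvd_card_of_dvd_card hq1
      rw [hj, pow_zero] at this
      exact hq'.one_lt.ne' (Nat.dvd_one.mp this)
    have hj2 : j < 2 := by
      by_contra hcon
      apply hq2
      have h3 : q ^ 2 ∣ q ^ j := pow_dvd_pow q (by omega)
      have h4 : q ^ j ∣ Nat.card H := hj ▸ Subgroup.card_subgroup_dvd_card _
      exact h3.trans h4
    have : j = 1 := by omega
    rw [hj, this, pow_one]
  have hRne : (R : Subgroup H) ≠ ⊥ := by
    intro hb
    rw [hb, Subgroup.card_bot] at hR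
    exact hq'.one_lt.ne hR
  exact false_of_normalizer_le_centralizer hnp hqp R hRne
    (normalizer_le_centralizer_of_coprime R hR hq3)

end Cfsg.Agent.Helper21.SylNum
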