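import Mathlib
import Cfsg.Agent.Helper29.TV2Basic
import Cfsg.Agent.Helper24.TV2_DE
import Cfsg.Agent.Helper18.TV2_USPANa
import Cfsg.Agent.Helper8.TV2_SYMM
import Cfsg.Agent.Helper25.TV2_STAB3

/-! Board `tv2pieces`, row INJ (helper21, hedge; RENAMED `INJ_h21`, `INJ_cen_h21`: the official module is
`Cfsg.Agent.Helper29.TV2_INJh`): a member of `D` is determined by its row of the form `B`, and by its centre. -/

set_option autoImplicit false

namespace Cfsg.Agent.TV2

variable {P : Type*} [Group P] [Finite P] {W : Type*} [AddCommGroup W] [Module (ZMod 2) W] [Finite W]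
  [DistribMulAction P W]

omit [Finite P] [Finite W] in
theorem INJ_h21_aux_smul_mem (U : AddSubgroup W) (r : ZMod 2) {u : W} (hu : u ∈ U) : r • u ∈ U := by
  rcases zmod2_cases r with h | h
  · rw [h, zero_smul]; exact U.zero_mem
  · rw [h, one_smul]; exact hu

theorem INJ_h21 (C : Ctx P W) {d e : P} (hd : d ∈ C.D) (he : e ∈ C.D) (h : ∀ d' ∈ C.D, B W d d' = B W e d') :
    d = e := by
  have hdT : Tv W d := DE_tv C hd
  have heT : Tv W e := DE_tv C he
  have hBde : B W d e = 0 := by rw [h e he]; exact B_self heT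
  -- `r = c_d + c_e` lies in `U` and is fixed by `E`
  have hrU : cen W d + cen W e ∈ C.U := C.U.add_mem (USPAN_cen_mem C hd) (USPAN_cen_mem C he)
  have hrD : ∀ d' ∈ C.D, d' • (cen W d + cen W e) = cen W d + cen W e := by
    intro d' hd'
    have hT : Tv W d' := DE_tv C hd'
    rw [hT.fixed_iff, map_add]
    have h1 : fn W d' (cen W d) = B W d d' := (SYMM C hd hd').symm
    have h2 : fn W d' (cen W e) = B W e d' := (SYMM C he hd').symm
    rw [h1, h2, h d' hd']
    exact CharTwo.add_self_eq_zero _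
  have hrE : cen W d + cen W e ∈ fixS W C.E := by
    have hle : Subgroup.closure C.D ≤ MulAction.stabilizer P (cen W d + cen W e) := by
      rw [Subgroup.closure_le]
      intro x hx
      exact MulAction.mem_stabilizer_iff.mpr (hrD x hx)
    intro g hg
    exact MulAction.mem_stabilizer_iff.mp (hle hg)
  have hgE : d * e ∈ C.E :=
    C.E.mul_mem (Subgroup.subset_closure hd) (Subgroup.subset_closure he)
  -- `φ_d = φ_e` on `U`
  have hfn : ∀ u ∈ C.U, fn W d u = fn W e u := by
    intro u hu
    have hu' : u ∈ AddSubgroup.closure {u | ∃ d' ∈ C.D, u = cen W d'} := hu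
    clear hu
    induction hu' using AddSubgroup.closure_induction with
    | mem x hx =>
      obtain ⟨d', hd', rfl⟩ := hx
      exact h d' hd'
    | zero => rw [map_zero, map_zero]
    | add x y _ _ hx hy => rw [map_add, map_add, hx, hy]
    | neg x _ hx => rw [map_neg, map_neg, hx]
  have h1 : ∀ w : W, (d * e) • w - w ∈ C.U := fun w => USPAN_E_sub_mem C hgE w
  have h2 : ∀ u ∈ C.U, (d * e) • u - u ∈ C.U ⊓ fixS W C.E := by
    intro u hu
    have e1 : (d * e) • u - u = fn W d u • (cen W d + cen W e) := by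
      rw [Tv.mul_act hdT heT hBde, ← hfn u hu, smul_add]
      abel
    rw [e1]
    exact INJ_h21_aux_smul_mem _ _ (AddSubgroup.mem_inf.mpr ⟨hrU, hrE⟩)
  have h3 : ∀ r ∈ C.U ⊓ fixS W C.E, (d * e) • r = r := by
    intro r hr
    exact (AddSubgroup.mem_inf.mp hr).2 (d * e) hgE
  have hone : d * e = 1 := STAB3 C h1 h2 h3
  have hinv : e⁻¹ = e := Tv.inv_eq C.faith heT
  rw [← hinv]
  exact eq_inv_of_mul_eq_one_left hone

theorem INJ_cen_h21 (C : Ctx P W) {d e : P} (hd : d ∈ C.D) (he : e ∈ C.D) (h : cen W d = cen W e) : d = e := by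
  apply INJ_h21 C hd he
  intro d' hd'
  rw [SYMM C hd hd', SYMM C he hd']
  show fn W d' (cen W d) = fn W d' (cen W e)
  rw [h]

end Cfsg.Agent.TV2
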