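import Mathlib
import Cfsg.Agent.Helper21.Tight1

set_option autoImplicit false
set_option linter.style.haveILetI false

open scoped commutatorElement

namespace Cfsg.Agent.Helper21.Tight

variable {G : Type*} [Group G]

/-- Lemma D: two 2-subgroups of `Q₂` of the same order, one of them Sylow, are isomorphic. -/
theorem sylow_iso [Finite G] {Q₂ T R' : Subgroup G} (hTQ : T ≤ Q₂) (hRQ : R' ≤ Q₂)
    (hT2 : IsPGroup 2 T) (hR2 : IsPGroup 2 R') (hcard : Nat.card R' = Nat.card T)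
    (hTs : ¬ 2 ∣ T.relIndex Q₂) : Nonempty (R' ≃* T) := by
  haveI : Fact (Nat.Prime 2) := ⟨Nat.prime_two⟩
  have hRs : ¬ 2 ∣ R'.relIndex Q₂ := by
    have h1 := card_mul_relIndex' hTQ
    have h2 := card_mul_relIndex' hRQ
    rw [hcard, ← h1] at h2
    have h3 : R'.relIndex Q₂ = T.relIndex Q₂ := Nat.eq_of_mul_eq_mul_left Nat.card_pos h2
    rw [h3]; exact hTs
  have hT2' : IsPGroup 2 ↥(T.subgroupOf Q₂) :=
    hT2.of_equiv (Subgroup.subgroupOfEquivOfLe hTQ).symm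
  have hR2' : IsPGroup 2 ↥(R'.subgroupOf Q₂) :=
    hR2.of_equiv (Subgroup.subgroupOfEquivOfLe hRQ).symm
  obtain ⟨P, hP⟩ := hT2'.exists_le_sylow
  obtain ⟨P', hP'⟩ := hR2'.exists_le_sylow
  have key : ∀ (X : Subgroup G) (hXQ : X ≤ Q₂) (hXs : ¬ 2 ∣ X.relIndex Q₂) (PX : Sylow 2 ↥Q₂)
      (hle : X.subgroupOf Q₂ ≤ PX), (PX : Subgroup ↥Q₂).map Q₂.subtype = X := by
    intro X hXQ hXs PX hle
    have h2 : IsPGroup 2 ↥((PX : Subgroup ↥Q₂).map Q₂.subtype) :=
      PX.2.of_equiv ((PX : Subgroup ↥Q₂).equivMapOfInjective Q₂.subtype Q₂.subtype_injective)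
    have hle2 : (PX : Subgroup ↥Q₂).map Q₂.subtype ≤ Q₂ := by
      rintro _ ⟨y, _, rfl⟩; exact y.2
    have hXle : X ≤ (PX : Subgroup ↥Q₂).map Q₂.subtype := by
      intro y hy
      exact ⟨⟨y, hXQ hy⟩, hle (Subgroup.mem_subgroupOf.mpr hy), rfl⟩
    exact eq_of_sylow_le hXQ hXs h2 hle2 hXle
  have e1 : ↥(P : Subgroup ↥Q₂) ≃* ↥T :=
    ((P : Subgroup ↥Q₂).equivMapOfInjective Q₂.subtype Q₂.subtype_injective).trans
      (MulEquiv.subgroupCongr (key T hTQ hTs P hP))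
  have e2 : ↥(P' : Subgroup ↥Q₂) ≃* ↥R' :=
    ((P' : Subgroup ↥Q₂).equivMapOfInjective Q₂.subtype Q₂.subtype_injective).trans
      (MulEquiv.subgroupCongr (key R' hRQ hRs P' hP'))
  exact ⟨e2.symm.trans ((Sylow.equiv P' P).trans e1)⟩

/-- Lemma A. -/
theorem lemmaA [Finite G] (Q₁ Q₂ : Subgroup G)
    (P1 : ∀ u, u ∈ Q₁ → u ∈ Q₂ → orderOf u ≠ 2)
    (P2 : ∀ h u : G, orderOf u = 2 → u ∈ Q₂ → h * u * h⁻¹ ∈ Q₂ →
      h ∈ Subgroup.normalizer (Q₂ : Set G))
    (hcard : Nat.card Q₁ = Nat.card Q₂)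
    (hiso : ∀ R : Subgroup G, R ≤ Q₁ → ∃ R' : Subgroup G, R' ≤ Q₂ ∧ Nonempty (R ≃* R'))
    (T : Subgroup G) (hT1 : T ≠ ⊥) (hTQ : T ≤ Q₂) (hTN : T ≤ Subgroup.normalizer (Q₁ : Set G))
    (hT2 : IsPGroup 2 T) (hTsyl : ¬ 2 ∣ T.relIndex (Q₂ ⊓ Subgroup.normalizer (Q₁ : Set G)))
    (S : Subgroup G) (hTS : T ≤ S) (hS : S ≤ Q₁ ⊔ T) (hS2 : IsPGroup 2 S)
    (hSsyl : ¬ 2 ∣ S.relIndex (Q₁ ⊔ T)) :
    T ⊓ Q₁ = ⊥ ∧ T ⊓ (S ⊓ Subgroup.normalizer (T : Set G) ⊓ Q₁) = ⊥ ∧
    ⁅T, S ⊓ Subgroup.normalizer (T : Set G) ⊓ Q₁⁆ = ⊥ ∧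
    T ⊔ (S ⊓ Subgroup.normalizer (T : Set G) ⊓ Q₁) = S ⊓ Subgroup.normalizer (T : Set G) ∧
    (S ⊓ Subgroup.normalizer (T : Set G) ⊓ Q₁) ≤ Subgroup.normalizer (Q₂ : Set G) ∧
    Nat.card T ≤ Nat.card ↥(S ⊓ Subgroup.normalizer (T : Set G) ⊓ Q₁) ∧
    (Nat.card ↥(S ⊓ Subgroup.normalizer (T : Set G) ⊓ Q₁) = Nat.card T →
      Nonempty (↥(S ⊓ Subgroup.normalizer (T : Set G) ⊓ Q₁) ≃* T)) := by
  haveI : Fact (Nat.Prime 2) := ⟨Nat.prime_two⟩
  set R : Subgroup G := S ⊓ Subgroup.normalizer (T : Set G) ⊓ Q₁ with hRdef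
  have hRS : R ≤ S := inf_le_left.trans inf_le_left
  have hRN : R ≤ Subgroup.normalizer (T : Set G) := inf_le_left.trans inf_le_right
  have hRQ : R ≤ Q₁ := inf_le_right
  have hR2 : IsPGroup 2 R := hS2.to_le hRS
  -- (a)
  have ha : T ⊓ Q₁ = ⊥ := by
    by_contra hne
    obtain ⟨u, hu, hu2⟩ := exists_invol (hT2.to_le inf_le_left) hne
    exact P1 u (Subgroup.mem_inf.mp hu).2 (hTQ (Subgroup.mem_inf.mp hu).1) hu2
  -- (b)
  have hb : T ⊓ R = ⊥ := by
    rw [eq_bot_iff, ← ha]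
    exact inf_le_inf_left T hRQ
  -- (c)
  have hc : ⁅T, R⁆ = ⊥ := by
    rw [eq_bot_iff, ← ha, Subgroup.commutator_le]
    intro t ht r hr
    refine Subgroup.mem_inf.mpr ⟨?_, ?_⟩
    · have h1 : r * t⁻¹ * r⁻¹ ∈ T :=
        ((Subgroup.mem_normalizer_iff.mp (hRN hr)) t⁻¹).mp (inv_mem ht)
      have : ⁅t, r⁆ = t * (r * t⁻¹ * r⁻¹) := by rw [commutatorElement_def]; group
      rw [this]; exact mul_mem ht h1
    · have h1 : t * r * t⁻¹ ∈ Q₁ :=
        ((Subgroup.mem_normalizer_iff.mp (hTN ht)) r).mp (hRQ hr)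
      have : ⁅t, r⁆ = (t * r * t⁻¹) * r⁻¹ := by rw [commutatorElement_def]
      rw [this]; exact mul_mem h1 (inv_mem (hRQ hr))
  -- (d)
  have hd : T ⊔ R = S ⊓ Subgroup.normalizer (T : Set G) := by
    apply le_antisymm
    · exact sup_le (le_inf hTS Subgroup.le_normalizer) inf_le_left
    · intro x hx
      have hx1 : x ∈ T ⊔ Q₁ := by rw [sup_comm]; exact hS (Subgroup.mem_inf.mp hx).1
      rw [← SetLike.mem_coe, Subgroup.coe_mul_of_left_le_normalizer_right T Q₁ hTN] at hx1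
      obtain ⟨t, ht, q, hq, rfl⟩ := hx1
      have ht' : t ∈ T := ht
      have hq' : q ∈ Q₁ := hq
      have hqe : q = t⁻¹ * (t * q) := by group
      have hqS : q ∈ S := by
        rw [hqe]; exact mul_mem (inv_mem (hTS ht')) (Subgroup.mem_inf.mp hx).1
      have hqN : q ∈ Subgroup.normalizer (T : Set G) := by
        rw [hqe]
        exact mul_mem (inv_mem (Subgroup.le_normalizer ht')) (Subgroup.mem_inf.mp hx).2
      exact mul_mem (Subgroup.mem_sup_left ht')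
        (Subgroup.mem_sup_right (Subgroup.mem_inf.mpr ⟨Subgroup.mem_inf.mpr ⟨hqS, hqN⟩, hq'⟩))
  -- (e)
  have hcomm : ∀ t ∈ T, ∀ r ∈ R, r * t * r⁻¹ = t := by
    intro t ht r hr
    have h1 := (Subgroup.commutator_eq_bot_iff_le_centralizer.mp hc) ht
    have h2 := (Subgroup.mem_centralizer_iff.mp h1) r hr
    rw [h2]; group
  have he : R ≤ Subgroup.normalizer (Q₂ : Set G) := by
    intro r hr
    obtain ⟨u, hu, hu2⟩ := exists_invol hT2 hT1
    refine P2 r u hu2 (hTQ hu) ?_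
    rw [hcomm u hu r hr]; exact hTQ hu
  refine ⟨ha, hb, hc, hd, he, ?_⟩
  -- cardinalities
  have hbR : R ⊓ T = ⊥ := by rw [inf_comm]; exact hb
  have hcardM : Nat.card ↥(R ⊔ T) = Nat.card R * Nat.card T := card_sup_of_disjoint R T hRN hbR
  have hM : R ⊔ T = S ⊓ Subgroup.normalizer (T : Set G) := by rw [sup_comm]; exact hd
  by_cases hN : S ≤ Subgroup.normalizer (T : Set G)
  · -- Case II
    have hSN : S ⊓ Subgroup.normalizer (T : Set G) = S := inf_eq_left.mpr hN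
    have h1 : Nat.card S = Nat.card R * Nat.card T := by
      rw [← hcardM, hM, hSN]
    have h2 : Nat.card ↥(T ⊔ Q₁) = Nat.card T * Nat.card Q₁ := card_sup_of_disjoint T Q₁ hTN ha
    have h3 := card_mul_relIndex' hS
    rw [sup_comm, h2, h1] at h3
    -- h3 : card R * card T * r = card T * card Q₁
    have h4 : Nat.card R * S.relIndex (T ⊔ Q₁) = Nat.card Q₁ := by
      have : Nat.card T * (Nat.card R * S.relIndex (T ⊔ Q₁)) = Nat.card T * Nat.card Q₁ := by
        rw [← h3]; ring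
      exact Nat.eq_of_mul_eq_mul_left Nat.card_pos this
    have hodd : ¬ 2 ∣ S.relIndex (T ⊔ Q₁) := by rw [sup_comm]; exact hSsyl
    obtain ⟨b, hb'⟩ := IsPGroup.iff_card.mp hT2
    have hTdvd : Nat.card T ∣ Nat.card R := by
      have h5 : Nat.card T ∣ Nat.card Q₂ := Subgroup.card_dvd_of_le hTQ
      rw [← hcard, ← h4] at h5
      have hcop : Nat.Coprime (Nat.card T) (S.relIndex (T ⊔ Q₁)) := by
        rw [hb']
        exact Nat.Coprime.pow_left b ((Nat.prime_two.coprime_iff_not_dvd).mpr hodd)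
      exact hcop.dvd_of_dvd_mul_right h5
    refine ⟨Nat.le_of_dvd Nat.card_pos hTdvd, ?_⟩
    intro heq
    have hTs2 : ¬ 2 ∣ T.relIndex Q₂ := by
      have h6 := card_mul_relIndex' hTQ
      rw [← hcard, ← h4, heq] at h6
      have h7 : T.relIndex Q₂ = S.relIndex (T ⊔ Q₁) := Nat.eq_of_mul_eq_mul_left Nat.card_pos h6
      rw [h7]; exact hodd
    obtain ⟨R', hR'Q, ⟨e⟩⟩ := hiso R hRQ
    have hR'2 : IsPGroup 2 R' := hR2.of_equiv e
    have hc' : Nat.card R' = Nat.card T := by rw [← heq]; exact (Nat.card_congr e.toEquiv).symm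
    obtain ⟨e'⟩ := sylow_iso hTQ hR'Q hT2 hR'2 hc' hTs2
    exact ⟨e.trans e'⟩
  · -- Case I
    have hlt : (S ⊓ Subgroup.normalizer (T : Set G)).subgroupOf S < ⊤ := by
      rw [lt_top_iff_ne_top, Ne, Subgroup.subgroupOf_eq_top]
      intro h; exact hN (h.trans inf_le_right)
    haveI hnil : Group.IsNilpotent ↥S := hS2.isNilpotent
    have hnc := (Group.normalizerCondition_of_isNilpotent (G := ↥S)) _ hlt
    obtain ⟨x, hxn, hxN⟩ := SetLike.exists_of_lt hnc
    have hxS : (x : G) ∈ S := x.2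
    have hxNT : (x : G) ∉ Subgroup.normalizer (T : Set G) := by
      intro h
      exact hxN (Subgroup.mem_subgroupOf.mpr (Subgroup.mem_inf.mpr ⟨hxS, h⟩))
    have hxnorm : ∀ n ∈ S ⊓ Subgroup.normalizer (T : Set G),
        (x : G) * n * (x : G)⁻¹ ∈ S ⊓ Subgroup.normalizer (T : Set G) := by
      intro n hn
      have h1 := (Subgroup.mem_normalizer_iff.mp hxn) ⟨n, (Subgroup.mem_inf.mp hn).1⟩
      have h2 := h1.mp (Subgroup.mem_subgroupOf.mpr hn)
      exact Subgroup.mem_subgroupOf.mp h2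
    have hTle : T ≤ S ⊓ Subgroup.normalizer (T : Set G) := le_inf hTS Subgroup.le_normalizer
    -- key claim
    have K1 : ∀ τ ∈ T, (x : G) * τ * (x : G)⁻¹ ∈ T → τ = 1 := by
      set Tx : Subgroup G := T.map (MulAut.conj (x : G)).toMonoidHom with hTx
      have hD : T ⊓ Tx = ⊥ := by
        by_contra hne
        obtain ⟨v, hv, hv2⟩ := exists_invol (hT2.to_le inf_le_left) hne
        obtain ⟨hvT, hvTx⟩ := Subgroup.mem_inf.mp hv
        obtain ⟨u, hu, huv⟩ := hvTx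
        have huv' : (x : G) * u * (x : G)⁻¹ = v := by simpa using huv
        have hu2 : orderOf u = 2 := by
          rw [← hv2, ← huv]
          exact (MulEquiv.orderOf_eq (MulAut.conj (x : G)) u).symm
        have hxQ2 : (x : G) ∈ Subgroup.normalizer (Q₂ : Set G) :=
          P2 x u hu2 (hTQ hu) (by rw [huv']; exact hTQ hvT)
        have hxQ1 : (x : G) ∈ Subgroup.normalizer (Q₁ : Set G) :=
          (sup_le Subgroup.le_normalizer hTN) (hS hxS)
        have hTxQ2 : Tx ≤ Q₂ := by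
          rintro _ ⟨τ, hτ, rfl⟩
          have := ((Subgroup.mem_normalizer_iff.mp hxQ2) τ).mp (hTQ hτ)
          simpa using this
        have hTxN1 : Tx ≤ Subgroup.normalizer (Q₁ : Set G) := by
          rintro _ ⟨τ, hτ, rfl⟩
          have : (MulAut.conj (x : G)).toMonoidHom τ = (x : G) * τ * (x : G)⁻¹ := by simp
          rw [this]
          exact mul_mem (mul_mem hxQ1 (hTN hτ)) (inv_mem hxQ1)
        have hTxS : Tx ≤ S := by
          rintro _ ⟨τ, hτ, rfl⟩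
          have : (MulAut.conj (x : G)).toMonoidHom τ = (x : G) * τ * (x : G)⁻¹ := by simp
          rw [this]
          exact (Subgroup.mem_inf.mp (hxnorm τ (hTle hτ))).1
        have hU2 : IsPGroup 2 ↥(T ⊔ Tx) := hS2.to_le (sup_le hTS hTxS)
        have hUle : T ⊔ Tx ≤ Q₂ ⊓ Subgroup.normalizer (Q₁ : Set G) :=
          sup_le (le_inf hTQ hTN) (le_inf hTxQ2 hTxN1)
        have hUeq : T ⊔ Tx = T :=
          eq_of_sylow_le (le_inf hTQ hTN) hTsyl hU2 hUle le_sup_left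
        have hTxT : Tx ≤ T := by rw [← hUeq]; exact le_sup_right
        have hcardTx : Nat.card Tx = Nat.card T :=
          Subgroup.card_map_of_injective (MulAut.conj (x : G)).injective
        have hTxeq : Tx = T := Subgroup.eq_of_le_of_card_ge hTxT (le_of_eq hcardTx.symm)
        apply hxNT
        rw [Subgroup.mem_normalizer_iff]
        intro h
        constructor
        · intro hh
          have : (x : G) * h * (x : G)⁻¹ ∈ Tx := ⟨h, hh, by simp⟩
          rw [hTxeq] at this; exact this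
        · intro hh
          have : (x : G) * h * (x : G)⁻¹ ∈ Tx := by rw [hTxeq]; exact hh
          obtain ⟨τ, hτ, hτe⟩ := this
          have : τ = h := by
            have h3 : (x : G) * τ * (x : G)⁻¹ = (x : G) * h * (x : G)⁻¹ := by simpa using hτe
            have h4 := mul_right_cancel h3
            exact mul_left_cancel h4
          rw [← this]; exact hτ
      intro τ hτ hτx
      have hmem : (x : G) * τ * (x : G)⁻¹ ∈ T ⊓ Tx :=
        Subgroup.mem_inf.mpr ⟨hτx, ⟨τ, hτ, by simp⟩⟩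
      rw [hD, Subgroup.mem_bot] at hmem
      have h5 : (x : G) * τ = (x : G) := by
        have := mul_inv_eq_one.mp hmem
        exact this
      exact mul_left_cancel (a := (x : G)) (by rw [h5, mul_one])
    -- the maps
    haveI nT : (T.subgroupOf (R ⊔ T)).Normal := Subgroup.normal_subgroupOf_sup_of_le_normalizer hRN
    let φ₂ : ↥R →* ↥(R ⊔ T) ⧸ T.subgroupOf (R ⊔ T) :=
      (QuotientGroup.mk' (T.subgroupOf (R ⊔ T))).comp (Subgroup.inclusion le_sup_left)
    have hφ₂ : Function.Injective φ₂ := by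
      rw [injective_iff_map_eq_one]
      intro r hr
      have h1 : (Subgroup.inclusion (le_sup_left : R ≤ R ⊔ T) r) ∈ T.subgroupOf (R ⊔ T) :=
        (QuotientGroup.eq_one_iff _).mp hr
      have h2 : (r : G) ∈ T := Subgroup.mem_subgroupOf.mp h1
      have h3 : (r : G) ∈ T ⊓ R := Subgroup.mem_inf.mpr ⟨h2, r.2⟩
      rw [hb, Subgroup.mem_bot] at h3
      exact Subtype.ext h3
    have hcardQ : Nat.card (↥(R ⊔ T) ⧸ T.subgroupOf (R ⊔ T)) = Nat.card R := by
      have h1 := Subgroup.card_eq_card_quotient_mul_card_subgroup (T.subgroupOf (R ⊔ T))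
      rw [hcardM, Nat.card_congr (Subgroup.subgroupOfEquivOfLe (le_sup_right : T ≤ R ⊔ T)).toEquiv]
        at h1
      exact (Nat.eq_of_mul_eq_mul_right Nat.card_pos h1).symm
    have hφ₂b : Function.Bijective φ₂ :=
      hφ₂.bijective_of_nat_card_le (le_of_eq hcardQ)
    have hcmem : ∀ τ : ↥T, ((MulAut.conj (x : G)).toMonoidHom.comp T.subtype) τ ∈ R ⊔ T := by
      intro τ
      rw [hM]
      have : ((MulAut.conj (x : G)).toMonoidHom.comp T.subtype) τ = (x : G) * τ * (x : G)⁻¹ := by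
        simp
      rw [this]
      exact hxnorm τ (hTle τ.2)
    let c : ↥T →* ↥(R ⊔ T) :=
      MonoidHom.codRestrict ((MulAut.conj (x : G)).toMonoidHom.comp T.subtype) (R ⊔ T) hcmem
    let φ₁ : ↥T →* ↥(R ⊔ T) ⧸ T.subgroupOf (R ⊔ T) :=
      (QuotientGroup.mk' (T.subgroupOf (R ⊔ T))).comp c
    have hφ₁ : Function.Injective φ₁ := by
      rw [injective_iff_map_eq_one]
      intro τ hτ
      have h1 : c τ ∈ T.subgroupOf (R ⊔ T) := (QuotientGroup.eq_one_iff _).mp hτ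
      have h2 : ((c τ : ↥(R ⊔ T)) : G) ∈ T := Subgroup.mem_subgroupOf.mp h1
      have h3 : ((c τ : ↥(R ⊔ T)) : G) = (x : G) * τ * (x : G)⁻¹ := by simp [c]
      rw [h3] at h2
      exact Subtype.ext (K1 τ τ.2 h2)
    have hle : Nat.card T ≤ Nat.card R := by
      rw [← hcardQ]
      exact Nat.card_le_card_of_injective φ₁ hφ₁
    refine ⟨hle, ?_⟩
    intro heq
    have hφ₁b : Function.Bijective φ₁ :=
      hφ₁.bijective_of_nat_card_le (by rw [hcardQ, heq])
    exact ⟨(MulEquiv.ofBijective φ₂ hφ₂b).trans (MulEquiv.ofBijective φ₁ hφ₁b).symm⟩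

end Cfsg.Agent.Helper21.Tight
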