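import Mathlib
import Cfsg.Agent.Helper21.Tight2

set_option autoImplicit false
set_option linter.style.haveILetI false

open scoped commutatorElement

namespace Cfsg.Agent.Helper21.Tight

variable {G : Type*} [Group G]

/-- existence of a Sylow 2-subgroup of `X` (as a subgroup of `G`) containing a given 2-subgroup -/
theorem exists_sylow_ge [Finite G] {X R : Subgroup G} (hRX : R ≤ X) (hR2 : IsPGroup 2 R) :
    ∃ T' : Subgroup G, R ≤ T' ∧ T' ≤ X ∧ IsPGroup 2 T' ∧ ¬ 2 ∣ T'.relIndex X := by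
  haveI : Fact (Nat.Prime 2) := ⟨Nat.prime_two⟩
  have hR2' : IsPGroup 2 ↥(R.subgroupOf X) :=
    hR2.of_equiv (Subgroup.subgroupOfEquivOfLe hRX).symm
  obtain ⟨P, hP⟩ := hR2'.exists_le_sylow
  refine ⟨(P : Subgroup ↥X).map X.subtype, ?_, ?_, ?_, ?_⟩
  · intro y hy
    exact ⟨⟨y, hRX hy⟩, hP (Subgroup.mem_subgroupOf.mpr hy), rfl⟩
  · rintro _ ⟨y, _, rfl⟩; exact y.2
  · exact P.2.of_equiv ((P : Subgroup ↥X).equivMapOfInjective X.subtype X.subtype_injective)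
  · have h1 : ((P : Subgroup ↥X).map X.subtype).subgroupOf X = (P : Subgroup ↥X) :=
      Subgroup.comap_map_eq_self_of_injective X.subtype_injective _
    rw [Subgroup.relIndex, h1]
    exact P.not_dvd_index

/-- The main theorem (subgroup form of S1910). -/
theorem main [Finite G] (Q : Subgroup G) (hQ : Cfsg.IsTightlyEmbedded Q)
    (g : G) (hg : g ∉ Subgroup.normalizer (Q : Set G))
    (T : Subgroup G) (hT1 : T ≠ ⊥)
    (hT : T ≤ Q.map (MulAut.conj g).toMonoidHom ⊓ Subgroup.normalizer (Q : Set G))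
    (hTsyl : IsPGroup 2 T ∧
      ¬ 2 ∣ T.relIndex (Q.map (MulAut.conj g).toMonoidHom ⊓ Subgroup.normalizer (Q : Set G)))
    (S : Subgroup G) (hTS : T ≤ S) (hS : S ≤ Q ⊔ T)
    (hSsyl : IsPGroup 2 S ∧ ¬ 2 ∣ S.relIndex (Q ⊔ T)) :
    T ⊓ Q = ⊥ ∧
      T ⊓ (S ⊓ Subgroup.normalizer (T : Set G) ⊓ Q) = ⊥ ∧
      ⁅T, S ⊓ Subgroup.normalizer (T : Set G) ⊓ Q⁆ = ⊥ ∧
      T ⊔ (S ⊓ Subgroup.normalizer (T : Set G) ⊓ Q) = S ⊓ Subgroup.normalizer (T : Set G) ∧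
      Nonempty (↥(S ⊓ Subgroup.normalizer (T : Set G) ⊓ Q) ≃* T) := by
  haveI : Fact (Nat.Prime 2) := ⟨Nat.prime_two⟩
  set Q₂ : Subgroup G := Q.map (MulAut.conj g).toMonoidHom with hQ₂
  have hTQ : T ≤ Q₂ := hT.trans inf_le_left
  have hTN : T ≤ Subgroup.normalizer (Q : Set G) := hT.trans inf_le_right
  have hcard : Nat.card Q = Nat.card Q₂ :=
    (Subgroup.card_map_of_injective (MulAut.conj g).injective).symm
  have P1 : ∀ u, u ∈ Q → u ∈ Q₂ → orderOf u ≠ 2 := fun u h1 h2 => te_no_invol hQ hg h1 h2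
  have P2 : ∀ h u : G, orderOf u = 2 → u ∈ Q₂ → h * u * h⁻¹ ∈ Q₂ →
      h ∈ Subgroup.normalizer (Q₂ : Set G) := fun h u hu h1 h2 => te_invol_cj hQ g hu h1 h2
  have hiso : ∀ R : Subgroup G, R ≤ Q → ∃ R' : Subgroup G, R' ≤ Q₂ ∧ Nonempty (R ≃* R') := by
    intro R hR
    exact ⟨R.map (MulAut.conj g).toMonoidHom, Subgroup.map_mono hR,
      ⟨R.equivMapOfInjective _ (MulAut.conj g).injective⟩⟩
  obtain ⟨ha, hb, hc, hd, he, hf, hgg⟩ := lemmaA Q Q₂ P1 P2 hcard hiso T hT1 hTQ hTN hTsyl.1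
    hTsyl.2 S hTS hS hSsyl.1 hSsyl.2
  refine ⟨ha, hb, hc, hd, ?_⟩
  apply hgg
  apply le_antisymm _ hf
  -- Lemma B
  set R : Subgroup G := S ⊓ Subgroup.normalizer (T : Set G) ⊓ Q with hRdef
  have hR2 : IsPGroup 2 R := hSsyl.1.to_le (inf_le_left.trans inf_le_left)
  have hRX : R ≤ Q ⊓ Subgroup.normalizer (Q₂ : Set G) := le_inf inf_le_right he
  obtain ⟨T', hRT', hT'X, hT'2, hT'syl⟩ := exists_sylow_ge hRX hR2
  have hT'1 : T' ≠ ⊥ := by
    intro h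
    have h1 : Nat.card T' = 1 := by rw [h]; exact Subgroup.card_bot
    have h2 : Nat.card R ≤ 1 := by rw [← h1]; exact Subgroup.card_le_of_le hRT'
    have h3 : Nat.card T = 1 := le_antisymm (hf.trans h2) Nat.card_pos
    exact hT1 (Subgroup.card_eq_one.mp h3)
  have hT'S : T' ≤ Q₂ ⊔ T' := le_sup_right
  obtain ⟨S', hT'S', hS'le, hS'2, hS'syl⟩ := exists_sylow_ge hT'S hT'2
  have P1' : ∀ u, u ∈ Q₂ → u ∈ Q → orderOf u ≠ 2 := fun u h1 h2 => P1 u h2 h1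
  have P2' : ∀ h u : G, orderOf u = 2 → u ∈ Q → h * u * h⁻¹ ∈ Q →
      h ∈ Subgroup.normalizer (Q : Set G) := fun h u hu h1 h2 => te_invol hQ hu h1 h2
  have hiso' : ∀ R : Subgroup G, R ≤ Q₂ → ∃ R' : Subgroup G, R' ≤ Q ∧ Nonempty (R ≃* R') := by
    intro R₀ hR₀
    refine ⟨R₀.map (MulAut.conj g⁻¹).toMonoidHom, ?_,
      ⟨R₀.equivMapOfInjective _ (MulAut.conj g⁻¹).injective⟩⟩
    rintro _ ⟨r, hr, rfl⟩
    have := mem_cj.mp (hR₀ hr)
    simpa using this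
  obtain ⟨_, _, _, _, he', hf', _⟩ := lemmaA Q₂ Q P1' P2' hcard.symm hiso' T' hT'1
    (hT'X.trans inf_le_left) (hT'X.trans inf_le_right) hT'2 hT'syl S' hT'S' hS'le hS'2 hS'syl
  set R' : Subgroup G := S' ⊓ Subgroup.normalizer (T' : Set G) ⊓ Q₂ with hR'def
  have hR'2 : IsPGroup 2 R' := hS'2.to_le (inf_le_left.trans inf_le_left)
  have hR'Y : R' ≤ Q₂ ⊓ Subgroup.normalizer (Q : Set G) := le_inf inf_le_right he'
  have h1 : Nat.card R' ≤ Nat.card T :=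
    Nat.le_of_dvd Nat.card_pos (two_group_card_dvd hT hTsyl.2 hR'2 hR'Y)
  exact (Subgroup.card_le_of_le hRT').trans (hf'.trans h1)

end Cfsg.Agent.Helper21.Tight
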