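import Cfsg.Agent.Helper21.UJ1

/-!
# The norm fibration on the centraliser of a unitary matrix (helper21)

For a unitary matrix `u`, the map `g ↦ g* g` from the centraliser of `u` in `GL` onto the
invertible Hermitian matrices commuting with `u` is surjective with fibres the cosets of the
unitary centraliser.
-/

set_option autoImplicit false
set_option linter.unusedSectionVars false

namespace Cfsg.Agent.Helper21.UC

open Matrix Cfsg.Agent.Helper21.NS Cfsg.Agent.Helper21.UJ

variable {K : Type*} [Field K] {n : Type*} [Fintype n] [DecidableEq n] (σ : K →+* K)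

/-- conjugate transpose on `GL` -/
def cstarU (g : GL n K) : GL n K :=
  ⟨cstar σ (g : Matrix n n K), cstar σ ((g⁻¹ : GL n K) : Matrix n n K),
    by rw [← cstar_mul, ← Units.val_mul, inv_mul_cancel, Units.val_one, cstar_one],
    by rw [← cstar_mul, ← Units.val_mul, mul_inv_cancel, Units.val_one, cstar_one]⟩

theorem cstarU_coe (g : GL n K) : ((cstarU σ g : GL n K) : Matrix n n K) = cstar σ g := rfl

theorem cstarU_mul (g h : GL n K) : cstarU σ (g * h) = cstarU σ h * cstarU σ g := by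
  apply Units.ext
  rw [Units.val_mul, cstarU_coe, cstarU_coe, cstarU_coe, Units.val_mul, cstar_mul]

theorem cstarU_one : cstarU σ (1 : GL n K) = 1 := by
  apply Units.ext
  rw [cstarU_coe, Units.val_one, cstar_one]

theorem cstarU_inv (g : GL n K) : cstarU σ g⁻¹ = (cstarU σ g)⁻¹ := by
  rw [eq_inv_iff_mul_eq_one, ← cstarU_mul, mul_inv_cancel, cstarU_one]

theorem cstarU_cstarU (hσ2 : ∀ a, σ (σ a) = a) (g : GL n K) : cstarU σ (cstarU σ g) = g := by
  apply Units.ext
  rw [cstarU_coe, cstarU_coe, cstar_cstar σ hσ2]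

variable (u : GL n K)

/-- the centraliser of `u` in `GL` -/
def CG : Type _ := {g : GL n K // g * u = u * g}

/-- the unitary centraliser of `u` -/
def CU : Type _ := {g : GL n K // cstarU σ g * g = 1 ∧ g * u = u * g}

/-- invertible Hermitian matrices commuting with `u` -/
def SH : Type _ := {H : GL n K // cstarU σ H = H ∧ H * u = u * H}

variable {σ u}

theorem cstarU_comm (hu : cstarU σ u * u = 1) {g : GL n K}
    (hg : g * u = u * g) : cstarU σ g * u = u * cstarU σ g := by
  have hu' : cstarU σ u = u⁻¹ := eq_inv_of_mul_eq_one_left hu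
  have h1 := congrArg (cstarU σ) hg
  rw [cstarU_mul, cstarU_mul, hu'] at h1
  -- u⁻¹ * g* = g* * u⁻¹
  calc cstarU σ g * u = u * (u⁻¹ * cstarU σ g) * u := by group
    _ = u * (cstarU σ g * u⁻¹) * u := by rw [h1]
    _ = u * cstarU σ g := by group

/-- the norm fibration -/
theorem card_CG [Finite K] (hσ2 : ∀ a, σ (σ a) = a) (ξ0 : K) (hξ0 : σ ξ0 ≠ ξ0)
    (hu : cstarU σ u * u = 1) :
    Nat.card (CG u) = Nat.card (CU σ u) * Nat.card (SH σ u) := by
  classical
  -- a section of the norm map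
  have hsec : ∀ H : SH σ u, ∃ c : GL n K, cstarU σ c * c = H.1 ∧ c * u = u * c := by
    rintro ⟨H, hHs, hHu⟩
    have hHs' : cstar σ (H : Matrix n n K) = H := congrArg Units.val hHs
    obtain ⟨c, hc, hcA⟩ := exists_norm_commuting σ hσ2 ξ0 hξ0 (H : Matrix n n K)
      ((H⁻¹ : GL n K) : Matrix n n K)
      (by rw [← Units.val_mul, mul_inv_cancel, Units.val_one])
      (by rw [← Units.val_mul, inv_mul_cancel, Units.val_one]) hHs'
    have hc1 : (((H⁻¹ : GL n K) : Matrix n n K) * cstar σ c) * c = 1 := by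
      rw [Matrix.mul_assoc, hc, ← Units.val_mul, inv_mul_cancel, Units.val_one]
    have hc2 : c * (((H⁻¹ : GL n K) : Matrix n n K) * cstar σ c) = 1 := mul_eq_one_comm.1 hc1
    refine ⟨⟨c, _, hc2, hc1⟩, ?_, ?_⟩
    · apply Units.ext
      rw [Units.val_mul, cstarU_coe]
      exact hc
    · apply Units.ext
      rw [Units.val_mul, Units.val_mul]
      have h1 : (u : Matrix n n K) * H = H * u := by
        rw [← Units.val_mul, ← Units.val_mul, hHu]
      exact (hcA _ h1).symm
  choose s hs1 hs2 using hsec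
  rw [← Nat.card_prod]
  apply Nat.card_congr
  have hN : ∀ g : GL n K, g * u = u * g →
      cstarU σ (cstarU σ g * g) = cstarU σ g * g ∧ (cstarU σ g * g) * u = u * (cstarU σ g * g) := by
    intro g hg
    constructor
    · rw [cstarU_mul, cstarU_cstarU σ hσ2]
    · rw [mul_assoc, hg, ← mul_assoc, cstarU_comm hu hg, mul_assoc]
  refine
    { toFun := fun g => (⟨g.1 * (s ⟨cstarU σ g.1 * g.1, hN g.1 g.2⟩)⁻¹, ?_, ?_⟩,
        ⟨cstarU σ g.1 * g.1, hN g.1 g.2⟩)
      invFun := fun x => ⟨x.1.1 * s x.2, ?_⟩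
      left_inv := ?_
      right_inv := ?_ }
  · -- unitarity
    have h1 := hs1 ⟨cstarU σ g.1 * g.1, hN g.1 g.2⟩
    simp only at h1
    obtain ⟨t, ht⟩ : ∃ t : GL n K, t = s ⟨cstarU σ g.1 * g.1, hN g.1 g.2⟩ := ⟨_, rfl⟩
    rw [← ht] at h1 ⊢
    rw [cstarU_mul, cstarU_inv]
    calc (cstarU σ t)⁻¹ * cstarU σ g.1 * (g.1 * t⁻¹)
        = (cstarU σ t)⁻¹ * (cstarU σ g.1 * g.1) * t⁻¹ := by group
      _ = 1 := by rw [← h1]; group
  · -- commutes with u
    have h2 := hs2 ⟨cstarU σ g.1 * g.1, hN g.1 g.2⟩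
    obtain ⟨t, ht⟩ : ∃ t : GL n K, t = s ⟨cstarU σ g.1 * g.1, hN g.1 g.2⟩ := ⟨_, rfl⟩
    rw [← ht] at h2 ⊢
    have h3 : t⁻¹ * u = u * t⁻¹ := by
      calc t⁻¹ * u = t⁻¹ * (u * t) * t⁻¹ := by group
        _ = t⁻¹ * (t * u) * t⁻¹ := by rw [h2]
        _ = u * t⁻¹ := by group
    rw [mul_assoc, h3, ← mul_assoc, g.2, mul_assoc]
  · rw [mul_assoc, hs2 x.2, ← mul_assoc, x.1.2.2, mul_assoc]
  · intro g
    apply Subtype.ext
    simp only
    group
  · rintro ⟨⟨x, hx1, hx2⟩, H⟩
    have hH : cstarU σ (x * s H) * (x * s H) = H.1 := by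
      rw [cstarU_mul]
      calc cstarU σ (s H) * cstarU σ x * (x * s H)
          = cstarU σ (s H) * (cstarU σ x * x) * s H := by group
        _ = H.1 := by rw [hx1, mul_one, hs1 H]
    have hH' : (⟨cstarU σ (x * s H) * (x * s H), hN _ (by
        rw [mul_assoc, hs2 H, ← mul_assoc, hx2, mul_assoc])⟩ : SH σ u) = H := Subtype.ext hH
    apply Prod.ext
    · apply Subtype.ext
      simp only
      rw [hH']
      group
    · exact hH'

end Cfsg.Agent.Helper21.UC
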