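import Cfsg.Agent.Helper21.UC1
import Cfsg.Agent.Helper21.Jordan5

/-!
# Invariant Hermitian forms: transfer along conjugation, reindexing and the Cayley transform
(helper21)
-/

set_option autoImplicit false
set_option linter.unusedSectionVars false

namespace Cfsg.Agent.Helper21.UC

open Matrix Cfsg.Agent.Helper21.NS Cfsg.Agent.Helper21.UJ Cfsg.Agent.Helper21.Jordan

variable {K : Type*} [Field K] {n : Type*} [Fintype n] [DecidableEq n]
  {n' : Type*} [Fintype n'] [DecidableEq n'] (σ : K →+* K)

/-- invertible Hermitian forms invariant under `M` -/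
abbrev SF (M : Matrix n n K) : Type _ :=
  {H : GL n K // cstarU σ H = H ∧ cstar σ M * (H : Matrix n n K) * M = H}

/-- invertible Hermitian forms for which `W` is skew-adjoint -/
abbrev SK (W : Matrix n n K) : Type _ :=
  {H : GL n K // cstarU σ H = H ∧ cstar σ W * (H : Matrix n n K) + (H : Matrix n n K) * W = 0}

variable {σ}

/-- for a unitary matrix, commuting Hermitian matrices are the invariant Hermitian forms -/
def shEquivSF (u : GL n K) (hu : cstarU σ u * u = 1) : SH σ u ≃ SF σ (u : Matrix n n K) :=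
  Equiv.subtypeEquivRight (fun H => by
    have hu' : cstar σ (u : Matrix n n K) * (u : Matrix n n K) = 1 := by
      have := congrArg Units.val hu
      rwa [Units.val_mul, cstarU_coe, Units.val_one] at this
    have hu'' : (u : Matrix n n K) * cstar σ (u : Matrix n n K) = 1 := mul_eq_one_comm.1 hu'
    constructor
    · rintro ⟨h1, h2⟩
      refine ⟨h1, ?_⟩
      have h3 : (H : Matrix n n K) * u = u * H := by
        rw [← Units.val_mul, ← Units.val_mul, h2]
      rw [Matrix.mul_assoc, h3, ← Matrix.mul_assoc, hu', Matrix.one_mul]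
    · rintro ⟨h1, h2⟩
      refine ⟨h1, ?_⟩
      apply Units.ext
      rw [Units.val_mul, Units.val_mul]
      calc (H : Matrix n n K) * u = (u * cstar σ (u : Matrix n n K)) * H * u := by
            rw [hu'', Matrix.one_mul]
        _ = u * (cstar σ (u : Matrix n n K) * H * u) := by simp only [Matrix.mul_assoc]
        _ = u * H := by rw [h2])

theorem inv_conj_iff {g ginv : Matrix n n K} (h1 : g * ginv = 1) (h2 : ginv * g = 1)
    (M H : Matrix n n K) :
    cstar σ (g * M * ginv) * H * (g * M * ginv) = H ↔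
      cstar σ M * (cstar σ g * H * g) * M = cstar σ g * H * g := by
  have e1 : cstar σ g * cstar σ ginv = 1 := by rw [← cstar_mul, h2, cstar_one]
  have e2 : cstar σ ginv * cstar σ g = 1 := by rw [← cstar_mul, h1, cstar_one]
  constructor
  · intro h
    calc cstar σ M * (cstar σ g * H * g) * M
        = (cstar σ g * cstar σ ginv) * cstar σ M * cstar σ g * H * g * M * (ginv * g) := by
          rw [e1, h2, Matrix.one_mul, Matrix.mul_one]
          simp only [Matrix.mul_assoc]
      _ = cstar σ g * (cstar σ (g * M * ginv) * H * (g * M * ginv)) * g := by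
          rw [cstar_mul, cstar_mul]
          simp only [Matrix.mul_assoc]
      _ = cstar σ g * H * g := by rw [h]
  · intro h
    calc cstar σ (g * M * ginv) * H * (g * M * ginv)
        = cstar σ ginv * (cstar σ M * (cstar σ g * H * g) * M) * ginv := by
          rw [cstar_mul, cstar_mul]
          simp only [Matrix.mul_assoc]
      _ = cstar σ ginv * (cstar σ g * H * g) * ginv := by rw [h]
      _ = (cstar σ ginv * cstar σ g) * H * (g * ginv) := by simp only [Matrix.mul_assoc]
      _ = H := by rw [e2, h1, Matrix.one_mul, Matrix.mul_one]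

/-- transfer along a conjugation -/
def sfConj (hσ2 : ∀ a, σ (σ a) = a) (M : Matrix n n K) (g : GL n K) :
    SF σ ((g : Matrix n n K) * M * ((g⁻¹ : GL n K) : Matrix n n K)) ≃ SF σ M where
  toFun H := ⟨cstarU σ g * H.1 * g, by
    constructor
    · rw [cstarU_mul, cstarU_mul, cstarU_cstarU σ hσ2, H.2.1]
      exact (mul_assoc _ _ _).symm
    · have h := (inv_conj_iff (σ := σ) (g := (g : Matrix n n K))
        (ginv := ((g⁻¹ : GL n K) : Matrix n n K))
        (by rw [← Units.val_mul, mul_inv_cancel, Units.val_one])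
        (by rw [← Units.val_mul, inv_mul_cancel, Units.val_one]) M (H.1 : Matrix n n K)).1 H.2.2
      rw [Units.val_mul, Units.val_mul, cstarU_coe]
      exact h⟩
  invFun H := ⟨cstarU σ g⁻¹ * H.1 * g⁻¹, by
    constructor
    · rw [cstarU_mul, cstarU_mul, cstarU_cstarU σ hσ2, H.2.1]
      exact (mul_assoc _ _ _).symm
    · have hg1 : (g : Matrix n n K) * ((g⁻¹ : GL n K) : Matrix n n K) = 1 := by
        rw [← Units.val_mul, mul_inv_cancel, Units.val_one]
      have hg2 : ((g⁻¹ : GL n K) : Matrix n n K) * (g : Matrix n n K) = 1 := by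
        rw [← Units.val_mul, inv_mul_cancel, Units.val_one]
      rw [inv_conj_iff hg1 hg2]
      have e : cstar σ (g : Matrix n n K) *
          ((cstarU σ g⁻¹ * H.1 * g⁻¹ : GL n K) : Matrix n n K) * (g : Matrix n n K)
          = (H.1 : Matrix n n K) := by
        rw [Units.val_mul, Units.val_mul, cstarU_coe]
        have e1 : cstar σ (g : Matrix n n K) * cstar σ ((g⁻¹ : GL n K) : Matrix n n K) = 1 := by
          rw [← cstar_mul, hg2, cstar_one]
        calc cstar σ (g : Matrix n n K) * (cstar σ ((g⁻¹ : GL n K) : Matrix n n K) * (H.1 : Matrix n n K)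
              * ((g⁻¹ : GL n K) : Matrix n n K)) * (g : Matrix n n K)
            = (cstar σ (g : Matrix n n K) * cstar σ ((g⁻¹ : GL n K) : Matrix n n K)) * (H.1 : Matrix n n K)
              * (((g⁻¹ : GL n K) : Matrix n n K) * (g : Matrix n n K)) := by
              simp only [Matrix.mul_assoc]
          _ = (H.1 : Matrix n n K) := by rw [e1, hg2, Matrix.one_mul, Matrix.mul_one]
      rw [e]
      exact H.2.2⟩
  left_inv H := by
    apply Subtype.ext
    simp only
    rw [cstarU_inv]
    group
  right_inv H := by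
    apply Subtype.ext
    simp only
    rw [cstarU_inv]
    group

theorem cstar_reindex (e : n ≃ n') (M : Matrix n n K) :
    cstar σ (Matrix.reindex e e M) = Matrix.reindex e e (cstar σ M) := by
  ext i j
  simp [cstar]

/-- reindexing as a group isomorphism of general linear groups -/
def reindexGL (K : Type*) [Field K] (e : n ≃ n') : GL n K ≃* GL n' K :=
  Units.mapEquiv (Matrix.reindexAlgEquiv K K e).toMulEquiv

theorem reindexGL_coe (e : n ≃ n') (g : GL n K) :
    ((reindexGL K e g : GL n' K) : Matrix n' n' K) = Matrix.reindex e e (g : Matrix n n K) := rfl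

theorem reindex_mul' (e : n ≃ n') (A B : Matrix n n K) :
    Matrix.reindex e e (A * B) = Matrix.reindex e e A * Matrix.reindex e e B := by
  simp only [Matrix.reindex_apply, Matrix.submatrix_mul_equiv]

theorem cstarU_reindexGL (e : n ≃ n') (g : GL n K) :
    cstarU σ (reindexGL K e g) = reindexGL K e (cstarU σ g) := by
  apply Units.ext
  rw [cstarU_coe, reindexGL_coe, reindexGL_coe, cstarU_coe, cstar_reindex]

/-- transfer along a reindexing -/
def sfReindex (e : n ≃ n') (M : Matrix n n K) : SF σ M ≃ SF σ (Matrix.reindex e e M) :=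
  Equiv.subtypeEquiv (reindexGL K e).toEquiv (fun H => by
    show _ ↔ cstarU σ (reindexGL K e H) = reindexGL K e H ∧
      cstar σ (Matrix.reindex e e M) * ((reindexGL K e H : GL n' K) : Matrix n' n' K)
        * Matrix.reindex e e M = ((reindexGL K e H : GL n' K) : Matrix n' n' K)
    rw [cstarU_reindexGL, reindexGL_coe, cstar_reindex, ← reindex_mul', ← reindex_mul']
    constructor
    · rintro ⟨h1, h2⟩
      exact ⟨by rw [h1], by rw [h2]⟩
    · rintro ⟨h1, h2⟩
      exact ⟨(reindexGL K e).injective h1, (Matrix.reindex e e).injective h2⟩)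

/-- the Cayley transform turns invariance into skew-adjointness -/
theorem cayley_iff (μ : K) (hμ : μ + σ μ = 1) (hσ2 : ∀ a, σ (σ a) = a) (W V H : Matrix n n K)
    (hV1 : (1 - σ μ • W) * V = 1) (hV2 : V * (1 - σ μ • W) = 1) :
    cstar σ ((1 + μ • W) * V) * H * ((1 + μ • W) * V) = H ↔ cstar σ W * H + H * W = 0 := by
  have e1 : cstar σ (1 - σ μ • W) * cstar σ V = 1 := by rw [← cstar_mul, hV2, cstar_one]
  have e2 : cstar σ V * cstar σ (1 - σ μ • W) = 1 := by rw [← cstar_mul, hV1, cstar_one]
  have hQ : cstar σ (1 + μ • W) = 1 + σ μ • cstar σ W := by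
    rw [cstar_add, cstar_one, cstar_smul]
  have hP : cstar σ (1 - σ μ • W) = 1 - μ • cstar σ W := by
    rw [cstar_sub, cstar_one, cstar_smul, hσ2]
  have key : cstar σ (1 + μ • W) * H * (1 + μ • W)
      - cstar σ (1 - σ μ • W) * H * (1 - σ μ • W) = cstar σ W * H + H * W := by
    rw [hQ, hP]
    simp only [Matrix.add_mul, Matrix.mul_add, Matrix.sub_mul, Matrix.mul_sub, Matrix.one_mul,
      Matrix.mul_one, Matrix.smul_mul, Matrix.mul_smul]
    have h1 : cstar σ W * H + H * W = (μ + σ μ) • (cstar σ W * H) + (μ + σ μ) • (H * W) := by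
      rw [hμ, one_smul, one_smul]
    rw [h1]
    module
  constructor
  · intro h
    rw [← key, sub_eq_zero]
    calc cstar σ (1 + μ • W) * H * (1 + μ • W)
        = (cstar σ (1 - σ μ • W) * cstar σ V) * cstar σ (1 + μ • W) * H * (1 + μ • W)
            * (V * (1 - σ μ • W)) := by rw [e1, hV2, Matrix.one_mul, Matrix.mul_one]
      _ = cstar σ (1 - σ μ • W) * (cstar σ ((1 + μ • W) * V) * H * ((1 + μ • W) * V))
            * (1 - σ μ • W) := by
          rw [cstar_mul]
          simp only [Matrix.mul_assoc]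
      _ = cstar σ (1 - σ μ • W) * H * (1 - σ μ • W) := by rw [h]
  · intro h
    rw [← key, sub_eq_zero] at h
    calc cstar σ ((1 + μ • W) * V) * H * ((1 + μ • W) * V)
        = cstar σ V * (cstar σ (1 + μ • W) * H * (1 + μ • W)) * V := by
          rw [cstar_mul]
          simp only [Matrix.mul_assoc]
      _ = cstar σ V * (cstar σ (1 - σ μ • W) * H * (1 - σ μ • W)) * V := by rw [h]
      _ = (cstar σ V * cstar σ (1 - σ μ • W)) * H * ((1 - σ μ • W) * V) := by
          simp only [Matrix.mul_assoc]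
      _ = H := by rw [e2, hV1, Matrix.one_mul, Matrix.mul_one]

/-- invariant forms of the Cayley transform -/
def sfCayley (μ : K) (hμ : μ + σ μ = 1) (hσ2 : ∀ a, σ (σ a) = a) (W V : Matrix n n K)
    (hV1 : (1 - σ μ • W) * V = 1) (hV2 : V * (1 - σ μ • W) = 1) :
    SF σ ((1 + μ • W) * V) ≃ SK σ W :=
  Equiv.subtypeEquivRight (fun H => by
    rw [cayley_iff μ hμ hσ2 W V (H : Matrix n n K) hV1 hV2])

/-- an intertwining linear equivalence gives a conjugating matrix -/
theorem exists_gl_of_intertwine (A B : Matrix n n K) (φ : (n → K) ≃ₗ[K] (n → K))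
    (hφ : ∀ x, φ (toLin' A x) = toLin' B (φ x)) :
    ∃ g : GL n K, (g : Matrix n n K) * A = B * (g : Matrix n n K) := by
  let Φ := LinearMap.toMatrix' φ.toLinearMap
  let Φi := LinearMap.toMatrix' φ.symm.toLinearMap
  have h1 : Φ * Φi = 1 := by
    rw [← LinearMap.toMatrix'_comp]
    simp
  have h2 : Φi * Φ = 1 := by
    rw [← LinearMap.toMatrix'_comp]
    simp
  refine ⟨⟨Φ, Φi, h1, h2⟩, ?_⟩
  show Φ * A = B * Φ
  apply Matrix.toLin'.injective
  rw [Matrix.toLin'_mul, Matrix.toLin'_mul]
  simp only [Φ, Matrix.toLin'_toMatrix']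
  apply LinearMap.ext
  intro x
  exact hφ x

/-- `1 + W` and `1 + W V` are conjugate when `V` is a unit commuting with the nilpotent `W` -/
theorem conj_mul_unit (W V Vinv : Matrix n n K) (hW : IsNilpotent W) (h1 : V * Vinv = 1)
    (hc : W * V = V * W) :
    ∃ g : GL n K, (g : Matrix n n K) * (1 + W) = (1 + W * V) * (g : Matrix n n K) := by
  have hcomm : Commute W V := hc
  have hpow : ∀ k : ℕ, (W * V) ^ k = W ^ k * V ^ k := fun k => hcomm.mul_pow k
  have hT1 : IsNilpotent (toLin' W) := by
    obtain ⟨N, hN⟩ := hW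
    exact ⟨N, by rw [← Matrix.toLin'_pow, hN, map_zero]⟩
  have hT2 : IsNilpotent (toLin' (W * V)) := by
    obtain ⟨N, hN⟩ := hW
    exact ⟨N, by rw [← Matrix.toLin'_pow, hpow, hN, Matrix.zero_mul, map_zero]⟩
  have hJ1 := jordanType_spec _ hT1
  have hJ2 := jordanType_spec _ hT2
  have hrange : ∀ k : ℕ, LinearMap.range (toLin' (W * V) ^ k) = LinearMap.range (toLin' W ^ k) := by
    intro k
    rw [← Matrix.toLin'_pow, ← Matrix.toLin'_pow, hpow, Matrix.toLin'_mul]
    apply LinearMap.range_comp_of_range_eq_top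
    rw [LinearMap.range_eq_top]
    intro y
    refine ⟨toLin' (Vinv ^ k) y, ?_⟩
    have h2 : Vinv * V = 1 := mul_eq_one_comm.1 h1
    have hk : V ^ k * Vinv ^ k = 1 := by
      have := Units.mul_inv ((⟨V, Vinv, h1, h2⟩ : (Matrix n n K)ˣ) ^ k)
      rw [← inv_pow, Units.val_pow_eq_pow_val, Units.val_pow_eq_pow_val] at this
      exact this
    rw [← LinearMap.comp_apply, ← Matrix.toLin'_mul, hk, Matrix.toLin'_one]
    rfl
  have heq : jordanType (toLin' W) = jordanType (toLin' (W * V)) := by
    apply eq_of_subSum_eq _ _ hJ1.zero_notMem hJ2.zero_notMem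
    intro k
    rw [← hJ1.finrank_range_pow k, ← hJ2.finrank_range_pow k, hrange k]
  rw [← heq] at hJ2
  obtain ⟨φ, hφ⟩ := hJ1.exists_conj hJ2
  obtain ⟨g, hg⟩ := exists_gl_of_intertwine W (W * V) φ hφ
  refine ⟨g, ?_⟩
  rw [Matrix.mul_add, Matrix.add_mul, Matrix.mul_one, Matrix.one_mul, hg]

/-- the number of invertible Hermitian matrices commuting with a unitary unipotent `u` equals
the number of invertible Hermitian forms making the nilpotent part of a conjugate skew-adjoint -/
theorem card_SH_eq_card_SK (hσ2 : ∀ a, σ (σ a) = a) (ξ0 : K) (hξ0 : σ ξ0 ≠ ξ0) (e : n ≃ n')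
    (W : Matrix n n K) (hW : IsNilpotent W) (u : GL n' K) (hu : cstarU σ u * u = 1)
    (hconj : IsConj (Matrix.reindex e e (1 + W)) (u : Matrix n' n' K)) :
    Nat.card (SH σ u) = Nat.card (SK σ W) := by
  obtain ⟨μ, hμ⟩ := exists_mu σ hσ2 ξ0 hξ0
  have hnil : IsNilpotent (σ μ • W) := by
    obtain ⟨N, hN⟩ := hW
    exact ⟨N, by rw [smul_pow, hN, smul_zero]⟩
  obtain ⟨⟨P, V, hPV, hVP⟩, hP⟩ := hnil.isUnit_one_sub
  simp only at hP
  rw [hP] at hPV hVP
  have hcV : W * V = V * W := by
    have hcc : W * (1 - σ μ • W) = (1 - σ μ • W) * W := by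
      rw [Matrix.mul_sub, Matrix.sub_mul, Matrix.mul_one, Matrix.one_mul, Matrix.mul_smul,
        Matrix.smul_mul]
    calc W * V = (V * (1 - σ μ • W)) * (W * V) := by rw [hVP, Matrix.one_mul]
      _ = V * ((1 - σ μ • W) * W) * V := by simp only [Matrix.mul_assoc]
      _ = V * (W * (1 - σ μ • W)) * V := by rw [hcc]
      _ = V * W * ((1 - σ μ • W) * V) := by simp only [Matrix.mul_assoc]
      _ = V * W := by rw [hPV, Matrix.mul_one]
  have hcay : (1 + μ • W) * V = 1 + W * V := by
    have h1 : (1 + μ • W) * V - 1 = W * V := by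
      calc (1 + μ • W) * V - 1 = (1 + μ • W) * V - (1 - σ μ • W) * V := by rw [hPV]
        _ = ((μ + σ μ) • W) * V := by
            rw [← Matrix.sub_mul]
            congr 1
            module
        _ = W * V := by rw [hμ, one_smul]
    rw [← h1]
    abel
  obtain ⟨g1, hg1⟩ := conj_mul_unit W V (1 - σ μ • W) hW hVP hcV
  obtain ⟨c, hc⟩ := hconj
  have hc' : (c : Matrix n' n' K) * Matrix.reindex e e (1 + W)
      = (u : Matrix n' n' K) * (c : Matrix n' n' K) := hc
  have hu_eq : (u : Matrix n' n' K)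
      = (c : Matrix n' n' K) * Matrix.reindex e e (1 + W) * ((c⁻¹ : GL n' K) : Matrix n' n' K) := by
    rw [hc', Matrix.mul_assoc, ← Units.val_mul, mul_inv_cancel, Units.val_one, Matrix.mul_one]
  have hJ_eq : (1 + W : Matrix n n K)
      = ((g1⁻¹ : GL n K) : Matrix n n K) * ((1 + μ • W) * V) * (((g1⁻¹)⁻¹ : GL n K) : Matrix n n K) := by
    rw [inv_inv, hcay, Matrix.mul_assoc, ← hg1, ← Matrix.mul_assoc, ← Units.val_mul, inv_mul_cancel,
      Units.val_one, Matrix.one_mul]
  rw [Nat.card_congr (shEquivSF u hu), hu_eq, Nat.card_congr (sfConj hσ2 _ c),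
    ← Nat.card_congr (sfReindex (σ := σ) e (1 + W)), hJ_eq, Nat.card_congr (sfConj hσ2 _ g1⁻¹),
    Nat.card_congr (sfCayley μ hμ hσ2 W V hPV hVP)]

end Cfsg.Agent.Helper21.UC
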