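import Cfsg.Agent.Helper21.UC2
import Cfsg.Agent.Helper21.JC4
import Cfsg.Agent.Helper21.JS6

/-!
# Forms for which the nilpotent Jordan matrix is skew-adjoint (helper21)

The forms `B` with `Nᵀ B + B N = 0` (`N = Nm d`) are `H0 * toMat c` with `H0` the block-diagonal
signed flip, and the conjugate transpose acts on the parameter `c` by an explicit involution.
-/

set_option autoImplicit false
set_option linter.unusedSectionVars false

namespace Cfsg.Agent.Helper21.UC

open Matrix Cfsg.Agent.Helper21.NS Cfsg.Agent.Helper21.UJ Cfsg.Agent.Helper21.JC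
  Cfsg.Agent.Helper21.JO Cfsg.Agent.Helper21.JS

variable {K : Type*} [Field K] {t : ℕ} (d : Fin t → ℕ)

/-- the block-diagonal signed flip -/
def H0 (K : Type*) [Field K] {t : ℕ} (d : Fin t → ℕ) : Matrix (Idx d) (Idx d) K :=
  Matrix.blockDiagonal' fun k => symB K (d k)

theorem H0_apply (x y : Idx d) :
    H0 K d x y = if x.1 = y.1 ∧ (x.2 : ℕ) + (y.2 : ℕ) + 1 = d x.1 then (-1) ^ (x.2 : ℕ) else 0 := by
  obtain ⟨k, i⟩ := x
  obtain ⟨l, j⟩ := y
  simp only [H0, Matrix.blockDiagonal'_apply']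
  by_cases h : k = l
  · subst h
    simp only [dite_true, cast_eq, true_and]
    exact symB_apply (d k) i j
  · simp [h]

theorem Nm_eq_blockDiagonal : Nm (F := K) d = Matrix.blockDiagonal' fun k => shW K (d k) := by
  rw [Nm, Cfsg.jordanTypeMatrix, ← Matrix.blockDiagonal'_one, ← Matrix.blockDiagonal'_sub]
  rfl

theorem NmT_H0 : (Nm (F := K) d)ᵀ * H0 K d = -(H0 K d * Nm d) := by
  rw [Nm_eq_blockDiagonal, H0, Matrix.blockDiagonal'_transpose, ← Matrix.blockDiagonal'_mul,
    ← Matrix.blockDiagonal'_mul, ← Matrix.blockDiagonal'_neg]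
  congr 1
  funext k
  exact shW_symB (d k)

theorem H0_mul_transpose : H0 K d * (H0 K d)ᵀ = 1 := by
  rw [H0, Matrix.blockDiagonal'_transpose, ← Matrix.blockDiagonal'_mul,
    ← Matrix.blockDiagonal'_one]
  congr 1
  funext k
  exact symB_mul_transpose (d k)

theorem H0_transpose_mul : (H0 K d)ᵀ * H0 K d = 1 := mul_eq_one_comm.1 (H0_mul_transpose d)

theorem H0_map (σ : K →+* K) : (H0 K d).map σ = H0 K d := by
  rw [H0, Matrix.blockDiagonal'_map _ _ (map_zero σ)]
  congr 1
  funext k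
  exact symB_map σ (d k)

theorem Nm_map (σ : K →+* K) : (Nm (F := K) d).map σ = Nm d := by
  rw [Nm_eq_blockDiagonal, Matrix.blockDiagonal'_map _ _ (map_zero σ)]
  congr 1
  funext k
  exact shW_map σ (d k)

/-- the form attached to a parameter -/
def formMat (c : Par d K) : Matrix (Idx d) (Idx d) K := H0 K d * toMat d c

theorem formMat_apply (c : Par d K) (k l : Fin t) (i : Fin (d k)) (j : Fin (d l)) :
    formMat d c ⟨k, i⟩ ⟨l, j⟩ =
      if (i : ℕ) + (j : ℕ) < min (d l) (d k) then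
        (-1) ^ (i : ℕ) * pe d c l k (min (d l) (d k) - 1 - (i : ℕ) - (j : ℕ))
      else 0 := by
  have hi := i.2
  have hj := j.2
  rw [formMat, Matrix.mul_apply,
    Finset.sum_eq_single (⟨k, ⟨d k - 1 - (i : ℕ), by omega⟩⟩ : Idx d)]
  · rw [H0_apply, if_pos ⟨rfl, by simp only; omega⟩, toMat_apply]
    simp only
    by_cases h : (i : ℕ) + (j : ℕ) < min (d l) (d k)
    · rw [if_pos ⟨by omega, by omega⟩, if_pos h]
      congr 2
      omega
    · rw [if_neg (by rintro ⟨h1, h2⟩; omega), if_neg h, mul_zero]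
  · rintro ⟨k', i'⟩ _ hne
    rw [H0_apply, if_neg, zero_mul]
    rintro ⟨h1, h2⟩
    simp only at h1 h2
    subst h1
    apply hne
    congr 1
    apply Fin.ext
    simp only
    omega
  · intro h
    exact absurd (Finset.mem_univ _) h

theorem formMat_skew (c : Par d K) :
    (Nm (F := K) d)ᵀ * formMat d c + formMat d c * Nm d = 0 := by
  rw [formMat, ← Matrix.mul_assoc, NmT_H0, Matrix.mul_assoc (H0 K d), toMat_comm, Matrix.neg_mul,
    Matrix.mul_assoc]
  exact neg_add_cancel _

theorem eq_formMat_of_skew (hd : ∀ k, 1 ≤ d k) (B : Matrix (Idx d) (Idx d) K)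
    (hB : (Nm (F := K) d)ᵀ * B + B * Nm d = 0) :
    B = formMat d (toPar d hd ((H0 K d)ᵀ * B)) := by
  have h1 : Nm (F := K) d * (H0 K d)ᵀ = -((H0 K d)ᵀ * (Nm d)ᵀ) := by
    have h2 := NmT_H0 (K := K) d
    calc Nm (F := K) d * (H0 K d)ᵀ
        = ((H0 K d)ᵀ * H0 K d) * (Nm d * (H0 K d)ᵀ) := by rw [H0_transpose_mul, Matrix.one_mul]
      _ = (H0 K d)ᵀ * (H0 K d * Nm d) * (H0 K d)ᵀ := by simp only [Matrix.mul_assoc]
      _ = (H0 K d)ᵀ * (-((Nm d)ᵀ * H0 K d)) * (H0 K d)ᵀ := by rw [h2, neg_neg]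
      _ = -((H0 K d)ᵀ * (Nm d)ᵀ * (H0 K d * (H0 K d)ᵀ)) := by
          simp only [Matrix.mul_neg, Matrix.neg_mul, Matrix.mul_assoc]
      _ = -((H0 K d)ᵀ * (Nm d)ᵀ) := by rw [H0_mul_transpose, Matrix.mul_one]
  have hcomm : (H0 K d)ᵀ * B * Nm d = Nm d * ((H0 K d)ᵀ * B) := by
    have h3 : B * Nm d = -((Nm (F := K) d)ᵀ * B) := by
      rw [eq_neg_iff_add_eq_zero, add_comm]
      exact hB
    rw [Matrix.mul_assoc, h3, ← Matrix.mul_assoc (Nm d), h1]
    simp only [Matrix.mul_neg, Matrix.neg_mul, Matrix.mul_assoc]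
  rw [formMat, toMat_toPar d hd hcomm, ← Matrix.mul_assoc, H0_mul_transpose, Matrix.one_mul]

theorem det_formMat_ne_zero_iff (c : Par d K) :
    (formMat d c).det ≠ 0 ↔ (toMat d c).det ≠ 0 := by
  have h1 : (H0 K d).det ≠ 0 := by
    have := congrArg Matrix.det (H0_mul_transpose (K := K) d)
    rw [Matrix.det_mul, Matrix.det_one] at this
    exact left_ne_zero_of_mul_eq_one this
  rw [formMat, Matrix.det_mul]
  constructor
  · intro h h0
    exact h (by rw [h0, mul_zero])
  · intro h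
    exact mul_ne_zero h1 h

theorem formMat_injective (hd : ∀ k, 1 ≤ d k) : Function.Injective (formMat (K := K) d) := by
  intro c c' h
  have h1 : toMat d c = toMat d c' := by
    have := congrArg (fun M => (H0 K d)ᵀ * M) h
    simp only [formMat, ← Matrix.mul_assoc, H0_transpose_mul, Matrix.one_mul] at this
    exact this
  rw [← toPar_toMat d hd c, ← toPar_toMat d hd c', h1]

variable (σ : K →+* K)

/-- the action of the conjugate transpose on parameters -/
def tau (c : Par d K) : Par d K := fun k l r =>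
  (-1) ^ (min (d k) (d l) - 1 - (r : ℕ)) * σ (c l k ⟨(r : ℕ), by have := r.2; omega⟩)

theorem pe_tau (c : Par d K) (k l : Fin t) (s : ℕ) :
    pe d (tau d σ c) k l s = (-1) ^ (min (d k) (d l) - 1 - s) * σ (pe d c l k s) := by
  by_cases h : s < min (d k) (d l)
  · have h' : s < min (d l) (d k) := by omega
    rw [pe, dif_pos h, pe, dif_pos h']
    rfl
  · have h' : ¬ s < min (d l) (d k) := by omega
    rw [pe, dif_neg h, pe, dif_neg h', map_zero, mul_zero]

theorem cstar_formMat (c : Par d K) : cstar σ (formMat d c) = formMat d (tau d σ c) := by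
  ext ⟨k, i⟩ ⟨l, j⟩
  have hi := i.2
  have hj := j.2
  rw [cstar, Matrix.transpose_apply, Matrix.map_apply, formMat_apply, formMat_apply]
  by_cases h : (i : ℕ) + (j : ℕ) < min (d l) (d k)
  · have h' : (j : ℕ) + (i : ℕ) < min (d k) (d l) := by omega
    rw [if_pos h, if_pos h', pe_tau, map_mul, map_pow, map_neg, map_one]
    have e1 : min (d l) (d k) - 1 - (min (d l) (d k) - 1 - (i : ℕ) - (j : ℕ)) = (i : ℕ) + (j : ℕ) := by
      omega
    have e2 : min (d k) (d l) - 1 - (j : ℕ) - (i : ℕ) = min (d l) (d k) - 1 - (i : ℕ) - (j : ℕ) := by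
      omega
    rw [e1, e2, ← mul_assoc, ← pow_add]
    congr 1
    have e3 : (i : ℕ) + ((i : ℕ) + (j : ℕ)) = 2 * (i : ℕ) + (j : ℕ) := by ring
    rw [e3, pow_add, pow_mul]
    simp
  · have h' : ¬ (j : ℕ) + (i : ℕ) < min (d k) (d l) := by omega
    rw [if_neg h, if_neg h', map_zero]

theorem tau_tau (hσ2 : ∀ a, σ (σ a) = a) (c : Par d K) : tau d σ (tau d σ c) = c := by
  funext k l r
  have hr := r.2
  rw [tau, tau]
  simp only
  have e : min (d l) (d k) - 1 - (r : ℕ) = min (d k) (d l) - 1 - (r : ℕ) := by omega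
  rw [map_mul, map_pow, map_neg, map_one, hσ2, e, ← mul_assoc, ← pow_add, ← two_mul, pow_mul]
  simp

theorem cstar_Nm : cstar σ (Nm (F := K) d) = (Nm d)ᵀ := by
  unfold cstar
  rw [Nm_map]

theorem skew_of_SK (H : SK σ (Nm (F := K) d)) :
    (Nm (F := K) d)ᵀ * (H.1 : Matrix (Idx d) (Idx d) K)
      + (H.1 : Matrix (Idx d) (Idx d) K) * Nm d = 0 := by
  obtain ⟨H, h1, h2⟩ := H
  simp only
  rw [← cstar_Nm d σ]
  exact h2

/-- Hermitian invertible skew forms in terms of parameters -/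
noncomputable def skEquiv (hd : ∀ k, 1 ≤ d k) :
    SK σ (Nm (F := K) d) ≃ {c : Par d K // tau d σ c = c ∧ (toMat d c).det ≠ 0} where
  toFun H := ⟨toPar d hd ((H0 K d)ᵀ * (H.1 : Matrix (Idx d) (Idx d) K)), by
    have hsk := skew_of_SK d σ H
    have hB := eq_formMat_of_skew d hd _ hsk
    have hherm : cstar σ (H.1 : Matrix (Idx d) (Idx d) K) = H.1 := congrArg Units.val H.2.1
    constructor
    · apply formMat_injective d hd
      rw [← cstar_formMat, ← hB, hherm]
    · rw [← det_formMat_ne_zero_iff, ← hB]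
      exact (Matrix.isUnits_det_units H.1).ne_zero⟩
  invFun c := ⟨Matrix.GeneralLinearGroup.mkOfDetNeZero (formMat d c.1)
      ((det_formMat_ne_zero_iff d c.1).2 c.2.2), by
    constructor
    · apply Units.ext
      show cstar σ (formMat d c.1) = formMat d c.1
      rw [cstar_formMat, c.2.1]
    · show cstar σ (Nm d) * formMat d c.1 + formMat d c.1 * Nm d = 0
      rw [cstar_Nm]
      exact formMat_skew d c.1⟩
  left_inv H := by
    apply Subtype.ext
    apply Units.ext
    have hsk := skew_of_SK d σ H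
    exact (eq_formMat_of_skew d hd _ hsk).symm
  right_inv c := by
    apply Subtype.ext
    show toPar d hd ((H0 K d)ᵀ * formMat d c.1) = c.1
    rw [formMat, ← Matrix.mul_assoc, H0_transpose_mul, Matrix.one_mul, toPar_toMat]

end Cfsg.Agent.Helper21.UC
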