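import Cfsg.Agent.Helper21.UC4
import Cfsg.Agent.Helper2.UnitaryGU
import Cfsg.Agent.Helper28.GU

/-!
# Unitary groups on arbitrary index types and Hermitian blocks (helper21)
-/

set_option autoImplicit false
set_option linter.unusedSectionVars false

namespace Cfsg.Agent.Helper21.UC

open Matrix Cfsg.Agent.Helper21.NS Cfsg.Agent.Helper21.UJ Cfsg.Agent.Helper21.JC

variable {K : Type*} [Field K] (σ : K →+* K)

section blocks

variable {B : Type*} [Fintype B] [DecidableEq B]

/-- invertible Hermitian matrices -/
abbrev HermGL (B : Type*) [Fintype B] [DecidableEq B] : Type _ := {H : GL B K // cstarU σ H = H}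

/-- the unitary group on an arbitrary index type -/
abbrev UnitGL (B : Type*) [Fintype B] [DecidableEq B] : Type _ :=
  {g : GL B K // cstarU σ g * g = 1}

/-- (skew-)Hermitian invertible matrices are in bijection with the Hermitian ones -/
theorem card_block_eq (hσ2 : ∀ a, σ (σ a) = a) (ξ0 : K) (hξ0 : σ ξ0 ≠ ξ0) (a : ℕ) :
    Nat.card {Λ : Matrix B B K // (∀ k l, Λ k l = (-1) ^ (a + 1) * σ (Λ l k)) ∧ Λ.det ≠ 0}
      = Nat.card (HermGL σ B) := by
  obtain ⟨θ, hθ0, hθ⟩ := exists_theta σ a hσ2 ξ0 hξ0
  have key : ∀ Λ : Matrix B B K,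
      (∀ k l, Λ k l = (-1) ^ (a + 1) * σ (Λ l k)) ↔ cstar σ (θ • Λ) = θ • Λ := by
    intro Λ
    constructor
    · intro h
      ext k l
      rw [cstar_smul, hθ, Matrix.smul_apply, Matrix.smul_apply, smul_eq_mul, smul_eq_mul, h k l]
      simp only [cstar, Matrix.transpose_apply, Matrix.map_apply]
      ring
    · intro h k l
      have h1 := congrFun (congrFun h k) l
      rw [cstar_smul, hθ, Matrix.smul_apply, Matrix.smul_apply, smul_eq_mul, smul_eq_mul] at h1
      simp only [cstar, Matrix.transpose_apply, Matrix.map_apply] at h1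
      apply mul_left_cancel₀ hθ0
      rw [← h1]
      ring
  apply Nat.card_congr
  refine
    { toFun := fun Λ => ⟨Matrix.GeneralLinearGroup.mkOfDetNeZero (θ • Λ.1) (by
          rw [Matrix.det_smul]
          exact mul_ne_zero (pow_ne_zero _ hθ0) Λ.2.2), by
        apply Units.ext
        exact (key Λ.1).1 Λ.2.1⟩
      invFun := fun H => ⟨θ⁻¹ • (H.1 : Matrix B B K), by
        constructor
        · rw [key, smul_smul, mul_inv_cancel₀ hθ0, one_smul]
          exact congrArg Units.val H.2
        · rw [Matrix.det_smul]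
          exact mul_ne_zero (pow_ne_zero _ (inv_ne_zero hθ0))
            (Matrix.isUnits_det_units H.1).ne_zero⟩
      left_inv := fun Λ => by
        apply Subtype.ext
        show θ⁻¹ • (θ • Λ.1) = Λ.1
        rw [smul_smul, inv_mul_cancel₀ hθ0, one_smul]
      right_inv := fun H => by
        apply Subtype.ext
        apply Units.ext
        show θ • (θ⁻¹ • (H.1 : Matrix B B K)) = H.1
        rw [smul_smul, mul_inv_cancel₀ hθ0, one_smul] }

/-- `#GL = #U · #Herm` -/
theorem card_GL_eq [Finite K] (hσ2 : ∀ a, σ (σ a) = a) (ξ0 : K) (hξ0 : σ ξ0 ≠ ξ0) :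
    Nat.card (GL B K) = Nat.card (UnitGL σ B) * Nat.card (HermGL σ B) := by
  have h := card_CG (σ := σ) (u := (1 : GL B K)) hσ2 ξ0 hξ0 (by rw [cstarU_one, one_mul])
  have e1 : Nat.card (CG (1 : GL B K)) = Nat.card (GL B K) := by
    apply Nat.card_congr
    exact Equiv.subtypeUnivEquiv (fun g => by rw [mul_one, one_mul])
  have e2 : Nat.card (CU σ (1 : GL B K)) = Nat.card (UnitGL σ B) := by
    apply Nat.card_congr
    exact Equiv.subtypeEquivRight (fun g => by
      constructor
      · exact fun h => h.1
      · exact fun h => ⟨h, by rw [mul_one, one_mul]⟩)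
  have e3 : Nat.card (SH σ (1 : GL B K)) = Nat.card (HermGL σ B) := by
    apply Nat.card_congr
    exact Equiv.subtypeEquivRight (fun g => by
      constructor
      · exact fun h => h.1
      · exact fun h => ⟨h, by rw [mul_one, one_mul]⟩)
  rw [← e1, ← e2, ← e3]
  exact h

theorem hermGL_pos [Finite K] : 0 < Nat.card (HermGL σ B) := by
  have : Nonempty (HermGL σ B) := ⟨⟨1, cstarU_one σ⟩⟩
  exact Nat.card_pos

end blocks

section GUcard

variable {B : Type*} [Fintype B] [DecidableEq B] {q : ℕ}

/-- the unitary group on an index type of size `m` is `GU_m` -/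
theorem card_unitGL (hσ : ∀ x, σ x = x ^ q) (m : ℕ) (hB : Fintype.card B = m) :
    Nat.card (UnitGL σ B) = Nat.card ↥(Cfsg.GU m K q) := by
  have e : B ≃ Fin m := by
    rw [← hB]
    exact Fintype.equivFin B
  apply Nat.card_congr
  refine
    { toFun := fun g => ⟨reindexGL K e g.1, by
        rw [Cfsg.Agent.Helper28.GUlib.mem_GU_iff σ hσ, unitary_iff_cstar]
        have := congrArg (reindexGL K e) g.2
        rw [map_mul, map_one, ← cstarU_reindexGL] at this
        have h2 := congrArg Units.val this
        rwa [Units.val_mul, cstarU_coe, Units.val_one] at h2⟩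
      invFun := fun g => ⟨(reindexGL K e).symm g.1, by
        have h1 := (unitary_iff_cstar σ _).1
          ((Cfsg.Agent.Helper28.GUlib.mem_GU_iff σ hσ (g : GL (Fin m) K)).1 g.2)
        apply (reindexGL K e).injective
        rw [map_mul, map_one, ← cstarU_reindexGL, MulEquiv.apply_symm_apply]
        apply Units.ext
        rw [Units.val_mul, cstarU_coe, Units.val_one]
        exact h1⟩
      left_inv := fun g => by
        apply Subtype.ext
        exact (reindexGL K e).symm_apply_apply g.1
      right_inv := fun g => by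
        apply Subtype.ext
        exact (reindexGL K e).apply_symm_apply g.1 }

end GUcard

end Cfsg.Agent.Helper21.UC
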