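import Cfsg.Agent.Helper21.UC5
import Cfsg.Agent.Helper28.Herm
import Cfsg.Agent.S2581
import Cfsg.Agent.Helper21.JS3

/-!
# The order of the centraliser of a unipotent element of `GU_n(q)` (helper21)
-/

set_option autoImplicit false
set_option linter.unusedSectionVars false

namespace Cfsg.Agent.Helper21.UC

open Matrix Cfsg.Agent.Helper21.NS Cfsg.Agent.Helper21.UJ Cfsg.Agent.Helper21.JC

variable {K : Type*} [Field K] [Fintype K] {q n t : ℕ}

/-- the centraliser in `GU` as the unitary centraliser -/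
theorem card_centralizer_eq_CU (σ : K →+* K) (hσ : ∀ x, σ x = x ^ q) (u : ↥(Cfsg.GU n K q)) :
    Nat.card ↥(Subgroup.centralizer ({u} : Set ↥(Cfsg.GU n K q)))
      = Nat.card (CU σ (u : GL (Fin n) K)) := by
  apply Nat.card_congr
  refine
    { toFun := fun x => ⟨(x.1 : GL (Fin n) K), by
        constructor
        · have h1 := (unitary_iff_cstar σ _).1
            ((Cfsg.Agent.Helper28.GUlib.mem_GU_iff σ hσ (x.1 : GL (Fin n) K)).1 x.1.2)
          apply Units.ext
          rw [Units.val_mul, cstarU_coe, Units.val_one]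
          exact h1
        · have h2 := (Subgroup.mem_centralizer_iff.1 x.2) u rfl
          have h3 := congrArg (Subtype.val : ↥(Cfsg.GU n K q) → GL (Fin n) K) h2
          exact h3.symm⟩
      invFun := fun y => ⟨⟨y.1, by
          rw [Cfsg.Agent.Helper28.GUlib.mem_GU_iff σ hσ, unitary_iff_cstar]
          have := congrArg Units.val y.2.1
          rwa [Units.val_mul, cstarU_coe, Units.val_one] at this⟩, by
        rw [Subgroup.mem_centralizer_iff]
        intro h hh
        rw [Set.mem_singleton_iff] at hh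
        subst hh
        apply Subtype.ext
        exact y.2.2.symm⟩
      left_inv := fun x => rfl
      right_inv := fun y => rfl }

/-- the centraliser in `GL` of a conjugate of the reindexed Jordan matrix -/
theorem card_CG_eq (d : Fin t → ℕ) (e : ((k : Fin t) × Fin (d k)) ≃ Fin n) (u : GL (Fin n) K)
    (hu : IsConj (Matrix.reindex e e (Cfsg.jordanTypeMatrix d K)) (u : Matrix (Fin n) (Fin n) K)) :
    Nat.card (CG u) = Nat.card {g : GL ((k : Fin t) × Fin (d k)) K //
      (g : Matrix ((k : Fin t) × Fin (d k)) ((k : Fin t) × Fin (d k)) K) * Cfsg.jordanTypeMatrix d K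
        = Cfsg.jordanTypeMatrix d K * (g : Matrix ((k : Fin t) × Fin (d k)) ((k : Fin t) × Fin (d k)) K)} := by
  obtain ⟨c, hc⟩ := hu
  have hc' : (c : Matrix (Fin n) (Fin n) K) * Matrix.reindex e e (Cfsg.jordanTypeMatrix d K)
      = (u : Matrix (Fin n) (Fin n) K) * (c : Matrix (Fin n) (Fin n) K) := hc
  have hC1 : (c : Matrix (Fin n) (Fin n) K) * ((c⁻¹ : GL (Fin n) K) : Matrix (Fin n) (Fin n) K) = 1 := by
    rw [← Units.val_mul, mul_inv_cancel, Units.val_one]
  have hC2 : ((c⁻¹ : GL (Fin n) K) : Matrix (Fin n) (Fin n) K) * (c : Matrix (Fin n) (Fin n) K) = 1 := by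
    rw [← Units.val_mul, inv_mul_cancel, Units.val_one]
  symm
  apply Nat.card_congr
  refine Equiv.subtypeEquiv ((reindexGL K e).trans (MulAut.conj c)).toEquiv (fun g => ?_)
  show _ ↔ c * reindexGL K e g * c⁻¹ * u = u * (c * reindexGL K e g * c⁻¹)
  obtain ⟨Rg, hRg⟩ : ∃ Rg : GL (Fin n) K, Rg = reindexGL K e g := ⟨_, rfl⟩
  rw [← hRg]
  have hcomm_iff : (g : Matrix _ _ K) * Cfsg.jordanTypeMatrix d K
        = Cfsg.jordanTypeMatrix d K * (g : Matrix _ _ K) ↔
      (Rg : Matrix (Fin n) (Fin n) K) * Matrix.reindex e e (Cfsg.jordanTypeMatrix d K)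
        = Matrix.reindex e e (Cfsg.jordanTypeMatrix d K) * (Rg : Matrix (Fin n) (Fin n) K) := by
    rw [hRg, reindexGL_coe, ← reindex_mul', ← reindex_mul']
    constructor
    · intro h
      rw [h]
    · intro h
      exact (Matrix.reindex e e).injective h
  rw [hcomm_iff]
  obtain ⟨RJ, hRJ⟩ : ∃ RJ : Matrix (Fin n) (Fin n) K,
      RJ = Matrix.reindex e e (Cfsg.jordanTypeMatrix d K) := ⟨_, rfl⟩
  rw [← hRJ] at hc' ⊢
  have hu_eq : (u : Matrix (Fin n) (Fin n) K)
      = (c : Matrix (Fin n) (Fin n) K) * RJ * ((c⁻¹ : GL (Fin n) K) : Matrix (Fin n) (Fin n) K) := by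
    rw [hc', Matrix.mul_assoc, hC1, Matrix.mul_one]
  constructor
  · intro h
    apply Units.ext
    simp only [Units.val_mul]
    rw [hu_eq]
    calc (c : Matrix (Fin n) (Fin n) K) * Rg * ((c⁻¹ : GL (Fin n) K) : Matrix (Fin n) (Fin n) K)
          * ((c : Matrix (Fin n) (Fin n) K) * RJ * ((c⁻¹ : GL (Fin n) K) : Matrix (Fin n) (Fin n) K))
        = (c : Matrix (Fin n) (Fin n) K) * Rg
            * (((c⁻¹ : GL (Fin n) K) : Matrix (Fin n) (Fin n) K) * (c : Matrix (Fin n) (Fin n) K))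
            * RJ * ((c⁻¹ : GL (Fin n) K) : Matrix (Fin n) (Fin n) K) := by
          simp only [Matrix.mul_assoc]
      _ = (c : Matrix (Fin n) (Fin n) K) * ((Rg : Matrix (Fin n) (Fin n) K) * RJ)
            * ((c⁻¹ : GL (Fin n) K) : Matrix (Fin n) (Fin n) K) := by
          rw [hC2, Matrix.mul_one]
          simp only [Matrix.mul_assoc]
      _ = (c : Matrix (Fin n) (Fin n) K) * (RJ * (Rg : Matrix (Fin n) (Fin n) K))
            * ((c⁻¹ : GL (Fin n) K) : Matrix (Fin n) (Fin n) K) := by rw [h]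
      _ = (c : Matrix (Fin n) (Fin n) K) * RJ
            * (((c⁻¹ : GL (Fin n) K) : Matrix (Fin n) (Fin n) K) * (c : Matrix (Fin n) (Fin n) K))
            * Rg * ((c⁻¹ : GL (Fin n) K) : Matrix (Fin n) (Fin n) K) := by
          rw [hC2, Matrix.mul_one]
          simp only [Matrix.mul_assoc]
      _ = (c : Matrix (Fin n) (Fin n) K) * RJ * ((c⁻¹ : GL (Fin n) K) : Matrix (Fin n) (Fin n) K)
            * ((c : Matrix (Fin n) (Fin n) K) * Rg
              * ((c⁻¹ : GL (Fin n) K) : Matrix (Fin n) (Fin n) K)) := by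
          simp only [Matrix.mul_assoc]
  · intro h
    have h1 := congrArg Units.val h
    simp only [Units.val_mul] at h1
    rw [hu_eq] at h1
    have h2 : (c : Matrix (Fin n) (Fin n) K) * ((Rg : Matrix (Fin n) (Fin n) K) * RJ)
          * ((c⁻¹ : GL (Fin n) K) : Matrix (Fin n) (Fin n) K)
        = (c : Matrix (Fin n) (Fin n) K) * (RJ * (Rg : Matrix (Fin n) (Fin n) K))
          * ((c⁻¹ : GL (Fin n) K) : Matrix (Fin n) (Fin n) K) := by
      calc (c : Matrix (Fin n) (Fin n) K) * ((Rg : Matrix (Fin n) (Fin n) K) * RJ)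
            * ((c⁻¹ : GL (Fin n) K) : Matrix (Fin n) (Fin n) K)
          = (c : Matrix (Fin n) (Fin n) K) * Rg
              * (((c⁻¹ : GL (Fin n) K) : Matrix (Fin n) (Fin n) K) * (c : Matrix (Fin n) (Fin n) K))
              * RJ * ((c⁻¹ : GL (Fin n) K) : Matrix (Fin n) (Fin n) K) := by
            rw [hC2, Matrix.mul_one]
            simp only [Matrix.mul_assoc]
        _ = (c : Matrix (Fin n) (Fin n) K) * Rg * ((c⁻¹ : GL (Fin n) K) : Matrix (Fin n) (Fin n) K)
              * ((c : Matrix (Fin n) (Fin n) K) * RJ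
                * ((c⁻¹ : GL (Fin n) K) : Matrix (Fin n) (Fin n) K)) := by
            simp only [Matrix.mul_assoc]
        _ = (c : Matrix (Fin n) (Fin n) K) * RJ * ((c⁻¹ : GL (Fin n) K) : Matrix (Fin n) (Fin n) K)
              * ((c : Matrix (Fin n) (Fin n) K) * Rg
                * ((c⁻¹ : GL (Fin n) K) : Matrix (Fin n) (Fin n) K)) := h1
        _ = (c : Matrix (Fin n) (Fin n) K) * RJ
              * (((c⁻¹ : GL (Fin n) K) : Matrix (Fin n) (Fin n) K) * (c : Matrix (Fin n) (Fin n) K))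
              * Rg * ((c⁻¹ : GL (Fin n) K) : Matrix (Fin n) (Fin n) K) := by
            simp only [Matrix.mul_assoc]
        _ = (c : Matrix (Fin n) (Fin n) K) * (RJ * (Rg : Matrix (Fin n) (Fin n) K))
              * ((c⁻¹ : GL (Fin n) K) : Matrix (Fin n) (Fin n) K) := by
            rw [hC2, Matrix.mul_one]
            simp only [Matrix.mul_assoc]
    calc (Rg : Matrix (Fin n) (Fin n) K) * RJ
        = ((c⁻¹ : GL (Fin n) K) : Matrix (Fin n) (Fin n) K)
            * ((c : Matrix (Fin n) (Fin n) K) * ((Rg : Matrix (Fin n) (Fin n) K) * RJ)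
              * ((c⁻¹ : GL (Fin n) K) : Matrix (Fin n) (Fin n) K)) * (c : Matrix (Fin n) (Fin n) K) := by
          simp only [Matrix.mul_assoc]
          rw [hC2, Matrix.mul_one, ← Matrix.mul_assoc, hC2, Matrix.one_mul]
      _ = ((c⁻¹ : GL (Fin n) K) : Matrix (Fin n) (Fin n) K)
            * ((c : Matrix (Fin n) (Fin n) K) * (RJ * (Rg : Matrix (Fin n) (Fin n) K))
              * ((c⁻¹ : GL (Fin n) K) : Matrix (Fin n) (Fin n) K)) * (c : Matrix (Fin n) (Fin n) K) := by
          rw [h2]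
      _ = RJ * (Rg : Matrix (Fin n) (Fin n) K) := by
          simp only [Matrix.mul_assoc]
          rw [hC2, Matrix.mul_one, ← Matrix.mul_assoc, hC2, Matrix.one_mul]

theorem isNilpotent_Nm (d : Fin t → ℕ) : IsNilpotent (Nm (F := K) d) := by
  refine ⟨Finset.univ.sup d, ?_⟩
  ext r ⟨k, i⟩
  have h := Cfsg.Agent.Helper21.JS.mul_Nm_pow_apply (F := K) (d := d) 1 (Finset.univ.sup d) r k i
  rw [Matrix.one_mul] at h
  rw [h, dif_neg]
  · rfl
  · have := Finset.le_sup (f := d) (Finset.mem_univ k)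
    omega

/-- the order of the centraliser in `GU` of a unipotent element of Jordan type `d` -/
theorem card_centralizer_GU (hK : Fintype.card K = q ^ 2) (d : Fin t → ℕ) (hd : ∀ k, 1 ≤ d k)
    (e : ((k : Fin t) × Fin (d k)) ≃ Fin n) (u : ↥(Cfsg.GU n K q))
    (hu : IsConj (Matrix.reindex e e (Cfsg.jordanTypeMatrix d K))
      ((u : GL (Fin n) K) : Matrix (Fin n) (Fin n) K)) :
    Nat.card ↥(Subgroup.centralizer ({u} : Set ↥(Cfsg.GU n K q))) =
      (∏ a : Fin (Finset.univ.sup d + 1),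
        Nat.card ↥(Cfsg.GU (Fintype.card {k : Fin t // d k = (a : ℕ)}) K q)) *
      q ^ (Fintype.card {p : Fin t × Fin t // d p.1 ≠ d p.2} +
        ∑ k : Fin t, ∑ l : Fin t, (min (d k) (d l) - 1)) := by
  classical
  obtain ⟨σ, hσ, hσ2⟩ := Cfsg.Agent.Helper28.exists_frob hK
  obtain ⟨ξ0, hξ0⟩ := exists_pow_ne hK
  have hξ0' : σ ξ0 ≠ ξ0 := by rw [hσ]; exact hξ0
  have hq : 0 < q := by
    rcases Nat.eq_zero_or_pos q with rfl | h
    · rw [zero_pow two_ne_zero] at hK
      exact absurd hK Fintype.card_ne_zero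
    · exact h
  -- unitarity of `u`
  have hu1 : cstarU σ (u : GL (Fin n) K) * (u : GL (Fin n) K) = 1 := by
    have h1 := (unitary_iff_cstar σ _).1
      ((Cfsg.Agent.Helper28.GUlib.mem_GU_iff σ hσ (u : GL (Fin n) K)).1 u.2)
    apply Units.ext
    rw [Units.val_mul, cstarU_coe, Units.val_one]
    exact h1
  have hJ : (1 : Matrix (Idx d) (Idx d) K) + Nm d = Cfsg.jordanTypeMatrix d K := by
    rw [Nm]
    abel
  have hu' : IsConj (Matrix.reindex e e ((1 : Matrix (Idx d) (Idx d) K) + Nm d))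
      ((u : GL (Fin n) K) : Matrix (Fin n) (Fin n) K) := by
    rw [hJ]
    exact hu
  -- the three counts
  have hfib := card_CG (σ := σ) (u := (u : GL (Fin n) K)) hσ2 ξ0 hξ0' hu1
  have hSH := card_SH_eq_card_SK hσ2 ξ0 hξ0' e (Nm (F := K) d) (isNilpotent_Nm d)
    (u : GL (Fin n) K) hu1 hu'
  have hSK : Nat.card (SK σ (Nm (F := K) d)) =
      (∏ a : Fin (Finset.univ.sup d + 1),
        Nat.card (HermGL (K := K) σ {k : Fin t // d k = (a : ℕ)})) *
        q ^ Fintype.card {p : Fin t × Fin t // d p.1 ≠ d p.2} *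
        q ^ (∑ k : Fin t, ∑ l : Fin t, (min (d k) (d l) - 1)) := by
    rw [Nat.card_congr (skEquiv d σ hd), card_fixed_par d σ hK hσ2 ξ0 hξ0' hd]
    congr 2
    apply Finset.prod_congr rfl
    intro a _
    exact card_block_eq σ hσ2 ξ0 hξ0' (a : ℕ)
  have hGL : Nat.card (CG (u : GL (Fin n) K)) =
      (∏ a : Fin (Finset.univ.sup d + 1), Nat.card (GL {k : Fin t // d k = (a : ℕ)} K)) *
        (q ^ 2) ^ Fintype.card {p : Fin t × Fin t // d p.1 ≠ d p.2} *
        (q ^ 2) ^ (∑ k : Fin t, ∑ l : Fin t, (min (d k) (d l) - 1)) := by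
    rw [card_CG_eq d e (u : GL (Fin n) K) hu, Nat.card_congr (Cfsg.Agent.S2581.centEquiv d hd),
      card_invertible d hd, hK]
    congr 2
    apply Finset.prod_congr rfl
    intro a _
    rw [card_GL_fintype, hK]
  have hGLa : ∀ a : Fin (Finset.univ.sup d + 1),
      Nat.card (GL {k : Fin t // d k = (a : ℕ)} K)
        = Nat.card ↥(Cfsg.GU (Fintype.card {k : Fin t // d k = (a : ℕ)}) K q)
          * Nat.card (HermGL (K := K) σ {k : Fin t // d k = (a : ℕ)}) := by
    intro a
    rw [card_GL_eq σ hσ2 ξ0 hξ0', card_unitGL σ hσ _ rfl]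
  rw [card_centralizer_eq_CU σ hσ u]
  rw [hSH, hSK, hGL] at hfib
  simp only [hGLa, Finset.prod_mul_distrib] at hfib
  set U := ∏ a : Fin (Finset.univ.sup d + 1),
    Nat.card ↥(Cfsg.GU (Fintype.card {k : Fin t // d k = (a : ℕ)}) K q) with hU
  set Hh := ∏ a : Fin (Finset.univ.sup d + 1),
    Nat.card (HermGL (K := K) σ {k : Fin t // d k = (a : ℕ)}) with hHh
  set o := Fintype.card {p : Fin t × Fin t // d p.1 ≠ d p.2} with ho
  set hi := ∑ k : Fin t, ∑ l : Fin t, (min (d k) (d l) - 1) with hhi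
  have hpos : 0 < Hh * q ^ o * q ^ hi := by
    apply Nat.mul_pos (Nat.mul_pos ?_ (pow_pos hq _)) (pow_pos hq _)
    apply Finset.prod_pos
    intro a _
    exact hermGL_pos σ
  apply Nat.eq_of_mul_eq_mul_right hpos
  rw [← hfib, pow_add]
  rw [← pow_mul, ← pow_mul, mul_comm 2 o, mul_comm 2 hi, pow_mul, pow_mul, sq, sq]
  ring

end Cfsg.Agent.Helper21.UC
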