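import Cfsg.Agent.Helper21.UJ1
import Cfsg.Agent.Helper21.Jordan7

/-!
# Unitary matrices of every unipotent Jordan type (helper21)
-/

set_option autoImplicit false
set_option linter.unusedSectionVars false

namespace Cfsg.Agent.Helper21.UJ

open Matrix Module Submodule Cfsg.Agent.Helper21.Jordan Cfsg.Agent.Helper21.NS

variable {K : Type*} [Field K]

section abstract

variable {V : Type*} [AddCommGroup V] [Module K V]
variable {V' : Type*} [AddCommGroup V'] [Module K V']

theorem subSum_one_add_card (μ : Multiset ℕ) (h0 : 0 ∉ μ) :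
    subSum μ 1 + Multiset.card μ = μ.sum := by
  induction μ using Multiset.induction_on with
  | empty => simp [subSum]
  | cons a μ ih =>
    have ha : a ≠ 0 := fun h' => h0 (h' ▸ Multiset.mem_cons_self _ _)
    have := ih (fun h' => h0 (Multiset.mem_cons_of_mem h'))
    simp only [subSum, Multiset.map_cons, Multiset.sum_cons, Multiset.card_cons] at this ⊢
    omega

/-- a nilpotent endomorphism whose range has codimension one has a single Jordan block -/
theorem isJordan_of_regular [FiniteDimensional K V] (T : Module.End K V) (hT : IsNilpotent T)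
    (j : ℕ) (hdim : finrank K V = j) (hr : finrank K (LinearMap.range T) + 1 = j) :
    IsJordan T ⊤ {j} := by
  have hJ := jordanType_spec T hT
  have h0 := hJ.zero_notMem
  have hs := hJ.sum_eq
  have h1 := hJ.finrank_range_pow 1
  rw [pow_one] at h1
  have hcard : Multiset.card (jordanType T) = 1 := by
    have := subSum_one_add_card _ h0
    omega
  obtain ⟨a, ha⟩ := Multiset.card_eq_one.1 hcard
  rw [ha] at hJ hs
  rw [Multiset.sum_singleton] at hs
  have : a = j := by omega
  rw [← this]
  exact hJ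

theorem isJordan_map_of_injective {T : Module.End K V} {T' : Module.End K V'} {μ : Multiset ℕ}
    (h : IsJordan T ⊤ μ) (φ : V →ₗ[K] V') (hφ : Function.Injective φ)
    (hint : ∀ x, φ (T x) = T' (φ x)) : IsJordan T' (LinearMap.range φ) μ := by
  obtain ⟨ι, _, d, v, hμ, hpos, hli, hspan, hkill⟩ := h
  have hfam : fam T' d (fun i => φ (v i)) = φ ∘ fam T d v := by
    funext x
    simp only [fam_apply, Function.comp_apply]
    exact (intertwine_pow T T' φ hint _ _).symm
  refine ⟨ι, inferInstance, d, fun i => φ (v i), hμ, hpos, ?_, ?_, ?_⟩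
  · rw [hfam]
    exact hli.map' φ (LinearMap.ker_eq_bot.2 hφ)
  · rw [hfam, Set.range_comp, ← Submodule.map_span, hspan, Submodule.map_top]
  · intro i
    have := intertwine_pow T T' φ hint (d i) (v i)
    rw [hkill i, map_zero] at this
    exact this.symm

theorem isJordan_prodMap {T : Module.End K V} {T' : Module.End K V'} {μ μ' : Multiset ℕ}
    (h : IsJordan T ⊤ μ) (h' : IsJordan T' ⊤ μ') :
    IsJordan (T.prodMap T') ⊤ (μ + μ') := by
  have a1 := isJordan_map_of_injective (T' := T.prodMap T') h (LinearMap.inl K V V')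
    LinearMap.inl_injective (fun x => by simp)
  have a2 := isJordan_map_of_injective (T' := T.prodMap T') h' (LinearMap.inr K V V')
    LinearMap.inr_injective (fun x => by simp)
  have hc := LinearMap.isCompl_range_inl_inr (R := K) (M := V) (M₂ := V')
  have := a1.sup a2 hc.disjoint
  rw [hc.sup_eq_top] at this
  exact this

end abstract

section matrices

variable {I : Type*} [Fintype I] [DecidableEq I] {I' : Type*} [Fintype I'] [DecidableEq I']

theorem isJordan_fromBlocks (M : Matrix I I K) (M' : Matrix I' I' K) {μ μ' : Multiset ℕ}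
    (h : IsJordan (toLin' M) ⊤ μ) (h' : IsJordan (toLin' M') ⊤ μ') :
    IsJordan (toLin' (fromBlocks M 0 0 M')) ⊤ (μ + μ') := by
  have hp := isJordan_prodMap h h'
  refine hp.conj _ (LinearEquiv.sumArrowLequivProdArrow I I' K K).symm ?_
  rintro ⟨x, y⟩
  have e1 : (LinearEquiv.sumArrowLequivProdArrow I I' K K).symm (x, y) = Sum.elim x y := by
    ext (i | i) <;> rfl
  have e2 : (LinearEquiv.sumArrowLequivProdArrow I I' K K).symm
      (((toLin' M).prodMap (toLin' M')) (x, y)) = Sum.elim (M *ᵥ x) (M' *ᵥ y) := by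
    ext (i | i) <;> rfl
  rw [e1, e2, Matrix.toLin'_apply, Matrix.fromBlocks_mulVec]
  simp

theorem isJordan_reindex (e : I ≃ I') (M : Matrix I I K) {μ : Multiset ℕ}
    (h : IsJordan (toLin' M) ⊤ μ) : IsJordan (toLin' (Matrix.reindex e e M)) ⊤ μ := by
  refine h.conj _ (LinearEquiv.funCongrLeft K K e.symm) ?_
  intro x
  rw [Matrix.toLin'_apply, Matrix.toLin'_apply, Matrix.reindex_apply]
  have e1 : ∀ y : I → K, (LinearEquiv.funCongrLeft K K e.symm) y = y ∘ e.symm := fun y => rfl
  rw [e1, e1, Matrix.submatrix_mulVec_equiv]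
  have e2 : (x ∘ e.symm) ∘ e.symm.symm = x := by
    ext i
    simp
  rw [e2]

variable (σ : K →+* K)

theorem unitary_fromBlocks {M : Matrix I I K} {M' : Matrix I' I' K}
    (h : Mᵀ * M.map σ = 1) (h' : M'ᵀ * M'.map σ = 1) :
    (fromBlocks M 0 0 M')ᵀ * (fromBlocks M 0 0 M').map σ = 1 := by
  rw [Matrix.fromBlocks_transpose, Matrix.fromBlocks_map, Matrix.fromBlocks_multiply]
  simp [h, h']

theorem unitary_reindex (e : I ≃ I') {M : Matrix I I K} (h : Mᵀ * M.map σ = 1) :
    (Matrix.reindex e e M)ᵀ * (Matrix.reindex e e M).map σ = 1 := by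
  rw [Matrix.reindex_apply, Matrix.transpose_submatrix, ← Matrix.submatrix_map,
    Matrix.submatrix_mul_equiv, h, Matrix.submatrix_one_equiv]

end matrices

/-- a regular unipotent matrix has Jordan type `{j}` -/
theorem isJordan_of_regular_matrix {j : ℕ} (x : Matrix (Fin j) (Fin j) K)
    (hnil : (x - 1) ^ j = 0) (hreg : (x - 1).rank + 1 = j) :
    IsJordan (toLin' (x - 1)) ⊤ {j} := by
  apply isJordan_of_regular
  · refine ⟨j, ?_⟩
    rw [← Matrix.toLin'_pow, hnil, map_zero]
  · rw [Module.finrank_fin_fun]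
  · exact hreg

/-- unitary matrices of every unipotent Jordan type -/
theorem exists_unitary_of_type [Finite K] (σ : K →+* K) (hσ2 : ∀ a, σ (σ a) = a) (ξ0 : K)
    (hξ0 : σ ξ0 ≠ ξ0) (μ : Multiset ℕ) :
    (∀ b ∈ μ, 0 < b) → ∀ n : ℕ, μ.sum = n →
      ∃ X : Matrix (Fin n) (Fin n) K, Xᵀ * X.map σ = 1 ∧ IsJordan (toLin' (X - 1)) ⊤ μ := by
  induction μ using Multiset.induction_on with
  | empty =>
    intro _ n hn
    rw [Multiset.sum_zero] at hn
    subst hn
    refine ⟨1, Subsingleton.elim _ _, ?_⟩
    obtain ⟨T, hT⟩ := exists_isJordan_of_sum_eq (K := K) (V := Fin 0 → K) 0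
      (Multiset.notMem_zero 0) (by rw [Module.finrank_fin_fun, Multiset.sum_zero])
    have : T = toLin' ((1 : Matrix (Fin 0) (Fin 0) K) - 1) := by
      apply LinearMap.ext
      intro x
      exact Subsingleton.elim _ _
    rw [← this]
    exact hT
  | cons a μ ih =>
    intro hpos n hn
    rw [Multiset.sum_cons] at hn
    subst hn
    have ha : 0 < a := hpos a (Multiset.mem_cons_self a μ)
    obtain ⟨x, hx, hnil, hreg⟩ := exists_unitary_block σ a hσ2 ξ0 hξ0 ha
    obtain ⟨X, hX, hXJ⟩ := ih (fun b hb => hpos b (Multiset.mem_cons_of_mem hb)) μ.sum rfl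
    have hxJ := isJordan_of_regular_matrix x hnil hreg
    refine ⟨Matrix.reindex finSumFinEquiv finSumFinEquiv (fromBlocks x 0 0 X),
      unitary_reindex σ _ (unitary_fromBlocks σ hx hX), ?_⟩
    have h1 : Matrix.reindex finSumFinEquiv finSumFinEquiv (fromBlocks x 0 0 X) - 1
        = Matrix.reindex finSumFinEquiv finSumFinEquiv (fromBlocks (x - 1) 0 0 (X - 1)) := by
      have h0 : fromBlocks x 0 0 X - 1 = fromBlocks (x - 1) 0 0 (X - 1) := by
        ext (i | i) (k | k) <;> simp [Matrix.one_apply]
      rw [← h0]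
      ext i k
      simp only [Matrix.reindex_apply, Matrix.submatrix_apply, Matrix.sub_apply, Matrix.one_apply,
        EmbeddingLike.apply_eq_iff_eq]
    rw [h1, ← Multiset.singleton_add]
    exact isJordan_reindex _ _ (isJordan_fromBlocks _ _ hxJ hXJ)

end Cfsg.Agent.Helper21.UJ
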