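import Mathlib
import Cfsg.Prelude.Def_Characters
import Cfsg.Agent.Helper24.SelfCentD
import Cfsg.Agent.Helper1.W2pDefs

set_option autoImplicit false

/-!
# S0720 piece PERF: the normal closure of a self-centralizing Sylow `p`-subgroup of order `p` in a
primitive group of degree `2p` is transitive and perfect, and `P` is still a self-centralizing Sylow
subgroup of it.
-/

namespace Cfsg.Agent.Helper21.W2p

open Cfsg Cfsg.Agent.Helper24 MulAction

universe u v

/-- A nontrivial normal subgroup of a faithful primitive group is transitive. -/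
theorem isPretransitive_of_normal_ne_bot {G : Type u} [Group G] {Ω : Type v}
    [MulAction G Ω] [FaithfulSMul G Ω] (hprim : IsPreprimitive G Ω) (N : Subgroup G) [N.Normal]
    (hN : N ≠ ⊥) : IsPretransitive N Ω := by
  have := hprim
  apply IsQuasiPreprimitive.isPretransitive_of_normal (G := G) (X := Ω)
  intro hfix
  apply hN
  rw [Subgroup.eq_bot_iff_forall]
  intro n hn
  apply FaithfulSMul.eq_of_smul_eq_smul (α := Ω)
  intro x
  have hx : x ∈ fixedPoints N Ω := by rw [hfix]; trivial
  rw [one_smul]
  exact hx ⟨n, hn⟩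

/-- The order of a transitive subgroup is divisible by the degree. -/
theorem card_dvd_of_isPretransitive {G : Type u} [Group G] {Ω : Type v} [MulAction G Ω]
    (N : Subgroup G) [Nonempty Ω] (hN : IsPretransitive N Ω) : Nat.card Ω ∣ Nat.card N := by
  obtain ⟨x⟩ := ‹Nonempty Ω›
  rw [← index_stabilizer_of_transitive N x]
  exact Subgroup.index_dvd_card _

theorem normalClosure_props {G : Type u} [Group G] [Finite G] {Ω : Type v} [Finite Ω]
    [MulAction G Ω] [FaithfulSMul G Ω] (hprim : IsPreprimitive G Ω) (p : ℕ) [Fact p.Prime]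
    (hp2 : p ≠ 2) (hΩ : Nat.card Ω = 2 * p) (P : Sylow p G) (hP : Nat.card P = p)
    (hC : Subgroup.centralizer ((P : Subgroup G) : Set G) = (P : Subgroup G))
    (G₁ : Subgroup G) (hG₁ : G₁ = Subgroup.normalClosure ((P : Subgroup G) : Set G)) :
    IsPretransitive G₁ Ω ∧
    (∀ χ : IrrCharacter G₁, irrDeg χ = 1 → χ = trivIrr G₁) ∧
    ∃ P₁ : Sylow p G₁, Nat.card P₁ = p ∧
      Subgroup.centralizer ((P₁ : Subgroup G₁) : Set G₁) = (P₁ : Subgroup G₁) ∧
      (P₁ : Subgroup G₁) = (P : Subgroup G).subgroupOf G₁ := by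
  classical
  have hp : p.Prime := Fact.out
  have hppos : 0 < p := hp.pos
  have hΩne : Nonempty Ω := by
    apply (Nat.card_pos_iff.mp _).1
    rw [hΩ]; omega
  have hnormal : G₁.Normal := by rw [hG₁]; infer_instance
  have hPle : (P : Subgroup G) ≤ G₁ := by rw [hG₁]; exact Subgroup.le_normalClosure
  have hPne : (P : Subgroup G) ≠ ⊥ := by
    intro h
    have h1 : Nat.card (P : Subgroup G) = 1 := by rw [h]; exact Subgroup.card_bot
    have h2 : Nat.card (P : Subgroup G) = p := hP
    rw [h2] at h1
    exact hp.one_lt.ne' h1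
  have hG₁ne : G₁ ≠ ⊥ := by
    intro h
    apply hPne
    rw [h] at hPle
    exact le_bot_iff.mp hPle
  have htrans : IsPretransitive G₁ Ω := isPretransitive_of_normal_ne_bot hprim G₁ hG₁ne
  -- the derived subgroup
  set K : Subgroup G := ⁅G₁, G₁⁆ with hK
  have hKnormal : K.Normal := Subgroup.commutator_normal G₁ G₁
  have hKle : K ≤ G₁ := Subgroup.commutator_le_left G₁ G₁
  have hKne : K ≠ ⊥ := by
    intro hbot
    have h1 : G₁ ≤ Subgroup.centralizer (G₁ : Set G) :=
      Subgroup.commutator_eq_bot_iff_le_centralizer.mp hbot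
    have h2 : G₁ ≤ (P : Subgroup G) := by
      rw [← hC]
      exact h1.trans (Subgroup.centralizer_le hPle)
    have h3 : G₁ = (P : Subgroup G) := le_antisymm h2 hPle
    have h4 : Nat.card Ω ∣ Nat.card G₁ := card_dvd_of_isPretransitive G₁ htrans
    have h5 : Nat.card G₁ = p := by rw [h3]; exact hP
    rw [hΩ, h5] at h4
    have := Nat.le_of_dvd hppos h4
    omega
  have hKtrans : IsPretransitive K Ω := isPretransitive_of_normal_ne_bot hprim K hKne
  have hKdvd : p ∣ Nat.card K := by
    have h4 : Nat.card Ω ∣ Nat.card K := card_dvd_of_isPretransitive K hKtrans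
    rw [hΩ] at h4
    exact (Dvd.intro_left 2 rfl).trans h4
  have hPK : (P : Subgroup G) ≤ K := by
    obtain ⟨k, hk⟩ := exists_prime_orderOf_dvd_card' (G := K) p hKdvd
    have hk' : orderOf (k : G) = p := by rw [Subgroup.orderOf_coe]; exact hk
    have hpg : IsPGroup p (Subgroup.zpowers (k : G)) := by
      apply IsPGroup.of_card (n := 1)
      rw [Nat.card_zpowers, hk', pow_one]
    obtain ⟨Q, hQ⟩ := hpg.exists_le_sylow
    obtain ⟨g, hg⟩ := MulAction.exists_smul_eq G Q P
    have hkQ : (k : G) ∈ (Q : Subgroup G) := hQ (Subgroup.mem_zpowers _)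
    have hkP : g * (k : G) * g⁻¹ ∈ (P : Subgroup G) := by
      rw [← hg, Sylow.smul_def, Sylow.pointwise_smul_def]
      have := Subgroup.smul_mem_pointwise_smul (k : G) (MulAut.conj g) (Q : Subgroup G) hkQ
      simpa [MulAut.smul_def] using this
    have hkK : g * (k : G) * g⁻¹ ∈ K := hKnormal.conj_mem _ k.2 g
    have hkne : g * (k : G) * g⁻¹ ≠ 1 := by
      intro h
      have h1 : (k : G) = 1 := by
        have := congrArg (fun z => g⁻¹ * z * g) h
        simpa [mul_assoc] using this
      rw [h1, orderOf_one] at hk'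
      exact hp.one_lt.ne hk'
    intro x hx
    have hmem : (⟨x, hx⟩ : (P : Subgroup G)) ∈ Subgroup.zpowers
        (⟨g * (k : G) * g⁻¹, hkP⟩ : (P : Subgroup G)) :=
      mem_zpowers_of_prime_card (p := p) hP (fun h => hkne (congrArg Subtype.val h))
    obtain ⟨n, hn⟩ := Subgroup.mem_zpowers_iff.mp hmem
    have hn' : (g * (k : G) * g⁻¹) ^ n = x := by
      have := congrArg Subtype.val hn
      simpa using this
    rw [← hn']
    exact K.zpow_mem hkK n
  have hKeq : K = G₁ := by
    apply le_antisymm hKle
    rw [hG₁]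
    exact Subgroup.normalClosure_le_normal hPK
  have hperf : commutator G₁ = ⊤ := by
    apply Subgroup.map_injective (Subgroup.subtype_injective G₁)
    rw [commutator_def, Subgroup.map_commutator]
    rw [← MonoidHom.range_eq_map, Subgroup.range_subtype]
    exact hKeq
  refine ⟨htrans, ?_, ?_⟩
  · intro χ hχ
    by_contra hne
    exact Cfsg.Agent.Helper24.SelfCent.irrDeg_ne_one_of_perfect hperf χ hne hχ
  · refine ⟨P.subtype hPle, ?_, ?_, Sylow.coe_subtype P hPle⟩
    · have : Nat.card ((P.subtype hPle : Sylow p G₁) : Subgroup G₁) = p := by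
        rw [Sylow.coe_subtype, Nat.card_congr (Subgroup.subgroupOfEquivOfLe hPle).toEquiv]
        exact hP
      exact this
    · rw [Sylow.coe_subtype]
      ext x
      rw [Subgroup.mem_centralizer_iff, Subgroup.mem_subgroupOf]
      constructor
      · intro hx
        rw [← hC, Subgroup.mem_centralizer_iff]
        intro y hy
        have := hx ⟨y, hPle hy⟩ (by
          change (⟨y, hPle hy⟩ : G₁) ∈ (P : Subgroup G).subgroupOf G₁
          rw [Subgroup.mem_subgroupOf]; exact hy)
        exact congrArg Subtype.val this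
      · intro hx y hy
        have hy' : (y : G) ∈ (P : Subgroup G) := by
          have : y ∈ (P : Subgroup G).subgroupOf G₁ := hy
          rwa [Subgroup.mem_subgroupOf] at this
        rw [← hC, Subgroup.mem_centralizer_iff] at hx
        apply Subtype.ext
        exact hx (y : G) hy'

end Cfsg.Agent.Helper21.W2p
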