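import Mathlib
import Cfsg.Agent.S0707

set_option autoImplicit false

/-!
# S0720 piece SMALL: a primitive permutation group of degree 4 is 2-transitive.
-/

namespace Cfsg.Agent.Helper21.W2p

open MulAction

theorem two_trans_of_card_four {α : Type*} [Fintype α] [DecidableEq α]
    (hα : Fintype.card α = 4) (G : Subgroup (Equiv.Perm α)) (hG : IsPreprimitive G α) :
    IsMultiplyPretransitive G α 2 := by
  classical
  have := hG
  have hnp : ¬ (Nat.card α).Prime := by
    rw [Nat.card_eq_fintype_card, hα]; norm_num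
  have hstab : ∀ {a b : α}, a ≠ b → stabilizer G a ≠ stabilizer G b := fun hab =>
    Cfsg.Agent.S0707.result G (Or.inl hnp) hab
  -- a point stabilizer moves every other point
  have hmove : ∀ a b : α, a ≠ b → ∃ h ∈ stabilizer G a, h • b ≠ b := by
    intro a b hab
    by_contra hcon
    push Not at hcon
    have hle : stabilizer G a ≤ stabilizer G b := fun h hh => by
      rw [mem_stabilizer_iff]; exact hcon h hh
    have : Nontrivial α := ⟨⟨a, b, hab⟩⟩
    have hco : IsCoatom (stabilizer G a) :=
      IsPreprimitive.isCoatom_stabilizer_of_isPreprimitive (G := G) a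
    rcases eq_or_lt_of_le hle with h1 | h1
    · exact hstab hab h1
    · have htop : stabilizer G b = ⊤ := hco.2 _ h1
      obtain ⟨g, hg⟩ := exists_smul_eq G b a
      have : g ∈ stabilizer G b := by rw [htop]; trivial
      rw [mem_stabilizer_iff] at this
      exact hab (hg.symm.trans this)
  -- the stabilizer of `a` is transitive on the other three points
  have htrans : ∀ a b c : α, b ≠ a → c ≠ a → ∃ h ∈ stabilizer G a, h • b = c := by
    intro a b c hb hc
    set Ob : Set α := orbit (stabilizer G a) b with hOb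
    set Oc : Set α := orbit (stabilizer G a) c with hOc
    have hsub : ∀ x : α, x ≠ a → orbit (stabilizer G a) x ⊆ ({a}ᶜ : Set α) := by
      rintro x hx _ ⟨h, rfl⟩ hmem
      have h1 : (h : G) • x = a := hmem
      have h2 : (h : G) • a = a := h.2
      exact hx (smul_left_cancel (h : G) (h1.trans h2.symm))
    have hbig : ∀ x : α, x ≠ a → 1 < (orbit (stabilizer G a) x).ncard := by
      intro x hx
      obtain ⟨h, hh, hne⟩ := hmove a x (Ne.symm hx)
      rw [Set.one_lt_ncard_iff]
      exact ⟨x, h • x, mem_orbit_self x, ⟨⟨h, hh⟩, rfl⟩, Ne.symm hne⟩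
    have hcard : ({a}ᶜ : Set α).ncard = 3 := by
      rw [Set.ncard_compl, Set.ncard_singleton, Nat.card_eq_fintype_card, hα]
    by_cases hdisj : Disjoint Ob Oc
    · exfalso
      have h1 : (Ob ∪ Oc).ncard = Ob.ncard + Oc.ncard := Set.ncard_union_eq hdisj
      have h2 : (Ob ∪ Oc).ncard ≤ ({a}ᶜ : Set α).ncard :=
        Set.ncard_le_ncard (Set.union_subset (hsub b hb) (hsub c hc))
      have h3 : 1 < Ob.ncard := hbig b hb
      have h4 : 1 < Oc.ncard := hbig c hc
      omega
    · rw [Set.not_disjoint_iff] at hdisj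
      obtain ⟨x, ⟨h1, hx1⟩, ⟨h2, hx2⟩⟩ := hdisj
      refine ⟨(h2⁻¹ * h1 : stabilizer G a), (h2⁻¹ * h1 : stabilizer G a).2, ?_⟩
      have e1 : (h1 : G) • b = x := hx1
      have e2 : (h2 : G) • c = x := hx2
      change ((h2⁻¹ * h1 : stabilizer G a) : G) • b = c
      rw [Subgroup.coe_mul, mul_smul, e1, ← e2, Subgroup.coe_inv, inv_smul_smul]
  rw [is_two_pretransitive_iff]
  intro a b c d hab hcd
  obtain ⟨g, hg⟩ := exists_smul_eq G a c
  have hne : g⁻¹ • d ≠ a := by
    intro h
    apply hcd
    rw [← hg, ← h, smul_inv_smul]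
  obtain ⟨h, hh, hhb⟩ := htrans a b (g⁻¹ • d) (Ne.symm hab) hne
  refine ⟨g * h, ?_, ?_⟩
  · rw [mul_smul, mem_stabilizer_iff.mp hh, hg]
  · rw [mul_smul, hhb, smul_inv_smul]

end Cfsg.Agent.Helper21.W2p
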